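import Groth.Agent.Lib.AlgSp.Rep

/-!
# Descent of representable properties along locally surjective maps
-/

universe u

open CategoryTheory CategoryTheory.Limits AlgebraicGeometry Opposite

namespace GrothLib.AlgSp

open _root_.AlgSp

variable {S : Scheme.{u}}

instance hasIsos_fppf : Scheme.fppfPrecoverage.{u}.HasIsos :=
  have : (@Flat ⊓ @LocallyOfFinitePresentation : MorphismProperty Scheme.{u}).ContainsIdentities :=
    ⟨fun X => ⟨inferInstanceAs (Flat (𝟙 X)), inferInstanceAs (LocallyOfFinitePresentation (𝟙 X))⟩⟩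
  inferInstanceAs (Scheme.precoverage (@Flat ⊓ @LocallyOfFinitePresentation)).HasIsos

theorem ofArrows_mem {U : Over S} {ι : Type u} (V : ι → Over S) (c : ∀ i, V i ⟶ U)
    (hf : ∀ i, Flat (c i).left) (hp : ∀ i, LocallyOfFinitePresentation (c i).left)
    (hs : ∀ x : ↥U.left, ∃ i y, (c i).left y = x) : Sieve.ofArrows V c ∈ J S U := by
  change Sieve.overEquiv U (Sieve.ofArrows V c) ∈ Scheme.fppfTopology U.left
  refine Precoverage.mem_toGrothendieck_iff_of_isStableUnderComposition.2
    ⟨Presieve.ofArrows (fun i => (V i).left) (fun i => (c i).left), ?_, ?_⟩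
  · exact (Scheme.Cover.mkOfCovers (P := @Flat ⊓ @LocallyOfFinitePresentation) ι (fun i => (V i).left)
      (fun i => (c i).left) hs (fun i => ⟨hf i, hp i⟩)).mem₀
  · rintro Y g ⟨i⟩
    refine (Sieve.overEquiv_iff _ _).2 ⟨V i, Over.homMk (𝟙 _) (by simp), c i, ⟨i⟩, ?_⟩
    exact Over.OverMorphism.ext (Category.id_comp _)

theorem sigma_mem {ι : Type u} (V : ι → Over S) {W : Over S} (e : (∐ fun i => (V i).left) ≅ W.left)
    (inj : ∀ i, V i ⟶ W) (he : ∀ i, (inj i).left = Sigma.ι (fun i => (V i).left) i ≫ e.hom) :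
    Sieve.ofArrows V inj ∈ J S W := by
  refine ofArrows_mem V inj (fun i => ?_) (fun i => ?_) fun x => ?_
  · rw [he]; infer_instance
  · rw [he]; infer_instance
  · obtain ⟨i, y, hy⟩ := (sigmaOpenCover (fun i => (V i).left)).exists_eq (e.inv x)
    refine ⟨i, y, ?_⟩
    rw [he, Scheme.Hom.comp_apply]
    erw [hy]
    rw [← Scheme.Hom.comp_apply, e.inv_hom_id]; rfl

/-- The coproduct over `S` of schemes over `S`. -/
noncomputable abbrev sigmaOver {ι : Type u} (V : ι → Over S) : Over S :=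
  Over.mk (Sigma.desc fun i => (V i).hom)

noncomputable abbrev sigmaι {ι : Type u} (V : ι → Over S) (i : ι) : V i ⟶ sigmaOver V :=
  Over.homMk (Sigma.ι (fun i => (V i).left) i) (Sigma.ι_desc _ _)

theorem bot_mem_of_isEmpty (W : Over S) [IsEmpty ↥W.left] : (⊥ : Sieve W) ∈ J S W := by
  refine GrothendieckTopology.superset_covering _ ?_
    (ofArrows_mem (ι := PEmpty.{u + 1}) (fun i => i.elim) (fun i => i.elim) (fun i => i.elim)
      (fun i => i.elim) (fun x => isEmptyElim x))
  rintro Y g ⟨_, _, _, ⟨i⟩, -⟩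
  exact i.elim

theorem eq_of_isEmpty {F : Sp S} {W : Over S} [IsEmpty ↥W.left] (x y : F.obj.obj (op W)) : x = y :=
  (((isSheaf_iff_isSheaf_of_type _ _).1 F.property _ (bot_mem_of_isEmpty W)).isSeparatedFor).ext
    fun _ _ h => h.elim

/-- Maps out of a disjoint union of schemes into a sheaf. -/
theorem exists_hom_of_sigma {F : Sp S} {ι : Type u} (V : ι → Over S) (l : ∀ i, (yon S).obj (V i) ⟶ F) :
    ∃! l' : (yon S).obj (sigmaOver V) ⟶ F, ∀ i, (yon S).map (sigmaι V i) ≫ l' = l i := by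
  have hsh := (isSheaf_iff_isSheaf_of_type _ _).1 F.property _
    (sigma_mem V (W := sigmaOver V) (Iso.refl _) (sigmaι V) (fun i => (Category.comp_id _).symm))
  rw [Sieve.ofArrows, ← Presieve.isSheafFor_iff_generate, Presieve.isSheafFor_arrows_iff] at hsh
  obtain ⟨t, ht, hu⟩ := hsh (fun i => (J S).uliftYonedaEquiv.{u + 1} (l i)) (by
    intro i j Z gi gj hg
    rcases eq_or_ne i j with rfl | hij
    · have : gi.left = gj.left := (cancel_mono (Sigma.ι (fun i => (V i).left) i)).1
        (congrArg (fun x : Z ⟶ sigmaOver V => x.left) hg)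
      rw [Over.OverMorphism.ext this]
    · have : IsEmpty ↥Z.left :=
        isEmpty_of_commSq_sigmaι_of_ne (CommSq.mk (congrArg (fun x : Z ⟶ sigmaOver V => x.left) hg)) hij
      exact eq_of_isEmpty _ _)
  refine ⟨(J S).uliftYonedaEquiv.{u + 1}.symm t, fun i => ?_, fun l' hl' => ?_⟩
  · apply (J S).uliftYonedaEquiv.{u + 1}.injective
    rw [← GrothendieckTopology.uliftYonedaEquiv_naturality, Equiv.apply_symm_apply]
    exact ht i
  · apply (J S).uliftYonedaEquiv.{u + 1}.injective
    rw [Equiv.apply_symm_apply]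
    refine hu _ fun i => ?_
    rw [GrothendieckTopology.uliftYonedaEquiv_naturality, hl' i]

/-- Along a surjective map of sheaves, a map from a scheme lifts after an fppf cover. -/
theorem exists_fppf_lift {G H : Sp S} (b : H ⟶ G) [Sheaf.IsLocallySurjective b] {U : Over S}
    (g : (yon S).obj U ⟶ G) :
    ∃ (V : Over S) (c : V ⟶ U) (l : (yon S).obj V ⟶ H), Flat c.left ∧
      LocallyOfFinitePresentation c.left ∧ Surjective c.left ∧ l ≫ b = (yon S).map c ≫ g := by
  have hS := Presheaf.imageSieve_mem (J S) b.hom (U := op U) ((J S).uliftYonedaEquiv.{u + 1} g)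
  obtain ⟨R, hR, hle⟩ := Precoverage.mem_toGrothendieck_iff_of_isStableUnderComposition.1
    (show Sieve.overEquiv U _ ∈ Scheme.fppfTopology U.left from hS)
  have hR' : (∀ x : ↥U.left, ∃ (Y : Scheme.{u}) (f : Y ⟶ U.left) (y : ↥Y), R f ∧ f y = x) ∧
      ∀ ⦃Y : Scheme.{u}⦄ (f : Y ⟶ U.left), R f → Flat f ∧ LocallyOfFinitePresentation f := by
    refine ⟨fun x => ?_, fun Y f hf => hR.2 hf⟩
    obtain ⟨Y, f, hf, y, hy⟩ := Scheme.JointlySurjective.exists_eq
      (K := Scheme.precoverage (@Flat ⊓ @LocallyOfFinitePresentation)) R hR x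
    exact ⟨Y, f, y, hf, hy⟩
  choose Y f y hRf hy using hR'.1
  let V : ↥U.left → Over S := fun x => Over.mk (f x ≫ U.hom)
  let c : ∀ x, V x ⟶ U := fun x => Over.homMk (f x) rfl
  have hl : ∀ x, ∃ l : (yon S).obj (V x) ⟶ H, l ≫ b = (yon S).map (c x) ≫ g := by
    intro x
    obtain ⟨t, ht⟩ := (Sieve.overEquiv_iff _ (f x)).1 (hle _ _ (hRf x))
    refine ⟨(J S).uliftYonedaEquiv.{u + 1}.symm t, ?_⟩
    apply (J S).uliftYonedaEquiv.{u + 1}.injective
    rw [GrothendieckTopology.uliftYonedaEquiv_comp, Equiv.apply_symm_apply,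
      ← GrothendieckTopology.uliftYonedaEquiv_naturality]
    exact ht
  choose l hl using hl
  obtain ⟨l', hl', -⟩ := exists_hom_of_sigma V l
  let C : sigmaOver V ⟶ U := Over.homMk (Sigma.desc f) (by
    refine Sigma.hom_ext _ _ fun x => ?_
    simp [V])
  have hC : ∀ x, Sigma.ι (fun x => (V x).left) x ≫ C.left = f x := fun x => Sigma.ι_desc _ _
  refine ⟨sigmaOver V, C, l', ?_, ?_, ⟨fun x => ?_⟩, ?_⟩
  · rw [IsZariskiLocalAtSource.iff_of_openCover (P := @Flat) (sigmaOpenCover _)]
    exact fun i => (hC i).symm ▸ (hR'.2 _ (hRf i)).1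
  · rw [IsZariskiLocalAtSource.iff_of_openCover (P := @LocallyOfFinitePresentation) (sigmaOpenCover _)]
    exact fun i => (hC i).symm ▸ (hR'.2 _ (hRf i)).2
  · refine ⟨Sigma.ι (fun x => (V x).left) x (y x), ?_⟩
    rw [← Scheme.Hom.comp_apply, hC]
    exact hy x
  · refine (exists_hom_of_sigma V fun x => (yon S).map (c x) ≫ g).unique (fun x => ?_) (fun x => ?_)
    · rw [reassoc_of% (hl' x)]; exact hl x
    · rw [← Functor.map_comp_assoc]
      congr 2
      exact Over.OverMorphism.ext (hC x)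

/-- `P` can be checked after a surjective, flat, locally finitely presented base change. -/
def FppfDescends (P : MorphismProperty Scheme.{u}) : Prop :=
  ∀ ⦃X Y V X' : Scheme.{u}⦄ (f : X ⟶ Y) (c : V ⟶ Y) (c' : X' ⟶ X) (f' : X' ⟶ V),
    IsPullback c' f' f c → Flat c → LocallyOfFinitePresentation c → Surjective c → P f' → P f

theorem fppfDescends_of_descendsAlong (P : MorphismProperty Scheme.{u})
    [P.DescendsAlong (@Surjective ⊓ @Flat ⊓ @LocallyOfFinitePresentation)] : FppfDescends P :=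
  fun _ _ _ _ _ _ _ _ sq hf hp hs h =>
    MorphismProperty.of_isPullback_of_descendsAlong
      (Q := @Surjective ⊓ @Flat ⊓ @LocallyOfFinitePresentation) sq.flip ⟨⟨hs, hf⟩, hp⟩ h

theorem fppfDescends_of_isLocalAtTarget (P : MorphismProperty Scheme.{u})
    [P.IsLocalAtTarget Scheme.fppfPrecoverage] : FppfDescends P := by
  intro X Y V X' f c c' f' sq hf hp hs h
  refine MorphismProperty.IsLocalAtTarget.of_forall_pullbackSnd
    (Scheme.Hom.singleton_mem_fppfPrecoverage c) ?_
  rintro U g _ ⟨⟩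
  rw [← P.cancel_left_of_respectsIso sq.isoPullback.hom]
  simpa using h

theorem FppfDescends.inf {P Q : MorphismProperty Scheme.{u}} (hP : FppfDescends P) (hQ : FppfDescends Q) :
    FppfDescends (P ⊓ Q) :=
  fun _ _ _ _ _ _ _ _ sq hf hp hs h => ⟨hP _ _ _ _ sq hf hp hs h.1, hQ _ _ _ _ sq hf hp hs h.2⟩

/-- A representable map has `P` as soon as it has after a surjective base change of sheaves. -/
theorem repWith_of_base {F G H Q : Sp S} {a : F ⟶ G} (ha : Representable a) (b : H ⟶ G)
    [Sheaf.IsLocallySurjective b] {b' : Q ⟶ F} {a' : Q ⟶ H} (sq : IsPullback b' a' a b)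
    {P : MorphismProperty Scheme.{u}} (hP : FppfDescends P) (h : RepWith P a') : RepWith P a := by
  refine ⟨ha, fun U W g fst snd sqg => ?_⟩
  obtain ⟨V, c, l, hf, hp, hs, hl⟩ := exists_fppf_lift b g
  have sqc := isPullback_stack sqg (IsPullback.of_hasPullback snd c)
  let m := sq.lift ((yon S).map (pullback.fst snd c) ≫ fst) ((yon S).map (pullback.snd snd c) ≫ l)
    (by rw [sqc.w, Category.assoc, hl])
  have sq' : IsPullback m ((yon S).map (pullback.snd snd c)) a' l :=
    IsPullback.of_right (by simpa only [m, IsPullback.lift_fst, hl] using sqc)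
      (by simp only [m, IsPullback.lift_snd]) sq
  exact hP _ _ _ _ (isPullback_left (IsPullback.of_hasPullback snd c)) hf hp hs (h.2 l _ _ sq')

theorem isLocallySurjective_of_repWith {F G : Sp S} {a : F ⟶ G} (h₁ : RepWith @Flat a)
    (h₂ : RepWith @LocallyOfFinitePresentation a) (h₃ : RepWith @Surjective a) :
    Sheaf.IsLocallySurjective a where
  imageSieve_mem {U} x := by
    obtain ⟨V, fst, snd, sq⟩ := exists_isPullback_of_representable h₁.1 ((J S).uliftYonedaEquiv.{u + 1}.symm x)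
    refine GrothendieckTopology.superset_covering _ ?_
      (ofArrows_mem (ι := PUnit.{u + 1}) (fun _ => V) (fun _ => snd) (fun _ => h₁.2 _ _ _ sq)
        (fun _ => h₂.2 _ _ _ sq) (fun t => ⟨⟨⟩, (h₃.2 _ _ _ sq).surj t⟩))
    rintro Z g ⟨_, k, _, ⟨⟨⟩⟩, rfl⟩
    refine ⟨(J S).uliftYonedaEquiv.{u + 1} ((yon S).map k ≫ fst), ?_⟩
    erw [← GrothendieckTopology.uliftYonedaEquiv_comp]
    rw [Category.assoc, sq.w, ← Functor.map_comp_assoc,
      ← GrothendieckTopology.uliftYonedaEquiv_naturality, Equiv.apply_symm_apply]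

end GrothLib.AlgSp
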