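import Mathlib.AlgebraicGeometry.ZariskisMainTheorem
import Mathlib.AlgebraicGeometry.Morphisms.LocalFlatDescent
import Mathlib.AlgebraicGeometry.Morphisms.Proper
import Mathlib.AlgebraicGeometry.Morphisms.QuasiSeparated
import Groth.Agent.Lib.AlgSp.Descent

/-!
# Properties of morphisms descending along fppf covers of the target
-/

universe u

open CategoryTheory CategoryTheory.Limits AlgebraicGeometry MorphismProperty TensorProduct

namespace GrothLib.AlgSp

theorem fppfDescends_lft : FppfDescends.{u} @LocallyOfFiniteType := fppfDescends_of_descendsAlong _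
theorem fppfDescends_lfp : FppfDescends.{u} @LocallyOfFinitePresentation := fppfDescends_of_descendsAlong _
theorem fppfDescends_smooth : FppfDescends.{u} @Smooth := fppfDescends_of_descendsAlong _
theorem fppfDescends_etale : FppfDescends.{u} @Etale := fppfDescends_of_descendsAlong _
theorem fppfDescends_formallyUnramified : FppfDescends.{u} @FormallyUnramified :=
  fppfDescends_of_descendsAlong _
theorem fppfDescends_surjective : FppfDescends.{u} @Surjective := fppfDescends_of_descendsAlong _
theorem fppfDescends_universallyClosed : FppfDescends.{u} @UniversallyClosed :=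
  fppfDescends_of_descendsAlong _
theorem fppfDescends_universallyOpen : FppfDescends.{u} @UniversallyOpen :=
  fppfDescends_of_descendsAlong _
theorem fppfDescends_universallyInjective : FppfDescends.{u} @UniversallyInjective :=
  fppfDescends_of_descendsAlong _
theorem fppfDescends_isomorphisms : FppfDescends (isomorphisms Scheme.{u}) :=
  fppfDescends_of_descendsAlong _
theorem fppfDescends_isOpenImmersion : FppfDescends.{u} @IsOpenImmersion :=
  fppfDescends_of_descendsAlong _

theorem codescendsAlong_flat : RingHom.CodescendsAlong RingHom.Flat RingHom.FaithfullyFlat := by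
  refine .mk _ RingHom.Flat.respectsIso fun R S T _ _ _ _ _ h h' ↦ ?_
  rw [RingHom.flat_algebraMap_iff] at h' ⊢
  rw [RingHom.faithfullyFlat_algebraMap_iff] at h
  exact Module.Flat.of_flat_tensorProduct R T S

theorem codescendsAlong_quasiFinite : RingHom.CodescendsAlong RingHom.QuasiFinite RingHom.FaithfullyFlat := by
  refine .mk _ RingHom.QuasiFinite.respectsIso fun R S T _ _ _ _ _ h h' ↦ ?_
  rw [RingHom.quasiFinite_algebraMap] at h' ⊢
  rw [RingHom.faithfullyFlat_algebraMap_iff] at h
  constructor
  intro P hP
  obtain ⟨⟨Q, hQ⟩, hq⟩ := PrimeSpectrum.comap_surjective_of_faithfullyFlat (A := R) (B := S) ⟨P, hP⟩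
  have hQP : P = Q.under R := (congrArg PrimeSpectrum.asIdeal hq).symm
  have : Q.LiesOver P := ⟨hQP⟩
  algebraize [Ideal.ResidueField.map P Q (algebraMap R S) hQP]
  have : IsScalarTower R P.ResidueField Q.ResidueField := .of_algebraMap_eq fun r => by
    change _ = Ideal.ResidueField.map P Q (algebraMap R S) hQP (algebraMap R P.ResidueField r)
    rw [Ideal.ResidueField.map_algebraMap, ← IsScalarTower.algebraMap_apply]
  have e₁ : Q.Fiber (S ⊗[R] T) ≃ₐ[Q.ResidueField] Q.ResidueField ⊗[R] T :=
    Algebra.TensorProduct.cancelBaseChange R S Q.ResidueField Q.ResidueField T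
  have : Module.Finite Q.ResidueField (Q.ResidueField ⊗[P.ResidueField] (P.Fiber T)) :=
    Module.Finite.equiv (e₁.toLinearEquiv ≪≫ₗ
      (Algebra.TensorProduct.cancelBaseChange R P.ResidueField Q.ResidueField Q.ResidueField T).symm.toLinearEquiv)
  exact Module.Finite.of_finite_tensorProduct_of_faithfullyFlat Q.ResidueField

theorem fppfDescends_flat : FppfDescends.{u} @Flat :=
  have := HasRingHomProperty.descendsAlong_flat (P := @Flat) codescendsAlong_flat
  fppfDescends_of_descendsAlong _

theorem fppfDescends_locallyQuasiFinite : FppfDescends.{u} @LocallyQuasiFinite :=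
  have := HasRingHomProperty.descendsAlong_flat (P := @LocallyQuasiFinite) codescendsAlong_quasiFinite
  fppfDescends_of_descendsAlong _

theorem descendsAlong_quasiCompact :
    DescendsAlong.{_} (@QuasiCompact : MorphismProperty Scheme.{u})
      (@Surjective ⊓ @Flat ⊓ @LocallyOfFinitePresentation) := by
  refine ⟨fun {A X Y Z fst snd f g} sq hf h => ⟨fun U hU hc => ?_⟩⟩
  obtain ⟨⟨hs, hfl⟩, hp⟩ := hf
  obtain ⟨W, hWc, hW⟩ := f.isOpenMap.exists_opens_image_eq_of_prespectralSpace f.continuous
    (by simp [hs.surj.range_eq]) hU hc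
  have hfc : IsCompact (fst ⁻¹' (W : Set X)) := (h : QuasiCompact fst).isCompact_preimage _ W.2 hWc
  convert hfc.image snd.continuous using 1
  ext y
  constructor
  · intro hy
    obtain ⟨x, hxW, hx⟩ := hW.ge hy
    obtain ⟨a, ha, ha'⟩ := Scheme.Pullback.exists_preimage_pullback (f := f) (g := g) x y hx
    refine ⟨sq.isoPullback.inv a, ?_, ?_⟩
    · rw [Set.mem_preimage, ← Scheme.Hom.comp_apply, IsPullback.isoPullback_inv_fst, ha]
      exact hxW
    · rw [← Scheme.Hom.comp_apply, IsPullback.isoPullback_inv_snd, ha']
  · rintro ⟨a, ha, rfl⟩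
    change g (snd a) ∈ U
    rw [← hW, ← Scheme.Hom.comp_apply, ← sq.w, Scheme.Hom.comp_apply]
    exact ⟨fst a, ha, rfl⟩

theorem fppfDescends_quasiCompact : FppfDescends.{u} @QuasiCompact :=
  have := descendsAlong_quasiCompact.{u}
  fppfDescends_of_descendsAlong _

theorem fppfDescends_diagonal {P : MorphismProperty Scheme.{u}} [P.RespectsIso] (hP : FppfDescends P) :
    FppfDescends P.diagonal := by
  have : P.DescendsAlong (@Surjective ⊓ @Flat ⊓ @LocallyOfFinitePresentation) :=
    ⟨fun {A X Y Z fst snd f g} sq hf h => hP g f snd fst sq.flip hf.1.2 hf.2 hf.1.1 h⟩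
  exact fppfDescends_of_descendsAlong _

theorem fppfDescends_quasiSeparated : FppfDescends.{u} @QuasiSeparated :=
  quasiSeparated_eq_diagonal_is_quasiCompact ▸ fppfDescends_diagonal fppfDescends_quasiCompact

theorem fppfDescends_monomorphisms : FppfDescends (monomorphisms Scheme.{u}) :=
  MorphismProperty.diagonal_isomorphisms (C := Scheme.{u}) ▸ fppfDescends_diagonal fppfDescends_isomorphisms

theorem fppfDescends_isClosedImmersion : FppfDescends.{u} @IsClosedImmersion := by
  intro X Y V X' f c c' f' sq hc₁ hc₂ hc₃ h
  have : IsClosedImmersion f' := h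
  have : Mono f := fppfDescends_monomorphisms f c c' f' sq hc₁ hc₂ hc₃ (inferInstanceAs (Mono f'))
  have : UniversallyClosed f := fppfDescends_universallyClosed f c c' f' sq hc₁ hc₂ hc₃ inferInstance
  have : LocallyOfFiniteType f := fppfDescends_lft f c c' f' sq hc₁ hc₂ hc₃ inferInstance
  have : IsProper f := { }
  exact (IsClosedImmersion.iff_isProper_and_mono f).2 ⟨inferInstance, inferInstance⟩

theorem fppfDescends_isSeparated : FppfDescends.{u} @IsSeparated :=
  IsSeparated.isSeparated_eq_diagonal_isClosedImmersion ▸ fppfDescends_diagonal fppfDescends_isClosedImmersion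

theorem fppfDescends_isProper : FppfDescends.{u} @IsProper := by
  intro X Y V X' f c c' f' sq hc₁ hc₂ hc₃ h
  have : IsProper f' := h
  have : IsSeparated f := fppfDescends_isSeparated f c c' f' sq hc₁ hc₂ hc₃ inferInstance
  have : UniversallyClosed f := fppfDescends_universallyClosed f c c' f' sq hc₁ hc₂ hc₃ inferInstance
  have : LocallyOfFiniteType f := fppfDescends_lft f c c' f' sq hc₁ hc₂ hc₃ inferInstance
  exact { }

end GrothLib.AlgSp
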