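import Mathlib.RingTheory.Unramified.LocalStructure
import Mathlib.RingTheory.Etale.Kaehler
import Groth.Agent.Lib.AlgSp.EtaleDescentRing

/-!
# Unramified, smooth, quasi-finite descend along faithfully flat etale maps (at the source)
-/

universe u

open TensorProduct

namespace GrothLib.AlgSp.EtaleDescent

variable {A B C : Type u} [CommRing A] [CommRing B] [CommRing C] [Algebra A B] [Algebra B C]
  [Algebra A C] [IsScalarTower A B C]

theorem formallyUnramified [Algebra.FormallyEtale B C] [Module.FaithfullyFlat B C]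
    [Algebra.FormallyUnramified A C] : Algebra.FormallyUnramified A B := by
  constructor
  have : Subsingleton (C ⊗[B] Ω[B⁄A]) :=
    (KaehlerDifferential.tensorKaehlerEquivOfFormallyEtale A B C).subsingleton
  exact Module.FaithfullyFlat.lTensor_reflects_triviality B C _

theorem quasiFinite [Module.FaithfullyFlat B C] [Algebra.QuasiFinite A C] :
    Algebra.QuasiFinite A B := by
  constructor
  intro P _
  let f : B →ₐ[A] C := IsScalarTower.toAlgHom A B C
  let F : P.ResidueField ⊗[A] B →ₐ[P.ResidueField] P.ResidueField ⊗[A] C :=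
    Algebra.TensorProduct.map (AlgHom.id P.ResidueField P.ResidueField) f
  refine Module.Finite.of_injective F.toLinearMap ?_
  let e := TensorProduct.AlgebraTensorModule.cancelBaseChange A B C C P.ResidueField
  have key : ∀ x : B ⊗[A] P.ResidueField,
      e ((1 : C) ⊗ₜ[B] x) = f.toLinearMap.rTensor P.ResidueField x := by
    intro x
    induction x with
    | zero => simp
    | add x y hx hy => simp only [tmul_add, map_add, hx, hy]
    | tmul b k =>
      simp [e, f, Algebra.smul_def]
  have h2 : Function.Injective (f.toLinearMap.rTensor P.ResidueField) := by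
    intro x y hxy
    rw [← key, ← key] at hxy
    exact Module.FaithfullyFlat.tensorProduct_mk_injective (A := B) (B := C) _ (e.injective hxy)
  intro x y hxy
  have h3 : ∀ z, F z = TensorProduct.comm A C P.ResidueField
      (f.toLinearMap.rTensor P.ResidueField (TensorProduct.comm A P.ResidueField B z)) := by
    intro z
    induction z with
    | zero => simp
    | add a b ha hb => simp only [map_add, ha, hb]
    | tmul k b => simp [F]
  change F x = F y at hxy
  rw [h3, h3] at hxy
  exact (TensorProduct.comm A P.ResidueField B).injective (h2 ((TensorProduct.comm A C P.ResidueField).injective hxy))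

theorem bijective_mapKer {R S T : Type u} [CommRing R] [CommRing S] [CommRing T] [Algebra R S]
    [Algebra R T] [Algebra S T] [IsScalarTower R S T] {P : Algebra.Extension.{u} R S}
    {Q : Algebra.Extension.{u} R T} (f : P.Hom Q) [alg : Algebra P.Ring Q.Ring]
    (halg : algebraMap P.Ring Q.Ring = f.toRingHom) [Module.Flat P.Ring Q.Ring]
    (hker : Q.ker ≤ P.ker.map (algebraMap P.Ring Q.Ring)) :
    Function.Bijective ((f.mapKer halg).liftBaseChange Q.Ring) := by
  let g : Q.Ring ⊗[P.Ring] P.ker →ₗ[P.Ring] Q.Ring :=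
    (TensorProduct.rid P.Ring Q.Ring).toLinearMap ∘ₗ (P.ker.subtype).lTensor Q.Ring
  have key : ∀ y, g y = (((f.mapKer halg).liftBaseChange Q.Ring y : Q.ker) : Q.Ring) := by
    intro y
    induction y with
    | zero => simp
    | add a b ha hb => simp only [map_add, ha, hb, Submodule.coe_add]
    | tmul q i =>
      simp [g, Algebra.Extension.Hom.mapKer, ← halg, Algebra.smul_def, mul_comm]
  constructor
  · intro x y hxy
    apply ((TensorProduct.rid P.Ring Q.Ring).injective.comp
      (Module.Flat.lTensor_preserves_injective_linearMap _ P.ker.injective_subtype) : Function.Injective g)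
    change g x = g y
    rw [key, key, hxy]
  · rintro ⟨y, hy⟩
    obtain ⟨x, hx⟩ : y ∈ LinearMap.range g := by
      refine Submodule.span_induction ?_ ?_ ?_ ?_ (hker hy)
      · rintro z ⟨p, hp, rfl⟩
        exact ⟨1 ⊗ₜ ⟨p, hp⟩, by simp [g, Algebra.smul_def]⟩
      · exact zero_mem _
      · exact fun a b _ _ ha hb => add_mem ha hb
      · rintro c a - ⟨w, rfl⟩
        refine ⟨c • w, ?_⟩
        rw [key, key, map_smul]
        rfl
    exact ⟨x, Subtype.ext ((key x).symm.trans hx)⟩

open Polynomial in
/-- A standard etale algebra over a quotient of `P` is the reduction of one over `P`. -/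
theorem exists_standardEtale_lift {P : Type u} [CommRing P] [Algebra P B]
    (hP : Function.Surjective (algebraMap P B)) (D : Type u) [CommRing D] [Algebra B D] [Algebra P D]
    [IsScalarTower P B D] [Algebra.IsStandardEtale B D] :
    ∃ (Q : StandardEtalePair P) (ψ : Q.Ring →ₐ[P] D), Function.Surjective ψ ∧
      RingHom.ker ψ.toRingHom ≤ (RingHom.ker (algebraMap P B)).map (algebraMap P Q.Ring) := by
  obtain ⟨𝓟⟩ := Algebra.IsStandardEtale.nonempty_standardEtalePresentation (R := B) (S := D)
  obtain ⟨f, hf, -, hfm⟩ := Polynomial.lifts_and_natDegree_eq_and_monic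
    ((Polynomial.lifts_iff_coeff_lifts _).2 fun n => hP _ : 𝓟.P.f ∈ Polynomial.lifts (algebraMap P B))
    𝓟.P.monic_f
  obtain ⟨g, hg⟩ := Polynomial.map_surjective (algebraMap P B) hP 𝓟.P.g
  let Q : StandardEtalePair P := ⟨f, hfm, derivative f * g, g, 0, 1, by ring⟩
  have hQx : Q.HasMap 𝓟.x := by
    refine ⟨?_, ?_⟩
    · rw [← Polynomial.aeval_map_algebraMap B, hf]; exact 𝓟.hasMap.1
    · change IsUnit (aeval 𝓟.x (derivative f * g))
      rw [← Polynomial.aeval_map_algebraMap B, Polynomial.map_mul, ← Polynomial.derivative_map, hf, hg,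
        map_mul]
      exact 𝓟.hasMap.isUnit_derivative_f.mul 𝓟.hasMap.2
  let ψ := Q.lift 𝓟.x hQx
  let I := (RingHom.ker (algebraMap P B)).map (algebraMap P Q.Ring)
  let β : B →+* Q.Ring ⧸ I := RingHom.liftOfSurjective (algebraMap P B) hP
    ⟨(Ideal.Quotient.mk I).comp (algebraMap P Q.Ring), fun x hx =>
      Ideal.Quotient.eq_zero_iff_mem.2 (Ideal.mem_map_of_mem _ hx)⟩
  let _ : Algebra B (Q.Ring ⧸ I) := β.toAlgebra
  have hβ : ∀ p, algebraMap B (Q.Ring ⧸ I) (algebraMap P B p) = Ideal.Quotient.mk I (algebraMap P Q.Ring p) :=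
    fun p => RingHom.liftOfRightInverse_comp_apply _ _ _ _ _
  have : IsScalarTower P B (Q.Ring ⧸ I) := .of_algebraMap_eq fun p => (hβ p).symm
  let m : Q.Ring →ₐ[P] Q.Ring ⧸ I := Ideal.Quotient.mkₐ P I
  have hmQ : Q.HasMap (m Q.X) := Q.hasMap_X.map m
  have hmap : 𝓟.P.HasMap (m Q.X) := by
    refine ⟨?_, ?_⟩
    · rw [← hf, Polynomial.aeval_map_algebraMap]; exact hmQ.1
    · rw [← hg, Polynomial.aeval_map_algebraMap]
      have := hmQ.2
      change IsUnit (aeval (m Q.X) (derivative f * g)) at this
      rw [map_mul] at this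
      exact isUnit_of_mul_isUnit_right this
  let θ : D →ₐ[B] Q.Ring ⧸ I := (𝓟.P.lift _ hmap).comp 𝓟.equivRing.toAlgHom
  have hθ : θ 𝓟.x = m Q.X := by simp [θ]
  have hcomp : (θ.restrictScalars P).comp ψ = m := StandardEtalePair.hom_ext (by simp [ψ, hθ])
  refine ⟨Q, ψ, fun d => ?_, fun x hx => ?_⟩
  · let ψ' : Q.Ring ⧸ I →+* D := Ideal.Quotient.lift I ψ.toRingHom fun x hx => by
      refine (Ideal.map_le_iff_le_comap.2 fun p hp => ?_ : I ≤ RingHom.ker ψ.toRingHom) hx
      change ψ (algebraMap P Q.Ring p) = 0
      rw [ψ.commutes, IsScalarTower.algebraMap_apply P B D, show algebraMap P B p = 0 from hp, map_zero]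
    let ψB : Q.Ring ⧸ I →ₐ[B] D := ⟨ψ', fun b => by
      obtain ⟨p, rfl⟩ := hP b
      change ψ' (algebraMap B (Q.Ring ⧸ I) (algebraMap P B p)) = _
      rw [hβ, ← IsScalarTower.algebraMap_apply P B D]
      exact ψ.commutes p⟩
    have hid : ψB.comp θ = AlgHom.id B D := 𝓟.hom_ext (by
      change ψ' (θ 𝓟.x) = 𝓟.x
      rw [hθ]
      exact StandardEtalePair.lift_X _ _ hQx)
    obtain ⟨q, hq⟩ := Ideal.Quotient.mk_surjective (θ d)
    refine ⟨q, ?_⟩
    change ψ' (Ideal.Quotient.mk I q) = d
    rw [hq]
    exact DFunLike.congr_fun hid d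
  · rw [← Ideal.Quotient.eq_zero_iff_mem]
    change m x = 0
    rw [← hcomp]
    change θ (ψ x) = 0
    rw [show ψ x = 0 from hx, map_zero]

theorem subsingleton_tensor_h1Cotangent (D : Type u) [CommRing D] [Algebra B D] [Algebra A D]
    [IsScalarTower A B D] [Algebra.IsStandardEtale B D] [Algebra.FormallySmooth A D] :
    Subsingleton (D ⊗[B] Algebra.H1Cotangent A B) := by
  let P : Algebra.Extension.{u} A B := (Algebra.Generators.self A B).toExtension
  have hsP : Algebra.FormallySmooth A P.Ring := inferInstanceAs (Algebra.FormallySmooth A (MvPolynomial B A))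
  have hP : Function.Surjective (algebraMap P.Ring B) := P.algebraMap_surjective
  let _ : Algebra P.Ring D := ((algebraMap B D).comp (algebraMap P.Ring B)).toAlgebra
  have : IsScalarTower P.Ring B D := .of_algebraMap_eq' rfl
  have : IsScalarTower A P.Ring D := .of_algebraMap_eq fun a => by
    rw [IsScalarTower.algebraMap_apply A B D, IsScalarTower.algebraMap_apply A P.Ring B]; rfl
  obtain ⟨Q, ψ, hψ, hker⟩ := exists_standardEtale_lift hP D
  let _ : Algebra A Q.Ring := ((algebraMap P.Ring Q.Ring).comp (algebraMap A P.Ring)).toAlgebra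
  have : IsScalarTower A P.Ring Q.Ring := .of_algebraMap_eq' rfl
  let Q' : Algebra.Extension.{u} A D := .ofSurjective (ψ.restrictScalars A) hψ
  let f : P.Hom Q' :=
  { toRingHom := algebraMap P.Ring Q.Ring
    toRingHom_algebraMap := fun _ => rfl
    algebraMap_toRingHom := fun p => ψ.commutes p }
  have : Algebra.FormallySmooth A Q'.Ring :=
    show Algebra.FormallySmooth A Q.Ring from .comp A P.Ring Q.Ring
  have : Module.Flat B D := inferInstance
  have : Subsingleton Q'.H1Cotangent :=
    (Algebra.Extension.equivH1CotangentOfFormallySmooth Q').subsingleton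
  let _ : Algebra P.Ring Q'.Ring := (inferInstance : Algebra P.Ring Q.Ring)
  refine (Algebra.Extension.tensorH1CotangentOfFormallyEtale f rfl ?_ ?_).subsingleton
  · exact RingHom.formallyEtale_algebraMap.2 (inferInstance : Algebra.FormallyEtale P.Ring Q.Ring)
  · have : Module.Flat P.Ring Q'.Ring := (inferInstance : Module.Flat P.Ring Q.Ring)
    exact bijective_mapKer f rfl hker

theorem smooth [Algebra.Etale B C] [Module.FaithfullyFlat B C] [Algebra.Smooth A C] :
    Algebra.Smooth A B := by
  have := finitePresentation (A := A) (B := B) (C := C)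
  refine ⟨(Algebra.formallySmooth_iff A B).2 ⟨?_, ?_⟩, inferInstance⟩
  · have : Module.Flat C (C ⊗[B] Ω[B⁄A]) :=
      .of_linearEquiv (KaehlerDifferential.tensorKaehlerEquivOfFormallyEtale A B C)
    have : Module.Flat B Ω[B⁄A] := Module.Flat.of_flat_tensorProduct _ _ C
    exact Module.Flat.projective_of_finitePresentation
  · suffices Subsingleton (C ⊗[B] Algebra.H1Cotangent A B) from
      Module.FaithfullyFlat.lTensor_reflects_triviality B C _
    refine ⟨fun x y => sub_eq_zero.1 ?_⟩
    rw [← Submodule.span_singleton_eq_bot (R := C), ← Submodule.annihilator_eq_top_iff]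
    by_contra hne
    obtain ⟨q, hq, hle⟩ := Ideal.exists_le_maximal _ hne
    have := hq.isPrime
    obtain ⟨h, hh, hs⟩ := Algebra.IsEtaleAt.exists_isStandardEtale (R := B) q
    have : Algebra.FormallySmooth A (Localization.Away h) := .comp A C (Localization.Away h)
    have := subsingleton_tensor_h1Cotangent (A := A) (B := B) (Localization.Away h)
    have e := TensorProduct.AlgebraTensorModule.cancelBaseChange B C (Localization.Away h)
      (Localization.Away h) (Algebra.H1Cotangent A B)
    have h0 : (TensorProduct.mk C (Localization.Away h) (C ⊗[B] Algebra.H1Cotangent A B) 1) (x - y) = 0 :=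
      e.injective (Subsingleton.elim _ _)
    obtain ⟨⟨_, n, rfl⟩, hn⟩ := (IsLocalizedModule.eq_zero_iff (Submonoid.powers h) _).1 h0
    refine hh (hq.isPrime.mem_of_pow_mem n (hle ?_))
    rw [Submodule.mem_annihilator_span_singleton]
    exact hn

theorem etale [Algebra.Etale B C] [Module.FaithfullyFlat B C] [Algebra.Etale A C] :
    Algebra.Etale A B := by
  rw [Algebra.Etale.iff_formallyUnramified_and_smooth]
  exact ⟨formallyUnramified (C := C), smooth (C := C)⟩

end GrothLib.AlgSp.EtaleDescent
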