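import Mathlib.AlgebraicGeometry.Morphisms.Etale
import Mathlib.AlgebraicGeometry.Morphisms.FinitePresentation
import Mathlib.AlgebraicGeometry.Morphisms.Flat
import Mathlib.AlgebraicGeometry.Morphisms.QuasiFinite
import Mathlib.AlgebraicGeometry.Morphisms.Smooth
import Mathlib.RingTheory.Unramified.LocalStructure
import Groth.Agent.Lib.AlgSp.EtaleDescentSmooth

/-!
# Descent of properties of morphisms along etale surjections of the source
-/

universe u

open CategoryTheory Limits AlgebraicGeometry TensorProduct

namespace GrothLib.AlgSp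

/-- `P` can be checked after an etale surjective cover of the source. -/
def EtaleSourceDescends (P : MorphismProperty Scheme.{u}) : Prop :=
  ∀ ⦃X' X Y : Scheme.{u}⦄ (c : X' ⟶ X) (f : X ⟶ Y), Etale c → Surjective c → P (c ≫ f) → P f

/-- Every compact target of an etale surjection receives an etale surjection from an affine scheme
factoring through it. -/
theorem exists_affine_etale_cover {X' X : Scheme.{u}} [CompactSpace X] (c : X' ⟶ X) [Etale c]
    [Surjective c] : ∃ (T : Scheme.{u}) (p : T ⟶ X'), IsAffine T ∧ Etale p ∧ Surjective (p ≫ c) := by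
  let 𝒰 := X'.affineCover
  obtain ⟨s, hs⟩ := isCompact_univ.elim_finite_subcover (fun i => Set.range (𝒰.f i ≫ c))
    (fun i => (𝒰.f i ≫ c).isOpenMap.isOpen_range) (fun x _ => by
      obtain ⟨x', rfl⟩ := c.surjective x
      obtain ⟨i, y, rfl⟩ := 𝒰.exists_eq x'
      exact Set.mem_iUnion.2 ⟨i, y, rfl⟩)
  refine ⟨∐ fun i : s => 𝒰.X i.1, Sigma.desc fun i => 𝒰.f i.1, inferInstance, ?_, ⟨fun x => ?_⟩⟩
  · rw [IsZariskiLocalAtSource.iff_of_openCover (P := @Etale) (sigmaOpenCover _)]
    intro i
    change Etale (Sigma.ι (fun i : s => 𝒰.X i.1) i ≫ Sigma.desc fun i : s => 𝒰.f i.1)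
    rw [Sigma.ι_desc]
    infer_instance
  · obtain ⟨i, hi, y, hy⟩ := Set.mem_iUnion₂.1 (hs (Set.mem_univ x))
    refine ⟨Sigma.ι (fun i : s => 𝒰.X i.1) ⟨i, hi⟩ y, ?_⟩
    rw [← Scheme.Hom.comp_apply, Sigma.ι_desc_assoc]
    exact hy

section

variable (P : MorphismProperty Scheme.{u})
  (Q : ∀ {R S : Type u} [CommRing R] [CommRing S], (R →+* S) → Prop) [HasRingHomProperty P Q]

theorem etaleSourceDescends_of_ringHom [P.IsStableUnderComposition]
    (hEt : (@Etale : MorphismProperty Scheme.{u}) ≤ P)
    (H : ∀ {A B C : Type u} [CommRing A] [CommRing B] [CommRing C] (φ : A →+* B) (ψ : B →+* C),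
      ψ.Etale → ψ.FaithfullyFlat → Q (ψ.comp φ) → Q φ) : EtaleSourceDescends P := by
  intro X' X Y c f hc hs h
  wlog hY : IsAffine Y generalizing X' X Y
  · rw [IsZariskiLocalAtTarget.iff_of_openCover (P := P) Y.affineCover]
    intro i
    change P (pullback.snd f (Y.affineCover.f i))
    refine this (pullback.snd c (pullback.fst f (Y.affineCover.f i))) _ inferInstance inferInstance ?_
      inferInstance
    refine IsZariskiLocalAtTarget.of_isPullback (iY := Y.affineCover.f i)
      (iX := pullback.fst c (pullback.fst f (Y.affineCover.f i))) ?_ h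
    exact (IsPullback.of_hasPullback c (pullback.fst f (Y.affineCover.f i))).paste_vert
      (IsPullback.of_hasPullback f (Y.affineCover.f i))
  wlog hX : IsAffine X generalizing X' X
  · rw [IsZariskiLocalAtSource.iff_of_openCover (P := P) X.affineCover]
    intro i
    change P (X.affineCover.f i ≫ f)
    refine this (pullback.snd c (X.affineCover.f i)) _ inferInstance inferInstance ?_ inferInstance
    rw [← pullback.condition_assoc]
    exact IsZariskiLocalAtSource.comp h _
  obtain ⟨T, p, hT, hp, hps⟩ := exists_affine_etale_cover c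
  have hpc : Etale (p ≫ c) := inferInstance
  have hP : P ((p ≫ c) ≫ f) := by
    rw [Category.assoc]
    exact P.comp_mem _ _ (hEt _ _ p hp) h
  rw [HasRingHomProperty.iff_of_isAffine (P := P)] at hP ⊢
  rw [Scheme.Hom.comp_appTop] at hP
  rw [HasRingHomProperty.iff_of_isAffine (P := @Etale)] at hpc
  refine H _ _ hpc ?_ (by simpa using hP)
  rw [RingHom.FaithfullyFlat.iff_flat_and_comap_surjective]
  exact ⟨HasRingHomProperty.appTop (P := @Flat) (p ≫ c) inferInstance,
    ((MorphismProperty.arrow_mk_iso_iff @Surjective (arrowIsoSpecΓOfIsAffine (p ≫ c))).1 hps).surj⟩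

end

theorem rTensor_injective_of_faithfullyFlat {A B C : Type u} [CommRing A] [CommRing B] [CommRing C]
    [Algebra A B] [Algebra B C] [Algebra A C] [IsScalarTower A B C] [Module.FaithfullyFlat B C]
    (M : Type u) [AddCommGroup M] [Module A M] :
    Function.Injective ((IsScalarTower.toAlgHom A B C).toLinearMap.rTensor M) := by
  let e := TensorProduct.AlgebraTensorModule.cancelBaseChange A B C C M
  have key : ∀ x : B ⊗[A] M,
      e ((1 : C) ⊗ₜ[B] x) = (IsScalarTower.toAlgHom A B C).toLinearMap.rTensor M x := by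
    intro x
    induction x with
    | zero => simp
    | add x y hx hy => simp only [tmul_add, map_add, hx, hy]
    | tmul b k => simp [e, Algebra.smul_def]
  intro x y hxy
  rw [← key, ← key] at hxy
  exact Module.FaithfullyFlat.tensorProduct_mk_injective (A := B) (B := C) _ (e.injective hxy)

theorem flat_of_faithfullyFlat {A B C : Type u} [CommRing A] [CommRing B] [CommRing C]
    [Algebra A B] [Algebra B C] [Algebra A C] [IsScalarTower A B C] [Module.FaithfullyFlat B C]
    [Module.Flat A C] : Module.Flat A B := by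
  rw [Module.Flat.iff_lTensor_preserves_injective_linearMap]
  intro N N' _ _ _ _ g hg
  have h1 := rTensor_injective_of_faithfullyFlat (A := A) (B := B) (C := C) N
  intro x y hxy
  apply h1
  apply Module.Flat.lTensor_preserves_injective_linearMap (R := A) (M := C) g hg
  rw [← LinearMap.comp_apply, ← LinearMap.comp_apply, LinearMap.lTensor_comp_rTensor,
    ← LinearMap.rTensor_comp_lTensor, LinearMap.comp_apply, LinearMap.comp_apply, hxy]

theorem locallyQuasiFinite_of_unramified {X Y : Scheme.{u}} (f : X ⟶ Y) [LocallyOfFiniteType f]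
    [FormallyUnramified f] : LocallyQuasiFinite f := by
  rw [HasRingHomProperty.iff_appLE (P := @LocallyQuasiFinite)]
  intro U V e
  have h1 := HasRingHomProperty.appLE @LocallyOfFiniteType f inferInstance U V e
  have h2 := HasRingHomProperty.appLE @FormallyUnramified f inferInstance U V e
  algebraize [(f.appLE U V e).hom]
  exact RingHom.quasiFinite_algebraMap.2 inferInstance

open RingHom in
theorem etaleSourceDescends_flat : EtaleSourceDescends.{u} @Flat := by
  refine etaleSourceDescends_of_ringHom _ RingHom.Flat (fun _ _ _ (_ : Etale _) => inferInstance) ?_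
  intro A B C _ _ _ φ ψ _ h hf
  algebraize [φ, ψ, ψ.comp φ]
  exact RingHom.flat_algebraMap_iff.2 (flat_of_faithfullyFlat (C := C))

theorem etaleSourceDescends_lft : EtaleSourceDescends.{u} @LocallyOfFiniteType := by
  refine etaleSourceDescends_of_ringHom _ RingHom.FiniteType (fun _ _ _ (_ : Etale _) => inferInstance) ?_
  intro A B C _ _ _ φ ψ he h hf
  algebraize [φ, ψ, ψ.comp φ]
  exact RingHom.finiteType_algebraMap.2 (EtaleDescent.finiteType (C := C))

theorem etaleSourceDescends_lfp : EtaleSourceDescends.{u} @LocallyOfFinitePresentation := by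
  refine etaleSourceDescends_of_ringHom _ RingHom.FinitePresentation
    (fun _ _ _ (_ : Etale _) => inferInstance) ?_
  intro A B C _ _ _ φ ψ he h hf
  algebraize [φ, ψ, ψ.comp φ]
  exact RingHom.finitePresentation_algebraMap.2 (EtaleDescent.finitePresentation (C := C))

theorem etaleSourceDescends_formallyUnramified : EtaleSourceDescends.{u} @FormallyUnramified := by
  refine etaleSourceDescends_of_ringHom _ RingHom.FormallyUnramified
    (fun _ _ _ (_ : Etale _) => inferInstance) ?_
  intro A B C _ _ _ φ ψ he h hf
  algebraize [φ, ψ, ψ.comp φ]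
  exact RingHom.formallyUnramified_algebraMap.2 (EtaleDescent.formallyUnramified (C := C))

theorem etaleSourceDescends_smooth : EtaleSourceDescends.{u} @Smooth := by
  refine etaleSourceDescends_of_ringHom _ RingHom.Smooth (fun _ _ _ (_ : Etale _) => inferInstance) ?_
  intro A B C _ _ _ φ ψ he h hf
  algebraize [φ, ψ, ψ.comp φ]
  exact RingHom.smooth_algebraMap.2 (EtaleDescent.smooth (C := C))

theorem etaleSourceDescends_etale : EtaleSourceDescends.{u} @Etale := by
  refine etaleSourceDescends_of_ringHom _ RingHom.Etale (le_refl _) ?_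
  intro A B C _ _ _ φ ψ he h hf
  algebraize [φ, ψ, ψ.comp φ]
  exact RingHom.etale_algebraMap.2 (EtaleDescent.etale (C := C))

theorem etaleSourceDescends_lqf : EtaleSourceDescends.{u} @LocallyQuasiFinite := by
  refine etaleSourceDescends_of_ringHom _ RingHom.QuasiFinite
    (fun _ _ g (_ : Etale g) => locallyQuasiFinite_of_unramified g) ?_
  intro A B C _ _ _ φ ψ he h hf
  algebraize [φ, ψ, ψ.comp φ]
  exact RingHom.quasiFinite_algebraMap.2 (EtaleDescent.quasiFinite (C := C))

theorem EtaleSourceDescends.inf {P Q : MorphismProperty Scheme.{u}} (hP : EtaleSourceDescends P)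
    (hQ : EtaleSourceDescends Q) : EtaleSourceDescends (P ⊓ Q) :=
  fun _ _ _ c f hc hs h => ⟨hP c f hc hs h.1, hQ c f hc hs h.2⟩

end GrothLib.AlgSp
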