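import Groth.Agent.Lib.AlgSp.Space
import Groth.Agent.Lib.AlgSp.SourceDescent
import Groth.Prelude.Def_AlgSp3

/-!
# Properties etale local on source and target
-/

universe u

open CategoryTheory CategoryTheory.Limits AlgebraicGeometry Opposite

namespace GrothLib.AlgSp

open _root_.AlgSp

variable {S : Scheme.{u}}

/-- `P` is a property of morphisms of schemes which is etale local on the source-and-target. -/
structure EtLocal (P : MorphismProperty Scheme.{u}) : Prop where
  baseChange : P.IsStableUnderBaseChange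
  comp_mem : ∀ ⦃X Y Z : Scheme.{u}⦄ (f : X ⟶ Y) (g : Y ⟶ Z), P f → P g → P (f ≫ g)
  of_etale : ∀ ⦃X Y : Scheme.{u}⦄ (f : X ⟶ Y), Etale f → P f
  descend : EtaleSourceDescends P

namespace EtLocal

variable {P Q : MorphismProperty Scheme.{u}}

theorem respectsIso (hP : EtLocal P) : P.RespectsIso :=
  haveI := hP.baseChange; MorphismProperty.IsStableUnderBaseChange.respectsIso

theorem cancel (hP : EtLocal P) {X Y Z : Scheme.{u}} (f : X ⟶ Y) (g : Y ⟶ Z) [Etale g]
    (h : P (f ≫ g)) : P f := by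
  have := hP.baseChange
  have e : pullback.lift (𝟙 X) f (by simp) ≫ pullback.snd (f ≫ g) g = f := pullback.lift_snd _ _ _
  rw [← e]
  refine hP.comp_mem _ _ (hP.of_etale _ ?_) (P.pullback_snd _ _ h)
  have : Etale (pullback.lift (𝟙 X) f (by simp) ≫ pullback.fst (f ≫ g) g) := by
    rw [pullback.lift_fst]; infer_instance
  exact Etale.of_comp _ (pullback.fst (f ≫ g) g)

theorem inf (hP : EtLocal P) (hQ : EtLocal Q) : EtLocal (P ⊓ Q) where
  baseChange :=
    haveI := hP.baseChange
    haveI := hQ.baseChange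
    inferInstance
  comp_mem _ _ _ f g h h' := ⟨hP.comp_mem f g h.1 h'.1, hQ.comp_mem f g h.2 h'.2⟩
  of_etale _ _ f h := ⟨hP.of_etale f h, hQ.of_etale f h⟩
  descend := hP.descend.inf hQ.descend

theorem lft : EtLocal.{u} @LocallyOfFiniteType :=
  ⟨inferInstance, fun _ _ _ f g h h' => MorphismProperty.comp_mem _ f g h h',
    fun _ _ f (_ : Etale f) => inferInstance, etaleSourceDescends_lft⟩

theorem lfp : EtLocal.{u} @LocallyOfFinitePresentation :=
  ⟨inferInstance, fun _ _ _ f g h h' => MorphismProperty.comp_mem _ f g h h',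
    fun _ _ f (_ : Etale f) => inferInstance, etaleSourceDescends_lfp⟩

theorem flat : EtLocal.{u} @Flat :=
  ⟨inferInstance, fun _ _ _ f g h h' => MorphismProperty.comp_mem _ f g h h',
    fun _ _ f (_ : Etale f) => inferInstance, etaleSourceDescends_flat⟩

theorem smooth : EtLocal.{u} @Smooth :=
  ⟨inferInstance, fun _ _ _ f g h h' => MorphismProperty.comp_mem _ f g h h',
    fun _ _ f (_ : Etale f) => inferInstance, etaleSourceDescends_smooth⟩

theorem etale : EtLocal.{u} @Etale :=
  ⟨inferInstance, fun _ _ _ f g h h' => MorphismProperty.comp_mem _ f g h h',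
    fun _ _ _ h => h, etaleSourceDescends_etale⟩

theorem lqf : EtLocal.{u} @LocallyQuasiFinite :=
  ⟨inferInstance, fun _ _ _ f g h h' => MorphismProperty.comp_mem _ f g h h',
    fun _ _ f (_ : Etale f) => locallyQuasiFinite_of_unramified f, etaleSourceDescends_lqf⟩

theorem formallyUnramified : EtLocal.{u} @FormallyUnramified :=
  ⟨inferInstance, fun _ _ _ f g h h' => MorphismProperty.comp_mem _ f g h h',
    fun _ _ f (_ : Etale f) => inferInstance, etaleSourceDescends_formallyUnramified⟩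

/-- The seven classes occurring in the statements. -/
theorem of_cases (hP : P = @LocallyOfFiniteType ∨ P = @LocallyOfFinitePresentation ∨ P = @Flat ∨ P = @Smooth ∨
      P = @Etale ∨
      (∀ ⦃A B : Scheme.{u}⦄ (g : A ⟶ B), P g ↔ (LocallyQuasiFinite g ∧ LocallyOfFiniteType g)) ∨
      (∀ ⦃A B : Scheme.{u}⦄ (g : A ⟶ B), P g ↔ (LocallyOfFiniteType g ∧ FormallyUnramified g))) :
    EtLocal P := by
  rcases hP with rfl | rfl | rfl | rfl | rfl | h | h
  · exact lft
  · exact lfp
  · exact flat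
  · exact smooth
  · exact etale
  · obtain rfl : P = fun _ _ g => LocallyQuasiFinite g ∧ LocallyOfFiniteType g :=
      MorphismProperty.ext _ _ fun _ _ g => h g
    exact lqf.inf lft
  · obtain rfl : P = fun _ _ g => LocallyOfFiniteType g ∧ FormallyUnramified g :=
      MorphismProperty.ext _ _ fun _ _ g => h g
    exact lft.inf formallyUnramified

/-- One chart with surjective etale source suffices. -/
theorem locP_of_chart (hP : EtLocal P) {F G : Sp S} {f : F ⟶ G} {U V : Over S}
    {a : (yon S).obj U ⟶ F} {b : (yon S).obj V ⟶ G} {h : U ⟶ V} (ha : RepWith @Etale a)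
    (has : RepWith @Surjective a) (hb : RepWith @Etale b) (comm : a ≫ f = (yon S).map h ≫ b)
    (hh : P h.left) : LocP P f := by
  intro U' V' a' b' h' ha' hb' comm'
  obtain ⟨W, w₁, w₂, sqW⟩ := exists_isPullback_of_representable ha.1 a'
  obtain ⟨w₁, rfl⟩ := (yon S).map_surjective w₁
  obtain ⟨Q, q₁, q₂, sqQ⟩ := exists_isPullback_of_representable hb.1 b'
  obtain ⟨q₁, rfl⟩ := (yon S).map_surjective q₁
  have w₂e : Etale w₂.left := ha.2 _ _ _ sqW
  have w₂s : Surjective w₂.left := has.2 _ _ _ sqW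
  have w₁e : Etale w₁.left := ha'.2 _ _ _ sqW.flip
  have q₂e : Etale q₂.left := hb.2 _ _ _ sqQ
  have q₁e : Etale q₁.left := hb'.2 _ _ _ sqQ.flip
  have e : (yon S).map (w₁ ≫ h) ≫ b = (yon S).map (w₂ ≫ h') ≫ b' := by
    rw [Functor.map_comp, Functor.map_comp, Category.assoc, Category.assoc, ← comm, ← comm',
      ← Category.assoc, sqW.w, Category.assoc]
  let m : W ⟶ Q := (yon S).preimage (sqQ.lift _ _ e)
  have m₁ : m ≫ q₁ = w₁ ≫ h := (yon S).map_injective (by simp [m])
  have m₂ : m ≫ q₂ = w₂ ≫ h' := (yon S).map_injective (by simp [m])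
  refine hP.descend w₂.left h'.left w₂e w₂s ?_
  rw [← Over.comp_left, ← m₂, Over.comp_left]
  refine hP.comp_mem _ _ (hP.cancel m.left q₁.left ?_) (hP.of_etale _ q₂e)
  rw [← Over.comp_left, m₁, Over.comp_left]
  exact hP.comp_mem _ _ (hP.of_etale _ w₁e) hh

theorem locP_of_repWith (hP : EtLocal P) {F G : Sp S} (hG : IsAlgSpace G) {f : F ⟶ G}
    (hf : RepWith P f) : LocP P f := by
  obtain ⟨V, q, qe, qs⟩ := hG.atlas
  obtain ⟨U, a, h, sq⟩ := exists_isPullback_of_representable hf.1 q
  exact locP_of_chart hP (repWith_of_isPullback sq.flip qe) (repWith_of_isPullback sq.flip qs) qe sq.w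
    (hf.2 _ _ _ sq)

theorem repWith_of_locP (hP : EtLocal P) {F G : Sp S} (hG : IsAlgSpace G) {f : F ⟶ G}
    (hf : Representable f) (h : LocP P f) : RepWith P f := by
  refine ⟨hf, fun U W g fst snd sqW => ?_⟩
  obtain ⟨V, q, qe, qs⟩ := hG.atlas
  obtain ⟨X₀, a, g₀, sq₀⟩ := exists_isPullback_of_representable hf q
  obtain ⟨U₁, c, c', sqU⟩ := exists_isPullback_of_representable qe.1 g
  obtain ⟨c, rfl⟩ := (yon S).map_surjective c
  -- `c : U₁ ⟶ V`, `c' : U₁ ⟶ U`
  have sq₁ := IsPullback.of_hasPullback snd c'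
  have sqs := isPullback_stack sqW sq₁
  let m : pullback snd c' ⟶ X₀ := (yon S).preimage (sq₀.lift ((yon S).map (pullback.fst snd c') ≫ fst)
    ((yon S).map (pullback.snd snd c' ≫ c)) (by
      rw [sqs.w, Functor.map_comp, Category.assoc, sqU.w]))
  have sq₂ : IsPullback m (pullback.snd snd c') g₀ c := by
    apply isPullback_of_isPullback_yon
    refine IsPullback.of_right (h₁₂ := a) (h₂₂ := q) (v₁₃ := f) ?_ ?_ sq₀
    · rw [sqU.w]
      simpa [m] using sqs
    · simp [m, ← Functor.map_comp]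
  have hPm := hP.baseChange
  refine hP.descend (pullback.fst snd c').left snd.left ?_ ?_ ?_
  · exact MorphismProperty.of_isPullback (isPullback_left sq₁).flip (qe.2 _ _ _ sqU)
  · exact MorphismProperty.of_isPullback (isPullback_left sq₁).flip (qs.2 _ _ _ sqU)
  · rw [← Over.comp_left, pullback.condition, Over.comp_left]
    refine hP.comp_mem _ _ ?_ (hP.of_etale _ (qe.2 _ _ _ sqU))
    exact MorphismProperty.of_isPullback (isPullback_left sq₂)
      (h a q g₀ (repWith_of_isPullback sq₀.flip qe) qe sq₀.w)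

theorem locP_iff_repWith (hP : EtLocal P) {F G : Sp S} (hG : IsAlgSpace G) {f : F ⟶ G}
    (hf : Representable f) : LocP P f ↔ RepWith P f :=
  ⟨repWith_of_locP hP hG hf, locP_of_repWith hP hG⟩

theorem locP_of_isPullback (hP : EtLocal P) {X Y X' Y' : Sp S} (hX : IsAlgSpace X) (hY : IsAlgSpace Y)
    (hY' : IsAlgSpace Y') {f : X ⟶ Y} {g : Y' ⟶ Y} {fst : X' ⟶ X} {f' : X' ⟶ Y'}
    (sq : IsPullback fst f' f g) (hf : LocP P f) : LocP P f' := by
  obtain ⟨V, q, qe, qs⟩ := hY.atlas
  obtain ⟨V', q', β, qe', hβ, hqs'⟩ := exists_chart_over hY' hY g q qe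
  have qs' := hqs' qs
  obtain ⟨U, p, pe, ps⟩ := (isAlgSpace_pullback' hY hX (IsAlgSpace.yon_obj V) f q).atlas
  obtain ⟨α, hα⟩ := (yon S).map_surjective (p ≫ pullback.snd f q)
  have hh : P α.left := hf (p ≫ pullback.fst f q) q α
    (repWith_comp pe (repWith_of_isPullback (IsPullback.of_hasPullback f q).flip qe)) qe
    (by rw [Category.assoc, pullback.condition, hα, Category.assoc])
  let P' := pullback (pullback.snd f q) ((yon S).map β)
  let m : (yon S).obj (pullback α β) ⟶ P' :=
    pullback.lift ((yon S).map (pullback.fst α β) ≫ p) ((yon S).map (pullback.snd α β))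
      (by rw [Category.assoc, ← hα, ← Functor.map_comp, ← Functor.map_comp, pullback.condition])
  have sqm : IsPullback m ((yon S).map (pullback.fst α β)) (pullback.fst (pullback.snd f q) ((yon S).map β)) p := by
    refine IsPullback.of_right (h₁₂ := pullback.snd _ _) (h₂₂ := pullback.snd f q) (v₁₃ := (yon S).map β)
      ?_ (pullback.lift_fst _ _ _) (IsPullback.of_hasPullback _ _).flip
    rw [show m ≫ pullback.snd _ _ = (yon S).map (pullback.snd α β) from pullback.lift_snd _ _ _, ← hα]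
    exact (isPullback_yon (IsPullback.of_hasPullback α β)).flip
  let n : P' ⟶ X' := sq.lift (pullback.fst _ _ ≫ pullback.fst f q) (pullback.snd _ _ ≫ q')
    (by rw [Category.assoc, Category.assoc, pullback.condition, pullback.condition_assoc, ← hβ])
  have sqn : IsPullback n (pullback.snd (pullback.snd f q) ((yon S).map β)) f' q' := by
    refine IsPullback.of_right (h₁₂ := fst) (h₂₂ := g) (v₁₃ := f) ?_ (sq.lift_snd _ _ _) sq
    rw [show n ≫ fst = _ from sq.lift_fst _ _ _, hβ]
    exact (IsPullback.of_hasPullback _ _).paste_horiz (IsPullback.of_hasPullback f q)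
  have := hP.baseChange
  refine locP_of_chart hP (a := m ≫ n) (b := q') (h := pullback.snd α β) ?_ ?_ qe' ?_
    (MorphismProperty.of_isPullback (isPullback_left (IsPullback.of_hasPullback α β)) hh)
  · exact repWith_comp (repWith_of_isPullback sqm.flip pe) (repWith_of_isPullback sqn.flip qe')
  · exact repWith_comp (repWith_of_isPullback sqm.flip ps) (repWith_of_isPullback sqn.flip qs')
  · rw [Category.assoc, sqn.w, ← Category.assoc, show m ≫ pullback.snd _ _ = _ from pullback.lift_snd _ _ _]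

theorem locP_comp (hP : EtLocal P) {X Y Z : Sp S} (hX : IsAlgSpace X) (hY : IsAlgSpace Y)
    (hZ : IsAlgSpace Z) {f : X ⟶ Y} {g : Y ⟶ Z} (hf : LocP P f) (hg : LocP P g) : LocP P (f ≫ g) := by
  obtain ⟨W, r, re, rs⟩ := hZ.atlas
  obtain ⟨V, q, β, qe, hq, hqs⟩ := exists_chart_over hY hZ g r re
  obtain ⟨U, p, α, pe, hp, hps⟩ := exists_chart_over hX hY f q qe
  refine locP_of_chart hP pe (hps (hqs rs)) re (h := α ≫ β) ?_
    (hP.comp_mem _ _ (hf p q α pe qe hp) (hg q r β qe re hq))
  rw [← Category.assoc, hp, Category.assoc, hq, Functor.map_comp, Category.assoc]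

theorem locP_of_comp (hP : EtLocal P) (hc : ∀ ⦃A B C : Scheme.{u}⦄ (f : A ⟶ B) (g : B ⟶ C), P (f ≫ g) → P f)
    {X Y Z : Sp S} (hX : IsAlgSpace X) (hY : IsAlgSpace Y) (hZ : IsAlgSpace Z) {f : X ⟶ Y} {g : Y ⟶ Z}
    (h : LocP P (f ≫ g)) : LocP P f := by
  obtain ⟨W, r, re, rs⟩ := hZ.atlas
  obtain ⟨V, q, β, qe, hq, hqs⟩ := exists_chart_over hY hZ g r re
  obtain ⟨U, p, α, pe, hp, hps⟩ := exists_chart_over hX hY f q qe
  refine locP_of_chart hP pe (hps (hqs rs)) qe hp (hc α.left β.left (h p r (α ≫ β) pe re ?_))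
  rw [← Category.assoc, hp, Category.assoc, hq, Functor.map_comp, Category.assoc]

theorem locP_cancel (hP : EtLocal P)
    (hc : ∀ ⦃A B C : Scheme.{u}⦄ (f : A ⟶ B) (g : B ⟶ C), P (f ≫ g) → P g → P f)
    {X Y Z : Sp S} (hX : IsAlgSpace X) (hY : IsAlgSpace Y) (hZ : IsAlgSpace Z) {f : X ⟶ Y} {g : Y ⟶ Z}
    (h : LocP P (f ≫ g)) (hg : LocP P g) : LocP P f := by
  obtain ⟨W, r, re, rs⟩ := hZ.atlas
  obtain ⟨V, q, β, qe, hq, hqs⟩ := exists_chart_over hY hZ g r re
  obtain ⟨U, p, α, pe, hp, hps⟩ := exists_chart_over hX hY f q qe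
  refine locP_of_chart hP pe (hps (hqs rs)) qe hp
    (hc α.left β.left (h p r (α ≫ β) pe re ?_) (hg q r β qe re hq))
  rw [← Category.assoc, hp, Category.assoc, hq, Functor.map_comp, Category.assoc]

theorem repWith_of_comp (hP : EtLocal P) {F : Sp S} {U U' : Over S} (c : U ⟶ U') [Etale c.left]
    [Surjective c.left] {f : (yon S).obj U' ⟶ F} (hf : Representable f)
    (h : RepWith P ((yon S).map c ≫ f)) : RepWith P f := by
  refine ⟨hf, fun T W g fst snd sq => ?_⟩
  obtain ⟨fst, rfl⟩ := (yon S).map_surjective fst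
  have hpb := IsPullback.of_hasPullback fst c
  refine hP.descend (pullback.fst fst c).left snd.left ?_ ?_ ?_
  · exact MorphismProperty.of_isPullback (isPullback_left hpb).flip inferInstance
  · exact MorphismProperty.of_isPullback (isPullback_left hpb).flip inferInstance
  · rw [← Over.comp_left]
    exact h.2 g ((yon S).map (pullback.snd fst c)) (pullback.fst fst c ≫ snd)
      (by rw [Functor.map_comp]; exact (isPullback_yon hpb).flip.paste_vert sq)

end EtLocal

theorem locP_mono {P Q : MorphismProperty Scheme.{u}} (hPQ : ∀ ⦃A B : Scheme.{u}⦄ (g : A ⟶ B), P g → Q g)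
    {F G : Sp S} {f : F ⟶ G} (hf : LocP P f) : LocP Q f :=
  fun _ _ a b h ha hb w => hPQ _ (hf a b h ha hb w)

theorem representable_of_source_scheme {F : Sp S} (hF : IsAlgSpace F) {U : Over S}
    (g : (yon S).obj U ⟶ F) : Representable g :=
  representable_diag_iff.1 hF.diag g

theorem isEtaleMor_of_locP {X Y : Sp S} (hY : IsAlgSpace Y) {f : X ⟶ Y} (hf : LocP @Etale f) :
    IsEtaleMor f := fun W φ hφ =>
  EtLocal.repWith_of_locP .etale hY (representable_of_source_scheme hY _) fun U V a b h ha hb w =>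
    hf (a ≫ φ) b h (repWith_comp ha hφ) hb (by rw [Category.assoc]; exact w)

theorem locP_of_isEtaleMor {X Y : Sp S} (hY : IsAlgSpace Y) {f : X ⟶ Y} (hf : IsEtaleMor f) :
    LocP @Etale f := fun U V a b h ha hb w =>
  EtLocal.locP_of_repWith .etale hY (hf a ha) (𝟙 _) b h (repWith_id _ _) hb
    (by rw [Category.id_comp]; exact w)

theorem isEtaleMor_iff_locP {X Y : Sp S} (hY : IsAlgSpace Y) {f : X ⟶ Y} :
    IsEtaleMor f ↔ LocP @Etale f :=
  ⟨locP_of_isEtaleMor hY, isEtaleMor_of_locP hY⟩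

end GrothLib.AlgSp
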