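import Groth.Agent.Lib.AlgSp.Space
import Groth.Prelude.Def_AlgSp4
import Groth.Prelude.Def_AlgSpDec

/-!
# Points of sheaves over `S`
-/

universe u

open CategoryTheory CategoryTheory.Limits AlgebraicGeometry Opposite Topology

namespace GrothLib.AlgSp

open _root_.AlgSp

variable {S : Scheme.{u}} {F G H : Sp S}

theorem ofPt_map_comp {T T' : Over S} (φ : T ⟶ T') (g : (yon S).obj T' ⟶ F) (t : ↥T.left) :
    Points.ofPt ((yon S).map φ ≫ g) t = Points.ofPt g (φ.left t) := by
  rw [Points.ofPt_eq_map_ofScheme, Points.map_comp, Points.ofPt_eq_map_ofScheme g]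
  exact congrArg _ (Points.map_yon_map_apply φ t)

theorem exists_ofPt (x : Points F) :
    ∃ (K : Type u) (_ : Field K) (str : Spec (CommRingCat.of K) ⟶ S)
      (g : (yon S).obj (Over.mk str) ⟶ F), Points.ofPt g (IsLocalRing.closedPoint K) = x := by
  induction x using Points.ind with
  | h p => exact ⟨p.K, p.field, p.str, p.toHom, Points.ofPt_toHom p _⟩

theorem map_bijective_of_iso (e : F ≅ G) : Function.Bijective (Points.map e.hom) :=
  ⟨fun x y h => by
    simpa [← Points.map_comp] using congrArg (Points.map e.inv) h,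
  fun y => ⟨Points.map e.inv y, by simp [← Points.map_comp]⟩⟩

/-- Equal points lift to a common field extension. -/
theorem exists_common_field {X Y : Sp S} {f : X ⟶ H} {g : Y ⟶ H} {x : Points X} {y : Points Y}
    (e : Points.map f x = Points.map g y) :
    ∃ (Ω : Type u) (_ : Field Ω) (w : Spec (CommRingCat.of Ω) ⟶ S)
      (a : (yon S).obj (Over.mk w) ⟶ X) (b : (yon S).obj (Over.mk w) ⟶ Y),
      a ≫ f = b ≫ g ∧ Points.ofPt a (IsLocalRing.closedPoint Ω) = x ∧
        Points.ofPt b (IsLocalRing.closedPoint Ω) = y := by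
  induction x using Points.ind with
  | h p =>
  induction y using Points.ind with
  | h q =>
  rw [Points.map_mk, Points.map_mk, Points.mk_eq_mk_iff] at e
  obtain ⟨Ω, _, w, a, b, h⟩ := e
  refine ⟨Ω, inferInstance, w, (yon S).map a ≫ p.toHom, (yon S).map b ≫ q.toHom, ?_, ?_, ?_⟩
  · rw [Category.assoc, Category.assoc]
    erw [← FieldPt.toHom_map, ← FieldPt.toHom_map]
    apply (J S).uliftYonedaEquiv.{u + 1}.injective
    rw [← GrothendieckTopology.uliftYonedaEquiv_naturality, ← GrothendieckTopology.uliftYonedaEquiv_naturality]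
    erw [FieldPt.uliftYonedaEquiv_toHom, FieldPt.uliftYonedaEquiv_toHom]
    exact h
  · rw [ofPt_map_comp]; exact Points.ofPt_toHom p _
  · rw [ofPt_map_comp]; exact Points.ofPt_toHom q _

theorem exists_of_isPullback {P X Y : Sp S} {fst : P ⟶ X} {snd : P ⟶ Y} {f : X ⟶ H} {g : Y ⟶ H}
    (sq : IsPullback fst snd f g) {x : Points X} {y : Points Y} (e : Points.map f x = Points.map g y) :
    ∃ p : Points P, Points.map fst p = x ∧ Points.map snd p = y := by
  obtain ⟨Ω, _, w, a, b, hab, ha, hb⟩ := exists_common_field e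
  refine ⟨Points.ofPt (sq.lift a b hab) (IsLocalRing.closedPoint Ω), ?_, ?_⟩
  · rw [Points.map_ofPt, sq.lift_fst]; exact ha
  · rw [Points.map_ofPt, sq.lift_snd]; exact hb

theorem map_yon_ofPt {R U : Over S} (φ : R ⟶ U) (r : ↥R.left) :
    Points.map ((yon S).map φ) (Points.ofScheme R r) = Points.ofScheme U (φ.left r) :=
  Points.map_yon_map_apply φ r

theorem preimage_image_of_isPullback {P X Y : Sp S} {fst : P ⟶ X} {snd : P ⟶ Y} {f : X ⟶ H} {g : Y ⟶ H}
    (sq : IsPullback fst snd f g) (E : Set (Points X)) :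
    Points.map g ⁻¹' (Points.map f '' E) = Points.map snd '' (Points.map fst ⁻¹' E) := by
  ext y
  constructor
  · rintro ⟨x, hx, e⟩
    obtain ⟨p, rfl, hp⟩ := exists_of_isPullback sq e
    exact ⟨p, hx, hp⟩
  · rintro ⟨p, hp, rfl⟩
    exact ⟨_, hp, by rw [← Points.map_comp, ← Points.map_comp, sq.w]⟩

theorem ofPt_eq_ofPt_iff {R U V : Over S} {fst : R ⟶ U} {snd : R ⟶ V} {a : (yon S).obj U ⟶ F}
    {b : (yon S).obj V ⟶ F} (sq : IsPullback ((yon S).map fst) ((yon S).map snd) a b)
    (u : ↥U.left) (v : ↥V.left) :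
    Points.ofPt a u = Points.ofPt b v ↔ ∃ r : ↥R.left, fst.left r = u ∧ snd.left r = v := by
  constructor
  · intro e
    rw [Points.ofPt_eq_map_ofScheme a, Points.ofPt_eq_map_ofScheme b] at e
    obtain ⟨p, hp₁, hp₂⟩ := exists_of_isPullback sq e
    obtain ⟨r, rfl⟩ := (Points.schemeEquiv R).surjective p
    exact ⟨r, (Points.schemeEquiv U).injective ((map_yon_ofPt fst r).symm.trans hp₁),
      (Points.schemeEquiv V).injective ((map_yon_ofPt snd r).symm.trans hp₂)⟩
  · rintro ⟨r, rfl, rfl⟩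
    rw [← ofPt_map_comp, ← ofPt_map_comp, sq.w]

/-- The preimage in a scheme of the image of a subset of a scheme. -/
theorem preimage_ofPt_image {R U V : Over S} {fst : R ⟶ U} {snd : R ⟶ V} {a : (yon S).obj U ⟶ F}
    {b : (yon S).obj V ⟶ F} (sq : IsPullback ((yon S).map fst) ((yon S).map snd) a b) (E : Set ↥U.left) :
    Points.ofPt b ⁻¹' (Points.ofPt a '' E) = (fun r => snd.left r) '' ((fun r => fst.left r) ⁻¹' E) := by
  ext v
  constructor
  · rintro ⟨u, hu, e⟩
    obtain ⟨r, rfl, hr⟩ := (ofPt_eq_ofPt_iff sq u v).1 e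
    exact ⟨r, hu, hr⟩
  · rintro ⟨r, hr, rfl⟩
    exact ⟨_, hr, (ofPt_eq_ofPt_iff sq _ _).2 ⟨r, rfl, rfl⟩⟩

/-- A representable map whose base changes are open is open on points. -/
theorem isOpenMap_ofPt_of_repWith {P : MorphismProperty Scheme.{u}}
    (hP : ∀ ⦃A B : Scheme.{u}⦄ (h : A ⟶ B), P h → IsOpenMap h) {U : Over S} {a : (yon S).obj U ⟶ F}
    (ha : RepWith P a) : IsOpenMap (Points.ofPt a) := fun W hW => Points.isOpen_iff.2 fun T g => by
  obtain ⟨V, fst, snd, sq⟩ := exists_isPullback_of_representable ha.1 g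
  obtain ⟨fst, rfl⟩ := (yon S).map_surjective fst
  rw [preimage_ofPt_image sq]
  exact hP _ (ha.2 _ _ _ sq) _ (hW.preimage fst.left.continuous)

theorem isOpenMap_map_of_repWith {P : MorphismProperty Scheme.{u}}
    (hP : ∀ ⦃A B : Scheme.{u}⦄ (h : A ⟶ B), P h → IsOpenMap h) {f : F ⟶ G} (hf : RepWith P f) :
    IsOpenMap (Points.map f) := fun W hW => Points.isOpen_iff.2 fun T g => by
  obtain ⟨V, fst, snd, sq⟩ := exists_isPullback_of_representable hf.1 g
  have e : Points.ofPt g ⁻¹' (Points.map f '' W) = (fun r => snd.left r) '' (Points.ofPt fst ⁻¹' W) := by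
    ext t
    rw [Set.mem_preimage, Points.ofPt_eq_map_ofScheme, ← Set.mem_preimage,
      preimage_image_of_isPullback sq]
    constructor
    · rintro ⟨p, hp, e⟩
      obtain ⟨r, rfl⟩ := (Points.schemeEquiv V).surjective p
      refine ⟨r, ?_, (Points.schemeEquiv T).injective ((map_yon_ofPt snd r).symm.trans e)⟩
      rw [Set.mem_preimage, Points.ofPt_eq_map_ofScheme]
      exact hp
    · rintro ⟨r, hr, rfl⟩
      refine ⟨Points.ofScheme V r, ?_, map_yon_ofPt snd r⟩
      rw [Set.mem_preimage, ← Points.ofPt_eq_map_ofScheme]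
      exact hr
  rw [e]
  exact hP _ (hf.2 _ _ _ sq) _ (hW.preimage (Points.continuous_ofPt fst))

theorem surjective_map_of_repWith {f : F ⟶ G} (hf : RepWith @Surjective f) :
    Function.Surjective (Points.map f) := fun y => by
  obtain ⟨K, _, str, g, rfl⟩ := exists_ofPt y
  obtain ⟨V, fst, snd, sq⟩ := exists_isPullback_of_representable hf.1 g
  obtain ⟨v, hv⟩ := (hf.2 _ _ _ sq).surj (IsLocalRing.closedPoint K)
  refine ⟨Points.ofPt fst v, ?_⟩
  rw [Points.map_ofPt, sq.w, ofPt_map_comp]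
  exact congrArg _ hv

theorem surjective_ofPt_of_repWith {U : Over S} {a : (yon S).obj U ⟶ F} (ha : RepWith @Surjective a) :
    Function.Surjective (Points.ofPt a) := fun x => by
  obtain ⟨p, rfl⟩ := surjective_map_of_repWith ha x
  obtain ⟨u, rfl⟩ := (Points.schemeEquiv U).surjective p
  exact ⟨u, Points.ofPt_eq_map_ofScheme a u⟩

theorem repWith_surjective_iff {f : F ⟶ G} (hf : Representable f) :
    RepWith @Surjective f ↔ Function.Surjective (Points.map f) := by
  refine ⟨surjective_map_of_repWith, fun h => ⟨hf, fun T V g fst snd sq => ⟨fun t => ?_⟩⟩⟩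
  obtain ⟨x, hx⟩ := h (Points.ofPt g t)
  rw [Points.ofPt_eq_map_ofScheme g t] at hx
  obtain ⟨p, -, hp⟩ := exists_of_isPullback sq hx
  obtain ⟨r, rfl⟩ := (Points.schemeEquiv V).surjective p
  exact ⟨r, (Points.schemeEquiv T).injective ((map_yon_ofPt snd r).symm.trans hp)⟩

theorem repWith_surjective_of_ofPt {U : Over S} {a : (yon S).obj U ⟶ F} (ha : Representable a)
    (h : Function.Surjective (Points.ofPt a)) : RepWith @Surjective a :=
  (repWith_surjective_iff ha).2 fun x => by
    obtain ⟨u, rfl⟩ := h x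
    exact ⟨_, (Points.ofPt_eq_map_ofScheme a u).symm⟩

theorem isOpenMap_ofPt_of_etale {U : Over S} {a : (yon S).obj U ⟶ F} (ha : RepWith @Etale a) :
    IsOpenMap (Points.ofPt a) :=
  isOpenMap_ofPt_of_repWith (fun _ _ h hh => by have : Etale h := hh; exact h.isOpenMap) ha

theorem isOpenQuotientMap_ofPt {U : Over S} {a : (yon S).obj U ⟶ F} (ha : RepWith @Etale a)
    (hs : RepWith @Surjective a) : IsOpenQuotientMap (Points.ofPt a) :=
  ⟨surjective_ofPt_of_repWith hs, Points.continuous_ofPt a, isOpenMap_ofPt_of_etale ha⟩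

theorem surjective_map_of_isPullback {P X Y : Sp S} {fst : P ⟶ X} {snd : P ⟶ Y} {f : X ⟶ H} {g : Y ⟶ H}
    (sq : IsPullback fst snd f g) (hf : Function.Surjective (Points.map f)) :
    Function.Surjective (Points.map snd) := fun y => by
  obtain ⟨x, hx⟩ := hf (Points.map g y)
  obtain ⟨p, -, hp⟩ := exists_of_isPullback sq hx
  exact ⟨p, hp⟩

theorem isCompact_range_map_of_chart {f : F ⟶ G} {U : Over S} [CompactSpace ↥U.left]
    {a : (yon S).obj U ⟶ F} (hs : RepWith @Surjective a) : IsCompact (Set.range (Points.map f)) := by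
  rw [← (surjective_ofPt_of_repWith hs).range_comp (Points.map f)]
  exact isCompact_range ((Points.continuous_map f).comp (Points.continuous_ofPt a))

end GrothLib.AlgSp
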