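import Mathlib.CategoryTheory.Sites.Subsheaf
import Groth.Agent.Lib.AlgSp.Points

/-!
# Open subspaces
-/

universe u

open CategoryTheory CategoryTheory.Limits AlgebraicGeometry Opposite Topology

namespace GrothLib.AlgSp

open _root_.AlgSp

variable {S : Scheme.{u}} {F G : Sp S}

/-- A covering sieve of the fppf site is jointly surjective. -/
theorem exists_mem_cover {U : Over S} {Sv : Sieve U} (h : Sv ∈ J S U) (x : ↥U.left) :
    ∃ (V : Over S) (c : V ⟶ U) (y : ↥V.left), Sv.arrows c ∧ c.left y = x := by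
  obtain ⟨R, hR, hle⟩ := Precoverage.mem_toGrothendieck_iff_of_isStableUnderComposition.1
    (show Sieve.overEquiv U Sv ∈ Scheme.fppfTopology U.left from h)
  obtain ⟨Y, f, hf, y, hy⟩ := Scheme.JointlySurjective.exists_eq
    (K := Scheme.precoverage (@Flat ⊓ @LocallyOfFinitePresentation)) R hR x
  exact ⟨Over.mk (f ≫ U.hom), Over.homMk f rfl, y, (Sieve.overEquiv_iff _ f).1 (hle _ _ hf), hy⟩

/-- The sections of `F` landing in a set of points. -/
def subfunctorOfSet (F : Sp S) (W : Set (Points F)) : Subfunctor F.obj where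
  obj T := {s | ∀ t, Points.ofPt ((J S).uliftYonedaEquiv.{u + 1}.symm s) t ∈ W}
  map {T T'} φ s hs t := by
    have e : (J S).uliftYonedaEquiv.{u + 1}.symm (F.obj.map φ s) =
        (yon S).map φ.unop ≫ (J S).uliftYonedaEquiv.{u + 1}.symm s := by
      apply (J S).uliftYonedaEquiv.{u + 1}.injective
      rw [Equiv.apply_symm_apply, ← GrothendieckTopology.uliftYonedaEquiv_naturality, Equiv.apply_symm_apply]
      rfl
    rw [e, ofPt_map_comp]
    exact hs _

theorem isSheaf_subfunctorOfSet (F : Sp S) (W : Set (Points F)) :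
    Presheaf.IsSheaf (J S) (subfunctorOfSet F W).toFunctor := by
  rw [isSheaf_iff_isSheaf_of_type,
    Subfunctor.isSheaf_iff _ ((isSheaf_iff_isSheaf_of_type _ _).1 F.property)]
  intro U s hs t
  obtain ⟨V, c, y, hc, rfl⟩ := exists_mem_cover hs t
  have := hc y
  change Points.ofPt ((J S).uliftYonedaEquiv.{u + 1}.symm (F.obj.map c.op s)) y ∈ W at this
  have e : (J S).uliftYonedaEquiv.{u + 1}.symm (F.obj.map c.op s) =
      (yon S).map c ≫ (J S).uliftYonedaEquiv.{u + 1}.symm s := by
    apply (J S).uliftYonedaEquiv.{u + 1}.injective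
    rw [Equiv.apply_symm_apply, ← GrothendieckTopology.uliftYonedaEquiv_naturality, Equiv.apply_symm_apply]
  rwa [e, ofPt_map_comp] at this

/-- The subsheaf of `F` of sections landing in a set of points. -/
def openSub (F : Sp S) (W : Set (Points F)) : Sp S :=
  ⟨(subfunctorOfSet F W).toFunctor, isSheaf_subfunctorOfSet F W⟩

def openSubι (F : Sp S) (W : Set (Points F)) : openSub F W ⟶ F :=
  ObjectProperty.homMk (subfunctorOfSet F W).ι

theorem openSub_lift {W : Set (Points F)} {T : Over S} (g : (yon S).obj T ⟶ F)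
    (hg : ∀ t, Points.ofPt g t ∈ W) : ∃ g' : (yon S).obj T ⟶ openSub F W, g' ≫ openSubι F W = g := by
  refine ⟨(J S).uliftYonedaEquiv.{u + 1}.symm ⟨(J S).uliftYonedaEquiv.{u + 1} g, fun t => ?_⟩, ?_⟩
  · rw [Equiv.symm_apply_apply]; exact hg t
  · apply (J S).uliftYonedaEquiv.{u + 1}.injective
    rw [GrothendieckTopology.uliftYonedaEquiv_comp, Equiv.apply_symm_apply]
    rfl

theorem openSub_mem {W : Set (Points F)} {T : Over S} (g' : (yon S).obj T ⟶ openSub F W) (t : ↥T.left) :
    Points.ofPt (g' ≫ openSubι F W) t ∈ W := by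
  have h := ((J S).uliftYonedaEquiv.{u + 1} g').2 t
  convert h using 2
  apply (J S).uliftYonedaEquiv.{u + 1}.injective
  rw [GrothendieckTopology.uliftYonedaEquiv_comp, Equiv.apply_symm_apply]
  rfl

theorem mono_openSubι (F : Sp S) (W : Set (Points F)) : Mono (openSubι F W) := by
  refine mono_of_yon fun T a b h => ?_
  apply (J S).uliftYonedaEquiv.{u + 1}.injective
  have h' := congrArg ((J S).uliftYonedaEquiv.{u + 1}) h
  rw [GrothendieckTopology.uliftYonedaEquiv_comp, GrothendieckTopology.uliftYonedaEquiv_comp] at h'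
  exact Subtype.ext h'

theorem repWith_openSubι {W : Set (Points F)} (hW : IsOpen W) :
    RepWith @IsOpenImmersion (openSubι F W) := by
  have := mono_openSubι F W
  refine repWith_mk fun T g => ?_
  let O : T.left.Opens := ⟨Points.ofPt g ⁻¹' W, Points.isOpen_iff.1 hW T g⟩
  let j : Over.mk (O.ι ≫ T.hom) ⟶ T := Over.homMk O.ι rfl
  obtain ⟨l, hl⟩ := openSub_lift (W := W) ((yon S).map j ≫ g) fun t => by
    rw [ofPt_map_comp]; exact t.2
  refine ⟨_, l, j, isPullback_of_yon hl fun T' a b hab => ?_, inferInstanceAs (IsOpenImmersion O.ι)⟩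
  obtain ⟨b, rfl⟩ := (yon S).map_surjective b
  have hb : Set.range b.left ⊆ Set.range O.ι := by
    rintro _ ⟨t, rfl⟩
    rw [Scheme.Opens.range_ι]
    change Points.ofPt g (b.left t) ∈ W
    rw [← ofPt_map_comp, ← hab]
    exact openSub_mem a t
  let c : T' ⟶ Over.mk (O.ι ≫ T.hom) := Over.homMk (IsOpenImmersion.lift O.ι b.left hb) (by
    change IsOpenImmersion.lift O.ι b.left hb ≫ O.ι ≫ T.hom = T'.hom
    rw [← Category.assoc, IsOpenImmersion.lift_fac]
    exact Over.w b)
  have hc : c ≫ j = b := Over.OverMorphism.ext (IsOpenImmersion.lift_fac _ _ _)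
  refine ⟨(yon S).map c, ⟨?_, by rw [← Functor.map_comp, hc]⟩, ?_⟩
  · rw [← cancel_mono (openSubι F W), Category.assoc, hl, ← Functor.map_comp_assoc, hc, hab]
  · rintro c' ⟨-, hc'⟩
    obtain ⟨c', rfl⟩ := (yon S).map_surjective c'
    congr 1
    have : Mono j.left := inferInstanceAs (Mono O.ι)
    have : Mono j := (Over.forget S).mono_of_mono_map this
    rw [← cancel_mono j, hc]
    exact (yon S).map_injective (by rw [Functor.map_comp]; exact hc')

theorem range_openSubι {W : Set (Points F)} : Set.range (Points.map (openSubι F W)) = W := by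
  apply Set.Subset.antisymm
  · rintro _ ⟨x, rfl⟩
    obtain ⟨K, _, str, g, rfl⟩ := exists_ofPt x
    rw [Points.map_ofPt]
    exact openSub_mem g _
  · intro x hx
    obtain ⟨K, _, str, g, rfl⟩ := exists_ofPt x
    have hsub : Subsingleton ↥(Over.mk str).left := inferInstanceAs (Subsingleton (PrimeSpectrum K))
    obtain ⟨g', rfl⟩ := openSub_lift (W := W) g fun t => by rwa [Subsingleton.elim t (IsLocalRing.closedPoint K)]
    exact ⟨Points.ofPt g' (IsLocalRing.closedPoint K), Points.map_ofPt _ _ _⟩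

theorem isAlgSpace_openSub {W : Set (Points F)} (hF : IsAlgSpace F) (hW : IsOpen W) :
    IsAlgSpace (openSub F W) :=
  isAlgSpace_of_representable hF (repWith_openSubι hW).1

theorem isIso_of_repWith_isomorphisms {f : F ⟶ G}
    (hf : RepWith (MorphismProperty.isomorphisms Scheme.{u}) f) : IsIso f := by
  refine isIso_of_yon fun T b => ?_
  obtain ⟨V, fst, snd, sq⟩ := exists_isPullback_of_representable hf.1 b
  have h1 : IsIso ((Over.forget S).map snd) := hf.2 _ _ _ sq
  have : IsIso snd := isIso_of_reflects_iso snd (Over.forget S)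
  refine ⟨(yon S).map (inv snd) ≫ fst, ?_, fun a ha => ?_⟩
  · change ((yon S).map (inv snd) ≫ fst) ≫ f = b
    rw [Category.assoc, sq.w, ← Functor.map_comp_assoc, IsIso.inv_hom_id, CategoryTheory.Functor.map_id, Category.id_comp]
  · obtain ⟨c, hc⟩ := (yon S).map_surjective (sq.lift a (𝟙 _) (by rw [ha, Category.id_comp]))
    have hc₂ : c ≫ snd = 𝟙 T := (yon S).map_injective (by rw [Functor.map_comp, hc, sq.lift_snd, CategoryTheory.Functor.map_id])
    rw [← IsIso.eq_comp_inv, Category.id_comp] at hc₂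
    rw [← sq.lift_fst a (𝟙 _) (by rw [ha, Category.id_comp]), ← hc, hc₂]

/-- A morphism lands in an open subspace iff it does so on points. -/
theorem exists_factor_iff {X X' Y : Sp S} {j : X' ⟶ X} (hj : RepWith @IsOpenImmersion j) (f : Y ⟶ X) :
    (∃ g : Y ⟶ X', g ≫ j = f) ↔ Set.range (Points.map f) ⊆ Set.range (Points.map j) := by
  constructor
  · rintro ⟨g, rfl⟩ _ ⟨y, rfl⟩
    exact ⟨Points.map g y, (Points.map_comp g j y).symm⟩
  · intro h
    have hp := repWith_of_isPullback (IsPullback.of_hasPullback f j).flip hj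
    have hs : RepWith @Surjective (pullback.fst f j) := (repWith_surjective_iff hp.1).2 fun y => by
      obtain ⟨x, hx⟩ := h ⟨y, rfl⟩
      obtain ⟨p, hp, -⟩ := exists_of_isPullback (IsPullback.of_hasPullback f j) hx.symm
      exact ⟨p, hp⟩
    have : IsIso (pullback.fst f j) := isIso_of_repWith_isomorphisms
      (repWith_mono (repWith_inf_iff.2 ⟨hp, hs⟩) fun A B k ⟨h₁, h₂⟩ => by
        have : IsOpenImmersion k := h₁
        have : Surjective k := h₂
        have : Epi k.base := by rw [TopCat.epi_iff_surjective]; exact k.surjective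
        exact (isIso_iff_isOpenImmersion_and_epi_base k).2 ⟨inferInstance, inferInstance⟩)
    exact ⟨inv (pullback.fst f j) ≫ pullback.snd f j, by
      rw [Category.assoc, ← pullback.condition, IsIso.inv_hom_id_assoc]⟩

theorem mono_of_openImmersion {X X' : Sp S} {j : X' ⟶ X} (hj : RepWith @IsOpenImmersion j) : Mono j := by
  refine mono_of_yon fun T a b hab => ?_
  obtain ⟨V, fst, snd, sq⟩ := exists_isPullback_of_representable hj.1 (a ≫ j)
  obtain ⟨α, hα⟩ := (yon S).map_surjective (sq.lift a (𝟙 _) (by simp))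
  obtain ⟨β, hβ⟩ := (yon S).map_surjective (sq.lift b (𝟙 _) (by simp [hab]))
  have hm : IsOpenImmersion snd.left := hj.2 _ _ _ sq
  have : Mono snd := (Over.forget S).mono_of_mono_map (inferInstanceAs (Mono snd.left))
  have : α = β := (cancel_mono snd).1 ((yon S).map_injective (by simp [hα, hβ]))
  rw [← sq.lift_fst a (𝟙 _) (by simp), ← sq.lift_fst b (𝟙 _) (by simp [hab]), ← hα, ← hβ, this]

theorem isOpen_range_openImmersion {X X' : Sp S} {j : X' ⟶ X} (hj : RepWith @IsOpenImmersion j) :
    IsOpen (Set.range (Points.map j)) :=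
  (isOpenMap_map_of_repWith (fun _ _ h (hh : IsOpenImmersion h) => h.isOpenEmbedding.isOpenMap) hj).isOpen_range

/-- Open subspaces with the same points are isomorphic. -/
theorem exists_iso_of_range_eq {X X' X'' : Sp S} {j : X' ⟶ X} {k : X'' ⟶ X} (hj : RepWith @IsOpenImmersion j)
    (hk : RepWith @IsOpenImmersion k) (h : Set.range (Points.map j) = Set.range (Points.map k)) :
    ∃ e : X' ≅ X'', e.hom ≫ k = j := by
  obtain ⟨a, ha⟩ := (exists_factor_iff hk j).2 h.le
  obtain ⟨b, hb⟩ := (exists_factor_iff hj k).2 h.ge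
  have := mono_of_openImmersion hj
  have := mono_of_openImmersion hk
  exact ⟨⟨a, b, by rw [← cancel_mono j, Category.assoc, hb, ha, Category.id_comp],
    by rw [← cancel_mono k, Category.assoc, ha, hb, Category.id_comp]⟩, ha⟩

end GrothLib.AlgSp
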