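import Groth.Agent.Lib.AlgSp.Descent

/-!
# Fibre products and charts of algebraic spaces
-/

universe u

open CategoryTheory CategoryTheory.Limits AlgebraicGeometry Opposite

namespace GrothLib.AlgSp

open _root_.AlgSp

variable {S : Scheme.{u}}

theorem representable_diag_terminal : Representable (Limits.diag (⊤_ Sp S)) := by
  have : IsIso (Limits.diag (⊤_ Sp S)) :=
    ⟨prod.fst, Subsingleton.elim _ _, by apply prod.hom_ext <;> exact Subsingleton.elim _ _⟩
  exact Functor.relativelyRepresentable.of_isIso _ _

/-- Two maps from schemes into an algebraic space have a scheme as fibre product. -/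
theorem exists_isPullback_yon {F : Sp S} (hF : Representable (Limits.diag F)) {U V : Over S}
    (a : (yon S).obj U ⟶ F) (b : (yon S).obj V ⟶ F) :
    ∃ (R : Over S) (fst : R ⟶ U) (snd : R ⟶ V), IsPullback ((yon S).map fst) ((yon S).map snd) a b := by
  obtain ⟨R, fst, snd, sq⟩ := exists_isPullback_of_representable (representable_diag_iff.1 hF a) b
  obtain ⟨fst, rfl⟩ := (yon S).map_surjective fst
  exact ⟨R, fst, snd, sq⟩

theorem representable_diag_pullback {H X Y P : Sp S} (hX : Representable (Limits.diag X))
    (hY : Representable (Limits.diag Y)) {f : X ⟶ H} {g : Y ⟶ H} {fst : P ⟶ X} {snd : P ⟶ Y}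
    (h : IsPullback fst snd f g) : Representable (Limits.diag P) := by
  rw [representable_diag_iff]
  intro T a T' b
  obtain ⟨A, A₁, A₂, hA⟩ := exists_isPullback_yon hX (a ≫ fst) (b ≫ fst)
  obtain ⟨B, B₁, B₂, hB⟩ := exists_isPullback_yon hY (a ≫ snd) (b ≫ snd)
  let α : A ⟶ T ⨯ T' := prod.lift A₁ A₂
  let β : B ⟶ T ⨯ T' := prod.lift B₁ B₂
  have h1 : pullback.fst α β ≫ A₁ = pullback.snd α β ≫ B₁ := by
    have := congrArg (fun x => x ≫ Limits.prod.fst) (pullback.condition (f := α) (g := β))
    simpa only [α, β, Category.assoc, prod.lift_fst] using this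
  have h2 : pullback.fst α β ≫ A₂ = pullback.snd α β ≫ B₂ := by
    have := congrArg (fun x => x ≫ Limits.prod.snd) (pullback.condition (f := α) (g := β))
    simpa only [α, β, Category.assoc, prod.lift_snd] using this
  refine ⟨pullback α β, pullback.fst α β ≫ A₂, (yon S).map (pullback.fst α β ≫ A₁), ?_⟩
  refine isPullback_of_yon ?_ fun W u v huv => ?_
  · apply h.hom_ext
    · simp only [Functor.map_comp, Category.assoc, hA.w]
    · rw [h1, h2]
      simp only [Functor.map_comp, Category.assoc, hB.w]
  · obtain ⟨u, rfl⟩ := (yon S).map_surjective u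
    obtain ⟨v, rfl⟩ := (yon S).map_surjective v
    have eX := congrArg (fun x => x ≫ fst) huv
    have eY := congrArg (fun x => x ≫ snd) huv
    simp only [Category.assoc] at eX eY
    let ca : W ⟶ A := (yon S).preimage (hA.lift _ _ eX)
    let cb : W ⟶ B := (yon S).preimage (hB.lift _ _ eY)
    have a1 : ca ≫ A₁ = u := (yon S).map_injective (by simp [ca])
    have a2 : ca ≫ A₂ = v := (yon S).map_injective (by simp [ca])
    have b1 : cb ≫ B₁ = u := (yon S).map_injective (by simp [cb])
    have b2 : cb ≫ B₂ = v := (yon S).map_injective (by simp [cb])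
    have hc : ca ≫ α = cb ≫ β := by apply prod.hom_ext <;> simp [α, β, a1, a2, b1, b2]
    refine ⟨(yon S).map (pullback.lift ca cb hc), ⟨?_, ?_⟩, ?_⟩
    · rw [← Functor.map_comp, pullback.lift_fst_assoc, a1]
    · rw [← Functor.map_comp, pullback.lift_fst_assoc, a2]
    · rintro c ⟨c1, c2⟩
      obtain ⟨c, rfl⟩ := (yon S).map_surjective c
      rw [← Functor.map_comp] at c1 c2
      have c1' := (yon S).map_injective c1
      have c2' := (yon S).map_injective c2
      congr 1
      apply pullback.hom_ext
      · rw [pullback.lift_fst]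
        apply (yon S).map_injective
        apply hA.hom_ext <;> rw [← Functor.map_comp, ← Functor.map_comp, Category.assoc]
        · rw [c1', a1]
        · rw [c2', a2]
      · rw [pullback.lift_snd]
        apply (yon S).map_injective
        apply hB.hom_ext <;> rw [← Functor.map_comp, ← Functor.map_comp, Category.assoc]
        · rw [← h1, c1', b1]
        · rw [← h2, c2', b2]

/-- Fibre products of algebraic spaces over a sheaf with representable diagonal. -/
theorem isAlgSpace_pullback {H X Y P : Sp S} (hH : Representable (Limits.diag H)) (hX : IsAlgSpace X)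
    (hY : IsAlgSpace Y) {f : X ⟶ H} {g : Y ⟶ H} {fst : P ⟶ X} {snd : P ⟶ Y}
    (h : IsPullback fst snd f g) : IsAlgSpace P := by
  refine ⟨representable_diag_pullback hX.diag hY.diag h, ?_⟩
  obtain ⟨U, p, pe, ps⟩ := hX.atlas
  obtain ⟨V, q, qe, qs⟩ := hY.atlas
  obtain ⟨W, w₁, w₂, hW⟩ := exists_isPullback_yon hH (p ≫ f) (q ≫ g)
  let m : pullback (p ≫ f) g ⟶ P :=
    h.lift (pullback.fst (p ≫ f) g ≫ p) (pullback.snd (p ≫ f) g) (by rw [Category.assoc, pullback.condition])
  have sq₁ : IsPullback m (pullback.fst (p ≫ f) g) fst p :=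
    IsPullback.of_right (h₁₂ := snd) (h₂₂ := f) (v₁₃ := g)
      (by simpa only [m, IsPullback.lift_snd] using (IsPullback.of_hasPullback (p ≫ f) g).flip)
      (by simp only [m, IsPullback.lift_fst]) h.flip
  let n : (yon S).obj W ⟶ pullback (p ≫ f) g :=
    pullback.lift ((yon S).map w₁) ((yon S).map w₂ ≫ q) (by rw [hW.w, Category.assoc])
  have sq₂ : IsPullback n ((yon S).map w₂) (pullback.snd (p ≫ f) g) q :=
    IsPullback.of_right (by simpa only [n, pullback.lift_fst] using hW)
      (by simp only [n, pullback.lift_snd]) (IsPullback.of_hasPullback (p ≫ f) g)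
  exact ⟨W, n ≫ m, repWith_comp (repWith_of_isPullback sq₂.flip qe) (repWith_of_isPullback sq₁.flip pe),
    repWith_comp (repWith_of_isPullback sq₂.flip qs) (repWith_of_isPullback sq₁.flip ps)⟩

theorem isAlgSpace_pullback' {H X Y : Sp S} (hH : IsAlgSpace H) (hX : IsAlgSpace X) (hY : IsAlgSpace Y)
    (f : X ⟶ H) (g : Y ⟶ H) : IsAlgSpace (pullback f g) :=
  isAlgSpace_pullback hH.diag hX hY (IsPullback.of_hasPullback f g)

theorem isAlgSpace_prod {X Y : Sp S} (hX : IsAlgSpace X) (hY : IsAlgSpace Y) : IsAlgSpace (X ⨯ Y) :=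
  isAlgSpace_pullback representable_diag_terminal hX hY
    (IsPullback.of_hasBinaryProduct' X Y)

/-- A sheaf with a representable map to an algebraic space is an algebraic space. -/
theorem isAlgSpace_of_representable {G X : Sp S} (hX : IsAlgSpace X) {a : G ⟶ X} (ha : Representable a) :
    IsAlgSpace G := by
  refine ⟨representable_diag_of_representable ha hX.diag, ?_⟩
  obtain ⟨U, p, pe, ps⟩ := hX.atlas
  obtain ⟨V, fst, snd, sq⟩ := exists_isPullback_of_representable ha p
  exact ⟨V, fst, repWith_of_isPullback sq.flip pe, repWith_of_isPullback sq.flip ps⟩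

theorem chart_isLocallySurjective {X : Sp S} {U : Over S} {p : (yon S).obj U ⟶ X} (pe : RepWith @Etale p)
    (ps : RepWith @Surjective p) : Sheaf.IsLocallySurjective p :=
  isLocallySurjective_of_repWith (repWith_mono pe fun _ _ g _ => (inferInstance : Flat g))
    (repWith_mono pe fun _ _ g _ => (inferInstance : LocallyOfFinitePresentation g)) ps

/-- Charts lift along morphisms of algebraic spaces. -/
theorem exists_chart_over {X Y : Sp S} (hX : IsAlgSpace X) (hY : IsAlgSpace Y) (a : X ⟶ Y) {V : Over S}
    (q : (yon S).obj V ⟶ Y) (qe : RepWith @Etale q) :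
    ∃ (U : Over S) (p : (yon S).obj U ⟶ X) (α : U ⟶ V),
      RepWith @Etale p ∧ p ≫ a = (yon S).map α ≫ q ∧ (RepWith @Surjective q → RepWith @Surjective p) := by
  obtain ⟨U, p, pe, ps⟩ := (isAlgSpace_pullback' hY hX (IsAlgSpace.yon_obj V) a q).atlas
  refine ⟨U, p ≫ pullback.fst a q, (yon S).preimage (p ≫ pullback.snd a q), ?_, ?_, fun qs => ?_⟩
  · exact repWith_comp pe (repWith_of_isPullback (IsPullback.of_hasPullback a q).flip qe)
  · rw [Functor.map_preimage, Category.assoc, Category.assoc, pullback.condition]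
  · exact repWith_comp ps (repWith_of_isPullback (IsPullback.of_hasPullback a q).flip qs)

end GrothLib.AlgSp
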