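import Mathlib.Topology.LocallyClosed
import Groth.Agent.Lib.AlgSp.OpenSub
import Groth.Agent.Lib.AlgSp.Space
import Groth.Agent.Lib.AlgSp.LocP

/-!
# Points of immersions, small open neighbourhoods
-/

universe u

open CategoryTheory CategoryTheory.Limits AlgebraicGeometry Opposite Topology

namespace GrothLib.AlgSp

open _root_.AlgSp

variable {S : Scheme.{u}} {F G : Sp S}

theorem exists_ofPt_of_map_eq {f : F ⟶ G} {T P : Over S} {g : (yon S).obj T ⟶ G} {fst : (yon S).obj P ⟶ F}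
    {snd : P ⟶ T} (sq : IsPullback fst ((yon S).map snd) f g) {z : Points F} {t : ↥T.left}
    (e : Points.map f z = Points.ofPt g t) : ∃ r, Points.ofPt fst r = z ∧ snd.left r = t := by
  rw [Points.ofPt_eq_map_ofScheme g t] at e
  obtain ⟨p, hp₁, hp₂⟩ := exists_of_isPullback sq e
  obtain ⟨r, rfl⟩ := (Points.schemeEquiv P).surjective p
  exact ⟨r, (Points.ofPt_eq_map_ofScheme fst r).trans hp₁,
    (Points.schemeEquiv T).injective ((map_yon_ofPt snd r).symm.trans hp₂)⟩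

theorem map_ofPt_fst {f : F ⟶ G} {T P : Over S} {g : (yon S).obj T ⟶ G} {fst : (yon S).obj P ⟶ F}
    {snd : P ⟶ T} (sq : IsPullback fst ((yon S).map snd) f g) (r : ↥P.left) :
    Points.map f (Points.ofPt fst r) = Points.ofPt g (snd.left r) := by
  rw [Points.map_ofPt, sq.w, ofPt_map_comp]

theorem preimage_range_map {f : F ⟶ G} {T P : Over S} {g : (yon S).obj T ⟶ G} {fst : (yon S).obj P ⟶ F}
    {snd : P ⟶ T} (sq : IsPullback fst ((yon S).map snd) f g) :
    Points.ofPt g ⁻¹' Set.range (Points.map f) = Set.range snd.left := by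
  ext t
  constructor
  · rintro ⟨z, hz⟩
    obtain ⟨r, -, hr⟩ := exists_ofPt_of_map_eq sq hz
    exact ⟨r, hr⟩
  · rintro ⟨r, rfl⟩
    exact ⟨_, map_ofPt_fst sq r⟩

theorem injective_map_of_repWith {P : MorphismProperty Scheme.{u}}
    (hP : ∀ ⦃A B : Scheme.{u}⦄ (h : A ⟶ B), P h → Function.Injective h) {f : F ⟶ G} (hf : RepWith P f) :
    Function.Injective (Points.map f) := fun z₁ z₂ e => by
  obtain ⟨K, _, str, g, hg⟩ := exists_ofPt (Points.map f z₁)
  obtain ⟨V, fst, snd, sq⟩ := exists_isPullback_of_representable hf.1 g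
  obtain ⟨r₁, rfl, h₁⟩ := exists_ofPt_of_map_eq sq hg.symm
  obtain ⟨r₂, rfl, h₂⟩ := exists_ofPt_of_map_eq sq (e.symm.trans hg.symm)
  rw [hP snd.left (hf.2 _ _ _ sq) (h₁.trans h₂.symm)]

theorem isEmbedding_map_of_repWith {P : MorphismProperty Scheme.{u}}
    (hP : ∀ ⦃A B : Scheme.{u}⦄ (h : A ⟶ B), P h → IsEmbedding h) (hG : IsAlgSpace G) {f : F ⟶ G}
    (hf : RepWith P f) : IsEmbedding (Points.map f) := by
  refine ⟨⟨?_⟩, injective_map_of_repWith (fun _ _ h hh => (hP h hh).injective) hf⟩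
  refine le_antisymm ((Points.continuous_map f).le_induced) fun A hA => ?_
  obtain ⟨U, p, pe, ps⟩ := hG.atlas
  obtain ⟨V, fst, snd, sq⟩ := exists_isPullback_of_representable hf.1 p
  have hi := hP snd.left (hf.2 _ _ _ sq)
  obtain ⟨B, hB, hBA⟩ := hi.isInducing.isOpen_iff.1 (hA.preimage (Points.continuous_ofPt fst))
  refine ⟨Points.ofPt p '' B, isOpenMap_ofPt_of_etale pe _ hB, ?_⟩
  ext z
  constructor
  · rintro ⟨b, hb, e⟩
    obtain ⟨r, rfl, rfl⟩ := exists_ofPt_of_map_eq sq e.symm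
    exact (Set.ext_iff.1 hBA r).1 hb
  · intro hz
    obtain ⟨u, hu⟩ := surjective_ofPt_of_repWith ps (Points.map f z)
    obtain ⟨r, rfl, rfl⟩ := exists_ofPt_of_map_eq sq hu.symm
    exact ⟨_, (Set.ext_iff.1 hBA r).2 hz, hu⟩

theorem isLocallyClosed_range_map_of_repWith {P : MorphismProperty Scheme.{u}}
    (hP : ∀ ⦃A B : Scheme.{u}⦄ (h : A ⟶ B), P h → IsLocallyClosed (Set.range h)) (hG : IsAlgSpace G)
    {f : F ⟶ G} (hf : RepWith P f) : IsLocallyClosed (Set.range (Points.map f)) := by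
  obtain ⟨U, p, pe, ps⟩ := hG.atlas
  obtain ⟨V, fst, snd, sq⟩ := exists_isPullback_of_representable hf.1 p
  rw [isLocallyClosed_iff_isOpen_coborder,
    ← (isOpenQuotientMap_ofPt pe ps).isQuotientMap.isOpen_preimage,
    ← coborder_preimage (isOpenMap_ofPt_of_etale pe) (Points.continuous_ofPt p), preimage_range_map sq,
    ← isLocallyClosed_iff_isOpen_coborder]
  exact hP snd.left (hf.2 _ _ _ sq)

/-- A chart with image in an open subspace factors through it. -/
theorem exists_factor_chart (hG : IsAlgSpace G) {U : Over S} {a : (yon S).obj U ⟶ G} (ha : RepWith @Etale a)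
    {j : F ⟶ G} (hj : RepWith @IsOpenImmersion j)
    (h : Set.range (Points.ofPt a) ⊆ Set.range (Points.map j)) :
    ∃ a' : (yon S).obj U ⟶ F, a' ≫ j = a ∧ RepWith @Etale a' ∧
      (Set.range (Points.map j) ⊆ Set.range (Points.ofPt a) → RepWith @Surjective a') := by
  obtain ⟨a', rfl⟩ := (exists_factor_iff hj a).2 fun _ ⟨z, hz⟩ => h (by
    obtain ⟨u, rfl⟩ := (Points.schemeEquiv U).surjective z
    exact ⟨u, (Points.ofPt_eq_map_ofScheme a u).trans hz⟩)
  have := mono_of_openImmersion hj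
  have sq : IsPullback (𝟙 ((yon S).obj U)) a' (a' ≫ j) j := by
    refine IsPullback.of_isLimit' ⟨by simp⟩ (PullbackCone.IsLimit.mk _ (fun s => s.fst)
      (fun s => Category.comp_id _) (fun s => ?_) (fun s m h₁ _ => by simpa using h₁))
    rw [← cancel_mono j, Category.assoc]
    exact s.condition
  have he : RepWith @Etale a' := repWith_of_isPullback sq ha
  exact ⟨a', rfl, he, fun hr => repWith_surjective_of_ofPt he.1 fun z => by
    obtain ⟨u, hu⟩ := hr ⟨z, rfl⟩
    refine ⟨u, injective_map_of_repWith (fun _ _ k (hk : IsOpenImmersion k) => k.isOpenEmbedding.injective) hj ?_⟩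
    rw [Points.map_ofPt, hu]⟩

/-- Affine schemes etale over a space, through a point, with image in a given open set. -/
theorem exists_affine_chart_mem (hF : IsAlgSpace F) {W : Set (Points F)} (hW : IsOpen W) {x : Points F}
    (hx : x ∈ W) (V : S.Opens → Prop) (hV : ∀ s : S, ∃ O, V O ∧ s ∈ O) :
    ∃ (U : Over S) (p : (yon S).obj U ⟶ F), IsAffine U.left ∧ RepWith @Etale p ∧
      x ∈ Set.range (Points.ofPt p) ∧ Set.range (Points.ofPt p) ⊆ W ∧
      ∃ O, V O ∧ ∀ u, U.hom u ∈ O := by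
  obtain ⟨U, p, pe, ps⟩ := hF.atlas
  obtain ⟨u, rfl⟩ := surjective_ofPt_of_repWith ps x
  obtain ⟨O, hO, huO⟩ := hV (U.hom u)
  obtain ⟨_, ⟨A, hA, rfl⟩, huA, hAsub⟩ := U.left.isBasis_affineOpens.exists_subset_of_mem_open
    (show u ∈ Points.ofPt p ⁻¹' W ∩ U.hom ⁻¹' O from ⟨hx, huO⟩)
    ((hW.preimage (Points.continuous_ofPt p)).inter (O.2.preimage U.hom.continuous))
  let j : Over.mk ((Scheme.Opens.ι A) ≫ U.hom) ⟶ U := Over.homMk (Scheme.Opens.ι A) rfl
  refine ⟨_, (yon S).map j ≫ p, hA,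
    repWith_comp ((repWith_yon_map_iff _ _).2 (inferInstanceAs (Etale (Scheme.Opens.ι A)))) pe,
    ⟨⟨u, huA⟩, by rw [ofPt_map_comp]; rfl⟩, ?_, O, hO, fun a => (hAsub a.2).2⟩
  rintro _ ⟨a, rfl⟩
  rw [ofPt_map_comp]
  exact (hAsub a.2).1

theorem isZariskiLocalAtSource_of_cases {P : MorphismProperty Scheme.{u}}
    (hP : P = @LocallyOfFiniteType ∨ P = @LocallyOfFinitePresentation ∨ P = @Flat ∨ P = @Smooth ∨
      P = @Etale ∨
      (∀ ⦃A B : Scheme.{u}⦄ (g : A ⟶ B), P g ↔ (LocallyQuasiFinite g ∧ LocallyOfFiniteType g)) ∨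
      (∀ ⦃A B : Scheme.{u}⦄ (g : A ⟶ B), P g ↔ (LocallyOfFiniteType g ∧ FormallyUnramified g))) :
    IsZariskiLocalAtSource P := by
  rcases hP with rfl | rfl | rfl | rfl | rfl | h | h
  iterate 5 infer_instance
  · obtain rfl : P = (@LocallyQuasiFinite ⊓ @LocallyOfFiniteType : MorphismProperty Scheme.{u}) :=
      MorphismProperty.ext _ _ fun _ _ g => h g
    infer_instance
  · obtain rfl : P = (@LocallyOfFiniteType ⊓ @FormallyUnramified : MorphismProperty Scheme.{u}) :=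
      MorphismProperty.ext _ _ fun _ _ g => h g
    infer_instance

theorem exists_open_locP_of_hasAtMor {P : MorphismProperty Scheme.{u}} (hP : EtLocal P) (hF : IsAlgSpace F)
    {f : F ⟶ G} {x : Points F}
    (h : HasAtMor (fun U _ h u => ∃ W : U.Opens, u ∈ W ∧ P (W.ι ≫ h)) f x) :
    ∃ W : Set (Points F), IsOpen W ∧ x ∈ W ∧ LocP P (openSubι F W ≫ f) := by
  obtain ⟨U, V, a, b, h, u, ha, hb, comm, rfl, O, hu, hO⟩ := h
  let j : Over.mk (O.ι ≫ U.hom) ⟶ U := Over.homMk O.ι rfl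
  have hja : RepWith @Etale ((yon S).map j ≫ a) :=
    repWith_comp ((repWith_yon_map_iff _ _).2 (inferInstanceAs (Etale O.ι))) ha
  have hW := (isOpenMap_ofPt_of_etale hja).isOpen_range
  refine ⟨_, hW, ⟨⟨u, hu⟩, by rw [ofPt_map_comp]; rfl⟩, ?_⟩
  obtain ⟨a', e, he, hs⟩ := exists_factor_chart hF hja (repWith_openSubι hW) range_openSubι.ge
  refine hP.locP_of_chart he (hs range_openSubι.le) hb (h := j ≫ h) ?_ hO
  rw [← Category.assoc, e, Category.assoc, comm, ← Functor.map_comp_assoc]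

theorem locP_of_open_cover {P : MorphismProperty Scheme.{u}} [IsZariskiLocalAtSource P] (hF : IsAlgSpace F)
    {f : F ⟶ G} (h : ∀ x, ∃ W : Set (Points F), IsOpen W ∧ x ∈ W ∧ LocP P (openSubι F W ≫ f)) :
    LocP P f := fun U V a b h' ha hb comm => by
  choose W hW hx hL using h
  let O : ↥U.left → U.left.Opens := fun u =>
    ⟨Points.ofPt a ⁻¹' W (Points.ofPt a u), (hW _).preimage (Points.continuous_ofPt a)⟩
  refine IsZariskiLocalAtSource.of_iSup_eq_top O ?_ fun u => ?_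
  · exact top_le_iff.1 fun u _ => TopologicalSpace.Opens.mem_iSup.2 ⟨u, hx (Points.ofPt a u)⟩
  let j : Over.mk ((O u).ι ≫ U.hom) ⟶ U := Over.homMk (O u).ι rfl
  have hja : RepWith @Etale ((yon S).map j ≫ a) :=
    repWith_comp ((repWith_yon_map_iff _ _).2 (inferInstanceAs (Etale (O u).ι))) ha
  obtain ⟨a', e, he, -⟩ := exists_factor_chart hF hja (repWith_openSubι (hW (Points.ofPt a u))) (by
    rw [range_openSubι]
    rintro _ ⟨t, rfl⟩
    rw [ofPt_map_comp]
    exact t.2)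
  refine hL _ a' b (j ≫ h') he hb ?_
  rw [← Category.assoc, e, Category.assoc, comm, ← Functor.map_comp_assoc]

theorem hasAtMor_of_locP {P : MorphismProperty Scheme.{u}} [IsZariskiLocalAtSource P] (hF : IsAlgSpace F)
    (hG : IsAlgSpace G) {f : F ⟶ G} {F' : Sp S} (hF' : IsAlgSpace F') {j : F' ⟶ F}
    (hj : RepWith @Etale j) (h : LocP P (j ≫ f)) {x : Points F} (hx : x ∈ Set.range (Points.map j)) :
    HasAtMor (fun U _ h u => ∃ W : U.Opens, u ∈ W ∧ P (W.ι ≫ h)) f x := by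
  obtain ⟨V, q, qe, qs⟩ := hG.atlas
  obtain ⟨U, p, α, pe, comm, hs⟩ := exists_chart_over hF' hG (j ≫ f) q qe
  obtain ⟨z, rfl⟩ := hx
  obtain ⟨u, rfl⟩ := surjective_ofPt_of_repWith (hs qs) z
  exact ⟨U, V, p ≫ j, q, α, u, repWith_comp pe hj, qe, by rw [Category.assoc, comm],
    (Points.map_ofPt _ _ _).symm, ⊤, trivial, IsZariskiLocalAtSource.comp (h p q α pe qe comm) _⟩

end GrothLib.AlgSp
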