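import Mathlib.AlgebraicGeometry.Gluing
import Groth.Agent.Lib.AlgSp.Immersion

/-!
# A sheaf with an open cover by schemes is a scheme
-/

universe u

open CategoryTheory CategoryTheory.Limits AlgebraicGeometry Opposite Topology

namespace GrothLib.AlgSp

open _root_.AlgSp

variable {S : Scheme.{u}}

theorem eq_bot_of_isEmpty_ofArrows {T : Over S} {ι : Type u} (V : ι → Over S) (c : ∀ i, V i ⟶ T)
    (ho : ∀ i, IsOpenImmersion (c i).left) (hs : ∀ x : ↥T.left, ∃ i y, (c i).left y = x) :
    Sieve.ofArrows V c ∈ J S T :=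
  ofArrows_mem V c (fun i => have := ho i; inferInstance) (fun i => have := ho i; inferInstance) hs

/-- Maps into a sheaf glue on an open cover of a scheme. -/
theorem exists_hom_of_openCover {F : Sp S} {T : Over S} {ι : Type u} (V : ι → Over S) (c : ∀ i, V i ⟶ T)
    (ho : ∀ i, IsOpenImmersion (c i).left) (hs : ∀ x : ↥T.left, ∃ i y, (c i).left y = x)
    (l : ∀ i, (yon S).obj (V i) ⟶ F)
    (hl : ∀ (i j : ι) (Z : Over S) (gi : Z ⟶ V i) (gj : Z ⟶ V j), gi ≫ c i = gj ≫ c j →
      (yon S).map gi ≫ l i = (yon S).map gj ≫ l j) :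
    ∃! l' : (yon S).obj T ⟶ F, ∀ i, (yon S).map (c i) ≫ l' = l i := by
  have hsh := (isSheaf_iff_isSheaf_of_type _ _).1 F.property _ (eq_bot_of_isEmpty_ofArrows V c ho hs)
  rw [Sieve.ofArrows, ← Presieve.isSheafFor_iff_generate, Presieve.isSheafFor_arrows_iff] at hsh
  obtain ⟨t, ht, hu⟩ := hsh (fun i => (J S).uliftYonedaEquiv.{u + 1} (l i)) (by
    intro i j Z gi gj hg
    rw [GrothendieckTopology.uliftYonedaEquiv_naturality, GrothendieckTopology.uliftYonedaEquiv_naturality,
      hl i j Z gi gj hg])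
  refine ⟨(J S).uliftYonedaEquiv.{u + 1}.symm t, fun i => ?_, fun l' hl' => ?_⟩
  · apply (J S).uliftYonedaEquiv.{u + 1}.injective
    rw [← GrothendieckTopology.uliftYonedaEquiv_naturality, Equiv.apply_symm_apply]
    exact ht i
  · apply (J S).uliftYonedaEquiv.{u + 1}.injective
    rw [Equiv.apply_symm_apply]
    refine hu _ fun i => ?_
    rw [GrothendieckTopology.uliftYonedaEquiv_naturality, hl' i]

theorem exists_hom_of_openCover_yon {M T : Over S} {ι : Type u} (V : ι → Over S) (c : ∀ i, V i ⟶ T)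
    (ho : ∀ i, IsOpenImmersion (c i).left) (hs : ∀ x : ↥T.left, ∃ i y, (c i).left y = x)
    (l : ∀ i, V i ⟶ M)
    (hl : ∀ (i j : ι) (Z : Over S) (gi : Z ⟶ V i) (gj : Z ⟶ V j), gi ≫ c i = gj ≫ c j →
      gi ≫ l i = gj ≫ l j) :
    ∃! l' : T ⟶ M, ∀ i, c i ≫ l' = l i := by
  obtain ⟨L, hL, hu⟩ := exists_hom_of_openCover V c ho hs (fun i => (yon S).map (l i)) fun i j Z gi gj h => by
    rw [← Functor.map_comp, ← Functor.map_comp, hl i j Z gi gj h]
  obtain ⟨L, rfl⟩ := (yon S).map_surjective L
  refine ⟨L, fun i => (yon S).map_injective (by rw [Functor.map_comp, hL i]), fun L' hL' => ?_⟩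
  exact (yon S).map_injective (hu _ fun i => by rw [← Functor.map_comp, hL' i])

section Glue

variable {G : Sp S} {ι : Type u} (X : ι → Over S) (f : ∀ i, (yon S).obj (X i) ⟶ G)
  (hf : ∀ i, RepWith @IsOpenImmersion (f i))

include hf in
theorem exists_overlap (i j : ι) : ∃ (P : Over S) (a : P ⟶ X i) (b : P ⟶ X j),
    IsPullback ((yon S).map a) ((yon S).map b) (f i) (f j) := by
  obtain ⟨P, fst, snd, sq⟩ := exists_isPullback_of_representable (hf i).1 (f j)
  obtain ⟨fst, rfl⟩ := (yon S).map_surjective fst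
  exact ⟨P, fst, snd, sq⟩

noncomputable def ovP (i j : ι) : Over S := (exists_overlap X f hf i j).choose
noncomputable def ovA (i j : ι) : ovP X f hf i j ⟶ X i := (exists_overlap X f hf i j).choose_spec.choose
noncomputable def ovB (i j : ι) : ovP X f hf i j ⟶ X j :=
  (exists_overlap X f hf i j).choose_spec.choose_spec.choose

theorem ov_sq (i j : ι) :
    IsPullback ((yon S).map (ovA X f hf i j)) ((yon S).map (ovB X f hf i j)) (f i) (f j) :=
  (exists_overlap X f hf i j).choose_spec.choose_spec.choose_spec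

theorem isOpenImmersion_ovA (i j : ι) : IsOpenImmersion (ovA X f hf i j).left :=
  (hf j).2 _ _ _ (ov_sq X f hf i j).flip

include hf in
theorem eq_of_map_comp_eq {i : ι} {T : Over S} {x y : T ⟶ X i}
    (h : (yon S).map x ≫ f i = (yon S).map y ≫ f i) : x = y := by
  have := mono_of_openImmersion (hf i)
  exact (yon S).map_injective ((cancel_mono (f i)).1 h)

variable {X f}

theorem exists_ov_lift {i j : ι} {T : Over S} (x : T ⟶ X i) (y : T ⟶ X j)
    (h : (yon S).map x ≫ f i = (yon S).map y ≫ f j) :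
    ∃ r : T ⟶ ovP X f hf i j, r ≫ ovA X f hf i j = x ∧ r ≫ ovB X f hf i j = y := by
  obtain ⟨r, hr⟩ := (yon S).map_surjective ((ov_sq X f hf i j).lift _ _ h)
  exact ⟨r, (yon S).map_injective (by rw [Functor.map_comp, hr, IsPullback.lift_fst]),
    (yon S).map_injective (by rw [Functor.map_comp, hr, IsPullback.lift_snd])⟩

noncomputable def ovLift {i j : ι} {T : Over S} (x : T ⟶ X i) (y : T ⟶ X j)
    (h : (yon S).map x ≫ f i = (yon S).map y ≫ f j) : T ⟶ ovP X f hf i j :=
  (exists_ov_lift hf x y h).choose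

@[reassoc]
theorem ovLift_A {i j : ι} {T : Over S} (x : T ⟶ X i) (y : T ⟶ X j)
    (h : (yon S).map x ≫ f i = (yon S).map y ≫ f j) : ovLift hf x y h ≫ ovA X f hf i j = x :=
  (exists_ov_lift hf x y h).choose_spec.1

@[reassoc]
theorem ovLift_B {i j : ι} {T : Over S} (x : T ⟶ X i) (y : T ⟶ X j)
    (h : (yon S).map x ≫ f i = (yon S).map y ≫ f j) : ovLift hf x y h ≫ ovB X f hf i j = y :=
  (exists_ov_lift hf x y h).choose_spec.2

variable (X f)

/-- The overlap symmetry. -/
noncomputable def ovT (i j : ι) : ovP X f hf i j ⟶ ovP X f hf j i :=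
  ovLift hf (ovB X f hf i j) (ovA X f hf i j) (ov_sq X f hf i j).w.symm

@[reassoc] theorem ovT_A (i j : ι) : ovT X f hf i j ≫ ovA X f hf j i = ovB X f hf i j := ovLift_A ..
@[reassoc] theorem ovT_B (i j : ι) : ovT X f hf i j ≫ ovB X f hf j i = ovA X f hf i j := ovLift_B ..

/-- The triple overlaps. -/
noncomputable def ovQ (i j k : ι) : Over S :=
  Over.mk (pullback.fst (ovA X f hf i j).left (ovA X f hf i k).left ≫ (ovP X f hf i j).hom)

noncomputable def ovQ₁ (i j k : ι) : ovQ X f hf i j k ⟶ ovP X f hf i j := Over.homMk (pullback.fst _ _) rfl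

noncomputable def ovQ₂ (i j k : ι) : ovQ X f hf i j k ⟶ ovP X f hf i k :=
  Over.homMk (pullback.snd (ovA X f hf i j).left (ovA X f hf i k).left) (by
    change pullback.snd _ _ ≫ _ = pullback.fst _ _ ≫ _
    rw [← Over.w (ovA X f hf i j), ← Over.w (ovA X f hf i k), ← pullback.condition_assoc])

theorem ovQ_w (i j k : ι) : ovQ₁ X f hf i j k ≫ ovA X f hf i j = ovQ₂ X f hf i j k ≫ ovA X f hf i k :=
  Over.OverMorphism.ext pullback.condition

noncomputable def ovU (i j k : ι) : ovQ X f hf i j k ⟶ ovP X f hf j k :=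
  ovLift hf (ovQ₁ X f hf i j k ≫ ovB X f hf i j) (ovQ₂ X f hf i j k ≫ ovB X f hf i k) (by
    rw [Functor.map_comp, Functor.map_comp, Category.assoc, Category.assoc, ← (ov_sq X f hf i j).w,
      ← (ov_sq X f hf i k).w, ← Functor.map_comp_assoc, ← Functor.map_comp_assoc, ovQ_w])

noncomputable def ovT' (i j k : ι) :
    pullback (ovA X f hf i j).left (ovA X f hf i k).left ⟶ pullback (ovA X f hf j k).left (ovA X f hf j i).left :=
  pullback.lift (ovU X f hf i j k).left (ovQ₁ X f hf i j k ≫ ovT X f hf i j).left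
    (congrArg (fun q : ovQ X f hf i j k ⟶ X j => q.left)
      (show ovU X f hf i j k ≫ ovA X f hf j k = (ovQ₁ X f hf i j k ≫ ovT X f hf i j) ≫ ovA X f hf j i by
        rw [ovU, ovLift_A, Category.assoc, ovT_A]))

theorem ovT'_fst (i j k : ι) : ovT' X f hf i j k ≫ pullback.fst _ _ = (ovU X f hf i j k).left :=
  pullback.lift_fst _ _ _

theorem ovT'_snd (i j k : ι) :
    ovT' X f hf i j k ≫ pullback.snd _ _ = pullback.fst _ _ ≫ (ovT X f hf i j).left :=
  pullback.lift_snd _ _ _

theorem ovT'_fst_B (i j k : ι) :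
    ovT' X f hf i j k ≫ pullback.fst _ _ ≫ (ovB X f hf j k).left =
      pullback.snd _ _ ≫ (ovB X f hf i k).left := by
  rw [← Category.assoc, ovT'_fst]
  exact congrArg (fun q : ovQ X f hf i j k ⟶ X k => q.left)
    (show ovU X f hf i j k ≫ ovB X f hf j k = ovQ₂ X f hf i j k ≫ ovB X f hf i k from ovLift_B ..)

theorem ovT'_snd_B (i j k : ι) :
    ovT' X f hf i j k ≫ pullback.snd _ _ ≫ (ovB X f hf j i).left =
      pullback.fst _ _ ≫ (ovA X f hf i j).left := by
  rw [← Category.assoc, ovT'_snd, Category.assoc, ← Over.comp_left, ovT_B]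

theorem ovT'_fst_A (i j k : ι) :
    ovT' X f hf i j k ≫ pullback.fst _ _ ≫ (ovA X f hf j k).left =
      pullback.fst _ _ ≫ (ovB X f hf i j).left := by
  rw [← Category.assoc, ovT'_fst]
  exact congrArg (fun q : ovQ X f hf i j k ⟶ X j => q.left)
    (show ovU X f hf i j k ≫ ovA X f hf j k = ovQ₁ X f hf i j k ≫ ovB X f hf i j from ovLift_A ..)

/-- The gluing data of an open cover of a sheaf by schemes. -/
noncomputable def ovData : Scheme.GlueData where
  J := ι
  U i := (X i).left
  V p := (ovP X f hf p.1 p.2).left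
  f i j := (ovA X f hf i j).left
  f_mono i j := have := isOpenImmersion_ovA X f hf i j; inferInstance
  f_id i := by
    have : IsIso (ovA X f hf i i) := by
      refine ⟨ovLift hf (𝟙 _) (𝟙 _) rfl, ?_, ovLift_A ..⟩
      apply (yon S).map_injective
      refine (ov_sq X f hf i i).hom_ext ?_ ?_ <;> rw [← Functor.map_comp, ← Functor.map_comp] <;> congr 1
      · simp [ovLift_A]
      · simp only [Category.assoc, ovLift_B, Category.comp_id, Category.id_comp]
        exact eq_of_map_comp_eq X f hf (ov_sq X f hf i i).w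
    exact inferInstanceAs (IsIso ((Over.forget S).map (ovA X f hf i i)))
  t i j := (ovT X f hf i j).left
  t_id i := by
    have : ovT X f hf i i = 𝟙 _ := by
      apply (yon S).map_injective
      have e := eq_of_map_comp_eq X f hf (ov_sq X f hf i i).w
      refine (ov_sq X f hf i i).hom_ext ?_ ?_ <;> rw [← Functor.map_comp, ← Functor.map_comp] <;> congr 1
      · rw [ovT_A, Category.id_comp, e]
      · rw [ovT_B, Category.id_comp, e]
    rw [this]; rfl
  t' := ovT' X f hf
  t_fac := ovT'_snd X f hf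
  cocycle i j k := by
    have hmono : Mono (pullback.fst (ovA X f hf i j).left (ovA X f hf i k).left ≫ (ovA X f hf i j).left) := by
      have := isOpenImmersion_ovA X f hf i j
      have := isOpenImmersion_ovA X f hf i k
      infer_instance
    rw [← cancel_mono (pullback.fst (ovA X f hf i j).left (ovA X f hf i k).left ≫ (ovA X f hf i j).left),
      Category.id_comp, Category.assoc, Category.assoc, ovT'_fst_A, ovT'_fst_B, ovT'_snd_B]
  f_open := isOpenImmersion_ovA X f hf

theorem exists_ov_glue_lift {i j : ι} {T : Over S} (x : T ⟶ X i) (y : T ⟶ X j)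
    (h : x.left ≫ (ovData X f hf).ι i = y.left ≫ (ovData X f hf).ι j) :
    ∃ r : T ⟶ ovP X f hf i j, r ≫ ovA X f hf i j = x ∧ r ≫ ovB X f hf i j = y := by
  obtain ⟨r, hr₁, hr₂⟩ := PullbackCone.IsLimit.lift' ((ovData X f hf).vPullbackConeIsLimit i j) x.left y.left h
  change r ≫ (ovA X f hf i j).left = x.left at hr₁
  change r ≫ (ovT X f hf i j).left ≫ (ovA X f hf j i).left = y.left at hr₂
  refine ⟨Over.homMk r (by rw [← Over.w (ovA X f hf i j), ← Category.assoc]; exact hr₁ ▸ Over.w x),
    Over.OverMorphism.ext hr₁, Over.OverMorphism.ext ?_⟩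
  have e : (ovT X f hf i j).left ≫ (ovA X f hf j i).left = (ovB X f hf i j).left :=
    congrArg (fun q => q.left) (ovT_A X f hf i j)
  exact (congrArg (r ≫ ·) e).symm.trans hr₂

include hf in
/-- A sheaf covered by open subfunctors which are schemes is a scheme. -/
theorem exists_iso_yon_of_openCover (hs : ∀ x : Points G, ∃ i, x ∈ Set.range (Points.map (f i))) :
    ∃ (M : Over S) (e : (yon S).obj M ≅ G) (m : ∀ i, X i ⟶ M),
      ∀ i, IsOpenImmersion (m i).left ∧ (yon S).map (m i) ≫ e.hom = f i := by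
  let D := ovData X f hf
  have hglue : ∀ i j, (ovA X f hf i j).left ≫ D.ι i = (ovB X f hf i j).left ≫ D.ι j := fun i j => by
    have := D.glue_condition i j
    change (ovT X f hf i j).left ≫ (ovA X f hf j i).left ≫ D.ι j = (ovA X f hf i j).left ≫ D.ι i at this
    rw [← this, ← Category.assoc, ← Over.comp_left, ovT_A]
  let str : D.glued ⟶ S := Multicoequalizer.desc _ _ (fun i => (X i).hom) (by
    rintro ⟨i, j⟩
    change (ovA X f hf i j).left ≫ (X i).hom = ((ovT X f hf i j).left ≫ (ovA X f hf j i).left) ≫ (X j).hom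
    rw [← Over.comp_left, ovT_A, Over.w, Over.w])
  let M : Over S := Over.mk str
  let m : ∀ i, X i ⟶ M := fun i => Over.homMk (D.ι i) (Multicoequalizer.π_desc D.diagram S (fun i => (X i).hom) _ i)
  have hm : ∀ i j, ovA X f hf i j ≫ m i = ovB X f hf i j ≫ m j := fun i j => Over.OverMorphism.ext (hglue i j)
  have hmo : ∀ i, IsOpenImmersion (m i).left := fun i => inferInstanceAs (IsOpenImmersion (D.ι i))
  have hms : ∀ x : ↥M.left, ∃ i y, (m i).left y = x := D.ι_jointly_surjective
  obtain ⟨ψ, hψ, -⟩ := exists_hom_of_openCover X m hmo hms f fun i j Z gi gj h => by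
    obtain ⟨r, rfl, rfl⟩ := exists_ov_glue_lift X f hf gi gj (congrArg (fun q => q.left) h)
    rw [Functor.map_comp, Functor.map_comp, Category.assoc, Category.assoc, (ov_sq X f hf i j).w]
  have : IsIso ψ := by
    refine isIso_of_yon fun T g => ?_
    choose V l₀ c sq₀ using fun i => exists_isPullback_of_representable (hf i).1 g
    choose l hl using fun i => (yon S).map_surjective (l₀ i)
    have sq : ∀ i, IsPullback ((yon S).map (l i)) ((yon S).map (c i)) (f i) g := fun i => by
      rw [hl i]; exact sq₀ i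
    have hc : ∀ i, IsOpenImmersion (c i).left := fun i => (hf i).2 _ _ _ (sq i)
    have hcs : ∀ t : ↥T.left, ∃ i y, (c i).left y = t := fun t => by
      obtain ⟨i, hi⟩ := hs (Points.ofPt g t)
      exact ⟨i, (Set.ext_iff.1 (preimage_range_map (sq i)) t).1 hi⟩
    obtain ⟨a, ha, -⟩ := exists_hom_of_openCover_yon (M := M) V c hc hcs (fun i => l i ≫ m i)
      fun i j Z gi gj h => by
        obtain ⟨r, hr₁, hr₂⟩ := exists_ov_lift hf (gi ≫ l i) (gj ≫ l j) (by
          simp only [Functor.map_comp, Category.assoc]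
          rw [(sq i).w, (sq j).w, ← Functor.map_comp_assoc, ← Functor.map_comp_assoc, h])
        rw [← reassoc_of% hr₁, ← reassoc_of% hr₂, hm]
    refine ⟨(yon S).map a, ?_, fun b hb => ?_⟩
    · change (yon S).map a ≫ ψ = g
      refine (exists_hom_of_openCover V c hc hcs (fun i => (yon S).map (c i) ≫ g) fun i j Z gi gj h => by
        rw [← Functor.map_comp_assoc, ← Functor.map_comp_assoc, h]).unique (fun i => ?_) (fun i => rfl)
      rw [← Functor.map_comp_assoc, ha i, Functor.map_comp, Category.assoc, hψ i, (sq i).w]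
    · obtain ⟨b, rfl⟩ := (yon S).map_surjective b
      congr 1
      have hab : (yon S).map b ≫ ψ = (yon S).map a ≫ ψ := by
        rw [hb]
        refine ((exists_hom_of_openCover V c hc hcs (fun i => (yon S).map (c i) ≫ g) fun i j Z gi gj h => by
          rw [← Functor.map_comp_assoc, ← Functor.map_comp_assoc, h]).unique (fun i => ?_) (fun i => rfl)).symm
        rw [← Functor.map_comp_assoc, ha i, Functor.map_comp, Category.assoc, hψ i, (sq i).w]
      -- the two lifts agree on a cover by preimages of the charts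
      let O : (ι × ι) → T.left.Opens := fun p =>
        b.left ⁻¹ᵁ (m p.1).left.opensRange ⊓ a.left ⁻¹ᵁ (m p.2).left.opensRange
      let C : ∀ p, Over.mk ((O p).ι ≫ T.hom) ⟶ T := fun p => Over.homMk (O p).ι rfl
      refine (exists_hom_of_openCover_yon (fun p => Over.mk ((O p).ι ≫ T.hom)) C
        (fun p => inferInstanceAs (IsOpenImmersion (O p).ι)) (fun t => ?_) (fun p => C p ≫ a)
        (fun p q Z gi gj h => by rw [reassoc_of% h])).unique (fun p => ?_) (fun p => rfl)
      · obtain ⟨i, y, hy⟩ := hms (b.left t)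
        obtain ⟨j, z, hz⟩ := hms (a.left t)
        exact ⟨(i, j), ⟨t, ⟨y, hy⟩, ⟨z, hz⟩⟩, rfl⟩
      · obtain ⟨i, j⟩ := p
        have h₁ : Set.range (C (i, j) ≫ b).left ⊆ Set.range (m i).left := by
          rintro _ ⟨x, rfl⟩
          exact x.2.1
        have h₂ : Set.range (C (i, j) ≫ a).left ⊆ Set.range (m j).left := by
          rintro _ ⟨x, rfl⟩
          exact x.2.2
        have := hmo i
        have := hmo j
        let x : Over.mk ((O (i, j)).ι ≫ T.hom) ⟶ X i := Over.homMk (IsOpenImmersion.lift (m i).left _ h₁)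
          (by rw [← Over.w (m i), IsOpenImmersion.lift_fac_assoc]; exact Over.w _)
        let y : Over.mk ((O (i, j)).ι ≫ T.hom) ⟶ X j := Over.homMk (IsOpenImmersion.lift (m j).left _ h₂)
          (by rw [← Over.w (m j), IsOpenImmersion.lift_fac_assoc]; exact Over.w _)
        have hx : x ≫ m i = C (i, j) ≫ b := Over.OverMorphism.ext (IsOpenImmersion.lift_fac _ _ _)
        have hy : y ≫ m j = C (i, j) ≫ a := Over.OverMorphism.ext (IsOpenImmersion.lift_fac _ _ _)
        obtain ⟨r, hr₁, hr₂⟩ := exists_ov_lift hf x y (by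
          rw [← hψ i, ← hψ j, ← Functor.map_comp_assoc, ← Functor.map_comp_assoc, hx, hy, Functor.map_comp,
            Functor.map_comp, Category.assoc, Category.assoc, hab])
        rw [← hx, ← hy, ← hr₁, ← hr₂, Category.assoc, Category.assoc, hm]
  exact ⟨M, asIso ψ, m, fun i => ⟨hmo i, hψ i⟩⟩

end Glue

end GrothLib.AlgSp
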