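import Mathlib.RingTheory.Flat.Equalizer
import Mathlib.CategoryTheory.Sites.RegularEpi
import Groth.Agent.Lib.AlgSp.Glue
import Groth.Agent.Lib.AlgSp.FppfDescent

/-!
# Effective fppf descent of affine morphisms of sheaves

* `bijective_productMap_equalizer`: faithfully flat descent of algebras, from the descent datum.
* `exists_iso_of_kernelPair`: locally surjective maps with the same kernel pair have isomorphic targets.
* `exists_iso_yon_of_isPullback_affine`: a sheaf over an affine scheme which becomes affine after an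
  fppf base change is affine.
* `representable_of_base_isAffineHom`, `repWith_of_base_isAffineHom`: the relative version.
-/

universe u

open CategoryTheory CategoryTheory.Limits AlgebraicGeometry Opposite TensorProduct

namespace GrothLib.AlgSp

section Ring

open Algebra.TensorProduct (includeLeft includeRight productMap)

variable {A B C : Type u} [CommRing A] [CommRing B] [CommRing C] [Algebra A B] [Algebra A C]
  [Module.Flat A B] (β : B →ₐ[A] C) (θ : C →ₐ[A] C ⊗[A] B)

/-- A descent datum on an algebra over a flat extension comes from the algebra of invariant elements. -/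
theorem bijective_productMap_equalizer (hβ : ∀ b, θ (β b) = (1 : C) ⊗ₜ b)
    (hc : (Algebra.TensorProduct.map θ (AlgHom.id A B)).comp θ =
      (Algebra.TensorProduct.map (includeLeft : C →ₐ[A] C ⊗[A] B) (AlgHom.id A B)).comp θ)
    (hu : (productMap (AlgHom.id A C) β).comp θ = AlgHom.id A C) :
    Function.Bijective (productMap (AlgHom.equalizer θ includeLeft).val β) := by
  set C₀ := AlgHom.equalizer θ (includeLeft : C →ₐ[A] C ⊗[A] B) with hC₀
  have hj : ∀ x : C₀ ⊗[A] B, θ (productMap C₀.val β x) = C₀.val.toLinearMap.rTensor B x := by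
    intro x
    induction x with
    | zero => simp
    | tmul c b =>
      rw [Algebra.TensorProduct.productMap_apply_tmul, map_mul, hβ, LinearMap.rTensor_tmul]
      have : θ c.1 = (c.1 : C) ⊗ₜ[A] (1 : B) := c.2
      change θ c.1 * _ = _
      rw [this, Algebra.TensorProduct.tmul_mul_tmul, mul_one, one_mul]
      rfl
    | add x y hx hy => simp [hx, hy]
  refine ⟨fun x y h => Module.Flat.rTensor_preserves_injective_linearMap (M := B) C₀.val.toLinearMap
    Subtype.val_injective (by rw [← hj, ← hj, h]), fun c => ?_⟩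
  let d : C →ₗ[A] C ⊗[A] B := θ.toLinearMap - (includeLeft : C →ₐ[A] C ⊗[A] B).toLinearMap
  have hex : Function.Exact C₀.val.toLinearMap d := by
    intro x
    constructor
    · intro hx
      exact ⟨⟨x, sub_eq_zero.1 hx⟩, rfl⟩
    · rintro ⟨y, rfl⟩
      exact sub_eq_zero.2 y.2
  have key : ∀ z : C ⊗[A] B, d.rTensor B z = Algebra.TensorProduct.map θ (AlgHom.id A B) z -
      Algebra.TensorProduct.map (includeLeft : C →ₐ[A] C ⊗[A] B) (AlgHom.id A B) z := by
    intro z
    induction z with
    | zero => simp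
    | tmul c b => simp [d]
    | add x y hx hy => simp [hx, hy]; abel
  obtain ⟨y, hy⟩ := (Module.Flat.rTensor_exact B hex (θ c)).1 (by
    rw [key, sub_eq_zero]; exact AlgHom.congr_fun hc c)
  refine ⟨y, ?_⟩
  have h1 : productMap C₀.val β y = productMap (AlgHom.id A C) β (C₀.val.toLinearMap.rTensor B y) := by
    clear hy
    induction y with
    | zero => simp
    | tmul c b => simp
    | add x y hx hy => simp [hx, hy]
  rw [h1, hy]
  exact AlgHom.congr_fun hu c

end Ring

open _root_.AlgSp

variable {S : Scheme.{u}}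

/-- Two locally surjective maps with the same kernel pair have isomorphic targets. -/
theorem exists_iso_of_kernelPair {X Y Y' R : Sp S} (p : X ⟶ Y) (p' : X ⟶ Y')
    [Sheaf.IsLocallySurjective p] [Sheaf.IsLocallySurjective p'] {a b : R ⟶ X}
    (h : IsPullback a b p p) (h' : IsPullback a b p' p') : ∃ e : Y ≅ Y', p ≫ e.hom = p' := by
  have := IsRegularEpiCategory.regularEpiOfEpi p
  have := IsRegularEpiCategory.regularEpiOfEpi p'
  obtain ⟨u, hu⟩ := IsRegularEpi.exists_of_isKernelPair p h p' h'.w
  obtain ⟨v, hv⟩ := IsRegularEpi.exists_of_isKernelPair p' h' p h.w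
  exact ⟨⟨u, v, (cancel_epi p).1 (by rw [reassoc_of% hu, hv, Category.comp_id]),
    (cancel_epi p').1 (by rw [reassoc_of% hv, hu, Category.comp_id])⟩, hu⟩

theorem isLocallySurjective_of_base {G : Sp S} {W T T' : Over S} {a : G ⟶ (yon S).obj T} {c : T' ⟶ T}
    [Flat c.left] [LocallyOfFinitePresentation c.left] [Surjective c.left] {pr : (yon S).obj W ⟶ G}
    {w : W ⟶ T'} (sq : IsPullback pr ((yon S).map w) a ((yon S).map c)) :
    Sheaf.IsLocallySurjective pr :=
  isLocallySurjective_of_repWith (repWith_of_isPullback sq.flip ((repWith_yon_map_iff _ c).2 ‹_›))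
    (repWith_of_isPullback sq.flip ((repWith_yon_map_iff _ c).2 ‹_›))
    (repWith_of_isPullback sq.flip ((repWith_yon_map_iff _ c).2 ‹_›))

/-- The kernel pair of a map which is a base change. -/
theorem isPullback_kernelPair {G : Sp S} {T T' W Q : Over S} {a : G ⟶ (yon S).obj T} {c : T' ⟶ T}
    {pr : (yon S).obj W ⟶ G} {w : W ⟶ T'} (sq : IsPullback pr ((yon S).map w) a ((yon S).map c))
    {p₁ : Q ⟶ W} {p₂ : Q ⟶ T'} (sqQ : IsPullback p₁ p₂ (w ≫ c) c) {q : Q ⟶ W} (hq : q ≫ w = p₂)
    (hq' : (yon S).map q ≫ pr = (yon S).map p₁ ≫ pr) :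
    IsPullback ((yon S).map q) ((yon S).map p₁) pr pr := by
  refine IsPullback.of_right ?_ hq' sq.flip
  rw [← Functor.map_comp, hq, sq.w, ← Functor.map_comp]
  exact (isPullback_yon sqQ).flip

theorem exists_iso_yon_of_isPullback_spec {G : Sp S} {A B C : CommRingCat.{u}} {sT : Spec A ⟶ S}
    {sT' : Spec B ⟶ S} {sW : Spec C ⟶ S} (a : G ⟶ (yon S).obj (Over.mk sT))
    (c : Over.mk sT' ⟶ Over.mk sT) [Flat c.left] [LocallyOfFinitePresentation c.left] [Surjective c.left]
    (pr : (yon S).obj (Over.mk sW) ⟶ G) (w : Over.mk sW ⟶ Over.mk sT')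
    (sq : IsPullback pr ((yon S).map w) a ((yon S).map c)) :
    ∃ W₀ : Over S, IsAffine W₀.left ∧ Nonempty ((yon S).obj W₀ ≅ G) := by
  obtain ⟨φ, hφ⟩ : ∃ φ : A ⟶ B, Spec.map φ = c.left := Spec.map_surjective c.left
  obtain ⟨χ, hχ⟩ : ∃ χ : B ⟶ C, Spec.map χ = w.left := Spec.map_surjective w.left
  let _ : Algebra A B := φ.hom.toAlgebra
  let _ : Algebra A C := (φ ≫ χ).hom.toAlgebra
  let β : B →ₐ[A] C := { χ.hom with commutes' := fun _ => rfl }
  have hflat : Module.Flat A B := by
    have : φ.hom.FaithfullyFlat :=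
      (flat_and_surjective_SpecMap_iff φ).1 (by rw [hφ]; exact ⟨inferInstance, inferInstance⟩)
    exact this.flat
  let T : Over S := Over.mk sT
  let W : Over S := Over.mk sW
  let ι : C →ₐ[A] C ⊗[A] B := Algebra.TensorProduct.includeLeft
  let sQ : Spec (.of (C ⊗[A] B)) ⟶ S := Spec.map (CommRingCat.ofHom ι.toRingHom) ≫ sW
  let Q : Over S := Over.mk sQ
  let p₁ : Q ⟶ W := Over.homMk (Spec.map (CommRingCat.ofHom ι.toRingHom)) rfl
  have sqS : IsPullback (Spec.map (CommRingCat.ofHom ι.toRingHom))
      (Spec.map (CommRingCat.ofHom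
        (Algebra.TensorProduct.includeRight : B →ₐ[A] C ⊗[A] B).toRingHom))
      (w ≫ c).left c.left := by
    rw [Over.comp_left, ← hφ, ← hχ, ← Spec.map_comp]
    exact isPullback_SpecMap_of_isPushout _ _ _ _ (CommRingCat.isPushout_tensorProduct A C B)
  let p₂ : Q ⟶ Over.mk sT' := Over.homMk
    (Spec.map (CommRingCat.ofHom (Algebra.TensorProduct.includeRight : B →ₐ[A] C ⊗[A] B).toRingHom)) (by
      have e₁ : c.left ≫ sT = sT' := Over.w c
      have e₂ : (w ≫ c).left ≫ sT = sW := Over.w (w ≫ c)
      change _ ≫ sT' = Spec.map _ ≫ sW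
      rw [← e₁, ← e₂, ← reassoc_of% sqS.w])
  have sqQ : IsPullback p₁ p₂ (w ≫ c) c :=
    IsPullback.of_map (Over.forget S) (Over.OverMorphism.ext sqS.w) sqS
  obtain ⟨q, hq⟩ := (yon S).map_surjective (sq.lift ((yon S).map p₁ ≫ pr) ((yon S).map p₂) (by
    rw [Category.assoc, sq.w, ← Functor.map_comp, ← Functor.map_comp, sqQ.w, Functor.map_comp]))
  have hq₁ : (yon S).map q ≫ pr = (yon S).map p₁ ≫ pr := by rw [hq, IsPullback.lift_fst]
  have hq₂ : q ≫ w = p₂ := (yon S).map_injective (by rw [Functor.map_comp, hq, IsPullback.lift_snd])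
  obtain ⟨θ₀, hθ₀⟩ : ∃ θ₀ : C ⟶ .of (C ⊗[A] B), Spec.map θ₀ = q.left := Spec.map_surjective q.left
  have hβ : χ ≫ θ₀ = CommRingCat.ofHom
      (Algebra.TensorProduct.includeRight : B →ₐ[A] C ⊗[A] B).toRingHom :=
    Spec.map_injective (by rw [Spec.map_comp, hθ₀, hχ]; exact congrArg (·.left) hq₂)
  let θ : C →ₐ[A] C ⊗[A] B := { θ₀.hom with commutes' := fun r =>
    (ConcreteCategory.congr_hom hβ (φ r)).trans (Algebra.TensorProduct.includeRight.commutes r) }
  have hβ' : ∀ b, θ (β b) = (1 : C) ⊗ₜ b := fun b => ConcreteCategory.congr_hom hβ b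
  -- the counit
  have hu : (Algebra.TensorProduct.productMap (AlgHom.id A C) β).comp θ = AlgHom.id A C := by
    let s : W ⟶ Q := Over.homMk
      (Spec.map (CommRingCat.ofHom (Algebra.TensorProduct.productMap (AlgHom.id A C) β).toRingHom)) (by
        change Spec.map _ ≫ Spec.map _ ≫ sW = sW
        rw [← Category.assoc, ← Spec.map_comp, show CommRingCat.ofHom ι.toRingHom ≫ CommRingCat.ofHom
          (Algebra.TensorProduct.productMap (AlgHom.id A C) β).toRingHom = 𝟙 C from
            CommRingCat.hom_ext (RingHom.ext fun x => by simp [ι]; rfl), Spec.map_id, Category.id_comp])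
    have hs₁ : s ≫ p₁ = 𝟙 W := Over.OverMorphism.ext (by
      change Spec.map _ ≫ Spec.map _ = _
      rw [← Spec.map_comp, show CommRingCat.ofHom ι.toRingHom ≫ CommRingCat.ofHom
          (Algebra.TensorProduct.productMap (AlgHom.id A C) β).toRingHom = 𝟙 C from
            CommRingCat.hom_ext (RingHom.ext fun x => by simp [ι]; rfl), Spec.map_id]
      rfl)
    have hs₂ : s ≫ p₂ = w := Over.OverMorphism.ext (by
      change Spec.map _ ≫ Spec.map _ = w.left
      rw [← Spec.map_comp, ← hχ]
      congr 1
      exact CommRingCat.hom_ext (RingHom.ext fun x => by simp [β]))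
    have hsq : s ≫ q = 𝟙 W := (yon S).map_injective (sq.hom_ext
      (by rw [Functor.map_comp, Category.assoc, hq₁, ← Functor.map_comp_assoc, hs₁])
      (by rw [← Functor.map_comp, ← Functor.map_comp, Category.assoc, hq₂, hs₂, Category.id_comp]))
    have h3 := congrArg (·.left) hsq
    change Spec.map _ ≫ q.left = 𝟙 (Spec C) at h3
    rw [← hθ₀, ← Spec.map_comp, ← Spec.map_id] at h3
    exact AlgHom.ext fun x => ConcreteCategory.congr_hom (Spec.map_injective h3) x
  -- the cocycle condition
  have hc : (Algebra.TensorProduct.map θ (AlgHom.id A B)).comp θ =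
      (Algebra.TensorProduct.map ι (AlgHom.id A B)).comp θ := by
    let D := (C ⊗[A] B) ⊗[A] B
    let sE : Spec (.of D) ⟶ S :=
      Spec.map (CommRingCat.ofHom (Algebra.TensorProduct.includeLeft : C ⊗[A] B →ₐ[A] D).toRingHom) ≫ sQ
    let r : Over.mk sE ⟶ Q := Over.homMk
      (Spec.map (CommRingCat.ofHom (Algebra.TensorProduct.includeLeft : C ⊗[A] B →ₐ[A] D).toRingHom)) rfl
    -- the map `Q' ⟶ Q` attached to a map `f : C ⟶ C ⊗ B` lifting the identity of `S`
    have mk : ∀ (f : C →ₐ[A] C ⊗[A] B) (g : Q ⟶ W), Spec.map (CommRingCat.ofHom f.toRingHom) = g.left →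
        ∃ G : Over.mk sE ⟶ Q, G.left = Spec.map (CommRingCat.ofHom
            (Algebra.TensorProduct.map f (AlgHom.id A B)).toRingHom) ∧ G ≫ p₁ = r ≫ g ∧
          (G ≫ p₂).left = Spec.map (CommRingCat.ofHom
            (Algebra.TensorProduct.includeRight : B →ₐ[A] D).toRingHom) := by
      intro f g hg
      have e : CommRingCat.ofHom ι.toRingHom ≫
          CommRingCat.ofHom (Algebra.TensorProduct.map f (AlgHom.id A B)).toRingHom =
          CommRingCat.ofHom f.toRingHom ≫
            CommRingCat.ofHom (Algebra.TensorProduct.includeLeft : C ⊗[A] B →ₐ[A] D).toRingHom :=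
        CommRingCat.hom_ext (RingHom.ext fun x => by simp [ι])
      have e' : g.left ≫ sW = sQ := Over.w g
      refine ⟨Over.homMk (Spec.map (CommRingCat.ofHom
            (Algebra.TensorProduct.map f (AlgHom.id A B)).toRingHom)) ?_, rfl, Over.OverMorphism.ext ?_, ?_⟩
      · change Spec.map _ ≫ Spec.map _ ≫ sW = Spec.map _ ≫ sQ
        rw [← Category.assoc, ← Spec.map_comp, e, Spec.map_comp, Category.assoc, hg, e']
      · change Spec.map _ ≫ Spec.map _ = Spec.map _ ≫ g.left
        rw [← hg, ← Spec.map_comp, ← Spec.map_comp, e]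
      · change Spec.map _ ≫ Spec.map _ = _
        rw [← Spec.map_comp]
        congr 1
        exact CommRingCat.hom_ext (RingHom.ext fun x => by simp [D])
    obtain ⟨G₁, h₁, h₁', h₁''⟩ := mk θ q (by rw [← hθ₀]; rfl)
    obtain ⟨G₂, h₂, h₂', h₂''⟩ := mk ι p₁ rfl
    have hG : G₁ ≫ q = G₂ ≫ q := (yon S).map_injective (sq.hom_ext
      (by
        simp only [Functor.map_comp, Category.assoc, hq₁]
        rw [← Functor.map_comp_assoc, ← Functor.map_comp_assoc, h₁', h₂', Functor.map_comp_assoc,
          Functor.map_comp_assoc, hq₁])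
      (by
        rw [← Functor.map_comp, ← Functor.map_comp, Category.assoc, Category.assoc, hq₂]
        congr 1
        exact Over.OverMorphism.ext (h₁''.trans h₂''.symm)))
    have h3 := congrArg (·.left) hG
    change G₁.left ≫ q.left = G₂.left ≫ q.left at h3
    rw [h₁, h₂, ← hθ₀, ← Spec.map_comp, ← Spec.map_comp] at h3
    exact AlgHom.ext fun x => ConcreteCategory.congr_hom (Spec.map_injective h3) x
  -- the descended algebra
  have hbij := bijective_productMap_equalizer β θ hβ' hc hu
  let C₀ := AlgHom.equalizer θ ι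
  let w₀ : Over.mk (Spec.map (CommRingCat.ofHom (algebraMap A C₀)) ≫ sT) ⟶ T :=
    Over.homMk (Spec.map (CommRingCat.ofHom (algebraMap A C₀))) rfl
  have sqP : IsPushout (CommRingCat.ofHom (algebraMap A C₀)) φ (CommRingCat.ofHom C₀.val.toRingHom) χ :=
    (CommRingCat.isPushout_tensorProduct A C₀ B).of_iso (Iso.refl _) (Iso.refl _) (Iso.refl _)
      (RingEquiv.ofBijective (Algebra.TensorProduct.productMap C₀.val β).toRingHom hbij).toCommRingCatIso
      (by simp) (by simp; rfl)
      (CommRingCat.hom_ext (RingHom.ext fun x => by simp))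
      (CommRingCat.hom_ext (RingHom.ext fun x => by simp [β]))
  have sqS₀ : IsPullback (Spec.map (CommRingCat.ofHom C₀.val.toRingHom)) w.left w₀.left c.left := by
    rw [← hφ, ← hχ]
    exact isPullback_SpecMap_of_isPushout _ _ _ _ sqP
  have e₂ : (w ≫ c).left ≫ sT = sW := Over.w (w ≫ c)
  let e : W ⟶ Over.mk (Spec.map (CommRingCat.ofHom (algebraMap A C₀)) ≫ sT) :=
    Over.homMk (Spec.map (CommRingCat.ofHom C₀.val.toRingHom)) (by
      change _ ≫ w₀.left ≫ sT = sW
      rw [reassoc_of% sqS₀.w]
      exact (Category.assoc _ _ _).symm.trans e₂)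
  have sq₀ : IsPullback e w w₀ c := IsPullback.of_map (Over.forget S) (Over.OverMorphism.ext sqS₀.w) sqS₀
  have he : q ≫ e = p₁ ≫ e := Over.OverMorphism.ext (by
    change q.left ≫ Spec.map _ = Spec.map _ ≫ Spec.map _
    rw [← hθ₀, ← Spec.map_comp, ← Spec.map_comp]
    congr 1
    exact CommRingCat.hom_ext (RingHom.ext fun x => x.2))
  have := isLocallySurjective_of_base sq
  have := isLocallySurjective_of_base (isPullback_yon sq₀)
  obtain ⟨i, -⟩ := exists_iso_of_kernelPair pr ((yon S).map e) (isPullback_kernelPair sq sqQ hq₂ hq₁)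
    (isPullback_kernelPair (isPullback_yon sq₀) sqQ hq₂ (by rw [← Functor.map_comp, ← Functor.map_comp, he]))
  exact ⟨_, isAffine_Spec _, ⟨i.symm⟩⟩

/-- A sheaf over an affine scheme which becomes affine after an fppf base change is affine. -/
theorem exists_iso_yon_of_isPullback_affine {G : Sp S} {T T' W : Over S} [IsAffine T.left]
    [IsAffine T'.left] [IsAffine W.left] (a : G ⟶ (yon S).obj T) (c : T' ⟶ T) [Flat c.left]
    [LocallyOfFinitePresentation c.left] [Surjective c.left] (pr : (yon S).obj W ⟶ G) (w : W ⟶ T')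
    (sq : IsPullback pr ((yon S).map w) a ((yon S).map c)) :
    ∃ W₀ : Over S, IsAffine W₀.left ∧ Nonempty ((yon S).obj W₀ ≅ G) := by
  let eT : Over.mk (T.left.isoSpec.inv ≫ T.hom) ≅ T := Over.isoMk T.left.isoSpec.symm
  let eT' : Over.mk (T'.left.isoSpec.inv ≫ T'.hom) ≅ T' := Over.isoMk T'.left.isoSpec.symm
  let eW : Over.mk (W.left.isoSpec.inv ≫ W.hom) ≅ W := Over.isoMk W.left.isoSpec.symm
  let c' := eT'.hom ≫ c ≫ eT.inv
  have : Flat c'.left := by dsimp [c']; infer_instance
  have : LocallyOfFinitePresentation c'.left := by dsimp [c']; infer_instance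
  have : Surjective c'.left := by dsimp [c']; infer_instance
  refine exists_iso_yon_of_isPullback_spec (a ≫ (yon S).map eT.inv) c' ((yon S).map eW.hom ≫ pr)
    (eW.hom ≫ w ≫ eT'.inv) (sq.of_iso ((yon S).mapIso eW.symm) (Iso.refl _) ((yon S).mapIso eT'.symm)
      ((yon S).mapIso eT.symm) ?_ ?_ ?_ ?_)
  · simp [← Functor.map_comp_assoc]
  · simp [← Functor.map_comp]
  · simp
  · simp [c', ← Functor.map_comp]

/-- Over an affine base, an fppf cover can be refined by an affine one. -/
theorem exists_affine_refinement {V U : Over S} [IsAffine U.left] (c : V ⟶ U) [Flat c.left]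
    [LocallyOfFinitePresentation c.left] [Surjective c.left] :
    ∃ (V' : Over S) (d : V' ⟶ V), IsAffine V'.left ∧ Flat (d ≫ c).left ∧
      LocallyOfFinitePresentation (d ≫ c).left ∧ Surjective (d ≫ c).left := by
  obtain ⟨O : V.left.Opens, hO, e⟩ := c.left.isOpenMap.exists_opens_image_eq_of_prespectralSpace
    c.left.continuous (by simp) isOpen_univ isCompact_univ
  have : CompactSpace (O : Scheme.{u}) := isCompact_iff_compactSpace.1 hO
  obtain ⟨Y, p, hsurj, hp, hY⟩ :=
    (O : Scheme.{u}).exists_hom_isAffine_of_isZariskiLocalAtSource @IsLocalIso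
  have : Etale p := IsLocalIso.le_of_isZariskiLocalAtSource @Etale _ _ p hp
  refine ⟨Over.mk ((p ≫ O.ι) ≫ V.hom), Over.homMk (p ≫ O.ι) rfl, hY, ?_, ?_, ⟨fun x => ?_⟩⟩
  · change Flat ((p ≫ O.ι) ≫ c.left); infer_instance
  · change LocallyOfFinitePresentation ((p ≫ O.ι) ≫ c.left); infer_instance
  · obtain ⟨y, hy, e⟩ := e.ge (Set.mem_univ x)
    obtain ⟨z, hz⟩ := p.surjective ⟨y, hy⟩
    refine ⟨z, ?_⟩
    change ((p ≫ O.ι) ≫ c.left) z = x
    simpa [hz] using e

/-- Affine morphisms of sheaves descend along locally surjective maps. -/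
theorem representable_of_base_isAffineHom {F G H Q : Sp S} {a : F ⟶ G} (b : H ⟶ G)
    [Sheaf.IsLocallySurjective b] {b' : Q ⟶ F} {a' : Q ⟶ H} (sq : IsPullback b' a' a b)
    (h : RepWith @IsAffineHom a') : Representable a := by
  intro U g
  let P := pullback a g
  have key : ∀ i : U.left.affineCover.I₀, ∃ (W : Over S) (f : (yon S).obj W ⟶ P),
      RepWith @IsOpenImmersion f ∧ ∀ (x : Points P) z,
        Points.map (pullback.snd a g) x = Points.ofPt ((yon S).map (Over.homMk
          (U := Over.mk (U.left.affineCover.f i ≫ U.hom)) (V := U) (U.left.affineCover.f i) rfl)) z →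
        x ∈ Set.range (Points.map f) := by
    intro i
    let Ui : Over S := Over.mk (U.left.affineCover.f i ≫ U.hom)
    let j : Ui ⟶ U := Over.homMk (U.left.affineCover.f i) rfl
    have hj : RepWith @IsOpenImmersion ((yon S).map j) :=
      (repWith_yon_map_iff _ j).2 (inferInstanceAs (IsOpenImmersion (U.left.affineCover.f i)))
    have : IsAffine Ui.left := inferInstanceAs (IsAffine (U.left.affineCover.X i))
    obtain ⟨V, c, l, hf, hp, hs, hl⟩ := exists_fppf_lift b ((yon S).map j ≫ g)
    obtain ⟨V', d, hV', hf', hp', hs'⟩ := exists_affine_refinement c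
    obtain ⟨W, fst, snd, sqW⟩ := exists_isPullback_of_representable h.1 ((yon S).map d ≫ l)
    have : IsAffineHom snd.left := h.2 _ _ _ sqW
    have : IsAffine W.left := isAffine_of_isAffineHom snd.left
    have sq₁ := (IsPullback.of_hasPullback a g)
    have sq₂ : IsPullback (pullback.fst (pullback.snd a g) ((yon S).map j) ≫ pullback.fst a g)
        (pullback.snd (pullback.snd a g) ((yon S).map j)) a ((yon S).map j ≫ g) :=
      (IsPullback.of_hasPullback (pullback.snd a g) ((yon S).map j)).paste_horiz sq₁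
    have sq₃ : IsPullback (fst ≫ b') ((yon S).map snd) a ((yon S).map (d ≫ c) ≫ (yon S).map j ≫ g) := by
      have := sqW.paste_horiz sq
      rwa [Category.assoc, hl, ← Functor.map_comp_assoc] at this
    let pr := sq₂.lift (fst ≫ b') ((yon S).map snd ≫ (yon S).map (d ≫ c))
      (by rw [sq₃.w, Category.assoc])
    have sq₄ : IsPullback pr ((yon S).map snd) (pullback.snd (pullback.snd a g) ((yon S).map j))
        ((yon S).map (d ≫ c)) :=
      IsPullback.of_right (by simpa only [pr, IsPullback.lift_fst] using sq₃)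
        (by simp only [pr, IsPullback.lift_snd]) sq₂
    obtain ⟨W₀, hW₀, ⟨e⟩⟩ := exists_iso_yon_of_isPullback_affine _ (d ≫ c) pr snd sq₄
    refine ⟨W₀, e.hom ≫ pullback.fst _ _, ?_, ?_⟩
    · exact repWith_comp (repWith_iso _)
        (repWith_of_isPullback (IsPullback.of_hasPullback (pullback.snd a g) ((yon S).map j)).flip hj)
    · intro x z hz
      rw [Points.ofPt_eq_map_ofScheme] at hz
      obtain ⟨p, hp, -⟩ := exists_of_isPullback (IsPullback.of_hasPullback (pullback.snd a g) ((yon S).map j)) hz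
      exact ⟨Points.map e.inv p, by rw [← Points.map_comp, e.inv_hom_id_assoc, hp]⟩
  choose W f hf hr using key
  obtain ⟨M, e, -, -⟩ := exists_iso_yon_of_openCover W f hf fun x => by
    let y := Points.toScheme U (Points.map (pullback.snd a g) x)
    obtain ⟨i, z, hz⟩ := U.left.affineCover.exists_eq y
    refine ⟨i, hr i x z ?_⟩
    have e := Points.toScheme_ofPt (T := Over.mk (U.left.affineCover.f i ≫ U.hom)) (T' := U)
      (Over.homMk (U.left.affineCover.f i) rfl) z
    exact ((Points.ofScheme_toScheme U (Points.map (pullback.snd a g) x)).symm.trans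
      (congrArg (Points.ofScheme U) (hz.symm.trans e.symm))).trans (Points.ofScheme_toScheme U _)
  refine ⟨M, (yon S).preimage (e.hom ≫ pullback.snd a g), e.hom ≫ pullback.fst a g, ?_⟩
  refine (IsPullback.of_hasPullback a g).of_iso e.symm (Iso.refl _) (Iso.refl _) (Iso.refl _) ?_ ?_ ?_ ?_ <;>
    simp

theorem fppfDescends_isAffineHom : FppfDescends.{u} @IsAffineHom := by
  intro X Y V X' f c c' f' sq hf hp hs h
  wlog hY : IsAffine Y generalizing X Y V X'
  · rw [IsZariskiLocalAtTarget.iff_of_openCover (P := @IsAffineHom) Y.affineCover]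
    intro i
    let j := Y.affineCover.f i
    have sq' : IsPullback (pullback.map f' (pullback.fst c j) f j c' (pullback.snd c j) c sq.w.symm
          pullback.condition) (pullback.snd f' (pullback.fst c j)) (pullback.snd f j) (pullback.snd c j) := by
      refine IsPullback.of_right ?_ (pullback.lift_snd _ _ _) (IsPullback.of_hasPullback f j)
      rw [pullback.map, pullback.lift_fst, ← pullback.condition]
      exact (IsPullback.of_hasPullback f' (pullback.fst c j)).paste_horiz sq
    exact this _ _ _ _ sq' (MorphismProperty.pullback_snd _ _ hf) (MorphismProperty.pullback_snd _ _ hp)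
      (MorphismProperty.pullback_snd _ _ hs) (MorphismProperty.pullback_snd _ _ h)
      (inferInstanceAs (IsAffine (Y.affineCover.X i)))
  let oY : Over Y := Over.mk (𝟙 Y)
  let oV : Over Y := Over.mk c
  let oX : Over Y := Over.mk f
  let oc : oV ⟶ oY := Over.homMk c (Category.comp_id c)
  let of : oX ⟶ oY := Over.homMk f (Category.comp_id f)
  have : IsAffine oY.left := hY
  have : Flat oc.left := hf
  have : LocallyOfFinitePresentation oc.left := hp
  have : Surjective oc.left := hs
  obtain ⟨V', d, hV', hf', hp', hs'⟩ := exists_affine_refinement oc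
  have : IsAffineHom (pullback.snd f' d.left) := MorphismProperty.pullback_snd _ _ h
  have : IsAffine (pullback f' d.left) := isAffine_of_isAffineHom (pullback.snd f' d.left)
  have sq' := (IsPullback.of_hasPullback f' d.left).paste_horiz sq
  let oW : Over Y := Over.mk ((pullback.fst f' d.left ≫ c') ≫ f)
  let pr : oW ⟶ oX := Over.homMk (pullback.fst f' d.left ≫ c') rfl
  let w : oW ⟶ V' := Over.homMk (pullback.snd f' d.left) (by
    change _ ≫ _ = (_ ≫ c') ≫ f
    rw [sq'.w, show d.left ≫ c = V'.hom from Over.w d])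
  have sq'' : IsPullback pr w of (d ≫ oc) :=
    IsPullback.of_map (Over.forget Y) (Over.OverMorphism.ext sq'.w) sq'
  have : IsAffine oW.left := inferInstanceAs (IsAffine (pullback f' d.left))
  obtain ⟨W₀, hW₀, ⟨e⟩⟩ := exists_iso_yon_of_isPullback_affine ((yon Y).map of) (d ≫ oc)
    ((yon Y).map pr) w (isPullback_yon sq'')
  have : IsAffine ((Over.forget Y).obj W₀) := hW₀
  have : IsAffine X := .of_isIso ((Over.forget Y).mapIso ((yon Y).preimageIso e)).inv
  exact isAffineHom_of_isAffine f

theorem fppfDescends_isFinite : FppfDescends.{u} @IsFinite := by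
  rw [IsFinite.eq_isProper_inf_isAffineHom]
  exact fppfDescends_isProper.inf fppfDescends_isAffineHom

theorem fppfDescends_isIntegralHom : FppfDescends.{u} @IsIntegralHom := by
  rw [IsIntegralHom.eq_universallyClosed_inf_isAffineHom]
  exact fppfDescends_universallyClosed.inf fppfDescends_isAffineHom

/-- A property of affine morphisms which descends, descends to sheaves. -/
theorem repWith_of_base_isAffineHom {F G H Q : Sp S} {a : F ⟶ G} (b : H ⟶ G)
    [Sheaf.IsLocallySurjective b] {b' : Q ⟶ F} {a' : Q ⟶ H} (sq : IsPullback b' a' a b)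
    {P : MorphismProperty Scheme.{u}} (hle : P ≤ @IsAffineHom) (hP : FppfDescends P) (h : RepWith P a') :
    RepWith P a :=
  repWith_of_base (representable_of_base_isAffineHom b sq (repWith_mono h fun _ _ g hg => hle g hg)) b sq hP h

end GrothLib.AlgSp
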