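import Groth.Agent.Lib.AlgSp.AffineDescent

/-!
# Effective descent of immersions
-/

universe u

open CategoryTheory CategoryTheory.Limits AlgebraicGeometry Opposite Topology

namespace GrothLib.AlgSp

open _root_.AlgSp

variable {S : Scheme.{u}}

theorem range_snd_of_isPullback {X Y Z P : Scheme.{u}} {p₁ : P ⟶ X} {p₂ : P ⟶ Y} {f : X ⟶ Z} {g : Y ⟶ Z}
    (sq : IsPullback p₁ p₂ f g) : Set.range p₂ = g ⁻¹' Set.range f := by
  rw [← sq.isoPullback_hom_snd, Scheme.Hom.comp_base, TopCat.coe_comp,
    Set.range_comp, Set.range_eq_univ.mpr sq.isoPullback.hom.surjective, Set.image_univ,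
    Scheme.Pullback.range_snd]

theorem isOpen_coborder_of_preimage {X Y : Scheme.{u}} (c : X ⟶ Y) [Flat c] [LocallyOfFinitePresentation c]
    [Surjective c] {Z : Set Y} (h : IsLocallyClosed (c ⁻¹' Z)) : IsOpen (coborder Z) := by
  have := h.isOpen_coborder
  rw [coborder_preimage c.isOpenMap c.continuous] at this
  exact (c.isOpenMap.isQuotientMap c.continuous c.surjective).isOpen_preimage.1 this

theorem isClosedImmersion_of_immersion {X Y : Scheme.{u}} (f : X ⟶ Y) [IsImmersion f]
    (h : IsClosed (Set.range f)) : IsClosedImmersion f :=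
  .of_isPreimmersion f h

theorem fppfDescends_isImmersion : FppfDescends.{u} @IsImmersion := by
  intro X Y V X' f c c' f' sq hf hp hs h
  have hr : IsLocallyClosed (c ⁻¹' Set.range f) := range_snd_of_isPullback sq ▸ f'.isLocallyClosed_range
  let O : Y.Opens := ⟨coborder (Set.range f), isOpen_coborder_of_preimage c hr⟩
  let fO := IsOpenImmersion.lift O.ι f (by rw [Scheme.Opens.range_ι]; exact subset_coborder)
  have hfO : fO ≫ O.ι = f := IsOpenImmersion.lift_fac _ _ _
  let OV := c ⁻¹ᵁ O
  let g := IsOpenImmersion.lift OV.ι f' (by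
    rw [Scheme.Opens.range_ι, range_snd_of_isPullback sq]
    exact fun x hx => subset_coborder hx)
  have hg : g ≫ OV.ι = f' := IsOpenImmersion.lift_fac _ _ _
  have sqO : IsPullback (c ∣_ O) OV.ι O.ι c := (isPullback_morphismRestrict c O)
  have sq' : IsPullback c' g fO (c ∣_ O) := by
    refine IsPullback.of_bot (by rwa [hg, hfO]) ((cancel_mono O.ι).1 ?_) sqO
    rw [Category.assoc, hfO, sq.w, Category.assoc, sqO.w, reassoc_of% hg]
  have : IsImmersion g := by
    have : IsImmersion (g ≫ OV.ι) := hg.symm ▸ h
    exact IsImmersion.of_comp g OV.ι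
  have : IsClosedImmersion g := by
    refine isClosedImmersion_of_immersion g ?_
    have : Set.range g = OV.ι ⁻¹' (c ⁻¹' Set.range f) := by
      rw [← range_snd_of_isPullback sq, ← hg, Scheme.Hom.comp_base, TopCat.coe_comp,
        Set.range_comp]
      exact (Set.preimage_image_eq _ OV.ι.isOpenEmbedding.injective).symm
    rw [this]
    have e : OV.ι ⁻¹' (c ⁻¹' Set.range f) = (c ∣_ O) ⁻¹' (Subtype.val ⁻¹' Set.range f) := by
      ext x
      simp [OV]
    rw [e]
    exact (isClosed_preimage_val_coborder (s := Set.range f)).preimage (c ∣_ O).continuous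
  have : IsClosedImmersion fO := fppfDescends_isClosedImmersion _ _ _ _ sq'
    (MorphismProperty.of_isPullback sqO.flip hf) (MorphismProperty.of_isPullback sqO.flip hp)
    (MorphismProperty.of_isPullback sqO.flip hs) this
  rw [← hfO]
  infer_instance

/-- Immersions of sheaves descend along locally surjective maps. -/
theorem representable_of_base_isImmersion {F G H Q : Sp S} {a : F ⟶ G} (b : H ⟶ G)
    [Sheaf.IsLocallySurjective b] {b' : Q ⟶ F} {a' : Q ⟶ H} (sq : IsPullback b' a' a b)
    (h : RepWith @IsImmersion a') : Representable a := by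
  intro U g
  obtain ⟨V, c, l, hf, hp, hs, hl⟩ := exists_fppf_lift b g
  obtain ⟨W, fst, w, sqW⟩ := exists_isPullback_of_representable h.1 l
  have : IsImmersion w.left := h.2 _ _ _ sqW
  have sqP : IsPullback (fst ≫ b') ((yon S).map w) a ((yon S).map c ≫ g) := by
    have := sqW.paste_horiz sq
    rwa [hl] at this
  let P := pullback a g
  let sU := IsPullback.of_hasPullback a g
  let pr := sU.lift (fst ≫ b') ((yon S).map w ≫ (yon S).map c) (by rw [sqP.w, Category.assoc])
  have sq₁ : IsPullback pr ((yon S).map w) (pullback.snd a g) ((yon S).map c) :=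
    IsPullback.of_right (by simpa only [pr, IsPullback.lift_fst] using sqP)
      (by simp only [pr, IsPullback.lift_snd]) sU
  let Z : Set ↥U.left := Points.ofScheme U ⁻¹' Set.range (Points.map (pullback.snd a g))
  have hZ : c.left ⁻¹' Z = Set.range w.left := by
    rw [← preimage_range_map sq₁]
    ext t
    change Points.ofPt (𝟙 _) (c.left t) ∈ Set.range (Points.map (pullback.snd a g)) ↔
      Points.ofPt ((yon S).map c) t ∈ Set.range (Points.map (pullback.snd a g))
    rw [← ofPt_map_comp, Category.comp_id]
  let O : U.left.Opens := ⟨coborder Z, isOpen_coborder_of_preimage c.left (hZ ▸ w.left.isLocallyClosed_range)⟩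
  let U' : Over S := Over.mk (O.ι ≫ U.hom)
  let j : U' ⟶ U := Over.homMk O.ι rfl
  let V' : Over S := Over.mk ((c.left ⁻¹ᵁ O).ι ≫ V.hom)
  let jV : V' ⟶ V := Over.homMk (c.left ⁻¹ᵁ O).ι rfl
  let cO : V' ⟶ U' := Over.homMk (c.left ∣_ O) (by
    change _ ≫ O.ι ≫ U.hom = (c.left ⁻¹ᵁ O).ι ≫ V.hom
    rw [morphismRestrict_ι_assoc, Over.w c])
  have sqO : IsPullback cO jV j c :=
    IsPullback.of_map (Over.forget S) (Over.OverMorphism.ext (morphismRestrict_ι c.left O))
      (isPullback_morphismRestrict c.left O)
  have : Flat cO.left := MorphismProperty.of_isPullback (sqO.map (Over.forget S)).flip hf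
  have : LocallyOfFinitePresentation cO.left := MorphismProperty.of_isPullback (sqO.map (Over.forget S)).flip hp
  have : Surjective cO.left := MorphismProperty.of_isPullback (sqO.map (Over.forget S)).flip hs
  have : Sheaf.IsLocallySurjective ((yon S).map cO) :=
    isLocallySurjective_of_repWith ((repWith_yon_map_iff _ _).2 ‹_›) ((repWith_yon_map_iff _ _).2 ‹_›)
      ((repWith_yon_map_iff _ _).2 ‹_›)
  -- the pullback of `w` to `V'` is a closed immersion
  let W' : Over S := Over.mk (pullback.fst w.left jV.left ≫ W.hom)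
  let w' : W' ⟶ V' := Over.homMk (pullback.snd w.left jV.left) (by
    change _ ≫ _ = pullback.fst _ _ ≫ W.hom
    rw [← Over.w w, ← Over.w jV, pullback.condition_assoc])
  let jW : W' ⟶ W := Over.homMk (pullback.fst w.left jV.left) rfl
  have sqW' : IsPullback jW w' w jV :=
    IsPullback.of_map (Over.forget S) (Over.OverMorphism.ext pullback.condition) (IsPullback.of_hasPullback _ _)
  have : IsImmersion w'.left := MorphismProperty.of_isPullback (sqW'.map (Over.forget S)) ‹_›
  have hw' : IsClosedImmersion w'.left := by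
    refine isClosedImmersion_of_immersion _ ?_
    have hr : Set.range w'.left = (c.left ∣_ O) ⁻¹' (O.ι ⁻¹' Z) := by
      change Set.range (pullback.snd w.left jV.left) = _
      rw [Scheme.Pullback.range_snd, ← hZ]
      ext x
      simp [jV]
      rfl
    rw [hr]
    exact (isClosed_preimage_val_coborder (s := Z)).preimage (c.left ∣_ O).continuous
  -- so the pullback to `U'` is a closed subscheme
  let sU' := IsPullback.of_hasPullback (pullback.snd a g) ((yon S).map j)
  let pr' := sU'.lift ((yon S).map jW ≫ pr) ((yon S).map w' ≫ (yon S).map cO) (by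
    rw [Category.assoc, sq₁.w, ← Functor.map_comp_assoc, sqW'.w, ← Functor.map_comp, ← Functor.map_comp,
      ← Functor.map_comp, Category.assoc, ← sqO.w, Category.assoc])
  have sq₂ : IsPullback pr' ((yon S).map w') (pullback.snd (pullback.snd a g) ((yon S).map j))
      ((yon S).map cO) := by
    refine IsPullback.of_right ?_ (by simp only [pr', IsPullback.lift_snd]) sU'
    have := (isPullback_yon sqW').paste_horiz sq₁
    simpa only [pr', IsPullback.lift_fst, ← Functor.map_comp, sqO.w] using this
  have hrep : Representable (pullback.snd (pullback.snd a g) ((yon S).map j)) :=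
    representable_of_base_isAffineHom _ sq₂ ((repWith_yon_map_iff _ _).2 (inferInstanceAs (IsAffineHom w'.left)))
  obtain ⟨M, mfst, msnd, sqM⟩ := exists_isPullback_of_representable hrep (𝟙 _)
  have : IsIso mfst := sqM.isIso_fst_of_isIso
  obtain ⟨N, e, -, -⟩ := exists_iso_yon_of_openCover (ι := PUnit.{u + 1}) (fun _ => M)
    (fun _ => mfst ≫ pullback.fst (pullback.snd a g) ((yon S).map j))
    (fun _ => repWith_comp (repWith_iso _) (repWith_of_isPullback sU'.flip
      ((repWith_yon_map_iff _ j).2 (inferInstanceAs (IsOpenImmersion O.ι))))) fun x => by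
    have hx : Points.toScheme U (Points.map (pullback.snd a g) x) ∈ O := subset_coborder
      (show Points.toScheme U (Points.map (pullback.snd a g) x) ∈ Z from ⟨x, (Points.ofScheme_toScheme U _).symm⟩)
    have e := Points.toScheme_ofPt (T := U') (T' := U) j ⟨_, hx⟩
    have e' : Points.map (pullback.snd a g) x = Points.map ((yon S).map j) (Points.ofScheme U' ⟨_, hx⟩) := by
      rw [Points.map_ofPt, Category.id_comp]
      exact ((Points.ofScheme_toScheme U (Points.map (pullback.snd a g) x)).symm.trans
        (congrArg (Points.ofScheme U) e.symm)).trans (Points.ofScheme_toScheme U _)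
    obtain ⟨p, hp, -⟩ := exists_of_isPullback sU' e'
    exact ⟨⟨⟩, Points.map (inv mfst) p, by rw [← Points.map_comp, IsIso.inv_hom_id_assoc, hp]⟩
  refine ⟨N, (yon S).preimage (e.hom ≫ pullback.snd a g), e.hom ≫ pullback.fst a g, ?_⟩
  refine (IsPullback.of_hasPullback a g).of_iso e.symm (Iso.refl _) (Iso.refl _) (Iso.refl _) ?_ ?_ ?_ ?_ <;>
    simp

theorem le_isImmersion_of_cases {P : MorphismProperty Scheme.{u}}
    (hP : P = @IsClosedImmersion ∨ P = @IsOpenImmersion ∨ P = @IsImmersion) :
    P ≤ @IsImmersion ∧ FppfDescends P := by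
  rcases hP with rfl | rfl | rfl
  · exact ⟨fun _ _ _ (_ : IsClosedImmersion _) => inferInstance, fppfDescends_isClosedImmersion⟩
  · exact ⟨fun _ _ _ (_ : IsOpenImmersion _) => inferInstance, fppfDescends_isOpenImmersion⟩
  · exact ⟨le_rfl, fppfDescends_isImmersion⟩

/-- Properties of immersions which descend, descend to sheaves. -/
theorem repWith_of_base_isImmersion {F G H Q : Sp S} {a : F ⟶ G} (b : H ⟶ G)
    [Sheaf.IsLocallySurjective b] {b' : Q ⟶ F} {a' : Q ⟶ H} (sq : IsPullback b' a' a b)
    {P : MorphismProperty Scheme.{u}} (hle : P ≤ @IsImmersion) (hP : FppfDescends P) (h : RepWith P a') :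
    RepWith P a :=
  repWith_of_base (representable_of_base_isImmersion b sq (repWith_mono h fun _ _ g hg => hle g hg)) b sq hP h

end GrothLib.AlgSp
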