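import Groth.Prelude.Def_AlgSp3
import Groth.Agent.Lib.AlgSp.ImmersionDescent

/-!
# Affine, integral and finite morphisms of sheaves are the representable ones
-/

universe u

open CategoryTheory CategoryTheory.Limits AlgebraicGeometry Opposite Topology

namespace GrothLib.AlgSp

open _root_.AlgSp

variable {S : Scheme.{u}} {F G : Sp S}

/-- The open piece of `U` given by the `i`-th chart of its affine cover. -/
noncomputable abbrev affPiece (U : Over S) (i : U.left.affineCover.I₀) : Over S :=
  Over.mk (U.left.affineCover.f i ≫ U.hom)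

noncomputable abbrev affPieceι (U : Over S) (i : U.left.affineCover.I₀) : affPiece U i ⟶ U :=
  Over.homMk (U.left.affineCover.f i) rfl

/-- A fibre product over a scheme is a scheme when it is one over an affine open cover. -/
theorem exists_isPullback_of_affineCover {f : F ⟶ G} {U : Over S} (g : (yon S).obj U ⟶ G)
    (h : ∀ i, ∃ (W : Over S) (w : W ⟶ affPiece U i) (fst : (yon S).obj W ⟶ F),
      IsPullback fst ((yon S).map w) f ((yon S).map (affPieceι U i) ≫ g)) :
    ∃ (W : Over S) (w : W ⟶ U) (fst : (yon S).obj W ⟶ F), IsPullback fst ((yon S).map w) f g := by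
  let P := pullback f g
  have key : ∀ i : U.left.affineCover.I₀, ∃ (W : Over S) (m : (yon S).obj W ⟶ P),
      RepWith @IsOpenImmersion m ∧ ∀ (x : Points P) z,
        Points.map (pullback.snd f g) x = Points.ofPt ((yon S).map (Over.homMk
          (U := Over.mk (U.left.affineCover.f i ≫ U.hom)) (V := U) (U.left.affineCover.f i) rfl)) z →
        x ∈ Set.range (Points.map m) := by
    intro i
    let Ui : Over S := Over.mk (U.left.affineCover.f i ≫ U.hom)
    let j : Ui ⟶ U := Over.homMk (U.left.affineCover.f i) rfl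
    obtain ⟨W, w, fst, sq⟩ := h i
    let m := (IsPullback.of_hasPullback f g).lift fst ((yon S).map w ≫ (yon S).map j)
      (by rw [sq.w, Category.assoc])
    have sq' : IsPullback m ((yon S).map w) (pullback.snd f g) ((yon S).map j) :=
      IsPullback.of_right (by simpa only [m, IsPullback.lift_fst] using sq)
        (by simp only [m, IsPullback.lift_snd]) (IsPullback.of_hasPullback f g)
    refine ⟨W, m, repWith_of_isPullback sq'.flip
      ((repWith_yon_map_iff _ j).2 (inferInstanceAs (IsOpenImmersion (U.left.affineCover.f i)))), ?_⟩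
    intro x z hz
    rw [Points.ofPt_eq_map_ofScheme] at hz
    obtain ⟨p, hp, -⟩ := exists_of_isPullback sq' hz
    exact ⟨p, hp⟩
  choose W m hm hr using key
  obtain ⟨M, e, -, -⟩ := exists_iso_yon_of_openCover W m hm fun x => by
    obtain ⟨i, z, hz⟩ := U.left.affineCover.exists_eq (Points.toScheme U (Points.map (pullback.snd f g) x))
    refine ⟨i, hr i x z ?_⟩
    have e := Points.toScheme_ofPt (T := Over.mk (U.left.affineCover.f i ≫ U.hom)) (T' := U)
      (Over.homMk (U.left.affineCover.f i) rfl) z
    exact ((Points.ofScheme_toScheme U (Points.map (pullback.snd f g) x)).symm.trans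
      (congrArg (Points.ofScheme U) (hz.symm.trans e.symm))).trans (Points.ofScheme_toScheme U _)
  refine ⟨M, (yon S).preimage (e.hom ≫ pullback.snd f g), e.hom ≫ pullback.fst f g, ?_⟩
  refine (IsPullback.of_hasPullback f g).of_iso e.symm (Iso.refl _) (Iso.refl _) (Iso.refl _) ?_ ?_ ?_ ?_ <;>
    simp

/-- Representability is Zariski local on the target. -/
theorem representable_of_forall_affine {f : F ⟶ G}
    (h : ∀ (Z : Over S), IsAffine Z.left → ∀ g : (yon S).obj Z ⟶ G,
      ∃ (W : Over S) (i : W ⟶ Z) (fst : (yon S).obj W ⟶ F), IsPullback fst ((yon S).map i) f g) :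
    Representable f := by
  intro U g
  obtain ⟨W, w, fst, sq⟩ := exists_isPullback_of_affineCover g fun i =>
    h _ (inferInstanceAs (IsAffine (U.left.affineCover.X i))) _
  exact ⟨W, w, fst, sq⟩

theorem prop_snd_of_affineCover {P : MorphismProperty Scheme.{u}} [IsZariskiLocalAtTarget P] {f : F ⟶ G}
    {U V : Over S} {g : (yon S).obj U ⟶ G} {fst : (yon S).obj V ⟶ F} {snd : V ⟶ U}
    (sq : IsPullback fst ((yon S).map snd) f g)
    (h : ∀ i, ∃ (W : Over S) (w : W ⟶ affPiece U i) (fst : (yon S).obj W ⟶ F),
      IsPullback fst ((yon S).map w) f ((yon S).map (affPieceι U i) ≫ g) ∧ P w.left) : P snd.left := by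
  rw [IsZariskiLocalAtTarget.iff_of_openCover (P := P) U.left.affineCover]
  intro i
  let j := affPieceι U i
  obtain ⟨W, w, m, sqW, hw⟩ := h i
  have sq₂ := isPullback_stack sq (IsPullback.of_hasPullback snd j)
  obtain ⟨e, he, -⟩ : ∃ e : pullback snd j ≅ W, e.hom ≫ w = pullback.snd snd j ∧ True := by
    refine ⟨(yon S).preimageIso (sq₂.isoIsPullback _ _ sqW), (yon S).map_injective ?_, trivial⟩
    simp
  have : P (pullback.snd snd j).left := by
    rw [← he, Over.comp_left]
    exact P.cancel_left_of_respectsIso ((Over.forget S).mapIso e).hom w.left |>.2 hw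
  have sq₃ := (IsPullback.of_hasPullback snd j).map (Over.forget S)
  change P (pullback.snd ((Over.forget S).map snd) ((Over.forget S).map j))
  exact (P.cancel_left_of_respectsIso sq₃.isoPullback.hom _).1
    (by rw [sq₃.isoPullback_hom_snd]; exact this)

/-- A property local at the target is checked over affine schemes. -/
theorem repWith_of_forall_affine {P : MorphismProperty Scheme.{u}} [IsZariskiLocalAtTarget P] {f : F ⟶ G}
    (h : ∀ (Z : Over S), IsAffine Z.left → ∀ g : (yon S).obj Z ⟶ G,
      ∃ (W : Over S) (i : W ⟶ Z) (fst : (yon S).obj W ⟶ F), IsPullback fst ((yon S).map i) f g ∧ P i.left) :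
    RepWith P f := by
  refine ⟨representable_of_forall_affine fun Z hZ g => ?_, fun U V g fst snd sq => ?_⟩
  · obtain ⟨W, i, m, hsq, -⟩ := h Z hZ g
    exact ⟨W, i, m, hsq⟩
  · exact prop_snd_of_affineCover sq fun i =>
      h _ (inferInstanceAs (IsAffine (U.left.affineCover.X i))) _

theorem isAffineMor_iff {f : F ⟶ G} : IsAffineMor f ↔ RepWith @IsAffineHom f := by
  constructor
  · intro h
    refine repWith_of_forall_affine fun Z hZ g => ?_
    obtain ⟨W, i, fst, sq, hW⟩ := h hZ g
    exact ⟨W, i, fst, sq, isAffineHom_of_isAffine i.left⟩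
  · intro h Z hZ g
    obtain ⟨W, fst, i, sq⟩ := exists_isPullback_of_representable h.1 g
    have : IsAffineHom i.left := h.2 _ _ _ sq
    exact ⟨W, i, fst, sq, isAffine_of_isAffineHom i.left⟩

theorem isIntegralMor_iff {f : F ⟶ G} : IsIntegralMor f ↔ RepWith @IsIntegralHom f := by
  constructor
  · intro h
    refine repWith_of_forall_affine fun Z hZ g => ?_
    obtain ⟨W, i, fst, sq, -, hi⟩ := h hZ g
    exact ⟨W, i, fst, sq, hi⟩
  · intro h Z hZ g
    obtain ⟨W, fst, i, sq⟩ := exists_isPullback_of_representable h.1 g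
    have : IsIntegralHom i.left := h.2 _ _ _ sq
    exact ⟨W, i, fst, sq, isAffine_of_isAffineHom i.left, this⟩

theorem isFiniteMor_iff {f : F ⟶ G} : IsFiniteMor f ↔ RepWith @IsFinite f := by
  constructor
  · intro h
    refine repWith_of_forall_affine fun Z hZ g => ?_
    obtain ⟨W, i, fst, sq, -, hi⟩ := h hZ g
    exact ⟨W, i, fst, sq, hi⟩
  · intro h Z hZ g
    obtain ⟨W, fst, i, sq⟩ := exists_isPullback_of_representable h.1 g
    have : IsFinite i.left := h.2 _ _ _ sq
    exact ⟨W, i, fst, sq, isAffine_of_isAffineHom i.left, this⟩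

end GrothLib.AlgSp
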