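import Mathlib.AlgebraicGeometry.Morphisms.UniversallyOpen
import Mathlib.AlgebraicGeometry.Morphisms.Flat
import Mathlib.AlgebraicGeometry.Morphisms.FlatMono
import Mathlib.RingTheory.Spectrum.Prime.Chevalley

/-!
# Morphisms to the spectrum of a field
-/

universe u

open CategoryTheory CategoryTheory.Limits AlgebraicGeometry Opposite TensorProduct

namespace GrothLib.AlgSp

theorem universallyOpen_to_field {k : Type u} [Field k] {X : Scheme.{u}} (f : X ⟶ Spec (.of k)) :
    UniversallyOpen f :=
  haveI : Subsingleton ↥(Spec (CommRingCat.of k)) := inferInstanceAs (Subsingleton (PrimeSpectrum k))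
  inferInstance

theorem flat_to_field {k : Type u} [Field k] {X : Scheme.{u}} (f : X ⟶ Spec (.of k)) : Flat f := by
  wlog hX : ∃ B, X = Spec B generalizing X
  · rw [IsZariskiLocalAtSource.iff_of_openCover (P := @Flat) X.affineCover]
    exact fun i => this _ ⟨_, rfl⟩
  obtain ⟨B, rfl⟩ := hX
  obtain ⟨φ, rfl⟩ := Spec.map_surjective f
  rw [HasRingHomProperty.Spec_iff (P := @Flat)]
  algebraize [φ.hom]
  exact (inferInstance : Module.Flat k B)

theorem isIso_of_mono_to_field {k : Type u} [Field k] {X : Scheme.{u}} (f : X ⟶ Spec (.of k)) [Mono f]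
    [Nonempty X] : IsIso f := by
  have := flat_to_field f
  have : Surjective f := ⟨fun x => ⟨Classical.arbitrary X, Subsingleton.elim (α := PrimeSpectrum k) _ _⟩⟩
  have : Subsingleton X := ⟨fun a b => f.injective (Subsingleton.elim (α := PrimeSpectrum k) _ _)⟩
  have : QuasiCompact f := ⟨fun U _ _ => (Set.subsingleton_of_subsingleton).isCompact⟩
  exact Flat.isIso_of_surjective_of_mono f

end GrothLib.AlgSp
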