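import Groth.Agent.Lib.AlgSp.Space
import Groth.Agent.Lib.AlgSp.SourceDescent
import Groth.Agent.Lib.AlgSp.FppfDescent
import Groth.Prelude.Def_AlgSp3

/-!
# Diagonals
-/

universe u

open CategoryTheory CategoryTheory.Limits AlgebraicGeometry Opposite

namespace GrothLib.AlgSp

open _root_.AlgSp

variable {S : Scheme.{u}}

theorem isPullback_prodMap_left {X Y : Sp S} (f : X ⟶ Y) (Z : Sp S) :
    IsPullback (prod.fst : X ⨯ Z ⟶ X) (prod.map f (𝟙 Z)) f prod.fst :=
  isPullback_of_yon (prod.map_fst _ _).symm fun T a b h => by
    refine ⟨prod.lift a (b ≫ prod.snd), ⟨prod.lift_fst _ _, ?_⟩, ?_⟩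
    · apply prod.hom_ext
      · simp only [Category.assoc, prod.map_fst, prod.lift_fst_assoc]
        exact h
      · simp only [Category.assoc, prod.map_snd, Category.comp_id, prod.lift_snd]
    · rintro c ⟨c₁, c₂⟩
      apply prod.hom_ext
      · rw [prod.lift_fst, c₁]
      · rw [prod.lift_snd, ← c₂, Category.assoc, prod.map_snd, Category.comp_id]

theorem isPullback_prodMap_right {X Y : Sp S} (f : X ⟶ Y) (Z : Sp S) :
    IsPullback (prod.snd : Z ⨯ X ⟶ X) (prod.map (𝟙 Z) f) f prod.snd :=
  isPullback_of_yon (prod.map_snd _ _).symm fun T a b h => by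
    refine ⟨prod.lift (b ≫ prod.fst) a, ⟨prod.lift_snd _ _, ?_⟩, ?_⟩
    · apply prod.hom_ext
      · simp only [Category.assoc, prod.map_fst, Category.comp_id, prod.lift_fst]
      · simp only [Category.assoc, prod.map_snd, prod.lift_snd_assoc]
        exact h
    · rintro c ⟨c₁, c₂⟩
      apply prod.hom_ext
      · rw [prod.lift_fst, ← c₂, Category.assoc, prod.map_fst, Category.comp_id]
      · rw [prod.lift_snd, c₁]

theorem repWith_prodMap {P : MorphismProperty Scheme.{u}} [P.IsStableUnderComposition] {X Y X' Y' : Sp S}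
    {f : X ⟶ Y} {g : X' ⟶ Y'} (hf : RepWith P f) (hg : RepWith P g) : RepWith P (prod.map f g) := by
  have : prod.map f g = prod.map f (𝟙 X') ≫ prod.map (𝟙 Y) g := by simp
  rw [this]
  exact repWith_comp (repWith_of_isPullback (isPullback_prodMap_left f X') hf)
    (repWith_of_isPullback (isPullback_prodMap_right g Y) hg)

/-- The diagonal of an algebraic space has property `P` as soon as `(t, s) : R ⟶ U × U` does for an atlas. -/
theorem repWith_diag_of_atlas {P : MorphismProperty Scheme.{u}} [P.IsStableUnderBaseChange]
    (hP : FppfDescends P) {X : Sp S} (hX : IsAlgSpace X)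
    (h : ∀ ⦃R U : Over S⦄ (t s : R ⟶ U), Etale t.left → Etale s.left → Mono (prod.lift t s).left →
      P (prod.lift t s).left) : RepWith P (Limits.diag X) := by
  obtain ⟨U, p, pe, ps⟩ := hX.atlas
  obtain ⟨R, t, s, sq⟩ := exists_isPullback_yon hX.diag p p
  have : Sheaf.IsLocallySurjective p := chart_isLocallySurjective pe ps
  have hb : Sheaf.IsLocallySurjective (prod.map p p) := isLocallySurjective_of_repWith
    (repWith_prodMap (repWith_mono pe fun _ _ g (_ : Etale g) => inferInstance)
      (repWith_mono pe fun _ _ g (_ : Etale g) => inferInstance))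
    (repWith_prodMap (repWith_mono pe fun _ _ g (_ : Etale g) => inferInstance)
      (repWith_mono pe fun _ _ g (_ : Etale g) => inferInstance))
    (repWith_prodMap ps ps)
  have sq' : IsPullback ((yon S).map t ≫ p) (prod.lift ((yon S).map t) ((yon S).map s))
      (Limits.diag X) (prod.map p p) := by
    refine isPullback_of_yon ?_ fun T a b hab => ?_
    · apply prod.hom_ext
      · simp only [Limits.diag, Category.assoc, prod.comp_lift, prod.map_fst, Category.comp_id,
          prod.lift_fst, prod.lift_fst_assoc]
      · simp only [Limits.diag, Category.assoc, prod.comp_lift, prod.map_snd, Category.comp_id,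
          prod.lift_snd, prod.lift_snd_assoc, sq.w]
    · have h1 := congrArg (fun x => x ≫ prod.fst) hab
      have h2 := congrArg (fun x => x ≫ prod.snd) hab
      simp only [Category.assoc, prod.lift_fst, prod.lift_snd, prod.map_fst, prod.map_snd,
        Category.comp_id] at h1 h2
      refine ⟨sq.lift (b ≫ prod.fst) (b ≫ prod.snd) (by simp only [Category.assoc]; rw [← h1, h2]),
        ⟨?_, ?_⟩, ?_⟩
      · rw [sq.lift_fst_assoc, Category.assoc, h1]
      · apply prod.hom_ext <;>
          simp only [Category.assoc, prod.lift_fst, prod.lift_snd, IsPullback.lift_fst, IsPullback.lift_snd]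
      · rintro c ⟨-, c₂⟩
        apply sq.hom_ext
        · rw [sq.lift_fst, ← c₂, Category.assoc, prod.lift_fst]
        · rw [sq.lift_snd, ← c₂, Category.assoc, prod.lift_snd]
  refine repWith_of_base hX.diag (prod.map p p) sq' hP ?_
  have e : prod.lift ((yon S).map t) ((yon S).map s) =
      (yon S).map (prod.lift t s) ≫ prodComparison (yon S) U U := by
    simp only [prodComparison, prod.comp_lift, ← Functor.map_comp, prod.lift_fst, prod.lift_snd]
  rw [e]
  have : P.RespectsIso := MorphismProperty.IsStableUnderBaseChange.respectsIso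
  refine (MorphismProperty.cancel_right_of_respectsIso (RepWith P) _ _).2 ((repWith_yon_map_iff P _).2 ?_)
  have hm : Mono (prod.lift t s) := ⟨fun a b hab => by
    have ht : a ≫ t = b ≫ t := by
      simpa only [Category.assoc, prod.lift_fst] using congrArg (fun x => x ≫ (prod.fst : U ⨯ U ⟶ U)) hab
    have hs : a ≫ s = b ≫ s := by
      simpa only [Category.assoc, prod.lift_snd] using congrArg (fun x => x ≫ (prod.snd : U ⨯ U ⟶ U)) hab
    refine (yon S).map_injective (sq.hom_ext ?_ ?_) <;> rw [← Functor.map_comp, ← Functor.map_comp]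
    · rw [ht]
    · rw [hs]⟩
  exact h t s (pe.2 _ _ _ sq.flip) (pe.2 _ _ _ sq) ((Over.forget S).map_mono (prod.lift t s))

theorem repWith_diag_lft {X : Sp S} (hX : IsAlgSpace X) : RepWith @LocallyOfFiniteType (Limits.diag X) :=
  repWith_diag_of_atlas fppfDescends_lft hX fun R U t s ht _ _ => by
    have : LocallyOfFiniteType ((prod.lift t s).left ≫ (prod.fst : U ⨯ U ⟶ U).left) := by
      rw [← Over.comp_left, prod.lift_fst]; infer_instance
    exact locallyOfFiniteType_of_comp _ (prod.fst : U ⨯ U ⟶ U).left

theorem repWith_diag_mono {X : Sp S} (hX : IsAlgSpace X) :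
    RepWith (MorphismProperty.monomorphisms Scheme.{u}) (Limits.diag X) :=
  repWith_diag_of_atlas fppfDescends_monomorphisms hX fun _ _ _ _ _ _ h => h

theorem repWith_diag_separated {X : Sp S} (hX : IsAlgSpace X) : RepWith @IsSeparated (Limits.diag X) :=
  repWith_mono (repWith_diag_mono hX) fun _ _ g (_ : Mono g) => inferInstance

theorem repWith_diag_lqf {X : Sp S} (hX : IsAlgSpace X) : RepWith @LocallyQuasiFinite (Limits.diag X) :=
  repWith_diag_of_atlas fppfDescends_locallyQuasiFinite hX fun R U t s ht _ _ => by
    have : LocallyQuasiFinite ((prod.lift t s).left ≫ (prod.fst : U ⨯ U ⟶ U).left) := by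
      rw [← Over.comp_left, prod.lift_fst]; exact locallyQuasiFinite_of_unramified _
    exact LocallyQuasiFinite.of_comp _ (prod.fst : U ⨯ U ⟶ U).left

theorem repWith_diag_lqf_lft {X : Sp S} (hX : IsAlgSpace X) :
    RepWith (@LocallyQuasiFinite ⊓ @LocallyOfFiniteType) (Limits.diag X) :=
  repWith_inf_iff.2 ⟨repWith_diag_lqf hX, repWith_diag_lft hX⟩

theorem isPullback_diagonal_diag {X Y : Sp S} (f : X ⟶ Y) :
    IsPullback (𝟙 X) (pullback.diagonal f) (Limits.diag X)
      (prod.lift (pullback.fst f f) (pullback.snd f f)) := by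
  refine isPullback_of_yon (by apply prod.hom_ext <;> simp) fun T a b hab => ?_
  have h1 := congrArg (fun x => x ≫ prod.fst) hab
  have h2 := congrArg (fun x => x ≫ prod.snd) hab
  simp only [Category.assoc, prod.lift_fst, prod.lift_snd, Category.comp_id] at h1 h2
  refine ⟨a, ⟨Category.comp_id _, ?_⟩, fun c hc => by rw [← hc.1, Category.comp_id]⟩
  apply pullback.hom_ext
  · rw [Category.assoc, pullback.diagonal_fst, Category.comp_id, ← h1]
  · rw [Category.assoc, pullback.diagonal_snd, Category.comp_id, ← h2]

theorem repWith_diagonal {P : MorphismProperty Scheme.{u}} {X Y : Sp S} (f : X ⟶ Y)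
    (h : RepWith P (Limits.diag X)) : RepWith P (pullback.diagonal f) :=
  repWith_of_isPullback (isPullback_diagonal_diag f) h

/-- A section is a base change of the diagonal. -/
theorem isPullback_section {X T : Sp S} (f : X ⟶ T) (s : T ⟶ X) (hs : s ≫ f = 𝟙 T) :
    IsPullback s s (pullback.diagonal f)
      (pullback.lift (𝟙 X) (f ≫ s) (by rw [Category.assoc, hs, Category.comp_id, Category.id_comp])) := by
  refine isPullback_of_yon ?_ fun U a b hab => ?_
  · apply pullback.hom_ext
    · simp only [Category.assoc, pullback.diagonal_fst, pullback.lift_fst]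
    · simp only [Category.assoc, pullback.diagonal_snd, pullback.lift_snd, reassoc_of% hs,
        Category.comp_id]
  · have h1 := congrArg (fun x => x ≫ pullback.fst f f) hab
    have h2 := congrArg (fun x => x ≫ pullback.snd f f) hab
    simp only [Category.assoc, pullback.diagonal_fst, pullback.diagonal_snd, pullback.lift_fst,
      pullback.lift_snd, Category.comp_id] at h1 h2
    refine ⟨b ≫ f, ⟨by rw [Category.assoc, ← h2], by rw [Category.assoc, ← h2, h1]⟩, ?_⟩
    rintro c ⟨-, c₂⟩
    rw [← c₂, Category.assoc, hs, Category.comp_id]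

theorem repWith_section {P : MorphismProperty Scheme.{u}} {X T : Sp S} (f : X ⟶ T) (s : T ⟶ X)
    (hs : s ≫ f = 𝟙 T) (h : RepWith P (pullback.diagonal f)) : RepWith P s :=
  repWith_of_isPullback (isPullback_section f s hs) h

theorem repWith_mapDesc {P : MorphismProperty Scheme.{u}} {X Y Z T : Sp S} (f : X ⟶ Z) (g : Y ⟶ Z)
    (h : Z ⟶ T) (hh : RepWith P (pullback.diagonal h)) : RepWith P (pullback.mapDesc f g h) :=
  repWith_of_isPullback (pullback_map_diagonal_isPullback f g h) hh

/-- Permanence: `a` inherits a property of `a ≫ b` along `Δ_b`. -/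
theorem repWith_of_comp_diagonal {P : MorphismProperty Scheme.{u}} [P.IsStableUnderComposition]
    {Z Y X : Sp S} (a : Z ⟶ Y) (b : Y ⟶ X) (hd : RepWith P (pullback.diagonal b))
    (h : RepWith P (a ≫ b)) : RepWith P a := by
  let s : Z ⟶ pullback (a ≫ b) b := pullback.lift (𝟙 Z) a (Category.id_comp _)
  have hs : s ≫ pullback.fst (a ≫ b) b = 𝟙 Z := pullback.lift_fst _ _ _
  have sqd : IsPullback a s (pullback.diagonal b)
      (pullback.map (a ≫ b) b b b a (𝟙 Y) (𝟙 X) (by simp) (by simp)) := by
    refine isPullback_of_yon ?_ fun T u v huv => ?_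
    · apply pullback.hom_ext
      · simp only [s, pullback.map, Category.assoc, pullback.diagonal_fst, pullback.lift_fst,
          pullback.lift_fst_assoc, Category.comp_id, Category.id_comp]
      · simp only [s, pullback.map, Category.assoc, pullback.diagonal_snd, pullback.lift_snd,
          pullback.lift_snd_assoc, Category.comp_id]
    · have h1 := congrArg (fun x => x ≫ pullback.fst b b) huv
      have h2 := congrArg (fun x => x ≫ pullback.snd b b) huv
      simp only [pullback.map, Category.assoc, pullback.diagonal_fst, pullback.diagonal_snd,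
        pullback.lift_fst, pullback.lift_snd, Category.comp_id] at h1 h2
      refine ⟨v ≫ pullback.fst _ _, ⟨by rw [Category.assoc, ← h1], ?_⟩, ?_⟩
      · apply pullback.hom_ext
        · simp only [s, Category.assoc, pullback.lift_fst, Category.comp_id]
        · simp only [s, Category.assoc, pullback.lift_snd]
          rw [← h1, h2]
      · rintro c ⟨-, c₂⟩
        rw [← c₂, Category.assoc, hs, Category.comp_id]
  rw [← pullback.lift_snd (𝟙 Z) a (Category.id_comp (a ≫ b))]
  exact repWith_comp (repWith_of_isPullback sqd hd)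
    (repWith_of_isPullback (IsPullback.of_hasPullback (a ≫ b) b) h)

/-- The diagonal of a base change. -/
theorem isPullback_diagonal_of_isPullback {F G H Q : Sp S} {f : F ⟶ G} {g : H ⟶ G} {fst : Q ⟶ F}
    {snd : Q ⟶ H} (sq : IsPullback fst snd f g) :
    IsPullback fst (pullback.diagonal snd) (pullback.diagonal f)
      (pullback.map snd snd f f fst fst g sq.w.symm sq.w.symm) := by
  refine isPullback_of_yon ?_ fun T a b hab => ?_
  · apply pullback.hom_ext
    · simp only [pullback.map, Category.assoc, pullback.diagonal_fst, pullback.lift_fst,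
        pullback.diagonal_fst_assoc, Category.comp_id]
    · simp only [pullback.map, Category.assoc, pullback.diagonal_snd, pullback.lift_snd,
        pullback.diagonal_snd_assoc, Category.comp_id]
  · have h1 := congrArg (fun x => x ≫ pullback.fst f f) hab
    have h2 := congrArg (fun x => x ≫ pullback.snd f f) hab
    simp only [pullback.map, Category.assoc, pullback.diagonal_fst, pullback.diagonal_snd,
      pullback.lift_fst, pullback.lift_snd, Category.comp_id] at h1 h2
    refine ⟨b ≫ pullback.fst _ _, ⟨by rw [Category.assoc, ← h1], ?_⟩, ?_⟩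
    · apply pullback.hom_ext
      · simp
      · simp only [Category.assoc, pullback.diagonal_snd, Category.comp_id]
        apply sq.hom_ext
        · simp only [Category.assoc]; rw [← h1, h2]
        · simp only [Category.assoc, pullback.condition]
    · rintro c ⟨-, c₂⟩
      rw [← c₂, Category.assoc, pullback.diagonal_fst, Category.comp_id]

theorem repWith_diagonal_iff_of_representable {P : MorphismProperty Scheme.{u}} [P.IsStableUnderBaseChange]
    {X Y : Sp S} {f : X ⟶ Y} (hf : Representable f) :
    RepWith P (pullback.diagonal f) ↔ RepWith P.diagonal f := by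
  constructor
  · refine fun h => ⟨hf, fun U V g fst snd sq => ?_⟩
    exact (repWith_diagonal_yon_map_iff P snd).1
      (repWith_of_isPullback (isPullback_diagonal_of_isPullback sq) h)
  · intro h
    have : P.RespectsIso := MorphismProperty.IsStableUnderBaseChange.respectsIso
    refine repWith_mk fun T g => ?_
    obtain ⟨V, fst, snd, sq⟩ := exists_isPullback_of_representable hf (g ≫ pullback.fst f f ≫ f)
    have hd := (repWith_diagonal_yon_map_iff P snd).2 (h.2 _ _ _ sq)
    let γ : (yon S).obj T ⟶ pullback ((yon S).map snd) ((yon S).map snd) :=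
      pullback.lift (sq.lift (g ≫ pullback.fst f f) (𝟙 _) (by simp))
        (sq.lift (g ≫ pullback.snd f f) (𝟙 _) (by simp [pullback.condition])) (by simp)
    have hγ : γ ≫ pullback.map _ _ f f fst fst (g ≫ pullback.fst f f ≫ f) sq.w.symm sq.w.symm = g := by
      apply pullback.hom_ext <;>
        simp only [γ, pullback.map, Category.assoc, pullback.lift_fst, pullback.lift_snd,
          pullback.lift_fst_assoc, pullback.lift_snd_assoc, IsPullback.lift_fst, IsPullback.lift_snd]
    obtain ⟨W, w₁, w₂, sqW⟩ := exists_isPullback_of_representable hd.1 γ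
    refine ⟨W, w₁ ≫ fst, w₂, ?_, hd.2 _ _ _ sqW⟩
    have hp := sqW.paste_horiz (isPullback_diagonal_of_isPullback sq)
    rwa [hγ] at hp

theorem isSeparatedMor_iff_repWith {X Y : Sp S} {f : X ⟶ Y} (hf : Representable f) :
    IsSeparatedMor f ↔ RepWith @IsSeparated f := by
  rw [IsSeparatedMor, repWith_diagonal_iff_of_representable hf,
    ← IsSeparated.isSeparated_eq_diagonal_isClosedImmersion]

theorem isQuasiSeparatedMor_iff_repWith {X Y : Sp S} {f : X ⟶ Y} (hf : Representable f) :
    IsQuasiSeparatedMor f ↔ RepWith @QuasiSeparated f := by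
  rw [IsQuasiSeparatedMor, repWith_diagonal_iff_of_representable hf,
    ← quasiSeparated_eq_diagonal_is_quasiCompact]

theorem mono_of_repWith_mono {X Y : Sp S} {f : X ⟶ Y}
    (hf : RepWith (MorphismProperty.monomorphisms Scheme.{u}) f) : Mono f := by
  refine mono_of_yon fun T a b hab => ?_
  obtain ⟨V, fst, snd, sq⟩ := exists_isPullback_of_representable hf.1 (a ≫ f)
  let α : T ⟶ V := (yon S).preimage (sq.lift a (𝟙 _) (by simp))
  let β : T ⟶ V := (yon S).preimage (sq.lift b (𝟙 _) (by simp [hab]))
  have hm : Mono snd.left := hf.2 _ _ _ sq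
  have e : α = β := by
    apply Over.OverMorphism.ext
    rw [← cancel_mono snd.left, ← Over.comp_left, ← Over.comp_left]
    exact congrArg _ ((yon S).map_injective (by simp [α, β]))
  rw [← sq.lift_fst a (𝟙 _) (by simp), ← sq.lift_fst b (𝟙 _) (by simp [hab]),
    ← (yon S).map_preimage (sq.lift a (𝟙 _) (by simp)), ← (yon S).map_preimage (sq.lift b (𝟙 _) (by simp [hab]))]
  change (yon S).map α ≫ fst = (yon S).map β ≫ fst
  rw [e]

end GrothLib.AlgSp
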