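import Groth.Agent.Lib.AlgSp.EqvAlgLocal
import Groth.Agent.Lib.AlgSp.SourceDescent
import Mathlib.RingTheory.Etale.QuasiFinite
import Mathlib.RingTheory.Smooth.IntegralClosure
import Mathlib.RingTheory.Flat.Equalizer

/-!
# Quasi-finite etale equivalence relations of affine schemes

* `EqvAlg.etale_inv_val`, `EqvAlg.exists_of_agree`: if `C` is of finite type and quasi-finite over `A`, then
  `Spec C → Spec inv` is etale and its fibres are the orbits.
-/

universe u

open TensorProduct CategoryTheory CategoryTheory.Limits AlgebraicGeometry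

namespace GrothLib.AlgSp

theorem etale_includeRight (A A' C : Type u) [CommRing A] [CommRing A'] [CommRing C] [Algebra A A'] [Algebra A C]
    [Algebra.Etale A A'] :
    ((Algebra.TensorProduct.includeRight : C →ₐ[A] A' ⊗[A] C).toRingHom).Etale := by
  have h : (algebraMap C (C ⊗[A] A')).Etale := RingHom.etale_algebraMap.2 inferInstance
  have e : (Algebra.TensorProduct.includeRight : C →ₐ[A] A' ⊗[A] C).toRingHom =
      (Algebra.TensorProduct.comm A C A').toRingEquiv.toRingHom.comp (algebraMap C (C ⊗[A] A')) :=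
    RingHom.ext fun c => rfl
  rw [e]
  exact RingHom.Etale.respectsIso.1 _ _ h

theorem etale_map_id {A A' C D : Type u} [CommRing A] [CommRing A'] [CommRing C] [CommRing D] [Algebra A A']
    [Algebra A C] [Algebra A D] (σ : C →ₐ[A] D) (hσ : σ.toRingHom.Etale) :
    ((Algebra.TensorProduct.map (AlgHom.id A' A') σ).toRingHom).Etale := by
  letI : Algebra C D := σ.toRingHom.toAlgebra
  haveI : IsScalarTower A C D := IsScalarTower.of_algebraMap_eq fun a => (σ.commutes a).symm
  haveI : Algebra.Etale C D := RingHom.etale_algebraMap.1 hσ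
  have h : (algebraMap (C ⊗[A] A') ((C ⊗[A] A') ⊗[C] D)).Etale := RingHom.etale_algebraMap.2 inferInstance
  let e : (C ⊗[A] A') ⊗[C] D ≃+* A' ⊗[A] D :=
    ((Algebra.TensorProduct.comm C (C ⊗[A] A') D).toRingEquiv.trans
      (Algebra.TensorProduct.cancelBaseChange A C C D A').toRingEquiv).trans
      (Algebra.TensorProduct.comm A D A').toRingEquiv
  have he : (Algebra.TensorProduct.map (AlgHom.id A' A') σ).toRingHom =
      (e.toRingHom.comp (algebraMap (C ⊗[A] A') ((C ⊗[A] A') ⊗[C] D))).comp
        (Algebra.TensorProduct.comm A A' C).toRingEquiv.toRingHom := by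
    refine RingHom.ext fun x => ?_
    induction x with
    | zero => simp
    | tmul a c =>
      simp [e, Algebra.TensorProduct.algebraMap_apply, Algebra.smul_def]
      rfl
    | add x y hx hy => simp only [map_add, hx, hy]
  rw [he]
  exact RingHom.Etale.respectsIso.2 _ _ (RingHom.Etale.respectsIso.1 _ _ h)

namespace EqvAlg

variable {A C D : Type u} [CommRing A] [CommRing C] [CommRing D] [Algebra A C] [Algebra A D]
  (E : EqvAlg A C D) (A' : Type u) [CommRing A'] [Algebra A A']

theorem exists_baseChange : ∃ E' : EqvAlg A' (A' ⊗[A] C) (A' ⊗[A] D),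
    E'.σ = Algebra.TensorProduct.map (AlgHom.id A' A') E.σ ∧
      E'.τ = Algebra.TensorProduct.map (AlgHom.id A' A') E.τ := by
  let σ' := Algebra.TensorProduct.map (AlgHom.id A' A') E.σ
  let τ' := Algebra.TensorProduct.map (AlgHom.id A' A') E.τ
  refine ⟨⟨σ', τ', fun x => ?_, etale_map_id E.σ E.etale, fun K _ _ => ?_⟩, rfl, rfl⟩
  · induction x with
    | zero => exact ⟨0, map_zero _⟩
    | tmul a d =>
      obtain ⟨z, rfl⟩ := E.surj d
      induction z with
      | zero => exact ⟨0, by rw [map_zero, map_zero, TensorProduct.tmul_zero]⟩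
      | tmul b c => exact ⟨(a ⊗ₜ b) ⊗ₜ (1 ⊗ₜ c), by simp [σ', τ', Algebra.TensorProduct.tmul_mul_tmul]⟩
      | add x y hx hy =>
        obtain ⟨x', hx'⟩ := hx
        obtain ⟨y', hy'⟩ := hy
        exact ⟨x' + y', by rw [map_add, hx', hy', map_add, TensorProduct.tmul_add]⟩
    | add x y hx hy =>
      obtain ⟨x', hx'⟩ := hx
      obtain ⟨y', hy'⟩ := hy
      exact ⟨x' + y', by rw [map_add, hx', hy']⟩
  · letI : Algebra A K := ((algebraMap A' K).comp (algebraMap A A')).toAlgebra
    haveI : IsScalarTower A A' K := IsScalarTower.of_algebraMap_eq fun _ => rfl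
    let pt : (A' ⊗[A] C →ₐ[A'] K) → (C →ₐ[A] K) := fun u =>
      (u.restrictScalars A).comp Algebra.TensorProduct.includeRight
    have key : ∀ u v : A' ⊗[A] C →ₐ[A'] K,
        (∃ r : D →ₐ[A] K, r.comp E.σ = pt u ∧ r.comp E.τ = pt v) ↔
          ∃ r : A' ⊗[A] D →ₐ[A'] K, r.comp σ' = u ∧ r.comp τ' = v := by
      intro u v
      constructor
      · rintro ⟨r, h₁, h₂⟩
        refine ⟨Algebra.TensorProduct.lift (Algebra.ofId A' K) r fun _ _ => Commute.all _ _, ?_, ?_⟩ <;>
          apply Algebra.TensorProduct.ext (by ext) <;> ext c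
        · simpa [σ', pt] using AlgHom.congr_fun h₁ c
        · simpa [τ', pt] using AlgHom.congr_fun h₂ c
      · rintro ⟨r, rfl, rfl⟩
        exact ⟨(r.restrictScalars A).comp Algebra.TensorProduct.includeRight,
          AlgHom.ext fun c => by simp [pt, σ'], AlgHom.ext fun c => by simp [pt, τ']⟩
    have hE := E.eqv K
    exact
      { refl := fun u => (key u u).1 (hE.refl _)
        symm := fun {u v} h => (key v u).1 (hE.symm ((key u v).2 h))
        trans := fun {u v w} h h' => (key u w).1 (hE.trans ((key u v).2 h) ((key v w).2 h')) }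

variable [Algebra.Etale A A'] {E' : EqvAlg A' (A' ⊗[A] C) (A' ⊗[A] D)}
  (hσ : E'.σ = Algebra.TensorProduct.map (AlgHom.id A' A') E.σ)
  (hτ : E'.τ = Algebra.TensorProduct.map (AlgHom.id A' A') E.τ)

include hσ hτ in
/-- The invariant integral elements commute with etale base change. -/
theorem exists_inv_bijective : ∃ θ : A' ⊗[A] E.inv →ₐ[A'] E'.inv, Function.Bijective θ ∧
    ∀ z, (θ z : A' ⊗[A] C) = Algebra.TensorProduct.map (AlgHom.id A' A') E.inv.val z := by
  let m := Algebra.TensorProduct.map (AlgHom.id A' A') E.inv.val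
  have hm : ∀ z, m z ∈ E'.inv := fun z => by
    induction z with
    | zero => rw [map_zero]; exact zero_mem _
    | tmul a b =>
      refine ⟨?_, ?_⟩
      · change E'.σ (m (a ⊗ₜ b)) = E'.τ (m (a ⊗ₜ b))
        simp [m, hσ, hτ, show E.σ b = E.τ b from b.2.1]
      · change IsIntegral A' (m (a ⊗ₜ b))
        have hb : IsIntegral A (b : C) := b.2.2
        have := ((hb.map (Algebra.TensorProduct.includeRight : C →ₐ[A] A' ⊗[A] C)).tower_top (A := A')).smul a
        simpa [m, TensorProduct.smul_tmul'] using this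
    | add x y hx hy => rw [map_add]; exact add_mem hx hy
  refine ⟨m.codRestrict E'.inv hm, ⟨?_, fun x => ?_⟩, fun z => rfl⟩
  · refine fun x y hxy => ?_
    exact Module.Flat.lTensor_preserves_injective_linearMap (M := A') E.inv.val.toLinearMap
      Subtype.val_injective (congrArg Subtype.val hxy)
  · let Eq := AlgHom.equalizer E.σ E.τ
    have hx : (x : A' ⊗[A] C) ∈ AlgHom.equalizer (Algebra.TensorProduct.map (AlgHom.id A' A') E.σ)
        (Algebra.TensorProduct.map (AlgHom.id A' A') E.τ) := hσ ▸ hτ ▸ x.2.1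
    obtain ⟨z, hz⟩ := (AlgHom.tensorEqualizerEquiv A' A' E.σ E.τ).surjective ⟨x, hx⟩
    let mE := Algebra.TensorProduct.map (AlgHom.id A' A') Eq.val
    have hz' : mE z = (x : A' ⊗[A] C) := by
      have := congrArg Subtype.val hz
      rwa [AlgHom.tensorEqualizerEquiv_apply, AlgHom.coe_tensorEqualizer] at this
    have hzi : IsIntegral A' z := (isIntegral_algHom_iff mE
      (Module.Flat.lTensor_preserves_injective_linearMap (M := A') Eq.val.toLinearMap
        Subtype.val_injective)).1 (hz' ▸ x.2.2)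
    obtain ⟨y, hy⟩ := TensorProduct.toIntegralClosure_bijective_of_smooth.2 (⟨z, hzi⟩ : integralClosure A' _)
    let ν : integralClosure A Eq →ₐ[A] E.inv :=
      (Eq.val.comp (integralClosure A Eq).val).codRestrict E.inv fun b =>
        ⟨b.1.2, IsIntegral.map Eq.val b.2⟩
    refine ⟨Algebra.TensorProduct.map (AlgHom.id A' A') ν y, Subtype.ext ?_⟩
    rw [← hz', ← show (TensorProduct.toIntegralClosure A A' Eq y : A' ⊗[A] Eq) = z from congrArg Subtype.val hy]
    clear hy
    induction y with
    | zero => simp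
    | tmul a b => rfl
    | add p q hp hq => simp only [map_add, AddMemClass.coe_add, hp, hq]

/-- Some etale neighbourhood of the base makes an open and closed neighbourhood of a given point finite. -/
theorem exists_nbhd [Algebra.FiniteType A C] [Algebra.QuasiFinite A C] (P : PrimeSpectrum C) :
    ∃ (A' : Type u) (_ : CommRing A') (_ : Algebra A A') (_ : Algebra.Etale A A') (e : A' ⊗[A] C)
      (P' : PrimeSpectrum (A' ⊗[A] C)), IsIdempotentElem e ∧ Module.Finite A' (Localization.Away e) ∧
      PrimeSpectrum.comap (Algebra.TensorProduct.includeRight : C →ₐ[A] A' ⊗[A] C).toRingHom P' = P ∧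
      e ∉ P'.asIdeal := by
  haveI : Algebra.QuasiFiniteAt A P.asIdeal := Algebra.QuasiFinite.trans A C _
  obtain ⟨A', _, _, _, Q, _, _, e, he, P', hP', _, hc, hn, -, hfin, -⟩ :=
    Algebra.exists_etale_isIdempotentElem_forall_liesOver_eq (P.asIdeal.under A) P.asIdeal
  exact ⟨A', inferInstance, inferInstance, inferInstance, e, ⟨P', hP'⟩, he, hfin, PrimeSpectrum.ext hc, hn⟩

variable [Algebra.FiniteType A C] [Algebra.QuasiFinite A C]

theorem etale_inv_val : E.inv.val.toRingHom.Etale := by
  choose A' i₁ i₂ i₃ e P' he hfin hP' hn using fun P => exists_nbhd (A := A) (C := C) P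
  have het : ∀ P, ∃ g : C →+* Localization.Away (e P), g.Etale ∧ (g.comp E.inv.val.toRingHom).Etale ∧
      ∃ Q, PrimeSpectrum.comap g Q = P := by
    intro P
    obtain ⟨E', hσ, hτ⟩ := E.exists_baseChange (A' P)
    obtain ⟨θ, hθ, hθm⟩ := E.exists_inv_bijective (A' P) hσ hτ
    haveI := hfin P
    refine ⟨(algebraMap _ _).comp (Algebra.TensorProduct.includeRight : C →ₐ[A] A' P ⊗[A] C).toRingHom,
      RingHom.Etale.stableUnderComposition _ _ (etale_includeRight A (A' P) C)
        (RingHom.etale_algebraMap.2 (Algebra.Etale.of_isLocalizationAway (e P))), ?_, ?_⟩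
    · have h1 := RingHom.Etale.stableUnderComposition _ _
        (RingHom.Etale.respectsIso.1 _ (RingEquiv.ofBijective θ.toRingHom hθ) (etale_includeRight A (A' P) E.inv))
        (E'.local_core (he P)).1
      refine Eq.subst (motive := fun f : E.inv →+* Localization.Away (e P) => f.Etale)
        (RingHom.ext fun x => ?_) h1
      exact congrArg (algebraMap _ _) ((hθm (1 ⊗ₜ x)).trans rfl)
    · obtain ⟨Q, hQ⟩ : P' P ∈ Set.range (PrimeSpectrum.comap (algebraMap _ (Localization.Away (e P)))) := by
        rw [PrimeSpectrum.localization_away_comap_range _ (e P)]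
        exact hn P
      exact ⟨Q, by rw [PrimeSpectrum.comap_comp_apply, hQ, hP']⟩
  choose g hg hgc Q hQ using het
  let Z : PrimeSpectrum C → Scheme.{u} := fun P => Spec (.of (Localization.Away (e P)))
  let c : ∐ Z ⟶ Spec (.of C) := Sigma.desc fun P => Spec.map (CommRingCat.ofHom (g P))
  let f : Spec (.of C) ⟶ Spec (.of E.inv) := Spec.map (CommRingCat.ofHom E.inv.val.toRingHom)
  have hc : Etale c := by
    rw [IsZariskiLocalAtSource.iff_of_openCover (P := @Etale) (sigmaOpenCover _)]
    intro P
    change Etale (Sigma.ι Z P ≫ c)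
    rw [Sigma.ι_desc]
    exact HasRingHomProperty.Spec_iff.2 (hg P)
  have hcf : Etale (c ≫ f) := by
    rw [IsZariskiLocalAtSource.iff_of_openCover (P := @Etale) (sigmaOpenCover _)]
    intro P
    change Etale (Sigma.ι Z P ≫ c ≫ f)
    rw [Sigma.ι_desc_assoc, ← Spec.map_comp]
    exact HasRingHomProperty.Spec_iff.2 (hgc P)
  have hcs : Surjective c := ⟨fun P => ⟨Sigma.ι Z P (Q P), by
    rw [← Scheme.Hom.comp_apply, Sigma.ι_desc]
    exact hQ P⟩⟩
  exact HasRingHomProperty.Spec_iff.1 (etaleSourceDescends_etale c f hc hcs hcf)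

theorem exists_of_agree (K : Type u) [Field K] [Algebra A K] (u v : C →ₐ[A] K)
    (huv : ∀ x ∈ E.inv, u x = v x) :
    ∃ (L : Type u) (_ : Field L) (_ : Algebra A L) (a : K →ₐ[A] L) (r : D →ₐ[A] L),
      r.comp E.σ = a.comp u ∧ r.comp E.τ = a.comp v := by
  haveI := RingHom.ker_isPrime u.toRingHom
  obtain ⟨A', _, _, _, e, P', he, hfin, hP', hn⟩ :=
    exists_nbhd (A := A) (C := C) ⟨RingHom.ker u.toRingHom, inferInstance⟩
  obtain ⟨E', hσ, hτ⟩ := E.exists_baseChange A'
  obtain ⟨θ, hθ, hθm⟩ := E.exists_inv_bijective A' hσ hτ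
  let inr : C →ₐ[A] A' ⊗[A] C := Algebra.TensorProduct.includeRight
  let w : A' ⊗[A] C →+* P'.asIdeal.ResidueField := algebraMap _ _
  obtain ⟨L, _, a, b, hab⟩ := exists_common_field_of_ker u.toRingHom (w.comp inr.toRingHom) (by
    rw [← RingHom.comap_ker, Ideal.ker_algebraMap_residueField]
    exact (congrArg PrimeSpectrum.asIdeal hP').symm)
  letI : Algebra A' L := ((b.comp w).comp (algebraMap A' (A' ⊗[A] C))).toAlgebra
  letI : Algebra A L := ((algebraMap A' L).comp (algebraMap A A')).toAlgebra
  haveI : IsScalarTower A A' L := IsScalarTower.of_algebraMap_eq fun _ => rfl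
  let a' : K →ₐ[A] L := AlgHom.mk a fun x => by
    change a (algebraMap A K x) = b (w (algebraMap A' _ (algebraMap A A' x)))
    rw [← u.commutes, ← IsScalarTower.algebraMap_apply A A' (A' ⊗[A] C), ← inr.commutes]
    exact RingHom.congr_fun hab _
  let u' : A' ⊗[A] C →ₐ[A'] L := AlgHom.mk (b.comp w) fun _ => rfl
  let v' : A' ⊗[A] C →ₐ[A'] L :=
    Algebra.TensorProduct.lift (Algebra.ofId A' L) (a'.comp v) fun _ _ => Commute.all _ _
  have hu' : ∀ c, u' (inr c) = a (u c) := fun c => (RingHom.congr_fun hab c).symm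
  have hu1 : u' e = 1 := by
    refine map_idempotent_eq_one u'.toRingHom he (isUnit_iff_ne_zero.2 fun h => hn ?_)
    exact Ideal.algebraMap_residueField_eq_zero.1 (b.injective (h.trans (map_zero b).symm))
  have hag : ∀ x ∈ E'.inv, u' x = v' x := by
    intro x hx
    obtain ⟨z, hz⟩ := hθ.2 ⟨x, hx⟩
    rw [show x = _ from (congrArg Subtype.val hz).symm, hθm]
    clear hz
    induction z with
    | zero => simp
    | tmul p q =>
      change u' (p ⊗ₜ (q : C)) = v' (p ⊗ₜ (q : C))
      rw [Algebra.TensorProduct.lift_tmul, show (p ⊗ₜ[A] (q : C)) = algebraMap A' _ p * inr q by simp [inr],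
        map_mul, u'.commutes, hu', huv q q.2]
      rfl
    | add p q hp hq => simp only [map_add, hp, hq]
  obtain ⟨M, _, _, c, r, hr₁, hr₂⟩ := E'.local_core he |>.2 L u' v' hu1 hag
  letI : Algebra A M := ((algebraMap A' M).comp (algebraMap A A')).toAlgebra
  haveI : IsScalarTower A A' M := IsScalarTower.of_algebraMap_eq fun _ => rfl
  refine ⟨M, inferInstance, inferInstance, (c.restrictScalars A).comp a',
    (r.restrictScalars A).comp Algebra.TensorProduct.includeRight, AlgHom.ext fun x => ?_, AlgHom.ext fun x => ?_⟩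
  · have := AlgHom.congr_fun hr₁ (inr x)
    rw [AlgHom.comp_apply, AlgHom.comp_apply, hu', hσ] at this
    exact this
  · have := AlgHom.congr_fun hr₂ (inr x)
    rw [AlgHom.comp_apply, AlgHom.comp_apply, show v' (inr x) = a' (v x) by simp [v', inr], hτ] at this
    exact this

end EqvAlg

end GrothLib.AlgSp
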