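import Groth.Agent.Lib.AlgSp.Rep
import Groth.Agent.Lib.AlgSp.Descent

/-!
# Kernel pairs are equivalence relations
-/

universe u

open CategoryTheory CategoryTheory.Limits AlgebraicGeometry Opposite

namespace GrothLib.AlgSp

open _root_.AlgSp

variable {S : Scheme.{u}} {F : Sp S}

theorem isEqvRel_of_isPullback {R U : Over S} {s t : R ⟶ U} {p : (yon S).obj U ⟶ F}
    (sq : IsPullback ((yon S).map t) ((yon S).map s) p p) : IsEqvRel s t := by
  have key : ∀ (T : Over S) (a b : T ⟶ U),
      (∃ r : T ⟶ R, r ≫ t = a ∧ r ≫ s = b) ↔ (yon S).map a ≫ p = (yon S).map b ≫ p := by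
    intro T a b
    constructor
    · rintro ⟨r, rfl, rfl⟩
      rw [Functor.map_comp, Functor.map_comp, Category.assoc, Category.assoc, sq.w]
    · intro h
      obtain ⟨r, hr⟩ := (yon S).map_surjective (sq.lift _ _ h)
      exact ⟨r, (yon S).map_injective (by rw [Functor.map_comp, hr, sq.lift_fst]),
        (yon S).map_injective (by rw [Functor.map_comp, hr, sq.lift_snd])⟩
  refine ⟨fun T r r' h₁ h₂ => (yon S).map_injective (sq.hom_ext ?_ ?_), fun T => ?_⟩
  · rw [← Functor.map_comp, ← Functor.map_comp, h₁]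
  · rw [← Functor.map_comp, ← Functor.map_comp, h₂]
  · exact ⟨fun a => (key T a a).2 rfl, fun h => (key T _ _).2 ((key T _ _).1 h).symm,
      fun h h' => (key T _ _).2 (((key T _ _).1 h).trans ((key T _ _).1 h'))⟩

theorem isPresentation_of_isPullback {R U : Over S} {s t : R ⟶ U} {p : (yon S).obj U ⟶ F}
    (he : RepWith @Etale p) (hs : RepWith @Surjective p)
    (sq : IsPullback ((yon S).map t) ((yon S).map s) p p) : IsPresentation s t p :=
  ⟨⟨isEqvRel_of_isPullback sq, he.2 _ _ _ sq, he.2 _ _ _ sq.flip⟩, he, hs, sq⟩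

end GrothLib.AlgSp
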