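import Mathlib.RingTheory.RingHom.FaithfullyFlat
import Groth.Agent.Lib.AlgSp.EqvAlgQF
import Groth.Agent.Lib.AlgSp.Glue
import Groth.Agent.Lib.AlgSp.AffineDescent
import Groth.Agent.Lib.AlgSp.Presentation
import Groth.Agent.Lib.AlgSp.LocP
import Groth.Agent.Lib.AlgSp.Diag

/-!
# Separated locally quasi-finite algebraic spaces over schemes are schemes

* `isPullback_kernelPairDiagonal`: the kernel pair of a chart as a base change of the diagonal of a morphism.
* `exists_openImmersion_of_affine_chart`: the image of an affine chart is an open subspace which is a scheme.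
* `exists_iso_yon_of_lqf_separated`, `isRepresentable_of_lqf_separated`.
-/

universe u

open CategoryTheory CategoryTheory.Limits AlgebraicGeometry Opposite TensorProduct

namespace GrothLib.AlgSp

open _root_.AlgSp

variable {S : Scheme.{u}}

/-- The kernel pair of a chart is a base change of the diagonal of a morphism to a scheme. -/
theorem isPullback_kernelPairDiagonal {X : Sp S} {T : Over S} (f : X ⟶ (yon S).obj T) {R U : Over S}
    {p : (yon S).obj U ⟶ X} {t s : R ⟶ U} (sq : IsPullback ((yon S).map t) ((yon S).map s) p p) {h : U ⟶ T}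
    (hph : p ≫ f = (yon S).map h) {Q : Over S} {q₁ q₂ : Q ⟶ U} (sqQ : IsPullback q₁ q₂ h h) {k : R ⟶ Q}
    (hk₁ : k ≫ q₁ = t) (hk₂ : k ≫ q₂ = s) :
    IsPullback ((yon S).map t ≫ p) ((yon S).map k) (pullback.diagonal f)
      (pullback.lift ((yon S).map q₁ ≫ p) ((yon S).map q₂ ≫ p)
        (by rw [Category.assoc, Category.assoc, hph, ← Functor.map_comp, ← Functor.map_comp, sqQ.w])) := by
  refine isPullback_of_yon ?_ fun V a b hab => ?_
  · apply pullback.hom_ext
    · simp only [Category.assoc, pullback.diagonal_fst, Category.comp_id, pullback.lift_fst,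
        ← Functor.map_comp_assoc, hk₁]
    · simp only [Category.assoc, pullback.diagonal_snd, Category.comp_id, pullback.lift_snd,
        ← Functor.map_comp_assoc, hk₂, sq.w]
  · obtain ⟨b, rfl⟩ := (yon S).map_surjective b
    have h1 := congrArg (· ≫ pullback.fst f f) hab
    have h2 := congrArg (· ≫ pullback.snd f f) hab
    simp only [Category.assoc, pullback.diagonal_fst, pullback.diagonal_snd, Category.comp_id,
      pullback.lift_fst, pullback.lift_snd, ← Functor.map_comp_assoc] at h1 h2
    obtain ⟨r, hr⟩ := (yon S).map_surjective (sq.lift _ _ (h1.symm.trans h2))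
    have r₁ : r ≫ t = b ≫ q₁ := (yon S).map_injective (by rw [Functor.map_comp, hr, sq.lift_fst])
    have r₂ : r ≫ s = b ≫ q₂ := (yon S).map_injective (by rw [Functor.map_comp, hr, sq.lift_snd])
    refine ⟨(yon S).map r, ⟨?_, ?_⟩, ?_⟩
    · rw [← Functor.map_comp_assoc, r₁, h1]
    · rw [← Functor.map_comp]
      congr 1
      exact sqQ.hom_ext (by rw [Category.assoc, hk₁, r₁]) (by rw [Category.assoc, hk₂, r₂])
    · rintro c ⟨-, hc⟩
      obtain ⟨c, rfl⟩ := (yon S).map_surjective c
      have hc' := (yon S).map_injective (((yon S).map_comp _ _).trans hc)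
      refine sq.hom_ext ?_ ?_ <;> rw [← Functor.map_comp, ← Functor.map_comp]
      · rw [r₁, ← hk₁, reassoc_of% hc']
      · rw [r₂, ← hk₂, reassoc_of% hc']

/-- The image of an affine chart, quasi-finite over an open affine of the base, is an open scheme. -/
theorem exists_openImmersion_of_affine_chart {X : Sp S} (hX : IsAlgSpace X) {T : Over S}
    (f : X ⟶ (yon S).obj T) (hsep : IsSeparatedMor f) {A C : CommRingCat.{u}} (φ : A ⟶ C)
    (j : Spec A ⟶ T.left) [IsOpenImmersion j] (hft : φ.hom.FiniteType) (hqf : φ.hom.QuasiFinite)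
    (p : (yon S).obj (Over.mk (Spec.map φ ≫ j ≫ T.hom)) ⟶ X) (pe : RepWith @Etale p)
    (hp : p ≫ f = (yon S).map (Over.homMk (Spec.map φ ≫ j) (Category.assoc _ _ _))) :
    ∃ (N : Over S) (i : (yon S).obj N ⟶ X), RepWith @IsOpenImmersion i ∧
      Set.range (Points.ofPt p) ⊆ Set.range (Points.map i) := by
  let U : Over S := Over.mk (Spec.map φ ≫ j ≫ T.hom)
  let h : U ⟶ T := Over.homMk (Spec.map φ ≫ j) (Category.assoc _ _ _)
  letI : Algebra A C := φ.hom.toAlgebra
  haveI : Algebra.FiniteType A C := hft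
  haveI : Algebra.QuasiFinite A C := RingHom.quasiFinite_algebraMap.1 hqf
  obtain ⟨R, t₀, s, sq⟩ := exists_isPullback_of_representable pe.1 p
  obtain ⟨t, rfl⟩ := (yon S).map_surjective t₀
  -- `U ×_T U` is the spectrum of `C ⊗[A] C`
  let sqA := isPullback_SpecMap_of_isPushout _ _ _ _ (CommRingCat.isPushout_tensorProduct A C C)
  have hφ : CommRingCat.ofHom (algebraMap A C) = φ := rfl
  let inl : C ⟶ CommRingCat.of (C ⊗[A] C) := CommRingCat.ofHom Algebra.TensorProduct.includeLeftRingHom
  let inr : C ⟶ CommRingCat.of (C ⊗[A] C) :=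
    CommRingCat.ofHom (Algebra.TensorProduct.includeRight : C →ₐ[A] C ⊗[A] C).toRingHom
  have sqT : IsPullback (Spec.map inl) (Spec.map inr) (Spec.map φ ≫ j) (Spec.map φ ≫ j) :=
    IsPullback.of_isLimit' ⟨by rw [← Category.assoc, ← Category.assoc]; exact congrArg (· ≫ j) sqA.w⟩
      (PullbackCone.IsLimit.mk _ (fun c => sqA.lift c.fst c.snd ((cancel_mono j).1 (by
          simpa only [Category.assoc, hφ] using c.condition)))
        (fun c => sqA.lift_fst _ _ _) (fun c => sqA.lift_snd _ _ _)
        (fun c m h₁ h₂ => sqA.hom_ext (by rw [sqA.lift_fst]; exact h₁) (by rw [sqA.lift_snd]; exact h₂)))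
  have sqQ := IsPullback.of_hasPullback h h
  let k : R ⟶ pullback h h := sqQ.lift t s (by
    apply (yon S).map_injective
    rw [Functor.map_comp, Functor.map_comp, ← hp, reassoc_of% sq.w])
  have hk : IsClosedImmersion k.left :=
    hsep.2 _ _ _ (isPullback_kernelPairDiagonal f sq hp sqQ (sqQ.lift_fst _ _ _) (sqQ.lift_snd _ _ _))
  have sqQ' := isPullback_left sqQ
  let e₀ : (pullback h h).left ≅ Spec (CommRingCat.of (C ⊗[A] C)) := sqQ'.isoIsPullback _ _ sqT
  have hke : IsClosedImmersion (k.left ≫ e₀.hom) := inferInstance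
  obtain ⟨I, e, he⟩ : ∃ (I : Ideal (C ⊗[A] C)) (e : R.left ≅ Spec (CommRingCat.of ((C ⊗[A] C) ⧸ I))),
      k.left ≫ e₀.hom = e.hom ≫ Spec.map (CommRingCat.ofHom (Ideal.Quotient.mk I)) :=
    IsClosedImmersion.Spec_iff.1 hke
  have e₀₁ : e₀.hom ≫ Spec.map inl = (pullback.fst h h).left := IsPullback.isoIsPullback_hom_fst _ _ sqQ' sqT
  have e₀₂ : e₀.hom ≫ Spec.map inr = (pullback.snd h h).left := IsPullback.isoIsPullback_hom_snd _ _ sqQ' sqT
  let D := (C ⊗[A] C) ⧸ I
  let Φ : C ⊗[A] C →ₐ[A] D := Ideal.Quotient.mkₐ A I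
  let σ : C →ₐ[A] D := Φ.comp Algebra.TensorProduct.includeLeft
  let τ : C →ₐ[A] D := Φ.comp Algebra.TensorProduct.includeRight
  have hΦ : Algebra.TensorProduct.productMap σ τ = Φ := by
    refine Algebra.TensorProduct.ext' fun a b => ?_
    rw [Algebra.TensorProduct.productMap_apply_tmul]
    change Φ (a ⊗ₜ 1) * Φ (1 ⊗ₜ b) = Φ (a ⊗ₜ b)
    rw [← map_mul, Algebra.TensorProduct.tmul_mul_tmul, mul_one, one_mul]
  have ht : t.left = e.hom ≫ Spec.map (CommRingCat.ofHom σ.toRingHom) := by
    rw [show CommRingCat.ofHom σ.toRingHom = inl ≫ CommRingCat.ofHom (Ideal.Quotient.mk I) from rfl,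
      Spec.map_comp, ← Category.assoc e.hom, ← he, Category.assoc, e₀₁,
      ← Over.comp_left, sqQ.lift_fst]
  have hs : s.left = e.hom ≫ Spec.map (CommRingCat.ofHom τ.toRingHom) := by
    rw [show CommRingCat.ofHom τ.toRingHom = inr ≫ CommRingCat.ofHom (Ideal.Quotient.mk I) from rfl,
      Spec.map_comp, ← Category.assoc e.hom, ← he, Category.assoc, e₀₂,
      ← Over.comp_left, sqQ.lift_snd]
  -- points of the relation
  have key : ∀ (K : Type u) [CommRing K] [Algebra A K] (u v : C →ₐ[A] K),
      (∃ r : D →ₐ[A] K, r.comp σ = u ∧ r.comp τ = v) ↔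
        ∀ (Z : Over S) (z : Z.left ⟶ Spec (.of K)) (a b : Z ⟶ U),
          a.left = z ≫ Spec.map (CommRingCat.ofHom u.toRingHom) →
          b.left = z ≫ Spec.map (CommRingCat.ofHom v.toRingHom) →
          (yon S).map a ≫ p = (yon S).map b ≫ p := by
    intro K _ _ u v
    constructor
    · rintro ⟨r, rfl, rfl⟩ Z z a b ha hb
      have hr : (z ≫ Spec.map (CommRingCat.ofHom r.toRingHom) ≫ e.inv) ≫ t.left = a.left := by
        rw [ha, ht, Category.assoc, Category.assoc, Iso.inv_hom_id_assoc, ← Spec.map_comp]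
        rfl
      let ρ : Z ⟶ R := Over.homMk (z ≫ Spec.map (CommRingCat.ofHom r.toRingHom) ≫ e.inv)
        (by rw [← Over.w t, ← Category.assoc, hr, Over.w a])
      have ha' : a = ρ ≫ t := Over.OverMorphism.ext hr.symm
      have hb' : b = ρ ≫ s := Over.OverMorphism.ext (by
        rw [hb, Over.comp_left, hs]
        change _ = (z ≫ Spec.map (CommRingCat.ofHom r.toRingHom) ≫ e.inv) ≫ _
        rw [Category.assoc, Category.assoc, Iso.inv_hom_id_assoc, ← Spec.map_comp]
        rfl)
      rw [ha', hb', Functor.map_comp, Functor.map_comp, Category.assoc, Category.assoc, sq.w]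
    · intro H
      let Z : Over S := Over.mk (Spec.map (CommRingCat.ofHom (algebraMap A K)) ≫ j ≫ T.hom)
      have hZ : ∀ w : C →ₐ[A] K, Spec.map (CommRingCat.ofHom w.toRingHom) ≫ U.hom = Z.hom := fun w => by
        change Spec.map (CommRingCat.ofHom w.toRingHom) ≫ Spec.map φ ≫ j ≫ T.hom = _
        rw [← Category.assoc, ← Spec.map_comp]
        congr 2
        ext x
        exact w.commutes x
      let a : Z ⟶ U := Over.homMk (Spec.map (CommRingCat.ofHom u.toRingHom)) (hZ u)
      let b : Z ⟶ U := Over.homMk (Spec.map (CommRingCat.ofHom v.toRingHom)) (hZ v)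
      have hab := H Z (𝟙 _) a b (Category.id_comp _).symm (Category.id_comp _).symm
      obtain ⟨ρ, hρ⟩ := (yon S).map_surjective (sq.lift _ _ hab)
      have h₁ : ρ ≫ t = a := (yon S).map_injective (by rw [Functor.map_comp, hρ, sq.lift_fst])
      have h₂ : ρ ≫ s = b := (yon S).map_injective (by rw [Functor.map_comp, hρ, sq.lift_snd])
      obtain ⟨r, hr⟩ := Spec.map_surjective (R := CommRingCat.of D) (S := CommRingCat.of K) (ρ.left ≫ e.hom)
      have hu : ∀ c, r.hom (σ c) = u c := by
        intro c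
        have : CommRingCat.ofHom σ.toRingHom ≫ r = CommRingCat.ofHom u.toRingHom := Spec.map_injective (by
          rw [Spec.map_comp, hr, Category.assoc, ← ht, ← Over.comp_left, h₁]
          rfl)
        exact ConcreteCategory.congr_hom this c
      have hv : ∀ c, r.hom (τ c) = v c := by
        intro c
        have : CommRingCat.ofHom τ.toRingHom ≫ r = CommRingCat.ofHom v.toRingHom := Spec.map_injective (by
          rw [Spec.map_comp, hr, Category.assoc, ← hs, ← Over.comp_left, h₂]
          rfl)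
        exact ConcreteCategory.congr_hom this c
      exact ⟨AlgHom.mk r.hom fun x => by
          change r.hom (algebraMap A D x) = _
          rw [← σ.commutes, hu, u.commutes],
        AlgHom.ext hu, AlgHom.ext hv⟩
  have heσ : σ.toRingHom.Etale := by
    have h1 : Etale t.left := pe.2 _ _ _ sq.flip
    rw [ht, MorphismProperty.cancel_left_of_respectsIso @Etale] at h1
    exact HasRingHomProperty.Spec_iff.1 h1
  let E : EqvAlg A C D :=
    { σ := σ
      τ := τ
      surj := hΦ ▸ Ideal.Quotient.mkₐ_surjective A I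
      etale := heσ
      eqv := fun K _ _ =>
        { refl := fun u => (key K u u).2 fun Z z a b ha hb => by
            rw [show a = b from Over.OverMorphism.ext (ha.trans hb.symm)]
          symm := fun {u v} hr => (key K v u).2 fun Z z a b ha hb => ((key K u v).1 hr Z z b a hb ha).symm
          trans := fun {u v w} hr hr' => (key K u w).2 fun Z z a b ha hb => by
            let m : Z ⟶ U := Over.homMk (z ≫ Spec.map (CommRingCat.ofHom v.toRingHom)) (by
              rw [← Over.w a, ha, Category.assoc, Category.assoc]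
              congr 1
              change Spec.map _ ≫ Spec.map φ ≫ _ = Spec.map _ ≫ Spec.map φ ≫ _
              rw [← Category.assoc, ← Category.assoc (Spec.map (CommRingCat.ofHom u.toRingHom)),
                ← Spec.map_comp, ← Spec.map_comp]
              congr 2
              ext x
              exact (v.commutes x).trans (u.commutes x).symm)
            exact ((key K u v).1 hr Z z a m ha rfl).trans ((key K v w).1 hr' Z z m b rfl hb) } }
  -- the quotient
  let B := E.inv
  have hn : B.val.toRingHom.Etale := E.etale_inv_val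
  let n : Spec C ⟶ Spec (.of B) := Spec.map (CommRingCat.ofHom B.val.toRingHom)
  haveI hnE : Etale n := HasRingHomProperty.Spec_iff.2 hn
  let O : (Spec (CommRingCat.of B)).Opens := ⟨Set.range n, n.isOpenMap.isOpen_range⟩
  let sN : Spec (CommRingCat.of B) ⟶ S := Spec.map (CommRingCat.ofHom (algebraMap A B)) ≫ j ≫ T.hom
  let N : Over S := Over.mk (O.ι ≫ sN)
  have hnA : n ≫ Spec.map (CommRingCat.ofHom (algebraMap A B)) = Spec.map φ := by
    rw [← Spec.map_comp]
    rfl
  let n₀ : Spec C ⟶ O := IsOpenImmersion.lift O.ι n (by rw [Scheme.Opens.range_ι]; rfl)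
  have hn₀ : n₀ ≫ O.ι = n := IsOpenImmersion.lift_fac _ _ _
  haveI : Etale n₀ := by
    have : Etale (n₀ ≫ O.ι) := by rw [hn₀]; infer_instance
    exact Etale.of_comp n₀ O.ι
  haveI : Surjective n₀ := ⟨fun ⟨x, c, hc⟩ => ⟨c, Subtype.ext (by
    change O.ι (n₀ c) = x
    rw [← Scheme.Hom.comp_apply, hn₀, hc])⟩⟩
  let p' : U ⟶ N := Over.homMk n₀ (by
    change n₀ ≫ O.ι ≫ sN = Spec.map φ ≫ j ≫ T.hom
    rw [← Category.assoc, hn₀]
    change n ≫ Spec.map _ ≫ _ = _
    rw [← Category.assoc, hnA])
  -- the kernel pair of the quotient map is the relation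
  obtain ⟨Ψ, hΨ⟩ := exists_ringHom_tensor (R := B) (S := C) (T := C) σ.toRingHom τ.toRingHom fun r => r.2.1
  have hΨb : Function.Bijective Ψ := by
    have hs' : Function.Surjective Ψ := fun d => by
      obtain ⟨z, rfl⟩ := E.surj d
      induction z with
      | zero => exact ⟨0, by rw [map_zero, map_zero]⟩
      | tmul a b => exact ⟨a ⊗ₜ b, (hΨ a b).trans (Algebra.TensorProduct.productMap_apply_tmul σ τ a b).symm⟩
      | add x y hx hy =>
        obtain ⟨x', hx'⟩ := hx
        obtain ⟨y', hy'⟩ := hy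
        exact ⟨x' + y', by rw [map_add, map_add, hx', hy']⟩
    refine ⟨?_, hs'⟩
    apply RingHom.FaithfullyFlat.injective
    rw [RingHom.FaithfullyFlat.iff_flat_and_comap_surjective]
    constructor
    · letI : Algebra (↑C ⊗[B] ↑C) D := Ψ.toAlgebra
      haveI : Algebra.Etale C D := RingHom.etale_algebraMap.1 heσ
      haveI : Algebra.Etale B C := RingHom.etale_algebraMap.1 hn
      haveI : IsScalarTower C (↑C ⊗[B] ↑C) D := IsScalarTower.of_algebraMap_eq fun c =>
        ((hΨ c 1).trans (by rw [map_one, mul_one])).symm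
      haveI : Algebra.Etale (↑C ⊗[B] ↑C) D := Algebra.Etale.of_restrictScalars C _ _
      exact RingHom.flat_algebraMap_iff.2 inferInstance
    · intro Q
      suffices hQ : RingHom.ker Ψ ≤ Q.asIdeal by
        have : Q ∈ Set.range (PrimeSpectrum.comap Ψ) := by
          rw [range_comap_of_surjective _ _ hs']
          exact hQ
        exact this
      intro x hx
      let κ := Q.asIdeal.ResidueField
      let w : ↑C ⊗[B] ↑C →+* κ := algebraMap _ _
      let u₀ : C →+* κ := w.comp Algebra.TensorProduct.includeLeftRingHom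
      let v₀ : C →+* κ := w.comp (Algebra.TensorProduct.includeRight : C →ₐ[B] ↑C ⊗[B] ↑C).toRingHom
      have huv : ∀ b : B, u₀ b = v₀ b := fun b => congrArg w
        (Algebra.TensorProduct.tmul_one_eq_one_tmul b)
      letI : Algebra A κ := (u₀.comp (algebraMap A C)).toAlgebra
      let u : C →ₐ[A] κ := AlgHom.mk u₀ fun _ => rfl
      let v : C →ₐ[A] κ := AlgHom.mk v₀ fun a => (huv (algebraMap A B a)).symm
      obtain ⟨L, _, _, a, r, hr₁, hr₂⟩ := E.exists_of_agree κ u v fun b hb => huv ⟨b, hb⟩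
      have : ∀ z, a (w z) = r (Ψ z) := fun z => by
        induction z with
        | zero => simp
        | tmul b c =>
          rw [hΨ, map_mul]
          change a (w (b ⊗ₜ c)) = r (E.σ b) * r (E.τ c)
          rw [← AlgHom.comp_apply r E.σ, ← AlgHom.comp_apply r E.τ, hr₁, hr₂, AlgHom.comp_apply,
            AlgHom.comp_apply, ← map_mul]
          congr 1
          change w (b ⊗ₜ c) = w (b ⊗ₜ 1) * w (1 ⊗ₜ c)
          rw [← map_mul, Algebra.TensorProduct.tmul_mul_tmul, mul_one, one_mul]
        | add y z hy hz => simp only [map_add, hy, hz]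
      exact Ideal.algebraMap_residueField_eq_zero.1 (a.injective (by
        rw [map_zero]
        exact (this x).trans (by rw [RingHom.mem_ker.1 hx, map_zero])))
  let ψ : CommRingCat.of (↑C ⊗[B] ↑C) ≅ CommRingCat.of D :=
    (RingEquiv.ofBijective Ψ hΨb).toCommRingCatIso
  have sqB := isPullback_SpecMap_of_isPushout _ _ _ _ (CommRingCat.isPushout_tensorProduct B C C)
  have sqn : IsPullback t.left s.left n n := by
    refine IsPullback.of_iso sqB ((Scheme.Spec.mapIso ψ.op).symm ≪≫ e.symm) (Iso.refl _) (Iso.refl _) (Iso.refl _) ?_ ?_ ?_ ?_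
    · rw [Iso.refl_hom, Category.comp_id, ht]
      simp only [Iso.trans_hom, Functor.mapIso_inv, Iso.op_inv, Scheme.Spec_map, Quiver.Hom.unop_op,
        Iso.symm_hom, Category.assoc, Iso.inv_hom_id_assoc, ← Spec.map_comp]
      congr 1
      ext c
      refine ((RingEquiv.ofBijective Ψ hΨb).symm_apply_eq.2 ?_).symm
      exact (((hΨ c 1).trans (by rw [map_one, mul_one]; rfl)) : Ψ (c ⊗ₜ 1) = σ c).symm
    · rw [Iso.refl_hom, Category.comp_id, hs]
      simp only [Iso.trans_hom, Functor.mapIso_inv, Iso.op_inv, Scheme.Spec_map, Quiver.Hom.unop_op,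
        Iso.symm_hom, Category.assoc, Iso.inv_hom_id_assoc, ← Spec.map_comp]
      congr 1
      ext c
      refine ((RingEquiv.ofBijective Ψ hΨb).symm_apply_eq.2 ?_).symm
      exact (((hΨ 1 c).trans (by rw [map_one, one_mul]; rfl)) : Ψ (1 ⊗ₜ c) = τ c).symm
    · rw [Iso.refl_hom, Category.comp_id, Iso.refl_hom, Category.id_comp]; rfl
    · rw [Iso.refl_hom, Category.comp_id, Iso.refl_hom, Category.id_comp]; rfl
  have sq₀ : IsPullback t.left s.left p'.left p'.left := by
    refine IsPullback.of_isLimit' ⟨(cancel_mono O.ι).1 ?_⟩ (PullbackCone.IsLimit.mk _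
      (fun c => sqn.lift c.fst c.snd ?_) (fun c => sqn.lift_fst _ _ _) (fun c => sqn.lift_snd _ _ _)
      (fun c m h₁ h₂ => sqn.hom_ext (by rw [sqn.lift_fst]; exact h₁) (by rw [sqn.lift_snd]; exact h₂)))
    · change (t.left ≫ n₀) ≫ O.ι = (s.left ≫ n₀) ≫ O.ι
      rw [Category.assoc, Category.assoc, hn₀, sqn.w]
    · rw [← hn₀, ← Category.assoc, ← Category.assoc]
      exact congrArg (· ≫ O.ι) c.condition
  have sqN : IsPullback t s p' p' :=
    IsPullback.of_map (Over.forget S) (Over.OverMorphism.ext sq₀.w) sq₀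
  have sqN' := isPullback_yon sqN
  -- compare with the image of the chart
  have hW : IsOpen (Set.range (Points.ofPt p)) := by
    have ho := isOpenMap_map_of_repWith (fun _ _ k (hk : Etale k) => k.isOpenMap) pe
    have hr : Set.range (Points.ofPt p) = Set.range (Points.map p) := by
      ext x
      constructor
      · rintro ⟨c, rfl⟩
        exact ⟨_, (Points.ofPt_eq_map_ofScheme p c).symm⟩
      · rintro ⟨z, rfl⟩
        obtain ⟨c, rfl⟩ := (Points.schemeEquiv U).surjective z
        exact ⟨c, Points.ofPt_eq_map_ofScheme p c⟩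
    rw [hr]
    exact ho.isOpen_range
  let ι := openSubι X (Set.range (Points.ofPt p))
  have hι := repWith_openSubι hW
  have hιr : Set.range (Points.map ι) = Set.range (Points.ofPt p) := range_openSubι
  obtain ⟨q, hq, qe, qs⟩ := exists_factor_chart hX pe hι hιr.ge
  haveI := chart_isLocallySurjective qe (qs hιr.le)
  haveI := chart_isLocallySurjective (p := (yon S).map p')
    ((repWith_yon_map_iff _ _).2 (inferInstanceAs (Etale n₀)))
    ((repWith_yon_map_iff _ _).2 (inferInstanceAs (Surjective n₀)))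
  haveI := mono_openSubι X (Set.range (Points.ofPt p))
  have sqq : IsPullback ((yon S).map t) ((yon S).map s) q q := by
    refine isPullback_of_yon ?_ fun V a b hab => ?_
    · rw [← cancel_mono ι, Category.assoc, Category.assoc, hq, sq.w]
    · have hab' : a ≫ p = b ≫ p := by rw [← hq, ← Category.assoc, hab, Category.assoc]
      exact ⟨sq.lift a b hab', ⟨sq.lift_fst _ _ _, sq.lift_snd _ _ _⟩, fun c hc =>
        sq.hom_ext (by rw [sq.lift_fst, hc.1]) (by rw [sq.lift_snd, hc.2])⟩
  obtain ⟨g, hg⟩ := exists_iso_of_kernelPair ((yon S).map p') q sqN' sqq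
  refine ⟨N, g.hom ≫ ι, (MorphismProperty.cancel_left_of_respectsIso (RepWith @IsOpenImmersion) _ _).2 hι, ?_⟩
  rintro _ ⟨c, rfl⟩
  obtain ⟨x, hx⟩ := hιr.ge ⟨c, rfl⟩
  refine ⟨Points.map g.inv x, ?_⟩
  rw [← Points.map_comp, Iso.inv_hom_id_assoc, hx]

end GrothLib.AlgSp

namespace GrothLib.AlgSp

open _root_.AlgSp

variable {S : Scheme.{u}}

/-- An algebraic space separated and locally quasi-finite over a scheme is a scheme. -/
theorem exists_iso_yon_of_lqf_separated {X : Sp S} (hX : IsAlgSpace X) {T : Over S}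
    (f : X ⟶ (yon S).obj T) (hqf : LocP (@LocallyQuasiFinite ⊓ @LocallyOfFiniteType) f)
    (hsep : IsSeparatedMor f) : ∃ M : Over S, Nonempty ((yon S).obj M ≅ X) := by
  obtain ⟨U, p₀, pe₀, ps₀⟩ := hX.atlas
  obtain ⟨h, hh⟩ := (yon S).map_surjective (p₀ ≫ f)
  obtain ⟨hq, hl⟩ : LocallyQuasiFinite h.left ∧ LocallyOfFiniteType h.left :=
    hqf p₀ (𝟙 _) h pe₀ (repWith_id _ T) (by rw [hh, Category.comp_id])
  have key : ∀ u : U.left, ∃ (N : Over S) (i : (yon S).obj N ⟶ X), RepWith @IsOpenImmersion i ∧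
      Points.ofPt p₀ u ∈ Set.range (Points.map i) := by
    intro u
    obtain ⟨_, ⟨V, hV, rfl⟩, huV, -⟩ := T.left.isBasis_affineOpens.exists_subset_of_mem_open
      (Set.mem_univ (h.left u)) isOpen_univ
    obtain ⟨_, ⟨W, hW, rfl⟩, huW, hWV : W ≤ h.left ⁻¹ᵁ V⟩ :=
      U.left.isBasis_affineOpens.exists_subset_of_mem_open huV (h.left ⁻¹ᵁ V).2
    let φ := h.left.appLE V W hWV
    have e : Spec.map φ ≫ hV.fromSpec = hW.fromSpec ≫ h.left :=
      IsAffineOpen.SpecMap_appLE_fromSpec h.left hV hW hWV
    let c : Over.mk (Spec.map φ ≫ hV.fromSpec ≫ T.hom) ⟶ U := Over.homMk hW.fromSpec (by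
      change hW.fromSpec ≫ U.hom = Spec.map φ ≫ hV.fromSpec ≫ T.hom
      rw [← Category.assoc, e, Category.assoc, Over.w])
    obtain ⟨N, i, hi, hr⟩ := exists_openImmersion_of_affine_chart hX f hsep φ hV.fromSpec
      (h.left.finiteType_appLE hV hW hWV) (LocallyQuasiFinite.quasiFinite_appLE hV hW hWV)
      ((yon S).map c ≫ p₀)
      (repWith_comp ((repWith_yon_map_iff _ _).2 (inferInstanceAs (Etale hW.fromSpec))) pe₀)
      (by rw [Category.assoc, ← hh, ← Functor.map_comp]
          exact congrArg (yon S).map (Over.OverMorphism.ext e.symm))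
    refine ⟨N, i, hi, hr ?_⟩
    obtain ⟨w, hw⟩ := hW.range_fromSpec.ge huW
    exact ⟨w, by rw [ofPt_map_comp]; exact congrArg (Points.ofPt p₀) hw⟩
  choose N i hi hmem using key
  obtain ⟨M, e, -, -⟩ := exists_iso_yon_of_openCover (fun u => N u) i hi fun x => by
    obtain ⟨u, rfl⟩ := surjective_ofPt_of_repWith ps₀ x
    exact ⟨u, hmem u⟩
  exact ⟨M, ⟨e⟩⟩

theorem isRepresentable_of_lqf_separated {X : Sp S} (hX : IsAlgSpace X) {T : Over S}
    (f : X ⟶ (yon S).obj T) (hqf : LocP (@LocallyQuasiFinite ⊓ @LocallyOfFiniteType) f)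
    (hsep : IsSeparatedMor f) : X.obj.IsRepresentable := by
  obtain ⟨M, ⟨e⟩⟩ := exists_iso_yon_of_lqf_separated hX f hqf hsep
  exact (representableByOfIso e).isRepresentable

end GrothLib.AlgSp

namespace GrothLib.AlgSp

open _root_.AlgSp

variable {S : Scheme.{u}}

/-- Separated locally quasi-finite morphisms of algebraic spaces are representable. -/
theorem representable_of_lqf_separated {X Y : Sp S} (hX : IsAlgSpace X) (hY : IsAlgSpace Y) {f : X ⟶ Y}
    (hqf : LocP (@LocallyQuasiFinite ⊓ @LocallyOfFiniteType) f) (hsep : IsSeparatedMor f) : Representable f := by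
  refine representable_of_forall fun T g => ?_
  have sq := IsPullback.of_hasPullback f g
  have hP : IsAlgSpace (pullback f g) := isAlgSpace_pullback' hY hX (IsAlgSpace.yon_obj T) f g
  obtain ⟨M, ⟨e⟩⟩ := exists_iso_yon_of_lqf_separated hP (pullback.snd f g)
    (EtLocal.locP_of_isPullback (EtLocal.inf EtLocal.lqf EtLocal.lft) hX hY (IsAlgSpace.yon_obj T) sq hqf)
    (repWith_of_isPullback (isPullback_diagonal_of_isPullback sq) hsep)
  exact ⟨M, _, e, _, _, sq⟩

end GrothLib.AlgSp
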