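import Groth.Agent.Lib.AlgSp.Points
import Groth.Agent.Lib.AlgSp.FppfDescent

/-!
# Universal properties on points, tested on schemes; quasi-compactness
-/

universe u

open CategoryTheory CategoryTheory.Limits AlgebraicGeometry Opposite Topology MorphismProperty

namespace GrothLib.AlgSp

open _root_.AlgSp

variable {S : Scheme.{u}} {F G : Sp S}

/-- The base change of a square along a map to the bottom-right corner of the left leg. -/
theorem exists_isPullback_along {X Y Z P W : Sp S} {f : X ⟶ Y} {g : Z ⟶ Y} {fst : P ⟶ X} {snd : P ⟶ Z}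
    (sq : IsPullback fst snd f g) (r : W ⟶ Z) :
    ∃ (Q : Sp S) (q₁ : Q ⟶ P) (q₂ : Q ⟶ W), IsPullback q₁ q₂ snd r ∧ IsPullback (q₁ ≫ fst) q₂ f (r ≫ g) :=
  ⟨pullback snd r, pullback.fst _ _, pullback.snd _ _, IsPullback.of_hasPullback _ _,
    (IsPullback.of_hasPullback snd r).paste_horiz sq⟩

/-- Affine etale charts through every point detect openness. -/
theorem exists_affine_charts {Z : Sp S} (hZ : IsAlgSpace Z) :
    ∃ (ι : Type u) (W : ι → Over S) (r : ∀ i, (yon S).obj (W i) ⟶ Z),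
      (∀ i, IsAffine (W i).left) ∧ (∀ i, RepWith @Etale (r i)) ∧ (∀ z, ∃ i w, Points.ofPt (r i) w = z) ∧
      ∀ A : Set (Points Z), (∀ i, IsOpen (Points.ofPt (r i) ⁻¹' A)) → IsOpen A := by
  obtain ⟨U, p, pe, ps⟩ := hZ.atlas
  let 𝒰 := U.left.affineCover
  let W : 𝒰.I₀ → Over S := fun i => Over.mk (𝒰.f i ≫ U.hom)
  let j : ∀ i, W i ⟶ U := fun i => Over.homMk (𝒰.f i) rfl
  refine ⟨𝒰.I₀, W, fun i => (yon S).map (j i) ≫ p, fun i => inferInstanceAs (IsAffine (𝒰.X i)), fun i =>
    repWith_comp ((repWith_yon_map_iff _ _).2 (inferInstanceAs (Etale (𝒰.f i)))) pe, fun z => ?_,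
    fun A hA => ?_⟩
  · obtain ⟨u, rfl⟩ := surjective_ofPt_of_repWith ps z
    obtain ⟨i, w, rfl⟩ := 𝒰.exists_eq u
    exact ⟨i, w, ofPt_map_comp (j i) p w⟩
  · rw [← (isOpenQuotientMap_ofPt pe ps).isQuotientMap.isOpen_preimage,
      𝒰.isOpenCover_opensRange.isOpen_iff_inter]
    intro i
    have e : Points.ofPt p ⁻¹' A ∩ (𝒰.f i).opensRange =
        𝒰.f i '' (Points.ofPt ((yon S).map (j i) ≫ p) ⁻¹' A) := by
      ext x
      constructor
      · rintro ⟨hx, w, rfl⟩
        exact ⟨w, by rw [Set.mem_preimage, ofPt_map_comp]; exact hx, rfl⟩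
      · rintro ⟨w, hw, rfl⟩
        exact ⟨by rw [Set.mem_preimage, ofPt_map_comp] at hw; exact hw, w, rfl⟩
    rw [e]
    exact (𝒰.f i).isOpenEmbedding.isOpenMap _ (hA i)

section Transfer

variable {X Y Z P : Sp S} {f : X ⟶ Y} {g : Z ⟶ Y} {fst : P ⟶ X} {snd : P ⟶ Z}
  {ι : Type u} {W : ι → Over S} (r : ∀ i, (yon S).obj (W i) ⟶ Z)

theorem preimage_ofPt_image_map {Q : Sp S} {W : Over S} {r : (yon S).obj W ⟶ Z} {q₁ : Q ⟶ P}
    {q₂ : Q ⟶ (yon S).obj W} (sq : IsPullback q₁ q₂ snd r) (E : Set (Points P)) :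
    Points.ofPt r ⁻¹' (Points.map snd '' E) =
      Points.schemeHomeo W ⁻¹' (Points.map q₂ '' (Points.map q₁ ⁻¹' E)) := by
  rw [← preimage_image_of_isPullback sq]
  ext w
  rw [Set.mem_preimage, Set.mem_preimage, Set.mem_preimage, Points.ofPt_eq_map_ofScheme]
  rfl

theorem isOpenMap_of_charts (hq : ∀ A : Set (Points Z), (∀ i, IsOpen (Points.ofPt (r i) ⁻¹' A)) → IsOpen A)
    (h : ∀ i, ∃ (Q : Sp S) (q₁ : Q ⟶ P) (q₂ : Q ⟶ (yon S).obj (W i)),
      IsPullback q₁ q₂ snd (r i) ∧ IsOpenMap (Points.map q₂)) : IsOpenMap (Points.map snd) :=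
  fun E hE => hq _ fun i => by
    obtain ⟨Q, q₁, q₂, sq, ho⟩ := h i
    rw [preimage_ofPt_image_map sq]
    exact (ho _ (hE.preimage (Points.continuous_map q₁))).preimage (Points.schemeHomeo _).continuous

theorem isClosedMap_of_charts (hq : ∀ A : Set (Points Z), (∀ i, IsOpen (Points.ofPt (r i) ⁻¹' A)) → IsOpen A)
    (h : ∀ i, ∃ (Q : Sp S) (q₁ : Q ⟶ P) (q₂ : Q ⟶ (yon S).obj (W i)),
      IsPullback q₁ q₂ snd (r i) ∧ IsClosedMap (Points.map q₂)) : IsClosedMap (Points.map snd) :=
  fun E hE => ⟨hq _ fun i => by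
    obtain ⟨Q, q₁, q₂, sq, ho⟩ := h i
    rw [Set.preimage_compl, preimage_ofPt_image_map sq]
    exact ((ho _ (hE.preimage (Points.continuous_map q₁))).preimage
      (Points.schemeHomeo _).continuous).isOpen_compl⟩

theorem injective_of_charts (hs : ∀ z, ∃ i w, Points.ofPt (r i) w = z)
    (h : ∀ i, ∃ (Q : Sp S) (q₁ : Q ⟶ P) (q₂ : Q ⟶ (yon S).obj (W i)),
      IsPullback q₁ q₂ snd (r i) ∧ Function.Injective (Points.map q₂)) :
    Function.Injective (Points.map snd) := fun x y hxy => by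
  obtain ⟨i, w, hw⟩ := hs (Points.map snd x)
  obtain ⟨Q, q₁, q₂, sq, hi⟩ := h i
  rw [Points.ofPt_eq_map_ofScheme] at hw
  obtain ⟨p, rfl, hp⟩ := exists_of_isPullback sq hw.symm
  obtain ⟨p', rfl, hp'⟩ := exists_of_isPullback sq (hxy.symm.trans hw.symm)
  rw [hi (hp.trans hp'.symm)]

theorem surjective_of_charts (hs : ∀ z, ∃ i w, Points.ofPt (r i) w = z)
    (h : ∀ i, ∃ (Q : Sp S) (q₁ : Q ⟶ P) (q₂ : Q ⟶ (yon S).obj (W i)),
      IsPullback q₁ q₂ snd (r i) ∧ Function.Surjective (Points.map q₂)) :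
    Function.Surjective (Points.map snd) := fun z => by
  obtain ⟨i, w, rfl⟩ := hs z
  obtain ⟨Q, q₁, q₂, sq, hi⟩ := h i
  obtain ⟨p, hp⟩ := hi (Points.ofScheme _ w)
  exact ⟨Points.map q₁ p, by rw [← Points.map_comp, sq.w, Points.map_comp, hp, ← Points.ofPt_eq_map_ofScheme]⟩

theorem isQuotientMap_of_charts (hs : ∀ z, ∃ i w, Points.ofPt (r i) w = z)
    (hq : ∀ A : Set (Points Z), (∀ i, IsOpen (Points.ofPt (r i) ⁻¹' A)) → IsOpen A)
    (h : ∀ i, ∃ (Q : Sp S) (q₁ : Q ⟶ P) (q₂ : Q ⟶ (yon S).obj (W i)),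
      IsPullback q₁ q₂ snd (r i) ∧ IsQuotientMap (Points.map q₂)) :
    IsQuotientMap (Points.map snd) := by
  have hsu := surjective_of_charts r hs fun i => by
    obtain ⟨Q, q₁, q₂, sq, hi⟩ := h i
    exact ⟨Q, q₁, q₂, sq, hi.surjective⟩
  refine (Topology.isQuotientMap_iff _).2 ⟨.of_isOpen_preimage_iff_isOpen fun A => ⟨?_,
    fun hA => hA.preimage (Points.continuous_map snd)⟩, hsu⟩
  refine fun hA => hq A fun i => ?_
  obtain ⟨Q, q₁, q₂, sq, hi⟩ := h i
  have hAi : Points.ofPt (r i) ⁻¹' A = Points.schemeHomeo _ ⁻¹' (Points.map (r i) ⁻¹' A) := by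
    ext w; rw [Set.mem_preimage, Points.ofPt_eq_map_ofScheme]; rfl
  rw [hAi]
  refine IsOpen.preimage (Points.schemeHomeo _).continuous ?_
  rw [← hi.isOpen_preimage, ← Set.preimage_comp,
    show Points.map (r i) ∘ Points.map q₂ = Points.map (q₂ ≫ r i) from
      funext fun x => (Points.map_comp q₂ (r i) x).symm, ← sq.w,
    show Points.map (q₁ ≫ snd) = Points.map snd ∘ Points.map q₁ from
      funext fun x => Points.map_comp q₁ snd x, Set.preimage_comp]
  exact hA.preimage (Points.continuous_map q₁)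

end Transfer


theorem isOpenMap_map_yon_iff {T T' : Over S} (φ : T ⟶ T') :
    IsOpenMap (Points.map ((yon S).map φ)) ↔ IsOpenMap φ.left := by
  rw [Points.map_yon_map_eq]
  refine ⟨fun h => ?_, fun h => ((Points.schemeHomeo T').isOpenMap.comp h).comp (Points.schemeHomeo T).symm.isOpenMap⟩
  have := ((Points.schemeHomeo T').symm.isOpenMap.comp h).comp (Points.schemeHomeo T).isOpenMap
  simpa [Function.comp_def] using this

theorem isClosedMap_map_yon_iff {T T' : Over S} (φ : T ⟶ T') :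
    IsClosedMap (Points.map ((yon S).map φ)) ↔ IsClosedMap φ.left := by
  rw [Points.map_yon_map_eq]
  refine ⟨fun h => ?_, fun h => ((Points.schemeHomeo T').isClosedMap.comp h).comp (Points.schemeHomeo T).symm.isClosedMap⟩
  have := ((Points.schemeHomeo T').symm.isClosedMap.comp h).comp (Points.schemeHomeo T).isClosedMap
  simpa [Function.comp_def] using this

theorem injective_map_yon_iff {T T' : Over S} (φ : T ⟶ T') :
    Function.Injective (Points.map ((yon S).map φ)) ↔ Function.Injective φ.left := by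
  rw [Points.map_yon_map_eq, EquivLike.comp_injective, EquivLike.injective_comp]

theorem surjective_map_yon_iff {T T' : Over S} (φ : T ⟶ T') :
    Function.Surjective (Points.map ((yon S).map φ)) ↔ Function.Surjective φ.left := by
  rw [Points.map_yon_map_eq, EquivLike.comp_surjective, EquivLike.surjective_comp]

theorem isQuotientMap_map_yon_iff {T T' : Over S} (φ : T ⟶ T') :
    IsQuotientMap (Points.map ((yon S).map φ)) ↔ IsQuotientMap φ.left := by
  rw [Points.map_yon_map_eq]
  refine ⟨fun h => ?_, fun h => (Points.schemeHomeo T').isQuotientMap.comp (h.comp (Points.schemeHomeo T).symm.isQuotientMap)⟩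
  have := (Points.schemeHomeo T').symm.isQuotientMap.comp (h.comp (Points.schemeHomeo T).isQuotientMap)
  simpa [Function.comp_def] using this

/-- A representable morphism has a universal topological property in the representable sense iff it has it on
points after base change to schemes. -/
theorem repWith_universally_iff {P : MorphismProperty Scheme.{u}} {R : MorphismProperty Scheme.{u}}
    (hP : P = MorphismProperty.universally R) [R.RespectsIso] {Q : MorphismProperty (Sp S)}
    (hQR : ∀ {T T' : Over S} (φ : T ⟶ T'), Q ((yon S).map φ) ↔ R φ.left) {f : F ⟶ G} (hf : Representable f) :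
    RepWith P f ↔
      ∀ (T : Over S) (g : (yon S).obj T ⟶ G) (V : Over S) (fst : (yon S).obj V ⟶ F) (snd : V ⟶ T),
        IsPullback fst ((yon S).map snd) f g → Q ((yon S).map snd) := by
  subst hP
  constructor
  · intro h T g V fst snd sq
    exact (hQR _).2 (universally_le R _ (h.2 g fst snd sq))
  · intro h
    refine ⟨hf, fun T V g fst snd sq => ?_⟩
    intro X' Y' i₁ i₂ f' sq'
    let T' : Over S := Over.mk (i₂ ≫ T.hom)
    let V' : Over S := Over.mk (i₁ ≫ V.hom)
    have hsnd : snd.left ≫ T.hom = V.hom := Over.w snd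
    have hw : f' ≫ i₂ = i₁ ≫ snd.left := sq'.w
    let f'' : V' ⟶ T' := Over.homMk f' (by
      change f' ≫ i₂ ≫ T.hom = i₁ ≫ V.hom
      exact (Category.assoc _ _ _).symm.trans ((congrArg (· ≫ T.hom) hw).trans
        ((Category.assoc _ _ _).trans (congrArg (i₁ ≫ ·) hsnd))))
    have sq'' : IsPullback (Over.homMk i₁ rfl : V' ⟶ V) f'' snd (Over.homMk i₂ rfl : T' ⟶ T) :=
      isPullback_of_left sq'.flip
    exact (hQR f'').1 (h T' _ V' _ f'' (isPullback_stack sq sq''))

/-- Universal properties over algebraic spaces follow from tests on affine schemes. -/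
theorem univSp_of_affine (Q : MorphismProperty (Sp S))
    (hT : ∀ {X Y Z P : Sp S} (f : X ⟶ Y) (g : Z ⟶ Y) (fst : P ⟶ X) (snd : P ⟶ Z) {ι : Type u}
      (W : ι → Over S) (r : ∀ i, (yon S).obj (W i) ⟶ Z), IsPullback fst snd f g →
      (∀ z, ∃ i w, Points.ofPt (r i) w = z) →
      (∀ A : Set (Points Z), (∀ i, IsOpen (Points.ofPt (r i) ⁻¹' A)) → IsOpen A) →
      (∀ i, ∃ (Q' : Sp S) (q₁ : Q' ⟶ P) (q₂ : Q' ⟶ (yon S).obj (W i)), IsPullback q₁ q₂ snd (r i) ∧ Q q₂) →
      Q snd)
    {f : F ⟶ G} (h : ∀ (T : Over S), IsAffine T.left → ∀ (g : (yon S).obj T ⟶ G) (P : Sp S) (fst : P ⟶ F)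
      (snd : P ⟶ (yon S).obj T), IsPullback fst snd f g → Q snd) : UnivSp Q f := by
  intro Z Z' hZ g fst snd sq
  obtain ⟨ι, W, r, hW, -, hs, hq⟩ := exists_affine_charts hZ
  refine hT f g fst snd W r sq hs hq fun i => ?_
  obtain ⟨Q', q₁, q₂, sq₁, sq₂⟩ := exists_isPullback_along sq (r i)
  exact ⟨Q', q₁, q₂, sq₁, h _ (hW i) _ _ _ _ sq₂⟩

theorem isUnivOpenMor_of_affine {f : F ⟶ G}
    (h : ∀ (T : Over S), IsAffine T.left → ∀ (g : (yon S).obj T ⟶ G) (P : Sp S) (fst : P ⟶ F)
      (snd : P ⟶ (yon S).obj T), IsPullback fst snd f g → IsOpenMap (Points.map snd)) : IsUnivOpenMor f :=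
  univSp_of_affine IsOpenMor (fun {_ _ _ _} _ _ _ _ {_} _ r _ _ hq h => isOpenMap_of_charts r hq h) h

theorem isUnivClosedMor_of_affine {f : F ⟶ G}
    (h : ∀ (T : Over S), IsAffine T.left → ∀ (g : (yon S).obj T ⟶ G) (P : Sp S) (fst : P ⟶ F)
      (snd : P ⟶ (yon S).obj T), IsPullback fst snd f g → IsClosedMap (Points.map snd)) : IsUnivClosedMor f :=
  univSp_of_affine IsClosedMor (fun {_ _ _ _} _ _ _ _ {_} _ r _ _ hq h => isClosedMap_of_charts r hq h) h

theorem isUnivInjectiveMor_of_affine {f : F ⟶ G}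
    (h : ∀ (T : Over S), IsAffine T.left → ∀ (g : (yon S).obj T ⟶ G) (P : Sp S) (fst : P ⟶ F)
      (snd : P ⟶ (yon S).obj T), IsPullback fst snd f g → Function.Injective (Points.map snd)) :
    IsUnivInjectiveMor f :=
  univSp_of_affine (fun _ _ f => Function.Injective (Points.map f))
    (fun {_ _ _ _} _ _ _ _ {_} _ r _ hs _ h => injective_of_charts r hs h) h

theorem isUnivSubmersiveMor_of_affine {f : F ⟶ G}
    (h : ∀ (T : Over S), IsAffine T.left → ∀ (g : (yon S).obj T ⟶ G) (P : Sp S) (fst : P ⟶ F)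
      (snd : P ⟶ (yon S).obj T), IsPullback fst snd f g → IsQuotientMap (Points.map snd)) :
    IsUnivSubmersiveMor f :=
  univSp_of_affine IsSubmersiveMor (fun {_ _ _ _} _ _ _ _ {_} _ r _ hs hq h => isQuotientMap_of_charts r hs hq h) h

/-- For a representable morphism, one square per test scheme suffices. -/
theorem forall_affine_of_representable {f : F ⟶ G} (hf : Representable f) (Q : ∀ {A B : Sp S}, (A ⟶ B) → Prop)
    (hQ : ∀ {A A' B : Sp S} (e : A ≅ A') (k : A' ⟶ B), Q k → Q (e.hom ≫ k))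
    (h : ∀ (T : Over S) (g : (yon S).obj T ⟶ G) (V : Over S) (fst : (yon S).obj V ⟶ F) (snd : V ⟶ T),
      IsPullback fst ((yon S).map snd) f g → Q ((yon S).map snd))
    (T : Over S) (g : (yon S).obj T ⟶ G) (P : Sp S) (fst : P ⟶ F) (snd : P ⟶ (yon S).obj T)
    (sq : IsPullback fst snd f g) : Q snd := by
  obtain ⟨V, fst', snd', sq'⟩ := exists_isPullback_of_representable hf g
  rw [← sq.isoIsPullback_hom_snd _ _ sq']
  exact hQ _ _ (h T g V fst' snd' sq')

section Compact

theorem compactSpace_points_of_isQuasiCompactSp (h : IsQuasiCompactSp F) : CompactSpace (Points F) := by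
  obtain ⟨U, p, -, ps, hU⟩ := h
  have : CompactSpace ↥U.left := hU
  exact ⟨(surjective_ofPt_of_repWith ps).range_eq ▸ isCompact_range (Points.continuous_ofPt p)⟩

theorem isQuasiCompactSp_of_compactSpace_points (hF : IsAlgSpace F) [CompactSpace (Points F)] :
    IsQuasiCompactSp F := by
  obtain ⟨U, p, pe, ps⟩ := hF.atlas
  let 𝒰 := U.left.affineCover
  obtain ⟨s, hs⟩ := isCompact_univ.elim_finite_subcover (fun i => Points.ofPt p '' Set.range (𝒰.f i))
    (fun i => isOpenMap_ofPt_of_etale pe _ (𝒰.f i).isOpenEmbedding.isOpen_range) (fun x _ => by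
      obtain ⟨u, rfl⟩ := surjective_ofPt_of_repWith ps x
      obtain ⟨i, w, rfl⟩ := 𝒰.exists_eq u
      exact Set.mem_iUnion.2 ⟨i, _, ⟨w, rfl⟩, rfl⟩)
  let T : Scheme.{u} := ∐ fun i : s => 𝒰.X i.1
  let c : Over.mk ((Sigma.desc fun i : s => 𝒰.f i.1) ≫ U.hom) ⟶ U :=
    Over.homMk (Sigma.desc fun i : s => 𝒰.f i.1) rfl
  have hc : Etale c.left := by
    change Etale (Sigma.desc fun i : s => 𝒰.f i.1)
    rw [IsZariskiLocalAtSource.iff_of_openCover (P := @Etale) (sigmaOpenCover _)]
    intro i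
    change Etale (Sigma.ι (fun i : s => 𝒰.X i.1) i ≫ Sigma.desc fun i : s => 𝒰.f i.1)
    rw [Sigma.ι_desc]
    infer_instance
  have he : RepWith @Etale ((yon S).map c ≫ p) := repWith_comp ((repWith_yon_map_iff _ _).2 hc) pe
  refine ⟨_, (yon S).map c ≫ p, he, repWith_surjective_of_ofPt he.1 fun x => ?_,
    show CompactSpace T from inferInstance⟩
  obtain ⟨i, hi, _, ⟨w, rfl⟩, hx⟩ := Set.mem_iUnion₂.1 (hs (Set.mem_univ x))
  refine ⟨Sigma.ι (fun i : s => 𝒰.X i.1) ⟨i, hi⟩ w, ?_⟩
  rw [ofPt_map_comp, ← hx]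
  congr 1
  change (Sigma.desc fun i : s => 𝒰.f i.1) _ = _
  rw [← Scheme.Hom.comp_apply, Sigma.ι_desc]

theorem isQuasiCompactSp_of_iso {F' : Sp S} (h : IsQuasiCompactSp F) (e : F ≅ F') : IsQuasiCompactSp F' := by
  obtain ⟨U, p, pe, ps, hU⟩ := h
  exact ⟨U, p ≫ e.hom, repWith_comp pe (repWith_iso e.hom), repWith_comp ps (repWith_iso e.hom), hU⟩

theorem isQuasiCompactSp_yon (T : Over S) [CompactSpace ↥T.left] : IsQuasiCompactSp ((yon S).obj T) :=
  ⟨T, 𝟙 _, repWith_id _ T, repWith_id _ T, inferInstance⟩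

theorem compactSpace_of_isQuasiCompactSp_yon (T : Over S) (h : IsQuasiCompactSp ((yon S).obj T)) :
    CompactSpace ↥T.left :=
  have := compactSpace_points_of_isQuasiCompactSp h
  (Points.schemeHomeo T).symm.compactSpace

/-- Quasi-compactness can be tested on affine schemes. -/
theorem isQuasiCompactMor_of_affine {f : F ⟶ G}
    (h : ∀ (T : Over S), IsAffine T.left → ∀ (g : (yon S).obj T ⟶ G) (P : Sp S) (fst : P ⟶ F)
      (snd : P ⟶ (yon S).obj T), IsPullback fst snd f g → IsQuasiCompactSp P) : IsQuasiCompactMor f := by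
  intro Z Z' hZ hqc g fst snd sq
  obtain ⟨U, p, pe, ps, hU⟩ := hqc
  have : CompactSpace ↥U.left := hU
  obtain ⟨T, c, hcs, hce, hT⟩ := Scheme.exists_hom_isAffine_of_isZariskiLocalAtSource @Etale U.left
  let W : Over S := Over.mk (c ≫ U.hom)
  let cW : W ⟶ U := Over.homMk c rfl
  obtain ⟨Q, q₁, q₂, sq₁, sq₂⟩ := exists_isPullback_along sq ((yon S).map cW ≫ p)
  obtain ⟨C, r, re, rs, hC⟩ := h W hT _ _ _ _ sq₂
  refine ⟨C, r ≫ q₁, repWith_comp re (repWith_of_isPullback sq₁.flip ?_),
    repWith_comp rs (repWith_of_isPullback sq₁.flip ?_), hC⟩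
  · exact repWith_comp ((repWith_yon_map_iff _ _).2 hce) pe
  · exact repWith_comp ((repWith_yon_map_iff _ _).2 hcs) ps

theorem isQuasiCompactMor_of_repWith {f : F ⟶ G} (h : RepWith @QuasiCompact f) : IsQuasiCompactMor f :=
  isQuasiCompactMor_of_affine fun T hT g P fst snd sq => by
    obtain ⟨V, fst', snd', sq'⟩ := exists_isPullback_of_representable h.1 g
    have : QuasiCompact snd'.left := h.2 _ _ _ sq'
    have : CompactSpace ↥V.left := QuasiCompact.compactSpace_of_compactSpace snd'.left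
    exact isQuasiCompactSp_of_iso (isQuasiCompactSp_yon V) (sq'.isoIsPullback _ _ sq)

theorem repWith_quasiCompact_of_isQuasiCompactMor {f : F ⟶ G} (hf : Representable f)
    (h : IsQuasiCompactMor f) : RepWith @QuasiCompact f := by
  refine ⟨hf, fun T V g fst snd sq => ?_⟩
  change QuasiCompact snd.left
  rw [IsZariskiLocalAtTarget.iff_of_openCover (P := @QuasiCompact) T.left.affineCover]
  intro i
  let W : Over S := Over.mk (T.left.affineCover.f i ≫ T.hom)
  let j : W ⟶ T := Over.homMk (T.left.affineCover.f i) rfl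
  have : CompactSpace ↥W.left := inferInstanceAs (CompactSpace (T.left.affineCover.X i))
  let V' : Over S := Over.mk (pullback.fst snd.left j.left ≫ V.hom)
  let k : V' ⟶ W := Over.homMk (pullback.snd snd.left j.left) (by
    change pullback.snd snd.left j.left ≫ j.left ≫ T.hom = pullback.fst snd.left j.left ≫ V.hom
    rw [← Category.assoc, ← pullback.condition, Category.assoc, Over.w snd])
  have sq' : IsPullback (Over.homMk (pullback.fst snd.left j.left) rfl : V' ⟶ V) k snd j :=
    isPullback_of_left (IsPullback.of_hasPullback snd.left j.left)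
  have := compactSpace_of_isQuasiCompactSp_yon V' (h (IsAlgSpace.yon_obj W)
    (isQuasiCompactSp_yon W) _ _ _ (isPullback_stack sq sq'))
  change QuasiCompact (pullback.snd snd.left (T.left.affineCover.f i))
  exact (quasiCompact_iff_compactSpace _).2 this

theorem isQuasiCompactMor_comp {X Y Z : Sp S} (hX : IsAlgSpace X) (hY : IsAlgSpace Y)
    (hZ : IsAlgSpace Z) {f : X ⟶ Y} {g : Y ⟶ Z} (hf : IsQuasiCompactMor f) (hg : IsQuasiCompactMor g) :
    IsQuasiCompactMor (f ≫ g) := by
  intro W W' hW hWc k fst snd sq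
  have sqg := IsPullback.of_hasPullback g k
  refine hf (isAlgSpace_pullback' hZ hY hW g k) (hg hW hWc k _ _ sqg) (pullback.fst g k) fst
    (pullback.lift (fst ≫ f) snd (by rw [Category.assoc, sq.w])) ?_
  refine IsPullback.of_right (h₁₂ := pullback.snd g k) (h₂₂ := g) (v₁₃ := k) ?_ ?_ sqg.flip |>.flip
  · rw [pullback.lift_snd]; exact sq.flip
  · rw [pullback.lift_fst]

end Compact

/-- Maps from schemes into an algebraic space agree if they do so after a faithfully flat quasi-compact cover. -/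
theorem eq_of_comp_eq (hF : Representable (Limits.diag F)) {T T' : Over S} (c : T' ⟶ T) [Flat c.left]
    [QuasiCompact c.left] [Surjective c.left] {a b : (yon S).obj T ⟶ F}
    (h : (yon S).map c ≫ a = (yon S).map c ≫ b) : a = b := by
  obtain ⟨E, e, ι', sq⟩ := exists_isPullback_of_representable hF (prod.lift a b)
  have ha : e = (yon S).map ι' ≫ a := by
    simpa only [Limits.diag, Category.assoc, prod.lift_fst, Category.comp_id] using
      congrArg (fun x => x ≫ prod.fst) sq.w
  have hb : e = (yon S).map ι' ≫ b := by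
    simpa only [Limits.diag, Category.assoc, prod.lift_snd, Category.comp_id] using
      congrArg (fun x => x ≫ prod.snd) sq.w
  let l : T' ⟶ E := (yon S).preimage (sq.lift ((yon S).map c ≫ a) ((yon S).map c) (by
    apply prod.hom_ext
    · simp only [Limits.diag, Category.assoc, prod.lift_fst, Category.comp_id]
    · simp only [Limits.diag, Category.assoc, prod.lift_snd, Category.comp_id, h]))
  have hl : l ≫ ι' = c := (yon S).map_injective (by simp [l])
  have : Mono ι' := ⟨fun u v huv => (yon S).map_injective (sq.hom_ext (by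
    rw [ha, ← Functor.map_comp_assoc, ← Functor.map_comp_assoc, huv])
    (by rw [← Functor.map_comp, ← Functor.map_comp, huv]))⟩
  have : Mono ι'.left := (Over.forget S).map_mono ι'
  have sqc : IsPullback (𝟙 T'.left) l.left c.left ι'.left := by
    refine ⟨⟨by rw [Category.id_comp, ← Over.comp_left, hl]⟩, ⟨PullbackCone.IsLimit.mk _ (fun s => s.fst)
      (fun s => Category.comp_id _) (fun s => ?_) (fun s m hm _ => by simpa using hm)⟩⟩
    rw [← cancel_mono ι'.left, Category.assoc, ← Over.comp_left, hl, s.condition]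
  have : IsIso ι'.left :=
    MorphismProperty.of_isPullback_of_descendsAlong (P := isomorphisms Scheme.{u})
      (Q := @Surjective ⊓ @Flat ⊓ @QuasiCompact) sqc.flip.flip.flip.flip ⟨⟨‹_›, ‹_›⟩, ‹_›⟩
      (inferInstanceAs (IsIso (𝟙 T'.left)))
  have : IsIso ι' := by
    have : IsIso ((Over.forget S).map ι') := this
    exact isIso_of_reflects_iso ι' (Over.forget S)
  rw [← cancel_epi ((yon S).map ι'), ← ha, ← hb]

theorem eq_of_field_comp_eq (hF : Representable (Limits.diag F)) {K Ω : Type u} [Field K] [Field Ω]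
    {str : Spec (CommRingCat.of K) ⟶ S} {w : Spec (CommRingCat.of Ω) ⟶ S} (c : Over.mk w ⟶ Over.mk str)
    {a b : (yon S).obj (Over.mk str) ⟶ F} (h : (yon S).map c ≫ a = (yon S).map c ≫ b) : a = b := by
  have hi : IsIntegral (Over.mk str).left := inferInstanceAs (IsIntegral (Spec (CommRingCat.of K)))
  have hs : Subsingleton ↥(Over.mk str).left := inferInstanceAs (Subsingleton (PrimeSpectrum K))
  have hne : Nonempty ↥(Over.mk w).left := inferInstanceAs (Nonempty (PrimeSpectrum Ω))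
  have : Surjective c.left := ⟨fun x => ⟨hne.some, Subsingleton.elim _ _⟩⟩
  have : IsAffine (Over.mk str).left := inferInstanceAs (IsAffine (Spec (CommRingCat.of K)))
  have : IsAffine (Over.mk w).left := inferInstanceAs (IsAffine (Spec (CommRingCat.of Ω)))
  exact eq_of_comp_eq hF c h

end GrothLib.AlgSp
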