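import Mathlib.AlgebraicGeometry.Morphisms.FlatMono
import Mathlib.AlgebraicGeometry.Morphisms.FormallyUnramified
import Groth.Agent.Lib.AlgSp.LqfScheme
import Groth.Agent.Lib.AlgSp.PointsUniv

/-!
# Diagonals of unramified morphisms and etale monomorphisms

* `repWith_openImmersion_diagonal_of_unramified`, `locP_unramified_of_diagonal`.
* `repWith_openImmersion_of_etale_univInjective`.
-/

universe u

open CategoryTheory CategoryTheory.Limits AlgebraicGeometry

namespace GrothLib.AlgSp

open _root_.AlgSp

variable {S : Scheme.{u}}

theorem isPullback_map_prodMap {X Y X' : Sp S} (f : X ⟶ Y) (p : X' ⟶ X) :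
    IsPullback (prod.lift (pullback.fst (p ≫ f) (p ≫ f)) (pullback.snd (p ≫ f) (p ≫ f)))
      (pullback.map (p ≫ f) (p ≫ f) f f p p (𝟙 Y) (by simp) (by simp)) (prod.map p p)
      (prod.lift (pullback.fst f f) (pullback.snd f f)) := by
  refine isPullback_of_yon ?_ fun T a b hab => ?_
  · apply prod.hom_ext <;>
      simp only [pullback.map, Category.assoc, prod.map_fst, prod.map_snd, prod.lift_fst, prod.lift_snd,
        prod.lift_fst_assoc, prod.lift_snd_assoc, pullback.lift_fst, pullback.lift_snd]
  · have h1 := congrArg (fun x => x ≫ prod.fst) hab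
    have h2 := congrArg (fun x => x ≫ prod.snd) hab
    simp only [Category.assoc, prod.map_fst, prod.map_snd, prod.lift_fst, prod.lift_snd] at h1 h2
    refine ⟨pullback.lift (a ≫ prod.fst) (a ≫ prod.snd) (by
        simp only [Category.assoc]
        rw [← Category.assoc prod.fst p f, ← Category.assoc a, h1, ← Category.assoc prod.snd p f,
          ← Category.assoc a, h2, Category.assoc, Category.assoc, pullback.condition]), ⟨?_, ?_⟩, ?_⟩
    · apply prod.hom_ext <;>
        simp only [Category.assoc, prod.lift_fst, prod.lift_snd, pullback.lift_fst, pullback.lift_snd]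
    · apply pullback.hom_ext
      · simp only [pullback.map, Category.assoc, pullback.lift_fst, pullback.lift_fst_assoc]
        exact h1
      · simp only [pullback.map, Category.assoc, pullback.lift_snd, pullback.lift_snd_assoc]
        exact h2
    · rintro c ⟨rfl, -⟩
      apply pullback.hom_ext <;>
        simp only [Category.assoc, prod.lift_fst, prod.lift_snd, pullback.lift_fst, pullback.lift_snd]

theorem isOpenImmersion_diagonal_of_unramified {U V : Scheme.{u}} (h : U ⟶ V) [LocallyOfFiniteType h]
    [FormallyUnramified h] : IsOpenImmersion (pullback.diagonal h) := inferInstance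

theorem etale_diagonal_of_etale {X Y : Sp S} {f : X ⟶ Y} (hf : RepWith @Etale f) :
    RepWith @IsOpenImmersion (pullback.diagonal f) :=
  (repWith_diagonal_iff_of_representable hf.1).2
    (repWith_mono hf fun A B g (hg : Etale g) => show IsOpenImmersion (pullback.diagonal g) from inferInstance)

theorem repWith_openImmersion_diagonal_of_unramified {X Y : Sp S} (hX : IsAlgSpace X) (hY : IsAlgSpace Y)
    {f : X ⟶ Y} (hf : LocP (@LocallyOfFiniteType ⊓ @FormallyUnramified) f) :
    RepWith @IsOpenImmersion (pullback.diagonal f) := by
  have hrep : Representable (pullback.diagonal f) :=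
    (repWith_diagonal f (repWith_diag_mono hX)).1
  have hQ : IsAlgSpace (pullback f f) := isAlgSpace_pullback' hY hX hX f f
  obtain ⟨V, q, qe, qs⟩ := hY.atlas
  obtain ⟨U, p, h, pe, hp, hps⟩ := exists_chart_over hX hY f q qe
  obtain ⟨hl, hu⟩ := hf p q h pe qe hp
  haveI : LocallyOfFiniteType h.left := hl
  haveI : FormallyUnramified h.left := hu
  -- the chart of the fibre product
  let b₁ := pullback.mapDesc ((yon S).map h) ((yon S).map h) q
  have hb₁ : RepWith @Etale b₁ :=
    repWith_mono (repWith_mapDesc _ _ q (etale_diagonal_of_etale qe)) fun A B g (hg : IsOpenImmersion g) =>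
      show Etale g from inferInstance
  let b₂ : pullback ((yon S).map h ≫ q) ((yon S).map h ≫ q) ⟶ pullback f f :=
    pullback.lift (pullback.fst _ _ ≫ p) (pullback.snd _ _ ≫ p)
      (by rw [Category.assoc, Category.assoc, hp, pullback.condition])
  have hb₂ : RepWith @Etale b₂ := by
    have h2 := repWith_of_isPullback (isPullback_map_prodMap f p) (repWith_prodMap pe pe)
    have e : b₂ = (pullback.congrHom hp.symm hp.symm).hom ≫
        pullback.map (p ≫ f) (p ≫ f) f f p p (𝟙 Y) (by simp) (by simp) := by
      apply pullback.hom_ext <;> simp only [b₂, pullback.map, pullback.congrHom, asIso_hom, Category.assoc, pullback.lift_fst,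
        pullback.lift_snd, pullback.lift_fst_assoc, pullback.lift_snd_assoc, Category.id_comp, Category.comp_id]
    rw [e]
    exact (MorphismProperty.cancel_left_of_respectsIso (RepWith @Etale) _ _).2 h2
  have sqh := isPullback_yon (IsPullback.of_hasPullback h h)
  let b : (yon S).obj (pullback h h) ⟶ pullback f f := sqh.isoPullback.hom ≫ b₁ ≫ b₂
  have hb : RepWith @Etale b :=
    (MorphismProperty.cancel_left_of_respectsIso (RepWith @Etale) _ _).2 (repWith_comp hb₁ hb₂)
  have key : LocP @Etale (pullback.diagonal f) := by
    refine EtLocal.locP_of_chart EtLocal.etale pe (hps qs) hb (h := pullback.diagonal h) ?_ ?_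
    · apply pullback.hom_ext
      · simp only [b, b₁, b₂, pullback.map, pullback.mapDesc, Category.assoc, pullback.diagonal_fst,
          Category.comp_id, pullback.lift_fst, pullback.lift_fst_assoc, Category.id_comp,
          IsPullback.isoPullback_hom_fst_assoc]
        rw [← Functor.map_comp_assoc, pullback.diagonal_fst, CategoryTheory.Functor.map_id, Category.id_comp]
      · simp only [b, b₁, b₂, pullback.map, pullback.mapDesc, Category.assoc, pullback.diagonal_snd,
          Category.comp_id, pullback.lift_snd, pullback.lift_snd_assoc, Category.id_comp,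
          IsPullback.isoPullback_hom_snd_assoc]
        rw [← Functor.map_comp_assoc, pullback.diagonal_snd, CategoryTheory.Functor.map_id, Category.id_comp]
    · have sq := isPullback_left (IsPullback.of_hasPullback h h)
      have e : (pullback.diagonal h).left ≫ sq.isoPullback.hom = pullback.diagonal h.left := by
        apply pullback.hom_ext
        · rw [Category.assoc, IsPullback.isoPullback_hom_fst, ← Over.comp_left, pullback.diagonal_fst,
            pullback.diagonal_fst]; rfl
        · rw [Category.assoc, IsPullback.isoPullback_hom_snd, ← Over.comp_left, pullback.diagonal_snd,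
            pullback.diagonal_snd]; rfl
      rw [← MorphismProperty.cancel_right_of_respectsIso @Etale _ sq.isoPullback.hom, e]
      infer_instance
  exact repWith_mono
    (repWith_inf_iff.2 ⟨EtLocal.repWith_of_locP EtLocal.etale hQ hrep key, repWith_diagonal f (repWith_diag_mono hX)⟩)
    fun A B g ⟨h₁, h₂⟩ => by
      have : Etale g := h₁
      have : Mono g := h₂
      exact IsOpenImmersion.of_flat_of_mono g

theorem locP_unramified_of_diagonal {X Y : Sp S} {f : X ⟶ Y} (hf : LocP @LocallyOfFiniteType f)
    (hd : RepWith @IsOpenImmersion (pullback.diagonal f)) :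
    LocP (@LocallyOfFiniteType ⊓ @FormallyUnramified) f := by
  intro U V a b h ha hb w
  refine ⟨hf a b h ha hb w, ?_⟩
  have h1 : RepWith @IsOpenImmersion (pullback.diagonal (a ≫ f)) := by
    rw [pullback.diagonal_comp]
    exact repWith_comp (etale_diagonal_of_etale ha)
      ((MorphismProperty.cancel_left_of_respectsIso (RepWith @IsOpenImmersion) _ _).2
        (repWith_of_isPullback (IsPullback.of_hasPullback _ _) hd))
  let m : pullback ((yon S).map h) ((yon S).map h) ⟶ pullback (a ≫ f) (a ≫ f) :=
    pullback.lift (pullback.fst _ _) (pullback.snd _ _) (by rw [w, pullback.condition_assoc])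
  have hm : Mono m := ⟨fun {Z} x y e => by
    apply pullback.hom_ext
    · simpa only [m, Category.assoc, pullback.lift_fst, pullback.lift_snd] using congrArg (· ≫ pullback.fst _ _) e
    · simpa only [m, Category.assoc, pullback.lift_fst, pullback.lift_snd] using congrArg (· ≫ pullback.snd _ _) e⟩
  have sq : IsPullback (𝟙 _) (pullback.diagonal ((yon S).map h)) (pullback.diagonal (a ≫ f)) m := by
    have e : pullback.diagonal ((yon S).map h) ≫ m = pullback.diagonal (a ≫ f) := by
      apply pullback.hom_ext <;>
        simp only [m, Category.assoc, pullback.lift_fst, pullback.lift_snd, pullback.diagonal_fst,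
          pullback.diagonal_snd]
    refine isPullback_of_yon (by rw [Category.id_comp, e]) fun T x y hxy => ⟨x, ⟨Category.comp_id _, ?_⟩,
      fun c hc => by rw [← hc.1, Category.comp_id]⟩
    rw [← cancel_mono m, Category.assoc, e, hxy]
  have : IsOpenImmersion (pullback.diagonal h.left) :=
    (repWith_diagonal_yon_map_iff (P := @IsOpenImmersion) h).1 (repWith_of_isPullback sq h1)
  exact inferInstanceAs (FormallyUnramified h.left)

theorem repWith_openImmersion_of_etale_univInjective {X Y : Sp S} (hX : IsAlgSpace X) (hY : IsAlgSpace Y)
    {f : X ⟶ Y} (het : IsEtaleMor f) (hinj : IsUnivInjectiveMor f) : RepWith @IsOpenImmersion f := by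
  have hl : LocP @Etale f := locP_of_isEtaleMor hY het
  have hd := repWith_openImmersion_diagonal_of_unramified hX hY
    (locP_mono (fun A B g (hg : Etale g) => show (@LocallyOfFiniteType ⊓ @FormallyUnramified) g from
      ⟨inferInstance, inferInstance⟩) hl)
  have hs : RepWith @Surjective (pullback.diagonal f) := (repWith_surjective_iff hd.1).2 fun z => by
    refine ⟨Points.map (pullback.snd f f) z, ?_⟩
    apply hinj hX f _ _ (IsPullback.of_hasPullback f f)
    rw [← Points.map_comp, pullback.diagonal_snd, Points.map_id]
  haveI : IsIso (pullback.diagonal f) := isIso_of_repWith_isomorphisms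
    (repWith_mono (repWith_inf_iff.2 ⟨hd, hs⟩) fun A B k ⟨h₁, h₂⟩ => by
      have : IsOpenImmersion k := h₁
      have : Surjective k := h₂
      have : Epi k.base := by rw [TopCat.epi_iff_surjective]; exact k.surjective
      exact (isIso_iff_isOpenImmersion_and_epi_base k).2 ⟨inferInstance, inferInstance⟩)
  haveI : Mono f := (pullback.isIso_diagonal_iff f).1 inferInstance
  have hrep : Representable f := representable_of_lqf_separated hX hY
    (locP_mono (fun A B g (hg : Etale g) => show (@LocallyQuasiFinite ⊓ @LocallyOfFiniteType) g from
      ⟨locallyQuasiFinite_of_unramified g, inferInstance⟩) hl) (repWith_iso _)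
  refine ⟨hrep, fun T P g fst snd sq => ?_⟩
  haveI : Etale snd.left := (EtLocal.repWith_of_locP EtLocal.etale hY hrep hl).2 _ _ _ sq
  haveI : Mono ((yon S).map snd) := ⟨fun {Z} x y e => sq.hom_ext
    ((cancel_mono f).1 (by rw [Category.assoc, Category.assoc, sq.w, ← Category.assoc, e, Category.assoc])) e⟩
  haveI : Mono snd := (yon S).mono_of_mono_map inferInstance
  haveI : Mono snd.left := (Over.forget S).map_mono snd
  exact IsOpenImmersion.of_flat_of_mono snd.left

end GrothLib.AlgSp
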