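import Mathlib.AlgebraicGeometry.Morphisms.LocalFlatDescent
import Groth.Agent.Lib.AlgSp.Unramified
import Groth.Agent.Lib.AlgSp.AffineMor
import Groth.Agent.Lib.AlgSp.FieldBase

/-!
# Flat monomorphisms, and spaces etale over a field

* `etale_chart_of_mono`: a faithfully flat quasi-compact chart of a monomorphism is etale.
* `isIso_of_flat_mono`: quasi-compact flat surjective monomorphisms are isomorphisms.
* `isIso_of_mono_to_field`, `isRepresentable_of_etale_to_field`.
-/

universe u

open CategoryTheory CategoryTheory.Limits AlgebraicGeometry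

namespace GrothLib.AlgSp

open _root_.AlgSp

variable {S : Scheme.{u}}

theorem injective_map_of_mono {F G : Sp S} (g : F ⟶ G) [Mono g] : Function.Injective (Points.map g) := by
  intro x y h
  obtain ⟨Ω, _, w, a, b, hab, ha, hb⟩ := exists_common_field (f := g) (g := g) h
  rw [← ha, ← hb, (cancel_mono g).1 hab]

theorem isUnivInjectiveMor_of_mono {F G : Sp S} (g : F ⟶ G) [Mono g] : IsUnivInjectiveMor g := by
  intro Z Z' _ k fst snd sq
  haveI : Mono snd := ⟨fun {W} x y e => sq.hom_ext
    ((cancel_mono g).1 (by rw [Category.assoc, Category.assoc, sq.w, ← Category.assoc, e, Category.assoc])) e⟩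
  exact injective_map_of_mono snd

theorem isIso_of_openImmersion_surjective {F G : Sp S} {g : F ⟶ G} (h : RepWith @IsOpenImmersion g)
    (hs : Function.Surjective (Points.map g)) : IsIso g :=
  isIso_of_repWith_isomorphisms (repWith_mono (repWith_inf_iff.2 ⟨h, (repWith_surjective_iff h.1).2 hs⟩)
    fun A B k ⟨h₁, h₂⟩ => by
      have : IsOpenImmersion k := h₁
      have : Surjective k := h₂
      have : Epi k.base := by rw [TopCat.epi_iff_surjective]; exact k.surjective
      exact (isIso_iff_isOpenImmersion_and_epi_base k).2 ⟨inferInstance, inferInstance⟩)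

theorem etale_chart_of_mono {X : Sp S} {T U : Over S} (j : X ⟶ (yon S).obj T) [Mono j]
    {p : (yon S).obj U ⟶ X} (pe : RepWith @Etale p) {h : U ⟶ T} (hp : p ≫ j = (yon S).map h)
    [Flat h.left] [QuasiCompact h.left] [Surjective h.left] : Etale h.left := by
  obtain ⟨R, t, s, sq⟩ := exists_isPullback_of_representable pe.1 p
  obtain ⟨t, rfl⟩ := (yon S).map_surjective t
  have sq' : IsPullback ((yon S).map t) ((yon S).map s) ((yon S).map h) ((yon S).map h) := by
    rw [← hp]
    refine isPullback_of_yon (by rw [← Category.assoc, sq.w, Category.assoc]) fun W a b hab => ?_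
    rw [← Category.assoc, ← Category.assoc, cancel_mono] at hab
    exact ⟨sq.lift a b hab, ⟨sq.lift_fst _ _ _, sq.lift_snd _ _ _⟩,
      fun c hc => sq.hom_ext (by rw [sq.lift_fst, hc.1]) (by rw [sq.lift_snd, hc.2])⟩
  have : Etale s.left := pe.2 _ _ _ sq
  exact MorphismProperty.of_isPullback_of_descendsAlong (Q := @Surjective ⊓ @Flat ⊓ @QuasiCompact)
    (isPullback_left (isPullback_of_isPullback_yon sq')).flip ⟨⟨‹_›, ‹_›⟩, ‹_›⟩ this

theorem isIso_of_flat_mono_affine {P : Sp S} (hP : IsAlgSpace P) (hc : IsQuasiCompactSp P) {T : Over S}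
    [IsAffine T.left] (j : P ⟶ (yon S).obj T) [Mono j] (hfl : LocP @Flat j)
    (hs : IsSurjectiveMor j) : IsIso j := by
  obtain ⟨U₀, p₀, pe₀, ps₀, hU₀⟩ := hc
  haveI : CompactSpace ↥U₀.left := hU₀
  obtain ⟨V, c, hcs, hce, hV⟩ := Scheme.exists_hom_isAffine_of_isZariskiLocalAtSource @Etale U₀.left
  let U : Over S := Over.mk (c ≫ U₀.hom)
  haveI : IsAffine U.left := hV
  let cU : U ⟶ U₀ := Over.homMk c rfl
  let p := (yon S).map cU ≫ p₀
  have pe : RepWith @Etale p := repWith_comp ((repWith_yon_map_iff _ _).2 hce) pe₀
  have ps : RepWith @Surjective p := repWith_comp ((repWith_yon_map_iff _ _).2 hcs) ps₀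
  obtain ⟨h, hh⟩ := (yon S).map_surjective (p ≫ j)
  haveI : Flat h.left := hfl p (𝟙 _) h pe (repWith_id _ T) (by rw [hh, Category.comp_id])
  haveI : Surjective h.left := ⟨(surjective_map_yon_iff h).1 (by
    rw [hh, show Points.map (p ≫ j) = Points.map j ∘ Points.map p from funext (Points.map_comp _ _)]
    exact hs.comp (surjective_map_of_repWith ps))⟩
  have he : Etale h.left := etale_chart_of_mono j pe hh.symm
  have hl : LocP @Etale j := EtLocal.locP_of_chart EtLocal.etale pe ps (repWith_id _ T)
    (by rw [Category.comp_id]; exact hh.symm) he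
  exact isIso_of_openImmersion_surjective (repWith_openImmersion_of_etale_univInjective hP
    (IsAlgSpace.yon_obj T) (isEtaleMor_of_locP (IsAlgSpace.yon_obj T) hl) (isUnivInjectiveMor_of_mono j)) hs

/-- Quasi-compact flat surjective monomorphisms are isomorphisms. -/
theorem isIso_of_flat_mono {X Y : Sp S} (hX : IsAlgSpace X) (hY : IsAlgSpace Y) {f : X ⟶ Y} [Mono f]
    (hqc : IsQuasiCompactMor f) (hfl : LocP @Flat f) (hs : IsSurjectiveMor f) : IsIso f := by
  refine isIso_of_repWith_isomorphisms (repWith_of_forall_affine fun Z hZ g => ?_)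
  haveI := hZ
  have sq := IsPullback.of_hasPullback f g
  have hP := isAlgSpace_pullback' hY hX (IsAlgSpace.yon_obj Z) f g
  haveI : CompactSpace ↥Z.left := inferInstance
  haveI : IsIso (pullback.snd f g) := isIso_of_flat_mono_affine hP
    (hqc (IsAlgSpace.yon_obj Z) (isQuasiCompactSp_yon Z) g _ _ sq) (pullback.snd f g)
    (EtLocal.locP_of_isPullback EtLocal.flat hX hY (IsAlgSpace.yon_obj Z) sq hfl)
    (surjective_map_of_isPullback sq hs)
  refine ⟨Z, 𝟙 Z, inv (pullback.snd f g) ≫ pullback.fst f g, ?_, ?_⟩
  · exact IsPullback.of_iso sq (asIso (pullback.snd f g)) (Iso.refl _) (Iso.refl _) (Iso.refl _)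
      (by simp) (by simp) (by simp) (by simp)
  · change IsIso (𝟙 Z.left)
    infer_instance

theorem subsingleton_points_field {k : Type u} [Field k] (str : Spec (CommRingCat.of k) ⟶ S) :
    Subsingleton (Points ((yon S).obj (Over.mk str))) :=
  have : Subsingleton ↥(Over.mk str).left := inferInstanceAs (Subsingleton (PrimeSpectrum k))
  (Points.schemeHomeo (Over.mk str)).symm.injective.subsingleton

/-- A nonempty monomorphism to a field is an isomorphism. -/
theorem isIso_space_of_mono_to_field {Z : Sp S} (hZ : IsAlgSpace Z) {k : Type u} [Field k]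
    (str : Spec (CommRingCat.of k) ⟶ S) (f : Z ⟶ (yon S).obj (Over.mk str)) [Mono f]
    [Nonempty (Points Z)] : IsIso f := by
  let T : Over S := Over.mk str
  haveI := subsingleton_points_field str
  have hl : LocP @Etale f := by
    obtain ⟨U, p, pe, ps⟩ := hZ.atlas
    obtain ⟨h, hh⟩ := (yon S).map_surjective (p ≫ f)
    refine EtLocal.locP_of_chart EtLocal.etale pe ps (repWith_id _ T)
      (by rw [Category.comp_id]; exact hh.symm) ?_
    change Etale h.left
    rw [IsZariskiLocalAtSource.iff_of_openCover (P := @Etale) U.left.affineCover]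
    intro i
    let W : Over S := Over.mk (U.left.affineCover.f i ≫ U.hom)
    let c : W ⟶ U := Over.homMk (U.left.affineCover.f i) rfl
    haveI : IsAffine W.left := inferInstanceAs (IsAffine (U.left.affineCover.X i))
    change Etale (c ≫ h).left
    cases isEmpty_or_nonempty ↥W.left
    · have : IsOpenImmersion (c ≫ h).left := inferInstance
      infer_instance
    · haveI : Surjective (c ≫ h).left :=
        ⟨Function.surjective_to_subsingleton (α := ↥W.left) (β := PrimeSpectrum k) _⟩
      haveI : IsAffine T.left := inferInstanceAs (IsAffine (Spec _))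
      haveI : Flat (c ≫ h).left := flat_to_field _
      exact etale_chart_of_mono f (p := (yon S).map c ≫ p)
        (repWith_comp ((repWith_yon_map_iff _ _).2 (inferInstanceAs (Etale (U.left.affineCover.f i)))) pe)
        (by rw [Category.assoc, ← hh, Functor.map_comp])
  exact isIso_of_openImmersion_surjective (repWith_openImmersion_of_etale_univInjective hZ
    (IsAlgSpace.yon_obj T) (isEtaleMor_of_locP (IsAlgSpace.yon_obj T) hl) (isUnivInjectiveMor_of_mono f))
    (Function.surjective_to_subsingleton _)

/-- A space etale over a discrete scheme has discrete points. -/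
theorem discreteTopology_points_of_etale {P : Sp S} (hP : IsAlgSpace P) {k : Type u} [Field k]
    {str : Spec (CommRingCat.of k) ⟶ S} {f : P ⟶ (yon S).obj (Over.mk str)} (hf : LocP @Etale f) :
    DiscreteTopology (Points P) := by
  obtain ⟨U, p, pe, ps⟩ := hP.atlas
  obtain ⟨h, hh⟩ := (yon S).map_surjective (p ≫ f)
  have : Etale h.left := hf p (𝟙 _) h pe (repWith_id _ _) (by rw [hh, Category.comp_id])
  haveI : DiscreteTopology ↥U.left := by
    haveI : LocallyQuasiFinite h.left := locallyQuasiFinite_of_unramified h.left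
    haveI : Subsingleton ↥(Over.mk str).left := inferInstanceAs (Subsingleton (PrimeSpectrum k))
    refine isDiscrete_univ_iff.1 ?_
    have e : (Set.univ : Set ↥U.left) = h.left ⁻¹' {(default : PrimeSpectrum k)} := by
      ext x
      exact iff_of_true trivial (Subsingleton.elim (α := PrimeSpectrum k) _ _)
    rw [e]
    exact h.left.isDiscrete_preimage_singleton _
  exact discreteTopology_iff_forall_isOpen.2 fun A =>
    (isOpenQuotientMap_ofPt pe ps).isQuotientMap.isOpen_preimage.1 (isOpen_discrete _)

/-- An algebraic space etale over a field is a scheme. -/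
theorem isRepresentable_of_etale_to_field {X : Sp S} (hX : IsAlgSpace X) {k : Type u} [Field k]
    {str : Spec (CommRingCat.of k) ⟶ S} {f : X ⟶ (yon S).obj (Over.mk str)} (hf : IsEtaleMor f) :
    X.obj.IsRepresentable := by
  have hT := IsAlgSpace.yon_obj (Over.mk str)
  have hl : LocP @Etale f := locP_of_isEtaleMor hT hf
  have hu : LocP (@LocallyOfFiniteType ⊓ @FormallyUnramified) f :=
    locP_mono (fun A B g (hg : Etale g) => show (@LocallyOfFiniteType ⊓ @FormallyUnramified) g from
      ⟨inferInstance, inferInstance⟩) hl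
  have hQ := isAlgSpace_pullback' hT hX hX f f
  have hdisc : DiscreteTopology (Points (pullback f f)) := discreteTopology_points_of_etale hQ
    (f := pullback.snd f f ≫ f) (EtLocal.locP_comp EtLocal.etale hQ hX hT
      (EtLocal.locP_of_isPullback EtLocal.etale hX hT hX (IsPullback.of_hasPullback f f) hl) hl)
  have hd := repWith_openImmersion_diagonal_of_unramified hX hT hu
  refine isRepresentable_of_lqf_separated hX f
    (locP_mono (fun A B g (hg : Etale g) => show (@LocallyQuasiFinite ⊓ @LocallyOfFiniteType) g from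
      ⟨locallyQuasiFinite_of_unramified g, inferInstance⟩) hl) ⟨hd.1, fun W V g fst snd sq => ?_⟩
  have : IsOpenImmersion snd.left := hd.2 _ _ _ sq
  change IsClosedImmersion snd.left
  refine IsClosedImmersion.of_isPreimmersion _ ?_
  have e : Set.range snd.left = Points.ofPt g ⁻¹' Set.range (Points.map (pullback.diagonal f)) :=
    (preimage_range_map sq).symm
  rw [e]
  exact (isClosed_discrete _).preimage (Points.continuous_ofPt g)

end GrothLib.AlgSp
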