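import Groth.Agent.Lib.AlgSp.Fpqc
import Groth.Agent.Lib.AlgSp.LqfScheme
import Groth.Agent.Lib.AlgSp.FlatMono
import Groth.Agent.Lib.AlgSp.Unramified
import Groth.Agent.Lib.EtSite.FpqcDescent
import Groth.Agent.Lib.QuasiFlat.Immersion

/-!
# Properties of morphisms of algebraic spaces local on the base for the fpqc topology
-/

universe u

open CategoryTheory CategoryTheory.Limits AlgebraicGeometry Topology

namespace GrothLib.AlgSp

open _root_.AlgSp

variable {S : Scheme.{u}}

section BaseChanges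

theorem baseChanges_locP {P : MorphismProperty Scheme.{u}} (hP : EtLocal P) :
    BaseChanges (S := S) (LocP P) :=
  fun _ _ _ _ hX hY _ hY' _ _ _ _ sq h => hP.locP_of_isPullback hX hY hY' sq h

theorem baseChanges_univSp (Q : MorphismProperty (Sp S)) : BaseChanges (UnivSp Q) :=
  fun _ _ _ _ _ _ _ _ _ _ _ _ sq h => univSp_of_isPullback sq h

theorem baseChanges_of_isStable (Q : MorphismProperty (Sp S)) [Q.IsStableUnderBaseChange] :
    BaseChanges Q :=
  fun _ _ _ _ _ _ _ _ _ _ _ _ sq h => MorphismProperty.of_isPullback sq h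

theorem baseChanges_repWith (P : MorphismProperty Scheme.{u}) : BaseChanges (S := S) (RepWith P) :=
  fun _ _ _ _ _ _ _ _ _ _ _ _ sq h => repWith_of_isPullback sq h

theorem baseChanges_diagonal (P : MorphismProperty Scheme.{u}) :
    BaseChanges (S := S) (fun _ _ f => RepWith P (pullback.diagonal f)) :=
  fun _ _ _ _ _ _ _ _ _ _ _ _ sq h => repWith_of_isPullback (isPullback_diagonal_of_isPullback sq) h

theorem baseChanges_quasiCompact : BaseChanges (S := S) IsQuasiCompactMor :=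
  fun _ _ _ _ _ _ _ _ _ g _ _ sq h _ _ hZ hc k fst snd sq' => h hZ hc (k ≫ g) _ snd (sq'.paste_horiz sq)

theorem baseChanges_and {Q Q' : MorphismProperty (Sp S)} (h : BaseChanges Q) (h' : BaseChanges Q') :
    BaseChanges (fun _ _ f => Q f ∧ Q' f) :=
  fun _ _ _ _ hX hY hX' hY' _ _ _ _ sq hf =>
    ⟨h hX hY hX' hY' sq hf.1, h' hX hY hX' hY' sq hf.2⟩

end BaseChanges

variable {X Y : Sp S} {f : X ⟶ Y}

theorem surjective_of_affine_surjective (hY : IsAlgSpace Y)
    (h : ∀ (Z : Over S), IsAffine Z.left → ∀ (g : (yon S).obj Z ⟶ Y),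
      Function.Surjective (Points.map (pullback.snd f g))) :
    IsSurjectiveMor f := by
  obtain ⟨ι, W, r, hW, -, hs, -⟩ := exists_affine_charts hY
  exact surjective_of_charts r hs fun i =>
    ⟨_, _, _, IsPullback.of_hasPullback f (r i), h (W i) (hW i) (r i)⟩

theorem isSurjectiveMor_of_fpqcLoc (hY : IsAlgSpace Y) (hf : FpqcLoc IsSurjectiveMor f) : IsSurjectiveMor f :=
  surjective_of_affine_surjective hY fun _ hZ g =>
    surjective_of_fpqcLoc hf hZ g (IsPullback.of_hasPullback f g)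

theorem isUnivHomeoMor_iff {f : X ⟶ Y} (hY : IsAlgSpace Y) :
    IsUnivHomeoMor f ↔ IsSurjectiveMor f ∧ IsUnivInjectiveMor f ∧ IsUnivOpenMor f := by
  refine ⟨fun h => ⟨?_, fun Z Z' hZ g fst snd sq => (h hZ g fst snd sq).injective,
    fun Z Z' hZ g fst snd sq => (h hZ g fst snd sq).isOpenMap⟩,
    fun ⟨hs, hi, ho⟩ Z Z' hZ g fst snd sq => ⟨Points.continuous_map _, ho hZ g fst snd sq,
      ⟨hi hZ g fst snd sq, surjective_of_pullback sq hs⟩⟩⟩
  exact (h hY (𝟙 _) (𝟙 _) f IsPullback.of_id_fst).surjective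

theorem representable_diagonal (hX : IsAlgSpace X) (f : X ⟶ Y) : Representable (pullback.diagonal f) :=
  (repWith_diagonal f (repWith_diag_mono hX)).1

theorem repWith_diagonal_of_fpqcLoc {P : MorphismProperty Scheme.{u}} [IsZariskiLocalAtTarget P]
    [P.IsStableUnderBaseChange] [P.DescendsAlong (@Surjective ⊓ @Flat ⊓ @QuasiCompact)] (hX : IsAlgSpace X)
    (h : FpqcLoc (fun _ _ s => RepWith P (pullback.diagonal s)) f) : RepWith P (pullback.diagonal f) :=
  repWith_of_fpqcLoc (representable_diagonal hX f) (fpqcLoc_diagonal h)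

theorem isSeparatedMor_of_fpqcLoc (hX : IsAlgSpace X) (h : FpqcLoc IsSeparatedMor f) : IsSeparatedMor f :=
  repWith_diagonal_of_fpqcLoc hX h

theorem isQuasiSeparatedMor_of_fpqcLoc (hX : IsAlgSpace X) (h : FpqcLoc IsQuasiSeparatedMor f) :
    IsQuasiSeparatedMor f :=
  have : MorphismProperty.DescendsAlong @QuasiCompact (@Surjective ⊓ @Flat ⊓ @QuasiCompact) :=
    GrothLib.EtSite.descendsAlong_quasiCompact
  repWith_diagonal_of_fpqcLoc hX h

theorem descendsAlong_flat_fpqc :
    MorphismProperty.DescendsAlong (@Flat : MorphismProperty Scheme.{u}) (@Surjective ⊓ @Flat ⊓ @QuasiCompact) :=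
  HasRingHomProperty.descendsAlong_flat (P := @Flat) codescendsAlong_flat

theorem locP_flat_of_fpqcLoc (hX : IsAlgSpace X) (hY : IsAlgSpace Y) (h : FpqcLoc (LocP @Flat) f) : LocP @Flat f :=
  have := descendsAlong_flat_fpqc.{u}
  locP_of_fpqcLoc EtLocal.flat hX hY h

theorem locP_lqf_lft_of_fpqcLoc (hX : IsAlgSpace X) (hY : IsAlgSpace Y)
    (h : FpqcLoc (LocP (@LocallyQuasiFinite ⊓ @LocallyOfFiniteType)) f) :
    LocP (@LocallyQuasiFinite ⊓ @LocallyOfFiniteType) f :=
  have := GrothLib.EtSite.descendsAlong_locallyQuasiFinite.{u}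
  locP_of_fpqcLoc (EtLocal.lqf.inf EtLocal.lft) hX hY h

theorem isFiniteTypeMor_of_fpqcLoc (hX : IsAlgSpace X) (hY : IsAlgSpace Y) (h : FpqcLoc IsFiniteTypeMor f) :
    IsFiniteTypeMor f :=
  ⟨locP_of_fpqcLoc EtLocal.lft hX hY (h.mono hX hY fun _ _ _ _ hs => hs.1),
    isQuasiCompactMor_of_fpqcLoc hX hY (h.mono hX hY fun _ _ _ _ hs => hs.2)⟩

theorem isFinitePresentationMor_of_fpqcLoc (hX : IsAlgSpace X) (hY : IsAlgSpace Y)
    (h : FpqcLoc IsFinitePresentationMor f) : IsFinitePresentationMor f :=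
  ⟨locP_of_fpqcLoc EtLocal.lfp hX hY (h.mono hX hY fun _ _ _ _ hs => hs.1),
    isQuasiCompactMor_of_fpqcLoc hX hY (h.mono hX hY fun _ _ _ _ hs => hs.2.1),
    isQuasiSeparatedMor_of_fpqcLoc hX (h.mono hX hY fun _ _ _ _ hs => hs.2.2)⟩

theorem isProperMor_of_fpqcLoc (hX : IsAlgSpace X) (hY : IsAlgSpace Y) (h : FpqcLoc IsProperMor f) :
    IsProperMor f :=
  ⟨isSeparatedMor_of_fpqcLoc hX (h.mono hX hY fun _ _ _ _ hs => hs.1),
    isFiniteTypeMor_of_fpqcLoc hX hY (h.mono hX hY fun _ _ _ _ hs => hs.2.1),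
    isUnivClosedMor_of_fpqcLoc (h.mono hX hY fun _ _ _ _ hs => hs.2.2)⟩

theorem isEtaleMor_of_fpqcLoc (hX : IsAlgSpace X) (hY : IsAlgSpace Y) (h : FpqcLoc IsEtaleMor f) :
    IsEtaleMor f :=
  isEtaleMor_of_locP hY (locP_of_fpqcLoc EtLocal.etale hX hY
    (h.mono hX hY fun _ _ _ _ hs => locP_of_isEtaleMor (IsAlgSpace.yon_obj _) hs))

/-- Separated locally quasi-finite morphisms descend to representable morphisms. -/
theorem representable_of_fpqcLoc_repWith {P : MorphismProperty Scheme.{u}}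
    (hqf : ∀ ⦃A B : Scheme.{u}⦄ (g : A ⟶ B), P g → (@LocallyQuasiFinite ⊓ @LocallyOfFiniteType : MorphismProperty Scheme.{u}) g)
    (hsep : ∀ ⦃A B : Scheme.{u}⦄ (g : A ⟶ B), P g → IsSeparated g)
    (hX : IsAlgSpace X) (hY : IsAlgSpace Y) (h : FpqcLoc (RepWith P) f) : Representable f :=
  representable_of_lqf_separated hX hY
    (locP_lqf_lft_of_fpqcLoc hX hY (h.mono hX hY fun _ _ _ _ hs =>
      (EtLocal.lqf.inf EtLocal.lft).locP_of_repWith (IsAlgSpace.yon_obj _) (repWith_mono hs hqf)))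
    (isSeparatedMor_of_fpqcLoc hX (h.mono hX hY fun _ _ s _ hs =>
      (isSeparatedMor_iff_repWith hs.1).2 (repWith_mono hs hsep)))

theorem repWith_isOpenImmersion_of_fpqcLoc (hX : IsAlgSpace X) (hY : IsAlgSpace Y)
    (h : FpqcLoc (RepWith @IsOpenImmersion) f) : RepWith @IsOpenImmersion f := by
  refine repWith_of_fpqcLoc (representable_of_fpqcLoc_repWith ?_ ?_ hX hY h) h
  · intro A B g (hg : IsOpenImmersion g)
    exact ⟨inferInstance, inferInstance⟩
  · intro A B g (hg : IsOpenImmersion g)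
    infer_instance

theorem repWith_isClosedImmersion_of_fpqcLoc (hX : IsAlgSpace X) (hY : IsAlgSpace Y)
    (h : FpqcLoc (RepWith @IsClosedImmersion) f) : RepWith @IsClosedImmersion f := by
  refine repWith_of_fpqcLoc (representable_of_fpqcLoc_repWith ?_ ?_ hX hY h) h
  · intro A B g (hg : IsClosedImmersion g)
    exact ⟨inferInstance, inferInstance⟩
  · intro A B g (hg : IsClosedImmersion g)
    infer_instance

theorem repWith_immersion_qc_of_fpqcLoc (hX : IsAlgSpace X) (hY : IsAlgSpace Y)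
    (h : FpqcLoc (RepWith (@IsImmersion ⊓ @QuasiCompact)) f) : RepWith (@IsImmersion ⊓ @QuasiCompact) f := by
  have := GrothLib.QuasiFlat.descendsAlong_qc_immersion.{u}
  refine repWith_of_fpqcLoc (representable_of_fpqcLoc_repWith ?_ ?_ hX hY h) h
  · rintro A B g ⟨(hg : IsImmersion g), -⟩
    exact ⟨inferInstance, inferInstance⟩
  · rintro A B g ⟨(hg : IsImmersion g), -⟩
    infer_instance

theorem isIso_of_fpqcLoc (hX : IsAlgSpace X) (hY : IsAlgSpace Y)
    (h : FpqcLoc (MorphismProperty.isomorphisms (Sp S)) f) : IsIso f := by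
  refine isIso_of_openImmersion_surjective
    (repWith_isOpenImmersion_of_fpqcLoc hX hY (h.mono hX hY fun _ _ s _ (hs : IsIso s) => repWith_iso s))
    (isSurjectiveMor_of_fpqcLoc hY (h.mono hX hY fun _ _ s _ (hs : IsIso s) => fun y =>
      ⟨Points.map (inv s) y, by rw [← Points.map_comp, IsIso.inv_hom_id, Points.map_id]⟩))

theorem mono_of_fpqcLoc (hX : IsAlgSpace X) (hY : IsAlgSpace Y)
    (h : FpqcLoc (MorphismProperty.monomorphisms (Sp S)) f) : Mono f := by
  have hd : RepWith @IsOpenImmersion (pullback.diagonal f) :=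
    repWith_diagonal_of_fpqcLoc hX (h.mono hX hY fun _ _ s _ (hs : Mono s) => repWith_iso _)
  have hs : FpqcLoc (RepWith @Surjective) (pullback.diagonal f) :=
    fpqcLoc_diagonal (h.mono hX hY fun _ _ s _ (hs : Mono s) => repWith_iso _)
  have hr : RepWith @Surjective (pullback.diagonal f) := repWith_of_fpqcLoc hd.1 hs
  have : IsIso (pullback.diagonal f) :=
    isIso_of_openImmersion_surjective hd (surjective_map_of_repWith hr)
  constructor
  intro Z a b hab
  have e : pullback.fst f f = pullback.snd f f := by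
    rw [← cancel_epi (pullback.diagonal f), pullback.diagonal_fst, pullback.diagonal_snd]
  calc a = pullback.lift a b hab ≫ pullback.fst f f := (pullback.lift_fst _ _ _).symm
    _ = b := by rw [e, pullback.lift_snd]

end GrothLib.AlgSp
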