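import Mathlib.RingTheory.Flat.Equalizer
import Mathlib.AlgebraicGeometry.QuasiAffine
import Groth.Agent.Lib.AlgSp.FpqcProps
import Groth.Agent.Lib.AlgSp.AffineDescent
import Groth.Prelude.Def_AlgSpMor5

/-!
# Fpqc descent of quasi-affine morphisms of algebraic spaces

A separated quasi-compact algebraic space over an affine scheme maps to the spectrum of its ring of
global functions, and the formation of this ring commutes with flat base change.
-/

universe u

open CategoryTheory CategoryTheory.Limits AlgebraicGeometry TensorProduct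

namespace GrothLib.AlgSp

open _root_.AlgSp

variable {S : Scheme.{u}}

/-- Base change of a property along a factorisation. -/
theorem repWith_of_factor {Q : MorphismProperty Scheme.{u}} {P B W W' P' : Sp S} {φ : P ⟶ B} {g : W ⟶ B}
    (h : RepWith Q (pullback.snd φ g)) {e : W' ⟶ W} {a : P' ⟶ P} {s : P' ⟶ W'}
    (sq : IsPullback a s φ (e ≫ g)) : RepWith Q s :=
  repWith_of_isPullback (g' := pullback.lift a (s ≫ e) (by rw [Category.assoc]; exact sq.w))
    (IsPullback.of_right (by rw [pullback.lift_fst]; exact sq) (pullback.lift_snd _ _ _)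
      (IsPullback.of_hasPullback φ g)) h

/-- An affine atlas with affine kernel pair. -/
theorem exists_affine_atlas_separated {P : Sp S} (hP : IsAlgSpace P) {Z : Over S} [IsAffine Z.left]
    (s : P ⟶ (yon S).obj Z) (hqc : IsQuasiCompactMor s) (hsep : IsSeparatedMor s) :
    ∃ (U R : Over S) (p : (yon S).obj U ⟶ P) (t t' : R ⟶ U), IsAffine U.left ∧ IsAffine R.left ∧
      RepWith @Etale p ∧ RepWith @Surjective p ∧
      IsPullback ((yon S).map t) ((yon S).map t') p p := by
  have hc : IsQuasiCompactSp P :=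
    hqc (IsAlgSpace.yon_obj Z) (isQuasiCompactSp_yon Z) (𝟙 _) (𝟙 P) s IsPullback.of_id_fst
  obtain ⟨U₀, p₀, pe₀, ps₀, hU₀⟩ := hc
  have : CompactSpace U₀.left := hU₀
  obtain ⟨Y, q, hq, hqi, hY⟩ := U₀.left.exists_hom_isAffine_of_isZariskiLocalAtSource @IsLocalIso
  have : Etale q := IsLocalIso.le_of_isZariskiLocalAtSource @Etale _ _ q hqi
  let U : Over S := Over.mk (q ≫ U₀.hom)
  let q' : U ⟶ U₀ := Over.homMk q rfl
  let p := (yon S).map q' ≫ p₀
  have pe : RepWith @Etale p := repWith_comp ((repWith_yon_map_iff _ q').2 ‹_›) pe₀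
  have ps : RepWith @Surjective p := repWith_comp ((repWith_yon_map_iff _ q').2 hq) ps₀
  have hUa : IsAffine U.left := hY
  obtain ⟨R, fst, t', sq⟩ := exists_isPullback_of_representable pe.1 p
  obtain ⟨t, rfl⟩ := (yon S).map_surjective fst
  let h : U ⟶ Z := (yon S).preimage (p ≫ s)
  have hh : p ≫ s = (yon S).map h := ((yon S).map_preimage _).symm
  have hth : t ≫ h = t' ≫ h := (yon S).map_injective (by
    rw [Functor.map_comp, Functor.map_comp, ← hh, sq.w_assoc])
  have sqQ := IsPullback.of_hasPullback h h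
  have sqk := isPullback_kernelPairDiagonal s sq hh sqQ (sqQ.lift_fst t t' hth) (sqQ.lift_snd t t' hth)
  have : IsClosedImmersion (sqQ.lift t t' hth).left := hsep.2 _ _ _ sqk
  have : IsAffineHom h.left := isAffineHom_of_isAffine h.left
  have : IsAffine (pullback h h).left := by
    have sql := isPullback_left sqQ
    have : IsAffineHom (pullback.fst h h).left := MorphismProperty.of_isPullback sql.flip inferInstance
    exact isAffine_of_isAffineHom (pullback.fst h h).left
  exact ⟨U, R, p, t, t', hUa, isAffine_of_isAffineHom (sqQ.lift t t' hth).left, pe, ps, sq⟩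

section FlatBase

variable {A A' C D : Type u} [CommRing A] [CommRing A'] [CommRing C] [CommRing D] [Algebra A A']
  [Algebra A C] [Algebra A D] [Module.Flat A A'] (α β : C →ₐ[A] D)

/-- Flat base change of an equalizer of rings. -/
theorem exists_of_map_eq {y : A' ⊗[A] C}
    (hy : Algebra.TensorProduct.map (AlgHom.id A A') α y = Algebra.TensorProduct.map (AlgHom.id A A') β y) :
    ∃ x, Algebra.TensorProduct.map (AlgHom.id A A') (AlgHom.equalizer α β).val x = y :=
  ⟨(AlgHom.tensorEqualizerEquiv A A' α β).symm ⟨y, hy⟩, by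
    rw [← AlgHom.coe_tensorEqualizer, ← AlgHom.tensorEqualizerEquiv_apply, AlgEquiv.apply_symm_apply]⟩

theorem injective_map_equalizer :
    Function.Injective (Algebra.TensorProduct.map (AlgHom.id A A') (AlgHom.equalizer α β).val) := by
  intro x y h
  apply (AlgHom.tensorEqualizerEquiv A A' α β).injective
  apply Subtype.ext
  rwa [AlgHom.tensorEqualizerEquiv_apply, AlgHom.tensorEqualizerEquiv_apply, AlgHom.coe_tensorEqualizer,
    AlgHom.coe_tensorEqualizer]

end FlatBase

/-- A scheme mapping to `Spec B'` with the universal property of the affine hull. -/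
theorem isOpenImmersion_of_affineHull {Q : Scheme.{u}} [Q.IsQuasiAffine] {B C : CommRingCat.{u}}
    (φ : Q ⟶ Spec B) (p : Spec C ⟶ Q) (ι : B ⟶ C) (hι : Function.Injective ι) (hp : p ≫ φ = Spec.map ι)
    (h : ∃ ψ : Spec B ⟶ Spec Γ(Q, ⊤), φ ≫ ψ = Q.toSpecΓ) : IsOpenImmersion φ := by
  obtain ⟨ψ, hψ⟩ := h
  let χ : Spec Γ(Q, ⊤) ⟶ Spec B := Spec.map φ.appTop ≫ (Spec B).isoSpec.inv
  have hχ : Q.toSpecΓ ≫ χ = φ := by
    rw [← Category.assoc, ← Scheme.toSpecΓ_naturality, Category.assoc]
    simp [Scheme.isoSpec]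
  have h₁ : χ ≫ ψ = 𝟙 _ := by
    apply ext_of_isAffine
    have : IsIso Q.toSpecΓ.appTop := by rw [Scheme.toSpecΓ_appTop]; infer_instance
    rw [← cancel_mono Q.toSpecΓ.appTop, ← Scheme.Hom.comp_appTop, ← Scheme.Hom.comp_appTop,
      ← Category.assoc, hχ, hψ, Category.comp_id]
  have h₂ : ψ ≫ χ = 𝟙 _ := by
    obtain ⟨m, hm⟩ := Spec.map_surjective (ψ ≫ χ)
    have e : Spec.map ι ≫ Spec.map m = Spec.map ι := by
      rw [hm, ← hp, Category.assoc, reassoc_of% hψ, hχ]
    rw [← hm, ← Spec.map_id]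
    congr 1
    rw [← Spec.map_comp] at e
    have e' := Spec.map_injective e
    exact CommRingCat.hom_ext (RingHom.ext fun x => hι (ConcreteCategory.congr_hom e' x))
  have : IsIso χ := ⟨ψ, h₁, h₂⟩
  rw [← hχ]
  infer_instance

/-- An algebraic space over an affine scheme admits a map to an affine scheme which is an open
immersion after every flat affine base change making it quasi-affine. -/
theorem exists_affineHull_spec {P : Sp S} {A C D : CommRingCat.{u}} {sA : Spec A ⟶ S}
    (φA : A ⟶ C) (α β : C ⟶ D) (hαβ : φA ≫ α = φA ≫ β) (s : P ⟶ (yon S).obj (Over.mk sA))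
    (p : (yon S).obj (Over.mk (Spec.map φA ≫ sA)) ⟶ P) (pe : RepWith @Etale p) (ps : RepWith @Surjective p)
    (hp : p ≫ s = (yon S).map (Over.homMk (Spec.map φA) rfl))
    (t t' : Over.mk (Spec.map (φA ≫ α) ≫ sA) ⟶ Over.mk (Spec.map φA ≫ sA))
    (ht : t.left = Spec.map α) (ht' : t'.left = Spec.map β)
    (sq : IsPullback ((yon S).map t) ((yon S).map t') p p) :
    ∃ (B : Over S) (φ : P ⟶ (yon S).obj B) (b : B ⟶ Over.mk sA), IsAffine B.left ∧ φ ≫ (yon S).map b = s ∧
      ∀ (W : Over S) (c : W ⟶ Over.mk sA), IsAffine W.left → Flat c.left →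
        ∀ (Q : Over S) (fst : (yon S).obj Q ⟶ P) (w : Q ⟶ W), IsPullback fst ((yon S).map w) s ((yon S).map c) →
          Q.left.IsQuasiAffine →
          RepWith @IsOpenImmersion (pullback.snd φ ((yon S).map (pullback.fst b c))) := by
  have : Sheaf.IsLocallySurjective p := isLocallySurjective_of_repWith
    (repWith_mono pe fun _ _ g (_ : Etale g) => inferInstance)
    (repWith_mono pe fun _ _ g (_ : Etale g) => inferInstance) ps
  let _ : Algebra A C := φA.hom.toAlgebra
  let _ : Algebra A D := (φA ≫ α).hom.toAlgebra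
  let aα : C →ₐ[A] D := { α.hom with commutes' := fun _ => rfl }
  let aβ : C →ₐ[A] D := { β.hom with commutes' := fun r => (ConcreteCategory.congr_hom hαβ r).symm }
  let B₀ := AlgHom.equalizer aα aβ
  let bA : A ⟶ .of B₀ := CommRingCat.ofHom (algebraMap A B₀)
  let ιB : CommRingCat.of B₀ ⟶ C := CommRingCat.ofHom B₀.val.toRingHom
  have hbι : bA ≫ ιB = φA := CommRingCat.hom_ext (RingHom.ext fun x => rfl)
  let U : Over S := Over.mk (Spec.map φA ≫ sA)
  let B : Over S := Over.mk (Spec.map bA ≫ sA)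
  let b : B ⟶ Over.mk sA := Over.homMk (Spec.map bA) rfl
  let q : U ⟶ B := Over.homMk (Spec.map ιB) (by
    change Spec.map ιB ≫ Spec.map bA ≫ sA = _
    rw [← Category.assoc, ← Spec.map_comp, hbι]
    rfl)
  have hq : t ≫ q = t' ≫ q := Over.OverMorphism.ext (by
    change t.left ≫ Spec.map ιB = t'.left ≫ Spec.map ιB
    rw [ht, ht', ← Spec.map_comp, ← Spec.map_comp]
    congr 1
    exact CommRingCat.hom_ext (RingHom.ext fun x => x.2))
  have := IsRegularEpiCategory.regularEpiOfEpi p
  obtain ⟨φ, hφ⟩ := IsRegularEpi.exists_of_isKernelPair p sq ((yon S).map q)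
    (by rw [← Functor.map_comp, ← Functor.map_comp, hq])
  have hqb : q ≫ b = Over.homMk (U := U) (V := Over.mk sA) (Spec.map φA) rfl := Over.OverMorphism.ext (by
    change Spec.map ιB ≫ Spec.map bA = _
    rw [← Spec.map_comp, hbι]
    rfl)
  refine ⟨B, φ, b, isAffine_Spec _, (cancel_epi p).1 (by
    rw [hp, ← Category.assoc, hφ, ← Functor.map_comp, hqb]), fun W c hW hc Q fst w sqQ hQ => ?_⟩
  have hs : φ ≫ (yon S).map b = s := (cancel_epi p).1 (by
    rw [hp, ← Category.assoc, hφ, ← Functor.map_comp, hqb])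
  -- the base of the base change
  let A' : CommRingCat.{u} := Γ(W.left, ⊤)
  obtain ⟨a, ha⟩ : ∃ a : A ⟶ A', Spec.map a = W.left.isoSpec.inv ≫ c.left := Spec.map_surjective _
  let _ : Algebra A A' := a.hom.toAlgebra
  have : Module.Flat A A' := by
    have hf : a.hom.Flat := by
      rw [← HasRingHomProperty.Spec_iff (P := @Flat), ha]
      infer_instance
    exact hf
  let C' : CommRingCat.{u} := .of (A' ⊗[A] C)
  let D' : CommRingCat.{u} := .of (A' ⊗[A] D)
  let B' : CommRingCat.{u} := .of (A' ⊗[A] B₀)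
  let ι' : B' ⟶ C' := CommRingCat.ofHom (Algebra.TensorProduct.map (AlgHom.id A A') B₀.val).toRingHom
  let α' : C' ⟶ D' := CommRingCat.ofHom (Algebra.TensorProduct.map (AlgHom.id A A') aα).toRingHom
  let β' : C' ⟶ D' := CommRingCat.ofHom (Algebra.TensorProduct.map (AlgHom.id A A') aβ).toRingHom
  let lB : A' ⟶ B' := CommRingCat.ofHom Algebra.TensorProduct.includeLeftRingHom
  let rB : CommRingCat.of B₀ ⟶ B' :=
    CommRingCat.ofHom (Algebra.TensorProduct.includeRight : B₀ →ₐ[A] A' ⊗[A] B₀).toRingHom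
  -- `B ×_Z W`
  have sqB₀ : IsPullback (Spec.map rB) (Spec.map lB ≫ W.left.isoSpec.inv) b.left c.left := by
    have h₁ : IsPullback (Spec.map rB) (Spec.map lB) (Spec.map bA) (Spec.map a) :=
      (isPullback_SpecMap_of_isPushout _ _ _ _ (CommRingCat.isPushout_tensorProduct A A' B₀)).flip
    refine h₁.of_iso (Iso.refl _) (Iso.refl _) W.left.isoSpec.symm (Iso.refl _) ?_ ?_ ?_ ?_
    · simp
    · simp
    · simp [b]
    · simp [ha]
  let T' : Over S := Over.mk (Spec.map rB ≫ B.hom)
  let rT : T' ⟶ B := Over.homMk (Spec.map rB) rfl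
  let lT : T' ⟶ W := Over.homMk (Spec.map lB ≫ W.left.isoSpec.inv) (by
    change (Spec.map lB ≫ W.left.isoSpec.inv) ≫ W.hom = Spec.map rB ≫ Spec.map bA ≫ sA
    rw [← Over.w c, ← Category.assoc, ← sqB₀.w, Category.assoc]
    rfl)
  have sqB : IsPullback rT lT b c :=
    IsPullback.of_map (Over.forget S) (Over.OverMorphism.ext sqB₀.w) sqB₀
  -- the base changed map
  let φ' : Q ⟶ T' := sqB.lift ((yon S).preimage (fst ≫ φ)) w ((yon S).map_injective (by
    rw [Functor.map_comp, Functor.map_comp, Functor.map_preimage, Category.assoc, hs, sqQ.w]))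
  have hφ₁ : (yon S).map φ' ≫ (yon S).map rT = fst ≫ φ := by
    rw [← Functor.map_comp, sqB.lift_fst, Functor.map_preimage]
  have sqφ : IsPullback fst ((yon S).map φ') φ ((yon S).map rT) := by
    refine IsPullback.of_bot ?_ hφ₁.symm (isPullback_yon sqB)
    rw [hs, ← Functor.map_comp, sqB.lift_snd]
    exact sqQ
  -- the atlas of `Q`
  let rC : C ⟶ C' := CommRingCat.ofHom (Algebra.TensorProduct.includeRight : C →ₐ[A] A' ⊗[A] C).toRingHom
  have hrι : rB ≫ ι' = ιB ≫ rC := CommRingCat.hom_ext (RingHom.ext fun x => Algebra.TensorProduct.map_tmul _ _ _ _)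
  let U' : Over S := Over.mk (Spec.map rC ≫ U.hom)
  let rU : U' ⟶ U := Over.homMk (Spec.map rC) rfl
  let q' : U' ⟶ T' := Over.homMk (Spec.map ι') (by
    change Spec.map ι' ≫ Spec.map rB ≫ B.hom = Spec.map rC ≫ U.hom
    rw [← Category.assoc, ← Spec.map_comp, hrι, Spec.map_comp, Category.assoc, ← Over.w q]
    rfl)
  have hq' : q' ≫ rT = rU ≫ q := Over.OverMorphism.ext (by
    change Spec.map ι' ≫ Spec.map rB = Spec.map rC ≫ Spec.map ιB
    rw [← Spec.map_comp, ← Spec.map_comp, hrι])
  obtain ⟨p', hp'⟩ := (yon S).map_surjective (sqφ.lift ((yon S).map rU ≫ p) ((yon S).map q') (by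
    rw [Category.assoc, hφ, ← Functor.map_comp, ← Functor.map_comp, hq']))
  have hp₁ : (yon S).map p' ≫ fst = (yon S).map rU ≫ p := by rw [hp', sqφ.lift_fst]
  have hp₂ : p' ≫ φ' = q' := (yon S).map_injective (by rw [Functor.map_comp, hp', sqφ.lift_snd])
  suffices hopen : IsOpenImmersion φ'.left by
    have e := (IsPullback.of_hasPullback b c).isoIsPullback _ _ sqB
    have hr : RepWith @IsOpenImmersion ((yon S).map φ') := (repWith_yon_map_iff _ _).2 hopen
    have he : ((yon S).mapIso ((IsPullback.of_hasPullback b c).isoIsPullback _ _ sqB)).hom ≫ (yon S).map rT =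
        (yon S).map (pullback.fst b c) := by
      simp [← Functor.map_comp]
    have sq'' : IsPullback fst ((yon S).map φ' ≫
        ((yon S).mapIso ((IsPullback.of_hasPullback b c).isoIsPullback _ _ sqB)).inv) φ
        ((yon S).map (pullback.fst b c)) :=
      sqφ.of_iso (Iso.refl _) (Iso.refl _)
        ((yon S).mapIso ((IsPullback.of_hasPullback b c).isoIsPullback _ _ sqB)).symm (Iso.refl _)
        (by simp) (by simp) (by simp) (by simp [← he])
    rw [← sq''.isoPullback_inv_snd]
    exact repWith_comp (repWith_iso _) (repWith_comp hr (repWith_iso _))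
  refine isOpenImmersion_of_affineHull φ'.left p'.left ι' (injective_map_equalizer aα aβ)
    (congrArg (·.left) hp₂) ?_
  -- the two pullbacks to `R'` agree
  let rD : D ⟶ D' := CommRingCat.ofHom (Algebra.TensorProduct.includeRight : D →ₐ[A] A' ⊗[A] D).toRingHom
  let R : Over S := Over.mk (Spec.map (φA ≫ α) ≫ sA)
  let R' : Over S := Over.mk (Spec.map rD ≫ R.hom)
  let rR : R' ⟶ R := Over.homMk (Spec.map rD) rfl
  have hα : rC ≫ α' = α ≫ rD := CommRingCat.hom_ext (RingHom.ext fun x => Algebra.TensorProduct.map_tmul _ _ _ _)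
  have hβ : rC ≫ β' = β ≫ rD := CommRingCat.hom_ext (RingHom.ext fun x => Algebra.TensorProduct.map_tmul _ _ _ _)
  let t₁ : R' ⟶ U' := Over.homMk (Spec.map α') (by
    change Spec.map α' ≫ Spec.map rC ≫ U.hom = Spec.map rD ≫ R.hom
    rw [← Category.assoc, ← Spec.map_comp, hα, Spec.map_comp, Category.assoc, ← Over.w t, ht])
  let t₂ : R' ⟶ U' := Over.homMk (Spec.map β') (by
    change Spec.map β' ≫ Spec.map rC ≫ U.hom = Spec.map rD ≫ R.hom
    rw [← Category.assoc, ← Spec.map_comp, hβ, Spec.map_comp, Category.assoc, ← Over.w t', ht'])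
  have h₁ : t₁ ≫ rU = rR ≫ t := Over.OverMorphism.ext (by
    change Spec.map α' ≫ Spec.map rC = Spec.map rD ≫ t.left
    rw [ht, ← Spec.map_comp, ← Spec.map_comp, hα])
  have h₂ : t₂ ≫ rU = rR ≫ t' := Over.OverMorphism.ext (by
    change Spec.map β' ≫ Spec.map rC = Spec.map rD ≫ t'.left
    rw [ht', ← Spec.map_comp, ← Spec.map_comp, hβ])
  let lC : A' ⟶ C' := CommRingCat.ofHom Algebra.TensorProduct.includeLeftRingHom
  have h₃ : t₁ ≫ q' ≫ lT = t₂ ≫ q' ≫ lT := Over.OverMorphism.ext (by
    change Spec.map α' ≫ Spec.map ι' ≫ Spec.map lB ≫ _ = Spec.map β' ≫ Spec.map ι' ≫ Spec.map lB ≫ _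
    simp only [← Spec.map_comp_assoc]
    congr 2
    refine CommRingCat.hom_ext (RingHom.ext fun x => ?_)
    change Algebra.TensorProduct.map _ aα (Algebra.TensorProduct.map _ B₀.val (x ⊗ₜ 1)) =
      Algebra.TensorProduct.map _ aβ (Algebra.TensorProduct.map _ B₀.val (x ⊗ₜ 1))
    rw [Algebra.TensorProduct.map_tmul, Algebra.TensorProduct.map_tmul, Algebra.TensorProduct.map_tmul,
      map_one B₀.val, map_one aα, map_one aβ])
  have hpp : t₁ ≫ p' = t₂ ≫ p' := (yon S).map_injective (sqQ.hom_ext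
    (by
      simp only [Functor.map_comp, Category.assoc, hp₁]
      rw [← Functor.map_comp_assoc, ← Functor.map_comp_assoc, h₁, h₂, Functor.map_comp_assoc,
        Functor.map_comp_assoc, sq.w])
    (by
      rw [← Functor.map_comp, ← Functor.map_comp, Category.assoc, Category.assoc,
        show p' ≫ w = q' ≫ lT by rw [← hp₂, Category.assoc, sqB.lift_snd], h₃]))
  have hpl : Spec.map α' ≫ p'.left = Spec.map β' ≫ p'.left := by
    have h4 : (t₁ ≫ p').left = (t₂ ≫ p').left := by rw [hpp]
    rwa [Over.comp_left, Over.comp_left] at h4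
  obtain ⟨κ, hκ⟩ : ∃ κ : Γ(Q.left, ⊤) ⟶ C', Spec.map κ = p'.left ≫ Q.left.toSpecΓ :=
    Spec.map_surjective _
  have hκe : κ ≫ α' = κ ≫ β' := Spec.map_injective (by
    rw [Spec.map_comp, Spec.map_comp, hκ, reassoc_of% hpl])
  choose g hg using fun x => exists_of_map_eq (A' := A') aα aβ (y := κ x) (ConcreteCategory.congr_hom hκe x)
  have inj := injective_map_equalizer (A' := A') aα aβ
  let g' : Γ(Q.left, ⊤) ⟶ B' := CommRingCat.ofHom
    { toFun := g
      map_one' := inj (by rw [hg, map_one, map_one])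
      map_zero' := inj (by rw [hg, map_zero, map_zero])
      map_add' := fun x y => inj (by rw [hg, map_add, map_add, hg, hg])
      map_mul' := fun x y => inj (by rw [hg, map_mul, map_mul, hg, hg]) }
  refine ⟨Spec.map g', ?_⟩
  have hg' : g' ≫ ι' = κ := CommRingCat.hom_ext (RingHom.ext hg)
  -- `p'` is an epimorphism
  have sqp : IsPullback ((yon S).map rU) ((yon S).map p') p fst := by
    have sq₁ : IsPullback rU (q' ≫ lT) (q ≫ b) c := by
      refine IsPullback.of_map (Over.forget S) ?_ ?_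
      · rw [Category.assoc, ← sqB.w, reassoc_of% hq']
      · have h₁ : IsPullback (Spec.map rC) (Spec.map lC) (Spec.map φA) (Spec.map a) :=
          (isPullback_SpecMap_of_isPushout _ _ _ _ (CommRingCat.isPushout_tensorProduct A A' C)).flip
        refine h₁.of_iso (Iso.refl _) (Iso.refl _) W.left.isoSpec.symm (Iso.refl _) ?_ ?_ ?_ ?_
        · simp [rU]
        · simp only [Iso.refl_hom, Category.id_comp, Iso.symm_hom]
          change Spec.map lC ≫ _ = Spec.map ι' ≫ Spec.map lB ≫ _
          rw [← Spec.map_comp_assoc]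
          congr 2
        · rw [hqb]; simp
        · simp [ha]
    refine IsPullback.of_bot ?_ hp₁.symm sqQ
    rw [hp, ← hqb, ← Functor.map_comp, ← show q' ≫ lT = p' ≫ w by rw [← hp₂, Category.assoc, sqB.lift_snd]]
    exact isPullback_yon sq₁
  have pe' : Etale p'.left := (repWith_yon_map_iff _ p').1 (repWith_of_isPullback sqp pe)
  have ps' : Surjective p'.left := (repWith_yon_map_iff _ p').1 (repWith_of_isPullback sqp ps)
  have : Epi p'.left := Flat.epi_of_flat_of_surjective _
  have hq'' : p'.left ≫ φ'.left = Spec.map ι' := by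
    have h5 : (p' ≫ φ').left = q'.left := by rw [hp₂]
    rwa [Over.comp_left] at h5
  rw [← cancel_epi p'.left]
  calc p'.left ≫ φ'.left ≫ Spec.map g' = Spec.map ι' ≫ Spec.map g' := by rw [reassoc_of% hq'']
    _ = _ := by rw [← Spec.map_comp, hg', hκ]


/-- The affine hull of a quasi-compact separated algebraic space over an affine scheme. -/
theorem exists_affineHull {P : Sp S} (hP : IsAlgSpace P) {Z : Over S} [IsAffine Z.left]
    (s : P ⟶ (yon S).obj Z) (hqc : IsQuasiCompactMor s) (hsep : IsSeparatedMor s) :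
    ∃ (B : Over S) (φ : P ⟶ (yon S).obj B) (b : B ⟶ Z), IsAffine B.left ∧ φ ≫ (yon S).map b = s ∧
      ∀ (W : Over S) (c : W ⟶ Z), IsAffine W.left → Flat c.left →
        ∀ (Q : Over S) (fst : (yon S).obj Q ⟶ P) (w : Q ⟶ W), IsPullback fst ((yon S).map w) s ((yon S).map c) →
          Q.left.IsQuasiAffine →
          RepWith @IsOpenImmersion (pullback.snd φ ((yon S).map (pullback.fst b c))) := by
  obtain ⟨U, R, p, t, t', hU, hR, pe, ps, sq⟩ := exists_affine_atlas_separated hP s hqc hsep
  let h : U ⟶ Z := (yon S).preimage (p ≫ s)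
  have hh : p ≫ s = (yon S).map h := ((yon S).map_preimage _).symm
  have hth : t ≫ h = t' ≫ h := (yon S).map_injective (by
    rw [Functor.map_comp, Functor.map_comp, ← hh, sq.w_assoc])
  obtain ⟨φA, hφA⟩ := Spec.map_surjective (U.left.isoSpec.inv ≫ h.left ≫ Z.left.isoSpec.hom)
  obtain ⟨α, hα⟩ := Spec.map_surjective (R.left.isoSpec.inv ≫ t.left ≫ U.left.isoSpec.hom)
  obtain ⟨β, hβ⟩ := Spec.map_surjective (R.left.isoSpec.inv ≫ t'.left ≫ U.left.isoSpec.hom)
  have hl : t.left ≫ h.left = t'.left ≫ h.left := by rw [← Over.comp_left, hth, Over.comp_left]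
  have hαβ : φA ≫ α = φA ≫ β := Spec.map_injective (by simp [Spec.map_comp, hφA, hα, hβ, reassoc_of% hl])
  let sA : Spec Γ(Z.left, ⊤) ⟶ S := Z.left.isoSpec.inv ≫ Z.hom
  let eZ : Over.mk sA ≅ Z := Over.isoMk Z.left.isoSpec.symm rfl
  let eU : Over.mk (Spec.map φA ≫ sA) ≅ U := Over.isoMk U.left.isoSpec.symm (by simp [sA, hφA])
  let eR : Over.mk (Spec.map (φA ≫ α) ≫ sA) ≅ R := Over.isoMk R.left.isoSpec.symm (by
    simp [sA, Spec.map_comp, hφA, hα])
  have key := exists_affineHull_spec φA α β hαβ (s ≫ (yon S).map eZ.inv) ((yon S).map eU.hom ≫ p)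
    (repWith_comp (repWith_iso _) pe) (repWith_comp (repWith_iso _) ps)
    (by
      rw [Category.assoc, reassoc_of% hh, ← Functor.map_comp, ← Functor.map_comp]
      congr 1
      exact Over.OverMorphism.ext (by simp [eU, eZ, hφA]))
    (eR.hom ≫ t ≫ eU.inv) (eR.hom ≫ t' ≫ eU.inv) (by simp [eU, eR, hα]) (by simp [eU, eR, hβ])
    (sq.of_iso ((yon S).mapIso eR.symm) ((yon S).mapIso eU.symm) ((yon S).mapIso eU.symm) (Iso.refl _)
      (by simp [← Functor.map_comp]) (by simp [← Functor.map_comp]) (by simp [← Functor.map_comp_assoc])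
      (by simp [← Functor.map_comp_assoc]))
  obtain ⟨B, φ, b, hB, hb, H⟩ := key
  refine ⟨B, φ, b ≫ eZ.hom, hB, by rw [Functor.map_comp, reassoc_of% hb, ← Functor.map_comp, Iso.inv_hom_id,
    CategoryTheory.Functor.map_id, Category.comp_id], fun W c hW hc Q fst w sqQ hQ => ?_⟩
  have hc' : Flat (c ≫ eZ.inv).left := by
    rw [Over.comp_left]
    infer_instance
  have h₁ := H W (c ≫ eZ.inv) hW hc' Q fst w (sqQ.of_iso (Iso.refl _) (Iso.refl _) (Iso.refl _)
    ((yon S).mapIso eZ.symm) (by simp) (by simp) (by simp) (by simp)) hQ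
  let e := (IsPullback.of_hasPullback (b ≫ eZ.hom) c).lift
    (pullback.fst b (c ≫ eZ.inv)) (pullback.snd b (c ≫ eZ.inv)) (by simp [pullback.condition_assoc])
  let e' := (IsPullback.of_hasPullback b (c ≫ eZ.inv)).lift
    (pullback.fst (b ≫ eZ.hom) c) (pullback.snd (b ≫ eZ.hom) c) (by rw [← cancel_mono eZ.hom]; simp [pullback.condition])
  have he : e' ≫ pullback.fst b (c ≫ eZ.inv) = pullback.fst (b ≫ eZ.hom) c := IsPullback.lift_fst _ _ _ _
  have hp := (IsPullback.of_hasPullback φ ((yon S).map (pullback.fst (b ≫ eZ.hom) c)))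
  rw [← he, Functor.map_comp] at hp ⊢
  exact repWith_of_factor h₁ hp

theorem repWith_qc_sep_of_isQuasiAffineMor {X Y : Sp S} {f : X ⟶ Y} (h : IsQuasiAffineMor f) :
    RepWith (@QuasiCompact ⊓ @IsSeparated) f :=
  repWith_of_forall_affine fun Z hZ g => by
    obtain ⟨W, i, fst, sq, hW⟩ := h hZ g
    exact ⟨W, i, fst, sq, inferInstanceAs (QuasiCompact i.left), inferInstanceAs (IsSeparated i.left)⟩

theorem baseChanges_quasiAffine : BaseChanges (S := S) IsQuasiAffineMor := by
  intro X Y X' Y' _ _ _ _ f g fst snd sq h Z hZ k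
  obtain ⟨W, i, a, sqW, hW⟩ := h hZ (k ≫ g)
  exact ⟨W, i, sq.lift a ((yon S).map i ≫ k) (by rw [Category.assoc, sqW.w]),
    IsPullback.of_right (by rw [sq.lift_fst]; exact sqW.flip.flip) (sq.lift_snd _ _ _) sq, hW⟩

/-- Quasi-affine morphisms descend along fpqc coverings of the base. -/
theorem isQuasiAffineMor_of_fpqcLoc {X Y : Sp S} (hX : IsAlgSpace X) (hY : IsAlgSpace Y) {f : X ⟶ Y}
    (h : FpqcLoc IsQuasiAffineMor f) : IsQuasiAffineMor f := by
  have hqc : IsQuasiCompactMor f := isQuasiCompactMor_of_fpqcLoc hX hY (h.mono hX hY fun _ _ _ _ hs =>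
    isQuasiCompactMor_of_repWith (repWith_mono (repWith_qc_sep_of_isQuasiAffineMor hs) fun _ _ _ h => h.1))
  have hsep : IsSeparatedMor f := isSeparatedMor_of_fpqcLoc hX (h.mono hX hY fun _ _ _ _ hs =>
    (isSeparatedMor_iff_repWith (repWith_qc_sep_of_isQuasiAffineMor hs).1).2
      (repWith_mono (repWith_qc_sep_of_isQuasiAffineMor hs) fun _ _ _ h => h.2))
  intro Z hZ g
  obtain ⟨m, W, c, hW, hc, hcov, hl⟩ := h Z hZ g
  have sqP := IsPullback.of_hasPullback f g
  have hP : IsAlgSpace (pullback f g) := isAlgSpace_pullback' hY hX (IsAlgSpace.yon_obj Z) f g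
  have hsqc : IsQuasiCompactMor (pullback.snd f g) :=
    baseChanges_quasiCompact hX hY hP (IsAlgSpace.yon_obj Z) sqP hqc
  have hssep : IsSeparatedMor (pullback.snd f g) :=
    baseChanges_diagonal _ hX hY hP (IsAlgSpace.yon_obj Z) sqP hsep
  obtain ⟨B, φ, b, hB, hb, H⟩ := exists_affineHull hP (pullback.snd f g) hsqc hssep
  have hopen : ∀ j, RepWith @IsOpenImmersion (pullback.snd φ ((yon S).map (pullback.fst b (c j)))) := fun j => by
    have sqj := IsPullback.of_hasPullback (pullback.snd f g) ((yon S).map (c j))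
    obtain ⟨Q, i, fst, sqQ, hQ⟩ := hl j _ _ _ (sqj.paste_horiz sqP) (hW j) (𝟙 _)
    have sq' := sqQ.paste_horiz sqj
    rw [Category.id_comp] at sq'
    exact H (W j) (c j) (hW j) (hc j) Q _ i sq' hQ
  have hφ : RepWith @IsOpenImmersion φ := by
    refine repWith_isOpenImmersion_of_fpqcLoc hP (IsAlgSpace.yon_obj B) fun Z' hZ' k => ?_
    obtain ⟨k, rfl⟩ := (yon S).map_surjective k
    refine ⟨m, fun j => pullback (k ≫ b) (c j), fun j => pullback.fst _ _, fun j => ?_, fun j => ?_, fun z => ?_,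
      fun j P' a s' sq' => ?_⟩
    · haveI := hW j
      have sql := isPullback_left (IsPullback.of_hasPullback (k ≫ b) (c j))
      have : IsAffineHom (c j).left := isAffineHom_of_isAffine _
      have : IsAffineHom (pullback.fst (k ≫ b) (c j)).left := MorphismProperty.of_isPullback sql.flip inferInstance
      exact isAffine_of_isAffineHom (pullback.fst (k ≫ b) (c j)).left
    · exact MorphismProperty.of_isPullback (isPullback_left (IsPullback.of_hasPullback (k ≫ b) (c j))).flip (hc j)
    · obtain ⟨j, w, hw⟩ := hcov ((k ≫ b).left z)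
      obtain ⟨a, ha, -⟩ := Scheme.exists_preimage_of_isPullback
        (isPullback_left (IsPullback.of_hasPullback (k ≫ b) (c j))) z w hw.symm
      exact ⟨j, a, ha⟩
    · let l : pullback (k ≫ b) (c j) ⟶ pullback b (c j) :=
        pullback.lift (pullback.fst _ _ ≫ k) (pullback.snd _ _) (by rw [Category.assoc, pullback.condition])
      have e : pullback.fst (k ≫ b) (c j) ≫ k = l ≫ pullback.fst b (c j) := (pullback.lift_fst _ _ _).symm
      rw [← Functor.map_comp, e, Functor.map_comp] at sq'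
      exact repWith_of_factor (hopen j) sq'
  obtain ⟨V, fst, snd, sqV⟩ := exists_isPullback_of_representable hφ.1 (𝟙 ((yon S).obj B))
  have : IsIso fst := sqV.isIso_fst_of_isIso
  have : IsOpenImmersion snd.left := hφ.2 _ _ _ sqV
  have : CompactSpace V.left := compactSpace_of_isQuasiCompactSp_yon V
    (isQuasiCompactSp_of_iso (hsqc (IsAlgSpace.yon_obj Z) (isQuasiCompactSp_yon Z) (𝟙 _) (𝟙 _) _
      IsPullback.of_id_fst) (asIso fst).symm)
  refine ⟨V, snd ≫ b, fst ≫ pullback.fst f g, ?_, Scheme.IsQuasiAffine.of_isImmersion snd.left⟩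
  refine sqP.of_iso (asIso fst).symm (Iso.refl _) (Iso.refl _) (Iso.refl _) (by simp) ?_ (by simp) (by simp)
  rw [← cancel_epi fst]
  simp [← reassoc_of% sqV.w, hb]

theorem representable_of_fpqcLoc_quasiAffine {X Y : Sp S} (hX : IsAlgSpace X) (hY : IsAlgSpace Y) {f : X ⟶ Y}
    (h : FpqcLoc IsQuasiAffineMor f) : Representable f :=
  (repWith_qc_sep_of_isQuasiAffineMor (isQuasiAffineMor_of_fpqcLoc hX hY h)).1

/-- Properties of affine morphisms descend along fpqc coverings. -/
theorem repWith_of_fpqcLoc_affine {P : MorphismProperty Scheme.{u}} [IsZariskiLocalAtTarget P]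
    [P.IsStableUnderBaseChange] [P.DescendsAlong (@Surjective ⊓ @Flat ⊓ @QuasiCompact)]
    (hP : ∀ ⦃A B : Scheme.{u}⦄ (k : A ⟶ B), P k → IsAffineHom k) {X Y : Sp S} (hX : IsAlgSpace X)
    (hY : IsAlgSpace Y) {f : X ⟶ Y} (h : FpqcLoc (RepWith P) f) : RepWith P f := by
  refine repWith_of_fpqcLoc (representable_of_fpqcLoc_quasiAffine hX hY (h.mono hX hY fun _ _ s _ hs => ?_)) h
  intro Z hZ g
  obtain ⟨W, i, fst, sq, hW⟩ := isAffineMor_iff.2 (repWith_mono hs hP) hZ g
  exact ⟨W, i, fst, sq, inferInstance⟩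

theorem finLocFree_eq : finLocFree.{u} =
    min (α := MorphismProperty Scheme.{u}) @IsFinite
      (min (α := MorphismProperty Scheme.{u}) @Flat @LocallyOfFinitePresentation) :=
  rfl

instance descendsAlong_finLocFree :
    MorphismProperty.DescendsAlong finLocFree.{u} (@Surjective ⊓ @Flat ⊓ @QuasiCompact) := by
  have := descendsAlong_flat_fpqc.{u}
  rw [finLocFree_eq]
  infer_instance

instance isZariskiLocalAtTarget_finLocFree : IsZariskiLocalAtTarget finLocFree.{u} := by
  rw [finLocFree_eq]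
  infer_instance

end GrothLib.AlgSp
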