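import Mathlib.AlgebraicGeometry.QuasiAffine
import Mathlib.AlgebraicGeometry.Morphisms.QuasiSeparated
import Groth.Agent.Lib.AlgSp.ImmersionDescent

/-!
# Effective fppf descent of quasi-affine schemes
-/

universe u

open CategoryTheory CategoryTheory.Limits AlgebraicGeometry Opposite TensorProduct

namespace GrothLib.AlgSp

/-- The map on global sections given by a morphism to an affine scheme. -/
noncomputable def gammaMap {A : CommRingCat.{u}} {X : Scheme.{u}} (f : X ⟶ Spec A) : A ⟶ Γ(X, ⊤) :=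
  (Scheme.ΓSpecIso A).inv ≫ f.appTop

theorem gammaMap_comp {A : CommRingCat.{u}} {X Y : Scheme.{u}} (g : X ⟶ Y) (f : Y ⟶ Spec A) :
    gammaMap (g ≫ f) = gammaMap f ≫ g.appTop := by
  simp [gammaMap, Scheme.Hom.comp_appTop]

theorem gammaMap_comp_SpecMap {A B : CommRingCat.{u}} {X : Scheme.{u}} (g : X ⟶ Spec B) (φ : A ⟶ B) :
    gammaMap (g ≫ Spec.map φ) = φ ≫ gammaMap g := by
  simp [gammaMap, Scheme.Hom.comp_appTop]

theorem toSpecΓ_gammaMap {A : CommRingCat.{u}} {X : Scheme.{u}} (f : X ⟶ Spec A) :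
    X.toSpecΓ ≫ Spec.map (gammaMap f) = f := by
  rw [gammaMap, Spec.map_comp, ← Category.assoc, ← Scheme.toSpecΓ_naturality, Category.assoc,
    toSpecΓ_SpecMap_ΓSpecIso_inv, Category.comp_id]

/-- Flat base change for global sections. -/
theorem isPushout_gammaMap {A B : CommRingCat.{u}} {W Q : Scheme.{u}} [CompactSpace W]
    [QuasiSeparatedSpace W] (φ : A ⟶ B) [Flat (Spec.map φ)] {f : W ⟶ Spec A} {g : Q ⟶ Spec B}
    {p : Q ⟶ W} (sq : IsPullback p g f (Spec.map φ)) :
    IsPushout (gammaMap f) φ p.appTop (gammaMap g) := by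
  have h := (isIso_pushoutSection_iff sq (US := ⊤) (UT := ⊤) (UX := ⊤) (UY := ⊤) (by simp) (by simp)
    (by simp)).1 (isIso_pushoutSection_of_isQuasiSeparated_of_flat_right sq _ _ _ (isAffineOpen_top _)
      (isAffineOpen_top _) isCompact_univ isQuasiSeparated_univ)
  refine h.of_iso (Scheme.ΓSpecIso A) (Iso.refl _) (Scheme.ΓSpecIso B) (Iso.refl _) ?_ ?_ ?_ ?_
  · simp [gammaMap, Scheme.Hom.appTop, Scheme.Hom.appLE]
  · simp [Scheme.Hom.appLE]
  · simp [Scheme.Hom.appTop, Scheme.Hom.appLE]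
  · simp [gammaMap, Scheme.Hom.appTop, Scheme.Hom.appLE]

open _root_.AlgSp

variable {S : Scheme.{u}}

theorem exists_iso_yon_of_isPullback_spec_quasiAffine {G : Sp S} {A B : CommRingCat.{u}} {sT : Spec A ⟶ S}
    {sT' : Spec B ⟶ S} {W : Over S} [W.left.IsQuasiAffine] (a : G ⟶ (yon S).obj (Over.mk sT))
    (c : Over.mk sT' ⟶ Over.mk sT) [Flat c.left] [LocallyOfFinitePresentation c.left] [Surjective c.left]
    (pr : (yon S).obj W ⟶ G) (w : W ⟶ Over.mk sT')
    (sq : IsPullback pr ((yon S).map w) a ((yon S).map c)) :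
    ∃ V : Over S, V.left.IsQuasiAffine ∧ Nonempty ((yon S).obj V ≅ G) := by
  obtain ⟨φ, hφ⟩ : ∃ φ : A ⟶ B, Spec.map φ = c.left := Spec.map_surjective c.left
  have hff : φ.hom.FaithfullyFlat :=
    (flat_and_surjective_SpecMap_iff φ).1 (by rw [hφ]; exact ⟨inferInstance, inferInstance⟩)
  have : Flat (Spec.map φ) := hφ ▸ inferInstance
  let C : CommRingCat.{u} := Γ(W.left, ⊤)
  let χ : B ⟶ C := gammaMap (X := W.left) w.left
  let f : W.left ⟶ Spec A := (w ≫ c).left
  have hf : gammaMap f = φ ≫ χ := by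
    rw [show f = w.left ≫ Spec.map φ by rw [hφ]; rfl]
    exact gammaMap_comp_SpecMap _ _
  let _ : Algebra A B := φ.hom.toAlgebra
  let _ : Algebra A C := (φ ≫ χ).hom.toAlgebra
  have hflat : Module.Flat A B := hff.flat
  let β : B →ₐ[A] C := { χ.hom with commutes' := fun _ => rfl }
  let ι : C →ₐ[A] C ⊗[A] B := Algebra.TensorProduct.includeLeft
  let ρ : B →ₐ[A] C ⊗[A] B := Algebra.TensorProduct.includeRight
  -- the kernel pair
  let sQ : pullback f c.left ⟶ S := pullback.fst f c.left ≫ W.hom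
  let Q : Over S := Over.mk sQ
  let p₁ : Q ⟶ W := Over.homMk (pullback.fst f c.left) rfl
  let p₂ : Q ⟶ Over.mk sT' := Over.homMk (pullback.snd f c.left) (by
    change pullback.snd f c.left ≫ sT' = pullback.fst f c.left ≫ W.hom
    refine (congrArg (pullback.snd f c.left ≫ ·) (Over.w c)).symm.trans ?_
    change pullback.snd f c.left ≫ c.left ≫ sT = _
    rw [← pullback.condition_assoc]
    exact congrArg (pullback.fst f c.left ≫ ·) (Over.w (w ≫ c)))
  have sqQ : IsPullback p₁ p₂ (w ≫ c) c :=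
    IsPullback.of_map (Over.forget S) (Over.OverMorphism.ext pullback.condition) (IsPullback.of_hasPullback f c.left)
  obtain ⟨q, hq⟩ := (yon S).map_surjective (sq.lift ((yon S).map p₁ ≫ pr) ((yon S).map p₂) (by
    rw [Category.assoc, sq.w, ← Functor.map_comp, ← Functor.map_comp, sqQ.w, Functor.map_comp]))
  have hq₁ : (yon S).map q ≫ pr = (yon S).map p₁ ≫ pr := by rw [hq, IsPullback.lift_fst]
  have hq₂ : q ≫ w = p₂ := (yon S).map_injective (by rw [Functor.map_comp, hq, IsPullback.lift_snd])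
  have sqS : IsPullback p₁.left p₂.left f (Spec.map φ) := hφ ▸ IsPullback.of_hasPullback f c.left
  have poQ : IsPushout (CommRingCat.ofHom (algebraMap A C)) φ p₁.left.appTop (gammaMap (X := Q.left) p₂.left) := by
    have := isPushout_gammaMap φ sqS
    rwa [hf] at this
  have poT : IsPushout (CommRingCat.ofHom (algebraMap A C)) φ (CommRingCat.ofHom ι.toRingHom)
      (CommRingCat.ofHom ρ.toRingHom) := CommRingCat.isPushout_tensorProduct A C B
  let eQ := poQ.isoIsPushout _ _ poT
  have eQ₁ : p₁.left.appTop ≫ eQ.hom = CommRingCat.ofHom ι.toRingHom :=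
    IsPushout.inl_isoIsPushout_hom _ _ poQ poT
  have eQ₂ : gammaMap (X := Q.left) p₂.left ≫ eQ.hom = CommRingCat.ofHom ρ.toRingHom := by simp [eQ]
  let θ₀ : C ⟶ .of (C ⊗[A] B) := q.left.appTop ≫ eQ.hom
  have hβ : χ ≫ θ₀ = CommRingCat.ofHom ρ.toRingHom := by
    rw [← eQ₂, ← hq₂, Over.comp_left]
    exact (Category.assoc _ _ _).symm.trans (congrArg (· ≫ eQ.hom) (gammaMap_comp q.left w.left).symm)
  let θ : C →ₐ[A] C ⊗[A] B := { θ₀.hom with commutes' := fun r =>
    (ConcreteCategory.congr_hom hβ (φ r)).trans (ρ.commutes r) }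
  have hβ' : ∀ b, θ (β b) = (1 : C) ⊗ₜ b := fun b => ConcreteCategory.congr_hom hβ b
  -- the counit
  have hu : (Algebra.TensorProduct.productMap (AlgHom.id A C) β).comp θ = AlgHom.id A C := by
    obtain ⟨s, hs⟩ := (yon S).map_surjective ((isPullback_yon sqQ).lift (𝟙 _) ((yon S).map w) (by simp))
    have hs₁ : s ≫ p₁ = 𝟙 W := (yon S).map_injective (by rw [Functor.map_comp, hs, IsPullback.lift_fst]; simp)
    have hs₂ : s ≫ p₂ = w := (yon S).map_injective (by rw [Functor.map_comp, hs, IsPullback.lift_snd])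
    have hsq : s ≫ q = 𝟙 W := (yon S).map_injective (sq.hom_ext
      (by rw [Functor.map_comp, Category.assoc, hq₁, ← Functor.map_comp_assoc, hs₁])
      (by rw [← Functor.map_comp, ← Functor.map_comp, Category.assoc, hq₂, hs₂, Category.id_comp]))
    have e₁ : eQ.inv ≫ s.left.appTop =
        CommRingCat.ofHom (Algebra.TensorProduct.productMap (AlgHom.id A C) β).toRingHom := by
      refine poT.hom_ext ?_ ?_
      · rw [← eQ₁, Category.assoc, Iso.hom_inv_id_assoc, ← Scheme.Hom.comp_appTop, ← Over.comp_left, hs₁,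
          eQ₁]
        exact CommRingCat.hom_ext (RingHom.ext fun x => by simp [ι, C])
      · rw [← eQ₂, Category.assoc, Iso.hom_inv_id_assoc, ← gammaMap_comp, ← Over.comp_left, hs₂, eQ₂]
        exact CommRingCat.hom_ext (RingHom.ext fun x => by simp [ρ, β]; rfl)
    have h3 : θ₀ ≫ eQ.inv ≫ s.left.appTop = 𝟙 C := by
      simp only [θ₀, Category.assoc, Iso.hom_inv_id_assoc]
      rw [← Scheme.Hom.comp_appTop, ← Over.comp_left, hsq]
      simp [C]
    rw [e₁] at h3
    exact AlgHom.ext fun x => ConcreteCategory.congr_hom h3 x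
  -- the cocycle condition
  have hc : (Algebra.TensorProduct.map θ (AlgHom.id A B)).comp θ =
      (Algebra.TensorProduct.map ι (AlgHom.id A B)).comp θ := by
    let D := (C ⊗[A] B) ⊗[A] B
    let fQ : Q.left ⟶ Spec A := p₁.left ≫ f
    let E : Over S := Over.mk (pullback.fst fQ c.left ≫ sQ)
    let r : E ⟶ Q := Over.homMk (pullback.fst fQ c.left) rfl
    let t : E ⟶ Over.mk sT' := Over.homMk (pullback.snd fQ c.left) (by
      change pullback.snd fQ c.left ≫ sT' = pullback.fst fQ c.left ≫ pullback.fst f c.left ≫ W.hom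
      refine (congrArg (pullback.snd fQ c.left ≫ ·) (Over.w c)).symm.trans ?_
      change pullback.snd fQ c.left ≫ c.left ≫ sT = _
      rw [← pullback.condition_assoc]
      exact congrArg (pullback.fst fQ c.left ≫ pullback.fst f c.left ≫ ·) (Over.w (w ≫ c)))
    have hrt : r ≫ p₁ ≫ w ≫ c = t ≫ c :=
      Over.OverMorphism.ext (pullback.condition (f := fQ) (g := c.left))
    have : IsAffineHom c.left := hφ ▸ isAffineHom_of_isAffine (Spec.map φ)
    have : IsAffineHom p₁.left := MorphismProperty.pullback_fst (P := @IsAffineHom) f c.left this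
    have : CompactSpace ↥Q.left := QuasiCompact.compactSpace_of_compactSpace p₁.left
    have : QuasiSeparatedSpace ↥Q.left := quasiSeparatedSpace_of_quasiSeparated p₁.left
    have poE : IsPushout (CommRingCat.ofHom (algebraMap A C) ≫ p₁.left.appTop) φ r.left.appTop
        (gammaMap (X := E.left) t.left) := by
      have := isPushout_gammaMap φ (f := fQ) (g := t.left) (p := r.left)
        (hφ ▸ IsPullback.of_hasPullback fQ c.left)
      rwa [gammaMap_comp, hf] at this
    have poD : IsPushout (CommRingCat.ofHom (algebraMap A (C ⊗[A] B))) φ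
        (CommRingCat.ofHom (Algebra.TensorProduct.includeLeft : C ⊗[A] B →ₐ[A] D).toRingHom)
        (CommRingCat.ofHom (Algebra.TensorProduct.includeRight : B →ₐ[A] D).toRingHom) :=
      CommRingCat.isPushout_tensorProduct A (C ⊗[A] B) B
    have poE' : IsPushout (CommRingCat.ofHom (algebraMap A (C ⊗[A] B))) φ (eQ.inv ≫ r.left.appTop)
        (gammaMap (X := E.left) t.left) := by
      refine poE.of_iso (Iso.refl _) eQ (Iso.refl _) (Iso.refl _) ?_ (by simp) (by simp) (by simp)
      rw [Category.assoc, eQ₁, Iso.refl_hom, Category.id_comp]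
      exact CommRingCat.hom_ext (RingHom.ext fun x => by simp [ι])
    let eE := poE'.isoIsPushout _ _ poD
    have eE₁ : eQ.inv ≫ r.left.appTop ≫ eE.hom =
        CommRingCat.ofHom (Algebra.TensorProduct.includeLeft : C ⊗[A] B →ₐ[A] D).toRingHom := by
      rw [← Category.assoc]; simp [eE]
    have eE₂ : gammaMap (X := E.left) t.left ≫ eE.hom =
        CommRingCat.ofHom (Algebra.TensorProduct.includeRight : B →ₐ[A] D).toRingHom := by simp [eE]
    -- the map `E ⟶ Q` attached to a map `g : Q ⟶ W` over `T`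
    have mk : ∀ (k : C →ₐ[A] C ⊗[A] B) (g : Q ⟶ W), g.left.appTop ≫ eQ.hom = CommRingCat.ofHom k.toRingHom →
        g ≫ w ≫ c = p₁ ≫ w ≫ c →
        ∃ M : E ⟶ Q, M ≫ p₁ = r ≫ g ∧ M ≫ p₂ = t ∧ eQ.inv ≫ M.left.appTop ≫ eE.hom =
          CommRingCat.ofHom (Algebra.TensorProduct.map k (AlgHom.id A B)).toRingHom := by
      intro k g hk hg
      obtain ⟨M, hM⟩ := (yon S).map_surjective ((isPullback_yon sqQ).lift ((yon S).map (r ≫ g)) ((yon S).map t)
        (by rw [← Functor.map_comp, ← Functor.map_comp, Category.assoc, hg, hrt]))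
      have hM₁ : M ≫ p₁ = r ≫ g := (yon S).map_injective (by rw [Functor.map_comp, hM, IsPullback.lift_fst])
      have hM₂ : M ≫ p₂ = t := (yon S).map_injective (by rw [Functor.map_comp, hM, IsPullback.lift_snd])
      refine ⟨M, hM₁, hM₂, poT.hom_ext ?_ ?_⟩
      · rw [← eQ₁, Category.assoc, Iso.hom_inv_id_assoc, ← Category.assoc, ← Scheme.Hom.comp_appTop,
          ← Over.comp_left, hM₁, Over.comp_left, Scheme.Hom.comp_appTop, Category.assoc, eQ₁]
        rw [show g.left.appTop = CommRingCat.ofHom k.toRingHom ≫ eQ.inv from (Iso.eq_comp_inv eQ).2 hk,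
          Category.assoc, eE₁]
        exact CommRingCat.hom_ext (RingHom.ext fun x => by simp [ι, C])
      · rw [← eQ₂, Category.assoc, Iso.hom_inv_id_assoc, ← Category.assoc, ← gammaMap_comp,
          ← Over.comp_left, hM₂, eE₂, eQ₂]
        exact CommRingCat.hom_ext (RingHom.ext fun x => by simp [ρ])
    obtain ⟨M₁, h₁, h₁', h₁''⟩ := mk θ q rfl (by rw [reassoc_of% hq₂, ← sqQ.w])
    obtain ⟨M₂, h₂, h₂', h₂''⟩ := mk ι p₁ eQ₁ rfl
    have hM : M₁ ≫ q = M₂ ≫ q := (yon S).map_injective (sq.hom_ext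
      (by
        simp only [Functor.map_comp, Category.assoc, hq₁]
        rw [← Functor.map_comp_assoc, ← Functor.map_comp_assoc, h₁, h₂, Functor.map_comp_assoc,
          Functor.map_comp_assoc, hq₁])
      (by rw [← Functor.map_comp, ← Functor.map_comp, Category.assoc, Category.assoc, hq₂, h₁', h₂']))
    have h3 := congrArg (fun x : E ⟶ W => x.left.appTop ≫ eE.hom) hM
    simp only [Over.comp_left, Scheme.Hom.comp_appTop, Category.assoc] at h3
    have h3' : θ₀ ≫ (eQ.inv ≫ M₁.left.appTop ≫ eE.hom) = θ₀ ≫ (eQ.inv ≫ M₂.left.appTop ≫ eE.hom) := by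
      simpa only [θ₀, Category.assoc, Iso.hom_inv_id_assoc] using h3
    rw [h₁'', h₂''] at h3'
    exact AlgHom.ext fun x => ConcreteCategory.congr_hom h3' x
  -- the descended affine hull
  have hbij := bijective_productMap_equalizer β θ hβ' hc hu
  let C₀ := AlgHom.equalizer θ ι
  let W₀ : Over S := Over.mk (Spec.map (CommRingCat.ofHom (algebraMap A C₀)) ≫ sT)
  let w₀ : W₀ ⟶ Over.mk sT := Over.homMk (Spec.map (CommRingCat.ofHom (algebraMap A C₀))) rfl
  have sqP : IsPushout (CommRingCat.ofHom (algebraMap A C₀)) φ (CommRingCat.ofHom C₀.val.toRingHom) χ :=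
    (CommRingCat.isPushout_tensorProduct A C₀ B).of_iso (Iso.refl _) (Iso.refl _) (Iso.refl _)
      (RingEquiv.ofBijective (Algebra.TensorProduct.productMap C₀.val β).toRingHom hbij).toCommRingCatIso
      (by simp) (by simp; rfl)
      (CommRingCat.hom_ext (RingHom.ext fun x => by simp))
      (CommRingCat.hom_ext (RingHom.ext fun x => by simp [β]))
  let Wb : Over S := Over.mk (Spec.map (φ ≫ χ) ≫ sT)
  let ebar : Wb ⟶ W₀ := Over.homMk (Spec.map (CommRingCat.ofHom C₀.val.toRingHom)) (by
    change Spec.map _ ≫ Spec.map _ ≫ sT = Spec.map _ ≫ sT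
    rw [← Category.assoc, ← Spec.map_comp, sqP.w])
  let wbar : Wb ⟶ Over.mk sT' := Over.homMk (Spec.map χ) (by
    change Spec.map χ ≫ sT' = Spec.map _ ≫ sT
    rw [← show c.left ≫ sT = sT' from Over.w c, Spec.map_comp, Category.assoc, hφ])
  have sqB : IsPullback ebar wbar w₀ c := by
    have h := isPullback_SpecMap_of_isPushout _ _ _ _ sqP
    rw [hφ] at h
    exact IsPullback.of_map (Over.forget S) (Over.OverMorphism.ext h.w) h
  let j : W ⟶ Wb := Over.homMk W.left.toSpecΓ (by
    change W.left.toSpecΓ ≫ Spec.map (φ ≫ χ) ≫ sT = W.hom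
    rw [← hf, reassoc_of% toSpecΓ_gammaMap f]
    exact Over.w (w ≫ c))
  have hj : j ≫ wbar = w := Over.OverMorphism.ext (toSpecΓ_gammaMap w.left)
  have he : q ≫ j ≫ ebar = p₁ ≫ j ≫ ebar := Over.OverMorphism.ext (by
    change q.left ≫ W.left.toSpecΓ ≫ Spec.map _ = p₁.left ≫ W.left.toSpecΓ ≫ Spec.map _
    simp only [← Category.assoc, Scheme.toSpecΓ_naturality]
    simp only [Category.assoc, ← Spec.map_comp]
    congr 2
    rw [← cancel_mono eQ.hom, Category.assoc, Category.assoc, eQ₁]
    exact CommRingCat.hom_ext (RingHom.ext fun x => x.2))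
  have := isLocallySurjective_of_base sq
  have := IsRegularEpiCategory.regularEpiOfEpi pr
  obtain ⟨g, hg⟩ := IsRegularEpi.exists_of_isKernelPair pr (isPullback_kernelPair sq sqQ hq₂ hq₁)
    ((yon S).map (j ≫ ebar)) (by rw [← Functor.map_comp, ← Functor.map_comp, he])
  have hga : g ≫ (yon S).map w₀ = a := (cancel_epi pr).1 (by
    rw [reassoc_of% hg, ← Functor.map_comp, Category.assoc, sqB.w, reassoc_of% hj, sq.w, Functor.map_comp])
  have sqG : IsPullback pr ((yon S).map j) g ((yon S).map ebar) := by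
    refine IsPullback.of_bot ?_ (by rw [hg, Functor.map_comp]) (isPullback_yon sqB)
    rw [← Functor.map_comp, hj, hga]
    exact sq
  have : Flat ebar.left := MorphismProperty.of_isPullback (sqB.map (Over.forget S)).flip ‹Flat c.left›
  have : LocallyOfFinitePresentation ebar.left :=
    MorphismProperty.of_isPullback (sqB.map (Over.forget S)).flip ‹LocallyOfFinitePresentation c.left›
  have : Surjective ebar.left := MorphismProperty.of_isPullback (sqB.map (Over.forget S)).flip ‹Surjective c.left›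
  have : Sheaf.IsLocallySurjective ((yon S).map ebar) :=
    isLocallySurjective_of_repWith ((repWith_yon_map_iff _ _).2 ‹_›) ((repWith_yon_map_iff _ _).2 ‹_›)
      ((repWith_yon_map_iff _ _).2 ‹_›)
  have hoi : RepWith @IsOpenImmersion g := repWith_of_base_isImmersion _ sqG
    (le_isImmersion_of_cases (Or.inr (Or.inl rfl))).1 fppfDescends_isOpenImmersion
    ((repWith_yon_map_iff _ j).2 (inferInstanceAs (IsOpenImmersion W.left.toSpecΓ)))
  obtain ⟨V, fst, v, sqV⟩ := exists_isPullback_of_representable hoi.1 (𝟙 _)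
  have : IsOpenImmersion v.left := hoi.2 _ _ _ sqV
  have : IsIso fst := sqV.isIso_fst_of_isIso
  obtain ⟨m, hm⟩ := (yon S).map_surjective (pr ≫ inv fst)
  have hmv : m ≫ v = j ≫ ebar := (yon S).map_injective (by
    rw [Functor.map_comp, hm, Category.assoc,
      show inv fst ≫ (yon S).map v = g by rw [IsIso.inv_comp_eq, sqV.w, Category.comp_id], hg])
  have : Surjective m.left := (repWith_yon_map_iff @Surjective m).1 (by
    rw [hm]
    exact repWith_comp (repWith_of_isPullback sq.flip ((repWith_yon_map_iff _ c).2 ‹_›)) (repWith_iso _))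
  have : CompactSpace ↥V.left := m.left.surjective.compactSpace m.left.continuous
  have : IsAffine W₀.left := isAffine_Spec _
  exact ⟨V, .of_isImmersion v.left, ⟨asIso fst⟩⟩

/-- A sheaf over an affine scheme which becomes quasi-affine after an fppf base change is quasi-affine. -/
theorem exists_iso_yon_of_isPullback_quasiAffine {G : Sp S} {T T' W : Over S} [IsAffine T.left]
    [IsAffine T'.left] [W.left.IsQuasiAffine] (a : G ⟶ (yon S).obj T) (c : T' ⟶ T) [Flat c.left]
    [LocallyOfFinitePresentation c.left] [Surjective c.left] (pr : (yon S).obj W ⟶ G) (w : W ⟶ T')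
    (sq : IsPullback pr ((yon S).map w) a ((yon S).map c)) :
    ∃ V : Over S, V.left.IsQuasiAffine ∧ Nonempty ((yon S).obj V ≅ G) := by
  let eT : Over.mk (T.left.isoSpec.inv ≫ T.hom) ≅ T := Over.isoMk T.left.isoSpec.symm
  let eT' : Over.mk (T'.left.isoSpec.inv ≫ T'.hom) ≅ T' := Over.isoMk T'.left.isoSpec.symm
  let c' := eT'.hom ≫ c ≫ eT.inv
  have : Flat c'.left := by dsimp [c']; infer_instance
  have : LocallyOfFinitePresentation c'.left := by dsimp [c']; infer_instance
  have : Surjective c'.left := by dsimp [c']; infer_instance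
  refine exists_iso_yon_of_isPullback_spec_quasiAffine (a ≫ (yon S).map eT.inv) c' pr
    (w ≫ eT'.inv) (sq.of_iso (Iso.refl _) (Iso.refl _) ((yon S).mapIso eT'.symm)
      ((yon S).mapIso eT.symm) ?_ ?_ ?_ ?_)
  · simp
  · simp [← Functor.map_comp]
  · simp
  · simp [c', ← Functor.map_comp]

end GrothLib.AlgSp
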