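import Mathlib.AlgebraicGeometry.ZariskisMainTheorem
import Groth.Agent.Lib.AlgSp.AffineMor
import Groth.Agent.Lib.AlgSp.QuasiAffineDescent

/-!
# Effective fppf descent of separated, locally quasi-finite morphisms
-/

universe u

open CategoryTheory CategoryTheory.Limits AlgebraicGeometry Opposite Topology

namespace GrothLib.AlgSp

/-- By Zariski's main theorem a quasi-compact, separated, quasi-finite scheme over an affine scheme is
quasi-affine. -/
theorem isQuasiAffine_of_lqf {W T : Scheme.{u}} [IsAffine T] (f : W ⟶ T) [LocallyQuasiFinite f]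
    [LocallyOfFiniteType f] [IsSeparated f] [CompactSpace W] : W.IsQuasiAffine := by
  have : QuasiCompact f := quasiCompact_of_compactSpace f
  have : IsAffine f.normalization := isAffine_of_isAffineHom f.fromNormalization
  exact .of_isImmersion f.toNormalization

open _root_.AlgSp

variable {S : Scheme.{u}}

/-- Separated, locally quasi-finite schemes descend along fppf covers of affine schemes. -/
theorem exists_iso_yon_of_isPullback_lqf {G : Sp S} {T T' W : Over S} [IsAffine T.left]
    [IsAffine T'.left] (a : G ⟶ (yon S).obj T) (c : T' ⟶ T) [Flat c.left]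
    [LocallyOfFinitePresentation c.left] [Surjective c.left] (pr : (yon S).obj W ⟶ G) (w : W ⟶ T')
    [LocallyQuasiFinite w.left] [LocallyOfFiniteType w.left] [IsSeparated w.left]
    (sq : IsPullback pr ((yon S).map w) a ((yon S).map c)) :
    ∃ M : Over S, Nonempty ((yon S).obj M ≅ G) := by
  have : IsAffineHom c.left := isAffineHom_of_isAffine c.left
  have hf : RepWith @Flat pr := repWith_of_isPullback sq.flip ((repWith_yon_map_iff _ c).2 ‹_›)
  have hp : RepWith @LocallyOfFinitePresentation pr :=
    repWith_of_isPullback sq.flip ((repWith_yon_map_iff _ c).2 ‹_›)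
  have hs : RepWith @Surjective pr := repWith_of_isPullback sq.flip ((repWith_yon_map_iff _ c).2 ‹_›)
  have ha : RepWith @IsAffineHom pr := repWith_of_isPullback sq.flip ((repWith_yon_map_iff _ c).2 ‹_›)
  obtain ⟨R, r₁, r₂, sqR⟩ := exists_isPullback_of_representable ha.1 pr
  obtain ⟨r₁, rfl⟩ := (yon S).map_surjective r₁
  have : IsAffineHom r₁.left := ha.2 _ _ _ sqR.flip
  have hopen : IsOpenMap (Points.ofPt pr) :=
    isOpenMap_ofPt_of_repWith (P := @Flat ⊓ @LocallyOfFinitePresentation)
      (fun _ _ h hh => by have : Flat h := hh.1; have : LocallyOfFinitePresentation h := hh.2; exact h.isOpenMap)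
      (repWith_inf_iff.2 ⟨hf, hp⟩)
  have key : ∀ x : ↥W.left, ∃ (M : Over S) (f : (yon S).obj M ⟶ G),
      RepWith @IsOpenImmersion f ∧ Points.ofPt pr x ∈ Set.range (Points.map f) := by
    intro x
    obtain ⟨_, ⟨O, hO, rfl⟩, hxO, -⟩ :=
      W.left.isBasis_affineOpens.exists_subset_of_mem_open (Set.mem_univ x) isOpen_univ
    have hZ : IsOpen (Points.ofPt pr '' (O : Set ↥W.left)) := hopen _ O.2
    have hι := repWith_openSubι hZ
    obtain ⟨V, fst, v, sqV⟩ := exists_isPullback_of_representable hι.1 pr
    have : IsOpenImmersion v.left := hι.2 _ _ _ sqV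
    have hc : IsCompact (Set.range v.left) := by
      rw [← preimage_range_map sqV, range_openSubι, preimage_ofPt_image sqR]
      exact (r₁.left.isCompact_preimage hO.isCompact).image r₂.left.continuous
    have : CompactSpace ↥V.left := ⟨v.left.isOpenEmbedding.isInducing.isCompact_iff.2 (by rwa [Set.image_univ])⟩
    have : V.left.IsQuasiAffine := isQuasiAffine_of_lqf (v.left ≫ w.left)
    obtain ⟨M, -, ⟨e⟩⟩ := exists_iso_yon_of_isPullback_quasiAffine (openSubι G _ ≫ a) c fst (v ≫ w)
      (by rw [Functor.map_comp]; exact sqV.paste_vert sq)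
    refine ⟨M, e.hom ≫ openSubι G _, repWith_comp (repWith_iso _) hι, ?_⟩
    obtain ⟨z, hz⟩ := (range_openSubι (F := G) (W := Points.ofPt pr '' (O : Set ↥W.left))).ge ⟨x, hxO, rfl⟩
    exact ⟨Points.map e.inv z, by rw [← Points.map_comp, e.inv_hom_id_assoc, hz]⟩
  choose M f hfo hx using key
  obtain ⟨N, e, -, -⟩ := exists_iso_yon_of_openCover M f hfo fun y => by
    obtain ⟨x, rfl⟩ := surjective_ofPt_of_repWith hs y
    exact ⟨x, hx x⟩
  exact ⟨N, ⟨e⟩⟩

/-- Separated, locally quasi-finite morphisms of sheaves descend along locally surjective maps. -/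
theorem representable_of_base_lqf {F G H Q : Sp S} {a : F ⟶ G} (b : H ⟶ G)
    [Sheaf.IsLocallySurjective b] {b' : Q ⟶ F} {a' : Q ⟶ H} (sq : IsPullback b' a' a b)
    (hq : RepWith @LocallyQuasiFinite a') (hl : RepWith @LocallyOfFiniteType a')
    (hs : RepWith @IsSeparated a') : Representable a := by
  refine representable_of_forall_affine fun Z hZ g => ?_
  obtain ⟨V, c, l, hf, hp, hsj, hlg⟩ := exists_fppf_lift b g
  obtain ⟨V', d, hV', hf', hp', hsj'⟩ := exists_affine_refinement c
  obtain ⟨W, fst, w, sqW⟩ := exists_isPullback_of_representable hq.1 ((yon S).map d ≫ l)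
  have : LocallyQuasiFinite w.left := hq.2 _ _ _ sqW
  have : LocallyOfFiniteType w.left := hl.2 _ _ _ sqW
  have : IsSeparated w.left := hs.2 _ _ _ sqW
  have sq₃ : IsPullback (fst ≫ b') ((yon S).map w) a ((yon S).map (d ≫ c) ≫ g) := by
    have := sqW.paste_horiz sq
    rwa [Category.assoc, hlg, ← Functor.map_comp_assoc] at this
  let sU := IsPullback.of_hasPullback a g
  let pr := sU.lift (fst ≫ b') ((yon S).map w ≫ (yon S).map (d ≫ c)) (by rw [sq₃.w, Category.assoc])
  have sq₄ : IsPullback pr ((yon S).map w) (pullback.snd a g) ((yon S).map (d ≫ c)) :=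
    IsPullback.of_right (by simpa only [pr, IsPullback.lift_fst] using sq₃)
      (by simp only [pr, IsPullback.lift_snd]) sU
  obtain ⟨M, ⟨e⟩⟩ := exists_iso_yon_of_isPullback_lqf _ (d ≫ c) pr w sq₄
  refine ⟨M, (yon S).preimage (e.hom ≫ pullback.snd a g), e.hom ≫ pullback.fst a g, ?_⟩
  refine (IsPullback.of_hasPullback a g).of_iso e.symm (Iso.refl _) (Iso.refl _) (Iso.refl _) ?_ ?_ ?_ ?_ <;>
    simp

/-- Properties of separated, locally quasi-finite morphisms which descend, descend to sheaves. -/
theorem repWith_of_base_lqf {F G H Q : Sp S} {a : F ⟶ G} (b : H ⟶ G)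
    [Sheaf.IsLocallySurjective b] {b' : Q ⟶ F} {a' : Q ⟶ H} (sq : IsPullback b' a' a b)
    {P : MorphismProperty Scheme.{u}}
    (hle : P ≤ (@LocallyQuasiFinite ⊓ @LocallyOfFiniteType ⊓ @IsSeparated : MorphismProperty Scheme.{u}))
    (hP : FppfDescends P)
    (h : RepWith P a') : RepWith P a :=
  repWith_of_base (representable_of_base_lqf b sq (repWith_mono h fun _ _ g hg => (hle g hg).1.1)
    (repWith_mono h fun _ _ g hg => (hle g hg).1.2) (repWith_mono h fun _ _ g hg => (hle g hg).2)) b sq hP h

end GrothLib.AlgSp
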