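import Groth.Agent.Lib.AlgSp.Space
import Groth.Agent.Lib.AlgSp.Glue
import Groth.Agent.Lib.UnivThick.Affine
import Groth.Agent.Lib.UnivThick.FOT
import Groth.Agent.Lib.EtaleThick26.Glue
import Groth.Agent.S1488
import Groth.Agent.S1489
import Groth.Prelude.Def_AlgSpInf

/-!
# Infinitesimal lifting for morphisms of sheaves, tested on thickenings of schemes
-/

universe u

open CategoryTheory CategoryTheory.Limits AlgebraicGeometry Opposite

namespace GrothLib.AlgSp

open _root_.AlgSp

variable {S : Scheme.{u}} {F G H : Sp S}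

/-- A first order thickening of schemes over `S`. -/
abbrev FOT {T T' : Over S} (t : T ⟶ T') : Prop := MoreMor.IsFirstOrderThickening t.left

theorem fot_j {f : F ⟶ G} (sq : InfSq f) : FOT sq.j :=
  GrothLib.UnivThick.fot_spec (CommRingCat.ofHom (Ideal.Quotient.mk sq.I)) Ideal.Quotient.mk_surjective
    (by rw [CommRingCat.hom_ofHom, Ideal.mk_ker]; exact sq.sq_zero)

theorem fot_pullback_snd {T T' V : Over S} {t : T ⟶ T'} (ht : FOT t) (g : V ⟶ T') :
    FOT (pullback.snd t g) :=
  GrothLib.UnivThick.fot_of_isPullback (isPullback_left (IsPullback.of_hasPullback t g)) ht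

/-- A first order thickening of an affine scheme over `S` is one of the test thickenings. -/
theorem exists_iso_infSq {T T' : Over S} {t : T ⟶ T'} [IsAffine T'.left] (ht : FOT t) {f : F ⟶ G}
    (top : (yon S).obj T ⟶ F) (bot : (yon S).obj T' ⟶ G) (w : top ≫ f = (yon S).map t ≫ bot) :
    ∃ (sq : InfSq f) (e : sq.ptT ≅ T) (e' : sq.ptT' ≅ T'), sq.j ≫ e'.hom = e.hom ≫ t ∧
      sq.top = (yon S).map e.hom ≫ top ∧ sq.bot = (yon S).map e'.hom ≫ bot := by
  obtain ⟨C, I, ee, ee', hI, hc⟩ :=
    GrothLib.UnivThick.exists_spec_model t.left ht ⊤ (isAffineOpen_top _)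
  let ι₀ : (t.left ⁻¹ᵁ ⊤).toScheme ≅ T.left := T.left.topIso
  let ι₁ : (⊤ : T'.left.Opens).toScheme ≅ T'.left := T'.left.topIso
  have hι : ι₀.hom ≫ t.left = (t.left ∣_ ⊤) ≫ ι₁.hom := (morphismRestrict_ι t.left ⊤).symm
  let eT : Spec (CommRingCat.of (C ⧸ I)) ≅ T.left := ee.symm ≪≫ ι₀
  let eT' : Spec C ≅ T'.left := ee'.symm ≪≫ ι₁
  have hsq : Spec.map (CommRingCat.ofHom (Ideal.Quotient.mk I)) ≫ eT'.hom = eT.hom ≫ t.left := by
    show _ ≫ ee'.inv ≫ ι₁.hom = (ee.inv ≫ ι₀.hom) ≫ t.left
    rw [Category.assoc, hι, ← cancel_epi ee.hom, Iso.hom_inv_id_assoc, ← reassoc_of% hc,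
      Iso.hom_inv_id_assoc]
  let str : Spec (CommRingCat.of C) ⟶ S := eT'.hom ≫ T'.hom
  let e : Over.mk (Spec.map (CommRingCat.ofHom (Ideal.Quotient.mk I)) ≫ str) ≅ T :=
    Over.isoMk eT (by
      show eT.hom ≫ T.hom = _ ≫ eT'.hom ≫ T'.hom
      rw [reassoc_of% hsq, Over.w t])
  let e' : Over.mk str ≅ T' := Over.isoMk eT' rfl
  have hj : (Over.homMk (Spec.map (CommRingCat.ofHom (Ideal.Quotient.mk I))) rfl :
      Over.mk (Spec.map (CommRingCat.ofHom (Ideal.Quotient.mk I)) ≫ str) ⟶ Over.mk str) ≫ e'.hom =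
      e.hom ≫ t := Over.OverMorphism.ext hsq
  refine ⟨⟨C, I, hI, str, (yon S).map e.hom ≫ top, (yon S).map e'.hom ≫ bot, ?_⟩, e, e', hj, rfl, rfl⟩
  rw [Category.assoc, w, ← Functor.map_comp_assoc, ← Functor.map_comp_assoc]
  exact congrArg (fun k => (yon S).map k ≫ bot) hj.symm

theorem hasLift_affine {f : F ⟶ G} (hf : IsFormallySmoothMor f) {T T' : Over S} {t : T ⟶ T'}
    [IsAffine T'.left] (ht : FOT t) (top : (yon S).obj T ⟶ F) (bot : (yon S).obj T' ⟶ G)
    (w : top ≫ f = (yon S).map t ≫ bot) :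
    ∃ l : (yon S).obj T' ⟶ F, (yon S).map t ≫ l = top ∧ l ≫ f = bot := by
  obtain ⟨sq, e, e', hj, htop, hbot⟩ := exists_iso_infSq ht top bot w
  obtain ⟨l, hl, hlf⟩ := hf sq
  refine ⟨(yon S).map e'.inv ≫ l, ?_, ?_⟩
  · have h1 : t ≫ e'.inv = e.inv ≫ sq.j := by
      rw [Iso.eq_inv_comp, ← Category.assoc, ← hj, Category.assoc, Iso.hom_inv_id, Category.comp_id]
    rw [← Functor.map_comp_assoc, h1, Functor.map_comp_assoc, hl, htop, ← Functor.map_comp_assoc,
      Iso.inv_hom_id, CategoryTheory.Functor.map_id, Category.id_comp]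
  · rw [Category.assoc, hlf, hbot, ← Functor.map_comp_assoc, Iso.inv_hom_id,
      CategoryTheory.Functor.map_id, Category.id_comp]

theorem hom_ext_affine {f : F ⟶ G} (hf : IsFormallyUnramifiedMor f) {T T' : Over S} {t : T ⟶ T'}
    [IsAffine T'.left] (ht : FOT t) {l l' : (yon S).obj T' ⟶ F}
    (h : (yon S).map t ≫ l = (yon S).map t ≫ l') (h' : l ≫ f = l' ≫ f) : l = l' := by
  obtain ⟨sq, e, e', hj, htop, hbot⟩ := exists_iso_infSq ht (f := f) ((yon S).map t ≫ l) (l ≫ f)
    (Category.assoc _ _ _)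
  have := hf sq ((yon S).map e'.hom ≫ l) ((yon S).map e'.hom ≫ l')
    (by rw [htop, ← Functor.map_comp_assoc, ← Functor.map_comp_assoc]; exact congrArg (fun k => (yon S).map k ≫ l) hj)
    (by rw [hbot, Category.assoc])
    (by rw [htop, h, ← Functor.map_comp_assoc, ← Functor.map_comp_assoc]; exact congrArg (fun k => (yon S).map k ≫ l') hj)
    (by rw [hbot, Category.assoc, ← h'])
  exact (cancel_epi _).1 this

/-- Maps into a sheaf glue along an fppf covering of a scheme. -/
theorem exists_hom_of_cover {T : Over S} {ι : Type u} (V : ι → Over S) (c : ∀ i, V i ⟶ T)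
    (hf : ∀ i, Flat (c i).left) (hp : ∀ i, LocallyOfFinitePresentation (c i).left)
    (hs : ∀ x : ↥T.left, ∃ i y, (c i).left y = x) (l : ∀ i, (yon S).obj (V i) ⟶ F)
    (hl : ∀ (i j : ι) (Z : Over S) (gi : Z ⟶ V i) (gj : Z ⟶ V j), gi ≫ c i = gj ≫ c j →
      (yon S).map gi ≫ l i = (yon S).map gj ≫ l j) :
    ∃! l' : (yon S).obj T ⟶ F, ∀ i, (yon S).map (c i) ≫ l' = l i := by
  have hsh := (isSheaf_iff_isSheaf_of_type _ _).1 F.property _ (ofArrows_mem V c hf hp hs)
  rw [Sieve.ofArrows, ← Presieve.isSheafFor_iff_generate, Presieve.isSheafFor_arrows_iff] at hsh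
  obtain ⟨s, hs', hu⟩ := hsh (fun i => (J S).uliftYonedaEquiv.{u + 1} (l i)) (by
    intro i j Z gi gj hg
    rw [GrothendieckTopology.uliftYonedaEquiv_naturality, GrothendieckTopology.uliftYonedaEquiv_naturality,
      hl i j Z gi gj hg])
  refine ⟨(J S).uliftYonedaEquiv.{u + 1}.symm s, fun i => ?_, fun l' hl' => ?_⟩
  · apply (J S).uliftYonedaEquiv.{u + 1}.injective
    rw [← GrothendieckTopology.uliftYonedaEquiv_naturality, Equiv.apply_symm_apply]
    exact hs' i
  · apply (J S).uliftYonedaEquiv.{u + 1}.injective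
    rw [Equiv.apply_symm_apply]
    refine hu _ fun i => ?_
    rw [GrothendieckTopology.uliftYonedaEquiv_naturality, hl' i]

theorem hom_ext_cover {T : Over S} {ι : Type u} (V : ι → Over S) (c : ∀ i, V i ⟶ T)
    (hf : ∀ i, Flat (c i).left) (hp : ∀ i, LocallyOfFinitePresentation (c i).left)
    (hs : ∀ x : ↥T.left, ∃ i y, (c i).left y = x) {l l' : (yon S).obj T ⟶ F}
    (h : ∀ i, (yon S).map (c i) ≫ l = (yon S).map (c i) ≫ l') : l = l' :=
  (exists_hom_of_cover V c hf hp hs (fun i => (yon S).map (c i) ≫ l) fun i j Z gi gj hg => by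
    simp only [← Functor.map_comp_assoc, hg]).unique (fun _ => rfl) fun i => (h i).symm

theorem exists_affine_cover (T : Over S) :
    ∃ (ι : Type u) (V : ι → Over S) (c : ∀ i, V i ⟶ T), (∀ i, IsAffine (V i).left) ∧
      (∀ i, IsOpenImmersion (c i).left) ∧ ∀ x : ↥T.left, ∃ i y, (c i).left y = x := by
  refine ⟨T.left.affineCover.I₀, fun i => Over.mk (T.left.affineCover.f i ≫ T.hom),
    fun i => Over.homMk (T.left.affineCover.f i) rfl, fun i => ?_, fun i => ?_, fun x => ?_⟩
  · exact inferInstanceAs (IsAffine (T.left.affineCover.X i))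
  · exact inferInstanceAs (IsOpenImmersion (T.left.affineCover.f i))
  · obtain ⟨i, y, hy⟩ := T.left.affineCover.exists_eq x
    exact ⟨i, y, hy⟩

/-- At most one lift along any first order thickening of schemes. -/
theorem hom_ext_of_fu {f : F ⟶ G} (hf : IsFormallyUnramifiedMor f) {T T' : Over S} {t : T ⟶ T'}
    (ht : FOT t) {l l' : (yon S).obj T' ⟶ F}
    (h : (yon S).map t ≫ l = (yon S).map t ≫ l') (h' : l ≫ f = l' ≫ f) : l = l' := by
  obtain ⟨ι, V, c, hV, hc, hs⟩ := exists_affine_cover T'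
  refine hom_ext_cover V c (fun i => have := hc i; inferInstance) (fun i => have := hc i; inferInstance)
    hs fun i => ?_
  have := hV i
  refine hom_ext_affine hf (fot_pullback_snd ht (c i)) ?_ (by rw [Category.assoc, Category.assoc, h'])
  rw [← Functor.map_comp_assoc, ← Functor.map_comp_assoc, ← pullback.condition,
    Functor.map_comp_assoc, Functor.map_comp_assoc, h]

/-- Local lifts against a formally unramified map glue. -/
theorem existsUnique_lift_of_cover {f : F ⟶ G} (hf : IsFormallyUnramifiedMor f) {T T' : Over S}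
    {t : T ⟶ T'} (ht : FOT t) {top : (yon S).obj T ⟶ F} {bot : (yon S).obj T' ⟶ G}
    (w : top ≫ f = (yon S).map t ≫ bot) {ι : Type u} (V : ι → Over S) (c : ∀ i, V i ⟶ T')
    (hcf : ∀ i, Flat (c i).left) (hcp : ∀ i, LocallyOfFinitePresentation (c i).left)
    (hs : ∀ x : ↥T'.left, ∃ i y, (c i).left y = x) (l : ∀ i, (yon S).obj (V i) ⟶ F)
    (h1 : ∀ i, l i ≫ f = (yon S).map (c i) ≫ bot)
    (h2 : ∀ i (Z : Over S) (p : Z ⟶ T) (q : Z ⟶ V i), p ≫ t = q ≫ c i →
      (yon S).map q ≫ l i = (yon S).map p ≫ top) :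
    ∃! L : (yon S).obj T' ⟶ F, (yon S).map t ≫ L = top ∧ L ≫ f = bot := by
  obtain ⟨L, hL, -⟩ := exists_hom_of_cover V c hcf hcp hs l fun i j Z gi gj hg => by
    refine hom_ext_of_fu hf (fot_pullback_snd ht (gi ≫ c i)) ?_ ?_
    · rw [← Functor.map_comp_assoc, ← Functor.map_comp_assoc,
        h2 i _ (pullback.fst _ _) (pullback.snd _ _ ≫ gi) (by rw [Category.assoc, pullback.condition]),
        h2 j _ (pullback.fst _ _) (pullback.snd _ _ ≫ gj)
          (by rw [Category.assoc, ← hg, pullback.condition])]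
    · simp only [Category.assoc, h1, ← Functor.map_comp_assoc, hg]
  refine ⟨L, ⟨?_, ?_⟩, fun L' hL' => ?_⟩
  rotate_left
  · refine hom_ext_cover V c hcf hcp hs fun i => ?_
    rw [← Category.assoc, hL i, h1 i]
  · refine hom_ext_of_fu hf ht ?_ ?_
    · rw [hL'.1]
      refine (hom_ext_cover (fun i => pullback t (c i)) (fun i => pullback.fst t (c i)) (fun i => ?_) (fun i => ?_)
        (fun x => ?_) fun i => ?_).symm
      · exact MorphismProperty.of_isPullback (isPullback_left (IsPullback.of_hasPullback t (c i))).flip (hcf i)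
      · exact MorphismProperty.of_isPullback (isPullback_left (IsPullback.of_hasPullback t (c i))).flip (hcp i)
      · obtain ⟨i, y, hy⟩ := hs (t.left x)
        obtain ⟨z, hz, -⟩ := Scheme.Pullback.exists_preimage_pullback (f := t.left) (g := (c i).left) x y hy.symm
        let e := (isPullback_left (IsPullback.of_hasPullback t (c i))).isoPullback
        refine ⟨i, e.inv z, ?_⟩
        rw [← Scheme.Hom.comp_apply, IsPullback.isoPullback_inv_fst]
        exact hz
      · rw [← Functor.map_comp_assoc, pullback.condition, Functor.map_comp_assoc, hL i]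
        exact h2 i _ _ _ pullback.condition
    · rw [hL'.2]
      exact (hom_ext_cover V c hcf hcp hs fun i => by rw [← Category.assoc, hL i, h1 i]).symm
  · refine hom_ext_cover (fun i => pullback t (c i)) (fun i => pullback.fst t (c i)) (fun i => ?_) (fun i => ?_)
      (fun x => ?_) fun i => ?_
    · exact MorphismProperty.of_isPullback (isPullback_left (IsPullback.of_hasPullback t (c i))).flip (hcf i)
    · exact MorphismProperty.of_isPullback (isPullback_left (IsPullback.of_hasPullback t (c i))).flip (hcp i)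
    · obtain ⟨i, y, hy⟩ := hs (t.left x)
      obtain ⟨z, hz, -⟩ := Scheme.Pullback.exists_preimage_pullback (f := t.left) (g := (c i).left) x y hy.symm
      let e := (isPullback_left (IsPullback.of_hasPullback t (c i))).isoPullback
      refine ⟨i, e.inv z, ?_⟩
      rw [← Scheme.Hom.comp_apply, IsPullback.isoPullback_inv_fst]
      exact hz
    · rw [← Functor.map_comp_assoc, pullback.condition, Functor.map_comp_assoc, hL i]
      exact h2 i _ _ _ pullback.condition

theorem fu_of_fe {f : F ⟶ G} (hf : IsFormallyEtaleMor f) : IsFormallyUnramifiedMor f :=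
  fun sq _ _ a b a' b' => (hf sq).unique ⟨a, b⟩ ⟨a', b'⟩

theorem fs_of_fe {f : F ⟶ G} (hf : IsFormallyEtaleMor f) : IsFormallySmoothMor f :=
  fun sq => (hf sq).exists

theorem fe_of_fs_fu {f : F ⟶ G} (h : IsFormallySmoothMor f) (h' : IsFormallyUnramifiedMor f) :
    IsFormallyEtaleMor f := fun sq => by
  obtain ⟨l, hl⟩ := h sq
  exact ⟨l, hl, fun l' hl' => h' sq l' l hl'.1 hl'.2 hl.1 hl.2⟩

/-- Formally etale maps lift uniquely along every first order thickening of schemes. -/
theorem existsUnique_lift_of_fe {f : F ⟶ G} (hf : IsFormallyEtaleMor f) {T T' : Over S}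
    {t : T ⟶ T'} (ht : FOT t) (top : (yon S).obj T ⟶ F) (bot : (yon S).obj T' ⟶ G)
    (w : top ≫ f = (yon S).map t ≫ bot) :
    ∃! L : (yon S).obj T' ⟶ F, (yon S).map t ≫ L = top ∧ L ≫ f = bot := by
  obtain ⟨ι, V, c, hV, hc, hs⟩ := exists_affine_cover T'
  choose l hl hlf using fun i => by
    have := hV i
    exact hasLift_affine (fs_of_fe hf) (fot_pullback_snd ht (c i)) ((yon S).map (pullback.fst t (c i)) ≫ top)
      ((yon S).map (c i) ≫ bot) (by rw [Category.assoc, w, ← Functor.map_comp_assoc,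
        ← Functor.map_comp_assoc, pullback.condition])
  refine existsUnique_lift_of_cover (fu_of_fe hf) ht w V c (fun i => have := hc i; inferInstance)
    (fun i => have := hc i; inferInstance) hs l hlf fun i Z p q hpq => ?_
  conv_lhs => rw [← pullback.lift_snd p q hpq, Functor.map_comp_assoc, hl i]
  rw [← Functor.map_comp_assoc, pullback.lift_fst]

section RepWith

theorem exists_section_data {f : F ⟶ G} (hf : Representable f) (sq : InfSq f) :
    ∃ (W : Over S) (fst : (yon S).obj W ⟶ F) (snd : W ⟶ sq.ptT') (s₀ : sq.ptT ⟶ W),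
      IsPullback fst ((yon S).map snd) f sq.bot ∧ s₀ ≫ snd = sq.j ∧ (yon S).map s₀ ≫ fst = sq.top := by
  obtain ⟨W, fst, snd, sqW⟩ := exists_isPullback_of_representable hf sq.bot
  obtain ⟨s₀, hs₀⟩ := (yon S).map_surjective (sqW.lift sq.top ((yon S).map sq.j) sq.comm)
  refine ⟨W, fst, snd, s₀, sqW, ?_, ?_⟩
  · apply (yon S).map_injective
    rw [Functor.map_comp, hs₀, sqW.lift_snd]
  · rw [hs₀, sqW.lift_fst]

theorem fs_of_repWith_smooth {f : F ⟶ G} (hf : RepWith @Smooth f) : IsFormallySmoothMor f := by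
  intro sq
  obtain ⟨W, fst, snd, s₀, sqW, hs, htop⟩ := exists_section_data hf.1 sq
  obtain ⟨l, hl, hlf⟩ := ((Groth.Agent.S1488.result snd.left).1 (hf.2 _ _ _ sqW)).2 sq.A sq.I sq.sq_zero
    s₀.left (𝟙 _) (by rw [Category.comp_id]; exact (congrArg Over.Hom.left hs).symm)
  let L : sq.ptT' ⟶ W := Over.homMk l (by
    show l ≫ W.hom = sq.str
    rw [← Over.w snd, ← Category.assoc]
    exact (congrArg (· ≫ sq.str) hlf).trans (Category.id_comp _))
  refine ⟨(yon S).map L ≫ fst, ?_, ?_⟩
  · rw [← Functor.map_comp_assoc, ← htop]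
    exact congrArg (fun k => (yon S).map k ≫ fst) (Over.OverMorphism.ext hl)
  · rw [Category.assoc, sqW.w, ← Functor.map_comp_assoc]
    have : L ≫ snd = 𝟙 _ := Over.OverMorphism.ext hlf
    rw [this, CategoryTheory.Functor.map_id, Category.id_comp]

theorem fu_of_repWith {f : F ⟶ G} (hf : Representable f)
    (h : ∀ ⦃U V : Over S⦄ (g : (yon S).obj U ⟶ G) (fst : (yon S).obj V ⟶ F) (snd : V ⟶ U),
      IsPullback fst ((yon S).map snd) f g → FormallyUnramified snd.left) :
    IsFormallyUnramifiedMor f := by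
  intro sq l l' h1 h2 h3 h4
  obtain ⟨W, fst, snd, s₀, sqW, hs, htop⟩ := exists_section_data hf sq
  obtain ⟨L, hL⟩ := (yon S).map_surjective (sqW.lift l (𝟙 _) (by rw [h2, Category.id_comp]))
  obtain ⟨L', hL'⟩ := (yon S).map_surjective (sqW.lift l' (𝟙 _) (by rw [h4, Category.id_comp]))
  have e1 : L ≫ snd = 𝟙 _ := (yon S).map_injective (by rw [Functor.map_comp, hL, sqW.lift_snd, CategoryTheory.Functor.map_id])
  have e2 : L' ≫ snd = 𝟙 _ := (yon S).map_injective (by rw [Functor.map_comp, hL', sqW.lift_snd, CategoryTheory.Functor.map_id])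
  have e3 : sq.j ≫ L = sq.j ≫ L' := by
    apply (yon S).map_injective
    rw [Functor.map_comp, Functor.map_comp, hL, hL']
    apply sqW.hom_ext
    · simp only [Category.assoc, IsPullback.lift_fst, h1, h3]
    · simp only [Category.assoc, IsPullback.lift_snd]
  have hfot := fot_j sq
  have : FormallyUnramified snd.left := h _ _ _ sqW
  have : IsClosedImmersion sq.j.left := hfot.1.1
  have hLL : L.left = L'.left :=
    FormallyUnramified.hom_ext sq.j.left ⟨2, by rw [pow_two]; exact hfot.2⟩ snd.left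
      (congrArg Over.Hom.left e3) (by rw [← Over.comp_left, ← Over.comp_left, e1, e2])
  have := congrArg (fun k => (yon S).map k ≫ fst) (Over.OverMorphism.ext hLL : L = L')
  simpa only [hL, hL', IsPullback.lift_fst] using this

theorem fu_of_repWith_unramified {f : F ⟶ G} (hf : RepWith (@LocallyOfFiniteType ⊓ @FormallyUnramified) f) :
    IsFormallyUnramifiedMor f :=
  fu_of_repWith hf.1 fun _ _ g fst snd sq => (hf.2 g fst snd sq).2

theorem fe_of_repWith_etale {f : F ⟶ G} (hf : RepWith @Etale f) : IsFormallyEtaleMor f :=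
  fe_of_fs_fu (fs_of_repWith_smooth (repWith_mono hf fun _ _ g hg => have := hg; inferInstance))
    (fu_of_repWith hf.1 fun _ _ g fst snd sq => have : Etale snd.left := hf.2 g fst snd sq; inferInstance)

end RepWith

/-- Formal unramifiedness descends along surjective etale maps of the source. -/
theorem fu_of_etale_comp {a : F ⟶ G} {b : G ⟶ H} (ha : RepWith @Etale a) (ha' : RepWith @Surjective a)
    (h : IsFormallyUnramifiedMor (a ≫ b)) : IsFormallyUnramifiedMor b := by
  intro sq l l' h1 h2 h3 h4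
  obtain ⟨W, m, c, sqW⟩ := exists_isPullback_of_representable ha.1 l
  have he : Etale c.left := ha.2 _ _ _ sqW
  have hs : Surjective c.left := ha'.2 _ _ _ sqW
  have ht := fot_pullback_snd (fot_j sq) c
  have hc : (yon S).map (pullback.snd sq.j c) ≫ (yon S).map c ≫ l =
      (yon S).map (pullback.snd sq.j c) ≫ (yon S).map c ≫ l' := by
    rw [← Functor.map_comp_assoc, ← Functor.map_comp_assoc, ← pullback.condition,
      Functor.map_comp_assoc, Functor.map_comp_assoc, h1, h3]
  obtain ⟨m', ⟨hm1, hm2⟩, -⟩ := existsUnique_lift_of_fe (fe_of_repWith_etale ha) ht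
    ((yon S).map (pullback.snd sq.j c) ≫ m) ((yon S).map c ≫ l') (by rw [Category.assoc, sqW.w, hc])
  have hmm : m = m' := hom_ext_of_fu h ht hm1.symm (by
    rw [← Category.assoc, sqW.w, Category.assoc, h2, ← Category.assoc, hm2, Category.assoc, h4])
  refine hom_ext_cover (ι := PUnit.{u + 1}) (fun _ => W) (fun _ => c) (fun _ => inferInstance)
    (fun _ => inferInstance) (fun x => ⟨⟨⟩, hs.surj x⟩) fun _ => ?_
  rw [← sqW.w, hmm, hm2]

/-- Etale local lifts for a map receiving a surjective etale map whose composite is formally smooth. -/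
theorem exists_etale_local_lift {a : F ⟶ G} {b : G ⟶ H} (ha : RepWith @Etale a)
    (ha' : RepWith @Surjective a) (hab : IsFormallySmoothMor (a ≫ b)) {T T' : Over S} {t : T ⟶ T'}
    (ht : FOT t) {top : (yon S).obj T ⟶ G} {bot : (yon S).obj T' ⟶ H}
    (w : top ≫ b = (yon S).map t ≫ bot) (x : ↥T'.left) :
    ∃ (U' : Over S) (g : U' ⟶ T') (m : (yon S).obj U' ⟶ F), IsAffine U'.left ∧ Etale g.left ∧
      (∃ u : ↥U'.left, g.left u = x) ∧ m ≫ a ≫ b = (yon S).map g ≫ bot ∧
      ∀ (V : Over S) (p : V ⟶ T) (q : V ⟶ U'), p ≫ t = q ≫ g →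
        (yon S).map q ≫ m ≫ a = (yon S).map p ≫ top := by
  obtain ⟨W, fW, sW, sqW⟩ := exists_isPullback_of_representable ha.1 top
  have he : Etale sW.left := ha.2 _ _ _ sqW
  have hs : Surjective sW.left := ha'.2 _ _ _ sqW
  have : IsClosedImmersion t.left := ht.1.1
  have : Surjective t.left := ht.1.2
  obtain ⟨Y', q', j, hq', sqY⟩ := GrothLib.EtaleThick.exists_lift t.left sW.left
  obtain ⟨z, hz⟩ := t.left.surjective x
  obtain ⟨y, hy⟩ := hs.surj z
  obtain ⟨_, ⟨(O : Y'.Opens), hO, rfl⟩, hyO, -⟩ :=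
    Y'.isBasis_affineOpens.exists_subset_of_mem_open (Set.mem_univ (j y)) isOpen_univ
  let U' : Over S := Over.mk (O.ι ≫ q' ≫ T'.hom)
  let g : U' ⟶ T' := Over.homMk (O.ι ≫ q') (Category.assoc _ _ _)
  have hU : IsAffine U'.left := hO
  let P := pullback t g
  let k : P ⟶ W := Over.homMk (sqY.lift ((pullback.snd t g).left ≫ O.ι) (pullback.fst t g).left (by
      rw [Category.assoc]
      exact (congrArg Over.Hom.left (pullback.condition (f := t) (g := g))).symm)) (by
    rw [← Over.w sW, sqY.lift_snd_assoc]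
    exact Over.w (pullback.fst t g))
  have hk : k ≫ sW = pullback.fst t g := Over.OverMorphism.ext (sqY.lift_snd _ _ _)
  have htop : ((yon S).map k ≫ fW) ≫ a = (yon S).map (pullback.fst t g) ≫ top := by
    rw [Category.assoc, sqW.w, ← Functor.map_comp_assoc, hk]
  obtain ⟨m, hm, hmb⟩ := hasLift_affine hab (fot_pullback_snd ht g) ((yon S).map k ≫ fW)
    ((yon S).map g ≫ bot) (by
      rw [← Category.assoc, htop, Category.assoc, w, ← Functor.map_comp_assoc, ← Functor.map_comp_assoc,
        pullback.condition])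
  refine ⟨U', g, m, hU, ?_, ⟨⟨j y, hyO⟩, ?_⟩, hmb, fun V p q hpq => ?_⟩
  · exact inferInstanceAs (Etale (O.ι ≫ q'))
  · show (O.ι ≫ q') _ = x
    rw [← hz, ← hy]
    exact congrArg (fun k : W.left ⟶ T'.left => k y) sqY.w
  · conv_lhs => rw [← pullback.lift_snd p q hpq, Functor.map_comp_assoc, reassoc_of% hm]
    rw [sqW.w, ← Functor.map_comp_assoc, ← Functor.map_comp_assoc, Category.assoc, hk,
      pullback.lift_fst]

/-- Formal etaleness descends along surjective etale maps of the source. -/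
theorem fe_of_etale_comp {a : F ⟶ G} {b : G ⟶ H} (ha : RepWith @Etale a) (ha' : RepWith @Surjective a)
    (h : IsFormallyEtaleMor (a ≫ b)) : IsFormallyEtaleMor b := by
  intro sq
  choose U g m _ he hu hmb hcompat using fun x => exists_etale_local_lift ha ha' (fs_of_fe h) (fot_j sq) sq.comm x
  exact existsUnique_lift_of_cover (fu_of_etale_comp ha ha' (fu_of_fe h)) (fot_j sq) sq.comm U g
    (fun x => have := he x; inferInstance) (fun x => have := he x; inferInstance)
    (fun x => ⟨x, hu x⟩) (fun x => m x ≫ a) (fun x => by rw [Category.assoc]; exact hmb x) hcompat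

end GrothLib.AlgSp
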