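import Groth.Agent.Lib.AlgSp.Diag

/-!
# The diagonal and fibre products of schemes over a space
-/

universe u

open CategoryTheory CategoryTheory.Limits AlgebraicGeometry Opposite

namespace GrothLib.AlgSp

open _root_.AlgSp

variable {S : Scheme.{u}} {F : Sp S}

/-- `U ×_F V` as a base change of the diagonal. -/
theorem isPullback_prodLift {R U V : Over S} {t : R ⟶ U} {s : R ⟶ V} {a : (yon S).obj U ⟶ F}
    {b : (yon S).obj V ⟶ F} (sq : IsPullback ((yon S).map t) ((yon S).map s) a b) :
    IsPullback ((yon S).map t ≫ a) ((yon S).map (prod.lift t s)) (Limits.diag F)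
      (prodComparison (yon S) U V ≫ prod.map a b) := by
  have e : (yon S).map (prod.lift t s) ≫ prodComparison (yon S) U V =
      prod.lift ((yon S).map t) ((yon S).map s) := by
    simp only [prodComparison, prod.comp_lift, ← Functor.map_comp, prod.lift_fst, prod.lift_snd]
  refine isPullback_of_yon ?_ fun T c d hcd => ?_
  · rw [← Category.assoc ((yon S).map (prod.lift t s)), e]
    apply prod.hom_ext
    · simp only [Limits.diag, Category.assoc, prod.comp_lift, prod.map_fst, Category.comp_id, prod.lift_fst,
        prod.lift_fst_assoc]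
    · simp only [Limits.diag, Category.assoc, prod.comp_lift, prod.map_snd, Category.comp_id, prod.lift_snd,
        prod.lift_snd_assoc, sq.w]
  · obtain ⟨d, rfl⟩ := (yon S).map_surjective d
    have h1 := congrArg (fun x => x ≫ prod.fst) hcd
    have h2 := congrArg (fun x => x ≫ prod.snd) hcd
    simp only [Limits.diag, prodComparison, Category.assoc, prod.lift_fst, prod.lift_snd, prod.map_fst,
      prod.map_snd, Category.comp_id, prod.lift_fst_assoc, prod.lift_snd_assoc, ← Functor.map_comp_assoc] at h1 h2
    obtain ⟨r, hr⟩ := (yon S).map_surjective (sq.lift _ _ (h1.symm.trans h2))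
    have hr₁ : r ≫ t = d ≫ prod.fst :=
      (yon S).map_injective (by rw [Functor.map_comp, hr, sq.lift_fst])
    have hr₂ : r ≫ s = d ≫ prod.snd :=
      (yon S).map_injective (by rw [Functor.map_comp, hr, sq.lift_snd])
    refine ⟨(yon S).map r, ⟨?_, ?_⟩, ?_⟩
    · rw [← Functor.map_comp_assoc, hr₁, h1]
    · rw [← Functor.map_comp]
      congr 1
      apply prod.hom_ext <;> simp only [Category.assoc, prod.lift_fst, prod.lift_snd, hr₁, hr₂]
    · rintro c' ⟨-, hc'⟩
      obtain ⟨c', rfl⟩ := (yon S).map_surjective c'
      have := (yon S).map_injective (((yon S).map_comp _ _).trans hc')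
      congr 1
      refine (yon S).map_injective (sq.hom_ext ?_ ?_) <;> rw [← Functor.map_comp, ← Functor.map_comp]
      · rw [hr₁, ← this, Category.assoc, prod.lift_fst]
      · rw [hr₂, ← this, Category.assoc, prod.lift_snd]

theorem prop_prodLift_of_repWith_diag {P : MorphismProperty Scheme.{u}} (h : RepWith P (Limits.diag F))
    {R U V : Over S} {t : R ⟶ U} {s : R ⟶ V} {a : (yon S).obj U ⟶ F} {b : (yon S).obj V ⟶ F}
    (sq : IsPullback ((yon S).map t) ((yon S).map s) a b) : P (prod.lift t s).left :=
  h.2 _ _ _ (isPullback_prodLift sq)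

/-- A property of the diagonal can be tested on affine schemes. -/
theorem repWith_diag_of_affine {P : MorphismProperty Scheme.{u}} [P.IsStableUnderBaseChange]
    [IsZariskiLocalAtTarget P] (hF : Representable (Limits.diag F))
    (h : ∀ (T R : Over S) (a b : (yon S).obj T ⟶ F) (t s : R ⟶ T), IsAffine T.left →
      IsPullback ((yon S).map t) ((yon S).map s) a b → P (prod.lift t s).left) :
    RepWith P (Limits.diag F) := by
  refine ⟨hF, fun T V g fst snd sq => ?_⟩
  change P snd.left
  rw [IsZariskiLocalAtTarget.iff_of_openCover (P := P) T.left.affineCover]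
  intro i
  let T' : Over S := Over.mk (T.left.affineCover.f i ≫ T.hom)
  let c : T' ⟶ T := Over.homMk (T.left.affineCover.f i) rfl
  have sq₁ := IsPullback.of_hasPullback snd c
  have sqs := isPullback_stack sq sq₁
  obtain ⟨R, t, s, sqR⟩ := exists_isPullback_yon hF ((yon S).map c ≫ g ≫ prod.fst) ((yon S).map c ≫ g ≫ prod.snd)
  have hR := h T' R _ _ t s (inferInstanceAs (IsAffine (T.left.affineCover.X i))) sqR
  have sqd := isPullback_prodLift sqR
  have e : (yon S).map (Limits.diag T') ≫ prodComparison (yon S) T' T' ≫
      prod.map ((yon S).map c ≫ g ≫ prod.fst) ((yon S).map c ≫ g ≫ prod.snd) = (yon S).map c ≫ g := by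
    apply prod.hom_ext <;>
      simp only [Limits.diag, prodComparison, Category.assoc, prod.map_fst, prod.map_snd, prod.lift_fst_assoc,
        prod.lift_snd_assoc, ← Functor.map_comp_assoc, prod.lift_fst, prod.lift_snd] <;> simp
  let m : pullback snd c ⟶ R := (yon S).preimage (sqd.lift ((yon S).map (pullback.fst snd c) ≫ fst)
    ((yon S).map (pullback.snd snd c ≫ Limits.diag T'))
    (by rw [sqs.w, Functor.map_comp, Category.assoc, e]))
  have sqm : IsPullback m (pullback.snd snd c) (prod.lift t s) (Limits.diag T') := by
    apply isPullback_of_isPullback_yon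
    refine IsPullback.of_right ?_ ?_ sqd
    · rw [e]; simpa [m] using sqs
    · simp [m, ← Functor.map_comp]
  have hp : P (pullback.snd snd c).left := MorphismProperty.of_isPullback (isPullback_left sqm) hR
  have : P.RespectsIso := MorphismProperty.IsStableUnderBaseChange.respectsIso
  have sql := isPullback_left sq₁
  change P (pullback.snd snd.left c.left)
  rwa [← sql.isoPullback_inv_snd, MorphismProperty.cancel_left_of_respectsIso P]

end GrothLib.AlgSp

namespace GrothLib.AlgSp

open _root_.AlgSp

variable {S : Scheme.{u}} {F : Sp S}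

/-- A property of the diagonal can be tested on one atlas. -/
theorem repWith_diag_of_chart {P : MorphismProperty Scheme.{u}} [P.IsStableUnderBaseChange]
    (hP : FppfDescends P) (hF : Representable (Limits.diag F)) {R U : Over S} {t s : R ⟶ U}
    {p : (yon S).obj U ⟶ F} (pe : RepWith @Etale p) (ps : RepWith @Surjective p)
    (sq : IsPullback ((yon S).map t) ((yon S).map s) p p) (h : P (prod.lift t s).left) :
    RepWith P (Limits.diag F) := by
  have := isLocallySurjective_of_repWith (a := prod.map p p)
      (repWith_prodMap (repWith_mono pe fun _ _ g (_ : Etale g) => inferInstance)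
        (repWith_mono pe fun _ _ g (_ : Etale g) => inferInstance))
      (repWith_prodMap (repWith_mono pe fun _ _ g (_ : Etale g) => inferInstance)
        (repWith_mono pe fun _ _ g (_ : Etale g) => inferInstance))
      (repWith_prodMap ps ps)
  have : Sheaf.IsLocallySurjective (prodComparison (yon S) U U ≫ prod.map p p) := inferInstance
  exact repWith_of_base hF (prodComparison (yon S) U U ≫ prod.map p p) (isPullback_prodLift sq) hP
    ((repWith_yon_map_iff P _).2 h)

end GrothLib.AlgSp
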