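import Groth.Agent.Lib.AlgSp.Diag
import Groth.Agent.Lib.AlgSp.DiagAffine
import Groth.Agent.Lib.AlgSp.Presentation
import Groth.Agent.Lib.AlgSp.LqfDescent

/-!
# Quotients of schemes by etale equivalence relations

* `isAlgSpace_of_kernelPair`: a sheaf with a locally surjective map from a scheme whose kernel pair is a scheme
  with etale projections is an algebraic space.
* `isPullback_quotπ`: equivalence relations are effective in sheaves.
-/

universe u

open CategoryTheory CategoryTheory.Limits AlgebraicGeometry Opposite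

namespace GrothLib.AlgSp

open _root_.AlgSp

variable {S : Scheme.{u}}

/-- A map of sheaves along which maps from schemes lift fppf locally is locally surjective. -/
theorem isLocallySurjective_of_lifts {F G : Sp S} {a : F ⟶ G}
    (h : ∀ (U : Over S) (g : (yon S).obj U ⟶ G), ∃ (V : Over S) (c : V ⟶ U) (l : (yon S).obj V ⟶ F),
      Flat c.left ∧ LocallyOfFinitePresentation c.left ∧ Surjective c.left ∧ l ≫ a = (yon S).map c ≫ g) :
    Sheaf.IsLocallySurjective a where
  imageSieve_mem {U} x := by
    obtain ⟨V, c, l, hf, hp, hs, hl⟩ := h U ((J S).uliftYonedaEquiv.{u + 1}.symm x)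
    refine GrothendieckTopology.superset_covering _ ?_
      (ofArrows_mem (ι := PUnit.{u + 1}) (fun _ => V) (fun _ => c) (fun _ => hf) (fun _ => hp)
        (fun y => ⟨⟨⟩, hs.surj y⟩))
    rintro Z g ⟨_, k, _, ⟨⟨⟩⟩, rfl⟩
    refine ⟨(J S).uliftYonedaEquiv.{u + 1} ((yon S).map k ≫ l), ?_⟩
    erw [← GrothendieckTopology.uliftYonedaEquiv_comp]
    rw [Category.assoc, hl, ← Functor.map_comp_assoc,
      ← GrothendieckTopology.uliftYonedaEquiv_naturality, Equiv.apply_symm_apply]

theorem isLocallySurjective_of_isPullback {F G H Q : Sp S} {a : F ⟶ G} {b : H ⟶ G} {b' : Q ⟶ F}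
    {a' : Q ⟶ H} (sq : IsPullback b' a' a b) [Sheaf.IsLocallySurjective a] :
    Sheaf.IsLocallySurjective a' := by
  refine isLocallySurjective_of_lifts fun U g => ?_
  obtain ⟨V, c, l, hf, hp, hs, hl⟩ := exists_fppf_lift a (g ≫ b)
  exact ⟨V, c, sq.lift l ((yon S).map c ≫ g) (by rw [Category.assoc, hl]), hf, hp, hs, sq.lift_snd _ _ _⟩

theorem isLocallySurjective_comp {F G H : Sp S} (a : F ⟶ G) (b : G ⟶ H) [Sheaf.IsLocallySurjective a]
    [Sheaf.IsLocallySurjective b] : Sheaf.IsLocallySurjective (a ≫ b) :=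
  inferInstanceAs (Presheaf.IsLocallySurjective (J S) (a.hom ≫ b.hom))

theorem isLocallySurjective_prodMap {X Y X' Y' : Sp S} (f : X ⟶ Y) (g : X' ⟶ Y')
    [Sheaf.IsLocallySurjective f] [Sheaf.IsLocallySurjective g] :
    Sheaf.IsLocallySurjective (prod.map f g) := by
  rw [show prod.map f g = prod.map f (𝟙 X') ≫ prod.map (𝟙 Y) g by simp]
  have := isLocallySurjective_of_isPullback (isPullback_prodMap_left f X')
  have := isLocallySurjective_of_isPullback (isPullback_prodMap_right g Y)
  exact isLocallySurjective_comp _ _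

theorem mono_prodLift_of_isEqvRel {R U : Over S} {s t : R ⟶ U} (h : IsEqvRel s t) :
    Mono (prod.lift t s).left := by
  have : Mono (prod.lift t s) := ⟨fun a b e => h.injective _ a b
    (by simpa only [Category.assoc, prod.lift_fst] using congrArg (fun x => x ≫ prod.fst) e)
    (by simpa only [Category.assoc, prod.lift_snd] using congrArg (fun x => x ≫ prod.snd) e)⟩
  exact inferInstanceAs (Mono ((Over.forget S).map (prod.lift t s)))

/-- A sheaf covered by a scheme with etale, representable kernel pair is an algebraic space. -/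
theorem isAlgSpace_of_kernelPair {F : Sp S} {R U : Over S} {s t : R ⟶ U} {p : (yon S).obj U ⟶ F}
    [Sheaf.IsLocallySurjective p] (sq : IsPullback ((yon S).map t) ((yon S).map s) p p)
    (hs : Etale s.left) (ht : Etale t.left) :
    IsAlgSpace F ∧ RepWith @Etale p ∧ RepWith @Surjective p := by
  have heq := isEqvRel_of_isPullback sq
  have := mono_prodLift_of_isEqvRel heq
  have hlft : LocallyOfFiniteType (prod.lift t s).left := by
    have : LocallyOfFiniteType ((prod.lift t s).left ≫ (prod.fst : U ⨯ U ⟶ U).left) := by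
      rw [← Over.comp_left, prod.lift_fst]; infer_instance
    exact locallyOfFiniteType_of_comp _ (prod.fst : U ⨯ U ⟶ U).left
  have hlqf : LocallyQuasiFinite (prod.lift t s).left := by
    have : LocallyQuasiFinite ((prod.lift t s).left ≫ (prod.fst : U ⨯ U ⟶ U).left) := by
      rw [← Over.comp_left, prod.lift_fst]; exact locallyQuasiFinite_of_unramified _
    exact LocallyQuasiFinite.of_comp _ (prod.fst : U ⨯ U ⟶ U).left
  have : Sheaf.IsLocallySurjective (prodComparison (yon S) U U ≫ prod.map p p) :=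
    have := isLocallySurjective_prodMap p p
    isLocallySurjective_comp _ _
  have hd : Representable (Limits.diag F) := representable_of_base_lqf _ (isPullback_prodLift sq)
    ((repWith_yon_map_iff _ _).2 hlqf) ((repWith_yon_map_iff _ _).2 hlft)
    ((repWith_yon_map_iff _ _).2 (inferInstanceAs (IsSeparated (prod.lift t s).left)))
  have hp : Representable p := representable_diag_iff.1 hd p
  have hpe : RepWith @Etale p :=
    repWith_of_base hp p sq fppfDescends_etale ((repWith_yon_map_iff _ _).2 hs)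
  have hps : RepWith @Surjective p := by
    refine repWith_of_base hp p sq fppfDescends_surjective ((repWith_yon_map_iff _ _).2 ⟨fun x => ?_⟩)
    obtain ⟨r, -, hr⟩ := (heq.equivalence U).refl (𝟙 U)
    exact ⟨r.left x, by rw [← Scheme.Hom.comp_apply, ← Over.comp_left, hr]; rfl⟩
  exact ⟨⟨hd, U, p, hpe, hps⟩, hpe, hps⟩

section Effective

variable {R U : Over S} {s t : R ⟶ U}

/-- The relation on `T`-points. -/
def eqvSetoid (h : IsEqvRel s t) (T : Over S) : Setoid (T ⟶ U) :=
  ⟨_, h.equivalence T⟩

/-- The presheaf quotient `T ↦ U(T)/R(T)`. -/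
def quotPresheaf (h : IsEqvRel s t) : (Over S)ᵒᵖ ⥤ Type (u + 1) where
  obj T := ULift.{u + 1} (Quotient (eqvSetoid h T.unop))
  map {T T'} g := ↾fun x => ⟨Quotient.map (sa := eqvSetoid h T.unop) (sb := eqvSetoid h T'.unop) (g.unop ≫ ·)
    (by rintro _ _ ⟨r, rfl, rfl⟩; exact ⟨g.unop ≫ r, Category.assoc _ _ _, Category.assoc _ _ _⟩) x.down⟩
  map_id T := by
    ext ⟨x⟩
    induction x using Quotient.inductionOn with
    | h a => exact congrArg (Quotient.mk (eqvSetoid h T.unop)) (Category.id_comp a)
  map_comp {T T' T''} g g' := by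
    ext ⟨x⟩
    induction x using Quotient.inductionOn with
    | h a => exact congrArg (Quotient.mk (eqvSetoid h T''.unop)) (Category.assoc g'.unop g.unop a)

/-- The projection onto the presheaf quotient. -/
def quotPresheafπ (h : IsEqvRel s t) : yoneda.obj U ⋙ uliftFunctor.{u + 1, u} ⟶ quotPresheaf h where
  app T := ↾fun x => ⟨Quotient.mk (eqvSetoid h T.unop) x.down⟩
  naturality _ _ _ := rfl

theorem isPullback_quotPresheafπ (h : IsEqvRel s t) :
    IsPullback (Functor.whiskerRight (yoneda.map t) uliftFunctor.{u + 1, u})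
      (Functor.whiskerRight (yoneda.map s) uliftFunctor.{u + 1, u}) (quotPresheafπ h) (quotPresheafπ h) := by
  refine IsPullback.of_forall_isPullback_app fun T => (Types.isPullback_iff _ _ _ _).2 ⟨?_, ?_, ?_⟩
  · ext ⟨r⟩
    exact congrArg ULift.up (Quotient.sound (s := eqvSetoid h T.unop) ⟨r, rfl, rfl⟩)
  · rintro ⟨r⟩ ⟨r'⟩ ⟨e₁, e₂⟩
    exact congrArg ULift.up (h.injective _ r r' (congrArg ULift.down e₁) (congrArg ULift.down e₂))
  · rintro ⟨a⟩ ⟨b⟩ e
    obtain ⟨r, hr₁, hr₂⟩ := Quotient.exact (s := eqvSetoid h T.unop) (congrArg ULift.down e)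
    exact ⟨⟨r⟩, congrArg ULift.up hr₁, congrArg ULift.up hr₂⟩

theorem epi_quotPresheafπ (h : IsEqvRel s t) : Epi (quotPresheafπ h) := by
  have : ∀ T, Epi ((quotPresheafπ h).app T) := fun T => (epi_iff_surjective _).2 fun ⟨x⟩ => by
    induction x using Quotient.inductionOn with
    | h a => exact ⟨⟨a⟩, rfl⟩
  exact NatTrans.epi_of_epi_app _

/-- Equivalence relations are effective in sheaves. -/
theorem isPullback_quotπ (h : IsEqvRel s t) :
    IsPullback (QuotSh.repMap Scheme.fppfPrecoverage t) (QuotSh.repMap Scheme.fppfPrecoverage s)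
      (QuotSh.quotπ Scheme.fppfPrecoverage s t) (QuotSh.quotπ Scheme.fppfPrecoverage s t) := by
  let a := presheafToSheaf (J S) (Type (u + 1))
  have sq := (isPullback_quotPresheafπ h).map a
  have := epi_quotPresheafπ h
  have := IsRegularEpiCategory.regularEpiOfEpi (a.map (quotPresheafπ h))
  obtain ⟨v, hv⟩ := IsRegularEpi.exists_of_isKernelPair (a.map (quotPresheafπ h)) sq
    (QuotSh.quotπ Scheme.fppfPrecoverage s t) (QuotSh.quot_condition Scheme.fppfPrecoverage s t).symm
  let d : QuotSh.quot Scheme.fppfPrecoverage s t ⟶ a.obj (quotPresheaf h) :=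
    coequalizer.desc (a.map (quotPresheafπ h)) sq.w.symm
  have hd : QuotSh.quotπ Scheme.fppfPrecoverage s t ≫ d = a.map (quotPresheafπ h) := coequalizer.π_desc _ _
  have : IsIso v := ⟨d, (cancel_epi (a.map (quotPresheafπ h))).1 (by rw [reassoc_of% hv, hd, Category.comp_id]),
    coequalizer.hom_ext (by
      change QuotSh.quotπ Scheme.fppfPrecoverage s t ≫ d ≫ v = QuotSh.quotπ Scheme.fppfPrecoverage s t ≫ 𝟙 _
      rw [reassoc_of% hd, hv, Category.comp_id])⟩
  exact sq.of_iso (Iso.refl _) (Iso.refl _) (Iso.refl _) (asIso v) (by simp [a]) (by simp [a])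
    (by simpa using hv) (by simpa using hv)

/-- The quotient map from the scheme. -/
noncomputable abbrev yonQuotπ (s t : R ⟶ U) : (yon S).obj U ⟶ QuotSh.quot Scheme.fppfPrecoverage s t :=
  (QuotSh.repIsoUliftYoneda Scheme.fppfPrecoverage U).inv ≫ QuotSh.quotπ Scheme.fppfPrecoverage s t

theorem repIsoUliftYoneda_naturality {V W : Over S} (g : V ⟶ W) :
    QuotSh.repMap Scheme.fppfPrecoverage g ≫ (QuotSh.repIsoUliftYoneda Scheme.fppfPrecoverage W).hom =
      (QuotSh.repIsoUliftYoneda Scheme.fppfPrecoverage V).hom ≫ (yon S).map g :=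
  by
  rw [← Iso.eq_comp_inv]
  simp only [Category.assoc]
  rw [← Iso.inv_comp_eq]
  apply ObjectProperty.hom_ext
  exact (toSheafify_naturality (J S) ((yon S).map g).hom).symm

theorem isPullback_yonQuotπ (h : IsEqvRel s t) :
    IsPullback ((yon S).map t) ((yon S).map s) (yonQuotπ s t) (yonQuotπ s t) := by
  refine (isPullback_quotπ h).of_iso (QuotSh.repIsoUliftYoneda _ R) (QuotSh.repIsoUliftYoneda _ U)
    (QuotSh.repIsoUliftYoneda _ U) (Iso.refl _) (repIsoUliftYoneda_naturality t)
    (repIsoUliftYoneda_naturality s) ?_ ?_ <;> simp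

theorem isLocallySurjective_yonQuotπ (s t : R ⟶ U) : Sheaf.IsLocallySurjective (yonQuotπ s t) := by
  have : Epi (QuotSh.quotπ Scheme.fppfPrecoverage s t) := coequalizer.π_epi
  rw [Sheaf.isLocallySurjective_iff_epi]
  exact epi_comp _ _

end Effective

end GrothLib.AlgSp
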