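import Groth.Agent.Lib.AlgSp.LocP
import Groth.Agent.Lib.AlgSp.Points

/-!
# Maps on points of morphisms with local properties
-/

universe u

open CategoryTheory CategoryTheory.Limits AlgebraicGeometry Opposite Topology

namespace GrothLib.AlgSp

open _root_.AlgSp

variable {S : Scheme.{u}}

/-- A morphism of algebraic spaces with charts that are open maps is open on points. -/
theorem isOpenMap_map_of_locP {P : MorphismProperty Scheme.{u}}
    (hP : ∀ ⦃A B : Scheme.{u}⦄ (h : A ⟶ B), P h → IsOpenMap h) {X Y : Sp S} (hX : IsAlgSpace X)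
    (hY : IsAlgSpace Y) {f : X ⟶ Y} (hf : LocP P f) : IsOpenMap (Points.map f) := by
  obtain ⟨V, q, qe, qs⟩ := hY.atlas
  obtain ⟨U, p, α, pe, hp, hps⟩ := exists_chart_over hX hY f q qe
  intro W hW
  have e : Points.map f '' W = Points.ofPt q '' ((fun x => α.left x) '' (Points.ofPt p ⁻¹' W)) := by
    rw [← Set.image_comp]
    conv_lhs => rw [← (surjective_ofPt_of_repWith (hps qs)).image_preimage W, ← Set.image_comp]
    refine Set.image_congr fun x _ => ?_
    change Points.map f (Points.ofPt p x) = Points.ofPt q (α.left x)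
    rw [Points.map_ofPt, hp, ofPt_map_comp]
  rw [e]
  exact isOpenMap_ofPt_of_etale qe _
    (hP _ (hf p q α pe qe hp) _ (hW.preimage (Points.continuous_ofPt p)))

theorem isUnivOpenMor_of_locP {P : MorphismProperty Scheme.{u}} (hPl : EtLocal P)
    (hP : ∀ ⦃A B : Scheme.{u}⦄ (h : A ⟶ B), P h → IsOpenMap h) {X Y : Sp S} (hX : IsAlgSpace X)
    (hY : IsAlgSpace Y) {f : X ⟶ Y} (hf : LocP P f) : IsUnivOpenMor f :=
  fun _ _ hZ _ _ _ sq =>
    isOpenMap_map_of_locP hP (isAlgSpace_pullback hY.diag hX hZ sq) hZ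
      (hPl.locP_of_isPullback hX hY hZ sq hf)

theorem isOpenMap_map_of_isEtaleMor {X Y : Sp S} (hX : IsAlgSpace X) (hY : IsAlgSpace Y) {f : X ⟶ Y}
    (hf : IsEtaleMor f) : IsOpenMap (Points.map f) :=
  isOpenMap_map_of_locP (fun _ _ h hh => by have : Etale h := hh; exact h.isOpenMap) hX hY
    (locP_of_isEtaleMor hY hf)

end GrothLib.AlgSp
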