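import Mathlib.AlgebraicGeometry.Morphisms.FlatMono
import Groth.Prelude.Def_AlgSpCov
import Groth.Agent.Lib.AlgSp.LocP
import Groth.Agent.Lib.AlgSp.LocPPoints
import Groth.Agent.Lib.AlgSp.SourceDescent
import Groth.Agent.Lib.FppfSource.Scheme
import Groth.Agent.Lib.DiagGrp.KernelFP

/-!
# Properties of morphisms of algebraic spaces local on the source

* `exists_chart_cover`: a covering family pulled back to an etale chart, refined by schemes.
* `locP_of_cover_source`, `isLocalOnSource_of`: locality on the source from the scheme-level descent.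
-/

universe u

open CategoryTheory CategoryTheory.Limits AlgebraicGeometry Topology

namespace GrothLib.AlgSp

open _root_.AlgSp

variable {S : Scheme.{u}}

/-- `P` descends along surjective `C`-morphisms on the source. -/
def SrcDescends (C P : MorphismProperty Scheme.{u}) : Prop :=
  ∀ ⦃X' X Y : Scheme.{u}⦄ (c : X' ⟶ X) (f : X ⟶ Y), C c → Surjective c → P (c ≫ f) → P f

/-- A covering family pulled back along an etale chart can be refined by schemes. -/
theorem exists_chart_cover {C : MorphismProperty Scheme.{u}} (hC : EtLocal C)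
    (hCet : ∀ ⦃A B : Scheme.{u}⦄ (c : A ⟶ B), Etale c → C c) {ι : Type u} {X : Sp S} {Xi : ι → Sp S}
    {g : ∀ i, Xi i ⟶ X} (hX : IsAlgSpace X) (hXi : ∀ i, IsAlgSpace (Xi i)) (hg : ∀ i, LocP C (g i))
    (hs : ∀ x : Points X, ∃ i, x ∈ Set.range (Points.map (g i))) {U : Over S} (a : (yon S).obj U ⟶ X)
    (ha : RepWith @Etale a) :
    ∃ (W : ι → Over S) (c : ∀ i, W i ⟶ U) (b : ∀ i, (yon S).obj (W i) ⟶ Xi i),
      (∀ i, RepWith @Etale (b i)) ∧ (∀ i, (yon S).map (c i) ≫ a = b i ≫ g i) ∧ (∀ i, C (c i).left) ∧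
      (∀ u : ↥U.left, ∃ i, u ∈ Set.range (c i).left) := by
  have := hC.baseChange
  have key : ∀ i, ∃ (W : Over S) (c : W ⟶ U) (b : (yon S).obj W ⟶ Xi i), RepWith @Etale b ∧
      (yon S).map c ≫ a = b ≫ g i ∧ C c.left ∧
      ∀ u : ↥U.left, Points.map a (Points.schemeHomeo U u) ∈ Set.range (Points.map (g i)) →
        u ∈ Set.range c.left := by
    intro i
    have sq := IsPullback.of_hasPullback (g i) a
    have hP := isAlgSpace_pullback' hX (hXi i) (IsAlgSpace.yon_obj U) (g i) a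
    obtain ⟨W, w, we, ws⟩ := hP.atlas
    obtain ⟨c, hc⟩ := (yon S).map_surjective (w ≫ pullback.snd (g i) a)
    refine ⟨W, c, w ≫ pullback.fst (g i) a, repWith_comp we (repWith_of_isPullback sq.flip ha), ?_, ?_, ?_⟩
    · rw [hc, Category.assoc, Category.assoc, pullback.condition]
    · have h := hC.locP_comp (IsAlgSpace.yon_obj W) hP (IsAlgSpace.yon_obj U)
        (hC.locP_of_repWith hP (repWith_mono we hCet)) (hC.locP_of_isPullback (hXi i) hX (IsAlgSpace.yon_obj U) sq (hg i))
      rw [← hc] at h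
      exact h (𝟙 _) (𝟙 _) c (repWith_id _ _) (repWith_id _ _) (by rw [Category.id_comp, Category.comp_id])
    · rintro u ⟨y, hy⟩
      obtain ⟨x, -, hx⟩ := exists_of_isPullback sq hy
      obtain ⟨v, rfl⟩ := surjective_ofPt_of_repWith ws x
      refine ⟨v, (Points.schemeHomeo U).injective ?_⟩
      rw [← hx, Points.ofPt_eq_map_ofScheme, ← Points.map_comp, ← hc, map_yon_ofPt]
      rfl
  choose W c b hb hw hCc hr using key
  refine ⟨W, c, b, hb, hw, hCc, fun u => ?_⟩
  obtain ⟨i, hi⟩ := hs (Points.map a (Points.schemeHomeo U u))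
  exact ⟨i, hr i u hi⟩

/-- Properties of morphisms which descend on the source descend along coverings. -/
theorem locP_of_cover_source {C P : MorphismProperty Scheme.{u}} (hC : EtLocal C) [IsZariskiLocalAtSource C]
    (hCet : ∀ ⦃A B : Scheme.{u}⦄ (c : A ⟶ B), Etale c → C c) (hP : EtLocal P) [IsZariskiLocalAtSource P]
    (D : SrcDescends C P) {ι : Type u} {X Y : Sp S} {Xi : ι → Sp S}
    {g : ∀ i, Xi i ⟶ X} (hX : IsAlgSpace X) (hY : IsAlgSpace Y) (hXi : ∀ i, IsAlgSpace (Xi i))
    (hg : ∀ i, LocP C (g i)) (hs : ∀ x : Points X, ∃ i, x ∈ Set.range (Points.map (g i))) {f : X ⟶ Y}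
    (h : ∀ i, LocP P (g i ≫ f)) : LocP P f := by
  obtain ⟨V, q, qe, qs⟩ := hY.atlas
  obtain ⟨U, a, α, ae, ha, has⟩ := exists_chart_over hX hY f q qe
  refine hP.locP_of_chart (a := a) (b := q) (h := α) ae (has qs) qe ha ?_
  obtain ⟨W, c, b, hb, hw, hCc, hcov⟩ := exists_chart_cover hC hCet hX hXi hg hs a ae
  let c' : (∐ fun i => (W i).left) ⟶ U.left := Sigma.desc fun i => (c i).left
  refine D c' α.left ?_ ⟨fun u => ?_⟩ ?_
  · rw [IsZariskiLocalAtSource.iff_of_openCover (P := C) (sigmaOpenCover _)]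
    intro i
    change C (Sigma.ι (fun i => (W i).left) i ≫ c')
    rw [Sigma.ι_desc]
    exact hCc i
  · obtain ⟨i, v, rfl⟩ := hcov u
    exact ⟨Sigma.ι (fun i => (W i).left) i v, by rw [← Scheme.Hom.comp_apply, Sigma.ι_desc]⟩
  · rw [IsZariskiLocalAtSource.iff_of_openCover (P := P) (sigmaOpenCover _)]
    intro i
    change P (Sigma.ι (fun i => (W i).left) i ≫ c' ≫ α.left)
    rw [Sigma.ι_desc_assoc, ← Over.comp_left]
    exact h i (b i) q (c i ≫ α) (hb i) qe (by
      rw [Functor.map_comp, Category.assoc, ← ha, reassoc_of% hw i])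

theorem locP_of_surjective_source {C P : MorphismProperty Scheme.{u}} (hC : EtLocal C) [IsZariskiLocalAtSource C]
    (hCet : ∀ ⦃A B : Scheme.{u}⦄ (c : A ⟶ B), Etale c → C c) (hP : EtLocal P) [IsZariskiLocalAtSource P]
    (D : SrcDescends C P) {X' X Y : Sp S} (hX' : IsAlgSpace X') (hX : IsAlgSpace X) (hY : IsAlgSpace Y)
    {g : X' ⟶ X} (hg : LocP C g) (hs : IsSurjectiveMor g) {f : X ⟶ Y} (h : LocP P (g ≫ f)) : LocP P f :=
  locP_of_cover_source hC hCet hP D (ι := PUnit.{u + 1}) (Xi := fun _ => X') (g := fun _ => g) hX hY (fun _ => hX')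
    (fun _ => hg) (fun x => ⟨⟨⟩, hs x⟩) fun _ => h

theorem srcDescends_flat : SrcDescends.{u} @Flat @Flat := by
  intro X' X Y c f hc hs h
  have : Flat c := hc
  have : Flat (c ≫ f) := h
  refine Flat.of_stalkMap f fun x => ?_
  obtain ⟨x', rfl⟩ := hs.surj x
  have h1 : ((c.stalkMap x').hom.comp (f.stalkMap (c x')).hom).Flat := by
    have h1 := Flat.stalkMap (c ≫ f) x'
    rw [Scheme.Hom.stalkMap_comp] at h1
    exact h1
  have h2 := Flat.stalkMap c x'
  algebraize [(f.stalkMap (c x')).hom, (c.stalkMap x').hom, (c.stalkMap x').hom.comp (f.stalkMap (c x')).hom]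
  have : IsLocalHom (algebraMap (X.presheaf.stalk (c x')) (X'.presheaf.stalk x')) :=
    inferInstanceAs (IsLocalHom (c.stalkMap x').hom)
  have : Module.FaithfullyFlat (X.presheaf.stalk (c x')) (X'.presheaf.stalk x') :=
    Module.FaithfullyFlat.of_flat_of_isLocalHom
  exact flat_of_faithfullyFlat (C := X'.presheaf.stalk x')

theorem srcDescends_fppf {P : MorphismProperty Scheme.{u}} (hP : GrothLib.FppfSource.FppfSourceDescends P) :
    SrcDescends.{u} (@Flat ⊓ @LocallyOfFinitePresentation) P :=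
  fun _ _ _ c f hc hs h => hP c f hc.1 hc.2 hs h

theorem srcDescends_mono {C C' P : MorphismProperty Scheme.{u}} (hC : ∀ ⦃A B : Scheme.{u}⦄ (c : A ⟶ B), C c → C' c)
    (h : SrcDescends C' P) : SrcDescends C P :=
  fun _ _ _ c f hc hs hcf => h c f (hC c hc) hs hcf

theorem srcDescends_etale {P : MorphismProperty Scheme.{u}} (h : EtaleSourceDescends P) :
    SrcDescends.{u} @Etale P :=
  fun _ _ _ c f hc hs hcf => h c f hc hs hcf

/-- Etale morphisms descend along fppf coverings of the source. -/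
theorem srcDescends_fppf_etale : SrcDescends.{u} (@Flat ⊓ @LocallyOfFinitePresentation) @Etale := by
  intro X' X Y c f hc hs h
  have : Flat c := hc.1
  have : LocallyOfFinitePresentation c := hc.2
  have : Etale (c ≫ f) := h
  have hf : Smooth f := GrothLib.FppfSource.fppfSourceDescends_smooth c f hc.1 hc.2 hs inferInstance
  let m : pullback (c ≫ f) (c ≫ f) ⟶ pullback f f :=
    pullback.map _ _ _ _ c c (𝟙 Y) (by simp) (by simp)
  have e : c ≫ pullback.diagonal f = pullback.diagonal (c ≫ f) ≫ m := by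
    apply pullback.hom_ext
    · rw [Category.assoc, Category.assoc, pullback.diagonal_fst, Category.comp_id, pullback.lift_fst,
        pullback.diagonal_fst_assoc]
    · rw [Category.assoc, Category.assoc, pullback.diagonal_snd, Category.comp_id, pullback.lift_snd,
        pullback.diagonal_snd_assoc]
  have : Flat m := MorphismProperty.pullbackMap (P := @Flat) hc.1 hc.1 rfl rfl
  have : Flat (pullback.diagonal f) := by
    refine srcDescends_flat c _ hc.1 hs ?_
    rw [e]
    infer_instance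
  have : LocallyOfFinitePresentation (pullback.diagonal f) :=
    GrothLib.DiagGrp.lfp_of_comp_of_lft _ (pullback.fst f f) (by rw [pullback.diagonal_fst]; infer_instance) inferInstance
  have : IsOpenImmersion (pullback.diagonal f) := IsOpenImmersion.of_flat_of_mono _
  exact Etale.of_formallyUnramified_of_flat f

end GrothLib.AlgSp

namespace GrothLib.AlgSp

open _root_.AlgSp

variable {S : Scheme.{u}}

/-- The pattern of locality on the source. -/
theorem isLocalOnSource_of {C P : MorphismProperty Scheme.{u}} (hC : EtLocal C) [IsZariskiLocalAtSource C]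
    (hCet : ∀ ⦃A B : Scheme.{u}⦄ (c : A ⟶ B), Etale c → C c) (hP : EtLocal P) [IsZariskiLocalAtSource P]
    (hCP : ∀ ⦃A B : Scheme.{u}⦄ (c : A ⟶ B), C c → P c) (D : SrcDescends C P) {τ : CovNotion S}
    (hτ : ∀ ⦃ι : Type u⦄ ⦃X : Sp S⦄ (Xi : ι → Sp S) (g : ∀ i, Xi i ⟶ X), IsAlgSpace X →
      (∀ i, IsAlgSpace (Xi i)) → τ Xi g →
      (∀ i, LocP C (g i)) ∧ ∀ x : Points X, ∃ i, x ∈ Set.range (Points.map (g i))) :
    IsLocalOnSource τ (LocP (S := S) P) := by
  intro ι X Xi g hX hXi hc Y f hY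
  obtain ⟨hg, hs⟩ := hτ Xi g hX hXi hc
  exact ⟨fun h i => hP.locP_comp (hXi i) hX hY (locP_mono hCP (hg i)) h,
    fun h => locP_of_cover_source hC hCet hP D hX hY hXi hg hs h⟩

theorem isOpenMap_of_cover_source {ι : Type u} {X Y : Sp S} {Xi : ι → Sp S} {g : ∀ i, Xi i ⟶ X}
    (hs : ∀ x : Points X, ∃ i, x ∈ Set.range (Points.map (g i))) {f : X ⟶ Y}
    (h : ∀ i, IsOpenMap (Points.map (g i ≫ f))) : IsOpenMap (Points.map f) := by
  intro A hA
  have e : Points.map f '' A = ⋃ i, Points.map (g i ≫ f) '' (Points.map (g i) ⁻¹' A) := by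
    ext y
    simp only [Set.mem_iUnion, Set.mem_image, Set.mem_preimage]
    constructor
    · rintro ⟨x, hx, rfl⟩
      obtain ⟨i, z, rfl⟩ := hs x
      exact ⟨i, z, hx, Points.map_comp _ _ _⟩
    · rintro ⟨i, z, hz, rfl⟩
      exact ⟨_, hz, (Points.map_comp _ _ _).symm⟩
  rw [e]
  exact isOpen_iUnion fun i => h i _ (hA.preimage (Points.continuous_map _))

theorem isUnivOpenMor_of_cover_source {ι : Type u} {X Y : Sp S} {Xi : ι → Sp S} {g : ∀ i, Xi i ⟶ X}
    (hs : ∀ x : Points X, ∃ i, x ∈ Set.range (Points.map (g i))) {f : X ⟶ Y}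
    (h : ∀ i, IsUnivOpenMor (g i ≫ f)) : IsUnivOpenMor f := by
  intro Z Z' hZ k fst snd sq
  refine isOpenMap_of_cover_source (g := fun i => pullback.snd (g i) fst) (fun x => ?_) fun i =>
    h i hZ k _ _ ((IsPullback.of_hasPullback (g i) fst).paste_vert sq)
  obtain ⟨i, z, hz⟩ := hs (Points.map fst x)
  obtain ⟨w, -, hw⟩ := exists_of_isPullback (IsPullback.of_hasPullback (g i) fst) hz
  exact ⟨i, w, hw⟩

theorem fppfCover_props {ι : Type u} {X : Sp S} {Xi : ι → Sp S} {g : ∀ i, Xi i ⟶ X} (h : IsFppfCover Xi g) :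
    (∀ i, LocP (@Flat ⊓ @LocallyOfFinitePresentation) (g i)) ∧
      ∀ x : Points X, ∃ i, x ∈ Set.range (Points.map (g i)) :=
  ⟨fun i U V a b k ha hb w => ⟨(h.1 i).1 a b k ha hb w, (h.1 i).2 a b k ha hb w⟩, h.2⟩

theorem isUnivOpenMor_of_flat_lfp {X Y : Sp S} (hX : IsAlgSpace X) (hY : IsAlgSpace Y) {f : X ⟶ Y}
    (hf : LocP (@Flat ⊓ @LocallyOfFinitePresentation) f) : IsUnivOpenMor f := by
  refine isUnivOpenMor_of_locP (EtLocal.flat.inf EtLocal.lfp) ?_ hX hY hf
  rintro A B h ⟨h1, h2⟩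
  have : Flat h := h1
  have : LocallyOfFinitePresentation h := h2
  exact h.isOpenMap

end GrothLib.AlgSp
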