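import Groth.Agent.Lib.AlgSp.PartTrans
import Groth.Agent.Lib.AlgSp.Quotient
import Groth.Agent.Lib.AlgSp.FormalLift
import Groth.Agent.Lib.AlgSp.SourceLocal
import Groth.Agent.Lib.GrpdQuot.QuotCriteria
import Groth.Agent.Lib.GrpdQuot.EquivRel

/-!
# An etale chart from a flat, locally quasi-finite one

`exists_etale_chart`: if `yon U ⟶ F` is locally surjective with kernel pair `R`, `s : R ⟶ U` is separated,
flat, lfp and locally quasi-finite, and finite sets of points of `U` lie in affine opens, then `F` has an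
etale surjective map from a scheme.
-/

universe u

open CategoryTheory CategoryTheory.Limits AlgebraicGeometry Opposite Topology

namespace GrothLib.AlgSp

open _root_.AlgSp

variable {S : Scheme.{u}}

/-- A morphism from `T` with image in an open of the target factors through the open. -/
theorem exists_lift_opens {T X : Over S} (f : T ⟶ X) (O : X.left.Opens) (h : Set.range f.left ⊆ O) :
    ∃ g : T ⟶ Over.mk (O.ι ≫ X.hom), g ≫ (Over.homMk O.ι rfl : Over.mk (O.ι ≫ X.hom) ⟶ X) = f := by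
  have h' : Set.range f.left ⊆ Set.range O.ι := by rwa [Scheme.Opens.range_ι]
  refine ⟨Over.homMk (IsOpenImmersion.lift O.ι f.left h') ?_, Over.OverMorphism.ext (IsOpenImmersion.lift_fac _ _ _)⟩
  change IsOpenImmersion.lift O.ι f.left h' ≫ O.ι ≫ X.hom = T.hom
  rw [IsOpenImmersion.lift_fac_assoc]
  exact Over.w f

theorem range_opensι_subset {T X : Over S} (O : X.left.Opens) (g : T ⟶ Over.mk (O.ι ≫ X.hom)) :
    Set.range (g ≫ (Over.homMk O.ι rfl : Over.mk (O.ι ≫ X.hom) ⟶ X)).left ⊆ O := by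
  rintro _ ⟨t, rfl⟩
  exact (g.left t).2

variable {R U : Over S} {s t : R ⟶ U}

/-- Two maps to `R` with the same image in `U` under `t` and `s` agree, at the level of schemes. -/
theorem scheme_hom_ext (heq : IsEqvRel s t) {Z : Scheme.{u}} (a b : Z ⟶ R.left)
    (ht : a ≫ t.left = b ≫ t.left) (hs : a ≫ s.left = b ≫ s.left) : a = b := by
  let P : Over S := Over.mk (a ≫ R.hom)
  have hb : b ≫ R.hom = P.hom := by
    change b ≫ R.hom = a ≫ R.hom
    rw [← Over.w s, reassoc_of% hs]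
  exact congrArg CommaMorphism.left (heq.injective P (Over.homMk a rfl) (Over.homMk b hb)
    (Over.OverMorphism.ext ht) (Over.OverMorphism.ext hs))

/-- The translation sends the tautological point to the point given by the relation. -/
theorem transl_section (heq : IsEqvRel s t) {e : U ⟶ R} (he : e ≫ s = 𝟙 U) (het : e ≫ t = 𝟙 U) {T : Over S}
    {b b' : T ⟶ U} {θ : pullback s.left b'.left ⟶ pullback s.left b.left} (hθ : IsTransl t b b' θ)
    (r : T ⟶ R) (h₁ : r ≫ t = b') (h₂ : r ≫ s = b) :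
    pullback.lift (b' ≫ e).left (𝟙 _) (by rw [← Over.comp_left, Category.assoc, he, Category.comp_id, Category.id_comp]) ≫ θ =
      pullback.lift r.left (𝟙 _) (by rw [← Over.comp_left, h₂, Category.id_comp]) := by
  apply pullback.hom_ext
  · rw [Category.assoc, pullback.lift_fst]
    refine scheme_hom_ext heq _ _ ?_ ?_
    · simp only [Category.assoc, hθ.fst_t, pullback.lift_fst_assoc, ← Over.comp_left, het, Category.comp_id, h₁]
    · simp only [Category.assoc, pullback.condition, reassoc_of% hθ.snd, pullback.lift_snd_assoc,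
        ← Over.comp_left, h₂, Category.id_comp]
  · rw [Category.assoc, hθ.snd, pullback.lift_snd, pullback.lift_snd]

theorem Part.containsId_iff_of_same (heq : IsEqvRel s t) {e : U ⟶ R} (he : e ≫ s = 𝟙 U) (het : e ≫ t = 𝟙 U)
    {T : Over S} {a a' : Part s T} (h : a.Same t a') (r : T ⟶ R) (h₁ : r ≫ t = a'.b) (h₂ : r ≫ s = a.b) :
    a'.ContainsId e he ↔ Set.range (pullback.lift r.left (𝟙 _)
      (by rw [← Over.comp_left, h₂, Category.id_comp]) : T.left ⟶ pullback s.left a.b.left) ⊆ a.Z := by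
  obtain ⟨θ, -, hθ, hZ⟩ := h
  rw [Part.ContainsId, ← transl_section heq he het hθ r h₁ h₂, hZ]
  rw [← Set.image_subset_iff, ← Set.range_comp]
  rfl

theorem Part.containsId_restr_iff {e : U ⟶ R} (he : e ≫ s = 𝟙 U) {T T' : Over S} (φ : T' ⟶ T) (a : Part s T) :
    (a.restr φ).ContainsId e he ↔ Set.range φ.left ⊆
      (pullback.lift (a.b ≫ e).left (𝟙 _) (by rw [← Over.comp_left, Category.assoc, he, Category.comp_id, Category.id_comp]) :
        T.left ⟶ pullback s.left a.b.left) ⁻¹' a.Z := by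
  have key : pullback.lift ((φ ≫ a.b) ≫ e).left (𝟙 _)
      (by rw [← Over.comp_left, Category.assoc, he, Category.comp_id, Category.id_comp]) ≫
        pbMap s φ (rfl : φ ≫ a.b = φ ≫ a.b) =
      φ.left ≫ pullback.lift (a.b ≫ e).left (𝟙 _)
        (by rw [← Over.comp_left, Category.assoc, he, Category.comp_id, Category.id_comp]) := by
    apply pullback.hom_ext
    · rw [Category.assoc, pbMap_fst, pullback.lift_fst]
      rw [Category.assoc (f := φ.left), pullback.lift_fst, Category.assoc φ a.b e]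
      rfl
    · rw [Category.assoc, pbMap_snd, pullback.lift_snd_assoc, Category.assoc, pullback.lift_snd, Category.id_comp,
        Category.comp_id]
  rw [Part.ContainsId]
  change Set.range _ ⊆ pbMap s φ rfl ⁻¹' a.Z ↔ _
  rw [← Set.image_subset_iff, ← Set.range_comp, ← Set.image_subset_iff (s := Set.range φ.left), ← Set.range_comp]
  exact iff_of_eq (congrArg (fun g : T'.left ⟶ pullback s.left a.b.left => Set.range g ⊆ a.Z) key)

/-- Finite sets of points of a scheme etale and separated over `U` lie in affine opens if those of `U` do. -/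
theorem exists_affine_of_finite {Y X : Scheme.{u}} (q : Y ⟶ X) [Etale q] [IsSeparated q]
    (hX : ∀ A : Set X, A.Finite → ∃ V : X.Opens, IsAffineOpen V ∧ A ⊆ V) {A : Set Y} (hA : A.Finite)
    (hne : A.Nonempty) : ∃ V : Y.Opens, IsAffineOpen V ∧ A ⊆ V := by
  obtain ⟨V, hV, hAV⟩ := hX _ (hA.image q)
  have hY : ∀ y : Y, ∃ O : Y.Opens, IsAffineOpen O ∧ y ∈ O := fun y => by
    obtain ⟨_, ⟨O, hO, rfl⟩, hy, -⟩ := Y.isBasis_affineOpens.exists_subset_of_mem_open (Set.mem_univ y) isOpen_univ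
    exact ⟨O, hO, hy⟩
  choose O hO hyO using hY
  let Ω : (q ⁻¹ᵁ V).toScheme.Opens := (q ⁻¹ᵁ V).ι ⁻¹ᵁ ⨆ y ∈ A, (q ⁻¹ᵁ V) ⊓ O y
  obtain ⟨C, hC, hAC, hCV⟩ : ∃ C : Y.Opens, IsCompact (C : Set Y) ∧ A ⊆ C ∧ C ≤ q ⁻¹ᵁ V := by
    have hb : ∀ y ∈ A, ∃ B : Y.Opens, IsAffineOpen B ∧ y ∈ B ∧ B ≤ q ⁻¹ᵁ V := fun y hy => by
      obtain ⟨_, ⟨B, hB, rfl⟩, hyB, hBV⟩ := Y.isBasis_affineOpens.exists_subset_of_mem_open
        (show y ∈ (q ⁻¹ᵁ V : Set Y) from hAV ⟨y, hy, rfl⟩) (q ⁻¹ᵁ V).2
      exact ⟨B, hB, hyB, hBV⟩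
    choose B hB hyB hBV using hb
    refine ⟨⨆ y : A, B y.1 y.2, ?_, fun y hy => TopologicalSpace.Opens.mem_iSup.2 ⟨⟨y, hy⟩, hyB y hy⟩,
      iSup_le fun y => hBV y.1 y.2⟩
    rw [TopologicalSpace.Opens.coe_iSup]
    have := hA.to_subtype
    exact isCompact_iUnion fun y => (hB y.1 y.2).isCompact
  have hVa : IsAffine V.toScheme := hV
  let g : C.toScheme ⟶ V.toScheme := q.resLE V C hCV
  have : CompactSpace C := isCompact_iff_compactSpace.1 hC
  have hg : g ≫ V.ι = C.ι ≫ q := Scheme.Hom.resLE_comp_ι _ _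
  have : IsSeparated g := by
    have : IsSeparated (g ≫ V.ι) := hg ▸ inferInstance
    exact IsSeparated.of_comp g V.ι
  have : LocallyOfFiniteType g := by
    have : LocallyOfFiniteType (g ≫ V.ι) := hg ▸ inferInstance
    exact locallyOfFiniteType_of_comp g V.ι
  have : LocallyQuasiFinite g := by
    have : LocallyQuasiFinite (g ≫ V.ι) := hg ▸ (MorphismProperty.comp_mem @LocallyQuasiFinite _ _ inferInstance
      (locallyQuasiFinite_of_unramified q))
    exact LocallyQuasiFinite.of_comp g V.ι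
  have : C.toScheme.IsQuasiAffine := isQuasiAffine_of_lqf g
  let j := C.toScheme.toSpecΓ
  let A' : Set C.toScheme := C.ι ⁻¹' A
  have hA' : (j '' A').Finite := (hA.preimage C.ι.isOpenEmbedding.injective.injOn).image _
  have : Nonempty ↥(Spec Γ(C.toScheme, ⊤)) := ⟨j ⟨hne.choose, hAC hne.choose_spec⟩⟩
  obtain ⟨f, hf, hfA⟩ := GrothLib.GrpdQuot.exists_basicOpen_le_of_finite j.opensRange hA'
    (by rintro _ ⟨x, -, rfl⟩; exact ⟨x, rfl⟩)
  have hW : IsAffineOpen (j ⁻¹ᵁ (Spec Γ(C.toScheme, ⊤)).basicOpen f) :=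
    ((isAffineOpen_top _).basicOpen f).preimage_of_isOpenImmersion j hf
  refine ⟨C.ι ''ᵁ (j ⁻¹ᵁ (Spec Γ(C.toScheme, ⊤)).basicOpen f), hW.image_of_isOpenImmersion C.ι, fun y hy => ?_⟩
  exact ⟨⟨y, hAC hy⟩, hfA ⟨_, hy, rfl⟩, rfl⟩

/-- Isolated points of fibres give finite parts over fields. -/
theorem finPart_singleton {K : Type u} [Field K] {P : Scheme.{u}} (q : P ⟶ Spec (CommRingCat.of K))
    [LocallyQuasiFinite q] (x : P) : FinPart q {x} := by
  have : IsLocallyArtinian P := .of_locallyQuasiFinite q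
  refine ⟨isOpen_discrete _, isClosed_discrete _, ?_⟩
  let O : P.Opens := ⟨{x}, isOpen_discrete _⟩
  have : Subsingleton O.toScheme := ⟨fun a b => Subtype.ext (a.2.trans b.2.symm)⟩
  have : CompactSpace O.toScheme := Finite.compactSpace
  have : QuasiCompact (O.ι ≫ q) := quasiCompact_of_compactSpace _
  exact IsFinite.of_locallyQuasiFinite (O.ι ≫ q)

variable {F : Sp S}

/-- A sheaf with a separated, flat, locally quasi-finite chart has an etale one. -/
theorem exists_etale_chart (hd : Representable (Limits.diag F)) {p : (yon S).obj U ⟶ F}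
    [hp : Sheaf.IsLocallySurjective p] (sq : IsPullback ((yon S).map t) ((yon S).map s) p p)
    [Flat s.left] [LocallyOfFinitePresentation s.left] [LocallyQuasiFinite s.left] [IsSeparated s.left]
    (hU : ∀ A : Set U.left, A.Finite → ∃ V : U.left.Opens, IsAffineOpen V ∧ A ⊆ V) :
    ∃ (M : Over S) (q : (yon S).obj M ⟶ F), RepWith @Etale q ∧ RepWith @Surjective q := by
  have heq := isEqvRel_of_isPullback sq
  obtain ⟨e, het, he⟩ := (heq.equivalence U).refl (𝟙 U)
  obtain ⟨W, eW, πW, hπW, hπe, hπs⟩ := exists_iso_partSheaf (f := s)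
  let αW := partEquiv W eW.hom
  have hαb : αW.b = πW := (yon S).map_injective (by rw [hπW, comp_partπ])
  let σ : W.left ⟶ pullback s.left αW.b.left := pullback.lift (αW.b ≫ e).left (𝟙 _)
    (by rw [← Over.comp_left, Category.assoc, he, Category.comp_id, Category.id_comp])
  let E : W.left.Opens := ⟨σ ⁻¹' αW.Z, αW.prop.isOpen.preimage σ.continuous⟩
  let U₁ : Over S := Over.mk (E.ι ≫ W.hom)
  let ι₁ : U₁ ⟶ W := Over.homMk E.ι rfl
  have : Mono ι₁ := (Over.forget S).mono_of_mono_map (inferInstanceAs (Mono E.ι))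
  let α := αW.restr ι₁
  let q₁ : U₁ ⟶ U := α.b
  have hq₁ : q₁ = ι₁ ≫ πW := congrArg (ι₁ ≫ ·) hαb
  have hq₁e : Etale q₁.left := by
    rw [hq₁]; exact MorphismProperty.comp_mem @Etale _ _ (inferInstanceAs (Etale E.ι)) hπe
  have hq₁s : IsSeparated q₁.left := by
    rw [hq₁]; exact MorphismProperty.comp_mem @IsSeparated _ _ (inferInstanceAs (IsSeparated E.ι)) hπs
  -- the universal property of `U₁`
  have hcl : ∀ {T : Over S} (a : Part s T), a.ContainsId e he → ∃ w : T ⟶ U₁, α.restr w = a := by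
    intro T a ha
    obtain ⟨v, hv⟩ := (yon S).map_surjective ((partEquiv T).symm a ≫ eW.inv)
    have hva : αW.restr v = a := by
      rw [← partEquiv_comp, hv, Category.assoc, Iso.inv_hom_id, Category.comp_id, Equiv.apply_symm_apply]
    rw [← hva, Part.containsId_restr_iff] at ha
    obtain ⟨w, hw⟩ := exists_lift_opens v E ha
    exact ⟨w, by rw [← Part.restr_comp, hw, hva]⟩
  have hinj : ∀ {T : Over S} (w w' : T ⟶ U₁), α.restr w = α.restr w' → w = w' := by
    intro T w w' h
    rw [← Part.restr_comp, ← Part.restr_comp, ← partEquiv_comp, ← partEquiv_comp] at h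
    rw [← cancel_mono ι₁]
    exact (yon S).map_injective ((cancel_mono eW.hom).1 ((partEquiv T).injective h))
  have hid : ∀ {T : Over S} (w : T ⟶ U₁), (α.restr w).ContainsId e he := fun {T} w => by
    rw [← Part.restr_comp, Part.containsId_restr_iff]
    exact range_opensι_subset E w
  -- the relation
  let Z₁ : (pullback s.left q₁.left).Opens := ⟨α.Z, α.prop.isOpen⟩
  let R₁ : Over S := Over.mk ((Z₁.ι ≫ pullback.snd _ _) ≫ U₁.hom)
  let s₁ : R₁ ⟶ U₁ := Over.homMk (Z₁.ι ≫ pullback.snd _ _) rfl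
  let r₁ : R₁ ⟶ R := Over.homMk (Z₁.ι ≫ pullback.fst _ _) (by
    change (Z₁.ι ≫ pullback.fst _ _) ≫ R.hom = (Z₁.ι ≫ pullback.snd _ _) ≫ U₁.hom
    rw [← Over.w s, Category.assoc, pullback.condition_assoc, Over.w q₁, Category.assoc])
  have hr₁s : r₁ ≫ s = s₁ ≫ q₁ := Over.OverMorphism.ext (by
    change (Z₁.ι ≫ pullback.fst _ _) ≫ s.left = (Z₁.ι ≫ pullback.snd _ _) ≫ q₁.left
    rw [Category.assoc, pullback.condition, Category.assoc])
  obtain ⟨r₁', hr₁'t, hr₁'s⟩ := (heq.equivalence R₁).symm ⟨r₁, rfl, hr₁s⟩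
  obtain ⟨a₁, ha₁b, ha₁⟩ := exists_same heq (α.restr s₁) r₁' hr₁'t
  have ha₁id : a₁.ContainsId e he := by
    rw [Part.containsId_iff_of_same heq he het ha₁ r₁ (by rw [ha₁b, hr₁'s]) hr₁s]
    rintro _ ⟨z, rfl⟩
    change pbMap s s₁ rfl _ ∈ α.Z
    have : pullback.lift r₁.left (𝟙 _) (by rw [← Over.comp_left, hr₁s, Category.id_comp]) ≫
        pbMap s s₁ (rfl : s₁ ≫ α.b = s₁ ≫ α.b) = Z₁.ι := by
      apply pullback.hom_ext
      · rw [Category.assoc, pbMap_fst, pullback.lift_fst]; rfl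
      · rw [Category.assoc, pbMap_snd, pullback.lift_snd_assoc, Category.id_comp]; rfl
    exact (congrArg (· ∈ α.Z)
      (congrArg (fun g : R₁.left ⟶ pullback s.left α.b.left => g z) this)).mpr z.2
  obtain ⟨t₁, ht₁⟩ := hcl a₁ ha₁id
  have ht₁b : t₁ ≫ q₁ = r₁ ≫ t := (congrArg Part.b ht₁).trans (ha₁b.trans hr₁'s)
  have key : ∀ {T : Over S} (w w' : T ⟶ U₁),
      (∃ ρ : T ⟶ R₁, ρ ≫ t₁ = w ∧ ρ ≫ s₁ = w') ↔ (α.restr w).Same t (α.restr w') := by
    intro T w w'
    constructor
    · rintro ⟨ρ, rfl, rfl⟩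
      rw [Part.restr_comp, Part.restr_comp, ht₁]
      exact (ha₁.restr heq ρ).symm heq
    · intro h
      obtain ⟨θ, ⟨r, hr₁, hr₂⟩, hθ, hZ⟩ := h
      have h' : (α.restr w').Same t (α.restr w) := Part.Same.symm heq ⟨θ, ⟨r, hr₁, hr₂⟩, hθ, hZ⟩
      have hr := (Part.containsId_iff_of_same heq he het h' r hr₁ hr₂).1 (hid w)
      let P : Over S := Over.mk (pullback.snd s.left q₁.left ≫ U₁.hom)
      let g : T ⟶ P := Over.homMk (pullback.lift r.left (𝟙 _) (by rw [← Over.comp_left, hr₂, Category.id_comp]; rfl) ≫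
        pbMap s w' (rfl : w' ≫ α.b = w' ≫ α.b)) (by
          change (_ ≫ _) ≫ pullback.snd _ _ ≫ U₁.hom = T.hom
          rw [Category.assoc, pbMap_snd_assoc, pullback.lift_snd_assoc, Category.id_comp, Over.w])
      have hg : Set.range g.left ⊆ Z₁.1 := by
        rintro _ ⟨z, rfl⟩
        exact hr ⟨z, rfl⟩
      obtain ⟨l, hl⟩ := exists_lift_opens g (Z₁ : P.left.Opens) hg
      let ρ : T ⟶ R₁ := Over.homMk l.left (by
        change l.left ≫ (Z₁.ι ≫ pullback.snd _ _) ≫ U₁.hom = T.hom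
        rw [Category.assoc]; exact Over.w l)
      have hρ : ρ.left ≫ Z₁.ι = g.left := congrArg CommaMorphism.left hl
      have hρs : ρ ≫ s₁ = w' := Over.OverMorphism.ext (by
        change ρ.left ≫ Z₁.ι ≫ pullback.snd _ _ = w'.left
        rw [reassoc_of% hρ]
        change (_ ≫ _) ≫ pullback.snd _ _ = w'.left
        rw [Category.assoc, pbMap_snd, pullback.lift_snd_assoc, Category.id_comp])
      have hρr : ρ ≫ r₁ = r := Over.OverMorphism.ext (by
        change ρ.left ≫ Z₁.ι ≫ pullback.fst _ _ = r.left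
        rw [reassoc_of% hρ]
        change (_ ≫ _) ≫ pullback.fst _ _ = r.left
        rw [Category.assoc, pbMap_fst, pullback.lift_fst])
      refine ⟨ρ, hinj _ _ ?_, hρs⟩
      have h2 : (α.restr (ρ ≫ t₁)).Same t (α.restr w') := by
        rw [Part.restr_comp, ht₁]
        have := (ha₁.restr heq ρ).symm heq
        rwa [← Part.restr_comp, hρs] at this
      refine (h2.trans heq h').eq heq ?_
      change (ρ ≫ t₁) ≫ q₁ = w ≫ q₁
      rw [Category.assoc, ht₁b, reassoc_of% hρr]
      exact hr₁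
  have hinjR : ∀ (T : Over S) (ρ ρ' : T ⟶ R₁), ρ ≫ t₁ = ρ' ≫ t₁ → ρ ≫ s₁ = ρ' ≫ s₁ → ρ = ρ' := by
    intro T ρ ρ' h₁ h₂
    have hr : ρ ≫ r₁ = ρ' ≫ r₁ := heq.injective T _ _
      (by rw [Category.assoc, ← ht₁b, reassoc_of% h₁, Category.assoc, ← ht₁b])
      (by rw [Category.assoc, hr₁s, reassoc_of% h₂, Category.assoc, hr₁s])
    apply Over.OverMorphism.ext
    rw [← cancel_mono Z₁.ι]
    apply pullback.hom_ext
    · rw [Category.assoc, Category.assoc]; exact congrArg CommaMorphism.left hr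
    · rw [Category.assoc, Category.assoc]; exact congrArg CommaMorphism.left h₂
  have heq₁ : IsEqvRel s₁ t₁ := ⟨hinjR, fun T => ⟨fun a => (key a a).2 (.refl heq _),
    fun h => (key _ _).2 (((key _ _).1 h).symm heq),
    fun h h' => (key _ _).2 (((key _ _).1 h).trans heq ((key _ _).1 h'))⟩⟩
  -- the quotient
  have hs₁fin : IsFinite s₁.left := α.prop.finite
  have hs₁flat : Flat s₁.left :=
    MorphismProperty.comp_mem @Flat _ _ (inferInstanceAs (Flat Z₁.ι)) (MorphismProperty.pullback_snd _ _ inferInstance)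
  have hs₁fp : LocallyOfFinitePresentation s₁.left :=
    MorphismProperty.comp_mem @LocallyOfFinitePresentation _ _ (inferInstanceAs (LocallyOfFinitePresentation Z₁.ι))
      (MorphismProperty.pullback_snd _ _ inferInstance)
  have hmono : ∀ {T : Scheme.{u}} (a b : T ⟶ R₁.left), a ≫ t₁.left = b ≫ t₁.left → a ≫ s₁.left = b ≫ s₁.left → a = b :=
    fun a b => scheme_hom_ext heq₁ a b
  obtain ⟨e₁, he₁t, he₁s⟩ := (heq₁.equivalence U₁).refl (𝟙 U₁)
  obtain ⟨i₁, hi₁t, hi₁s⟩ := (heq₁.equivalence R₁).symm ⟨𝟙 R₁, rfl, rfl⟩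
  obtain ⟨c₁, hc₁t, hc₁s⟩ := (heq₁.equivalence (pullback s₁ t₁)).trans
    ⟨pullback.fst s₁ t₁, rfl, rfl⟩ ⟨pullback.snd s₁ t₁, pullback.condition.symm, rfl⟩
  have sqc := (IsPullback.of_hasPullback s₁ t₁).map (Over.forget S)
  let G := GrothLib.GrpdQuot.ofEquivRel U₁.left R₁.left U₁.hom s₁.left t₁.left ((Over.w t₁).trans (Over.w s₁).symm)
    hmono ⟨e₁.left, congrArg CommaMorphism.left he₁s, congrArg CommaMorphism.left he₁t⟩
    ⟨i₁.left, by rw [← Over.comp_left, hi₁s]; simp, by rw [← Over.comp_left, hi₁t]; simp⟩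
    ⟨sqc.isoPullback.inv ≫ c₁.left,
      (Category.assoc _ _ _).trans ((congrArg (sqc.isoPullback.inv ≫ ·) (congrArg CommaMorphism.left hc₁s)).trans
        ((Category.assoc _ _ _).symm.trans (congrArg (· ≫ s₁.left) sqc.isoPullback_inv_snd))),
      (Category.assoc _ _ _).trans ((congrArg (sqc.isoPullback.inv ≫ ·) (congrArg CommaMorphism.left hc₁t)).trans
        ((Category.assoc _ _ _).symm.trans (congrArg (· ≫ t₁.left) sqc.isoPullback_inv_fst)))⟩
  have : IsFinite G.s := hs₁fin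
  have : Flat G.s := hs₁flat
  have : LocallyOfFinitePresentation G.s := hs₁fp
  have : Mono G.j := GrothLib.GrpdQuot.mono_j_ofEquivRel _ _ _ _ _ _ _ _ _ _
  have hcov : GrothLib.GrpdQuot.Covered G := fun u => by
    have hfin : (⇑G.t '' (⇑G.s ⁻¹' {u})).Finite := (G.s.finite_preimage_singleton u).image _
    obtain ⟨V, hV, hAV⟩ := exists_affine_of_finite q₁.left hU hfin
      ⟨u, G.e u, by change G.s (G.e u) = u; rw [← Scheme.Hom.comp_apply, G.e_s]; rfl,
        by rw [← Scheme.Hom.comp_apply, G.e_t]; rfl⟩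
    exact ⟨V, hV, fun r hr => hAV ⟨r, hr, rfl⟩⟩
  obtain ⟨M, m₀, hm, hms, sqM, -⟩ := GrothLib.GrpdQuot.exists_fppf_quotient G hcov
  let m : U₁ ⟶ M := Over.homMk m₀.left (Over.w m₀)
  have : Flat m.left := hm.2.1
  have : LocallyOfFinitePresentation m.left := hm.2.2
  have : Surjective m.left := hms
  have sqR₁ : IsPullback t₁ s₁ m m := IsPullback.of_map (Over.forget S) (Over.OverMorphism.ext sqM.w) sqM
  let π : (yon S).obj U₁ ⟶ F := (yon S).map q₁ ≫ p
  have hπR : (yon S).map t₁ ≫ π = (yon S).map s₁ ≫ π := by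
    rw [← (yon S).map_comp_assoc, ← (yon S).map_comp_assoc, ht₁b, ← hr₁s, (yon S).map_comp, (yon S).map_comp,
      Category.assoc, Category.assoc, sq.w]
  obtain ⟨q, hq, -⟩ := exists_hom_of_cover (F := F) (ι := PUnit.{u + 1}) (fun _ => U₁) (fun _ => m)
    (fun _ => inferInstance) (fun _ => inferInstance) (fun x => ⟨⟨⟩, Surjective.surj (f := m.left) x⟩) (fun _ => π) (by
      intro i j Z gi gj hg
      refine (congrArg (fun x => (yon S).map x ≫ π) (sqR₁.lift_fst gi gj hg)).symm.trans (Eq.trans ?_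
        (congrArg (fun x => (yon S).map x ≫ π) (sqR₁.lift_snd gi gj hg)))
      simp only [Functor.map_comp, Category.assoc, hπR])
  have hq : (yon S).map m ≫ q = π := hq ⟨⟩
  -- properties
  have hrp : Representable p := representable_diag_iff.1 hd p
  have hpf : RepWith @Flat p := repWith_of_base hrp p sq fppfDescends_flat ((repWith_yon_map_iff _ _).2 ‹_›)
  have hpp : RepWith @LocallyOfFinitePresentation p :=
    repWith_of_base hrp p sq fppfDescends_lfp ((repWith_yon_map_iff _ _).2 ‹_›)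
  have hps : RepWith @Surjective p :=
    repWith_of_base hrp p sq fppfDescends_surjective ((repWith_yon_map_iff _ _).2 ⟨fun x => ⟨e.left x, by
      rw [← Scheme.Hom.comp_apply, ← Over.comp_left, he]; rfl⟩⟩)
  have hq₁surj : Surjective q₁.left := ⟨fun u => by
    let b : Over.mk (U.left.fromSpecResidueField u ≫ U.hom) ⟶ U := Over.homMk (U.left.fromSpecResidueField u) rfl
    let σb : (Over.mk (U.left.fromSpecResidueField u ≫ U.hom)).left ⟶ pullback s.left b.left :=
      pullback.lift (b ≫ e).left (𝟙 _) (by rw [← Over.comp_left, Category.assoc, he, Category.comp_id, Category.id_comp])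
    let x := σb (IsLocalRing.closedPoint (U.left.residueField u))
    let a : Part s (Over.mk (U.left.fromSpecResidueField u ≫ U.hom)) :=
      ⟨b, {x}, finPart_singleton (K := U.left.residueField u) (pullback.snd s.left b.left) x⟩
    obtain ⟨w, hw⟩ := hcl a (by
      rintro _ ⟨z, rfl⟩
      change σb z = σb _
      congr 1
      exact Subsingleton.elim (α := ↥(Spec (U.left.residueField u))) _ _)
    refine ⟨w.left (IsLocalRing.closedPoint (U.left.residueField u)), ?_⟩
    rw [← Scheme.Hom.comp_apply, ← Over.comp_left, show w ≫ q₁ = b from congrArg Part.b hw]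
    exact U.left.fromSpecResidueField_apply u _⟩
  have hπf : RepWith @Flat π := repWith_comp ((repWith_yon_map_iff _ _).2 (inferInstance : Flat q₁.left)) hpf
  have hπp : RepWith @LocallyOfFinitePresentation π :=
    repWith_comp ((repWith_yon_map_iff _ _).2 (inferInstance : LocallyOfFinitePresentation q₁.left)) hpp
  have hπs' : RepWith @Surjective π := repWith_comp ((repWith_yon_map_iff _ _).2 hq₁surj) hps
  -- the diagonal of `q`
  obtain ⟨N, n₁, n₂, sqN⟩ := exists_isPullback_yon hd q q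
  obtain ⟨δ, hδ⟩ := (yon S).map_surjective (sqN.lift (𝟙 _) (𝟙 _) rfl)
  have hδ₁ : δ ≫ n₁ = 𝟙 M := (yon S).map_injective (by rw [(yon S).map_comp, hδ, sqN.lift_fst, CategoryTheory.Functor.map_id])
  have hδ₂ : δ ≫ n₂ = 𝟙 M := (yon S).map_injective (by rw [(yon S).map_comp, hδ, sqN.lift_snd, CategoryTheory.Functor.map_id])
  let A := pullback m n₁
  let K := pullback m (pullback.snd m n₁ ≫ n₂)
  let k₁ : K ⟶ U₁ := pullback.snd m (pullback.snd m n₁ ≫ n₂) ≫ pullback.fst m n₁
  let k₂ : K ⟶ U₁ := pullback.fst m (pullback.snd m n₁ ≫ n₂)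
  let μ : K ⟶ N := pullback.snd m (pullback.snd m n₁ ≫ n₂) ≫ pullback.snd m n₁
  have hμ₁ : μ ≫ n₁ = k₁ ≫ m := by rw [Category.assoc, Category.assoc, pullback.condition]
  have hμ₂ : μ ≫ n₂ = k₂ ≫ m := by rw [Category.assoc, pullback.condition]
  have hμπ : (yon S).map k₁ ≫ π = (yon S).map k₂ ≫ π := by
    rw [← hq, ← (yon S).map_comp_assoc, ← (yon S).map_comp_assoc, ← hμ₁, ← hμ₂]
    simp only [Functor.map_comp, Category.assoc, sqN.w]
  have hμf : Flat μ.left ∧ LocallyOfFinitePresentation μ.left ∧ Surjective μ.left := by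
    have h₁ := (IsPullback.of_hasPullback m (pullback.snd m n₁ ≫ n₂)).map (Over.forget S)
    have h₂ := (IsPullback.of_hasPullback m n₁).map (Over.forget S)
    exact ⟨MorphismProperty.comp_mem @Flat _ _ (MorphismProperty.of_isPullback h₁ ‹_›) (MorphismProperty.of_isPullback h₂ ‹_›),
      MorphismProperty.comp_mem @LocallyOfFinitePresentation _ _ (MorphismProperty.of_isPullback h₁ ‹_›)
        (MorphismProperty.of_isPullback h₂ ‹_›),
      MorphismProperty.comp_mem @Surjective _ _ (MorphismProperty.of_isPullback h₁ ‹_›) (MorphismProperty.of_isPullback h₂ ‹_›)⟩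
  obtain ⟨r₀, hr₀⟩ := (yon S).map_surjective (sq.lift ((yon S).map (k₁ ≫ q₁)) ((yon S).map (k₂ ≫ q₁)) (by
    rw [(yon S).map_comp, (yon S).map_comp, Category.assoc, Category.assoc]; exact hμπ))
  have hr₀t : r₀ ≫ t = k₁ ≫ q₁ := (yon S).map_injective (by rw [(yon S).map_comp, hr₀, sq.lift_fst])
  have hr₀s : r₀ ≫ s = k₂ ≫ q₁ := (yon S).map_injective (by rw [(yon S).map_comp, hr₀, sq.lift_snd])
  obtain ⟨a₂, ha₂b, ha₂⟩ := exists_same heq (α.restr k₁) r₀ hr₀t
  have hb₂ : 𝟙 K ≫ a₂.b = (α.restr k₂).b := (Category.id_comp _).trans (ha₂b.trans hr₀s)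
  let E₂ : K.left.Opens := ⟨_, (Part.isClopen_eqSet a₂ (α.restr k₂) hb₂).isOpen⟩
  let j₂ : Over.mk (E₂.ι ≫ K.hom) ⟶ K := Over.homMk E₂.ι rfl
  have hE₂ : ∀ {T : Over S} (v : T ⟶ K), (∃ ρ : T ⟶ R₁, ρ ≫ t₁ = v ≫ k₁ ∧ ρ ≫ s₁ = v ≫ k₂) ↔ Set.range v.left ⊆ E₂ := by
    intro T v
    rw [key]
    have e1 := Part.restr_comp v k₁ α
    have e2 := Part.restr_comp v k₂ α
    constructor
    · intro h
      refine (Part.restr_eq_restr_iff a₂ (α.restr k₂) hb₂ v).1 ?_
      have h' : (a₂.restr v).Same t ((α.restr k₂).restr v) := by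
        rw [← e2]
        refine Part.Same.trans heq ((ha₂.restr heq v).symm heq) ?_
        rw [← e1]
        exact h
      exact h'.eq heq (congrArg (v ≫ ·) ((Category.id_comp _).symm.trans hb₂))
    · intro h
      have h' := (Part.restr_eq_restr_iff a₂ (α.restr k₂) hb₂ v).2 h
      rw [e1, e2, ← h']
      exact ha₂.restr heq v
  obtain ⟨ρ₂, hρ₂t, hρ₂s⟩ := (hE₂ j₂).2 (by
    have := range_opensι_subset E₂ (𝟙 _ : Over.mk (E₂.ι ≫ K.hom) ⟶ _)
    rwa [Category.id_comp] at this)
  have sqδ : IsPullback (j₂ ≫ k₁ ≫ m) j₂ δ μ := by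
    have w : (j₂ ≫ k₁ ≫ m) ≫ δ = j₂ ≫ μ := by
      apply (yon S).map_injective
      rw [(yon S).map_comp, (yon S).map_comp (f := j₂) (g := μ)]
      apply sqN.hom_ext
      · rw [← (yon S).map_comp, ← (yon S).map_comp, ← (yon S).map_comp, ← (yon S).map_comp]
        simp only [Category.assoc, hδ₁, hμ₁, Category.comp_id]
      · rw [← (yon S).map_comp, ← (yon S).map_comp, ← (yon S).map_comp, ← (yon S).map_comp]
        simp only [Category.assoc, hδ₂, hμ₂, Category.comp_id]
        rw [← Category.assoc, ← hρ₂t, ← Category.assoc, ← hρ₂s, Category.assoc, Category.assoc, sqR₁.w]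
    refine isPullback_of_isPullback_yon (isPullback_of_yon (by rw [← (yon S).map_comp, ← (yon S).map_comp, w])
      fun T a v hav => ?_)
    obtain ⟨a, rfl⟩ := (yon S).map_surjective a
    obtain ⟨v, rfl⟩ := (yon S).map_surjective v
    rw [← (yon S).map_comp, ← (yon S).map_comp] at hav
    have hav := (yon S).map_injective hav
    have ha : a = v ≫ k₁ ≫ m := (Category.comp_id a).symm.trans ((congrArg (a ≫ ·) hδ₁.symm).trans
      ((Category.assoc _ _ _).symm.trans ((congrArg (· ≫ n₁) hav).trans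
        ((Category.assoc _ _ _).trans (congrArg (v ≫ ·) hμ₁)))))
    have ha' : a = v ≫ k₂ ≫ m := (Category.comp_id a).symm.trans ((congrArg (a ≫ ·) hδ₂.symm).trans
      ((Category.assoc _ _ _).symm.trans ((congrArg (· ≫ n₂) hav).trans
        ((Category.assoc _ _ _).trans (congrArg (v ≫ ·) hμ₂)))))
    have hm' : (v ≫ k₁) ≫ m = (v ≫ k₂) ≫ m :=
      (Category.assoc _ _ _).trans (ha.symm.trans (ha'.trans (Category.assoc _ _ _).symm))
    obtain ⟨l, hl⟩ := exists_lift_opens v E₂ ((hE₂ v).1 ⟨sqR₁.lift _ _ hm', sqR₁.lift_fst _ _ _, sqR₁.lift_snd _ _ _⟩)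
    refine ⟨(yon S).map l, ⟨?_, ?_⟩, ?_⟩
    · rw [← (yon S).map_comp, ← Category.assoc, hl, ha]
    · rw [← (yon S).map_comp, hl]
    · rintro w' ⟨-, hw'⟩
      obtain ⟨w', rfl⟩ := (yon S).map_surjective w'
      rw [← (yon S).map_comp] at hw'
      congr 1
      have : Mono j₂ := (Over.forget S).mono_of_mono_map (inferInstanceAs (Mono E₂.ι))
      rw [← cancel_mono j₂, hl]
      exact (yon S).map_injective hw'
  have hδo : IsOpenImmersion δ.left :=
    fppfDescends_isOpenImmersion δ.left μ.left _ _ (sqδ.map (Over.forget S)) hμf.1 hμf.2.1 hμf.2.2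
      (inferInstanceAs (IsOpenImmersion E₂.ι))
  have hqd : RepWith @IsOpenImmersion (pullback.diagonal q) := by
    have e : pullback.diagonal q = (yon S).map δ ≫ sqN.isoPullback.hom := by
      apply pullback.hom_ext <;> simp [hδ]
    rw [e]
    exact repWith_comp ((repWith_yon_map_iff _ _).2 hδo) (repWith_iso _)
  have hrq : Representable q := representable_diag_iff.1 hd q
  refine ⟨M, q, repWith_mk fun T g => ?_, repWith_mk fun T g => ?_⟩
  all_goals obtain ⟨Q, fst, snd, sqQ⟩ := exists_isPullback_of_representable hrq g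
  all_goals obtain ⟨fst, rfl⟩ := (yon S).map_surjective fst
  all_goals refine ⟨Q, _, snd, sqQ, ?_⟩
  all_goals
    have sqQ' : IsPullback ((yon S).map (pullback.fst m fst)) ((yon S).map (pullback.snd m fst ≫ snd)) π g := by
      rw [(yon S).map_comp, ← hq]
      exact (isPullback_yon (IsPullback.of_hasPullback m fst)).paste_vert sqQ
  all_goals have hmQ := (IsPullback.of_hasPullback m fst).map (Over.forget S)
  all_goals have : Surjective (pullback.snd m fst).left := MorphismProperty.of_isPullback hmQ ‹Surjective m.left›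
  · have hc : (@Flat ⊓ @LocallyOfFinitePresentation : MorphismProperty Scheme.{u}) (pullback.snd m fst).left :=
      ⟨MorphismProperty.of_isPullback hmQ ‹Flat m.left›,
        MorphismProperty.of_isPullback hmQ ‹LocallyOfFinitePresentation m.left›⟩
    have : Flat snd.left := srcDescends_flat (pullback.snd m fst).left snd.left hc.1 ‹_› (hπf.2 _ _ _ sqQ')
    have : LocallyOfFinitePresentation snd.left :=
      srcDescends_fppf GrothLib.FppfSource.fppfSourceDescends_lfp (pullback.snd m fst).left snd.left hc ‹_›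
        (hπp.2 _ _ _ sqQ')
    have hd' : IsOpenImmersion (pullback.diagonal snd.left) :=
      ((repWith_diagonal_iff_of_representable hrq).1 hqd).2 _ _ _ sqQ
    exact Etale.of_formallyUnramified_of_flat snd.left
  · have : Surjective ((pullback.snd m fst).left ≫ snd.left) := hπs'.2 _ _ _ sqQ'
    exact Surjective.of_comp (pullback.snd m fst).left snd.left

end GrothLib.AlgSp
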