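import Groth.Agent.Lib.AlgSp.FpqcAffine
import Groth.Agent.Lib.QuasiFlat.Immersion

/-!
# Fppf coverings of algebraic spaces and ways of producing fpqc local data
-/

universe u

open CategoryTheory CategoryTheory.Limits AlgebraicGeometry Topology

namespace GrothLib.AlgSp

open _root_.AlgSp

variable {S : Scheme.{u}}

/-- A property holding after every affine base change holds fpqc locally. -/
theorem fpqcLoc_of_affine {Q : MorphismProperty (Sp S)} {X Y : Sp S} {f : X ⟶ Y}
    (h : ∀ (Z : Over S), IsAffine Z.left → ∀ (g : (yon S).obj Z ⟶ Y) (P : Sp S) (fst : P ⟶ X)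
      (snd : P ⟶ (yon S).obj Z), IsPullback fst snd f g → Q snd) : FpqcLoc Q f := fun Z hZ g =>
  ⟨1, fun _ => Z, fun _ => 𝟙 Z, fun _ => hZ, fun _ => inferInstanceAs (Flat (𝟙 Z.left)),
    fun z => ⟨0, z, rfl⟩, fun _ P fst snd sq => h Z hZ g P fst snd (by
      rwa [CategoryTheory.Functor.map_id, Category.id_comp] at sq)⟩

/-- A property holding after base change to an fppf atlas holds fpqc locally. -/
theorem fpqcLoc_of_atlas {Q : MorphismProperty (Sp S)} (hQ : BaseChanges Q) {X Y : Sp S} (hX : IsAlgSpace X)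
    (hY : IsAlgSpace Y) {f : X ⟶ Y} {V : Over S} {p : (yon S).obj V ⟶ Y} (pf : RepWith @Flat p)
    (pp : RepWith @LocallyOfFinitePresentation p) (ps : RepWith @Surjective p) {P : Sp S} {fst : P ⟶ X}
    {snd : P ⟶ (yon S).obj V} (sq : IsPullback fst snd f p) (h : Q snd) : FpqcLoc Q f := by
  intro Z hZ g
  obtain ⟨T, a, b, sqT⟩ := exists_isPullback_of_representable pf.1 g
  have : Flat b.left := pf.2 _ _ _ sqT
  have : LocallyOfFinitePresentation b.left := pp.2 _ _ _ sqT
  have : Surjective b.left := ps.2 _ _ _ sqT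
  obtain ⟨W, d, hW, hd, -, hds⟩ := exists_affine_refinement b
  refine ⟨1, fun _ => W, fun _ => d ≫ b, fun _ => hW, fun _ => hd, fun z => ⟨0, hds.surj z⟩,
    fun _ P' fst' snd' sq' => ?_⟩
  have hP' : IsAlgSpace P' := isAlgSpace_pullback hY.diag hX (IsAlgSpace.yon_obj _) sq'
  rw [Functor.map_comp, Category.assoc, ← sqT.w, ← Category.assoc] at sq'
  have sq'' : IsPullback (sq.lift fst' (snd' ≫ (yon S).map d ≫ a) (by rw [sq'.w]; simp)) snd' snd
      ((yon S).map d ≫ a) :=
    IsPullback.of_right (by rw [sq.lift_fst]; exact sq') (sq.lift_snd _ _ _) sq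
  exact hQ (isAlgSpace_pullback hY.diag hX (IsAlgSpace.yon_obj _) sq) (IsAlgSpace.yon_obj _) hP'
    (IsAlgSpace.yon_obj _) sq'' h

theorem locP_yon_map {P : MorphismProperty Scheme.{u}} [P.IsStableUnderBaseChange] {U V : Over S} {k : U ⟶ V}
    (h : LocP P ((yon S).map k)) : P k.left :=
  h (𝟙 _) (𝟙 _) k (repWith_id _ _) (repWith_id _ _) (by rw [Category.id_comp, Category.comp_id])

/-- An fppf covering can be refined, over an affine scheme, by a standard fppf covering. -/
theorem exists_affine_family_of_cover {ι : Type u} {X : Sp S} {Yi : ι → Sp S} {g : ∀ i, Yi i ⟶ X}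
    (hX : IsAlgSpace X) (hYi : ∀ i, IsAlgSpace (Yi i)) (hc : IsFppfCover Yi g) (Z : Over S)
    (hZ : IsAffine Z.left) (h : (yon S).obj Z ⟶ X) :
    ∃ (m : ℕ) (W : Fin m → Over S) (c : ∀ j, W j ⟶ Z), (∀ j, IsAffine (W j).left) ∧
      (∀ j, Flat (c j).left) ∧ (∀ j, LocallyOfFinitePresentation (c j).left) ∧
      (∀ z : ↥Z.left, ∃ j, z ∈ Set.range (c j).left) ∧
      ∀ j, ∃ (i : _) (l : (yon S).obj (W j) ⟶ Yi i), l ≫ g i = (yon S).map (c j) ≫ h := by
  have key : ∀ z : ↥Z.left, ∃ (W : Over S) (c : W ⟶ Z), IsAffine W.left ∧ Flat c.left ∧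
      LocallyOfFinitePresentation c.left ∧ z ∈ Set.range c.left ∧
      ∃ (i : ι) (l : (yon S).obj W ⟶ Yi i), l ≫ g i = (yon S).map c ≫ h := by
    intro z
    obtain ⟨i, y, hy⟩ := hc.2 (Points.map h (Points.schemeHomeo Z z))
    have sq := IsPullback.of_hasPullback (g i) h
    have hP := isAlgSpace_pullback' hX (hYi i) (IsAlgSpace.yon_obj Z) (g i) h
    obtain ⟨x, -, hx⟩ := exists_of_isPullback sq hy
    obtain ⟨U, a, ae, as⟩ := hP.atlas
    obtain ⟨u, rfl⟩ := surjective_ofPt_of_repWith as x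
    obtain ⟨k, hk⟩ := (yon S).map_surjective (a ≫ pullback.snd (g i) h)
    have hfl : Flat k.left := locP_yon_map (hk ▸ EtLocal.flat.locP_comp (IsAlgSpace.yon_obj U) hP
      (IsAlgSpace.yon_obj Z) (EtLocal.flat.locP_of_repWith hP (repWith_mono ae fun _ _ e (_ : Etale e) => inferInstance))
      (EtLocal.flat.locP_of_isPullback (hYi i) hX (IsAlgSpace.yon_obj Z) sq (hc.1 i).1))
    have hfp : LocallyOfFinitePresentation k.left := locP_yon_map (hk ▸ EtLocal.lfp.locP_comp (IsAlgSpace.yon_obj U) hP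
      (IsAlgSpace.yon_obj Z) (EtLocal.lfp.locP_of_repWith hP (repWith_mono ae fun _ _ e (_ : Etale e) => inferInstance))
      (EtLocal.lfp.locP_of_isPullback (hYi i) hX (IsAlgSpace.yon_obj Z) sq (hc.1 i).2))
    obtain ⟨_, ⟨O, hOa, rfl⟩, huO, -⟩ :=
      U.left.isBasis_affineOpens.exists_subset_of_mem_open (Set.mem_univ u) isOpen_univ
    let O : U.left.Opens := O
    let W : Over S := Over.mk (O.ι ≫ U.hom)
    let j : W ⟶ U := Over.homMk O.ι rfl
    refine ⟨W, j ≫ k, hOa, ?_, ?_, ⟨⟨u, huO⟩, ?_⟩, i, (yon S).map j ≫ a ≫ pullback.fst (g i) h, ?_⟩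
    · rw [Over.comp_left]
      exact inferInstanceAs (Flat (O.ι ≫ k.left))
    · rw [Over.comp_left]
      exact inferInstanceAs (LocallyOfFinitePresentation (O.ι ≫ k.left))
    · apply (Points.schemeHomeo Z).injective
      rw [← hx, Points.ofPt_eq_map_ofScheme, ← Points.map_comp, ← hk, map_yon_ofPt]
      rfl
    · rw [Functor.map_comp, hk]
      simp only [Category.assoc, pullback.condition]
  choose W c hW hfl hfp hz hl using key
  have hopen : ∀ z, IsOpen (Set.range (c z).left) := fun z => by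
    haveI := hfl z
    haveI := hfp z
    exact (c z).left.isOpenMap.isOpen_range
  obtain ⟨t, ht⟩ := (isCompact_univ (X := ↥Z.left)).elim_finite_subcover _ hopen
    (fun z _ => Set.mem_iUnion.2 ⟨z, hz z⟩)
  refine ⟨t.card, fun j => W (t.equivFin.symm j), fun j => c _, fun _ => hW _, fun _ => hfl _, fun _ => hfp _,
    fun z => ?_, fun _ => hl _⟩
  obtain ⟨z₀, hz₀, hz'⟩ := Set.mem_iUnion₂.1 (ht (Set.mem_univ z))
  have key : ∀ a : t, a = ⟨z₀, hz₀⟩ → z ∈ Set.range (c a).left := by rintro _ rfl; exact hz'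
  exact ⟨t.equivFin ⟨z₀, hz₀⟩, key _ (Equiv.symm_apply_apply _ _)⟩

theorem isFpqcCover_of_isFppfCover {ι : Type u} {X : Sp S} {Yi : ι → Sp S} {g : ∀ i, Yi i ⟶ X}
    (hX : IsAlgSpace X) (hYi : ∀ i, IsAlgSpace (Yi i)) (hc : IsFppfCover Yi g) : IsFpqcCover Yi g := by
  refine ⟨fun i => (hc.1 i).1, fun Z hZ h => ?_⟩
  obtain ⟨m, W, c, h₁, h₂, -, h₃, h₄⟩ := exists_affine_family_of_cover hX hYi hc Z hZ h
  exact ⟨m, W, c, h₁, h₂, h₃, h₄⟩

/-- Immersions are local on the base for fppf coverings. -/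
theorem isLocalOnBase_fppf_immersion : IsLocalOnBase (IsFppfCover (S := S)) (RepWith @IsImmersion) := by
  intro ι Y Yi g hY hYi hg X f hX Xi p q hXi sq
  refine ⟨fun h i => repWith_of_isPullback (sq i) h, fun h => ?_⟩
  have hf := representable_of_fpqcLoc_repWith (fun _ _ e he => ?_) (fun _ _ e he => ?_) hX hY
    (fpqcLoc_of_cover (baseChanges_repWith _) Yi g hY hYi (isFpqcCover_of_isFppfCover hY hYi hg) f hX Xi p q hXi sq h)
  rotate_left
  · have : IsImmersion e := he
    exact ⟨inferInstance, inferInstance⟩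
  · have : IsImmersion e := he
    infer_instance
  refine ⟨hf, fun T V k fst snd sqk => ?_⟩
  change IsImmersion snd.left
  rw [IsZariskiLocalAtTarget.iff_of_openCover (P := @IsImmersion) T.left.affineCover]
  intro i
  let Z := affPiece T i
  haveI : IsAffine Z.left := inferInstanceAs (IsAffine (T.left.affineCover.X i))
  obtain ⟨m, W, c, hW, hfl, hfp, hcov, hl⟩ :=
    exists_affine_family_of_cover hY hYi hg Z inferInstance ((yon S).map (affPieceι T i) ≫ k)
  have sql := isPullback_left (IsPullback.of_hasPullback snd (affPieceι T i))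
  suffices hβ : IsImmersion (pullback.snd snd (affPieceι T i)).left by
    change IsImmersion (pullback.snd snd.left (affPieceι T i).left)
    rw [← sql.isoPullback_inv_snd]
    infer_instance
  obtain ⟨V', d, e, hV', hd, hds, hdq, he, heo, hev⟩ := exists_sigma W c hW hfl hcov
  haveI := hd
  haveI := hds
  have hdp : LocallyOfFinitePresentation d.left := by
    refine (IsZariskiLocalAtSource.iff_of_iSup_eq_top (P := @LocallyOfFinitePresentation)
      (fun j => (e j).left.opensRange) (by ext v; simpa using hev v)).2 fun j => ?_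
    haveI := heo j
    rw [← MorphismProperty.cancel_left_of_respectsIso @LocallyOfFinitePresentation (e j).left.isoOpensRange.hom,
      Scheme.Hom.isoOpensRange_hom_ι_assoc, ← Over.comp_left, he]
    exact hfp j
  have := GrothLib.QuasiFlat.descendsAlong_immersion_fppf.{u}
  refine MorphismProperty.of_isPullback_of_descendsAlong (Q := @Surjective ⊓ @Flat ⊓ @LocallyOfFinitePresentation)
    (isPullback_left (IsPullback.of_hasPullback (pullback.snd snd (affPieceι T i)) d)).flip ⟨⟨hds, hd⟩, hdp⟩ ?_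
  rw [IsZariskiLocalAtTarget.iff_of_iSup_eq_top (P := @IsImmersion) (fun j => (e j).left.opensRange) (by
      ext v
      simpa using hev v)]
  intro j
  haveI := heo j
  refine (MorphismProperty.arrow_mk_iso_iff @IsImmersion (morphismRestrictOpensRange _ _)).2 ?_
  obtain ⟨i', l, hl⟩ := hl j
  have sqj := (IsPullback.of_hasPullback (pullback.snd (pullback.snd snd (affPieceι T i)) d) (e j)).paste_horiz
    (IsPullback.of_hasPullback (pullback.snd snd (affPieceι T i)) d) |>.paste_horiz
      (IsPullback.of_hasPullback snd (affPieceι T i))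
  rw [he] at sqj
  have hst := isPullback_stack sqk sqj
  have e0 : (yon S).map (c j ≫ affPieceι T i) ≫ k = l ≫ g i' := by
    rw [Functor.map_comp, Category.assoc, hl]
  rw [e0] at hst
  have sq' : IsPullback ((sq i').lift _ (((yon S).map _) ≫ l) (hst.w.trans (Category.assoc _ _ _).symm))
      ((yon S).map (pullback.snd (pullback.snd (pullback.snd snd (affPieceι T i)) d) (e j))) (p i') l :=
    IsPullback.of_right (by rw [(sq i').lift_fst]; exact hst) ((sq i').lift_snd _ _ _) (sq i')
  have hj : IsImmersion (pullback.snd (pullback.snd (pullback.snd snd (affPieceι T i)) d) (e j)).left :=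
    (h i').2 _ _ _ sq'
  have sql' := isPullback_left (IsPullback.of_hasPullback (pullback.snd (pullback.snd snd (affPieceι T i)) d) (e j))
  have hiso : IsImmersion (sql'.isoPullback.inv ≫
      (pullback.snd (pullback.snd (pullback.snd snd (affPieceι T i)) d) (e j)).left) := inferInstance
  rwa [sql'.isoPullback_inv_snd] at hiso

end GrothLib.AlgSp
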