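import Groth.Agent.Lib.AlgSp.RepBySpBasic
import Groth.Agent.Lib.AlgSp.FppfCover

/-!
# Sheaves covered by maps representable by algebraic spaces
-/

set_option backward.isDefEq.respectTransparency false

universe u

open CategoryTheory CategoryTheory.Limits AlgebraicGeometry Opposite

namespace GrothLib.AlgSp

open _root_.AlgSp

variable {S : Scheme.{u}}

/-- Flat, locally of finite presentation and surjective, for morphisms of fppf sheaves. -/
abbrev FppfMor : MorphismProperty (Sp S) :=
  IsSurjectiveMor ⊓ LocP @Flat ⊓ LocP @LocallyOfFinitePresentation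

theorem isAlgSpace_pullback_of_repBySp {F G X : Sp S} {p : X ⟶ G} (hp : RepBySp p.hom) {T : Over S}
    (g : (yon S).obj T ⟶ G) : IsAlgSpace (pullback p g) :=
  (repBySp_hom_iff p).1 hp g _ _ (IsPullback.of_hasPullback p g)

/-- A surjective morphism, flat and locally of finite presentation, from an algebraic space to a scheme
has an fppf chart. -/
theorem exists_fppf_chart {P : Sp S} (hP : IsAlgSpace P) {T : Over S} {π : P ⟶ (yon S).obj T}
    (h : FppfMor π) :
    ∃ (V : Over S) (b : (yon S).obj V ⟶ P) (c : V ⟶ T), RepWith @Etale b ∧ RepWith @Surjective b ∧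
      b ≫ π = (yon S).map c ∧ Flat c.left ∧ LocallyOfFinitePresentation c.left ∧ Surjective c.left := by
  obtain ⟨V, b, be, bs⟩ := hP.atlas
  obtain ⟨c, hc⟩ := (yon S).map_surjective (b ≫ π)
  have hcomm : b ≫ π = (yon S).map c ≫ 𝟙 _ := by rw [Category.comp_id, hc]
  refine ⟨V, b, c, be, bs, hc.symm, h.1.2 b (𝟙 _) c be (repWith_id _ _) hcomm,
    h.2 b (𝟙 _) c be (repWith_id _ _) hcomm, ⟨fun t => ?_⟩⟩
  obtain ⟨z, hz⟩ := h.1.1 (Points.ofPt (𝟙 ((yon S).obj T)) t)
  obtain ⟨v, rfl⟩ := surjective_ofPt_of_repWith bs z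
  refine ⟨v, (Points.schemeEquiv T).injective ?_⟩
  rw [Points.map_ofPt, ← hc, ← Category.comp_id ((yon S).map c), ofPt_map_comp] at hz
  rw [Points.ofPt_eq_map_ofScheme, Points.ofPt_eq_map_ofScheme, Points.map_id, Points.map_id] at hz
  exact hz

theorem exists_fppf_lift_of_repBySpWith {X F : Sp S} {p : X ⟶ F}
    (hp : RepBySpWith FppfMor p.hom) (T : Over S) (g : (yon S).obj T ⟶ F) :
    ∃ (V : Over S) (c : V ⟶ T) (l : (yon S).obj V ⟶ X),
      Flat c.left ∧ LocallyOfFinitePresentation c.left ∧ Surjective c.left ∧ l ≫ p = (yon S).map c ≫ g := by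
  obtain ⟨hP, hQ⟩ := (repBySpWith_hom_iff _ p).1 hp g _ _ (IsPullback.of_hasPullback p g)
  obtain ⟨V, b, c, -, -, hbc, hf, hl, hs⟩ := exists_fppf_chart hP hQ
  exact ⟨V, c, b ≫ pullback.fst p g, hf, hl, hs, by
    rw [Category.assoc, pullback.condition, ← Category.assoc, hbc]⟩

theorem isLocallySurjective_of_repBySpWith {X F : Sp S} {p : X ⟶ F} (hp : RepBySpWith FppfMor p.hom) :
    Sheaf.IsLocallySurjective p :=
  isLocallySurjective_of_lifts fun U g => exists_fppf_lift_of_repBySpWith hp U g

/-- Composition with an etale chart of the source preserves a property of the source-local kind. -/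
theorem repBySpWith_comp_chart {X : Sp S} (hX : IsAlgSpace X) {U : Over S} {a : (yon S).obj U ⟶ X}
    (ae : RepWith @Etale a) (as : RepWith @Surjective a) {F : Sp S} {p : X ⟶ F} {Q : MorphismProperty (Sp S)}
    (hQ : ∀ ⦃P₁ P₂ : Sp S⦄ ⦃T : Over S⦄ (a' : P₁ ⟶ P₂) (π : P₂ ⟶ (yon S).obj T), IsAlgSpace P₁ → IsAlgSpace P₂ →
      RepWith @Etale a' → RepWith @Surjective a' → Q π → Q (a' ≫ π))
    (hp : RepBySpWith Q p.hom) : RepBySpWith Q (a ≫ p).hom := by
  rw [repBySpWith_hom_iff] at hp ⊢
  intro T g F' fst snd sq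
  obtain ⟨hP, hπ⟩ := hp g _ _ (IsPullback.of_hasPullback p g)
  let a' : F' ⟶ pullback p g := pullback.lift (fst ≫ a) snd (by rw [Category.assoc, sq.w])
  have sq' : IsPullback fst a' a (pullback.fst p g) :=
    IsPullback.of_bot (v₂₁ := pullback.snd p g) (v₂₂ := p) (h₃₁ := g)
      (by rw [pullback.lift_snd]; exact sq) (pullback.lift_fst _ _ _).symm (IsPullback.of_hasPullback p g)
  have he := repWith_of_isPullback sq' ae
  have hF' := isAlgSpace_of_representable hP he.1
  refine ⟨hF', ?_⟩
  have := hQ a' _ hF' hP he (repWith_of_isPullback sq' as) hπ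
  rwa [pullback.lift_snd] at this

theorem fppfMor_etale_comp ⦃P₁ P₂ : Sp S⦄ ⦃T : Over S⦄ (a' : P₁ ⟶ P₂) (π : P₂ ⟶ (yon S).obj T)
    (h₁ : IsAlgSpace P₁) (h₂ : IsAlgSpace P₂) (he : RepWith @Etale a') (hs : RepWith @Surjective a')
    (h : FppfMor π) : FppfMor (a' ≫ π) := by
  refine ⟨⟨fun y => ?_, ?_⟩, ?_⟩
  · obtain ⟨x, rfl⟩ := h.1.1 y
    obtain ⟨w, rfl⟩ := surjective_map_of_repWith hs x
    exact ⟨w, Points.map_comp _ _ _⟩
  · exact EtLocal.locP_comp EtLocal.flat h₁ h₂ (IsAlgSpace.yon_obj T)
      (EtLocal.locP_of_repWith EtLocal.flat h₂ (repWith_mono he fun _ _ g hg => by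
        have : Etale g := hg; infer_instance)) h.1.2
  · exact EtLocal.locP_comp EtLocal.lfp h₁ h₂ (IsAlgSpace.yon_obj T)
      (EtLocal.locP_of_repWith EtLocal.lfp h₂ (repWith_mono he fun _ _ g hg => by
        have : Etale g := hg; infer_instance)) h.2

/-- The fibre product of a scheme with itself over a sheaf is a scheme, if one projection is an
algebraic space locally of finite type over the scheme. -/
theorem exists_scheme_of_mono_prod {U V : Over S} {P : Sp S} (hP : IsAlgSpace P) (a : P ⟶ (yon S).obj U)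
    (b : P ⟶ (yon S).obj V) [Mono (prod.lift a b)] (hb : LocP @LocallyOfFiniteType b) :
    ∃ (R : Over S) (e : (yon S).obj R ≅ P), (LocallyOfFiniteType ((yon S).preimage (e.hom ≫ b)).left) := by
  have hUV : IsAlgSpace ((yon S).obj (U ⨯ V)) := IsAlgSpace.yon_obj _
  let δ : P ⟶ (yon S).obj (U ⨯ V) := prod.lift a b ≫ inv (prodComparison (yon S) U V)
  have : Mono δ := mono_comp _ _
  have hδ : δ ≫ (yon S).map prod.snd = b := by
    rw [Category.assoc, show inv (prodComparison (yon S) U V) ≫ (yon S).map prod.snd = prod.snd by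
      rw [IsIso.inv_comp_eq, prodComparison_snd], prod.lift_snd]
  have hδft : LocP @LocallyOfFiniteType δ := EtLocal.locP_of_comp EtLocal.lft
    (fun A B C f g h => by have : LocallyOfFiniteType (f ≫ g) := h; exact locallyOfFiniteType_of_comp f g)
    hP hUV (IsAlgSpace.yon_obj V) (g := (yon S).map prod.snd) (by rw [hδ]; exact hb)
  have hrep := representable_of_lft_mono hP hUV hδft
  obtain ⟨R, fst, snd, sq⟩ := exists_isPullback_of_representable hrep (𝟙 _)
  have : IsIso fst := sq.isIso_fst_of_isIso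
  refine ⟨R, asIso fst, ?_⟩
  exact hb fst (𝟙 _) _ (repWith_iso _) (repWith_id _ _) (by rw [Category.comp_id, Functor.map_preimage]; rfl)

/-- Sheaves with an fppf chart: the kernel pair is a scheme and the diagonal is representable. -/
theorem exists_kernelPair {F : Sp S} {U : Over S} {p : (yon S).obj U ⟶ F} (hp : RepBySpWith FppfMor p.hom) :
    ∃ (R : Over S) (s t : R ⟶ U), IsPullback ((yon S).map t) ((yon S).map s) p p ∧ Flat s.left ∧
      LocallyOfFinitePresentation s.left ∧ Representable (Limits.diag F) := by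
  obtain ⟨hP, hQ⟩ := (repBySpWith_hom_iff _ p).1 hp p _ _ (IsPullback.of_hasPullback p p)
  have : Mono (prod.lift (pullback.fst p p) (pullback.snd p p)) := ⟨fun x y h => pullback.hom_ext
    (by simpa using h =≫ prod.fst) (by simpa using h =≫ prod.snd)⟩
  obtain ⟨R, e, -⟩ := exists_scheme_of_mono_prod hP (pullback.fst p p) (pullback.snd p p)
    (locP_mono (fun _ _ g hg => by have : LocallyOfFinitePresentation g := hg; infer_instance) hQ.2)
  let t : R ⟶ U := (yon S).preimage (e.hom ≫ pullback.fst p p)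
  let s : R ⟶ U := (yon S).preimage (e.hom ≫ pullback.snd p p)
  have sq : IsPullback ((yon S).map t) ((yon S).map s) p p := by
    refine (IsPullback.of_hasPullback p p).of_iso e.symm (Iso.refl _) (Iso.refl _) (Iso.refl _) ?_ ?_ ?_ ?_ <;>
      simp [s, t]
  have hs : Flat s.left ∧ LocallyOfFinitePresentation s.left := by
    have hc : e.hom ≫ pullback.snd p p = (yon S).map s ≫ 𝟙 _ := by
      rw [Category.comp_id, Functor.map_preimage]
    exact ⟨hQ.1.2 e.hom (𝟙 _) s (repWith_iso _) (repWith_id _ _) hc,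
      hQ.2 e.hom (𝟙 _) s (repWith_iso _) (repWith_id _ _) hc⟩
  refine ⟨R, s, t, sq, hs.1, hs.2, ?_⟩
  have := isLocallySurjective_of_repBySpWith hp
  have := mono_prodLift_of_isEqvRel (isEqvRel_of_isPullback sq)
  have hlft : LocallyOfFiniteType (prod.lift t s).left := by
    have : LocallyOfFiniteType ((prod.lift t s).left ≫ (prod.snd : U ⨯ U ⟶ U).left) := by
      rw [← Over.comp_left, prod.lift_snd]; have := hs.2; infer_instance
    exact locallyOfFiniteType_of_comp _ (prod.snd : U ⨯ U ⟶ U).left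
  have : Sheaf.IsLocallySurjective (prodComparison (yon S) U U ≫ prod.map p p) :=
    have := isLocallySurjective_prodMap p p
    isLocallySurjective_comp _ _
  exact representable_of_base_lqf _ (isPullback_prodLift sq)
    ((repWith_yon_map_iff _ _).2 (inferInstance : LocallyQuasiFinite (prod.lift t s).left))
    ((repWith_yon_map_iff _ _).2 hlft)
    ((repWith_yon_map_iff _ _).2 (inferInstanceAs (IsSeparated (prod.lift t s).left)))

/-- A sheaf with an fppf cover by an algebraic space, representable by spaces, has representable diagonal. -/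
theorem representable_diag_of_cover {F X : Sp S} (hX : IsAlgSpace X) {p : X ⟶ F}
    (hp : RepBySpWith FppfMor p.hom) : Representable (Limits.diag F) := by
  obtain ⟨U, a, ae, as⟩ := hX.atlas
  obtain ⟨R, s, t, -, -, -, hd⟩ := exists_kernelPair (repBySpWith_comp_chart hX ae as fppfMor_etale_comp hp)
  exact hd

end GrothLib.AlgSp
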