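import Groth.Agent.Lib.AlgSp.Slice
import Groth.Agent.Lib.AlgSp.EtaleChart
import Groth.Agent.Lib.AlgSp.RepBySpCover

/-!
# Bootstrap: a sheaf with an fppf cover by a scheme is an algebraic space

* `exists_lqf_cover`: slicing, globally;
* `isAlgSpace_of_fppf_chart`: a sheaf with representable diagonal and an fppf chart is an algebraic space;
* `isAlgSpace_of_repBySpWith_fppf`: the bootstrap theorem.
-/

universe u

open CategoryTheory CategoryTheory.Limits AlgebraicGeometry IsLocalRing

namespace GrothLib.AlgSp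

open _root_.AlgSp

variable {S : Scheme.{u}} {F : Sp S}

/-- Two maps from an empty scheme to a sheaf agree. -/
theorem hom_ext_of_isEmpty {Z : Over S} [IsEmpty Z.left] (a b : (yon S).obj Z ⟶ F) : a = b := by
  obtain ⟨l, -, hu⟩ := exists_hom_of_openCover (F := F) (T := Z) (fun i : PEmpty.{u + 1} => i.elim)
    (fun i => i.elim) (fun i => i.elim) (fun z => isEmptyElim z) (fun i => i.elim) (fun i => i.elim)
  exact (hu a fun i => i.elim).trans (hu b fun i => i.elim).symm

/-- A coproduct of separated schemes over a base is separated over it. -/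
theorem isSeparated_sigmaDesc {ι : Type u} {Y : ι → Scheme.{u}} {T : Scheme.{u}} (f : ∀ i, Y i ⟶ T)
    (hf : ∀ i, IsSeparated (f i)) : IsSeparated (Sigma.desc f) := by
  refine ⟨IsClosedImmersion.of_isPreimmersion _ ?_⟩
  set d := Sigma.desc f
  rw [← isOpen_compl_iff, isOpen_iff_forall_mem_open]
  intro z hz
  obtain ⟨⟨i, a⟩, ha⟩ := (sigmaMk Y).surjective (pullback.fst d d z)
  obtain ⟨⟨j, b⟩, hb⟩ := (sigmaMk Y).surjective (pullback.snd d d z)
  rw [sigmaMk_mk] at ha hb
  have hdiag : ∀ x, pullback.fst d d (pullback.diagonal d x) = x ∧ pullback.snd d d (pullback.diagonal d x) = x :=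
    fun x => ⟨by rw [← Scheme.Hom.comp_apply, pullback.diagonal_fst]; rfl,
      by rw [← Scheme.Hom.comp_apply, pullback.diagonal_snd]; rfl⟩
  by_cases hij : i = j
  swap
  · refine ⟨pullback.fst d d ⁻¹' Set.range (Sigma.ι Y i) ∩ pullback.snd d d ⁻¹' Set.range (Sigma.ι Y j), ?_,
      ((Sigma.ι Y i).isOpenEmbedding.isOpen_range.preimage (pullback.fst d d).continuous).inter
        ((Sigma.ι Y j).isOpenEmbedding.isOpen_range.preimage (pullback.snd d d).continuous), ⟨a, ha⟩, ⟨b, hb⟩⟩
    rintro w ⟨⟨a', h1⟩, ⟨b', h2⟩⟩ ⟨x, rfl⟩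
    rw [(hdiag x).1] at h1; rw [(hdiag x).2] at h2
    exact hij (congrArg Sigma.fst ((sigmaι_eq_iff Y _ _ _ _).1 (h1.trans h2.symm)))
  subst hij
  let φ : pullback (f i) (f i) ⟶ pullback d d := pullback.map _ _ _ _ (Sigma.ι Y i) (Sigma.ι Y i) (𝟙 T)
    (by rw [Category.comp_id, Sigma.ι_desc]) (by rw [Category.comp_id, Sigma.ι_desc])
  have hφ : pullback.diagonal (f i) ≫ φ = Sigma.ι Y i ≫ pullback.diagonal d := by
    apply pullback.hom_ext
    · show (pullback.diagonal (f i) ≫ φ) ≫ pullback.fst d d = (Sigma.ι Y i ≫ pullback.diagonal d) ≫ pullback.fst d d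
      rw [Category.assoc, show φ ≫ pullback.fst d d = pullback.fst (f i) (f i) ≫ Sigma.ι Y i from pullback.lift_fst _ _ _]
      refine ((Category.assoc _ _ _).symm.trans ?_).trans (Category.assoc _ _ _).symm
      rw [pullback.diagonal_fst, pullback.diagonal_fst, Category.id_comp]
      exact (Category.comp_id _).symm
    · show (pullback.diagonal (f i) ≫ φ) ≫ pullback.snd d d = (Sigma.ι Y i ≫ pullback.diagonal d) ≫ pullback.snd d d
      rw [Category.assoc, show φ ≫ pullback.snd d d = pullback.snd (f i) (f i) ≫ Sigma.ι Y i from pullback.lift_snd _ _ _]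
      refine ((Category.assoc _ _ _).symm.trans ?_).trans (Category.assoc _ _ _).symm
      rw [pullback.diagonal_snd, pullback.diagonal_snd, Category.id_comp]
      exact (Category.comp_id _).symm
  have := hf i
  refine ⟨φ '' (Set.range (pullback.diagonal (f i)))ᶜ, ?_,
    φ.isOpenEmbedding.isOpenMap _ (pullback.diagonal (f i)).isClosedEmbedding.isClosed_range.isOpen_compl, ?_⟩
  · rintro _ ⟨w, hw, rfl⟩ ⟨x, hx⟩
    have h1 : pullback.fst d d (φ w) = Sigma.ι Y i (pullback.fst (f i) (f i) w) := by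
      rw [← Scheme.Hom.comp_apply, pullback.lift_fst]; rfl
    rw [← hx, (hdiag x).1] at h1
    refine hw ⟨pullback.fst (f i) (f i) w, φ.isOpenEmbedding.injective ?_⟩
    rw [← hx, h1, ← Scheme.Hom.comp_apply, hφ]
    rfl
  · have hzr : z ∈ Set.range φ := by
      rw [Scheme.Pullback.range_map]
      exact ⟨⟨a, ha⟩, ⟨b, hb⟩⟩
    obtain ⟨w, rfl⟩ := hzr
    refine ⟨w, ?_, rfl⟩
    rintro ⟨y, rfl⟩
    exact hz ⟨Sigma.ι Y i y, by rw [← Scheme.Hom.comp_apply, ← hφ]; rfl⟩

variable {U : Over S} {π : (yon S).obj U ⟶ F}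

/-- Every point of the base of a flat chart lies on an affine quasi-finite chart. -/
theorem exists_lqf_chart_through (hπ : RepWith @Flat π) (hπ' : RepWith @LocallyOfFinitePresentation π)
    (u : U.left) :
    ∃ (Y : Over S) (g : Y ⟶ U), IsAffine Y.left ∧ RepWith @Flat ((yon S).map g ≫ π) ∧
      RepWith @LocallyOfFinitePresentation ((yon S).map g ≫ π) ∧
      RepWith @LocallyQuasiFinite ((yon S).map g ≫ π) ∧
      Points.ofPt π u ∈ Set.range (Points.ofPt ((yon S).map g ≫ π)) := by
  let Ω : Set U.left := {u | ∃ (Y : Over S) (g : Y ⟶ U), IsAffine Y.left ∧ RepWith @Flat ((yon S).map g ≫ π) ∧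
      RepWith @LocallyOfFinitePresentation ((yon S).map g ≫ π) ∧
      RepWith @LocallyQuasiFinite ((yon S).map g ≫ π) ∧
      Points.ofPt π u ∈ Set.range (Points.ofPt ((yon S).map g ≫ π))}
  suffices Ω = Set.univ from (this.symm ▸ Set.mem_univ u : u ∈ Ω)
  have hopen : IsOpen Ω := by
    rw [isOpen_iff_forall_mem_open]
    rintro v ⟨Y, g, ha, h₁, h₂, h₃, hv⟩
    refine ⟨Points.ofPt π ⁻¹' Set.range (Points.ofPt ((yon S).map g ≫ π)), fun w hw => ⟨Y, g, ha, h₁, h₂, h₃, hw⟩,
      ?_, hv⟩
    refine IsOpen.preimage (Points.continuous_ofPt π) (IsOpenMap.isOpen_range ?_)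
    exact isOpenMap_ofPt_of_repWith (P := @Flat ⊓ @LocallyOfFinitePresentation) (fun A B h hh => by
      have : Flat h := hh.1; have : LocallyOfFinitePresentation h := hh.2; exact h.isOpenMap)
      (repWith_inf_iff.2 ⟨h₁, h₂⟩)
  by_contra hne
  obtain ⟨v, hv⟩ : ∃ v, v ∉ Ω := by
    by_contra hc; push Not at hc; exact hne (Set.eq_univ_of_forall hc)
  obtain ⟨_, ⟨V, hV, rfl⟩, hvV, -⟩ := U.left.isBasis_affineOpens.exists_subset_of_mem_open (Set.mem_univ v) isOpen_univ
  -- a closed point of the affine open outside `Ω`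
  let Z : Set (Spec Γ(U.left, V)) := (hV.fromSpec ⁻¹' Ω)ᶜ
  have hZ : IsClosed Z := (hopen.preimage hV.fromSpec.continuous).isClosed_compl
  have hZne : Z.Nonempty := ⟨hV.primeIdealOf ⟨v, hvV⟩, fun h => hv (by
    rw [Set.mem_preimage, hV.fromSpec_primeIdealOf] at h; exact h)⟩
  obtain ⟨M, hMZ, hMc⟩ := hZ.exists_closed_singleton hZne
  haveI hM : M.asIdeal.IsMaximal := (PrimeSpectrum.isClosed_singleton_iff_isMaximal M).1 hMc
  letI : Field (Γ(U.left, V) ⧸ M.asIdeal) := Ideal.Quotient.field _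
  let K := Γ(U.left, V) ⧸ M.asIdeal
  let mk : Γ(U.left, V) ⟶ CommRingCat.of K := CommRingCat.ofHom (Ideal.Quotient.mk M.asIdeal)
  have : IsClosedImmersion (Spec.map mk) := IsClosedImmersion.spec_of_surjective _ Ideal.Quotient.mk_surjective
  let x₀ : Spec (CommRingCat.of K) ⟶ U.left := Spec.map mk ≫ hV.fromSpec
  have hx₀ : x₀ (closedPoint K) = hV.fromSpec M := by
    refine congrArg hV.fromSpec (PrimeSpectrum.ext ?_)
    show (closedPoint K).asIdeal.comap (Ideal.Quotient.mk M.asIdeal) = M.asIdeal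
    rw [show (closedPoint K).asIdeal = ⊥ from maximalIdeal_eq_bot, ← RingHom.ker_eq_comap_bot, Ideal.mk_ker]
  let str : Spec (CommRingCat.of K) ⟶ S := x₀ ≫ U.hom
  let x : Over.mk str ⟶ U := Over.homMk x₀ rfl
  have hxft : LocallyOfFiniteType x.left := inferInstanceAs (LocallyOfFiniteType (Spec.map mk ≫ hV.fromSpec))
  obtain ⟨X, fst, p, sq⟩ := exists_isPullback_of_representable hπ.1 ((yon S).map x ≫ π)
  obtain ⟨q, rfl⟩ := (yon S).map_surjective fst
  let e : Over.mk str ⟶ X := (yon S).preimage (sq.lift ((yon S).map x) ((yon S).map (𝟙 _))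
    (by rw [(yon S).map_id, Category.id_comp]))
  have heq : e ≫ q = x := (yon S).map_injective (by rw [Functor.map_comp, Functor.map_preimage, IsPullback.lift_fst])
  have hep : e ≫ p = 𝟙 _ := (yon S).map_injective (by rw [Functor.map_comp, Functor.map_preimage, IsPullback.lift_snd])
  have hpft : LocallyOfFiniteType p.left := (repWith_mono hπ' fun A B f hf => by
      have : LocallyOfFinitePresentation f := hf; exact (inferInstance : LocallyOfFiniteType f)).2 _ _ _ sq
  obtain ⟨_, ⟨W, hW, rfl⟩, heW, -⟩ :=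
    X.left.isBasis_affineOpens.exists_subset_of_mem_open (Set.mem_univ (e.left (closedPoint K))) isOpen_univ
  obtain ⟨n, hn⟩ : ∃ n : ℕ, ringKrullDim Γ(X.left, W) ≤ n := by
    obtain ⟨φ, hφ⟩ := Spec.map_surjective (hW.fromSpec ≫ p.left)
    have hft : φ.hom.FiniteType := (HasRingHomProperty.Spec_iff (P := @LocallyOfFiniteType)).1
      (hφ ▸ inferInstanceAs (LocallyOfFiniteType (hW.fromSpec ≫ p.left)))
    letI : Algebra K Γ(X.left, W) := φ.hom.toAlgebra
    have : Algebra.FiniteType K Γ(X.left, W) := hft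
    obtain ⟨n, f, hf⟩ := Algebra.FiniteType.iff_quotient_mvPolynomial''.1 this
    refine ⟨n, (ringKrullDim_le_of_surjective _ hf).trans ?_⟩
    rw [MvPolynomial.ringKrullDim_of_isNoetherianRing, ringKrullDim_eq_zero_of_field]
    simp
  obtain ⟨Y, g, T, l, y, ⟨τ⟩, h₁, h₂, h₃, hrel⟩ :=
    reach_of_dim n hπ hπ' sq heq hep hW.fromSpec (by rw [hW.range_fromSpec]; exact heW) hn
  have hpt : Points.ofPt π (hV.fromSpec M) = Points.ofPt ((yon S).map g ≫ π) (y.left τ) := by
    rw [← hx₀, ← ofPt_map_comp y ((yon S).map g ≫ π) τ, hrel, ofPt_map_comp, ofPt_map_comp]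
    exact congrArg (fun z => Points.ofPt π (x₀ z)) (Subsingleton.elim (α := PrimeSpectrum K) _ _)
  obtain ⟨_, ⟨O, hO, rfl⟩, hyO, -⟩ :=
    Y.left.isBasis_affineOpens.exists_subset_of_mem_open (Set.mem_univ (y.left τ)) isOpen_univ
  apply hMZ
  let O : Y.left.Opens := O
  show hV.fromSpec M ∈ Ω
  refine ⟨openOver O, openOverι O ≫ g, hO, ?_⟩
  rw [(yon S).map_comp, Category.assoc]
  refine ⟨repWith_comp ((repWith_yon_map_iff _ _).2 (inferInstanceAs (Flat O.ι))) h₁,
    repWith_comp ((repWith_yon_map_iff _ _).2 (inferInstanceAs (LocallyOfFinitePresentation O.ι))) h₂,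
    repWith_comp ((repWith_yon_map_iff _ _).2 (inferInstanceAs (LocallyQuasiFinite O.ι))) h₃,
    ⟨⟨y.left τ, hyO⟩, ?_⟩⟩
  rw [ofPt_map_comp, hpt]
  rfl

/-- An fppf chart can be replaced by a flat, lfp, locally quasi-finite, separated one. -/
theorem exists_lqf_cover (hd : Representable (Limits.diag F)) (hπ : RepWith @Flat π)
    (hπ' : RepWith @LocallyOfFinitePresentation π) (hs : RepWith @Surjective π) :
    ∃ (M : Over S) (g : M ⟶ U) (p : (yon S).obj M ⟶ F), p = (yon S).map g ≫ π ∧ RepWith @Flat p ∧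
      RepWith @LocallyOfFinitePresentation p ∧ RepWith @LocallyQuasiFinite p ∧ RepWith @Surjective p ∧
      IsSeparated M.hom ∧
      ∀ A : Set M.left, A.Finite → ∃ V : M.left.Opens, IsAffineOpen V ∧ A ⊆ V := by
  choose Y g₀ hYa hf hp hq hu using exists_lqf_chart_through hπ hπ'
  let G : U.left → Scheme.{u} := fun u => (Y u).left
  let M : Over S := Over.mk (Sigma.desc fun u => (Y u).hom)
  let c : ∀ u, Y u ⟶ M := fun u => Over.homMk (Sigma.ι G u) (Sigma.ι_desc _ _)
  have hco : ∀ u, IsOpenImmersion (c u).left := fun u => inferInstanceAs (IsOpenImmersion (Sigma.ι G u))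
  have hcs : ∀ m : M.left, ∃ u y, (c u).left y = m := fun m => by
    obtain ⟨⟨u, y⟩, h⟩ := (sigmaMk G).surjective m
    rw [sigmaMk_mk] at h
    exact ⟨u, y, h⟩
  let gM : M ⟶ U := Over.homMk (Sigma.desc fun u => (g₀ u).left) (Sigma.hom_ext _ _ fun u => by
    rw [Sigma.ι_desc_assoc]; exact (Over.w (g₀ u)).trans (Sigma.ι_desc (fun u => (Y u).hom) u).symm)
  let P : (yon S).obj M ⟶ F := (yon S).map gM ≫ π
  let π' := fun u => (yon S).map (g₀ u) ≫ π
  have hP : ∀ u, (yon S).map (c u) ≫ P = π' u := fun u => by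
    rw [← Category.assoc, ← Functor.map_comp, show c u ≫ gM = g₀ u from Over.OverMorphism.ext (Sigma.ι_desc _ _)]
  have hrep : Representable P := representable_diag_iff.1 hd P
  have hloc : ∀ (Q : MorphismProperty Scheme.{u}) [IsZariskiLocalAtSource Q], (∀ u, RepWith Q (π' u)) →
      RepWith Q P := by
    intro Q _ hQ
    refine ⟨hrep, fun T V g fst snd sq => ?_⟩
    obtain ⟨φ, rfl⟩ := (yon S).map_surjective fst
    show Q snd.left
    let 𝒰 := (sigmaOpenCover G).pullback₁ φ.left
    refine (IsZariskiLocalAtSource.iff_of_openCover (P := Q) 𝒰).2 fun u => ?_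
    have sb := IsPullback.of_hasPullback φ (c u)
    have sl := isPullback_left sb
    have hcomp : IsPullback ((yon S).map (pullback.snd φ (c u))) ((yon S).map (pullback.fst φ (c u) ≫ snd))
        (π' u) g := by
      rw [← hP u, Functor.map_comp]
      exact (isPullback_yon sb).flip.paste_vert sq
    have := (hQ u).2 _ _ _ hcomp
    have e : 𝒰.f u = sl.isoPullback.inv ≫ (pullback.fst φ (c u)).left := (sl.isoPullback_inv_fst).symm
    rw [e]
    have h2 : Q (sl.isoPullback.inv ≫ (pullback.fst φ (c u) ≫ snd).left) :=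
      (MorphismProperty.cancel_left_of_respectsIso Q sl.isoPullback.inv _).2 this
    rw [Over.comp_left, ← Category.assoc] at h2
    exact h2
  refine ⟨M, gM, P, rfl, hloc _ hf, hloc _ hp, hloc _ hq, ?_, isSeparated_sigmaDesc _ (fun u => ?_), fun A hA => ?_⟩
  · refine repWith_surjective_of_ofPt hrep fun z => ?_
    obtain ⟨u, rfl⟩ := surjective_ofPt_of_repWith hs z
    obtain ⟨y, hy⟩ := hu u
    exact ⟨(c u).left y, by rw [← ofPt_map_comp, hP u]; exact hy⟩
  · have : IsAffine (Y u).left := hYa u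
    infer_instance
  · choose idx pre hpre using hcs
    have := (hA.image idx).to_subtype
    refine ⟨⨆ i : idx '' A, (Sigma.ι G i.1).opensRange, IsAffineOpen.iSup_of_disjoint
      (fun i => have : IsAffine (G i.1) := hYa i.1; isAffineOpen_opensRange _)
      (fun i j hij => disjoint_opensRange_sigmaι G _ _ fun h => hij (Subtype.ext h)), fun m hm => ?_⟩
    exact TopologicalSpace.Opens.mem_iSup.2 ⟨⟨idx m, m, hm, rfl⟩, pre m, hpre m⟩

/-- A sheaf with representable diagonal and an fppf chart is an algebraic space. -/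
theorem isAlgSpace_of_fppf_chart (hd : Representable (Limits.diag F)) (hπ : RepWith @Flat π)
    (hπ' : RepWith @LocallyOfFinitePresentation π) (hs : RepWith @Surjective π) : IsAlgSpace F := by
  obtain ⟨M, -, p, -, hf, hp, hq, hps, hsep, haff⟩ := exists_lqf_cover hd hπ hπ' hs
  have := isLocallySurjective_of_repWith hf hp hps
  obtain ⟨R, t₀, s, sq⟩ := exists_isPullback_of_representable hf.1 p
  obtain ⟨t, rfl⟩ := (yon S).map_surjective t₀
  have : Flat s.left := hf.2 _ _ _ sq
  have : LocallyOfFinitePresentation s.left := hp.2 _ _ _ sq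
  have : LocallyQuasiFinite s.left := hq.2 _ _ _ sq
  have heq := isEqvRel_of_isPullback sq
  let j : R.left ⟶ pullback M.hom M.hom :=
    pullback.lift t.left s.left ((Over.w t).trans (Over.w s).symm)
  have : Mono j := ⟨fun a b h => scheme_hom_ext heq a b
    (by
      rw [← pullback.lift_fst t.left s.left ((Over.w t).trans (Over.w s).symm), ← Category.assoc, ← Category.assoc]
      exact congrArg (fun k => k ≫ pullback.fst M.hom M.hom) h)
    (by
      rw [← pullback.lift_snd t.left s.left ((Over.w t).trans (Over.w s).symm), ← Category.assoc, ← Category.assoc]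
      exact congrArg (fun k => k ≫ pullback.snd M.hom M.hom) h)⟩
  have : IsSeparated s.left := by
    rw [← pullback.lift_snd t.left s.left ((Over.w t).trans (Over.w s).symm)]
    exact inferInstanceAs (IsSeparated (j ≫ pullback.snd M.hom M.hom))
  exact ⟨hd, exists_etale_chart hd sq haff⟩

/-- The bootstrap theorem: a sheaf with an fppf cover by an algebraic space, representable by algebraic
spaces, is an algebraic space. -/
theorem isAlgSpace_of_repBySpWith_fppf {X : Sp S} (hX : IsAlgSpace X) {p : X ⟶ F}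
    (hp : RepBySpWith FppfMor p.hom) : IsAlgSpace F := by
  obtain ⟨U, a, ae, as⟩ := hX.atlas
  have hp' := repBySpWith_comp_chart hX ae as fppfMor_etale_comp hp
  have hd := representable_diag_of_cover hX hp
  have hrep : Representable (a ≫ p) := representable_diag_iff.1 hd _
  have key : ∀ ⦃T V : Over S⦄ (g : (yon S).obj T ⟶ F) (fst : (yon S).obj V ⟶ (yon S).obj U) (snd : V ⟶ T),
      IsPullback fst ((yon S).map snd) (a ≫ p) g →
      Flat snd.left ∧ LocallyOfFinitePresentation snd.left ∧ Surjective snd.left := by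
    intro T V g fst snd sq
    obtain ⟨-, hπ⟩ := (repBySpWith_hom_iff _ _).1 hp' g _ _ sq
    refine ⟨locP_yon_map hπ.1.2, locP_yon_map hπ.2, ⟨fun t => ?_⟩⟩
    obtain ⟨z, hz⟩ := hπ.1.1 (Points.ofScheme T t)
    obtain ⟨v, rfl⟩ := (Points.schemeEquiv V).surjective z
    exact ⟨v, (Points.schemeEquiv T).injective ((map_yon_ofPt snd v).symm.trans hz)⟩
  exact isAlgSpace_of_fppf_chart hd (π := a ≫ p) ⟨hrep, fun T V g fst snd sq => (key g fst snd sq).1⟩
    ⟨hrep, fun T V g fst snd sq => (key g fst snd sq).2.1⟩ ⟨hrep, fun T V g fst snd sq => (key g fst snd sq).2.2⟩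

end GrothLib.AlgSp
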