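import Groth.Agent.Lib.AlgSp.DecentBridge
import Groth.Agent.Lib.AlgSp.Bootstrap
import Groth.Agent.Lib.BddFibre.Comp
import Mathlib.AlgebraicGeometry.ZariskisMainTheorem

/-!
# Finite discrete schemes

* `isFinite_of_finite_discrete`: separated quasi-finite maps of finitely many points to a finite discrete affine
  scheme are finite.
-/

universe u

open CategoryTheory CategoryTheory.Limits AlgebraicGeometry

namespace GrothLib.AlgSp

theorem isLocallyArtinian_of_reduced_discrete (V : Scheme.{u}) [IsReduced V] [DiscreteTopology V] :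
    IsLocallyArtinian V := by
  let 𝒰 : V.OpenCover := V.openCoverOfIsOpenCover
    (fun x : V ↦ ⟨{x}, isOpen_discrete _⟩) (.mk (by ext; simp))
  suffices IsLocallyNoetherian V from .of_isLocallyNoetherian_of_discreteTopology
  refine (isLocallyNoetherian_iff_openCover 𝒰).mpr fun i => ?_
  haveI : IsReduced (𝒰.X i) := isReduced_of_isOpenImmersion (𝒰.f i)
  haveI : Subsingleton ↥(𝒰.X i) := inferInstanceAs (Subsingleton ({i} : Set V))
  haveI : Nonempty ↥(𝒰.X i) := inferInstanceAs (Nonempty ({i} : Set V))
  haveI : IsIntegral (𝒰.X i) := (isIntegral_iff_irreducibleSpace_and_isReduced _).mpr ⟨⟨inferInstance⟩, inferInstance⟩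
  letI := (isField_of_isIntegral_of_subsingleton (𝒰.X i)).toField
  haveI : IsLocallyArtinian (Spec Γ(𝒰.X i, ⊤)) := Scheme.isLocallyArtinianScheme_Spec.2 inferInstance
  exact LocallyOfFiniteType.isLocallyNoetherian (𝒰.X i).isoSpec.hom

theorem isFinite_of_finite_discrete {R U : Scheme.{u}} (f : R ⟶ U) [IsAffine U] [DiscreteTopology U]
    [Finite R] [LocallyQuasiFinite f] [LocallyOfFiniteType f] [IsSeparated f] : IsFinite f := by
  let π : Γ(U, ⊤) ⟶ CommRingCat.of (Γ(U, ⊤) ⧸ nilradical Γ(U, ⊤)) := CommRingCat.ofHom (Ideal.Quotient.mk _)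
  let i := Spec.map π ≫ U.isoSpec.inv
  haveI : IsClosedImmersion (Spec.map π) := IsClosedImmersion.spec_of_surjective _ Ideal.Quotient.mk_surjective
  haveI : Surjective (Spec.map π) := by
    refine ⟨fun x => ?_⟩
    have hx : x ∈ Set.range (PrimeSpectrum.comap π.hom) := by
      rw [range_comap_of_surjective _ π.hom Ideal.Quotient.mk_surjective]
      show (RingHom.ker (Ideal.Quotient.mk (nilradical Γ(U, ⊤))) : Set Γ(U, ⊤)) ⊆ x.asIdeal
      rw [Ideal.mk_ker]
      exact nilradical_le_prime x.asIdeal
    exact hx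
  haveI : _root_.IsReduced (Γ(U, ⊤) ⧸ nilradical Γ(U, ⊤)) :=
    (Ideal.isRadical_iff_quotient_reduced _).1 (Ideal.radical_isRadical _)
  haveI : IsReduced (Spec (CommRingCat.of (Γ(U, ⊤) ⧸ nilradical Γ(U, ⊤)))) := inferInstance
  haveI : DiscreteTopology ↥(Spec (CommRingCat.of (Γ(U, ⊤) ⧸ nilradical Γ(U, ⊤)))) :=
    i.isClosedEmbedding.isEmbedding.discreteTopology
  haveI := isLocallyArtinian_of_reduced_discrete (Spec (CommRingCat.of (Γ(U, ⊤) ⧸ nilradical Γ(U, ⊤))))
  haveI : QuasiCompact f := quasiCompact_of_finite f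
  haveI : IsFinite (pullback.snd f i) := .of_locallyQuasiFinite _
  haveI : UniversallyClosed (pullback.fst f i ≫ f) := by rw [pullback.condition]; infer_instance
  haveI : UniversallyClosed f := .of_comp_surjective (pullback.fst f i) f
  haveI : IsProper f := { }
  exact .of_isProper_of_locallyQuasiFinite f

open _root_.AlgSp in
theorem isSeparated_pullback_snd {S : Scheme.{u}} {X : Sp S} {U R : Over S} [IsSeparated U.hom]
    {b : (yon S).obj U ⟶ X} {t s : R ⟶ U}
    (sq : IsPullback ((yon S).map t) ((yon S).map s) b b) : IsSeparated s.left := by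
  have heq := isEqvRel_of_isPullback sq
  let j : R.left ⟶ pullback U.hom U.hom :=
    pullback.lift t.left s.left ((Over.w t).trans (Over.w s).symm)
  have : Mono j := ⟨fun a b h => scheme_hom_ext heq a b
    (by
      rw [← pullback.lift_fst t.left s.left ((Over.w t).trans (Over.w s).symm), ← Category.assoc, ← Category.assoc]
      exact congrArg (fun k => k ≫ pullback.fst U.hom U.hom) h)
    (by
      rw [← pullback.lift_snd t.left s.left ((Over.w t).trans (Over.w s).symm), ← Category.assoc, ← Category.assoc]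
      exact congrArg (fun k => k ≫ pullback.snd U.hom U.hom) h)⟩
  rw [← pullback.lift_snd t.left s.left ((Over.w t).trans (Over.w s).symm)]
  exact inferInstanceAs (IsSeparated (j ≫ pullback.snd U.hom U.hom))

end GrothLib.AlgSp
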