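import Mathlib.AlgebraicGeometry.Morphisms.Etale
import Mathlib.AlgebraicGeometry.Morphisms.FlatMono
import Mathlib.RingTheory.Unramified.Finite
import Groth.Agent.Lib.AlgSp.LocP
import Groth.Agent.Lib.AlgSp.Points
import Groth.Agent.Lib.Flatness.Fibre
import Groth.Prelude.Def_AlgSpMor5

/-!
# Flatness at a point of a morphism of algebraic spaces

Main results: `flat_stalk_comp`, `flat_stalk_left`, `flat_stalk_right`, `isFlatAtMor_iff_chart`,
`locP_flat_iff_forall`.
-/

universe u

open CategoryTheory CategoryTheory.Limits AlgebraicGeometry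

namespace GrothLib.AlgSp

variable {U V W : Scheme.{u}}

theorem flat_stalk_comp (h : U ⟶ V) (k : V ⟶ W) (u : U) (h1 : (h.stalkMap u).hom.Flat)
    (h2 : (k.stalkMap (h u)).hom.Flat) : ((h ≫ k).stalkMap u).hom.Flat := by
  rw [Scheme.Hom.stalkMap_comp]
  exact RingHom.Flat.comp h2 h1

/-- Cancelling an etale morphism on the right. -/
theorem flat_stalk_left (h : U ⟶ V) (b : V ⟶ W) [Etale b] (u : U) (hf : ((h ≫ b).stalkMap u).hom.Flat) :
    (h.stalkMap u).hom.Flat := by
  have hu : (b.stalkMap (h u)).hom.FormallyUnramified := FormallyUnramified.stalkMap b _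
  have he : (b.stalkMap (h u)).hom.EssFiniteType := LocallyOfFiniteType.stalkMap b _
  have h3 : ((h.stalkMap u).hom.comp (b.stalkMap (h u)).hom).Flat := by
    rw [Scheme.Hom.stalkMap_comp] at hf
    exact hf
  algebraize [(b.stalkMap (h u)).hom, (h.stalkMap u).hom, (h.stalkMap u).hom.comp (b.stalkMap (h u)).hom]
  exact Algebra.FormallyUnramified.flat_of_restrictScalars (W.presheaf.stalk (b (h u))) (V.presheaf.stalk (h u))
    (U.presheaf.stalk u)

/-- Cancelling a flat morphism on the left. -/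
theorem flat_stalk_right (a : U ⟶ V) (h : V ⟶ W) (u : U) (ha : (a.stalkMap u).hom.Flat)
    (hf : ((a ≫ h).stalkMap u).hom.Flat) : (h.stalkMap (a u)).hom.Flat := by
  have h3 : ((a.stalkMap u).hom.comp (h.stalkMap (a u)).hom).Flat := by
    rw [Scheme.Hom.stalkMap_comp] at hf
    exact hf
  algebraize [(h.stalkMap (a u)).hom, (a.stalkMap u).hom, (a.stalkMap u).hom.comp (h.stalkMap (a u)).hom]
  have : IsLocalHom (algebraMap (V.presheaf.stalk (a u)) (U.presheaf.stalk u)) :=
    inferInstanceAs (IsLocalHom (a.stalkMap u).hom)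
  have := Module.FaithfullyFlat.of_flat_of_isLocalHom (A := V.presheaf.stalk (a u)) (B := U.presheaf.stalk u)
  exact GrothLib.Flatness.flat_of_faithfullyFlat (M := U.presheaf.stalk u)

theorem flat_stalk_congr {h h' : U ⟶ W} (e : h = h') {u : U} : (h.stalkMap u).hom.Flat ↔ (h'.stalkMap u).hom.Flat := by
  subst e; rfl

theorem flat_stalk_etale_iff {U' V' : Scheme.{u}} (h : U ⟶ V) (h' : U' ⟶ V') (a : U' ⟶ U) (b : V' ⟶ V)
    [Etale a] [Etale b] (comm : h' ≫ b = a ≫ h) (u : U') :
    (h.stalkMap (a u)).hom.Flat ↔ (h'.stalkMap u).hom.Flat :=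
  ⟨fun hf => flat_stalk_left h' b u ((flat_stalk_congr comm).2 (flat_stalk_comp a h u (Flat.stalkMap a u) hf)),
    fun hf => flat_stalk_right a h u (Flat.stalkMap a u)
      ((flat_stalk_congr comm).1 (flat_stalk_comp h' b u hf (Flat.stalkMap b _)))⟩

open _root_.AlgSp

variable {S : Scheme.{u}} {F G : Sp S} {f : F ⟶ G}

/-- Flatness at a point is read on any chart through it. -/
theorem isFlatAtMor_iff_chart {U V : Over S} {a : (yon S).obj U ⟶ F} {b : (yon S).obj V ⟶ G} {h : U ⟶ V}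
    (ha : RepWith @Etale a) (hb : RepWith @Etale b) (comm : a ≫ f = (yon S).map h ≫ b) (u : ↥U.left) :
    IsFlatAtMor f (Points.ofPt a u) ↔ (h.left.stalkMap u).hom.Flat := by
  refine ⟨fun H => H a b h u ha hb comm rfl, fun H U' V' a' b' h' u' ha' hb' comm' hu' => ?_⟩
  obtain ⟨W, w₁, w₂, sqW⟩ := exists_isPullback_of_representable ha.1 a'
  obtain ⟨w₁, rfl⟩ := (yon S).map_surjective w₁
  obtain ⟨Q, q₁, q₂, sqQ⟩ := exists_isPullback_of_representable hb.1 b'
  obtain ⟨q₁, rfl⟩ := (yon S).map_surjective q₁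
  have : Etale w₂.left := ha.2 _ _ _ sqW
  have : Etale w₁.left := ha'.2 _ _ _ sqW.flip
  have : Etale q₂.left := hb.2 _ _ _ sqQ
  have : Etale q₁.left := hb'.2 _ _ _ sqQ.flip
  have e : (yon S).map (w₁ ≫ h) ≫ b = (yon S).map (w₂ ≫ h') ≫ b' := by
    rw [Functor.map_comp, Functor.map_comp, Category.assoc, Category.assoc, ← comm, ← comm',
      ← Category.assoc, sqW.w, Category.assoc]
  let m : W ⟶ Q := (yon S).preimage (sqQ.lift _ _ e)
  have m₁ : m ≫ q₁ = w₁ ≫ h := (yon S).map_injective (by simp [m])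
  have m₂ : m ≫ q₂ = w₂ ≫ h' := (yon S).map_injective (by simp [m])
  obtain ⟨w, hw₁, hw₂⟩ := (ofPt_eq_ofPt_iff sqW u u').1 hu'.symm
  subst hw₁ hw₂
  change (h'.left.stalkMap _).hom.Flat
  rw [flat_stalk_etale_iff h'.left m.left w₂.left q₂.left (congrArg CommaMorphism.left m₂) w,
    ← flat_stalk_etale_iff h.left m.left w₁.left q₁.left (congrArg CommaMorphism.left m₁) w]
  exact H

theorem locP_flat_of_forall (h : ∀ x, IsFlatAtMor f x) : LocP @Flat f := fun _ _ a b k ha hb comm =>
  Flat.of_stalkMap _ fun u => h _ a b k u ha hb comm rfl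

theorem isFlatAtMor_of_locP (h : LocP @Flat f) (x : Points F) : IsFlatAtMor f x :=
  fun _ _ a b k u ha hb comm _ => have := h a b k ha hb comm; Flat.stalkMap _ u

end GrothLib.AlgSp
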