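import Groth.Agent.Lib.AlgSp.DecentBridge
import Groth.Agent.Lib.AlgSp.FiniteDiscrete
import Groth.Agent.Lib.AlgSp.FlatPoint
import Groth.Agent.Lib.ConsLim.LimFlat

/-!
# Spaces with one point

* `isMax_of_subsingleton_points`, `isField_stalk`: charts of (reduced) one point spaces.
* `isReduced_chart`: a flat surjective map from a field makes the charts reduced.
* `locP_flat_of_reduced_singleton`: everything is flat over a reduced one point space.
* `isIso_of_mono_to_singleton`: monomorphisms to spaces with an fppf cover by a field.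
-/

universe u

open CategoryTheory CategoryTheory.Limits AlgebraicGeometry

namespace GrothLib.AlgSp

open _root_.AlgSp

variable {S : Scheme.{u}} {X Z : Sp S}

theorem isMax_iff_of_etale {A B : Scheme.{u}} (s : A ⟶ B) [Etale s] (r : A) : IsMax r ↔ IsMax (s r) := by
  refine ⟨fun h y hy => ?_, fun h r' hr' => ?_⟩
  · obtain ⟨r', hr', rfl⟩ := Flat.generalizingMap s (show y ⤳ s r from hy)
    exact (show r ⤳ r' from h (show r ≤ r' from hr')).map s.continuous
  · haveI : LocallyQuasiFinite s := locallyQuasiFinite_of_unramified s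
    have h' : r' ⤳ r := hr'
    have he : s r' = s r := ((h'.map s.continuous).antisymm (h (show s r ≤ s r' from h'.map s.continuous))).eq
    haveI : DiscreteTopology ↥(s ⁻¹' {s r}) := (s.isDiscrete_preimage_singleton (s r)).to_subtype
    have h2 : (⟨r', he⟩ : ↥(s ⁻¹' {s r})) ⤳ ⟨r, rfl⟩ := (subtype_specializes_iff _ _).2 h'
    have h3 : r' = r := congrArg Subtype.val h2.eq
    exact h3.le

theorem exists_isMax (U : Scheme.{u}) [Nonempty U] : ∃ u : U, IsMax u := by
  obtain ⟨x⟩ := (inferInstance : Nonempty U)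
  obtain ⟨A, hA, hxA, -⟩ := exists_isAffineOpen_mem_and_subset (U := (⊤ : U.Opens)) (x := x) trivial
  haveI : IsAffine (A : Scheme.{u}) := hA
  haveI : Nonempty ↥(Spec Γ(U, A)) := ⟨hA.primeIdealOf ⟨x, hxA⟩⟩
  obtain ⟨P, hP, -⟩ := Ideal.exists_minimalPrimes_le (bot_le : (⊥ : Ideal Γ(U, A)) ≤ (hA.primeIdealOf ⟨x, hxA⟩).asIdeal)
  let p : PrimeSpectrum Γ(U, A) := ⟨P, hP.1.1⟩
  refine ⟨hA.fromSpec p, fun y hy => ?_⟩
  have hyA : y ∈ Set.range hA.fromSpec := by
    rw [hA.range_fromSpec]
    exact (show y ⤳ hA.fromSpec p from hy).mem_open A.isOpen (hA.range_fromSpec.le ⟨p, rfl⟩)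
  obtain ⟨q, rfl⟩ := hyA
  have h : q ⤳ p := (hA.fromSpec.isOpenEmbedding.isInducing.specializes_iff).1 hy
  have : p = q := PrimeSpectrum.ext (le_antisymm (hP.2 ⟨q.2, bot_le⟩ ((PrimeSpectrum.le_iff_specializes q p).2 h))
    ((PrimeSpectrum.le_iff_specializes q p).2 h))
  rw [this]

theorem isMax_of_subsingleton_points (hX : IsAlgSpace X) [Subsingleton (Points X)] {U : Over S}
    {a : (yon S).obj U ⟶ X} (ha : RepWith @Etale a) (u : ↥U.left) : IsMax u := by
  haveI : Nonempty ↥U.left := ⟨u⟩
  obtain ⟨u₀, h₀⟩ := exists_isMax U.left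
  obtain ⟨R, t, s, sq⟩ := exists_isPullback_yon hX.diag a a
  haveI : Etale s.left := ha.2 _ _ _ sq
  haveI : Etale t.left := ha.2 _ _ _ sq.flip
  obtain ⟨r, hr₁, hr₂⟩ := (ofPt_eq_ofPt_iff sq u u₀).1 (Subsingleton.elim _ _)
  rw [← hr₁, ← isMax_iff_of_etale t.left, isMax_iff_of_etale s.left, hr₂]
  exact h₀

theorem isField_stalk (hX : IsAlgSpace X) [Subsingleton (Points X)] {U : Over S}
    {a : (yon S).obj U ⟶ X} (ha : RepWith @Etale a) [IsReduced U.left] (u : ↥U.left) :
    IsField (U.left.presheaf.stalk u) := by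
  haveI : Ring.KrullDimLE 0 (U.left.presheaf.stalk u) := by
    rw [Ring.KrullDimLE, Order.krullDimLE_iff, ← ringKrullDim, ringKrullDim_stalk_eq_coheight,
      Order.coheight_eq_zero.2 (isMax_of_subsingleton_points hX ha u)]
    rfl
  exact Ring.KrullDimLE.isField_of_isReduced

theorem flat_of_isField_stalk {A B : Scheme.{u}} (h : A ⟶ B) (hB : ∀ b : B, IsField (B.presheaf.stalk b)) :
    Flat h :=
  Flat.of_stalkMap _ fun x => by
    letI := (hB (h x)).toField
    algebraize [(h.stalkMap x).hom]
    change Module.Flat _ _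
    infer_instance

theorem isField_stalk_of_discrete {W : Scheme.{u}} [IsLocallyArtinian W] [IsReduced W] (w : W) :
    IsField (W.presheaf.stalk w) := by
  haveI : IsArtinianRing (W.presheaf.stalk w) := by
    obtain ⟨A, hA', hwA, -⟩ := exists_isAffineOpen_mem_and_subset (U := (⊤ : W.Opens)) (x := w) trivial
    haveI : IsArtinianRing Γ(W, A) := IsLocallyArtinian.isArtinianRing_presheaf_obj ⟨_, hA'⟩
    letI := TopCat.Presheaf.algebra_section_stalk W.presheaf (⟨w, hwA⟩ : (A : Set _))
    haveI := hA'.isLocalization_stalk ⟨w, hwA⟩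
    exact (IsArtinianRing.localization_surjective (hA'.primeIdealOf ⟨w, hwA⟩).asIdeal.primeCompl
      (W.presheaf.stalk w)).isArtinianRing
  exact IsArtinianRing.isField_of_isReduced_of_isLocalRing _

section Point

variable {k : Type u} [Field k] {str : Spec (CommRingCat.of k) ⟶ S} {p : (yon S).obj (Over.mk str) ⟶ Z}

theorem subsingleton_points_of_point (hps : IsSurjectiveMor p) :
    Nonempty (Points Z) ∧ Subsingleton (Points Z) := by
  haveI : Subsingleton ↥(Over.mk str).left := inferInstanceAs (Subsingleton (PrimeSpectrum k))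
  haveI : Nonempty ↥(Over.mk str).left := inferInstanceAs (Nonempty (PrimeSpectrum k))
  haveI : Subsingleton (Points ((yon S).obj (Over.mk str))) := (Points.schemeEquiv _).symm.subsingleton
  haveI : Nonempty (Points ((yon S).obj (Over.mk str))) := (Points.schemeEquiv _).symm.nonempty
  exact ⟨Nonempty.map (Points.map p) inferInstance, Function.Surjective.subsingleton hps⟩

/-- The charts of a space with a flat surjective map from a field are reduced, and all maps to them are flat. -/
theorem isReduced_chart (hZ : IsAlgSpace Z) (hpf : LocP @Flat p) (hps : IsSurjectiveMor p) {U : Over S}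
    {a : (yon S).obj U ⟶ Z} (ha : RepWith @Etale a) : IsReduced U.left := by
  have hrep := representable_of_source_scheme hZ p
  have hpf' := EtLocal.repWith_of_locP EtLocal.flat hZ hrep hpf
  have hps' := (repWith_surjective_iff hrep).2 hps
  obtain ⟨T, c, d, sq⟩ := exists_isPullback_yon hZ.diag p a
  haveI : Flat d.left := hpf'.2 _ _ _ sq
  haveI : Surjective d.left := hps'.2 _ _ _ sq
  haveI : Etale c.left := ha.2 _ _ _ sq.flip
  haveI : IsReduced (Over.mk str).left := inferInstanceAs (IsReduced (Spec (CommRingCat.of k)))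
  haveI := isReduced_of_etale c.left inferInstance inferInstance
  exact GrothLib.ConsLim.isReduced_of_flat_surjective d.left

end Point

/-- Every morphism to a reduced one point space is flat. -/
theorem locP_flat_of_reduced_singleton (hZ : IsAlgSpace Z) [Subsingleton (Points Z)]
    (hr : EtaleLocally (fun U => IsReduced U) Z) {P : Sp S} (hP : IsAlgSpace P) (f : P ⟶ Z) : LocP @Flat f := by
  obtain ⟨V, b, be, bs, hV⟩ := hr
  haveI := hV
  obtain ⟨U, a, α, ae, hα, as⟩ := exists_chart_over hP hZ f b be
  exact EtLocal.locP_of_chart EtLocal.flat ae (as bs) be hα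
    (flat_of_isField_stalk α.left (isField_stalk hZ be))

theorem locP_flat_to_field {P : Sp S} (hP : IsAlgSpace P) {k : Type u} [Field k]
    {str : Spec (CommRingCat.of k) ⟶ S} (f : P ⟶ (yon S).obj (Over.mk str)) : LocP @Flat f := by
  obtain ⟨U, a, ae, as⟩ := hP.atlas
  obtain ⟨α, hα⟩ := (yon S).map_surjective (a ≫ f)
  exact EtLocal.locP_of_chart EtLocal.flat ae as (repWith_id _ _) (by rw [Category.comp_id, hα])
    (flat_to_field α.left)

theorem isIso_of_mono_to_field_space {P : Sp S} (hP : IsAlgSpace P) [Nonempty (Points P)] {k : Type u} [Field k]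
    {str : Spec (CommRingCat.of k) ⟶ S} (f : P ⟶ (yon S).obj (Over.mk str)) [Mono f] : IsIso f := by
  haveI : Subsingleton ↥(Over.mk str).left := inferInstanceAs (Subsingleton (PrimeSpectrum k))
  haveI : Subsingleton (Points ((yon S).obj (Over.mk str))) := (Points.schemeEquiv _).symm.subsingleton
  haveI : Subsingleton (Points P) := (injective_map_of_mono f).subsingleton
  haveI : CompactSpace (Points P) := Subsingleton.compactSpace
  haveI : IsAffine (Over.mk str).left := inferInstanceAs (IsAffine (Spec (CommRingCat.of k)))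
  exact isIso_of_flat_mono_affine hP (isQuasiCompactSp_of_compactSpace_points hP) f (locP_flat_to_field hP f)
    fun y => ⟨Classical.arbitrary _, Subsingleton.elim _ _⟩

theorem epi_of_fppf_point (hZ : IsAlgSpace Z) {U : Over S} {p : (yon S).obj U ⟶ Z}
    (hl : LocP @LocallyOfFinitePresentation p) (hf : LocP @Flat p) (hs : IsSurjectiveMor p) : Epi p := by
  have hrep := representable_of_source_scheme hZ p
  have := isLocallySurjective_of_repWith (EtLocal.repWith_of_locP EtLocal.flat hZ hrep hf)
    (EtLocal.repWith_of_locP EtLocal.lfp hZ hrep hl) ((repWith_surjective_iff hrep).2 hs)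
  exact Sheaf.epi_of_isLocallySurjective p

/-- A monomorphism from a nonempty space to a space with an fppf map from a field is an isomorphism. -/
theorem isIso_of_mono_to_singleton {Z' : Sp S} (hZ : IsAlgSpace Z) (hZ' : IsAlgSpace Z') (f : Z' ⟶ Z) [Mono f]
    [Nonempty (Points Z')] {k : Type u} [Field k] {str : Spec (CommRingCat.of k) ⟶ S}
    {p : (yon S).obj (Over.mk str) ⟶ Z}
    (hl : LocP @LocallyOfFinitePresentation p) (hf : LocP @Flat p) (hs : IsSurjectiveMor p) : IsIso f := by
  have hP := isAlgSpace_pullback' hZ hZ' (IsAlgSpace.yon_obj (Over.mk str)) f p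
  obtain ⟨-, hsub⟩ := subsingleton_points_of_point hs
  haveI : Nonempty (Points (pullback f p)) := by
    obtain ⟨q, -, -⟩ := exists_of_isPullback (IsPullback.of_hasPullback f p)
      (x := Classical.arbitrary (Points Z')) (y := Points.ofScheme (Over.mk str) (IsLocalRing.closedPoint k))
      (Subsingleton.elim _ _)
    exact ⟨q⟩
  haveI := isIso_of_mono_to_field_space hP (pullback.snd f p)
  haveI := epi_of_fppf_point hZ hl hf hs
  haveI : Epi (pullback.fst f p ≫ f) := by rw [pullback.condition]; infer_instance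
  haveI : Epi f := epi_of_epi (pullback.fst f p) f
  exact isIso_of_mono_of_epi f

end GrothLib.AlgSp
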