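import Groth.Agent.Lib.AlgSp.PointProps
import Groth.Agent.Lib.AlgSp.FieldBase
import Groth.Agent.Lib.FibreBC.Basic

/-!
# Base change of charts, and of relative dimension

* `fibreDimAt_of_isPullback`: the local dimension of fibres is insensitive to base change;
* `exists_bc_charts`: cartesian squares of spaces are covered by cartesian squares of chart schemes.
-/

universe u

open CategoryTheory CategoryTheory.Limits AlgebraicGeometry Opposite

namespace GrothLib.AlgSp

open _root_.AlgSp

theorem localDim_of_field_bc {k Ω : Type u} [Field k] [Field Ω] {X X' : Scheme.{u}}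
    (p : X ⟶ Spec (CommRingCat.of k)) [LocallyOfFiniteType p]
    {t : Spec (CommRingCat.of Ω) ⟶ Spec (CommRingCat.of k)} {i : X' ⟶ X} {q : X' ⟶ Spec (CommRingCat.of Ω)}
    (h : IsPullback i q p t) (x : X') : FlatMor.localDim X' x = FlatMor.localDim X (i x) := by
  have : UniversallyOpen t := universallyOpen_to_field t
  have : Flat t := flat_to_field t
  have : UniversallyOpen i := MorphismProperty.of_isPullback h.flip ‹UniversallyOpen t›
  have : Flat i := MorphismProperty.of_isPullback h.flip ‹Flat t›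
  have hdim : ∀ U : X.Opens, topologicalKrullDim ↥(i ⁻¹ᵁ U).toScheme = topologicalKrullDim ↥U.toScheme := fun U => by
    have : LocallyOfFiniteType (U.ι ≫ p) := inferInstance
    exact GrothLib.CurveLocus.topologicalKrullDim_of_isPullback (U.ι ≫ p)
      ((isPullback_morphismRestrict i U).paste_vert h)
  unfold FlatMor.localDim
  refine le_antisymm (le_iInf fun U => ?_) (le_iInf fun U' => ?_)
  · exact iInf_le_of_le ⟨i ⁻¹ᵁ U.1, U.2⟩ (hdim U.1).le
  · let U : X.Opens := ⟨i '' (U'.1 : Set X'), i.isOpenMap _ U'.1.2⟩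
    refine iInf_le_of_le ⟨U, x, U'.2, rfl⟩ ?_
    haveI : QuasiSober (U'.1 : Set X') := U'.1.2.isOpenEmbedding_subtypeVal.quasiSober
    haveI : QuasiSober (i '' (U'.1 : Set X')) := U.2.isOpenEmbedding_subtypeVal.quasiSober
    refine GrothLib.EtFibre.topologicalKrullDim_le_of_surjective
      (f := fun a : (U'.1 : Set X') => (⟨i a, a, a.2, rfl⟩ : i '' (U'.1 : Set X'))) (by fun_prop) ?_ ?_
    · intro a y hy
      have h1 : (y : X) ⤳ i a := hy.map continuous_subtype_val
      obtain ⟨a', ha', hay⟩ := Flat.generalizingMap i h1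
      refine ⟨⟨a', Specializes.mem_open ha' U'.1.2 a.2⟩, ?_, Subtype.ext hay⟩
      simpa [subtype_specializes_iff] using ha'
    · rintro ⟨_, a, ha, rfl⟩; exact ⟨⟨a, ha⟩, rfl⟩

theorem fibreDimAt_of_isPullback {X Y X' Y' : Scheme.{u}} {f : X ⟶ Y} [LocallyOfFiniteType f] {g : Y' ⟶ Y}
    {f' : X' ⟶ Y'} {g' : X' ⟶ X} (hc : IsPullback g' f' f g) (x' : X') :
    FlatMor.fibreDimAt f' x' = FlatMor.fibreDimAt f (g' x') := by
  obtain ⟨i, hi₁, hi⟩ := GrothLib.FibreBC.exists_isPullback_fiber hc (f' x')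
  have key : ∀ (v : Y) (p : f.fiber v), f.fiberι v p = g' x' →
      FlatMor.localDim (f.fiber v) p = FlatMor.fibreDimAt f (g' x') := by
    intro v p hp
    obtain rfl : v = f (g' x') := by
      have hm : f.fiberι v p ∈ Set.range (f.fiberι v) := ⟨p, rfl⟩
      rw [Scheme.Hom.range_fiberι, hp] at hm
      exact hm.symm
    obtain rfl : p = f.asFiber (g' x') :=
      (f.fiberι _).isEmbedding.injective (hp.trans (f.fiberι_asFiber _).symm)
    rfl
  have : LocallyOfFiniteType (f.fiberToSpecResidueField (g (f' x'))) :=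
    MorphismProperty.pullback_snd f _ inferInstance
  rw [← key _ (i (f'.asFiber x')) (by
    rw [← Scheme.Hom.comp_apply, hi₁, Scheme.Hom.comp_apply, Scheme.Hom.fiberι_asFiber])]
  exact localDim_of_field_bc (k := Y.residueField (g (f' x'))) (Ω := Y'.residueField (f' x')) _ hi _

variable {S : Scheme.{u}} {X Y X' Y' : Sp S}

/-- Cartesian squares are covered by cartesian squares of charts. -/
theorem exists_bc_charts (hX : IsAlgSpace X) (hY : IsAlgSpace Y) (hY' : IsAlgSpace Y') {f : X ⟶ Y} {g : Y' ⟶ Y}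
    {g' : X' ⟶ X} {f' : X' ⟶ Y'} (sq : IsPullback g' f' f g) (x' : Points X') :
    ∃ (U V U' V' : Over S) (a : (yon S).obj U ⟶ X) (b : (yon S).obj V ⟶ Y) (a' : (yon S).obj U' ⟶ X')
      (b' : (yon S).obj V' ⟶ Y') (h : U ⟶ V) (h' : U' ⟶ V') (p : U' ⟶ U) (q : V' ⟶ V) (u' : ↥U'.left),
      RepWith @Etale a ∧ RepWith @Etale b ∧ RepWith @Etale a' ∧ RepWith @Etale b' ∧
        a ≫ f = (yon S).map h ≫ b ∧ a' ≫ f' = (yon S).map h' ≫ b' ∧ a' ≫ g' = (yon S).map p ≫ a ∧
        IsPullback p.left h'.left h.left q.left ∧ Points.ofPt a' u' = x' := by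
  obtain ⟨V, b, be, bs⟩ := hY.atlas
  obtain ⟨V₀, b₀, b₀e, b₀s⟩ := hY'.atlas
  have sP := IsPullback.of_hasPullback f b
  obtain ⟨U, e, ee, es⟩ := (isAlgSpace_pullback' hY hX (IsAlgSpace.yon_obj V) f b).atlas
  let h : U ⟶ V := (yon S).preimage (e ≫ pullback.snd f b)
  have hh : (yon S).map h = e ≫ pullback.snd f b := Functor.map_preimage _ _
  obtain ⟨V', q, q₂, sV⟩ := exists_isPullback_yon hY.diag b (b₀ ≫ g)
  let b' : (yon S).obj V' ⟶ Y' := (yon S).map q₂ ≫ b₀
  have hb' : RepWith @Etale b' := repWith_comp ((repWith_yon_map_iff _ _).2 (be.2 _ _ _ sV)) b₀e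
  have hqb : (yon S).map q ≫ b = b' ≫ g := sV.w.trans (Category.assoc _ _ _).symm
  have sK := IsPullback.of_hasPullback (pullback.snd f b) ((yon S).map q)
  have big := sK.paste_horiz sP
  rw [hqb] at big
  let c : pullback (pullback.snd f b) ((yon S).map q) ⟶ X' := sq.lift (pullback.fst _ _ ≫ pullback.fst f b)
    (pullback.snd _ _ ≫ b') (big.w.trans (Category.assoc _ _ _).symm)
  have sc : IsPullback c (pullback.snd (pullback.snd f b) ((yon S).map q)) f' b' := by
    refine IsPullback.of_right ?_ (sq.lift_snd _ _ _) sq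
    rw [sq.lift_fst]
    exact big
  let W : Over S := Over.mk (pullback.fst h.left q.left ≫ U.hom)
  let p : W ⟶ U := Over.homMk (pullback.fst _ _) rfl
  let h' : W ⟶ V' := Over.homMk (pullback.snd _ _) (by
    change pullback.snd h.left q.left ≫ V'.hom = pullback.fst h.left q.left ≫ U.hom
    rw [← Over.w h, pullback.condition_assoc, Over.w q])
  have sW : IsPullback p h' h q :=
    IsPullback.of_map_of_faithful (Over.forget S) (IsPullback.of_hasPullback h.left q.left)
  have sW' := isPullback_yon sW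
  rw [hh] at sW'
  let k : (yon S).obj W ⟶ pullback (pullback.snd f b) ((yon S).map q) :=
    sK.lift ((yon S).map p ≫ e) ((yon S).map h') (by rw [Category.assoc, sW'.w])
  have sk : IsPullback ((yon S).map p) k e (pullback.fst (pullback.snd f b) ((yon S).map q)) := by
    refine IsPullback.of_bot ?_ (sK.lift_fst _ _ _).symm sK
    rw [sK.lift_snd]
    exact sW'
  have hke : RepWith @Etale k := repWith_of_isPullback sk ee
  have hks : RepWith @Surjective k := repWith_of_isPullback sk es
  obtain ⟨v₀, hv₀⟩ := surjective_ofPt_of_repWith b₀s (Points.map f' x')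
  obtain ⟨v, hv⟩ := surjective_ofPt_of_repWith bs (Points.map g (Points.map f' x'))
  obtain ⟨z₀, -, hz₀⟩ := exists_of_isPullback sV (x := Points.ofScheme V v) (y := Points.ofScheme V₀ v₀) (by
    rw [Points.map_comp b₀, ← Points.ofPt_eq_map_ofScheme, ← Points.ofPt_eq_map_ofScheme, hv₀, hv])
  obtain ⟨z, hz, -⟩ := exists_of_isPullback sc (x := x') (y := z₀) (by
    rw [Points.map_comp, hz₀, ← Points.ofPt_eq_map_ofScheme, hv₀])
  obtain ⟨u', hu'⟩ := surjective_ofPt_of_repWith hks z
  refine ⟨U, V, W, V', e ≫ pullback.fst f b, b, k ≫ c, b', h, h', p, q, u',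
    repWith_comp ee (repWith_of_isPullback sP.flip be), be, repWith_comp hke (repWith_of_isPullback sc.flip hb'),
    hb', ?_, ?_, ?_, IsPullback.map (Over.forget S) sW, ?_⟩
  · rw [Category.assoc, sP.w, hh, Category.assoc]
  · rw [Category.assoc, sc.w, ← Category.assoc, sK.lift_snd]
  · rw [Category.assoc, sq.lift_fst, ← Category.assoc, sK.lift_fst, Category.assoc]
  · rw [← Points.map_ofPt, hu', hz]

end GrothLib.AlgSp
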