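import Groth.Agent.Lib.AlgSp.FibreDimZero
import Groth.Agent.Lib.AlgSp.AffineMor
import Groth.Agent.Lib.EtFibre.Basic
import Groth.Agent.Lib.Japanese.IntegralSpec
import Groth.Agent.Lib.NoethTop.KrullDim

/-!
# Dimension of algebraic spaces
-/

universe u

open CategoryTheory CategoryTheory.Limits AlgebraicGeometry TopologicalSpace Topology

namespace GrothLib.AlgSp

open _root_.AlgSp

section Top

variable {X Y : Type u} [TopologicalSpace X] [TopologicalSpace Y]

theorem height_le_of_specializingMap {f : X → Y} (hf : Continuous f) (hg : SpecializingMap f) (x : X) :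
    letI := specializationPreorder X
    letI := specializationPreorder Y
    Order.height (f x) ≤ Order.height x := by
  letI := specializationPreorder X
  letI := specializationPreorder Y
  have key : ∀ (n : ℕ) (p : LTSeries Y) (x : X), p.length = n → p.last = f x →
      ∃ q : LTSeries X, q.length = n ∧ q.last = x := by
    intro n
    induction n with
    | zero => intro p x _ _; exact ⟨RelSeries.singleton _ x, rfl, rfl⟩
    | succ n ih =>
      intro p x hn hx
      have h1 : p.eraseLast.last < f x := by
        rw [← hx]; exact p.eraseLast_last_rel_last (by omega)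
      obtain ⟨x', hxx, hfx⟩ := hg h1.le
      have hlt : x' < x := lt_of_le_not_ge hxx fun h2 => h1.not_ge (by
        rw [← hfx]; exact Specializes.map h2 hf)
      obtain ⟨q, hq1, hq2⟩ := ih p.eraseLast x' (by simp [hn]) hfx.symm
      exact ⟨q.snoc x (by rw [hq2]; exact hlt), by simp [hq1], RelSeries.last_snoc _ _ _⟩
  refine Order.height_le_iff'.mpr fun p hp => ?_
  obtain ⟨q, hq1, hq2⟩ := key p.length p x rfl hp
  exact hq1 ▸ hq2 ▸ Order.length_le_height_last

variable [QuasiSober X] [T0Space X] [QuasiSober Y] [T0Space Y]

theorem topologicalKrullDim_le_of_specializingMap {f : X → Y} (hf : Continuous f)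
    (hg : SpecializingMap f) (hs : Function.Surjective f) :
    topologicalKrullDim Y ≤ topologicalKrullDim X := by
  letI := specializationOrder X
  letI := specializationOrder Y
  rw [GrothLib.EtFibre.topologicalKrullDim_eq_krullDim, GrothLib.EtFibre.topologicalKrullDim_eq_krullDim]
  refine iSup_le fun p => ?_
  obtain ⟨x, hx⟩ := hs p.last
  calc (p.length : WithBot ℕ∞) ≤ (Order.height p.last : WithBot ℕ∞) :=
        WithBot.coe_le_coe.mpr Order.length_le_height_last
    _ ≤ (Order.height x : WithBot ℕ∞) := by
        rw [← hx]; exact WithBot.coe_le_coe.mpr (height_le_of_specializingMap hf hg x)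
    _ ≤ Order.krullDim X := Order.height_le_krullDim x

end Top

section Schemes

variable {X Y : Scheme.{u}} (f : X ⟶ Y)

theorem topologicalKrullDim_le_of_etale [Etale f] : topologicalKrullDim X ≤ topologicalKrullDim Y := by
  haveI := GrothLib.EtBasicB.locallyQuasiFinite_of_unramified f
  exact GrothLib.EtFibre.topologicalKrullDim_le_of_injOn f.continuous
    (GrothLib.EtFibre.eq_of_specializes_of_discrete f)

theorem topologicalKrullDim_le_of_isIntegralHom [IsIntegralHom f] :
    topologicalKrullDim X ≤ topologicalKrullDim Y :=
  GrothLib.EtFibre.topologicalKrullDim_le_of_injOn f.continuous fun _ _ h he =>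
    GrothLib.Japanese.eq_of_specializes_of_isIntegralHom f h he

theorem topologicalKrullDim_le_of_isIntegralHom_surjective [IsIntegralHom f] [Surjective f] :
    topologicalKrullDim Y ≤ topologicalKrullDim X :=
  topologicalKrullDim_le_of_specializingMap f.continuous f.isClosedMap.specializingMap f.surjective

/-- Locally quasi-finite over a field means zero-dimensional. -/
theorem locallyQuasiFinite_field_iff {k : Type u} [Field k] {U : Scheme.{u}}
    (h : U ⟶ Spec (CommRingCat.of k)) [LocallyOfFiniteType h] :
    LocallyQuasiFinite h ↔ topologicalKrullDim ↥U ≤ 0 := by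
  rw [locallyQuasiFinite_iff_isDiscrete_preimage_singleton]
  constructor
  · intro H
    have e : h ⁻¹' {IsLocalRing.closedPoint k} = Set.univ :=
      Set.eq_univ_of_forall fun x => Subsingleton.elim _ _
    have := isDiscrete_univ_iff.1 ((congrArg _root_.IsDiscrete e).mp (H _))
    exact topologicalKrullDim_zero_of_discreteTopology _
  · intro hd y
    have : IsLocallyNoetherian U := LocallyOfFiniteType.isLocallyNoetherian h
    have : DiscreteTopology ↥U := discreteTopology_iff_isOpen_singleton.2 fun x => by
      obtain ⟨W, hW, hxW, -⟩ := exists_isAffineOpen_mem_and_subset (U := (⊤ : U.Opens)) (x := x) trivial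
      haveI : CompactSpace ↥W.toScheme := isCompact_iff_compactSpace.1 hW.isCompact
      haveI : AlgebraicGeometry.IsNoetherian W.toScheme := {}
      haveI : TopologicalSpace.NoetherianSpace (W : Set U) :=
        (inferInstance : TopologicalSpace.NoetherianSpace ↥W.toScheme)
      haveI := (GrothLib.NoethTop.finite_discrete_of_dim_le_zero (X := (W : Set U))
        ((W.2.isOpenEmbedding_subtypeVal.isInducing.topologicalKrullDim_le).trans hd)).2
      have := W.2.isOpenMap_subtype_val _ (isOpen_discrete ({⟨x, hxW⟩} : Set (W : Set U)))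
      rwa [Set.image_singleton] at this
    exact IsDiscrete.univ.mono (Set.subset_univ _)

end Schemes

variable {S : Scheme.{u}} {F : Sp S}

theorem topologicalKrullDim_chart_le (hF : IsAlgSpace F) {U W : Over S} {a : (yon S).obj U ⟶ F}
    {b : (yon S).obj W ⟶ F} (ha : RepWith @Etale a) (hb : RepWith @Etale b) (hs : RepWith @Surjective b) :
    topologicalKrullDim ↥U.left ≤ topologicalKrullDim ↥W.left := by
  obtain ⟨P, p, q, sq⟩ := exists_isPullback_yon hF.diag a b
  have : Etale p.left := hb.2 _ _ _ sq.flip
  have : Surjective p.left := hs.2 _ _ _ sq.flip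
  have : Etale q.left := ha.2 _ _ _ sq
  exact (GrothLib.EtFibre.topologicalKrullDim_le_of_surjective p.left.continuous
    (Flat.generalizingMap p.left) p.left.surjective).trans (topologicalKrullDim_le_of_etale q.left)

/-- The dimension can be read on an atlas. -/
theorem dim_eq_of_atlas (hF : IsAlgSpace F) {W : Over S}
    {b : (yon S).obj W ⟶ F} (hb : RepWith @Etale b) (hs : RepWith @Surjective b) :
    _root_.AlgSp.dim F = topologicalKrullDim ↥W.left := by
  refine le_antisymm (iSup_le fun U => iSup_le fun a => iSup_le fun ha => topologicalKrullDim_chart_le hF ha hb hs) ?_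
  exact le_iSup_of_le W (le_iSup_of_le b (le_iSup_of_le hb le_rfl))

theorem topologicalKrullDim_le_dim {U : Over S} {a : (yon S).obj U ⟶ F} (ha : RepWith @Etale a) :
    topologicalKrullDim ↥U.left ≤ _root_.AlgSp.dim F :=
  le_iSup_of_le U (le_iSup_of_le a (le_iSup_of_le ha le_rfl))

/-- An atlas pair for a representable morphism. -/
theorem exists_atlas_pair {G : Sp S} {P : MorphismProperty Scheme.{u}} (hG : IsAlgSpace G) {f : F ⟶ G}
    (hf : RepWith P f) :
    ∃ (W V : Over S) (b : (yon S).obj W ⟶ F) (q : (yon S).obj V ⟶ G) (i : W ⟶ V),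
      RepWith @Etale b ∧ RepWith @Surjective b ∧ RepWith @Etale q ∧ RepWith @Surjective q ∧
        IsPullback b ((yon S).map i) f q ∧ P i.left := by
  obtain ⟨V, q, qe, qs⟩ := hG.atlas
  obtain ⟨W, b, i, sq⟩ := exists_isPullback_of_representable hf.1 q
  exact ⟨W, V, b, q, i, repWith_of_isPullback sq.flip qe, repWith_of_isPullback sq.flip qs, qe, qs, sq,
    hf.2 _ _ _ sq⟩

end GrothLib.AlgSp
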