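import Groth.Agent.Lib.AlgSp.PointProps
import Groth.Agent.Lib.FBase7.Points2

/-!
# Geometric reducedness at points of algebraic spaces over a field
-/

universe u

open CategoryTheory CategoryTheory.Limits AlgebraicGeometry

namespace GrothLib.AlgSp

open _root_.AlgSp

theorem isGeomReducedAt_iff_of_etale {k : Type u} [Field k] {X Y : Scheme.{u}} (g : X ⟶ Y) [Etale g]
    (f : Y ⟶ Spec (CommRingCat.of k)) (x : X) :
    FBase.IsGeomReducedAt (g ≫ f) x ↔ FBase.IsGeomReducedAt f (g x) := by
  constructor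
  all_goals intro h K _ _
  all_goals let π := Spec.map (CommRingCat.ofHom (algebraMap k K))
  all_goals let e := pullbackRightPullbackFstIso f π g
  all_goals have : Etale (pullback.snd g (pullback.fst f π)) := MorphismProperty.pullback_snd _ _ ‹Etale g›
  · intro y' hy
    obtain ⟨z, hz₁, hz₂⟩ := Scheme.Pullback.exists_preimage_pullback (f := g) (g := pullback.fst f π) x y' hy.symm
    have h₁ := h K (e.hom z)
      ((congrArg (fun m => m z) (pullbackRightPullbackFstIso_hom_fst f π g)).trans hz₁)
    have h₂ := (isReduced_stalk_iff_of_etale e.hom z).2 h₁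
    have h₃ := (isReduced_stalk_iff_of_etale (pullback.snd g (pullback.fst f π)) z).1 h₂
    rwa [hz₂] at h₃
  · intro x' hx
    refine (isReduced_stalk_iff_of_etale e.inv x').2 ((isReduced_stalk_iff_of_etale
      (pullback.snd g (pullback.fst f π)) (e.inv x')).2 (h K _ ?_))
    rw [← hx]
    have c : pullback.snd g (pullback.fst f π) ≫ pullback.fst f π = (e.hom ≫ pullback.fst (g ≫ f) π) ≫ g := by
      rw [pullbackRightPullbackFstIso_hom_fst]; exact pullback.condition.symm
    have := congrArg (fun m => m (e.inv x')) c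
    simp only [Scheme.Hom.comp_apply, ← Scheme.Hom.comp_apply e.inv e.hom, e.inv_hom_id] at this
    exact this

theorem isGeomReducedAt_of_isReduced_of_perfect {k : Type u} [Field k] [PerfectField k] {X : Scheme.{u}}
    [IsReduced X] (f : X ⟶ Spec (CommRingCat.of k)) (x : X) : FBase.IsGeomReducedAt f x := by
  have : IsIso (Spec.map (CommRingCat.ofHom (algebraMap k k))) := by
    rw [show CommRingCat.ofHom (algebraMap k k) = 𝟙 _ from rfl, Spec.map_id]; infer_instance
  have : IsIso (FBase.bcπ f k) :=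
    MorphismProperty.pullback_fst (P := MorphismProperty.isomorphisms Scheme.{u}) f _ ‹IsIso (Spec.map _)›
  obtain ⟨x', hx'⟩ := (FBase.bcπ f k).surjective x
  refine GrothLib.FBase7.isGeomReducedAt_of_perfect f x x' hx' ?_
  exact (isReduced_stalk_iff_of_etale (FBase.bcπ f k) x').2 inferInstance

section Spaces

variable {k : Type u} [Field k] {F G : Sp (Spec (CommRingCat.of k))}

theorem isGeomReducedAt_hom_iff_of_etale {U V : Over (Spec (CommRingCat.of k))} (g : U ⟶ V) [Etale g.left]
    (u : ↥U.left) : FBase.IsGeomReducedAt U.hom u ↔ FBase.IsGeomReducedAt V.hom (g.left u) := by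
  conv_lhs => rw [← Over.w g]
  exact isGeomReducedAt_iff_of_etale g.left V.hom u

theorem isGeomReducedAt_chart_iff (hF : IsAlgSpace F) {U U' : Over (Spec (CommRingCat.of k))}
    {a : (yon _).obj U ⟶ F} {a' : (yon _).obj U' ⟶ F} (ha : RepWith @Etale a) (ha' : RepWith @Etale a')
    {u : ↥U.left} {u' : ↥U'.left} (h : Points.ofPt a u = Points.ofPt a' u') :
    FBase.IsGeomReducedAt U.hom u ↔ FBase.IsGeomReducedAt U'.hom u' := by
  obtain ⟨W, w₁, w₂, w, he₁, he₂, -, rfl, rfl⟩ := exists_common_chart hF ha ha' h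
  rw [← isGeomReducedAt_hom_iff_of_etale w₁, isGeomReducedAt_hom_iff_of_etale w₂]

/-- Geometric reducedness at a point can be read on any chart. -/
theorem geomReducedAt_iff (hF : IsAlgSpace F) {U : Over (Spec (CommRingCat.of k))}
    {a : (yon _).obj U ⟶ F} (ha : RepWith @Etale a) (u : ↥U.left) :
    (∃ (U' : Over (Spec (CommRingCat.of k))) (a' : (yon _).obj U' ⟶ F) (u' : ↥U'.left),
      RepWith @Etale a' ∧ Points.ofPt a' u' = Points.ofPt a u ∧ FBase.IsGeomReducedAt U'.hom u') ↔
      FBase.IsGeomReducedAt U.hom u :=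
  ⟨fun ⟨_, _, _, ha', e, h⟩ => (isGeomReducedAt_chart_iff hF ha' ha e).1 h,
    fun h => ⟨U, a, u, ha, rfl, h⟩⟩

end Spaces

end GrothLib.AlgSp
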