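import Groth.Agent.Lib.AlgSp.EtaleLocallyProps
import Groth.Agent.Lib.AlgSp.LocP
import Groth.Agent.Lib.EtFibre.Basic
import Groth.Agent.Lib.FEt21.Spread
import Groth.Agent.S7408
import Groth.Prelude.Def_AlgSpDec

/-!
# Properties at points read on etale charts

* `exists_common_chart`, `hasAt_iff_forall`, `hasAtMor_fibreDimAt_unique`;
* schemes: stalk dimension, local dimension and reducedness of stalks along etale maps.
-/

universe u

open CategoryTheory CategoryTheory.Limits AlgebraicGeometry Opposite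

namespace GrothLib.AlgSp

open _root_.AlgSp

section Schemes

variable {X Y : Scheme.{u}} (f : X ⟶ Y) (x : X)

theorem coheight_le_of_lqf [LocallyQuasiFinite f] : Order.coheight x ≤ Order.coheight (f x) := by
  refine Order.coheight_le_coheight_apply_of_strictMono f (fun a b hab => ?_) x
  refine lt_of_le_not_ge (Specializes.map hab.le f.continuous) fun h => hab.not_ge ?_
  rw [GrothLib.EtFibre.eq_of_specializes_of_discrete f b a hab.le]
  exact ((Specializes.map hab.le f.continuous).antisymm h).eq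

theorem ringKrullDim_stalk_le_of_lqf [LocallyQuasiFinite f] :
    ringKrullDim (X.presheaf.stalk x) ≤ ringKrullDim (Y.presheaf.stalk (f x)) := by
  rw [ringKrullDim_stalk_eq_coheight, ringKrullDim_stalk_eq_coheight]
  exact WithBot.coe_le_coe.2 (coheight_le_of_lqf f x)

theorem ringKrullDim_stalk_map_le_of_flat [Flat f] :
    ringKrullDim (Y.presheaf.stalk (f x)) ≤ ringKrullDim (X.presheaf.stalk x) := by
  rw [ringKrullDim_stalk_eq_coheight, ringKrullDim_stalk_eq_coheight]
  exact WithBot.coe_le_coe.2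
    (GrothLib.EtFibre.coheight_le_of_generalizingMap f.continuous (Flat.generalizingMap f) x)

theorem ringKrullDim_stalk_eq_of_etale [Etale f] :
    ringKrullDim (X.presheaf.stalk x) = ringKrullDim (Y.presheaf.stalk (f x)) := by
  haveI := GrothLib.EtBasicB.locallyQuasiFinite_of_unramified f
  exact le_antisymm (ringKrullDim_stalk_le_of_lqf f x) (ringKrullDim_stalk_map_le_of_flat f x)

theorem stalkMap_injective_of_flat [Flat f] : Function.Injective (f.stalkMap x) := by
  letI := (f.stalkMap x).hom.toAlgebra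
  have : Module.Flat (Y.presheaf.stalk (f x)) (X.presheaf.stalk x) := Flat.stalkMap f x
  have : IsLocalHom (algebraMap (Y.presheaf.stalk (f x)) (X.presheaf.stalk x)) :=
    inferInstanceAs (IsLocalHom (f.stalkMap x).hom)
  have := Module.FaithfullyFlat.of_flat_of_isLocalHom (A := Y.presheaf.stalk (f x)) (B := X.presheaf.stalk x)
  exact FaithfulSMul.algebraMap_injective (Y.presheaf.stalk (f x)) (X.presheaf.stalk x)

theorem isReduced_stalk_iff_of_etale [Etale f] :
    _root_.IsReduced (X.presheaf.stalk x) ↔ _root_.IsReduced (Y.presheaf.stalk (f x)) := by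
  refine ⟨fun _ => isReduced_of_injective (f.stalkMap x).hom (stalkMap_injective_of_flat f x), fun _ => ?_⟩
  let g := Y.fromSpecStalk (f x)
  have : Flat g := GrothLib.FEt21.flat_fromSpecStalk (f x)
  have : IsReduced (pullback f g) :=
    isReduced_of_etale (pullback.snd f g) (MorphismProperty.pullback_snd f g ‹Etale f›) inferInstance
  obtain ⟨z, hz, -⟩ := Scheme.Pullback.exists_preimage_pullback (f := f) (g := g) x
    (IsLocalRing.closedPoint (Y.presheaf.stalk (f x))) Scheme.fromSpecStalk_closedPoint.symm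
  have : Flat (pullback.fst f g) := MorphismProperty.pullback_fst f g ‹Flat g›
  have key : _root_.IsReduced (X.presheaf.stalk ((pullback.fst f g) z)) :=
    isReduced_of_injective ((pullback.fst f g).stalkMap z).hom (stalkMap_injective_of_flat _ z)
  rwa [hz] at key

end Schemes

variable {S : Scheme.{u}} {F G : Sp S}

/-- Two etale charts at the same point are dominated by a third. -/
theorem exists_common_chart (hF : IsAlgSpace F) {U U' : Over S} {a : (yon S).obj U ⟶ F}
    {a' : (yon S).obj U' ⟶ F} (ha : RepWith @Etale a) (ha' : RepWith @Etale a') {u : ↥U.left} {u' : ↥U'.left}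
    (h : Points.ofPt a u = Points.ofPt a' u') :
    ∃ (W : Over S) (w₁ : W ⟶ U) (w₂ : W ⟶ U') (w : ↥W.left), Etale w₁.left ∧ Etale w₂.left ∧
      (yon S).map w₁ ≫ a = (yon S).map w₂ ≫ a' ∧ w₁.left w = u ∧ w₂.left w = u' := by
  obtain ⟨W, w₁, w₂, sq⟩ := exists_isPullback_yon hF.diag a a'
  obtain ⟨w, h₁, h₂⟩ := (ofPt_eq_ofPt_iff sq u u').1 h
  exact ⟨W, w₁, w₂, w, ha'.2 _ _ _ sq.flip, ha.2 _ _ _ sq, sq.w, h₁, h₂⟩

/-- A property of points of schemes invariant under etale maps can be read on any chart. -/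
theorem hasAt_iff (hF : IsAlgSpace F) {Q : ∀ U : Scheme.{u}, ↥U → Prop}
    (hQ : ∀ ⦃A B : Scheme.{u}⦄ (k : A ⟶ B), Etale k → ∀ a, Q A a ↔ Q B (k a))
    {U : Over S} {a : (yon S).obj U ⟶ F} (ha : RepWith @Etale a) (u : ↥U.left) :
    HasAt Q F (Points.ofPt a u) ↔ Q U.left u := by
  refine ⟨fun ⟨U', a', u', ha', hu', hq⟩ => ?_, fun h => ⟨U, a, u, ha, rfl, h⟩⟩
  obtain ⟨W, w₁, w₂, w, he₁, he₂, -, rfl, rfl⟩ := exists_common_chart hF ha ha' hu'.symm
  exact (hQ w₁.left he₁ w).1 ((hQ w₂.left he₂ w).2 hq)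

/-- Two chart diagrams at the same point are dominated by a third. -/
theorem exists_common_charts (hF : IsAlgSpace F) (hG : IsAlgSpace G) {f : F ⟶ G} {U U' V V' : Over S}
    {a : (yon S).obj U ⟶ F} {a' : (yon S).obj U' ⟶ F} {b : (yon S).obj V ⟶ G} {b' : (yon S).obj V' ⟶ G}
    {h : U ⟶ V} {h' : U' ⟶ V'} (ha : RepWith @Etale a) (ha' : RepWith @Etale a') (hb : RepWith @Etale b)
    (hb' : RepWith @Etale b') (c : a ≫ f = (yon S).map h ≫ b) (c' : a' ≫ f = (yon S).map h' ≫ b')
    {u : ↥U.left} {u' : ↥U'.left} (e : Points.ofPt a u = Points.ofPt a' u') :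
    ∃ (W Q : Over S) (m : W ⟶ Q) (w₁ : W ⟶ U) (w₂ : W ⟶ U') (q₁ : Q ⟶ V) (q₂ : Q ⟶ V') (w : ↥W.left),
      Etale w₁.left ∧ Etale w₂.left ∧ Etale q₁.left ∧ Etale q₂.left ∧ m.left ≫ q₁.left = w₁.left ≫ h.left ∧
        m.left ≫ q₂.left = w₂.left ≫ h'.left ∧ w₁.left w = u ∧ w₂.left w = u' := by
  obtain ⟨W, w₁, w₂, w, he₁, he₂, ew, hu, hu'⟩ := exists_common_chart hF ha ha' e
  obtain ⟨Q, q₁, q₂, sq⟩ := exists_isPullback_yon hG.diag b b'
  have hc : (yon S).map (w₁ ≫ h) ≫ b = (yon S).map (w₂ ≫ h') ≫ b' := by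
    rw [Functor.map_comp, Functor.map_comp, Category.assoc, Category.assoc, ← c, ← c', reassoc_of% ew]
  let m : W ⟶ Q := (yon S).preimage (sq.lift _ _ hc)
  have m₁ : m ≫ q₁ = w₁ ≫ h := (yon S).map_injective (by simp [m])
  have m₂ : m ≫ q₂ = w₂ ≫ h' := (yon S).map_injective (by simp [m])
  exact ⟨W, Q, m, w₁, w₂, q₁, q₂, w, he₁, he₂, hb'.2 _ _ _ sq.flip, hb.2 _ _ _ sq,
    congrArg (fun k => k.left) m₁, congrArg (fun k => k.left) m₂, hu, hu'⟩

/-- The relative dimension at a point can be read on any chart diagram. -/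
theorem hasAtMor_fibreDim_iff (hF : IsAlgSpace F) (hG : IsAlgSpace G) {f : F ⟶ G} {U V : Over S}
    {a : (yon S).obj U ⟶ F} {b : (yon S).obj V ⟶ G} {h : U ⟶ V} (ha : RepWith @Etale a)
    (hb : RepWith @Etale b) (c : a ≫ f = (yon S).map h ≫ b) (u : ↥U.left) (Q : WithBot ℕ∞ → Prop) :
    HasAtMor (fun _ _ h u => Q (FlatMor.fibreDimAt h u)) f (Points.ofPt a u) ↔ Q (FlatMor.fibreDimAt h.left u) := by
  refine ⟨fun ⟨U', V', a', b', h', u', ha', hb', c', hu', hq⟩ => ?_, fun hq => ⟨U, V, a, b, h, u, ha, hb, c, rfl, hq⟩⟩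
  obtain ⟨W, P, m, w₁, w₂, q₁, q₂, w, _, _, _, _, m₁, m₂, rfl, rfl⟩ :=
    exists_common_charts hF hG ha ha' hb hb' c c' hu'.symm
  rw [Groth.Agent.S7408.result h.left m.left w₁.left q₁.left m₁ w,
    ← Groth.Agent.S7408.result h'.left m.left w₂.left q₂.left m₂ w]
  exact hq

end GrothLib.AlgSp
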