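import Mathlib.RingTheory.TensorProduct.Maps
import Mathlib.RingTheory.Ideal.Maximal
import Mathlib.Algebra.MvPolynomial.Eval
import Mathlib.RingTheory.Spectrum.Prime.Basic
open TensorProduct
universe u
namespace GrothLib.AlgSp.AffineTest

variable {R B C : Type u} [CommRing R] [CommRing B] [CommRing C] [Algebra R B] [Algebra R C]

/-- An element of a tensor product uses finitely many elements of the right factor. -/
theorem exists_finset_mem_range (r : B ⊗[R] C) :
    ∃ F : Finset C, ∀ (G : Finset C), F ⊆ G →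
      r ∈ (Algebra.TensorProduct.map (AlgHom.id B B) (MvPolynomial.aeval (fun c : G => (c : C)))).range := by
  classical
  induction r with
  | zero => exact ⟨∅, fun G _ => ⟨0, map_zero _⟩⟩
  | tmul b c =>
    refine ⟨{c}, fun G hG => ⟨b ⊗ₜ MvPolynomial.X ⟨c, hG (Finset.mem_singleton_self c)⟩, ?_⟩⟩
    simp
  | add x y hx hy =>
    obtain ⟨F, hF⟩ := hx
    obtain ⟨F', hF'⟩ := hy
    exact ⟨F ∪ F', fun G hG => add_mem (hF G (Finset.union_subset_left hG)) (hF' G (Finset.union_subset_right hG))⟩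

/-- An element of an extended ideal lifts to the extended contracted ideal over finitely many variables. -/
theorem exists_finset_mem_map (t : Ideal C) (y : B ⊗[R] C)
    (hy : y ∈ t.map (Algebra.TensorProduct.includeRight : C →ₐ[R] B ⊗[R] C)) :
    ∃ F : Finset C, ∀ G : Finset C, F ⊆ G →
      let ψ := MvPolynomial.aeval (R := R) (fun c : G => (c : C))
      ∃ y' ∈ (t.comap ψ).map (Algebra.TensorProduct.includeRight : MvPolynomial G R →ₐ[R] B ⊗[R] MvPolynomial G R),
        Algebra.TensorProduct.map (AlgHom.id B B) ψ y' = y := by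
  classical
  induction hy using Submodule.span_induction with
  | mem x hx =>
    obtain ⟨c, hc, rfl⟩ := hx
    refine ⟨{c}, fun G hG => ?_⟩
    refine ⟨1 ⊗ₜ MvPolynomial.X ⟨c, hG (Finset.mem_singleton_self c)⟩,
      Ideal.mem_map_of_mem (Algebra.TensorProduct.includeRight : MvPolynomial G R →ₐ[R] B ⊗[R] MvPolynomial G R) ?_, ?_⟩
    · simpa using hc
    · simp
  | zero => exact ⟨∅, fun G _ => ⟨0, Ideal.zero_mem _, map_zero _⟩⟩
  | add x y _ _ hx hy =>
    obtain ⟨F, hF⟩ := hx
    obtain ⟨F', hF'⟩ := hy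
    refine ⟨F ∪ F', fun G hG => ?_⟩
    obtain ⟨x', hx', ex⟩ := hF G (Finset.union_subset_left hG)
    obtain ⟨y', hy', ey⟩ := hF' G (Finset.union_subset_right hG)
    exact ⟨x' + y', Ideal.add_mem _ hx' hy', by rw [map_add, ex, ey]⟩
  | smul a x _ hx =>
    obtain ⟨F, hF⟩ := hx
    obtain ⟨F', hF'⟩ := exists_finset_mem_range (R := R) a
    refine ⟨F ∪ F', fun G hG => ?_⟩
    obtain ⟨x', hx', ex⟩ := hF G (Finset.union_subset_left hG)
    obtain ⟨a', ha⟩ := hF' G (Finset.union_subset_right hG)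
    exact ⟨a' * x', Ideal.mul_mem_left _ _ hx', by rw [map_mul, ex, smul_eq_mul]; exact congrArg (· * x) ha⟩

/-- An empty fibre is witnessed over finitely many variables. -/
theorem exists_witness (J : Ideal (B ⊗[R] C)) (t : Ideal C) [t.IsPrime]
    (h : ∀ P : Ideal (B ⊗[R] C), P.IsPrime → J ≤ P →
      P.comap (Algebra.TensorProduct.includeRight : C →ₐ[R] B ⊗[R] C) ≠ t) :
    ∃ (G : Finset C) (k : B ⊗[R] MvPolynomial G R) (s : MvPolynomial G R),
      let ψ := MvPolynomial.aeval (R := R) (fun c : G => (c : C))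
      Algebra.TensorProduct.map (AlgHom.id B B) ψ k ∈ J ∧ ψ s ∉ t ∧
        k - 1 ⊗ₜ s ∈ (t.comap ψ).map (Algebra.TensorProduct.includeRight : MvPolynomial G R →ₐ[R] B ⊗[R] MvPolynomial G R) := by
  classical
  let ι : C →ₐ[R] B ⊗[R] C := Algebra.TensorProduct.includeRight
  let M : Submonoid (B ⊗[R] C) := t.primeCompl.map ι.toRingHom.toMonoidHom
  by_cases hd : Disjoint ((J ⊔ t.map ι : Ideal _) : Set (B ⊗[R] C)) M
  · obtain ⟨P, hP, hle, hPM⟩ := Ideal.exists_le_prime_disjoint _ M hd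
    refine absurd (le_antisymm (fun c hc => ?_) fun c hc => hle ((le_sup_right : t.map ι ≤ _) (Ideal.mem_map_of_mem ι hc)))
      (h P hP (le_sup_left.trans hle))
    by_contra hct
    exact Set.disjoint_left.1 hPM hc ⟨c, hct, rfl⟩
  · obtain ⟨x, hx, s, hs, rfl⟩ := Set.not_disjoint_iff.1 hd
    obtain ⟨j, hj, y, hy, hjy⟩ := Submodule.mem_sup.1 hx
    obtain ⟨F, hF⟩ := exists_finset_mem_map t y hy
    obtain ⟨y', hy', ey⟩ := hF (insert s F) (Finset.subset_insert _ _)
    refine ⟨insert s F, 1 ⊗ₜ MvPolynomial.X ⟨s, Finset.mem_insert_self _ _⟩ - y', MvPolynomial.X ⟨s, Finset.mem_insert_self _ _⟩, ?_, ?_, ?_⟩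
    · rw [map_sub, ey]
      have e : j = ι s - y := eq_sub_of_add_eq hjy
      simpa [e, ι] using hj
    · simpa using hs
    · rw [show (1 : B) ⊗ₜ[R] MvPolynomial.X (⟨s, Finset.mem_insert_self _ _⟩ : (insert s F : Finset C)) - y' -
        1 ⊗ₜ MvPolynomial.X ⟨s, Finset.mem_insert_self _ _⟩ = -y' by abel]
      exact neg_mem hy'

end GrothLib.AlgSp.AffineTest
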