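import Groth.Agent.Lib.AlgSp.DecentBridge
import Groth.Agent.Lib.BddFibre.Universal
import Groth.Prelude.Def_W4decUnivBdd

/-!
# Universally bounded fibres of maps from schemes to spaces

`degFibresLE_iff` translates `W4dec.DegFibresLE` into the scheme notion `BddFib.FibreDegLE`; then composition, base
change, descent, and finite covers.
-/

universe u

open CategoryTheory CategoryTheory.Limits AlgebraicGeometry

namespace GrothLib.AlgSp

open _root_.AlgSp BddFib W4dec

variable {S : Scheme.{u}} {X Y : Sp S}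

theorem deg_eq_finrank {K : Type u} [Field K] {T : Scheme.{u}} (c : T ⟶ Spec (CommRingCat.of K)) [IsFinite c]
    (s : ↥(Spec (CommRingCat.of K))) : BddFibre.deg (CommRingCat.of K) c = c.finrank s := by
  haveI : IsAffine T := isAffine_of_isAffineHom c
  obtain ⟨φ, hφ⟩ := Spec.map_surjective (T.isoSpec.inv ≫ c)
  have e : T.isoSpec.hom ≫ Spec.map φ = c := by rw [hφ, Iso.hom_inv_id_assoc]
  haveI : Flat (Spec.map φ) := flat_to_field _
  haveI : IsFinite (Spec.map φ) := by rw [hφ]; infer_instance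
  rw [BddFibre.deg_eq c φ T.isoSpec e, show c.finrank s = (Spec.map φ).finrank s by
      rw [← e, Scheme.Hom.finrank_comp_left_of_isIso],
    Scheme.Hom.finrank_SpecMap_eq_finrank ((IsFinite.SpecMap_iff φ).1 ‹_›) (Flat.SpecMap_iff.1 ‹_›)]
  letI := φ.hom.toAlgebra
  exact (congrFun (Module.rankAtStalk_eq_finrank_of_free (R := K) (M := Γ(T, ⊤))) s).symm

theorem fibreDegLE_iff_finiteOfDegLE {K : CommRingCat.{u}} (hK : IsField K) {T : Scheme.{u}} (p : T ⟶ Spec K)
    (n : ℕ) : FibreDegLE p n ↔ FiniteOfDegLE K p n := by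
  letI := hK.toField
  constructor
  · intro h
    have h' := (BddFibre.fibreDegLE_iff p n).1 h K (𝟙 _)
    exact (BddFibre.finiteOfDegLE_of_iso p (asIso (pullback.fst p (𝟙 _)))
      (pullback.condition.trans (Category.comp_id _))).1 h'
  · intro h
    rw [BddFibre.fibreDegLE_iff]
    intro k _ g
    obtain ⟨σ, rfl⟩ := Spec.map_surjective g
    exact (BddFibre.finiteOfDegLE_pullback_iff hK (Field.toIsField k) σ p n).2 h

theorem degFibresLE_iff {U : Over S} {a : (yon S).obj U ⟶ X} {n : ℕ} :
    DegFibresLE n a ↔ ∀ (q : FieldPt X) (T : Over S) (c : T ⟶ q.pt) (snd : (yon S).obj T ⟶ (yon S).obj U),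
      IsPullback ((yon S).map c) snd q.toHom a → FibreDegLE c.left n := by
  refine forall_congr' fun q => forall_congr' fun T => forall_congr' fun c => forall_congr' fun snd =>
    forall_congr' fun _ => ?_
  refine Iff.trans ?_ ((fibreDegLE_iff_finiteOfDegLE (Field.toIsField q.K) c.left n).trans
    (BddFibre.finiteOfDegLE_iff c.left n)).symm
  refine and_congr_right fun hc => ⟨fun h => ?_, fun h s => ?_⟩
  · exact (deg_eq_finrank c.left (IsLocalRing.closedPoint q.K)).trans_le (h _)
  · exact (deg_eq_finrank c.left s).symm.trans_le h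

/-- One pullback square for every point suffices. -/
theorem degFibresLE_of_exists {U : Over S} {a : (yon S).obj U ⟶ X} {n : ℕ}
    (h : ∀ q : FieldPt X, ∃ (T : Over S) (c : T ⟶ q.pt) (snd : (yon S).obj T ⟶ (yon S).obj U),
      IsPullback ((yon S).map c) snd q.toHom a ∧ FibreDegLE c.left n) : DegFibresLE n a := by
  rw [degFibresLE_iff]
  intro q T c snd sq
  obtain ⟨T', c', snd', sq', h'⟩ := h q
  let e : T ≅ T' := (yon S).preimageIso (sq.isoIsPullback _ _ sq')
  have he : e.hom ≫ c' = c := (yon S).map_injective (by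
    rw [Functor.map_comp, Functor.preimageIso_hom, Functor.map_preimage, IsPullback.isoIsPullback_hom_fst])
  rw [fibreDegLE_iff_finiteOfDegLE (Field.toIsField q.K)] at h' ⊢
  exact (BddFibre.finiteOfDegLE_of_iso c'.left ((Over.forget S).mapIso e)
    (by show e.hom.left ≫ c'.left = c.left; rw [← Over.comp_left, he])).2 h'

theorem fibreDegLE_mono {A B : Scheme.{u}} {f : A ⟶ B} {n m : ℕ} (h : FibreDegLE f n) (hnm : n ≤ m) :
    FibreDegLE f m := fun y => ⟨(h y).1, (h y).2.1, (h y).2.2.trans hnm⟩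

/-- A field-valued point from a morphism. -/
noncomputable def fieldPtOfHom {Ω : Type u} [Field Ω] {w : Spec (CommRingCat.of Ω) ⟶ S}
    (g : (yon S).obj (Over.mk w) ⟶ X) : FieldPt X :=
  ⟨Ω, w, (J S).uliftYonedaEquiv g⟩

theorem toHom_fieldPtOfHom {Ω : Type u} [Field Ω] {w : Spec (CommRingCat.of Ω) ⟶ S}
    (g : (yon S).obj (Over.mk w) ⟶ X) : (fieldPtOfHom g).toHom = g :=
  (J S).uliftYonedaEquiv.symm_apply_apply g

theorem fibreDegLE_left {U V : Over S} (f : V ⟶ U) {n : ℕ} (h : DegFibresLE n ((yon S).map f)) :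
    FibreDegLE f.left n := by
  rw [BddFibre.fibreDegLE_iff]
  intro k _ g
  let i : Over.mk (g ≫ U.hom) ⟶ U := Over.homMk g rfl
  let q := fieldPtOfHom ((yon S).map i)
  have sq := IsPullback.of_hasPullback i f
  have hd := (degFibresLE_iff.1 h) q (pullback i f) (pullback.fst i f) ((yon S).map (pullback.snd i f))
    (by rw [toHom_fieldPtOfHom]; exact isPullback_yon sq)
  rw [fibreDegLE_iff_finiteOfDegLE (Field.toIsField k)] at hd
  exact (BddFibre.finiteOfDegLE_of_iso _ (isPullback_left sq).flip.isoPullback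
    (isPullback_left sq).flip.isoPullback_hom_snd).1 hd

theorem degFibresLE_comp (hX : IsAlgSpace X) {U V : Over S} (f : V ⟶ U) (g : (yon S).obj U ⟶ X) {n m : ℕ}
    (hf : FibreDegLE f.left n) (hg : DegFibresLE m g) : DegFibresLE (n * m) ((yon S).map f ≫ g) := by
  refine degFibresLE_of_exists fun q => ?_
  obtain ⟨T, c, d, sq⟩ := exists_isPullback_yon hX.diag q.toHom g
  have sq' := IsPullback.of_hasPullback d f
  refine ⟨pullback d f, pullback.fst d f ≫ c, (yon S).map (pullback.snd d f), ?_, ?_⟩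
  · rw [Functor.map_comp]; exact isPullback_stack sq sq'
  · rw [Over.comp_left]
    exact BddFibre.fibreDegLE_comp _ _ (BddFibre.fibreDegLE_of_isPullback _ _ _ _ (isPullback_left sq').flip hf)
      (degFibresLE_iff.1 hg q T c _ sq)

theorem degFibresLE_baseChange {U V : Over S} {p : Y ⟶ X} {g : (yon S).obj U ⟶ X}
    {fst : (yon S).obj V ⟶ (yon S).obj U} {snd : (yon S).obj V ⟶ Y} (h : IsPullback fst snd g p) {n : ℕ}
    (hg : DegFibresLE n g) : DegFibresLE n snd := by
  rw [degFibresLE_iff] at hg ⊢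
  intro q T c d sq
  refine hg (q.map p) T c (d ≫ fst) ?_
  rw [FieldPt.toHom_map]
  exact sq.paste_vert h.flip

theorem isPullback_snd_of_mono {P : Sp S} (i : P ⟶ X) [Mono i] {U : Over S} (ψ : (yon S).obj U ⟶ P) :
    IsPullback (𝟙 ((yon S).obj U)) ψ (ψ ≫ i) i :=
  isPullback_of_yon (Category.id_comp _) fun W a b hab => by
    refine ⟨a, ⟨Category.comp_id _, (cancel_mono i).1 (by rw [Category.assoc]; exact hab)⟩, fun c hc => ?_⟩
    rw [← hc.1, Category.comp_id]

theorem degFibresLE_of_baseChange (hX : IsAlgSpace X) {U V : Over S} {g : Y ⟶ X} {f : (yon S).obj U ⟶ X}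
    {fst : (yon S).obj V ⟶ (yon S).obj U} {f' : (yon S).obj V ⟶ Y} (h : IsPullback fst f' f g)
    (him : Set.range (Points.ofPt f) ⊆ Set.range (Points.map g)) {n : ℕ} (hf' : DegFibresLE n f') :
    DegFibresLE (n + 1) f := by
  refine degFibresLE_of_exists fun q => ?_
  obtain ⟨T, c, d, sq⟩ := exists_isPullback_yon hX.diag q.toHom f
  refine ⟨T, c, _, sq, ?_⟩
  cases isEmpty_or_nonempty ↥T.left
  · exact fibreDegLE_mono (BddFibre.fibreDegLE_of_isImmersion c.left) (Nat.le_add_left 1 n)
  obtain ⟨t⟩ := (inferInstance : Nonempty ↥T.left)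
  have hq : Points.mk q ∈ Set.range (Points.ofPt f) :=
    ⟨d.left t, ((ofPt_eq_ofPt_iff sq (c.left t) (d.left t)).2 ⟨t, rfl, rfl⟩).symm.trans (Points.ofPt_toHom q _)⟩
  obtain ⟨y, hy⟩ := him hq
  have e : Points.map g y = Points.map q.toHom (Points.ofScheme q.pt (IsLocalRing.closedPoint q.K)) := by
    rw [← Points.ofPt_eq_map_ofScheme, Points.ofPt_toHom]; exact hy
  obtain ⟨Ω, _, w, a, b, hab, -, -⟩ := exists_common_field e
  obtain ⟨β, rfl⟩ := (yon S).map_surjective b
  haveI : Nonempty ↥(Over.mk w).left := ⟨IsLocalRing.closedPoint Ω⟩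
  haveI : Surjective β.left := ⟨Function.surjective_to_subsingleton (β := PrimeSpectrum q.K) _⟩
  have sqT := IsPullback.of_hasPullback c β
  refine fibreDegLE_mono (BddFibre.fibreDegLE_of_isPullback_of_surjective _ _ _ _ (isPullback_left sqT) ?_)
    (Nat.le_add_right n 1)
  have sqL : IsPullback ((yon S).map (pullback.fst c β ≫ d)) ((yon S).map (pullback.snd c β)) f (a ≫ g) := by
    have := isPullback_stack sq.flip sqT
    rw [← hab] at this
    rwa [Functor.map_comp]
  have w' : (yon S).map (pullback.fst c β ≫ d) ≫ f = ((yon S).map (pullback.snd c β) ≫ a) ≫ g := by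
    rw [Category.assoc]; exact sqL.w
  have hlift : IsPullback (h.lift _ _ w') ((yon S).map (pullback.snd c β)) f' a :=
    IsPullback.of_right (by rw [h.lift_fst]; exact sqL) (h.lift_snd _ _ w') h
  exact degFibresLE_iff.1 hf' (fieldPtOfHom a) (pullback c β) (pullback.snd c β) (h.lift _ _ w')
    (by rw [toHom_fieldPtOfHom]; exact hlift.flip)

theorem degFibresLE_of_flat_surjective (hX : IsAlgSpace X) {U V : Over S} (f : U ⟶ V) [Surjective f.left]
    [Flat f.left] (h : (yon S).obj V ⟶ X) {n : ℕ} (hg : DegFibresLE n ((yon S).map f ≫ h)) : DegFibresLE n h := by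
  refine degFibresLE_of_exists fun q => ?_
  obtain ⟨T, c, d, sq⟩ := exists_isPullback_yon hX.diag q.toHom h
  have sq' := IsPullback.of_hasPullback d f
  refine ⟨T, c, _, sq, ?_⟩
  have hU := degFibresLE_iff.1 hg q (pullback d f) (pullback.fst d f ≫ c) ((yon S).map (pullback.snd d f))
    (by rw [Functor.map_comp]; exact isPullback_stack sq sq')
  haveI : Flat (pullback.fst d f).left :=
    MorphismProperty.of_isPullback (isPullback_left sq').flip ‹Flat f.left›
  haveI : Surjective (pullback.fst d f).left :=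
    MorphismProperty.of_isPullback (isPullback_left sq').flip ‹Surjective f.left›
  rw [fibreDegLE_iff_finiteOfDegLE (Field.toIsField q.K), Over.comp_left] at hU
  rw [fibreDegLE_iff_finiteOfDegLE (Field.toIsField q.K)]
  exact BddFibre.finiteOfDegLE_of_flat_surjective (Field.toIsField q.K) _ _ hU

theorem degFibresLE_of_cover (hX : IsAlgSpace X) {U : Over S} (g : (yon S).obj U ⟶ X) {io : Type} [Fintype io]
    (W : io → Over S) (j : ∀ i, W i ⟶ U) (hj : ∀ i, IsOpenImmersion (j i).left)
    (hcov : ∀ x, ∃ i, x ∈ Set.range (j i).left) (n : io → ℕ)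
    (h : ∀ i, DegFibresLE (n i) ((yon S).map (j i) ≫ g)) : DegFibresLE (∑ i, n i) g := by
  refine degFibresLE_of_exists fun q => ?_
  obtain ⟨T, c, d, sq⟩ := exists_isPullback_yon hX.diag q.toHom g
  have sq' := fun i => IsPullback.of_hasPullback d (j i)
  haveI : ∀ i, IsOpenImmersion (pullback.fst d (j i)).left := fun i =>
    MorphismProperty.of_isPullback (isPullback_left (sq' i)).flip (hj i)
  refine ⟨T, c, _, sq, BddFibre.fibreDegLE_of_cover c.left (fun i => (pullback d (j i)).left)
    (fun i => (pullback.fst d (j i)).left) (fun t => ?_) n fun i => ?_⟩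
  · obtain ⟨i, w, hw⟩ := hcov (d.left t)
    obtain ⟨z, hz, -⟩ := Scheme.Pullback.exists_preimage_pullback t w hw.symm
    exact ⟨i, (isPullback_left (sq' i)).isoPullback.inv z, by
      rw [← Scheme.Hom.comp_apply, IsPullback.isoPullback_inv_fst]; exact hz⟩
  · rw [← Over.comp_left]
    exact degFibresLE_iff.1 (h i) q (pullback d (j i)) (pullback.fst d (j i) ≫ c)
      ((yon S).map (pullback.snd d (j i))) (by rw [Functor.map_comp]; exact isPullback_stack sq (sq' i))

end GrothLib.AlgSp
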