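import Groth.Prelude.Def_AlgSpSub
import Groth.Agent.Lib.AlgSp.SourceLocal
import Groth.Agent.Lib.RedSmooth.Basic
import Groth.Agent.Lib.EtBasicB.LocalRings
import Groth.Agent.Lib.Serre.Regular
import Groth.Agent.S9840

/-!
# Reduced, locally noetherian and regular algebraic spaces along morphisms
-/

universe u

open CategoryTheory CategoryTheory.Limits AlgebraicGeometry Topology

namespace GrothLib.AlgSp

open _root_.AlgSp

variable {S : Scheme.{u}}

/-- A property of schemes which ascends along etale morphisms and descends along etale surjections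
holds on every chart as soon as it holds on one atlas. -/
theorem etaleLocally_chart {Q : Scheme.{u} → Prop}
    (hasc : ∀ ⦃A B : Scheme.{u}⦄ (k : A ⟶ B), Etale k → Q B → Q A)
    (hdesc : ∀ ⦃A B : Scheme.{u}⦄ (k : A ⟶ B), Etale k → Surjective k → Q A → Q B)
    {F : Sp S} (h : EtaleLocally Q F) {U : Over S} (a : (yon S).obj U ⟶ F) (ha : RepWith @Etale a) : Q U.left := by
  obtain ⟨U₀, p, pe, ps, hQ⟩ := h
  obtain ⟨R, fst, snd, sq⟩ := exists_isPullback_of_representable pe.1 a
  obtain ⟨fst, rfl⟩ := (yon S).map_surjective fst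
  have h₁ : Etale fst.left := (repWith_yon_map_iff _ fst).1 (repWith_of_isPullback sq.flip ha)
  exact hdesc snd.left (pe.2 _ _ _ sq) (ps.2 _ _ _ sq) (hasc fst.left h₁ hQ)

theorem isReduced_of_etale {A B : Scheme.{u}} (k : A ⟶ B) (_ : Etale k) (_ : IsReduced B) : IsReduced A :=
  GrothLib.RedSmooth.isReduced_of_smooth k

theorem isReduced_desc {A B : Scheme.{u}} (k : A ⟶ B) (_ : Etale k) (_ : Surjective k) (_ : IsReduced A) :
    IsReduced B :=
  Groth.Agent.S9840.result k

theorem isLocallyNoetherian_of_etale {A B : Scheme.{u}} (k : A ⟶ B) (_ : Etale k) (_ : IsLocallyNoetherian B) :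
    IsLocallyNoetherian A :=
  LocallyOfFiniteType.isLocallyNoetherian k

theorem isLocallyNoetherian_desc {A B : Scheme.{u}} (k : A ⟶ B) (_ : Etale k) (_ : Surjective k)
    (_ : IsLocallyNoetherian A) : IsLocallyNoetherian B :=
  GrothLib.FppfSource.isLocallyNoetherian_of_fppf k

/-- Locally noetherian with regular local rings. -/
def RegularScheme (U : Scheme.{u}) : Prop :=
  IsLocallyNoetherian U ∧ ∀ u : ↥U, IsRegularLocalRing ↥(U.presheaf.stalk u)

theorem regularScheme_of_etale {A B : Scheme.{u}} (k : A ⟶ B) (_ : Etale k) (h : RegularScheme B) :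
    RegularScheme A := by
  have := h.1
  exact ⟨LocallyOfFiniteType.isLocallyNoetherian k,
    fun a => (GrothLib.EtBasicB.isRegularLocalRing_stalk_iff k a).2 (h.2 _)⟩

theorem regularScheme_desc {A B : Scheme.{u}} (k : A ⟶ B) [Flat k] [LocallyOfFinitePresentation k]
    [Surjective k] (h : RegularScheme A) : RegularScheme B := by
  have := h.1
  have hB : IsLocallyNoetherian B := GrothLib.FppfSource.isLocallyNoetherian_of_fppf k
  refine ⟨hB, fun b => ?_⟩
  obtain ⟨a, rfl⟩ := k.surjective b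
  have := h.2 a
  algebraize [(k.stalkMap a).hom]
  have : IsLocalHom (algebraMap (B.presheaf.stalk (k a)) (A.presheaf.stalk a)) :=
    inferInstanceAs (IsLocalHom (k.stalkMap a).hom)
  have : Module.Flat (B.presheaf.stalk (k a)) (A.presheaf.stalk a) := Flat.stalkMap k a
  exact GrothLib.Serre.isRegularLocalRing_of_flat (B.presheaf.stalk (k a)) (A.presheaf.stalk a)

/-- A property of schemes descending along surjective `C`-morphisms descends along surjective `C`-morphisms
of algebraic spaces. -/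
theorem etaleLocally_of_surjective {C : MorphismProperty Scheme.{u}} (hC : EtLocal C)
    (hCet : ∀ ⦃A B : Scheme.{u}⦄ (c : A ⟶ B), Etale c → C c) {Q : Scheme.{u} → Prop}
    (hasc : ∀ ⦃A B : Scheme.{u}⦄ (k : A ⟶ B), Etale k → Q B → Q A)
    (hdesc : ∀ ⦃A B : Scheme.{u}⦄ (k : A ⟶ B), C k → Surjective k → Q A → Q B)
    {X Y : Sp S} (hX : IsAlgSpace X) (hY : IsAlgSpace Y) {f : X ⟶ Y} (hf : LocP C f) (hs : IsSurjectiveMor f)
    (h : EtaleLocally Q X) : EtaleLocally Q Y := by
  obtain ⟨V, q, qe, qs⟩ := hY.atlas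
  obtain ⟨W, c, b, hb, -, hCc, hcov⟩ := exists_chart_cover hC hCet (ι := PUnit.{u + 1}) (Xi := fun _ => X)
    (g := fun _ => f) hY (fun _ => hX) (fun _ => hf) (fun y => ⟨⟨⟩, hs y⟩) q qe
  have hW : Q (W ⟨⟩).left :=
    etaleLocally_chart hasc (fun A B k he hk hA => hdesc k (hCet k he) hk hA) h (b ⟨⟩) (hb ⟨⟩)
  exact ⟨V, q, qe, qs, hdesc (c ⟨⟩).left (hCc ⟨⟩) ⟨fun v => (hcov v).elim fun i hi => hi⟩ hW⟩

theorem isReducedSp_of_smooth {X Y : Sp S} (hX : IsAlgSpace X) (hY : IsAlgSpace Y) {f : X ⟶ Y}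
    (hf : LocP @Smooth f) (h : IsReducedSp Y) : IsReducedSp X := by
  obtain ⟨V, q, qe, qs, hV⟩ := h
  obtain ⟨U, p, α, pe, hp, hps⟩ := exists_chart_over hX hY f q qe
  have : Smooth α.left := hf p q α pe qe hp
  exact ⟨U, p, pe, hps qs, GrothLib.RedSmooth.isReduced_of_smooth α.left⟩

end GrothLib.AlgSp
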