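import Groth.Agent.Lib.AlgSp.MonoPoint
import Groth.Agent.Lib.AlgSp.PointProps
import Groth.Agent.Lib.AlgSp.EtaleLocallyProps
import Groth.Agent.Lib.AlgSp.PointsUniv

/-!
# Specializations in decent spaces

* `finite_fibre_of_qc_point`: fibres of affine etale charts over a quasi-compact field point are finite.
* `eq_of_specializes_of_finite_fibres`: no specializations inside such fibres.
* `exists_specializes_of_finite_fibres`: generalizations lift.
-/

universe u

open CategoryTheory CategoryTheory.Limits AlgebraicGeometry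

namespace GrothLib.AlgSp

open _root_.AlgSp

variable {S : Scheme.{u}} {X : Sp S}

/-- The fibres of affine etale charts over `x` are finite. -/
def FiniteFibres (x : Points X) : Prop :=
  ∀ (V : Over S) (b : (yon S).obj V ⟶ X), IsAffine V.left → RepWith @Etale b → (Points.ofPt b ⁻¹' {x}).Finite

theorem finite_fibre_of_qc_point (hX : IsAlgSpace X) (q : FieldPt X) (hq : RepWith @QuasiCompact q.toHom) :
    FiniteFibres (Points.mk q) := by
  intro V b hV hb
  haveI := hV
  obtain ⟨W, c, d, sq⟩ := exists_isPullback_yon hX.diag q.toHom b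
  haveI : QuasiCompact d.left := hq.2 _ _ _ sq
  haveI : CompactSpace ↥W.left := QuasiCompact.compactSpace_of_compactSpace d.left
  haveI : Etale c.left := hb.2 _ _ _ sq.flip
  haveI : LocallyQuasiFinite c.left := locallyQuasiFinite_of_unramified _
  haveI : IsLocallyArtinian q.pt.left := inferInstanceAs (IsLocallyArtinian (Spec (CommRingCat.of q.K)))
  haveI : IsLocallyArtinian W.left := .of_locallyQuasiFinite c.left
  haveI : Finite ↥W.left := finite_of_compact_of_discrete
  refine (Set.finite_range d.left).subset fun v hv => ?_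
  obtain ⟨r, -, hr⟩ := (ofPt_eq_ofPt_iff sq (IsLocalRing.closedPoint q.K) v).1
    ((Points.ofPt_toHom q _).trans (Set.mem_singleton_iff.1 hv).symm)
  exact ⟨r, hr⟩

theorem finiteFibres_of_isDecent (hX : IsAlgSpace X) (hd : IsDecent X) (x : Points X) : FiniteFibres x := by
  obtain ⟨q, rfl, -, hq⟩ := hd x
  exact finite_fibre_of_qc_point hX q hq

/-- Affine neighbourhoods in charts are affine charts. -/
theorem exists_affine_subchart {U : Over S} {a : (yon S).obj U ⟶ X} (ha : RepWith @Etale a) (u : ↥U.left) :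
    ∃ (O : U.left.Opens), u ∈ O ∧ IsAffineOpen O ∧
      ∃ b : (yon S).obj (Over.mk (O.ι ≫ U.hom)) ⟶ X, RepWith @Etale b ∧
        ∀ w, Points.ofPt b w = Points.ofPt a (O.ι w) := by
  obtain ⟨O, hO, hu, -⟩ := exists_isAffineOpen_mem_and_subset (U := (⊤ : U.left.Opens)) (x := u) trivial
  let i : Over.mk (O.ι ≫ U.hom) ⟶ U := Over.homMk O.ι rfl
  refine ⟨O, hu, hO, (yon S).map i ≫ a, repWith_comp ((repWith_yon_map_iff _ _).2 (inferInstanceAs (Etale O.ι))) ha,
    fun w => ?_⟩
  rw [ofPt_map_comp]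
  rfl

/-- Strict generizations in a fibre propagate. -/
theorem exists_generization_of_specializes (hX : IsAlgSpace X) {U : Over S} {a : (yon S).obj U ⟶ X}
    (ha : RepWith @Etale a) {u u' : ↥U.left} (he : Points.ofPt a u = Points.ofPt a u') (hs : u' ⤳ u) (hne : u ≠ u') :
    ∃ u'' : ↥U.left, u'' ⤳ u' ∧ u'' ≠ u' ∧ Points.ofPt a u'' = Points.ofPt a u' := by
  obtain ⟨R, t, s, sq⟩ := exists_isPullback_yon hX.diag a a
  haveI : Etale s.left := ha.2 _ _ _ sq
  haveI : Etale t.left := ha.2 _ _ _ sq.flip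
  obtain ⟨r, hr₁, hr₂⟩ := (ofPt_eq_ofPt_iff sq u' u).1 he.symm
  -- generalize `r` along `s`
  obtain ⟨r', hr', hsr'⟩ := Flat.generalizingMap s.left (a := r) (b := u') (show u' ⤳ s.left r by rw [hr₂]; exact hs)
  refine ⟨t.left r', hr₁ ▸ hr'.map t.left.continuous, fun e => hne ?_, ?_⟩
  · haveI : LocallyQuasiFinite t.left := locallyQuasiFinite_of_unramified _
    have hd := t.left.isDiscrete_preimage_singleton u'
    haveI : DiscreteTopology ↥(t.left ⁻¹' {u'}) := hd.to_subtype
    have h2 : (⟨r', e⟩ : ↥(t.left ⁻¹' {u'})) ⤳ ⟨r, hr₁⟩ := (subtype_specializes_iff _ _).2 hr'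
    have h3 : r' = r := congrArg Subtype.val h2.eq
    rw [← hr₂, ← h3, hsr']
  · exact ((ofPt_eq_ofPt_iff sq (t.left r') u').2 ⟨r', rfl, hsr'⟩)

theorem eq_of_specializes_of_finite_fibres (hX : IsAlgSpace X) {x : Points X} (hfin : FiniteFibres x)
    {U : Over S} {a : (yon S).obj U ⟶ X} (ha : RepWith @Etale a) {u u' : ↥U.left}
    (hu : Points.ofPt a u = x) (hu' : Points.ofPt a u' = x) (hs : u' ⤳ u) : u = u' := by
  by_contra hne
  obtain ⟨O, huO, hO, b, hb, hbw⟩ := exists_affine_subchart ha u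
  -- points of the fibre which strictly generalize another one
  let F : Set ↥U.left := {w | w ∈ O ∧ Points.ofPt a w = x ∧ ∃ v, Points.ofPt a v = x ∧ w ⤳ v ∧ v ≠ w}
  have hF : F.Finite := ((hfin _ b hO hb).image O.ι).subset fun w ⟨hwO, hwx, _⟩ =>
    ⟨⟨w, hwO⟩, (hbw ⟨w, hwO⟩).trans hwx, rfl⟩
  let : PartialOrder ↥U.left := specializationOrder ↥U.left
  obtain ⟨w, hw⟩ := hF.exists_maximal ⟨u', hs.mem_open O.2 huO, hu', u, hu, hs, hne⟩
  obtain ⟨hwO, hwx, v, hvx, hwv, hvw⟩ := hw.1
  obtain ⟨w', hw', hw'ne, hw'x⟩ := exists_generization_of_specializes hX ha (hvx.trans hwx.symm) hwv hvw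
  have hmem : w' ∈ F := ⟨hw'.mem_open O.2 hwO, hw'x.trans hwx, w, hwx, hw', hw'ne.symm⟩
  exact hw'ne (hw'.antisymm (hw.2 hmem hw')).eq

theorem exists_specializes_of_finite_fibres {x x' : Points X} (h : x' ⤳ x) (hfin : FiniteFibres x')
    {U : Over S} {a : (yon S).obj U ⟶ X} (ha : RepWith @Etale a) {u : ↥U.left} (hu : Points.ofPt a u = x) :
    ∃ u' : ↥U.left, u' ⤳ u ∧ Points.ofPt a u' = x' := by
  obtain ⟨O, huO, hO, b, hb, hbw⟩ := exists_affine_subchart ha u
  let F : Set ↥U.left := {w | w ∈ O ∧ Points.ofPt a w = x'}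
  have hF : F.Finite := ((hfin _ b hO hb).image O.ι).subset fun w ⟨hwO, hwx⟩ =>
    ⟨⟨w, hwO⟩, (hbw ⟨w, hwO⟩).trans hwx, rfl⟩
  by_contra hcon
  push_neg at hcon
  -- a neighbourhood of `u` missing the fibre
  have key : u ∈ ((O : Set ↥U.left) \ ⋃ w ∈ F, closure {w}) := by
    refine ⟨huO, fun hmem => ?_⟩
    obtain ⟨w, hw, hwu⟩ := Set.mem_iUnion₂.1 hmem
    exact hcon w (specializes_iff_mem_closure.2 hwu) hw.2
  have hopen : IsOpen ((O : Set ↥U.left) \ ⋃ w ∈ F, closure {w}) :=
    O.2.sdiff (hF.isClosed_biUnion fun _ _ => isClosed_closure)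
  obtain ⟨w, ⟨hwO, hw⟩, hwx⟩ := h.mem_open (isOpenMap_ofPt_of_etale ha _ hopen) ⟨u, key, hu⟩
  exact hw (Set.mem_biUnion (show w ∈ F from ⟨hwO, hwx⟩) (subset_closure rfl))

theorem t0Space_of_finite_fibres (hX : IsAlgSpace X) (hfin : ∀ x : Points X, FiniteFibres x) :
    T0Space (Points X) := by
  refine ⟨fun x y hxy => ?_⟩
  obtain ⟨U, a, ha, hs⟩ := hX.atlas
  obtain ⟨u, hu⟩ := surjective_ofPt_of_repWith hs y
  obtain ⟨u', hu'u, hu'⟩ := exists_specializes_of_finite_fibres hxy.specializes (hfin x) ha hu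
  obtain ⟨u'', hu''u', hu''⟩ := exists_specializes_of_finite_fibres hxy.symm.specializes (hfin y) ha hu'
  have e := eq_of_specializes_of_finite_fibres hX (hfin y) ha hu hu'' (hu''u'.trans hu'u)
  have e' : u = u' := (hu''u'.antisymm (e ▸ hu'u)).eq ▸ e
  rw [← hu', ← e', hu]

/-- On locally noetherian spaces there are no specializations inside fibres of charts. -/
theorem eq_of_specializes_of_isLocNoeth (hX : IsAlgSpace X) {U : Over S} {a : (yon S).obj U ⟶ X}
    (ha : RepWith @Etale a) [IsLocallyNoetherian U.left]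
    {u u' : ↥U.left} (he : Points.ofPt a u = Points.ofPt a u') (hs : u' ⤳ u) : u = u' := by
  by_contra hne
  obtain ⟨R, t, s, sq⟩ := exists_isPullback_yon hX.diag a a
  haveI : Etale s.left := ha.2 _ _ _ sq
  haveI : Etale t.left := ha.2 _ _ _ sq.flip
  obtain ⟨r, hr₁, hr₂⟩ := (ofPt_eq_ofPt_iff sq u u').1 he
  have hdim : ringKrullDim (U.left.presheaf.stalk u) = ringKrullDim (U.left.presheaf.stalk u') := by
    rw [← hr₁, ← ringKrullDim_stalk_eq_of_etale t.left r, ringKrullDim_stalk_eq_of_etale s.left r, hr₂]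
  have hlt : u < u' := lt_of_le_not_ge (show u ≤ u' from hs) fun h => hne ((show u ⤳ u' from h).antisymm hs).eq
  have hfin : Order.coheight u < ⊤ := by
    have h1 := ringKrullDim_lt_top (R := U.left.presheaf.stalk u)
    rw [ringKrullDim_stalk_eq_coheight] at h1
    exact WithBot.coe_lt_coe.1 h1
  have h2 := Order.coheight_strictAnti hlt (lt_of_le_of_lt (Order.coheight_anti hlt.le) hfin)
  rw [ringKrullDim_stalk_eq_coheight, ringKrullDim_stalk_eq_coheight, WithBot.coe_inj] at hdim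
  exact h2.ne hdim.symm

end GrothLib.AlgSp
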