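import Groth.Agent.Lib.AlgSp.GenericDegree
import Groth.Agent.Lib.AlgSp.Dim
import Groth.Agent.Lib.AlgSp.PointProps
import Groth.Prelude.Def_Flat

/-!
# Specializations and dimension on decent algebraic spaces

For an etale chart `a : U ⟶ X` of a decent space, `Points.ofPt a` preserves the coheight of points, hence
codimensions, dimensions and local dimensions can be read on charts.
-/

universe v w u

open CategoryTheory CategoryTheory.Limits AlgebraicGeometry TopologicalSpace

namespace GrothLib.AlgSp

open _root_.AlgSp

variable {S : Scheme.{u}} {X : Sp S}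

namespace TopDim

section Dim

variable {X : Type v} {Y : Type w} [TopologicalSpace X] [TopologicalSpace Y]

/-- A chain of points, ordered by specialization, lifts along a generalizing map. -/
theorem coheight_le_of_generalizingMap {f : X → Y} (hf : Continuous f) (hg : GeneralizingMap f) (x : X) :
    letI := specializationPreorder X
    letI := specializationPreorder Y
    Order.coheight (f x) ≤ Order.coheight x := by
  letI := specializationPreorder X
  letI := specializationPreorder Y
  have key : ∀ (n : ℕ) (p : LTSeries Y) (x : X), p.length = n → p.head = f x →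
      ∃ q : LTSeries X, q.length = n ∧ q.head = x := by
    intro n
    induction n with
    | zero => intro p x _ _; exact ⟨RelSeries.singleton _ x, rfl, rfl⟩
    | succ n ih =>
      intro p x hn hx
      have hp : p.length ≠ 0 := by omega
      have h1 : f x < (p.tail hp).head := by
        rw [RelSeries.head_tail, ← hx]
        exact p.strictMono (by
          simp only [RelSeries.head, Fin.lt_def, Fin.val_zero]
          rw [Fin.val_one']
          exact lt_of_lt_of_le zero_lt_one (by rw [Nat.mod_eq_of_lt (by omega)]))
      obtain ⟨x', hxx, hfx⟩ := hg h1.le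
      have hlt : x < x' := by
        refine lt_of_le_not_ge hxx fun h2 => ?_
        refine h1.not_ge ?_
        rw [← hfx]
        exact Specializes.map h2 hf
      obtain ⟨q, hq1, hq2⟩ := ih (p.tail hp) x' (by rw [RelSeries.tail_length]; omega) hfx.symm
      exact ⟨q.cons x (by rw [hq2]; exact hlt), by simp [hq1], RelSeries.head_cons _ _ _⟩
  refine Order.coheight_le_iff'.mpr fun p hp => ?_
  obtain ⟨q, hq1, hq2⟩ := key p.length p x rfl hp
  exact hq1 ▸ hq2 ▸ Order.length_le_coheight_head

theorem topologicalKrullDim_eq_krullDim [QuasiSober X] [T0Space X] :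
    letI := specializationOrder X
    topologicalKrullDim X = Order.krullDim X :=
  letI := specializationOrder X
  Order.krullDim_eq_of_orderIso irreducibleSetEquivPoints

variable [QuasiSober X] [T0Space X] [QuasiSober Y] [T0Space Y]

theorem topologicalKrullDim_le_of_injOn {f : X → Y} (hf : Continuous f)
    (hd : ∀ a b, a ⤳ b → f a = f b → a = b) :
    topologicalKrullDim X ≤ topologicalKrullDim Y := by
  letI := specializationOrder X
  letI := specializationOrder Y
  rw [topologicalKrullDim_eq_krullDim, topologicalKrullDim_eq_krullDim]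
  refine Order.krullDim_le_of_strictMono f fun a b hab => ?_
  refine lt_of_le_of_ne (Specializes.map hab.le hf) fun he => hab.ne ?_
  exact (hd b a hab.le he.symm).symm

theorem topologicalKrullDim_le_of_surjective {f : X → Y} (hf : Continuous f)
    (hg : GeneralizingMap f) (hs : Function.Surjective f) :
    topologicalKrullDim Y ≤ topologicalKrullDim X := by
  letI := specializationOrder X
  letI := specializationOrder Y
  rw [topologicalKrullDim_eq_krullDim, topologicalKrullDim_eq_krullDim]
  refine iSup_le fun p => ?_
  obtain ⟨x, hx⟩ := hs p.head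
  calc (p.length : WithBot ℕ∞) ≤ (Order.coheight p.head : WithBot ℕ∞) := by
        exact WithBot.coe_le_coe.mpr Order.length_le_coheight_head
    _ ≤ (Order.coheight x : WithBot ℕ∞) := by
        rw [← hx]; exact WithBot.coe_le_coe.mpr (coheight_le_of_generalizingMap hf hg x)
    _ ≤ Order.krullDim X := Order.coheight_le_krullDim x

theorem localDim_eq_of_isOpenMap {f : X → Y} (hf : Continuous f) (ho : IsOpenMap f)
    (hgen : GeneralizingMap f)
    (hd : ∀ a b, a ⤳ b → f a = f b → a = b) (x : X) :
    FlatMor.localDim Y (f x) = FlatMor.localDim X x := by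
  have hsub : ∀ (U : Opens X), GeneralizingMap (fun a : U => (⟨f a, a, a.2, rfl⟩ : f '' U)) := by
    intro U a y hy
    have h1 : (y : Y) ⤳ f a := hy.map continuous_subtype_val
    obtain ⟨a', ha', hay⟩ := hgen h1
    refine ⟨⟨a', Specializes.mem_open ha' U.2 a.2⟩, ?_, Subtype.ext hay⟩
    simpa [subtype_specializes_iff] using ha'
  have qs : ∀ (U : Set X), IsOpen U → QuasiSober U :=
    fun U hU => hU.isOpenEmbedding_subtypeVal.quasiSober
  have qs' : ∀ (U : Set Y), IsOpen U → QuasiSober U :=
    fun U hU => hU.isOpenEmbedding_subtypeVal.quasiSober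
  have mapsto : ∀ (U : Opens X) (V : Opens Y), Set.MapsTo f U V →
      topologicalKrullDim (U : Set X) ≤ topologicalKrullDim (V : Set Y) := by
    intro U V h
    haveI := qs (U : Set X) U.2
    haveI := qs' (V : Set Y) V.2
    refine topologicalKrullDim_le_of_injOn (hf.restrict h) fun a b hab he => Subtype.ext ?_
    exact hd _ _ (hab.map continuous_subtype_val) (congrArg Subtype.val he)
  unfold FlatMor.localDim
  refine le_antisymm (le_iInf fun U => ?_) (le_iInf fun V => ?_)
  · refine iInf_le_of_le ⟨⟨f '' (U.1 : Set X), ho _ U.1.2⟩, x, U.2, rfl⟩ ?_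
    haveI := qs (U.1 : Set X) U.1.2
    haveI := qs' (f '' (U.1 : Set X)) (ho _ U.1.2)
    refine topologicalKrullDim_le_of_surjective
      (f := fun a : (U.1 : Set X) => (⟨f a, a, a.2, rfl⟩ : f '' (U.1 : Set X)))
      (by fun_prop) (hsub U.1) ?_
    rintro ⟨_, a, ha, rfl⟩; exact ⟨⟨a, ha⟩, rfl⟩
  · exact iInf_le_of_le ⟨⟨f ⁻¹' (V.1 : Set Y), V.1.2.preimage hf⟩, V.2⟩ (mapsto _ _ (Set.mapsTo_preimage f _))

end Dim

theorem coheight_eq_of_generalizingMap {X : Type v} {Y : Type w} [TopologicalSpace X] [TopologicalSpace Y] {f : X → Y}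
    (hf : Continuous f) (hg : GeneralizingMap f) (hd : ∀ a b, a ⤳ b → f a = f b → a = b) [T0Space X] [T0Space Y] (x : X) :
    letI := specializationPreorder X
    letI := specializationPreorder Y
    Order.coheight (f x) = Order.coheight x := by
  letI := specializationOrder X
  letI := specializationOrder Y
  refine le_antisymm (coheight_le_of_generalizingMap hf hg x)
    (Order.coheight_le_coheight_apply_of_strictMono f (fun a b hab => ?_) x)
  exact lt_of_le_of_ne (Specializes.map hab.le hf) fun he => hab.ne (hd b a hab.le he.symm).symm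

end TopDim

variable (hX : IsAlgSpace X) (hd : IsDecent X)
include hX hd

theorem t0Space_of_isDecent : T0Space (Points X) :=
  t0Space_of_finite_fibres hX (finiteFibres_of_isDecent hX hd)

theorem generalizingMap_ofPt {U : Over S} {a : (yon S).obj U ⟶ X} (ha : RepWith @Etale a) :
    GeneralizingMap (Points.ofPt a) := by
  intro u x hx
  obtain ⟨u', h, h'⟩ := exists_specializes_of_finite_fibres hx (finiteFibres_of_isDecent hX hd x) ha rfl
  exact ⟨u', h, h'⟩

theorem eq_of_specializes_ofPt {U : Over S} {a : (yon S).obj U ⟶ X} (ha : RepWith @Etale a) :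
    ∀ u v : ↥U.left, u ⤳ v → Points.ofPt a u = Points.ofPt a v → u = v := fun _ _ hs he =>
  (eq_of_specializes_of_finite_fibres hX (finiteFibres_of_isDecent hX hd _) ha he.symm rfl hs).symm

/-- The codimension of `closure {ξ}` is the dimension of the local ring of a chart. -/
theorem coheight_irreducibleCloseds (T : IrreducibleCloseds (Points X)) {ξ : Points X}
    (hξ : IsGenericPoint ξ (T : Set (Points X))) {U : Over S} {a : (yon S).obj U ⟶ X}
    (ha : RepWith @Etale a) {u : ↥U.left} (hu : Points.ofPt a u = ξ) :
    (Order.coheight T : WithBot ℕ∞) = ringKrullDim ↥(U.left.presheaf.stalk u) := by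
  haveI := t0Space_of_isDecent hX hd
  haveI := quasiSober_of_isDecent hX hd
  letI := specializationOrder (Points X)
  have hT : irreducibleSetEquivPoints T = ξ :=
    (T.2.isGenericPoint_genericPoint T.3).eq hξ
  rw [← Order.coheight_orderIso irreducibleSetEquivPoints T, hT, ← hu, ringKrullDim_stalk_eq_coheight]
  exact congrArg _ (TopDim.coheight_eq_of_generalizingMap (Points.continuous_ofPt a) (generalizingMap_ofPt hX hd ha)
    (eq_of_specializes_ofPt hX hd ha) u)

theorem topologicalKrullDim_points : topologicalKrullDim (Points X) = AlgSp.dim X := by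
  haveI := t0Space_of_isDecent hX hd
  haveI := quasiSober_of_isDecent hX hd
  obtain ⟨U, a, ha, hs⟩ := hX.atlas
  rw [dim_eq_of_atlas hX ha hs]
  exact le_antisymm
    (TopDim.topologicalKrullDim_le_of_surjective (Points.continuous_ofPt a) (generalizingMap_ofPt hX hd ha)
      (surjective_ofPt_of_repWith hs))
    (TopDim.topologicalKrullDim_le_of_injOn (Points.continuous_ofPt a) (eq_of_specializes_ofPt hX hd ha))

theorem localDim_chart {U : Over S} {a : (yon S).obj U ⟶ X} (ha : RepWith @Etale a) (u : ↥U.left) :
    FlatMor.localDim ↥U.left u = FlatMor.localDim (Points X) (Points.ofPt a u) := by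
  haveI := t0Space_of_isDecent hX hd
  haveI := quasiSober_of_isDecent hX hd
  exact (TopDim.localDim_eq_of_isOpenMap (Points.continuous_ofPt a) (isOpenMap_ofPt_of_etale ha)
    (generalizingMap_ofPt hX hd ha) (eq_of_specializes_ofPt hX hd ha) u).symm

/-- Generic points of components are the points of codimension zero. -/
theorem isGenericPoint_component_iff {U : Over S} {a : (yon S).obj U ⟶ X} (ha : RepWith @Etale a) (u : ↥U.left) :
    (∃ T ∈ irreducibleComponents (Points X), IsGenericPoint (Points.ofPt a u) T) ↔
      ringKrullDim ↥(U.left.presheaf.stalk u) = 0 := by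
  let T₀ : IrreducibleCloseds (Points X) :=
    ⟨closure {Points.ofPt a u}, isIrreducible_singleton.closure, isClosed_closure⟩
  rw [← coheight_irreducibleCloseds hX hd T₀ isGenericPoint_closure ha rfl]
  rw [show (0 : WithBot ℕ∞) = ((0 : ℕ∞) : WithBot ℕ∞) from rfl, WithBot.coe_inj, Order.coheight_eq_zero]
  constructor
  · rintro ⟨T, hT, hg⟩ Z hZ
    have e : (T₀ : Set (Points X)) = T := hg
    intro x hx
    have h1 := hT.2 Z.2 (le_of_eq_of_le e.symm hZ) hx
    rw [← e] at h1
    exact h1
  · intro h
    refine ⟨T₀, ⟨T₀.2, fun Z hZ hle => ?_⟩, isGenericPoint_closure⟩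
    exact subset_closure.trans (h (b := ⟨closure Z, hZ.closure, isClosed_closure⟩) (hle.trans subset_closure))

theorem isGenericPoint_component_iff_hasAt (x : Points X) :
    (∃ T ∈ irreducibleComponents (Points X), IsGenericPoint x T) ↔
      HasAt (fun U u => ringKrullDim ↥(U.presheaf.stalk u) = 0) X x := by
  obtain ⟨U, a, ha, hs⟩ := hX.atlas
  obtain ⟨u, rfl⟩ := surjective_ofPt_of_repWith hs x
  rw [isGenericPoint_component_iff hX hd ha]
  refine (hasAt_iff (Q := fun U u => ringKrullDim ↥(U.presheaf.stalk u) = 0) hX (fun A B k hk w => ?_) ha u).symm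
  haveI := hk
  simp only [ringKrullDim_stalk_eq_of_etale k]

omit hX hd in
/-- Generic points of components correspond along etale morphisms to a decent space. -/
theorem isGenericPoint_component_iff_of_isEtaleMor {Y : Sp S} (hX : IsAlgSpace X) (hd : IsDecent X)
    (hY : IsAlgSpace Y) (hdY : IsDecent Y) {f : Y ⟶ X} (hf : IsEtaleMor f) (y : Points Y) :
    (∃ T ∈ irreducibleComponents (Points Y), IsGenericPoint y T) ↔
      (∃ T ∈ irreducibleComponents (Points X), IsGenericPoint (Points.map f y) T) := by
  obtain ⟨U, a, ha, hs⟩ := hY.atlas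
  obtain ⟨u, rfl⟩ := surjective_ofPt_of_repWith hs y
  rw [isGenericPoint_component_iff hY hdY ha, ← isGenericPoint_component_iff hX hd (hf a ha) u]
  rfl

end GrothLib.AlgSp
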