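import Groth.Agent.Lib.AlgSp.PointProps
import Groth.Agent.Lib.AlgSp.FieldBase
import Groth.Agent.Lib.CycPush.Finite
import Groth.Agent.Lib.NoethTop.KrullDim
import Groth.Agent.Lib.Weight.GeomPoints
import Groth.Prelude.Def_Dual3

/-!
# Fibre dimension zero, transcendence degrees at points
-/

universe u

open CategoryTheory CategoryTheory.Limits AlgebraicGeometry Opposite

namespace GrothLib.AlgSp

open _root_.AlgSp

theorem localDim_nonneg {X : Type*} [TopologicalSpace X] (x : X) : 0 ≤ FlatMor.localDim X x :=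
  le_iInf fun U => Order.krullDim_nonneg_iff.2
    ⟨⟨closure {⟨x, U.2⟩}, isIrreducible_singleton.closure, isClosed_closure⟩⟩

theorem isOpen_singleton_iff_localDim {X : Scheme.{u}} [IsLocallyNoetherian X] (x : X) :
    IsOpen ({x} : Set X) ↔ FlatMor.localDim X x ≤ 0 := by
  constructor
  · intro h
    exact (GrothLib.NoethTop.localDim_le ⟨{x}, h⟩ rfl).trans
      (topologicalKrullDim_zero_of_discreteTopology ({x} : Set X))
  · intro h
    obtain ⟨U, hxU, hU⟩ := GrothLib.NoethTop.exists_localDim_eq x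
    obtain ⟨_, ⟨W₀, hW, rfl⟩, hxW, hWU⟩ :=
      X.isBasis_affineOpens.exists_subset_of_mem_open hxU U.2
    let W : X.Opens := W₀
    have : IsAffine W.toScheme := hW
    have hdimW : topologicalKrullDim (W : Set X) ≤ 0 := by
      refine le_trans ?_ (hU.trans_le h)
      exact (Topology.IsEmbedding.inclusion hWU).isInducing.topologicalKrullDim_le
    haveI : IsLocallyNoetherian W.toScheme := isLocallyNoetherian_of_isOpenImmersion W.ι
    haveI : CompactSpace ↥W.toScheme := isCompact_iff_compactSpace.1 hW.isCompact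
    haveI : IsNoetherian W.toScheme := AlgebraicGeometry.IsNoetherian.mk
    haveI : TopologicalSpace.NoetherianSpace (W : Set X) :=
      (inferInstance : TopologicalSpace.NoetherianSpace ↥W.toScheme)
    haveI : QuasiSober (W : Set X) := W.2.isOpenEmbedding_subtypeVal.quasiSober
    haveI := (GrothLib.NoethTop.finite_discrete_of_dim_le_zero (X := (W : Set X)) hdimW).2
    have := W.2.isOpenMap_subtype_val _ (isOpen_discrete ({⟨x, hxW⟩} : Set (W : Set X)))
    rwa [Set.image_singleton] at this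

/-- Quasi-finiteness at a point is relative dimension zero. -/
theorem quasiFiniteAt_iff_fibreDimAt {X Y : Scheme.{u}} (f : X ⟶ Y) [LocallyOfFiniteType f] (x : X) :
    f.QuasiFiniteAt x ↔ FlatMor.fibreDimAt f x ≤ 0 := by
  haveI : LocallyOfFiniteType (f.fiberToSpecResidueField (f x)) :=
    MorphismProperty.pullback_snd f _ inferInstance
  haveI : IsLocallyNoetherian (f.fiber (f x)) :=
    LocallyOfFiniteType.isLocallyNoetherian (f.fiberToSpecResidueField (f x))
  rw [Scheme.Hom.quasiFiniteAt_iff_isOpen_singleton_asFiber]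
  exact isOpen_singleton_iff_localDim (f.asFiber x)

theorem lqf_iff_fibreDimAt {X Y : Scheme.{u}} (f : X ⟶ Y) [LocallyOfFiniteType f] :
    LocallyQuasiFinite f ↔ ∀ x, FlatMor.fibreDimAt f x ≤ 0 := by
  rw [← Scheme.Hom.quasiFiniteLocus_eq_top_iff]
  constructor
  · intro h x
    have hx : x ∈ f.quasiFiniteLocus := h ▸ trivial
    exact (quasiFiniteAt_iff_fibreDimAt f x).1 hx
  · exact fun h => top_le_iff.1 fun x _ => (quasiFiniteAt_iff_fibreDimAt f x).2 (h x)

theorem resTrdeg_comp {X Y Z : Scheme.{u}} (f : X ⟶ Y) (g : Y ⟶ Z) (x : X) :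
    Dual3.resTrdeg (f ≫ g) x = Dual3.resTrdeg g (f x) + Dual3.resTrdeg f x :=
  GrothLib.CycFlat.resTrdeg_comp f g x

theorem resTrdeg_eq_zero_of_finite {X Y : Scheme.{u}} (p : X ⟶ Y) {x : X}
    (hx : (p.residueFieldMap x).hom.Finite) : Dual3.resTrdeg p x = 0 :=
  GrothLib.CycPush.resTrdeg_finite p hx

theorem resTrdeg_eq_zero_of_lqf {X Y : Scheme.{u}} (p : X ⟶ Y) [LocallyQuasiFinite p] [LocallyOfFiniteType p] (x : X) :
    Dual3.resTrdeg p x = 0 := resTrdeg_eq_zero_of_finite p (GrothLib.Weight.finite_residueFieldMap p x)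

theorem resTrdeg_eq_of_etale {U U' V V' : Scheme.{u}} (h : U ⟶ V) (h' : U' ⟶ V') (a : U' ⟶ U)
    (b : V' ⟶ V) [Etale a] [Etale b] (comm : h' ≫ b = a ≫ h) (u' : U') :
    Dual3.resTrdeg h (a u') = Dual3.resTrdeg h' u' :=
  GrothLib.EtFibre.trdeg_eq h h' a b comm u'

variable {S : Scheme.{u}} {F G : Sp S}

/-- The transcendence degree at a point can be read on any chart diagram. -/
theorem hasAtMor_resTrdeg_iff (hF : IsAlgSpace F) (hG : IsAlgSpace G) {f : F ⟶ G} {U V : Over S}
    {a : (yon S).obj U ⟶ F} {b : (yon S).obj V ⟶ G} {h : U ⟶ V} (ha : RepWith @Etale a)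
    (hb : RepWith @Etale b) (c : a ≫ f = (yon S).map h ≫ b) (u : ↥U.left) (Q : Cardinal.{u} → Prop) :
    HasAtMor (fun _ _ h u => Q (Dual3.resTrdeg h u)) f (Points.ofPt a u) ↔ Q (Dual3.resTrdeg h.left u) := by
  refine ⟨fun ⟨U', V', a', b', h', u', ha', hb', c', hu', hq⟩ => ?_, fun hq => ⟨U, V, a, b, h, u, ha, hb, c, rfl, hq⟩⟩
  obtain ⟨W, P, m, w₁, w₂, q₁, q₂, w, _, _, _, _, m₁, m₂, rfl, rfl⟩ :=
    exists_common_charts hF hG ha ha' hb hb' c c' hu'.symm
  rw [resTrdeg_eq_of_etale h.left m.left w₁.left q₁.left m₁ w,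
    ← resTrdeg_eq_of_etale h'.left m.left w₂.left q₂.left m₂ w]
  exact hq

end GrothLib.AlgSp
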