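import Groth.Prelude.Def_AlgSpDec
import Groth.Prelude.Def_AlgSpMor5
import Groth.Agent.Lib.AlgSp.FlatPoint
import Groth.Agent.Lib.AlgSp.EtaleLocallyProps
import Groth.Agent.Lib.GorMor23.BaseChange

/-!
# Morphisms of algebraic spaces Gorenstein at a point

* `isGorensteinAt_etale_iff`, `gorAt_iff_chart`: the condition is read on any chart through the point.
* `LNFibres`, `isLocallyNoetherian_fiber_chart`.
-/

set_option autoImplicit false
set_option backward.isDefEq.respectTransparency false
set_option linter.style.haveILetI false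

universe u

open CategoryTheory CategoryTheory.Limits AlgebraicGeometry IsLocalRing

namespace GrothLib.AlgSp

open GrothLib.CMMor6 (FibQuot)

section Scheme

variable {U V : Scheme.{u}}

theorem gor_fibQuot_etale_right (h : U ⟶ V) {V' : Scheme.{u}} (h' : U ⟶ V') (b : V' ⟶ V) [Etale b]
    (comm : h' ≫ b = h) (u : U) :
    LocCoh.IsGorensteinLocalRing (FibQuot h u) ↔ LocCoh.IsGorensteinLocalRing (FibQuot h' u) := by
  subst comm
  refine GorFlat.gorenstein_congr (Ideal.quotEquivOfEq ?_)
  have hm : (maximalIdeal (V.presheaf.stalk (b (h' u)))).map (b.stalkMap (h' u)).hom =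
      maximalIdeal (V'.presheaf.stalk (h' u)) := by
    have hu : (b.stalkMap (h' u)).hom.FormallyUnramified := FormallyUnramified.stalkMap b _
    have he : (b.stalkMap (h' u)).hom.EssFiniteType := LocallyOfFiniteType.stalkMap b _
    algebraize [(b.stalkMap (h' u)).hom]
    haveI : IsLocalHom (algebraMap (V.presheaf.stalk (b (h' u))) (V'.presheaf.stalk (h' u))) :=
      inferInstanceAs (IsLocalHom (b.stalkMap (h' u)).hom)
    exact Algebra.FormallyUnramified.map_maximalIdeal
  have hc : (h' ≫ b).stalkMap u = b.stalkMap (h' u) ≫ h'.stalkMap u := Scheme.Hom.stalkMap_comp h' b u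
  rw [hc, CommRingCat.hom_comp]
  exact ((maximalIdeal (V.presheaf.stalk (b (h' u)))).map_map _ _).symm.trans (congrArg _ hm)

theorem gor_fibQuot_etale_left (h : U ⟶ V) {U' : Scheme.{u}} (a : U' ⟶ U) [Etale a] (u : U')
    [IsLocallyNoetherian (h.fiber (h (a u)))] :
    LocCoh.IsGorensteinLocalRing (FibQuot (a ≫ h) u) ↔ LocCoh.IsGorensteinLocalRing (FibQuot h (a u)) := by
  haveI hB : IsNoetherianRing (FibQuot h (a u)) := GrothLib.CMMor6.isNoetherianRing_fibQuot h (a u)
  have hcomp : (a ≫ h).stalkMap u = h.stalkMap (a u) ≫ a.stalkMap u := Scheme.Hom.stalkMap_comp a h u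
  letI : Algebra (V.presheaf.stalk (h (a u))) (U.presheaf.stalk (a u)) := (h.stalkMap (a u)).hom.toAlgebra
  letI : Algebra (U.presheaf.stalk (a u)) (U'.presheaf.stalk u) := (a.stalkMap u).hom.toAlgebra
  letI : Algebra (V.presheaf.stalk (h (a u))) (U'.presheaf.stalk u) := ((a ≫ h).stalkMap u).hom.toAlgebra
  haveI : IsScalarTower (V.presheaf.stalk (h (a u))) (U.presheaf.stalk (a u)) (U'.presheaf.stalk u) :=
    IsScalarTower.of_algebraMap_eq' (congrArg CommRingCat.Hom.hom hcomp)
  haveI : IsLocalHom (algebraMap (V.presheaf.stalk (h (a u))) (U.presheaf.stalk (a u))) :=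
    inferInstanceAs (IsLocalHom (h.stalkMap (a u)).hom)
  haveI : IsLocalHom (algebraMap (U.presheaf.stalk (a u)) (U'.presheaf.stalk u)) :=
    inferInstanceAs (IsLocalHom (a.stalkMap u).hom)
  haveI : Module.Flat (U.presheaf.stalk (a u)) (U'.presheaf.stalk u) := Flat.stalkMap a u
  haveI : Algebra.FormallyUnramified (U.presheaf.stalk (a u)) (U'.presheaf.stalk u) :=
    FormallyUnramified.stalkMap a _
  haveI : Algebra.EssFiniteType (U.presheaf.stalk (a u)) (U'.presheaf.stalk u) :=
    LocallyOfFiniteType.stalkMap a _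
  let J := (maximalIdeal (V.presheaf.stalk (h (a u)))).map
    (algebraMap (V.presheaf.stalk (h (a u))) (U.presheaf.stalk (a u)))
  let K := J.map (algebraMap (U.presheaf.stalk (a u)) (U'.presheaf.stalk u))
  haveI : IsNoetherianRing (U.presheaf.stalk (a u) ⧸ J) := hB
  haveI : IsNoetherianRing (U'.presheaf.stalk u ⧸ K) := by
    haveI : Algebra.EssFiniteType (U'.presheaf.stalk u) (U'.presheaf.stalk u ⧸ K) :=
      inferInstance
    haveI : Algebra.EssFiniteType (U.presheaf.stalk (a u)) (U'.presheaf.stalk u ⧸ K) :=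
      Algebra.EssFiniteType.comp _ (U'.presheaf.stalk u) _
    haveI : Algebra.EssFiniteType (U.presheaf.stalk (a u) ⧸ J) (U'.presheaf.stalk u ⧸ K) :=
      Algebra.EssFiniteType.of_comp (U.presheaf.stalk (a u)) _ _
    exact Algebra.EssFiniteType.isNoetherianRing (U.presheaf.stalk (a u) ⧸ J) _
  have hK : K = (maximalIdeal (V.presheaf.stalk (h (a u)))).map
      (algebraMap (V.presheaf.stalk (h (a u))) (U'.presheaf.stalk u)) := GrothLib.CMMor6.isScalarTower_quot _
  haveI : IsNoetherianRing (U'.presheaf.stalk u ⧸ (maximalIdeal (V.presheaf.stalk (h (a u)))).map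
      (algebraMap (V.presheaf.stalk (h (a u))) (U'.presheaf.stalk u))) :=
    isNoetherianRing_of_ringEquiv _ (Ideal.quotEquivOfEq hK)
  refine (GrothLib.GorMor23.gor_fibre_tower (A := V.presheaf.stalk (h (a u))) (B := U.presheaf.stalk (a u))
    (C := U'.presheaf.stalk u)).trans (and_iff_left ?_)
  letI := Ideal.Quotient.field (maximalIdeal (U'.presheaf.stalk u))
  exact (GorFlat.gorenstein_congr (Ideal.quotEquivOfEq
    (Algebra.FormallyUnramified.map_maximalIdeal (R := U.presheaf.stalk (a u)) (S := U'.presheaf.stalk u)).symm)).1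
    (GorFlat.gorenstein_of_isRegularLocalRing _)

theorem isGorensteinAt_congr {h h' : U ⟶ V} (e : h = h') {u : U} :
    Dual3.IsGorensteinAt h u ↔ Dual3.IsGorensteinAt h' u := by subst e; rfl

theorem isGorensteinAt_etale_iff {U' V' : Scheme.{u}} (h : U ⟶ V) (h' : U' ⟶ V') (a : U' ⟶ U) (b : V' ⟶ V)
    [Etale a] [Etale b] (comm : h' ≫ b = a ≫ h) (u : U') (hN : IsLocallyNoetherian (h.fiber (h (a u)))) :
    Dual3.IsGorensteinAt h (a u) ↔ Dual3.IsGorensteinAt h' u := by
  rw [GrothLib.GorMor23.isGorensteinAt_iff, GrothLib.GorMor23.isGorensteinAt_iff]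
  exact and_congr (flat_stalk_etale_iff h h' a b comm u)
    ((gor_fibQuot_etale_left h a u).symm.trans (gor_fibQuot_etale_right (a ≫ h) h' b comm u))

end Scheme

open _root_.AlgSp

variable {S : Scheme.{u}} {F G : Sp S} {f : F ⟶ G}

/-- The fibres of a morphism of sheaves over field points are locally noetherian spaces. -/
def LNFibres (f : F ⟶ G) : Prop :=
  ∀ (k : FieldPt G) (Xk : Sp S) (a : Xk ⟶ F) (b : Xk ⟶ (yon S).obj k.pt),
    IsPullback a b f k.toHom → IsLocNoethSp Xk

/-- Charts of a morphism with locally noetherian fibres have locally noetherian fibres. -/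
theorem isLocallyNoetherian_fiber_chart (hf : LNFibres f) {U V : Over S} {a : (yon S).obj U ⟶ F}
    {b : (yon S).obj V ⟶ G} {h : U ⟶ V} (ha : RepWith @Etale a) (hb : RepWith @Etale b)
    (comm : a ≫ f = (yon S).map h ≫ b) (v : ↥V.left) : IsLocallyNoetherian (h.left.fiber v) := by
  let k := FieldPt.ofPt b v
  obtain ⟨D, q, p, sqD⟩ := exists_isPullback_of_representable hb.1 k.toHom
  obtain ⟨q, rfl⟩ := (yon S).map_surjective q
  haveI : Etale p.left := hb.2 _ _ _ sqD
  have sqW : IsPullback ((yon S).map (pullback.fst h q)) ((yon S).map (pullback.snd h q ≫ p)) (a ≫ f) k.toHom := by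
    rw [comm, Functor.map_comp]
    exact ((IsPullback.of_hasPullback h q).map (yon S)).paste_vert sqD
  let sqX := IsPullback.of_hasPullback f k.toHom
  let l : (yon S).obj (pullback h q) ⟶ pullback f k.toHom := sqX.lift ((yon S).map (pullback.fst h q) ≫ a)
    ((yon S).map (pullback.snd h q ≫ p)) (by rw [Category.assoc, sqW.w])
  have sq' : IsPullback ((yon S).map (pullback.fst h q)) l a (pullback.fst f k.toHom) := by
    refine IsPullback.of_bot ?_ (sqX.lift_fst _ _ _).symm sqX
    rw [sqX.lift_snd]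
    exact sqW
  haveI hW : IsLocallyNoetherian (pullback h q).left :=
    etaleLocally_chart (fun _ _ e => isLocallyNoetherian_of_etale e) (fun _ _ e => isLocallyNoetherian_desc e)
      (hf k _ _ _ sqX) l (repWith_of_isPullback sq' ha)
  -- the canonical section of `D`
  let j : k.pt ⟶ V := Over.homMk (V.left.fromSpecResidueField v) rfl
  obtain ⟨s, hs⟩ := (yon S).map_surjective (sqD.lift ((yon S).map j) (𝟙 _)
    (by rw [Category.id_comp, FieldPt.toHom_ofPt]))
  have hsq : s ≫ q = j := (yon S).map_injective (by rw [Functor.map_comp, hs, sqD.lift_fst])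
  have hsp : s ≫ p = 𝟙 _ := (yon S).map_injective (by rw [Functor.map_comp, hs, sqD.lift_snd, CategoryTheory.Functor.map_id])
  have sqL := isPullback_left (IsPullback.of_hasPullback h q)
  haveI : Etale (s.left ≫ p.left) := by
    rw [← Over.comp_left, hsp]
    infer_instance
  haveI : Etale s.left := Etale.of_comp s.left p.left
  let t : h.left.fiber v ⟶ (pullback h q).left :=
    sqL.lift (h.left.fiberι v) (h.left.fiberToSpecResidueField v ≫ s.left) (by
      rw [Category.assoc, ← Over.comp_left, hsq]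
      exact pullback.condition)
  have sqt : IsPullback t (h.left.fiberToSpecResidueField v) (pullback.snd h q).left s.left := by
    refine IsPullback.of_right ?_ (sqL.lift_snd _ _ _) sqL
    rw [sqL.lift_fst, ← Over.comp_left, hsq]
    exact IsPullback.of_hasPullback h.left (V.left.fromSpecResidueField v)
  haveI : Etale t := MorphismProperty.of_isPullback sqt.flip ‹Etale s.left›
  exact LocallyOfFiniteType.isLocallyNoetherian t

/-- For a morphism with locally noetherian fibres, being Gorenstein at a point is read on any chart. -/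
theorem gorAt_iff_chart (hf : LNFibres f) {U V : Over S} {a : (yon S).obj U ⟶ F} {b : (yon S).obj V ⟶ G}
    {h : U ⟶ V} (ha : RepWith @Etale a) (hb : RepWith @Etale b) (comm : a ≫ f = (yon S).map h ≫ b)
    (u : ↥U.left) :
    LocPAt (fun h u => Dual3.IsGorensteinAt h u) f (Points.ofPt a u) ↔ Dual3.IsGorensteinAt h.left u := by
  refine ⟨fun H => H a b h u ha hb comm rfl, fun H U' V' a' b' h' u' ha' hb' comm' hu' => ?_⟩
  obtain ⟨W, w₁, w₂, sqW⟩ := exists_isPullback_of_representable ha.1 a'
  obtain ⟨w₁, rfl⟩ := (yon S).map_surjective w₁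
  obtain ⟨Q, q₁, q₂, sqQ⟩ := exists_isPullback_of_representable hb.1 b'
  obtain ⟨q₁, rfl⟩ := (yon S).map_surjective q₁
  have : Etale w₂.left := ha.2 _ _ _ sqW
  have : Etale w₁.left := ha'.2 _ _ _ sqW.flip
  have : Etale q₂.left := hb.2 _ _ _ sqQ
  have : Etale q₁.left := hb'.2 _ _ _ sqQ.flip
  have e : (yon S).map (w₁ ≫ h) ≫ b = (yon S).map (w₂ ≫ h') ≫ b' := by
    rw [Functor.map_comp, Functor.map_comp, Category.assoc, Category.assoc, ← comm, ← comm',
      ← Category.assoc, sqW.w, Category.assoc]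
  let m : W ⟶ Q := (yon S).preimage (sqQ.lift _ _ e)
  have m₁ : m ≫ q₁ = w₁ ≫ h := (yon S).map_injective (by simp [m])
  have m₂ : m ≫ q₂ = w₂ ≫ h' := (yon S).map_injective (by simp [m])
  obtain ⟨w, hw₁, hw₂⟩ := (ofPt_eq_ofPt_iff sqW u u').1 hu'.symm
  subst hw₁ hw₂
  change Dual3.IsGorensteinAt h'.left _
  rw [isGorensteinAt_etale_iff h'.left m.left w₂.left q₂.left (congrArg CommaMorphism.left m₂) w
      (isLocallyNoetherian_fiber_chart hf ha' hb' comm' _),
    ← isGorensteinAt_etale_iff h.left m.left w₁.left q₁.left (congrArg CommaMorphism.left m₁) w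
      (isLocallyNoetherian_fiber_chart hf ha hb comm _)]
  exact H

/-- A chart through a point lying over a point of a given chart of the target. -/
theorem exists_chart_over_point (hF : IsAlgSpace F) (hG : IsAlgSpace G) (f : F ⟶ G) {V : Over S}
    (q : (yon S).obj V ⟶ G) (qe : RepWith @Etale q) (x : Points F) (v : ↥V.left)
    (hv : Points.ofPt q v = Points.map f x) :
    ∃ (U : Over S) (p : (yon S).obj U ⟶ F) (α : U ⟶ V) (w : ↥U.left),
      RepWith @Etale p ∧ p ≫ f = (yon S).map α ≫ q ∧ Points.ofPt p w = x ∧ α.left w = v := by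
  obtain ⟨z, hz₁, hz₂⟩ := exists_of_isPullback (IsPullback.of_hasPullback f q) (x := x)
    (y := Points.ofScheme V v) (by rw [← Points.ofPt_eq_map_ofScheme, hv])
  obtain ⟨U, p, pe, ps⟩ := (isAlgSpace_pullback' hG hF (IsAlgSpace.yon_obj V) f q).atlas
  obtain ⟨w, hw⟩ := surjective_ofPt_of_repWith ps z
  obtain ⟨α, hα⟩ := (yon S).map_surjective (p ≫ pullback.snd f q)
  refine ⟨U, p ≫ pullback.fst f q, α, w,
    repWith_comp pe (repWith_of_isPullback (IsPullback.of_hasPullback f q).flip qe), ?_, ?_, ?_⟩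
  · rw [hα, Category.assoc, Category.assoc, pullback.condition]
  · rw [← hz₁, ← hw, Points.map_ofPt]
  · have : Points.ofPt ((yon S).map α) w = Points.ofScheme V v := by
      rw [hα, ← Points.map_ofPt, hw, hz₂]
    exact (Points.toScheme_ofPt α w).symm.trans ((congrArg _ this).trans (Points.toScheme_ofScheme V v))

end GrothLib.AlgSp
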