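import Groth.Agent.Lib.AlgSp.DimFormula
import Groth.Agent.Lib.AlgSp.PointProps
import Groth.Agent.Lib.AlgSp.GorPoint
import Groth.Agent.Lib.AlgSp.Dim
import Groth.Agent.Lib.AlgSp.FibreDimZero
import Groth.Agent.Lib.CurvePoints.Basic

/-!
# The dimension inequality for algebraic spaces

`chart_dim_formula`, `dim_le_of_trdeg_bound`.
-/

universe u

open CategoryTheory CategoryTheory.Limits AlgebraicGeometry

namespace GrothLib.AlgSp

open _root_.AlgSp

variable {S : Scheme.{u}} {X Y : Sp S} {f : X ⟶ Y}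

theorem ringKrullDim_stalk_eq_zero_of_component {U : Scheme.{u}} {ξ : U}
    (h : closure {ξ} ∈ irreducibleComponents ↥U) : ringKrullDim (U.presheaf.stalk ξ) = 0 := by
  rw [ringKrullDim_stalk_eq_coheight]
  suffices Order.coheight ξ = 0 by rw [this]; rfl
  rw [Order.coheight_eq_zero]
  intro η hη
  have hs : η ⤳ ξ := Scheme.le_iff_specializes.1 hη
  have hmem := h.2 (isIrreducible_singleton (x := η)).closure
    (closure_minimal (Set.singleton_subset_iff.2 hs.mem_closure) isClosed_closure)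
  exact Scheme.le_iff_specializes.2 (specializes_iff_mem_closure.2 (hmem (subset_closure rfl)))

/-- The dimension inequality on a chart diagram. -/
theorem chart_dim_formula {U V : Over S} [IsLocallyNoetherian V.left] {a : (yon S).obj U ⟶ X}
    {b : (yon S).obj V ⟶ Y} {h : U ⟶ V} [LocallyOfFiniteType h.left] (ha : RepWith @Etale a)
    (hb : RepWith @Etale b) (c : a ≫ f = (yon S).map h ≫ b) (u : ↥U.left) (E : Cardinal.{u})
    (hE : ∀ ξ : Points X, ξ ⤳ Points.ofPt a u →
      HasAt (fun U u => ringKrullDim ↥(U.presheaf.stalk u) = 0) X ξ →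
      ∀ s : Cardinal.{u}, HasAtMor (fun _ _ h u => Dual3.resTrdeg h u = s) f ξ → s ≤ E) :
    ringKrullDim (U.left.presheaf.stalk u) + ((Cardinal.toENat (Dual3.resTrdeg h.left u) : ℕ∞) : WithBot ℕ∞) ≤
      ringKrullDim (V.left.presheaf.stalk (h.left u)) + ((Cardinal.toENat E : ℕ∞) : WithBot ℕ∞) := by
  rcases lt_or_ge E Cardinal.aleph0 with hfin | hinf
  · obtain ⟨N, rfl⟩ := Cardinal.lt_aleph0.1 hfin
    obtain ⟨t, -, -, -, ht, -⟩ := GrothLib.Altitude.dim_locQuot_add_trdeg h.left (specializes_rfl (x := u))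
    have ht' : Dual3.resTrdeg h.left u = (t : Cardinal.{u}) := ht
    rw [ht', Cardinal.toENat_nat, Cardinal.toENat_nat]
    exact GrothLib.DimFormula.ringKrullDim_stalk_add_trdeg_le h.left u t N ht fun ξ hξ hs =>
      hE (Points.ofPt a ξ) (hs.map (Points.continuous_ofPt a))
        ⟨U, a, ξ, ha, rfl, ringKrullDim_stalk_eq_zero_of_component hξ⟩ _
        ⟨U, V, a, b, h, ξ, ha, hb, c, rfl, rfl⟩
  · rw [Cardinal.toENat_eq_top.2 hinf]
    obtain ⟨e, he⟩ : ∃ e : ℕ∞, (e : WithBot ℕ∞) = ringKrullDim (V.left.presheaf.stalk (h.left u)) := by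
      have := ringKrullDim_nonneg_of_nontrivial (R := V.left.presheaf.stalk (h.left u))
      revert this
      generalize ringKrullDim (V.left.presheaf.stalk (h.left u)) = d
      intro hd
      induction d using WithBot.recBotCoe with
      | bot => exact absurd hd (by simp)
      | coe e => exact ⟨e, rfl⟩
    rw [← he, ← WithBot.coe_add, add_top]
    exact le_top

/-- The dimension of a space locally of finite type over a locally Noetherian one. -/
theorem dim_le_of_trdeg_bound (hX : IsAlgSpace X) (hY : IsAlgSpace Y) (hN : IsLocNoethSp Y)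
    (hf : LocP @LocallyOfFiniteType f) (E : Cardinal.{u})
    (hE : ∀ ξ : Points X, HasAt (fun U u => ringKrullDim ↥(U.presheaf.stalk u) = 0) X ξ →
      ∀ s : Cardinal.{u}, HasAtMor (fun _ _ h u => Dual3.resTrdeg h u = s) f ξ → s ≤ E) :
    _root_.AlgSp.dim X ≤ _root_.AlgSp.dim Y + ((Cardinal.toENat E : ℕ∞) : WithBot ℕ∞) := by
  obtain ⟨V, b, hb, hbs, hV⟩ := hN
  haveI : IsLocallyNoetherian V.left := hV
  obtain ⟨U, a, h, ha, c, has⟩ := exists_chart_over hX hY f b hb
  haveI : LocallyOfFiniteType h.left := hf a b h ha hb c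
  have hkd : ∀ Z : Scheme.{u}, topologicalKrullDim ↥Z = ⨆ z : Z, ringKrullDim (Z.presheaf.stalk z) := fun Z => by
    rw [← CurvePoints.krullDim_points_eq Z]
    exact (Order.krullDim_eq_iSup_coheight (α := Z)).trans
      (iSup_congr fun z => (ringKrullDim_stalk_eq_coheight z).symm)
  rw [dim_eq_of_atlas hX ha (has hbs), dim_eq_of_atlas hY hb hbs, hkd]
  refine iSup_le fun u => ?_
  refine le_trans (le_add_of_nonneg_right ?_) ((chart_dim_formula ha hb c u E fun ξ _ => hE ξ).trans (add_le_add ?_ le_rfl))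
  · exact WithBot.coe_le_coe.2 bot_le
  · rw [hkd]
    exact le_iSup (fun z : V.left => ringKrullDim (V.left.presheaf.stalk z)) (h.left u)

end GrothLib.AlgSp
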