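import Groth.Agent.Lib.AlgSp.OpenSub
import Groth.Agent.Lib.AlgSp.FieldBase
import Groth.Agent.Lib.AlgSp.Space
import Groth.Prelude.Def_AlgSpDec
import Groth.Prelude.Def_AlgSpCov

/-!
# Decent spaces: formal properties

* `isDecent_yon`, `exists_decent_pullback` (fibre products), `isDecent_of_fibres`, `isDecent_of_openCover`.
-/

universe u

open CategoryTheory CategoryTheory.Limits AlgebraicGeometry Opposite

namespace GrothLib.AlgSp

open _root_.AlgSp

variable {S : Scheme.{u}} {F G H : Sp S}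

/-- Morphisms from schemes with one point are quasi-compact. -/
theorem quasiCompact_of_finite {X Y : Scheme.{u}} (f : X ⟶ Y) [Finite X] : QuasiCompact f :=
  ⟨fun _ _ _ => (Set.toFinite _).isCompact⟩

theorem finite_spec_field (K : Type u) [Field K] : Finite ↥(Spec (CommRingCat.of K)) :=
  inferInstanceAs (Finite (PrimeSpectrum K))

/-- Decency from morphisms from field spectra. -/
theorem isDecent_of_homs (h : ∀ x : Points F, ∃ (K : Type u) (_ : Field K) (str : Spec (CommRingCat.of K) ⟶ S)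
    (g : (yon S).obj (Over.mk str) ⟶ F), Points.ofPt g (IsLocalRing.closedPoint K) = x ∧ Mono g ∧
      RepWith @QuasiCompact g) : IsDecent F := fun x => by
  obtain ⟨K, _, str, g, hx, hm, hq⟩ := h x
  let p : FieldPt F := ⟨K, str, (J S).uliftYonedaEquiv.{u + 1} g⟩
  have hp : p.toHom = g := Equiv.symm_apply_apply _ _
  refine ⟨p, ?_, hp.symm ▸ hm, hp.symm ▸ hq⟩
  rw [← Points.ofPt_toHom p (IsLocalRing.closedPoint K), hp]
  exact hx

/-- A monomorphism from a field spectrum through which every equivalent point factors. -/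
theorem exists_factor_mono_point (hF : IsAlgSpace F) (p q : FieldPt F) (h : Points.mk p = Points.mk q)
    [Mono p.toHom] : ∃ c : q.pt ⟶ p.pt, (yon S).map c ≫ p.toHom = q.toHom := by
  obtain ⟨R, t, s, sq⟩ := exists_isPullback_yon hF.diag p.toHom q.toHom
  have e : Points.map p.toHom (Points.ofScheme p.pt (IsLocalRing.closedPoint p.K)) =
      Points.map q.toHom (Points.ofScheme q.pt (IsLocalRing.closedPoint q.K)) := by
    rw [← Points.ofPt_eq_map_ofScheme, ← Points.ofPt_eq_map_ofScheme, Points.ofPt_toHom, Points.ofPt_toHom]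
    exact h
  obtain ⟨z, -, -⟩ := exists_of_isPullback sq e
  obtain ⟨r, -⟩ := (Points.schemeEquiv R).surjective z
  have : Nonempty ↥R.left := ⟨r⟩
  have : Mono ((yon S).map s) := ⟨fun a b hab => sq.hom_ext
    (by rw [← cancel_mono p.toHom, Category.assoc, Category.assoc, sq.w, reassoc_of% hab]) hab⟩
  have : Mono s := (yon S).mono_of_mono_map this
  have : Mono s.left := (Over.forget S).map_mono s
  have : IsIso ((Over.forget S).map s) := isIso_of_mono_to_field s.left
  have : IsIso s := isIso_of_reflects_iso s (Over.forget S)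
  refine ⟨inv s ≫ t, ?_⟩
  rw [Functor.map_comp, Category.assoc, sq.w, ← Functor.map_comp_assoc, IsIso.inv_hom_id,
    CategoryTheory.Functor.map_id, Category.id_comp]

/-- A point in the image of a quasi-compact monomorphism from a scheme. -/
theorem exists_point_of_mono {R : Over S} (m : (yon S).obj R ⟶ F) [Mono m] (hm : RepWith @QuasiCompact m)
    (x : Points F) (hx : x ∈ Set.range (Points.ofPt m)) :
    ∃ (K : Type u) (_ : Field K) (str : Spec (CommRingCat.of K) ⟶ S) (g : (yon S).obj (Over.mk str) ⟶ F),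
      Points.ofPt g (IsLocalRing.closedPoint K) = x ∧ Mono g ∧ RepWith @QuasiCompact g := by
  obtain ⟨r, rfl⟩ := hx
  let c : Over.mk (R.left.fromSpecResidueField r ≫ R.hom) ⟶ R := Over.homMk (R.left.fromSpecResidueField r) rfl
  have : Mono c.left := inferInstanceAs (Mono (R.left.fromSpecResidueField r))
  have : Mono c := (Over.forget S).mono_of_mono_map this
  have : Finite ↥(Over.mk (R.left.fromSpecResidueField r ≫ R.hom)).left := finite_spec_field (R.left.residueField r)
  refine ⟨R.left.residueField r, inferInstance, _, (yon S).map c ≫ m, ?_, mono_comp _ _,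
    repWith_comp ((repWith_yon_map_iff _ _).2 (quasiCompact_of_finite c.left)) hm⟩
  rw [ofPt_map_comp]
  congr 1
  exact Scheme.fromSpecResidueField_apply _ _

/-- Schemes are decent. -/
theorem isDecent_yon (T : Over S) : IsDecent ((yon S).obj T) := isDecent_of_homs fun x =>
  exists_point_of_mono (𝟙 _) (repWith_id _ _) x ((Points.schemeEquiv T).surjective x)

/-- Base change of a quasi-compact monomorphic point. -/
theorem mono_snd_of_isPullback {P X Y : Sp S} {fst : P ⟶ X} {snd : P ⟶ Y} {f : X ⟶ H} {g : Y ⟶ H}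
    (sq : IsPullback fst snd f g) [Mono f] : Mono snd :=
  ⟨fun a b h => sq.hom_ext (by rw [← cancel_mono f, Category.assoc, Category.assoc, sq.w, reassoc_of% h]) h⟩

/-- A fibre product of decent spaces over a space with representable diagonal is decent. -/
theorem isDecent_of_isPullback (hH : Representable (Limits.diag H)) {X Z P : Sp S} {f : X ⟶ H} {g : Z ⟶ H}
    {fst : P ⟶ X} {snd : P ⟶ Z} (sq : IsPullback fst snd f g) (hX : IsDecent X) (hZ : IsDecent Z) :
    IsDecent P := isDecent_of_homs fun z => by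
  obtain ⟨p, hp, hpm, hpq⟩ := hX (Points.map fst z)
  obtain ⟨q, hq, hqm, hqq⟩ := hZ (Points.map snd z)
  have sq₁ := IsPullback.of_hasPullback p.toHom fst
  have out := sq₁.paste_vert sq
  obtain ⟨R, t, s, sR⟩ := exists_isPullback_yon hH (p.toHom ≫ f) (q.toHom ≫ g)
  let m₁ : (yon S).obj R ⟶ pullback p.toHom fst := out.lift ((yon S).map t) ((yon S).map s ≫ q.toHom)
    (by rw [Category.assoc, sR.w])
  have hm₁ : IsPullback ((yon S).map s) m₁ q.toHom (pullback.snd p.toHom fst ≫ snd) := by
    refine (IsPullback.of_right (h₁₂ := pullback.fst p.toHom fst) (h₂₂ := g) ?_ ?_ out.flip.flip).flip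
    · rw [out.lift_fst]; exact sR
    · exact out.lift_snd _ _ _
  have : Mono (pullback.snd p.toHom fst) := mono_snd_of_isPullback sq₁
  have : Mono m₁ := mono_snd_of_isPullback hm₁
  have hqc : RepWith @QuasiCompact (m₁ ≫ pullback.snd p.toHom fst) :=
    repWith_comp (repWith_of_isPullback hm₁ hqq) (repWith_of_isPullback sq₁ hpq)
  refine exists_point_of_mono _ hqc z ?_
  have e₁ : Points.map p.toHom (Points.ofScheme p.pt (IsLocalRing.closedPoint p.K)) = Points.map fst z := by
    rw [← Points.ofPt_eq_map_ofScheme, Points.ofPt_toHom]; exact hp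
  obtain ⟨w, -, hw⟩ := exists_of_isPullback sq₁ e₁
  have e₂ : Points.map q.toHom (Points.ofScheme q.pt (IsLocalRing.closedPoint q.K)) =
      Points.map (pullback.snd p.toHom fst ≫ snd) w := by
    rw [← Points.ofPt_eq_map_ofScheme, Points.ofPt_toHom, Points.map_comp, hw]; exact hq
  obtain ⟨v, -, hv⟩ := exists_of_isPullback hm₁ e₂
  obtain ⟨r, rfl⟩ := (Points.schemeEquiv R).surjective v
  refine ⟨r, ?_⟩
  rw [Points.ofPt_eq_map_ofScheme, Points.map_comp, ← hw, ← hv]
  rfl

/-- A space over a decent space with decent fibres at its points is decent. -/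
theorem isDecent_of_fibres {ψ : F ⟶ G} (hG : IsDecent G)
    (h : ∀ (q : FieldPt G) (P : Sp S) (fst : P ⟶ F) (snd : P ⟶ (yon S).obj q.pt),
      IsPullback fst snd ψ q.toHom → IsDecent P) : IsDecent F := isDecent_of_homs fun z => by
  obtain ⟨q, hq, hqm, hqq⟩ := hG (Points.map ψ z)
  have sq := IsPullback.of_hasPullback ψ q.toHom
  have e : Points.map ψ z = Points.map q.toHom (Points.ofScheme q.pt (IsLocalRing.closedPoint q.K)) := by
    rw [← Points.ofPt_eq_map_ofScheme, Points.ofPt_toHom]; exact hq.symm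
  obtain ⟨w, hw, -⟩ := exists_of_isPullback sq e
  obtain ⟨p, hp, hpm, hpq⟩ := h q _ _ _ sq w
  have : Mono (pullback.fst ψ q.toHom) := mono_snd_of_isPullback sq.flip
  refine ⟨p.K, p.field, p.str, p.toHom ≫ pullback.fst ψ q.toHom, ?_, mono_comp _ _,
    repWith_comp hpq (repWith_of_isPullback sq.flip hqq)⟩
  rw [← Points.map_ofPt, Points.ofPt_toHom, hp]
  exact hw

/-- Decency is Zariski local. -/
theorem isDecent_of_openCover {ι : Type u} (hF : IsAlgSpace F) (Fi : ι → Sp S) (j : ∀ i, Fi i ⟶ F)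
    (hj : IsZarCover Fi j) (hd : ∀ i, IsDecent (Fi i)) : IsDecent F := isDecent_of_homs fun x => by
  obtain ⟨i₀, y, hy⟩ := hj.2 x
  obtain ⟨p, hp, hpm, hpq⟩ := hd i₀ y
  have hmj := mono_of_openImmersion (hj.1 i₀)
  have hgm : Mono (p.toHom ≫ j i₀) := mono_comp _ _
  have hgx : Points.ofPt (p.toHom ≫ j i₀) (IsLocalRing.closedPoint p.K) = x := by
    rw [← Points.map_ofPt, Points.ofPt_toHom, hp]; exact hy
  refine ⟨p.K, p.field, p.str, p.toHom ≫ j i₀, hgx, hgm, repWith_mk fun T ξ => ?_⟩
  set g := p.toHom ≫ j i₀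
  obtain ⟨R, t, s, sR⟩ := exists_isPullback_yon hF.diag g ξ
  refine ⟨R, (yon S).map t, s, sR, IsZariskiLocalAtTarget.of_forall_exists_morphismRestrict fun v => ?_⟩
  obtain ⟨i, hi⟩ := hj.2 (Points.ofPt ξ v)
  let O : T.left.Opens := ⟨Points.ofPt ξ ⁻¹' Set.range (Points.map (j i)),
    Points.isOpen_iff.1 (isOpen_range_openImmersion (hj.1 i)) T ξ⟩
  refine ⟨O, hi, ?_⟩
  by_cases hx : x ∈ Set.range (Points.map (j i))
  swap
  · have : IsEmpty ↥(s.left ⁻¹ᵁ O).toScheme := ⟨fun r => by
      apply hx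
      have := congrArg (fun k => Points.map k (Points.ofScheme R r.1)) sR.w
      simp only [Points.map_comp, map_yon_ofPt] at this
      rw [← Points.ofPt_eq_map_ofScheme, ← Points.ofPt_eq_map_ofScheme,
        (finite_spec_field p.K |> fun _ => Subsingleton.elim (α := PrimeSpectrum p.K) (t.left r.1) (IsLocalRing.closedPoint p.K)),
        hgx] at this
      rw [this]
      exact r.2⟩
    exact quasiCompact_of_finite _
  obtain ⟨y', hy'⟩ := hx
  obtain ⟨p', hp', hpm', hpq'⟩ := hd i y'
  let q : FieldPt F := p.map (j i₀)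
  have := mono_of_openImmersion (hj.1 i)
  have : Mono p'.toHom := hpm'
  have : Mono (p'.map (j i)).toHom := by rw [FieldPt.toHom_map]; exact @mono_comp _ _ _ _ _ _ hpm' _ (mono_of_openImmersion (hj.1 i))
  obtain ⟨c, hc⟩ := exists_factor_mono_point hF (p'.map (j i)) q (by
    rw [← Points.map_mk, hp', ← Points.map_mk, hp, hy, hy'])
  rw [FieldPt.toHom_map, FieldPt.toHom_map] at hc
  have : Finite ↥q.pt.left := finite_spec_field p.K
  have hqc : RepWith @QuasiCompact ((yon S).map c ≫ p'.toHom) :=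
    repWith_comp ((repWith_yon_map_iff _ _).2 (quasiCompact_of_finite c.left)) hpq'
  set g' := (yon S).map c ≫ p'.toHom
  have hg' : g' ≫ j i = g := (Category.assoc _ _ _).trans hc
  let oT : Over.mk (O.ι ≫ T.hom) ⟶ T := Over.homMk O.ι rfl
  obtain ⟨ξ', hξ'⟩ := (exists_factor_iff (hj.1 i) ((yon S).map oT ≫ ξ)).2 (by
    rintro _ ⟨z, rfl⟩
    obtain ⟨o, rfl⟩ := (Points.schemeEquiv _).surjective z
    change Points.map _ (Points.ofScheme _ o) ∈ _
    rw [← Points.ofPt_eq_map_ofScheme, ofPt_map_comp]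
    exact o.2)
  let oR : Over.mk ((s.left ⁻¹ᵁ O).ι ≫ R.hom) ⟶ R := Over.homMk (s.left ⁻¹ᵁ O).ι rfl
  let s' : Over.mk ((s.left ⁻¹ᵁ O).ι ≫ R.hom) ⟶ Over.mk (O.ι ≫ T.hom) := Over.homMk (s.left ∣_ O) (by
    change (s.left ∣_ O) ≫ O.ι ≫ T.hom = (s.left ⁻¹ᵁ O).ι ≫ R.hom
    rw [morphismRestrict_ι_assoc, Over.w])
  have sO : IsPullback oR s' s oT := by
    apply IsPullback.of_map_of_faithful (Over.forget S)
    exact (isPullback_morphismRestrict s.left O).flip
  have sq' : IsPullback ((yon S).map oR ≫ (yon S).map t) ((yon S).map s') g ((yon S).map oT ≫ ξ) :=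
    (isPullback_yon sO).paste_horiz sR
  rw [← hg', ← hξ'] at sq'
  have w : ((yon S).map oR ≫ (yon S).map t) ≫ g' = (yon S).map s' ≫ ξ' :=
    (cancel_mono (j i)).1 ((Category.assoc _ _ _).trans (sq'.w.trans (Category.assoc _ _ _).symm))
  exact hqc.2 ξ' _ s' ⟨⟨w⟩, ⟨PullbackCone.IsLimit.mk w
    (fun c => sq'.lift c.fst c.snd (by exact (Category.assoc _ _ _).symm.trans ((congrArg (· ≫ j i) c.condition).trans (Category.assoc _ _ _))))
    (fun c => sq'.lift_fst _ _ _) (fun c => sq'.lift_snd _ _ _)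
    (fun c m h₁ h₂ => sq'.hom_ext (h₁.trans (sq'.lift_fst _ _ _).symm) (h₂.trans (sq'.lift_snd _ _ _).symm))⟩⟩

end GrothLib.AlgSp
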