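import Groth.Agent.Lib.AlgSp.Quotient
import Groth.Agent.Lib.AlgSp.Decent
import Groth.Agent.Lib.AlgSp.Immersion
import Groth.Agent.Lib.GrpdQuot.EquivRel
import Groth.Agent.Lib.GrpdQuot.Quot
import Groth.Agent.Lib.ShfQuot.Elements

/-!
# Points represented by monomorphisms

* `exists_mono_factor`: a map from an affine scheme whose kernel pair is affine with finite flat finitely presented
  projections factors as a finite flat surjection followed by a monomorphism.
* `exists_mono_point_of_finite`: a point represented by `Spec K ⟶ X` with finite `Spec K ×_X Spec K` of finite type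
  over `K` is represented by a monomorphism.
* `exists_mono_point_of_fibre_finite`: the same from a finite fibre of `R ⟶ U ×_X U`.
* `repWith_quasiCompact_of_field`: maps from field spectra to quasi-separated spaces are quasi-compact.
-/

universe u

open CategoryTheory CategoryTheory.Limits AlgebraicGeometry

namespace GrothLib.AlgSp

open _root_.AlgSp

variable {S : Scheme.{u}}

theorem exists_mono_factor {X : Sp S} {U R : Over S} (p : (yon S).obj U ⟶ X) {t s : R ⟶ U}
    (sq : IsPullback ((yon S).map t) ((yon S).map s) p p) [IsAffine U.left] [IsAffine R.left]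
    [IsFinite s.left] [Flat s.left] [LocallyOfFinitePresentation s.left]
    [IsFinite t.left] [Flat t.left] [LocallyOfFinitePresentation t.left] :
    ∃ (M : Over S) (c : U ⟶ M) (g : (yon S).obj M ⟶ X), IsFinite c.left ∧ Flat c.left ∧ Surjective c.left ∧
      IsAffine M.left ∧ (yon S).map c ≫ g = p ∧ Mono g := by
  have heq := isEqvRel_of_isPullback sq
  have hst : t.left ≫ U.hom = s.left ≫ U.hom := by rw [Over.w, Over.w]
  have hmono : ∀ {T : Scheme.{u}} (a b : T ⟶ R.left),
      a ≫ t.left = b ≫ t.left → a ≫ s.left = b ≫ s.left → a = b := by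
    intro T a b h1 h2
    have hw : b ≫ R.hom = a ≫ R.hom := by
      rw [← Over.w s, reassoc_of% h2]
    let a' : Over.mk (a ≫ R.hom) ⟶ R := Over.homMk a rfl
    let b' : Over.mk (a ≫ R.hom) ⟶ R := Over.homMk b hw
    exact congrArg (fun k => k.left) (heq.injective _ a' b' (Over.OverMorphism.ext h1) (Over.OverMorphism.ext h2))
  obtain ⟨e, he₁, he₂⟩ := (heq.equivalence U).refl (𝟙 U)
  obtain ⟨i, hi₁, hi₂⟩ := (heq.equivalence R).symm ⟨𝟙 R, Category.id_comp t, Category.id_comp s⟩
  obtain ⟨k, hk₁, hk₂⟩ := (heq.equivalence (pullback s t)).trans ⟨pullback.fst s t, rfl, rfl⟩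
    ⟨pullback.snd s t, pullback.condition.symm, rfl⟩
  have hc : ∃ c : pullback s.left t.left ⟶ R.left, c ≫ s.left = pullback.snd s.left t.left ≫ s.left ∧
      c ≫ t.left = pullback.fst s.left t.left ≫ t.left := by
    have sqL := isPullback_left (IsPullback.of_hasPullback s t)
    refine ⟨sqL.isoPullback.inv ≫ k.left, ?_, ?_⟩
    · rw [Category.assoc, ← Over.comp_left, hk₂, Over.comp_left, IsPullback.isoPullback_inv_snd_assoc]
    · rw [Category.assoc, ← Over.comp_left, hk₁, Over.comp_left, IsPullback.isoPullback_inv_fst_assoc]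
  let G := GrothLib.GrpdQuot.ofEquivRel U.left R.left U.hom s.left t.left hst hmono
    ⟨e.left, by rw [← Over.comp_left, he₂]; rfl, by rw [← Over.comp_left, he₁]; rfl⟩
    ⟨i.left, by rw [← Over.comp_left, hi₂], by rw [← Over.comp_left, hi₁]⟩ hc
  haveI : Mono G.j := GrothLib.GrpdQuot.mono_j_ofEquivRel _ _ _ _ _ hst hmono _ _ _
  haveI : IsAffine G.U := ‹IsAffine U.left›
  haveI : IsAffine G.R := ‹IsAffine R.left›
  haveI : IsFinite G.s := ‹IsFinite s.left›
  haveI : Flat G.s := ‹Flat s.left›
  haveI : LocallyOfFinitePresentation G.s := ‹LocallyOfFinitePresentation s.left›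
  haveI : IsFinite G.t := ‹IsFinite t.left›
  haveI : Flat G.t := ‹Flat t.left›
  haveI : LocallyOfFinitePresentation G.t := ‹LocallyOfFinitePresentation t.left›
  obtain ⟨⟨hfin, hfl, hfp⟩, φ, hφ₁, hφ₂⟩ := GrothLib.GrpdQuot.finite_flat_toQuot G
  have hsurj : Surjective G.toQuot := ⟨GrothLib.GrpdQuot.surjective_toQuot G⟩
  -- the structure map of the quotient
  have sqL : IsPullback t.left s.left G.toQuot G.toQuot :=
    IsPullback.of_iso_pullback ⟨GrothLib.GrpdQuot.t_toQuot G⟩ φ hφ₁ hφ₂
  obtain ⟨m, hm⟩ : ∃ m, G.toQuot ≫ m = U.hom := by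
    haveI : EffectiveEpi G.toQuot := inferInstance
    refine ⟨EffectiveEpi.desc G.toQuot U.hom fun {Z} a b hab => ?_, EffectiveEpi.fac _ _ _⟩
    exact ((congrArg (· ≫ U.hom) (sqL.lift_fst a b hab)).symm.trans ((Category.assoc _ _ _).trans
      ((congrArg (sqL.lift a b hab ≫ ·) hst).trans (Category.assoc _ _ _).symm))).trans
      (congrArg (· ≫ U.hom) (sqL.lift_snd a b hab))
  let M : Over S := Over.mk m
  let c : U ⟶ M := Over.homMk G.toQuot hm
  haveI : IsFinite c.left := hfin
  haveI : Flat c.left := hfl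
  haveI : LocallyOfFinitePresentation c.left := hfp
  haveI : Surjective c.left := hsurj
  have sqc : IsPullback ((yon S).map t) ((yon S).map s) ((yon S).map c) ((yon S).map c) :=
    isPullback_yon (isPullback_of_left sqL)
  have : Sheaf.IsLocallySurjective ((yon S).map c) := isLocallySurjective_of_repWith
    ((repWith_yon_map_iff _ _).2 ‹Flat c.left›) ((repWith_yon_map_iff _ _).2 ‹LocallyOfFinitePresentation c.left›)
    ((repWith_yon_map_iff _ _).2 ‹Surjective c.left›)
  have hce : Epi ((yon S).map c) := (Sheaf.isLocallySurjective_iff_epi _).1 this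
  obtain ⟨g, hg⟩ := GrothLib.ShfQuot.exists_desc ((yon S).map c) p fun a b hab => by
    rw [← sqc.lift_fst a b hab, Category.assoc, sq.w, ← Category.assoc, sqc.lift_snd]
  refine ⟨M, c, g, inferInstance, inferInstance, inferInstance, inferInstanceAs (IsAffine (Spec _)), hg,
    ⟨fun {W} a b hab => ?_⟩⟩
  obtain ⟨P₁, c₁, x, hc₁, hx⟩ := GrothLib.ShfQuot.exists_cover ((yon S).map c) a
  obtain ⟨P₂, c₂, y, hc₂, hy⟩ := GrothLib.ShfQuot.exists_cover ((yon S).map c) (c₁ ≫ b)
  have hp : (c₂ ≫ x) ≫ p = y ≫ p := by
    rw [← hg, Category.assoc, reassoc_of% hx, reassoc_of% hy, hab]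
  rw [← cancel_epi c₁, ← cancel_epi c₂, ← hx, ← hy, ← Category.assoc, ← sq.lift_fst (c₂ ≫ x) y hp,
    Category.assoc, sqc.w, ← Category.assoc, sq.lift_snd]

/-- Finitely many points of a scheme locally of finite type over a field with finitely many points. -/
theorem finite_of_finite_points {K : Type u} [Field K] {P : Scheme.{u}} (f : P ⟶ Spec (CommRingCat.of K))
    [LocallyOfFiniteType f] [Finite P] : IsFinite f ∧ IsAffine P := by
  have : LocallyQuasiFinite f := .of_finite_preimage_singleton f fun _ => Set.toFinite _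
  have : QuasiCompact f := quasiCompact_of_finite f
  have : IsFinite f := .of_locallyQuasiFinite f
  exact ⟨this, isAffine_of_isAffineHom f⟩

theorem exists_mono_point_of_finite {X : Sp S} (hX : IsAlgSpace X) (q : FieldPt X)
    (h : ∃ (R : Over S) (t s : R ⟶ q.pt), IsPullback ((yon S).map t) ((yon S).map s) q.toHom q.toHom ∧
      Finite ↥R.left ∧ LocallyOfFiniteType t.left ∧ LocallyOfFiniteType s.left) :
    ∃ p : FieldPt X, Points.mk p = Points.mk q ∧ Mono p.toHom := by
  obtain ⟨R, t, s, sq, hfin, ht, hs⟩ := h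
  haveI : IsAffine q.pt.left := inferInstanceAs (IsAffine (Spec _))
  obtain ⟨hsf, hR⟩ := finite_of_finite_points (K := q.K) s.left
  obtain ⟨htf, -⟩ := finite_of_finite_points (K := q.K) t.left
  haveI : Flat s.left := flat_to_field (k := q.K) s.left
  haveI : Flat t.left := flat_to_field (k := q.K) t.left
  haveI : IsLocallyNoetherian q.pt.left := inferInstanceAs (IsLocallyNoetherian (Spec (CommRingCat.of q.K)))
  haveI : LocallyOfFinitePresentation s.left := inferInstance
  haveI : LocallyOfFinitePresentation t.left := inferInstance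
  obtain ⟨M, c, g, -, -, -, -, hg, hm⟩ := exists_mono_factor q.toHom sq
  let z := c.left (IsLocalRing.closedPoint q.K)
  refine ⟨FieldPt.ofPt g z, ?_, ?_⟩
  · show Points.ofPt g z = _
    rw [← Points.ofPt_toHom q (IsLocalRing.closedPoint q.K), ← hg, ofPt_map_comp]
  · rw [FieldPt.toHom_ofPt]
    let d : (FieldPt.ofPt g z).pt ⟶ M := Over.homMk (M.left.fromSpecResidueField z) rfl
    have hd : Mono d := (Over.forget S).mono_of_mono_map (inferInstanceAs (Mono (M.left.fromSpecResidueField z)))
    have : Mono ((yon S).map d) := mono_of_yon fun W a b hab => by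
      obtain ⟨a, rfl⟩ := (yon S).map_surjective a
      obtain ⟨b, rfl⟩ := (yon S).map_surjective b
      rw [← Functor.map_comp, ← Functor.map_comp] at hab
      rw [(cancel_mono d).1 ((yon S).map_injective hab)]
    exact mono_comp ((yon S).map d) g

/-- Maps from field spectra to quasi-separated spaces are quasi-compact. -/
theorem repWith_quasiCompact_of_field {X : Sp S} (hX : IsAlgSpace X) (hqs : IsQuasiSeparatedSp X)
    (q : FieldPt X) : RepWith @QuasiCompact q.toHom := by
  refine repWith_mk fun T g => ?_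
  obtain ⟨R, t, s, sq⟩ := exists_isPullback_yon hX.diag q.toHom g
  refine ⟨R, (yon S).map t, s, sq, ?_⟩
  have : QuasiCompact (prod.lift t s).left := prop_prodLift_of_repWith_diag hqs sq
  have : Finite ↥q.pt.left := finite_spec_field q.K
  have : QuasiCompact q.pt.hom := quasiCompact_of_finite _
  have h2 : QuasiCompact (prod.snd : q.pt ⨯ T ⟶ T).left := by
    rw [← Over.prodLeftIsoPullback_hom_snd]
    infer_instance
  have e : s.left = (prod.lift t s).left ≫ (prod.snd : q.pt ⨯ T ⟶ T).left := by
    rw [← Over.comp_left, prod.lift_snd]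
  rw [e]
  infer_instance

/-- `Spec κ(u') ×_X Spec κ(u)` for an etale chart is discrete, locally of finite type over the fields, and sits
inside the fibre of `U ×_X U` over `(u, u')`. -/
theorem pair_point_facts {X : Sp S} {U R : Over S} {φ : (yon S).obj U ⟶ X} (hφ : RepWith @Etale φ)
    {t s : R ⟶ U} (sq : IsPullback ((yon S).map t) ((yon S).map s) φ φ) (u u' : ↥U.left) {P : Over S}
    {a : P ⟶ (FieldPt.ofPt φ u).pt} {a' : P ⟶ (FieldPt.ofPt φ u').pt}
    (sqP : IsPullback ((yon S).map a') ((yon S).map a) (FieldPt.ofPt φ u').toHom (FieldPt.ofPt φ u).toHom) :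
    LocallyOfFiniteType a.left ∧ DiscreteTopology ↥P.left ∧
      ({r : ↥R.left | s.left r = u ∧ t.left r = u'}.Finite → Finite ↥P.left) := by
  let c : (FieldPt.ofPt φ u).pt ⟶ U := Over.homMk (U.left.fromSpecResidueField u) rfl
  let c' : (FieldPt.ofPt φ u').pt ⟶ U := Over.homMk (U.left.fromSpecResidueField u') rfl
  haveI : Etale s.left := hφ.2 _ _ _ sq
  have sq₁ := IsPullback.of_hasPullback s c
  have sq₁' := isPullback_stack sq sq₁
  have sq₂ := IsPullback.of_hasPullback (pullback.fst s c ≫ t) c'
  have sq₂' := isPullback_stack (f := (yon S).map c ≫ φ) (g := φ)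
    (fst := (yon S).map (pullback.snd s c)) (snd := pullback.fst s c ≫ t)
    (by rw [Functor.map_comp]; exact sq₁'.flip) sq₂
  rw [← Functor.map_comp] at sq₂'
  -- `P` is the iterated fibre product
  rw [FieldPt.toHom_ofPt, FieldPt.toHom_ofPt] at sqP
  obtain ⟨θ, hθ⟩ := (yon S).map_surjective (sq₂'.isoIsPullback _ _ sqP.flip).inv
  have hθi : IsIso θ := by
    have : IsIso ((yon S).map θ) := by rw [hθ]; infer_instance
    exact isIso_of_fully_faithful (yon S) θ
  haveI : IsIso θ.left := inferInstanceAs (IsIso ((Over.forget S).map θ))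
  have hθ₁ : θ ≫ pullback.fst (pullback.fst s c ≫ t) c' ≫ pullback.snd s c = a :=
    (yon S).map_injective (by rw [Functor.map_comp, hθ, IsPullback.isoIsPullback_inv_fst])
  haveI hpe : Etale (pullback.snd s c).left := MorphismProperty.of_isPullback (isPullback_left sq₁) ‹Etale s.left›
  haveI : IsPreimmersion c.left := inferInstanceAs (IsPreimmersion (U.left.fromSpecResidueField u))
  haveI : IsPreimmersion c'.left := inferInstanceAs (IsPreimmersion (U.left.fromSpecResidueField u'))
  haveI : Subsingleton ↥(FieldPt.ofPt φ u).pt.left :=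
    inferInstanceAs (Subsingleton (PrimeSpectrum (U.left.residueField u)))
  haveI : IsLocallyArtinian (FieldPt.ofPt φ u).pt.left :=
    inferInstanceAs (IsLocallyArtinian (Spec (CommRingCat.of (U.left.residueField u))))
  haveI : LocallyQuasiFinite (pullback.snd s c).left := locallyQuasiFinite_of_unramified _
  haveI : IsLocallyArtinian (pullback s c).left := .of_locallyQuasiFinite (pullback.snd s c).left
  haveI : IsPreimmersion (pullback.fst s c).left :=
    MorphismProperty.of_isPullback (isPullback_left sq₁).flip ‹IsPreimmersion c.left›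
  haveI hq₁ : IsPreimmersion (pullback.fst (pullback.fst s c ≫ t) c').left :=
    MorphismProperty.of_isPullback (isPullback_left sq₂).flip ‹IsPreimmersion c'.left›
  haveI : IsClosedImmersion (pullback.fst (pullback.fst s c ≫ t) c').left :=
    .of_isPreimmersion _ (isClosed_discrete _)
  refine ⟨?_, ?_, fun hfin => ?_⟩
  · rw [← hθ₁, Over.comp_left, Over.comp_left]
    infer_instance
  · exact (θ.left ≫ (pullback.fst (pullback.fst s c ≫ t) c').left).isEmbedding.discreteTopology
  · let m := θ.left ≫ (pullback.fst (pullback.fst s c ≫ t) c').left ≫ (pullback.fst s c).left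
    have hm : ∀ z, m z ∈ {r : ↥R.left | s.left r = u ∧ t.left r = u'} := fun z => by
      constructor
      · rw [← Scheme.Hom.comp_apply, show m ≫ s.left = (θ.left ≫ (pullback.fst (pullback.fst s c ≫ t) c').left ≫
          (pullback.snd s c).left) ≫ U.left.fromSpecResidueField u from by
            simp only [m, Category.assoc, ← Over.comp_left, pullback.condition]
            rfl, Scheme.Hom.comp_apply]
        exact Scheme.fromSpecResidueField_apply _ _
      · rw [← Scheme.Hom.comp_apply, show m ≫ t.left = (θ.left ≫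
          (pullback.snd (pullback.fst s c ≫ t) c').left) ≫ U.left.fromSpecResidueField u' from by
            simp only [m, Category.assoc, ← Over.comp_left]
            rw [pullback.condition]
            rfl, Scheme.Hom.comp_apply]
        exact Scheme.fromSpecResidueField_apply _ _
    haveI := hfin.to_subtype
    exact Finite.of_injective (fun z => (⟨m z, hm z⟩ : {r : ↥R.left | s.left r = u ∧ t.left r = u'}))
      fun z z' h => m.isEmbedding.injective (congrArg Subtype.val h)

theorem exists_mono_point_of_fibre_finite {X : Sp S} (hX : IsAlgSpace X) {U R : Over S}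
    {φ : (yon S).obj U ⟶ X} (hφ : RepWith @Etale φ)
    {t s : R ⟶ U} (sq : IsPullback ((yon S).map t) ((yon S).map s) φ φ) (u u' : ↥U.left)
    (he : Points.ofPt φ u = Points.ofPt φ u') (hfin : {r : ↥R.left | s.left r = u ∧ t.left r = u'}.Finite) :
    ∃ p : FieldPt X, Points.mk p = Points.ofPt φ u ∧ Mono p.toHom := by
  let q := FieldPt.ofPt φ u
  let q' := FieldPt.ofPt φ u'
  obtain ⟨P, a', a, sqP⟩ := exists_isPullback_yon hX.diag q'.toHom q.toHom
  obtain ⟨ha, hdisc, hP⟩ := pair_point_facts hφ sq u u' sqP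
  obtain ⟨ha', -, -⟩ := pair_point_facts hφ sq u' u sqP.flip
  haveI := hdisc
  haveI := hP hfin
  haveI : IsFinite a.left := (finite_of_finite_points (K := q.K) a.left).1
  haveI : IsFinite a'.left := (finite_of_finite_points (K := q'.K) a'.left).1
  have hpts : Points.map q'.toHom (Points.ofScheme q'.pt (IsLocalRing.closedPoint q'.K)) =
      Points.map q.toHom (Points.ofScheme q.pt (IsLocalRing.closedPoint q.K)) := by
    rw [← Points.ofPt_eq_map_ofScheme, ← Points.ofPt_eq_map_ofScheme, Points.ofPt_toHom, Points.ofPt_toHom]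
    exact he.symm
  obtain ⟨z, -, -⟩ := exists_of_isPullback sqP hpts
  obtain ⟨z, -⟩ := (Points.schemeEquiv P).surjective z
  let q'' := FieldPt.ofPt ((yon S).map a ≫ q.toHom) z
  let d : q''.pt ⟶ P := Over.homMk (P.left.fromSpecResidueField z) rfl
  haveI : IsPreimmersion d.left := inferInstanceAs (IsPreimmersion (P.left.fromSpecResidueField z))
  haveI : IsClosedImmersion d.left := .of_isPreimmersion _ (isClosed_discrete _)
  have h₁ : q''.toHom = (yon S).map (d ≫ a) ≫ q.toHom := by
    rw [FieldPt.toHom_ofPt, Functor.map_comp, Category.assoc]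
  have h₂ : q''.toHom = (yon S).map (d ≫ a') ≫ q'.toHom := by
    rw [h₁, Functor.map_comp, Functor.map_comp, Category.assoc, Category.assoc, sqP.w]
  haveI : IsFinite (d ≫ a).left := by rw [Over.comp_left]; infer_instance
  haveI : IsFinite (d ≫ a').left := by rw [Over.comp_left]; infer_instance
  have sq₁ := IsPullback.of_hasPullback a (d ≫ a)
  have sq₁' := isPullback_stack sqP sq₁
  rw [← h₁] at sq₁'
  have sq₂ := IsPullback.of_hasPullback (pullback.fst a (d ≫ a) ≫ a') (d ≫ a')
  have sq₂' := isPullback_stack (f := q''.toHom) (g := q'.toHom)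
    (fst := (yon S).map (pullback.snd a (d ≫ a))) (snd := pullback.fst a (d ≫ a) ≫ a')
    (by rw [Functor.map_comp]; exact sq₁'.flip) sq₂
  rw [← h₂, ← Functor.map_comp] at sq₂'
  haveI : IsFinite (pullback.fst a (d ≫ a)).left :=
    MorphismProperty.of_isPullback (isPullback_left sq₁).flip ‹IsFinite (d ≫ a).left›
  haveI : IsFinite (pullback.fst (pullback.fst a (d ≫ a) ≫ a') (d ≫ a')).left :=
    MorphismProperty.of_isPullback (isPullback_left sq₂).flip ‹IsFinite (d ≫ a').left›
  haveI : IsFinite (pullback.snd a (d ≫ a)).left :=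
    MorphismProperty.of_isPullback (isPullback_left sq₁) ‹IsFinite a.left›
  haveI : IsFinite (pullback.fst a (d ≫ a) ≫ a').left := by rw [Over.comp_left]; infer_instance
  haveI : IsFinite (pullback.snd (pullback.fst a (d ≫ a) ≫ a') (d ≫ a')).left :=
    MorphismProperty.of_isPullback (isPullback_left sq₂) ‹IsFinite (pullback.fst a (d ≫ a) ≫ a').left›
  let π := (pullback.fst (pullback.fst a (d ≫ a) ≫ a') (d ≫ a')).left ≫ (pullback.fst a (d ≫ a)).left
  haveI : Finite ↥(pullback (pullback.fst a (d ≫ a) ≫ a') (d ≫ a')).left :=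
    Set.finite_univ_iff.1 (π.finite_preimage (Set.finite_univ (α := ↥P.left)))
  obtain ⟨p, hp, hm⟩ := exists_mono_point_of_finite hX q'' ⟨_, _, _, sq₂', inferInstance,
    by rw [Over.comp_left]; infer_instance, inferInstance⟩
  refine ⟨p, hp.trans ?_, hm⟩
  show Points.ofPt ((yon S).map a ≫ q.toHom) z = _
  rw [ofPt_map_comp, Points.ofPt_toHom]
  rfl

/-- Points of quasi-separated spaces are represented by quasi-compact monomorphisms. -/
theorem isDecent_of_isQuasiSeparatedSp {X : Sp S} (hX : IsAlgSpace X) (hqs : IsQuasiSeparatedSp X) :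
    IsDecent X := by
  intro x
  obtain ⟨U, φ, hφ, hs⟩ := hX.atlas
  obtain ⟨u, rfl⟩ := surjective_ofPt_of_repWith hs x
  let q := FieldPt.ofPt φ u
  obtain ⟨P, a', a, sqP⟩ := exists_isPullback_yon hX.diag q.toHom q.toHom
  obtain ⟨R, t, s, sq⟩ := exists_isPullback_yon hX.diag φ φ
  obtain ⟨ha, hdisc, -⟩ := pair_point_facts hφ sq u u sqP
  obtain ⟨ha', -, -⟩ := pair_point_facts hφ sq u u sqP.flip
  haveI := hdisc
  haveI : QuasiCompact a.left := (repWith_quasiCompact_of_field hX hqs q).2 _ _ _ sqP
  haveI : CompactSpace ↥q.pt.left := inferInstanceAs (CompactSpace (PrimeSpectrum q.K))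
  haveI : CompactSpace ↥P.left := QuasiCompact.compactSpace_of_compactSpace a.left
  haveI : Finite ↥P.left := finite_of_compact_of_discrete
  obtain ⟨p, hp, hm⟩ := exists_mono_point_of_finite hX q ⟨P, a', a, sqP, inferInstance, ha', ha⟩
  exact ⟨p, hp, hm, repWith_quasiCompact_of_field hX hqs p⟩

end GrothLib.AlgSp
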