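import Mathlib.AlgebraicGeometry.Morphisms.FlatDescent
import Mathlib.AlgebraicGeometry.Morphisms.LocalFlatDescent
import Mathlib.CategoryTheory.Sites.RegularEpi
import Groth.Prelude.Def_AlgSp

/-!
# Representable morphisms of fppf sheaves over `S`
-/

universe u

open CategoryTheory CategoryTheory.Limits AlgebraicGeometry Opposite

namespace GrothLib.AlgSp

open _root_.AlgSp

variable {S : Scheme.{u}}

/-- Sections of `F` over `T` as morphisms `h_T ⟶ F`. -/
abbrev sec (F : Sp S) (T : Over S) := (yon S).obj T ⟶ F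

theorem hom_ext {F G : Sp S} {f g : F ⟶ G}
    (h : ∀ (T : Over S) (p : (yon S).obj T ⟶ F), p ≫ f = p ≫ g) : f = g := by
  ext T x
  have := congrArg ((J S).uliftYonedaEquiv.{u + 1}) (h T.unop ((J S).uliftYonedaEquiv.{u + 1}.symm x))
  rw [GrothendieckTopology.uliftYonedaEquiv_comp, GrothendieckTopology.uliftYonedaEquiv_comp,
    Equiv.apply_symm_apply] at this
  exact this

theorem mono_of_yon {F G : Sp S} {f : F ⟶ G}
    (h : ∀ (T : Over S) (a b : (yon S).obj T ⟶ F), a ≫ f = b ≫ f → a = b) : Mono f :=
  ⟨fun {Z} a b hab => hom_ext fun T p => h T _ _ (by rw [Category.assoc, Category.assoc, hab])⟩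

theorem isIso_of_yon {F G : Sp S} {f : F ⟶ G}
    (h : ∀ (T : Over S) (b : (yon S).obj T ⟶ G), ∃! a : (yon S).obj T ⟶ F, a ≫ f = b) : IsIso f := by
  have : IsIso f.hom := by
    rw [NatTrans.isIso_iff_isIso_app]
    intro T
    rw [isIso_iff_bijective]
    constructor
    · intro x y hxy
      apply (J S).uliftYonedaEquiv.{u + 1}.symm.injective
      apply (h T.unop _).unique (y₁ := (J S).uliftYonedaEquiv.{u + 1}.symm x)
        (y₂ := (J S).uliftYonedaEquiv.{u + 1}.symm y) rfl
      rw [GrothendieckTopology.uliftYonedaEquiv_symm_naturality_right,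
        GrothendieckTopology.uliftYonedaEquiv_symm_naturality_right]
      exact congrArg _ hxy.symm
    · intro y
      obtain ⟨a, ha, -⟩ := h T.unop ((J S).uliftYonedaEquiv.{u + 1}.symm y)
      refine ⟨(J S).uliftYonedaEquiv.{u + 1} a, ?_⟩
      have := congrArg ((J S).uliftYonedaEquiv.{u + 1}) ha
      rw [GrothendieckTopology.uliftYonedaEquiv_comp, Equiv.apply_symm_apply] at this
      exact this
  have : IsIso ((sheafToPresheaf _ _).map f) := this
  exact isIso_of_reflects_iso f (sheafToPresheaf _ _)

/-- A square of sheaves is cartesian as soon as it is so on sections over schemes. -/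
theorem isPullback_of_yon {P X Y Z : Sp S} {fst : P ⟶ X} {snd : P ⟶ Y} {f : X ⟶ Z} {g : Y ⟶ Z}
    (w : fst ≫ f = snd ≫ g)
    (h : ∀ (T : Over S) (a : (yon S).obj T ⟶ X) (b : (yon S).obj T ⟶ Y), a ≫ f = b ≫ g →
      ∃! c : (yon S).obj T ⟶ P, c ≫ fst = a ∧ c ≫ snd = b) : IsPullback fst snd f g := by
  have : IsIso (pullback.lift fst snd w) := by
    apply isIso_of_yon
    intro T b
    obtain ⟨c, ⟨h1, h2⟩, hu⟩ := h T (b ≫ pullback.fst f g) (b ≫ pullback.snd f g)
      (by rw [Category.assoc, Category.assoc, pullback.condition])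
    refine ⟨c, ?_, ?_⟩
    · apply pullback.hom_ext
      · rw [Category.assoc, pullback.lift_fst, h1]
      · rw [Category.assoc, pullback.lift_snd, h2]
    · intro c' hc'
      apply hu
      constructor <;> rw [← hc', Category.assoc]
      · rw [pullback.lift_fst]
      · rw [pullback.lift_snd]
  exact IsPullback.of_iso_pullback ⟨w⟩ (asIso (pullback.lift fst snd w))
    (pullback.lift_fst _ _ _) (pullback.lift_snd _ _ _)

theorem isPullback_yon {P X Y Z : Over S} {fst : P ⟶ X} {snd : P ⟶ Y} {f : X ⟶ Z} {g : Y ⟶ Z}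
    (sq : IsPullback fst snd f g) :
    IsPullback ((yon S).map fst) ((yon S).map snd) ((yon S).map f) ((yon S).map g) :=
  sq.map _

theorem isPullback_of_isPullback_yon {P X Y Z : Over S} {fst : P ⟶ X} {snd : P ⟶ Y} {f : X ⟶ Z} {g : Y ⟶ Z}
    (sq : IsPullback ((yon S).map fst) ((yon S).map snd) ((yon S).map f) ((yon S).map g)) :
    IsPullback fst snd f g := by
  refine IsPullback.of_map (yon S) ((yon S).map_injective ?_) sq
  simpa using sq.w

/-- The pullback of a representable morphism along a map from a scheme, with given data. -/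
theorem exists_isPullback_of_representable {F G : Sp S} {f : F ⟶ G} (hf : Representable f) {U : Over S}
    (g : (yon S).obj U ⟶ G) :
    ∃ (V : Over S) (fst : (yon S).obj V ⟶ F) (snd : V ⟶ U), IsPullback fst ((yon S).map snd) f g := by
  obtain ⟨V, snd, fst, h⟩ := hf g
  exact ⟨V, fst, snd, h⟩

theorem representable_of_forall {F G : Sp S} {f : F ⟶ G}
    (h : ∀ ⦃U : Over S⦄ (g : (yon S).obj U ⟶ G), ∃ (V : Over S) (P : Sp S) (_ : (yon S).obj V ≅ P)
      (fst : P ⟶ F) (snd : P ⟶ (yon S).obj U), IsPullback fst snd f g) : Representable f := by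
  intro U g
  obtain ⟨V, P, e, fst, snd, sq⟩ := h g
  refine ⟨V, (yon S).preimage (e.hom ≫ snd), e.hom ≫ fst, ?_⟩
  rw [Functor.map_preimage]
  exact IsPullback.of_iso sq e.symm (Iso.refl _) (Iso.refl _) (Iso.refl _)
    (by simp) (by simp) (by simp) (by simp)

section RepWith

variable {P Q : MorphismProperty Scheme.{u}} {F G H : Sp S}

theorem repWith_mk [P.RespectsIso] {f : F ⟶ G}
    (h : ∀ ⦃U : Over S⦄ (g : (yon S).obj U ⟶ G), ∃ (V : Over S) (fst : (yon S).obj V ⟶ F) (snd : V ⟶ U),
      IsPullback fst ((yon S).map snd) f g ∧ P snd.left) : RepWith P f :=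
  have : (P.inverseImage (Over.forget S)).RespectsIso := MorphismProperty.RespectsIso.inverseImage P _
  MorphismProperty.relative.of_exists fun U g => by
    obtain ⟨V, fst, snd, sq, hP⟩ := h g
    exact ⟨V, fst, snd, sq, hP⟩

theorem repWith_mono {f : F ⟶ G} (hf : RepWith P f)
    (h : ∀ ⦃A B : Scheme.{u}⦄ (g : A ⟶ B), P g → Q g) : RepWith Q f :=
  ⟨hf.1, fun _ _ g fst snd sq => h _ (hf.2 g fst snd sq)⟩

theorem repWith_top_iff {f : F ⟶ G} : RepWith ⊤ f ↔ Representable f :=
  ⟨fun h => h.1, fun h => ⟨h, fun _ _ _ _ _ _ => trivial⟩⟩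

theorem repWith_inf_iff {f : F ⟶ G} : RepWith (P ⊓ Q) f ↔ RepWith P f ∧ RepWith Q f :=
  ⟨fun h => ⟨repWith_mono h fun _ _ _ h => h.1, repWith_mono h fun _ _ _ h => h.2⟩,
    fun h => ⟨h.1.1, fun _ _ g fst snd sq => ⟨h.1.2 g fst snd sq, h.2.2 g fst snd sq⟩⟩⟩

theorem repWith_of_isPullback {F' G' : Sp S} {f : F ⟶ G} {g : G' ⟶ G} {f' : F' ⟶ G'} {g' : F' ⟶ F}
    (sq : IsPullback g' f' f g) (h : RepWith P f) : RepWith P f' :=
  MorphismProperty.of_isPullback sq h

theorem repWith_comp [P.IsStableUnderComposition] {f : F ⟶ G} {g : G ⟶ H}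
    (hf : RepWith P f) (hg : RepWith P g) : RepWith P (f ≫ g) :=
  MorphismProperty.comp_mem _ f g hf hg

theorem repWith_iso [P.IsStableUnderBaseChange] [P.ContainsIdentities] (f : F ⟶ G) [IsIso f] :
    RepWith P f :=
  repWith_mk (P := P) (f := f) (by
    intro U g
    exact ⟨U, g ≫ inv f, 𝟙 U, IsPullback.of_vert_isIso ⟨by simp⟩,
      P.id_mem _⟩)

/-- The point of base changing a square: stacking a scheme-level pullback on a represented pullback. -/
theorem isPullback_stack {U V U' V' : Over S} {f : F ⟶ G} {g : (yon S).obj U ⟶ G}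
    {fst : (yon S).obj V ⟶ F} {snd : V ⟶ U} (sq : IsPullback fst ((yon S).map snd) f g)
    {c : U' ⟶ U} {c' : V' ⟶ V} {snd' : V' ⟶ U'} (sq' : IsPullback c' snd' snd c) :
    IsPullback ((yon S).map c' ≫ fst) ((yon S).map snd') f ((yon S).map c ≫ g) :=
  (isPullback_yon sq').paste_horiz sq

theorem isPullback_left {U V U' V' : Over S} {c : U' ⟶ U} {c' : V' ⟶ V} {snd' : V' ⟶ U'} {snd : V ⟶ U}
    (sq : IsPullback c' snd' snd c) : IsPullback c'.left snd'.left snd.left c.left :=
  sq.map (Over.forget S)

theorem isPullback_of_left {U V U' V' : Over S} {c : U' ⟶ U} {c' : V' ⟶ V} {snd' : V' ⟶ U'} {snd : V ⟶ U}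
    (sq : IsPullback c'.left snd'.left snd.left c.left) : IsPullback c' snd' snd c :=
  IsPullback.of_map (Over.forget S) (Over.OverMorphism.ext sq.w) sq

end RepWith

section Diagonal

theorem representable_diag_iff {F : Sp S} :
    Representable (Limits.diag F) ↔ ∀ ⦃U : Over S⦄ (g : (yon S).obj U ⟶ F), Representable g :=
  Functor.relativelyRepresentable.diag_iff

/-- The equalizer of two maps from a scheme to the fibre of a representable morphism is a scheme. -/
theorem representable_lift_id {F G : Sp S} {f : F ⟶ G} (hf : Representable f) :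
    Representable (pullback.diagonal f) := by
  intro T g
  obtain ⟨V, fst, snd, sq⟩ := exists_isPullback_of_representable hf (g ≫ pullback.fst f f ≫ f)
  have hb : (g ≫ pullback.snd f f) ≫ f = (yon S).map (𝟙 T) ≫ g ≫ pullback.fst f f ≫ f := by
    simp [pullback.condition]
  have ha : (g ≫ pullback.fst f f) ≫ f = (yon S).map (𝟙 T) ≫ g ≫ pullback.fst f f ≫ f := by simp
  let α : T ⟶ V := (yon S).preimage (sq.lift _ _ ha)
  let β : T ⟶ V := (yon S).preimage (sq.lift _ _ hb)
  have hαf : (yon S).map α ≫ fst = g ≫ pullback.fst f f := by simp [α]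
  have hβf : (yon S).map β ≫ fst = g ≫ pullback.snd f f := by simp [β]
  have hαs : α ≫ snd = 𝟙 T := (yon S).map_injective (by simp [α])
  have hβs : β ≫ snd = 𝟙 T := (yon S).map_injective (by simp [β])
  refine ⟨equalizer α β, equalizer.ι α β, (yon S).map (equalizer.ι α β) ≫ g ≫ pullback.fst f f, ?_⟩
  refine isPullback_of_yon ?_ fun T' a b hab => ?_
  · apply pullback.hom_ext
    · simp
    · simp only [Category.assoc, pullback.diagonal_snd, Category.comp_id]
      rw [← hαf, ← hβf, ← Functor.map_comp_assoc, ← Functor.map_comp_assoc, equalizer.condition]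
  · obtain ⟨t, rfl⟩ := (yon S).map_surjective b
    have h1 : a = (yon S).map t ≫ g ≫ pullback.fst f f := by
      simpa using congrArg (fun x => x ≫ pullback.fst f f) hab
    have h2 : a = (yon S).map t ≫ g ≫ pullback.snd f f := by
      simpa using congrArg (fun x => x ≫ pullback.snd f f) hab
    have heq : t ≫ α = t ≫ β := by
      apply (yon S).map_injective
      apply sq.hom_ext
      · simp only [Functor.map_comp, Category.assoc, hαf, hβf]
        rw [← h1, ← h2]
      · rw [← Functor.map_comp, ← Functor.map_comp, Category.assoc, Category.assoc, hαs, hβs]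
    refine ⟨(yon S).map (equalizer.lift t heq), ⟨?_, ?_⟩, ?_⟩
    · rw [← Functor.map_comp_assoc, equalizer.lift_ι, ← h1]
    · rw [← Functor.map_comp, equalizer.lift_ι]
    · rintro c ⟨-, hc⟩
      obtain ⟨c, rfl⟩ := (yon S).map_surjective c
      congr 1
      apply equalizer.hom_ext
      rw [equalizer.lift_ι]
      exact (yon S).map_injective (by simpa using hc)

/-- If `f : F ⟶ G` is representable and the diagonal of `G` is representable, so is that of `F`. -/
theorem representable_diag_of_representable {F G : Sp S} {f : F ⟶ G} (hf : Representable f)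
    (hG : Representable (Limits.diag G)) : Representable (Limits.diag F) := by
  rw [representable_diag_iff] at hG ⊢
  intro U g
  have hd : Representable (pullback.snd f (g ≫ f)) :=
    MorphismProperty.of_isPullback (IsPullback.of_hasPullback f (g ≫ f)) hf
  have hd' : Representable (pullback.fst f (g ≫ f)) :=
    MorphismProperty.of_isPullback (IsPullback.of_hasPullback f (g ≫ f)).flip (hG (g ≫ f))
  have key : g = pullback.lift g (𝟙 _) (by simp) ≫ pullback.fst f (g ≫ f) :=
    (pullback.lift_fst _ _ _).symm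
  rw [key]
  refine MorphismProperty.comp_mem _ _ _ ?_ hd'
  have sq : IsPullback g (pullback.lift g (𝟙 _) (by simp) : _ ⟶ pullback f (g ≫ f))
      (pullback.diagonal f)
      (pullback.lift (pullback.fst f (g ≫ f)) (pullback.snd f (g ≫ f) ≫ g)
        (by rw [pullback.condition, Category.assoc])) := by
    refine isPullback_of_yon ?_ fun T a b hab => ?_
    · apply pullback.hom_ext
      · simp only [Category.assoc, pullback.diagonal_fst, pullback.lift_fst, Category.comp_id]
      · simp only [Category.assoc, pullback.diagonal_snd, pullback.lift_snd, pullback.lift_snd_assoc,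
          Category.comp_id, Category.id_comp]
    have h1 : a = b ≫ pullback.fst f (g ≫ f) := by
      simpa only [Category.assoc, pullback.diagonal_fst, pullback.lift_fst, Category.comp_id] using
        congrArg (fun x => x ≫ pullback.fst f f) hab
    have h2 : a = b ≫ pullback.snd f (g ≫ f) ≫ g := by
      simpa only [Category.assoc, pullback.diagonal_snd, pullback.lift_snd, Category.comp_id] using
        congrArg (fun x => x ≫ pullback.snd f f) hab
    refine ⟨b ≫ pullback.snd _ _, ⟨by rw [Category.assoc, ← h2], ?_⟩, ?_⟩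
    · apply pullback.hom_ext
      · simp only [Category.assoc, pullback.lift_fst]
        rw [← h2, h1]
      · simp only [Category.assoc, pullback.lift_snd, Category.comp_id]
    · rintro c ⟨-, hc⟩
      rw [← hc]
      simp only [Category.assoc, pullback.lift_snd, Category.comp_id]
  exact MorphismProperty.of_isPullback sq (representable_lift_id hf)

end Diagonal

end GrothLib.AlgSp
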