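import Groth.Agent.Lib.AlgSp.Decent
import Groth.Agent.Lib.AlgSp.Rep
import Mathlib.AlgebraicGeometry.Morphisms.Etale
import Mathlib.AlgebraicGeometry.Morphisms.FlatMono

/-!
# Elementary etale neighbourhoods

* `isIso_residueFieldMap_of_lift`: a point lifted over a residue field has the same residue field.
* `mono_ofPt_of_residueField`: elementary neighbourhoods are stable under residually trivial maps.
-/

universe u

open CategoryTheory CategoryTheory.Limits AlgebraicGeometry Opposite

namespace GrothLib.AlgSp

open _root_.AlgSp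

variable {S : Scheme.{u}} {F : Sp S}

/-- If `Spec κ(y) ⟶ Y` lifts to `X`, the image point of the lift has residue field `κ(y)`. -/
theorem exists_isIso_residueFieldMap_of_lift {X Y : Scheme.{u}} (k : X ⟶ Y) (y : Y)
    (g : Spec (Y.residueField y) ⟶ X) (hg : g ≫ k = Y.fromSpecResidueField y) :
    ∃ x : X, k x = y ∧ IsIso (k.residueFieldMap x) ∧ Spec.map (k.residueFieldMap x) ≫
      Y.fromSpecResidueField (k x) = X.fromSpecResidueField x ≫ k ∧
      x = g (IsLocalRing.closedPoint (Y.residueField y)) := by
  obtain ⟨⟨x, ψ⟩, rfl⟩ := (Scheme.SpecToEquivOfField (Y.residueField y) X).symm.surjective g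
  have hg' : Spec.map ψ ≫ X.fromSpecResidueField x ≫ k = Y.fromSpecResidueField y := by
    rw [← Category.assoc]; exact hg
  rw [← Scheme.Hom.SpecMap_residueFieldMap_fromSpecResidueField, ← Spec.map_comp_assoc] at hg'
  have hx : k x = y := by
    have := congrArg (fun f : _ ⟶ Y => f (IsLocalRing.closedPoint (Y.residueField y))) hg'
    rwa [Scheme.Hom.comp_apply, Y.fromSpecResidueField_apply, Y.fromSpecResidueField_apply] at this
  refine ⟨x, hx, ?_, Scheme.Hom.SpecMap_residueFieldMap_fromSpecResidueField _ _, ?_⟩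
  · subst hx
    have he : k.residueFieldMap x ≫ ψ = 𝟙 _ := by
      apply Spec.map_injective
      rw [← cancel_mono (Y.fromSpecResidueField (k x))]
      exact hg'.trans (by erw [Spec.map_id, Category.id_comp])
    have hinj : Function.Injective ψ.hom := ψ.hom.injective
    refine ⟨ψ, he, ?_⟩
    ext a
    apply hinj
    exact congrArg (fun f : Y.residueField (k x) ⟶ Y.residueField (k x) => f.hom (ψ.hom a)) he
  · exact (X.fromSpecResidueField_apply x _).symm

/-- Elementary neighbourhoods are stable under residually trivial maps. -/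
theorem mono_ofPt_of_residueField {R U : Over S} (k : R ⟶ U) (a : (yon S).obj U ⟶ F) (v : ↥R.left)
    [IsIso (k.left.residueFieldMap v)] [Mono (FieldPt.ofPt a (k.left v)).toHom] :
    Mono (FieldPt.ofPt ((yon S).map k ≫ a) v).toHom := by
  let m : (FieldPt.ofPt ((yon S).map k ≫ a) v).pt ⟶ (FieldPt.ofPt a (k.left v)).pt :=
    Over.homMk (Spec.map (k.left.residueFieldMap v)) (by
      change Spec.map _ ≫ U.left.fromSpecResidueField _ ≫ U.hom = R.left.fromSpecResidueField v ≫ R.hom
      rw [Scheme.Hom.SpecMap_residueFieldMap_fromSpecResidueField_assoc, Over.w])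
  have : IsIso m.left := inferInstanceAs (IsIso (Spec.map (k.left.residueFieldMap v)))
  have : IsIso ((Over.forget S).map m) := this
  have : IsIso m := isIso_of_reflects_iso m (Over.forget S)
  have e : (FieldPt.ofPt ((yon S).map k ≫ a) v).toHom =
      (yon S).map m ≫ (FieldPt.ofPt a (k.left v)).toHom := by
    rw [FieldPt.toHom_ofPt, FieldPt.toHom_ofPt, ← (yon S).map_comp_assoc, ← (yon S).map_comp_assoc]
    congr 2
    exact Over.OverMorphism.ext (k.left.SpecMap_residueFieldMap_fromSpecResidueField v).symm
  rw [e]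
  infer_instance

/-- A cone from a scheme on a square of schemes, as a morphism of schemes. -/
theorem exists_lift_yon {R A B T : Over S} {t : R ⟶ A} {s : R ⟶ B} {a : (yon S).obj A ⟶ F}
    {b : (yon S).obj B ⟶ F} (sq : IsPullback ((yon S).map t) ((yon S).map s) a b) (f : T ⟶ A) (g : T ⟶ B)
    (w : (yon S).map f ≫ a = (yon S).map g ≫ b) : ∃ l : T ⟶ R, l ≫ t = f ∧ l ≫ s = g := by
  obtain ⟨l, hl⟩ := (yon S).map_surjective (sq.lift _ _ w)
  exact ⟨l, (yon S).map_injective (by rw [Functor.map_comp, hl, sq.lift_fst]),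
    (yon S).map_injective (by rw [Functor.map_comp, hl, sq.lift_snd])⟩

end GrothLib.AlgSp
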