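import Groth.Agent.Lib.AlgSp.ImmersionDescent
import Groth.Agent.Lib.AlgSp.Immersion
import Groth.Agent.Lib.AlgSp.FlatMono
import Groth.Agent.Lib.AlgSp.Points
import Groth.Agent.Lib.AlgSp.Quotient
import Groth.Agent.Lib.AlgSp.EtaleLocallyProps
import Groth.Agent.Lib.AlgSp.ElemEtale
import Groth.Agent.Lib.RedSub.Basic
import Groth.Prelude.Def_AlgSpSub

/-!
# Reduced induced closed subspaces

* `exists_isRedInduced_sp`: every closed set of points underlies a reduced closed subspace.
-/

universe u

open CategoryTheory CategoryTheory.Limits AlgebraicGeometry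

namespace GrothLib.AlgSp

open _root_.AlgSp

variable {S : Scheme.{u}} {X : Sp S}

/-- Factorisation through a monomorphism descends along fppf covers. -/
theorem exists_factor_of_fppf_cover {C U T V : Over S} (ι : C ⟶ U) [Mono ι.left] (f : T ⟶ U) (c : V ⟶ T)
    [Flat c.left] [LocallyOfFinitePresentation c.left] [Surjective c.left] (g : V ⟶ C) (h : g ≫ ι = c ≫ f) :
    ∃ e : T ⟶ C, e ≫ ι = f := by
  let P := pullback ι.left f.left
  let p : P ⟶ T.left := pullback.snd ι.left f.left
  let P' := pullback p c.left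
  let s : V.left ⟶ P' := pullback.lift (pullback.lift g.left c.left (congrArg (fun q : V ⟶ U => q.left) h))
    (𝟙 _) (by rw [pullback.lift_snd, Category.id_comp])
  haveI : IsIso (pullback.snd p c.left) := by
    haveI : IsSplitEpi (pullback.snd p c.left) := ⟨⟨⟨s, pullback.lift_snd _ _ _⟩⟩⟩
    exact isIso_of_mono_of_isSplitEpi _
  haveI : IsIso p := fppfDescends_isomorphisms p c.left (pullback.fst p c.left) (pullback.snd p c.left)
    (IsPullback.of_hasPullback _ _) inferInstance inferInstance inferInstance ‹IsIso (pullback.snd p c.left)›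
  have e : inv p ≫ pullback.fst ι.left f.left ≫ ι.left = f.left := by
    rw [pullback.condition, IsIso.inv_hom_id_assoc]
  refine ⟨Over.homMk (inv p ≫ pullback.fst ι.left f.left) ?_, Over.OverMorphism.ext ?_⟩
  · rw [← Over.w ι, ← Category.assoc, Category.assoc (inv p), e, Over.w]
  · exact (Category.assoc _ _ _).trans e

/-- Every closed set of points underlies a reduced closed subspace. -/
theorem exists_isRedInduced_sp (hX : IsAlgSpace X) {T : Set (Points X)} (hT : IsClosed T) :
    ∃ (Z : Sp S) (i : Z ⟶ X), IsAlgSpace Z ∧ IsRedInduced T i := by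
  obtain ⟨U, a, hae, has⟩ := hX.atlas
  haveI : Sheaf.IsLocallySurjective a := chart_isLocallySurjective hae has
  let CT : TopologicalSpace.Closeds ↥U.left := ⟨Points.ofPt a ⁻¹' T, hT.preimage (Points.continuous_ofPt a)⟩
  let I := Scheme.IdealSheafData.vanishingIdeal CT
  let C : Over S := Over.mk (I.subschemeι ≫ U.hom)
  let ι : C ⟶ U := Over.homMk I.subschemeι rfl
  haveI : IsClosedImmersion ι.left := inferInstanceAs (IsClosedImmersion I.subschemeι)
  have hC : IsReduced C.left := RedSub.isReduced_subscheme_vanishingIdeal CT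
  have hr : Set.range ι.left = (CT : Set ↥U.left) := RedSub.range_subschemeι_vanishingIdeal CT
  obtain ⟨R, t, s, sq⟩ := exists_isPullback_yon hX.diag a a
  -- the relation preserves the closed subscheme
  have hfac : ∀ {T₀ : Over S} (x y : T₀ ⟶ U), (yon S).map x ≫ a = (yon S).map y ≫ a →
      ∀ x' : T₀ ⟶ C, x' ≫ ι = x → ∃ y' : T₀ ⟶ C, y' ≫ ι = y := by
    intro T₀ x y hxy x' hx'
    obtain ⟨r, hr₁, hr₂⟩ := exists_lift_yon sq x y hxy
    let RC := pullback t.left ι.left
    haveI : Etale t.left := hae.2 _ _ _ sq.flip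
    haveI : IsReduced RC := isReduced_of_etale (pullback.snd t.left ι.left) inferInstance hC
    obtain ⟨g, hg⟩ := RedSub.exists_lift (pullback.fst t.left ι.left ≫ s.left) ι.left (by
      rintro _ ⟨z, rfl⟩
      rw [hr]
      change Points.ofPt a (s.left (pullback.fst t.left ι.left z)) ∈ T
      have hmem : ι.left (pullback.snd t.left ι.left z) ∈ (CT : Set ↥U.left) := hr ▸ Set.mem_range_self _
      rw [← Scheme.Hom.comp_apply, ← pullback.condition, Scheme.Hom.comp_apply] at hmem
      rw [← ofPt_map_comp, ← sq.w, ofPt_map_comp]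
      exact hmem)
    let m : T₀.left ⟶ RC := pullback.lift r.left x'.left
      (congrArg (fun q : T₀ ⟶ U => q.left) (hr₁.trans hx'.symm))
    have e : (m ≫ g) ≫ ι.left = y.left := by
      rw [Category.assoc, hg, pullback.lift_fst_assoc]
      exact congrArg (fun q : T₀ ⟶ U => q.left) hr₂
    exact ⟨Over.homMk (m ≫ g) (by rw [← Over.w ι, ← Category.assoc, e, Over.w]), Over.OverMorphism.ext e⟩
  let q := (yon S).map ι ≫ a
  let p := Limits.factorThruImage q
  let i := Limits.image.ι q
  haveI : Sheaf.IsLocallySurjective p := (Sheaf.isLocallySurjective_iff_epi p).2 inferInstance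
  haveI : Mono ι.left := inferInstance
  haveI : Mono ι := (Over.forget S).mono_of_mono_map ‹Mono ι.left›
  have w : p ≫ i = (yon S).map ι ≫ a := Limits.image.fac q
  have sqC : IsPullback p ((yon S).map ι) i a := isPullback_of_yon w fun T₀ z l hzl => by
    obtain ⟨l, rfl⟩ := (yon S).map_surjective l
    obtain ⟨V, c, y, hcf, hcp, hcs, hy⟩ := exists_fppf_lift p z
    obtain ⟨y, rfl⟩ := (yon S).map_surjective y
    haveI := hcf
    haveI := hcp
    haveI := hcs
    obtain ⟨y', hy'⟩ := hfac (y ≫ ι) (c ≫ l) (by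
      rw [Functor.map_comp, Category.assoc, ← w, reassoc_of% hy, hzl, ← Category.assoc, ← Functor.map_comp]) y rfl
    obtain ⟨e, he⟩ := exists_factor_of_fppf_cover ι l c y' hy'
    refine ⟨(yon S).map e, ⟨?_, by rw [← Functor.map_comp, he]⟩, ?_⟩
    · rw [← cancel_mono i, Category.assoc, w, ← Category.assoc, ← Functor.map_comp, he, hzl]
    · rintro e' ⟨-, he'⟩
      obtain ⟨e', rfl⟩ := (yon S).map_surjective e'
      rw [← Functor.map_comp] at he'
      rw [(cancel_mono ι).1 (((yon S).map_injective he').trans he.symm)]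
  have hi : RepWith @IsClosedImmersion i := repWith_of_base_isImmersion a sqC
    (le_isImmersion_of_cases (Or.inl rfl)).1 (le_isImmersion_of_cases (Or.inl rfl)).2
    ((repWith_yon_map_iff _ _).2 ‹IsClosedImmersion ι.left›)
  have hsurj : RepWith @Surjective p := repWith_of_isPullback sqC.flip has
  refine ⟨_, i, isAlgSpace_of_representable hX hi.1, hi, subset_antisymm ?_ fun x hx => ?_,
    C, p, repWith_of_isPullback sqC.flip hae, hsurj, hC⟩
  · rintro _ ⟨z, rfl⟩
    obtain ⟨c, rfl⟩ := surjective_ofPt_of_repWith hsurj z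
    rw [Points.map_ofPt, w, ofPt_map_comp]
    exact hr.le ⟨c, rfl⟩
  · obtain ⟨u, rfl⟩ := surjective_ofPt_of_repWith has x
    obtain ⟨c, rfl⟩ := hr.ge (show u ∈ (CT : Set ↥U.left) from hx)
    exact ⟨Points.ofPt p c, by rw [Points.map_ofPt, w, ofPt_map_comp]⟩

end GrothLib.AlgSp
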