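import Groth.Agent.Lib.AlgSp.SymChart
import Groth.Agent.Lib.AlgSp.RedInduced
import Groth.Agent.Lib.AlgSp.MonoPoint
import Groth.Agent.Lib.AlgSp.DiagAffine
import Groth.Agent.Lib.AlgSp.PointsUniv
import Groth.Agent.Lib.BddFibre.Universal
import Groth.Agent.Lib.EtBasicB.Sections
import Groth.Prelude.Def_AlgSpSub

/-!
# The stratification of a space by the degree of an affine chart

* `exists_affine_surjective_chart`, `isOpen_degGE'`.
* `exists_stratum`: the stratum of degree exactly `k + 1` lifts isomorphically to a separated chart.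
* `repWith_quasiCompact_chart`, `exists_degGE_eq_empty`: the quasi-separated case.
-/

universe u

open CategoryTheory CategoryTheory.Limits AlgebraicGeometry

namespace GrothLib.AlgSp

open _root_.AlgSp

variable {S : Scheme.{u}} {X : Sp S}

/-- A quasi-compact space has an affine etale surjective chart. -/
theorem exists_affine_surjective_chart (hX : IsAlgSpace X) (hc : IsQuasiCompactSp X) :
    ∃ (U : Over S) (a : (yon S).obj U ⟶ X), IsAffine U.left ∧ RepWith @Etale a ∧ RepWith @Surjective a := by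
  haveI := compactSpace_points_of_isQuasiCompactSp hc
  obtain ⟨U, p, pe, ps⟩ := hX.atlas
  let 𝒰 := U.left.affineCover
  obtain ⟨s, hs⟩ := isCompact_univ.elim_finite_subcover (fun i => Points.ofPt p '' Set.range (𝒰.f i))
    (fun i => isOpenMap_ofPt_of_etale pe _ (𝒰.f i).isOpenEmbedding.isOpen_range) (fun x _ => by
      obtain ⟨u, rfl⟩ := surjective_ofPt_of_repWith ps x
      obtain ⟨i, w, rfl⟩ := 𝒰.exists_eq u
      exact Set.mem_iUnion.2 ⟨i, _, ⟨w, rfl⟩, rfl⟩)
  let c : Over.mk ((Sigma.desc fun i : s => 𝒰.f i.1) ≫ U.hom) ⟶ U :=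
    Over.homMk (Sigma.desc fun i : s => 𝒰.f i.1) rfl
  have hc' : Etale c.left := by
    change Etale (Sigma.desc fun i : s => 𝒰.f i.1)
    rw [IsZariskiLocalAtSource.iff_of_openCover (P := @Etale) (sigmaOpenCover _)]
    intro i
    change Etale (Sigma.ι (fun i : s => 𝒰.X i.1) i ≫ Sigma.desc fun i : s => 𝒰.f i.1)
    rw [Sigma.ι_desc]
    infer_instance
  have he : RepWith @Etale ((yon S).map c ≫ p) := repWith_comp ((repWith_yon_map_iff _ _).2 hc') pe
  refine ⟨_, (yon S).map c ≫ p, ?_, he, repWith_surjective_of_ofPt he.1 fun x => ?_⟩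
  · haveI : ∀ i : s, IsAffine (𝒰.X i.1) := fun i => inferInstance
    exact inferInstanceAs (IsAffine (∐ fun i : s => 𝒰.X i.1))
  obtain ⟨i, hi, _, ⟨w, rfl⟩, hx⟩ := Set.mem_iUnion₂.1 (hs (Set.mem_univ x))
  refine ⟨Sigma.ι (fun i : s => 𝒰.X i.1) ⟨i, hi⟩ w, ?_⟩
  rw [ofPt_map_comp, ← hx]
  congr 1
  change (Sigma.desc fun i : s => 𝒰.f i.1) _ = _
  rw [← Scheme.Hom.comp_apply, Sigma.ι_desc]

variable {U : Over S} {a : (yon S).obj U ⟶ X}

theorem degGE_zero : degGE a 0 = Set.univ := Set.eq_univ_of_forall fun x => by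
  obtain ⟨K, _, str, g, hg⟩ := exists_ofPt x
  exact ⟨K, inferInstance, str, g, fun i => i.elim0, hg, fun i => i.elim0, fun i => i.elim0⟩

theorem isOpen_degGE' (hX : IsAlgSpace X) [IsAffine U.left] (ha : RepWith @Etale a) (k : ℕ) :
    IsOpen (degGE a k) := by
  rcases k with _ | k
  · rw [degGE_zero]; exact isOpen_univ
  · exact isOpen_degGE hX ha k

/-- The stratum of degree exactly `k + 1` lifts isomorphically to a separated chart. -/
theorem exists_stratum (hX : IsAlgSpace X) [IsAffine U.left] (ha : RepWith @Etale a) (k : ℕ) :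
    ∃ (V : Over S) (f : (yon S).obj V ⟶ openSub X (degGE a (k + 1))), V.left.IsSeparated ∧
      (RepWith @QuasiCompact a → CompactSpace ↥V.left) ∧ RepWith @Etale f ∧ RepWith @Surjective f ∧
      ∀ {T P : Sp S} (i : T ⟶ openSub X (degGE a (k + 1))),
        (∀ z, Points.map (i ≫ openSubι X (degGE a (k + 1))) z ∉ degGE a (k + 2)) →
        ∀ (fst : P ⟶ T) (snd : P ⟶ (yon S).obj V), IsPullback fst snd i f → IsIso fst := by
  obtain ⟨V, b, hb, -, hsep, hcpt, hr, hlift⟩ := exists_symChart hX ha k
  have hW := isOpen_degGE hX ha k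
  haveI : Mono (openSubι X (degGE a (k + 1))) := mono_openSubι _ _
  obtain ⟨f, hf⟩ := openSub_lift (W := degGE a (k + 1)) b fun t => hr ▸ Set.mem_range_self t
  have sqf : IsPullback (𝟙 _) f b (openSubι X (degGE a (k + 1))) :=
    isPullback_of_yon ((Category.id_comp _).trans hf.symm) fun T x y hxy => ⟨x, ⟨Category.comp_id _,
      (cancel_mono (openSubι X (degGE a (k + 1)))).1 (by rw [Category.assoc, hf, hxy])⟩,
      fun c hc => (Category.comp_id c).symm.trans hc.1⟩
  have hfe : RepWith @Etale f := repWith_of_isPullback sqf hb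
  refine ⟨V, f, hsep, hcpt, hfe, repWith_surjective_of_ofPt hfe.1 fun x => ?_, fun {T P} i hi fst snd sq => ?_⟩
  · obtain ⟨v, hv⟩ : Points.map (openSubι X (degGE a (k + 1))) x ∈ Set.range (Points.ofPt b) :=
      hr.ge ((range_openSubι (W := degGE a (k + 1))).subset (Set.mem_range_self x))
    exact ⟨v, injective_map_of_mono (openSubι X (degGE a (k + 1))) (by rw [Points.map_ofPt, hf, hv])⟩
  · refine isIso_of_yon fun T' β => ?_
    obtain ⟨l, hl, hu⟩ := hlift T' (β ≫ i ≫ openSubι X (degGE a (k + 1))) fun t => by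
      rw [← Points.map_ofPt]
      refine ⟨range_openSubι.subset ?_, hi _⟩
      rw [Points.map_comp]
      exact Set.mem_range_self _
    have hw : β ≫ i = (yon S).map l ≫ f := by
      rw [← cancel_mono (openSubι X (degGE a (k + 1))), Category.assoc, Category.assoc, hf, hl]
    refine ⟨sq.lift β ((yon S).map l) hw, sq.lift_fst _ _ _, fun c hc => sq.hom_ext ?_ ?_⟩
    · rw [sq.lift_fst]; exact hc
    · rw [sq.lift_snd]
      obtain ⟨l', hl'⟩ := (yon S).map_surjective (c ≫ snd)
      rw [← hl', hu l' ?_]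
      change (yon S).map l' ≫ b = β ≫ i ≫ openSubι X (degGE a (k + 1))
      rw [hl', ← hf, Category.assoc, ← reassoc_of% sq.w, ← Category.assoc, hc]

/-- Over a quasi-separated base, affine charts of quasi-separated spaces are quasi-compact. -/
theorem repWith_quasiCompact_chart [QuasiSeparatedSpace ↥S] (hX : IsAlgSpace X) (hqs : IsQuasiSeparatedSp X)
    [IsAffine U.left] (a : (yon S).obj U ⟶ X) : RepWith @QuasiCompact a := by
  refine repWith_mk fun T g => ?_
  obtain ⟨R, t, s, sq⟩ := exists_isPullback_yon hX.diag a g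
  refine ⟨R, (yon S).map t, s, sq, ?_⟩
  haveI : QuasiCompact (prod.lift t s).left := prop_prodLift_of_repWith_diag hqs sq
  haveI : QuasiCompact U.hom := quasiCompact_of_compactSpace _
  haveI h2 : QuasiCompact (prod.snd : U ⨯ T ⟶ T).left := by
    rw [← Over.prodLeftIsoPullback_hom_snd]
    infer_instance
  have e : s.left = (prod.lift t s).left ≫ (prod.snd : U ⨯ T ⟶ T).left := by
    rw [← Over.comp_left, prod.lift_snd]
  rw [e]
  infer_instance

/-- A quasi-compact chart has bounded degree. -/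
theorem exists_degGE_eq_empty (hX : IsAlgSpace X) [IsAffine U.left] (ha : RepWith @Etale a)
    (hq : RepWith @QuasiCompact a) : ∃ n, degGE a (n + 1) = ∅ := by
  obtain ⟨T, p, d, sq⟩ := exists_isPullback_yon hX.diag a a
  haveI : Etale p.left := ha.2 _ _ _ sq.flip
  haveI : QuasiCompact p.left := hq.2 _ _ _ sq.flip
  haveI : CompactSpace ↥T.left := QuasiCompact.compactSpace_of_compactSpace p.left
  haveI : LocallyQuasiFinite p.left := locallyQuasiFinite_of_unramified _
  haveI : IsSeparated p.left := isSeparated_of_pullback_chart sq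
  obtain ⟨n, hn⟩ := BddFibre.univBounded_of_locallyQuasiFinite p.left
  refine ⟨n, Set.eq_empty_iff_forall_notMem.2 ?_⟩
  rintro x ⟨L, _, w, γ, l, -, hl, hc⟩
  obtain ⟨μ, hμ⟩ : ∃ μ : Fin (n + 1) → (Over.mk w ⟶ T), ∀ i, μ i ≫ p = l 0 ∧ μ i ≫ d = l i :=
    ⟨_, fun i => (exists_lift_yon sq (l 0) (l i) (by rw [hc, hc])).choose_spec⟩
  let P := pullback p.left (l 0).left
  let σ : Fin (n + 1) → (Spec (CommRingCat.of L) ⟶ P) := fun i => pullback.lift (μ i).left (𝟙 _)
    (by rw [Category.id_comp]; exact congrArg (fun q : Over.mk w ⟶ U => q.left) (hμ i).1)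
  have hσ : ∀ i, σ i ≫ pullback.snd p.left (l 0).left = 𝟙 _ := fun i => pullback.lift_snd _ _ _
  have hinj : Function.Injective fun i => σ i (IsLocalRing.closedPoint L) := fun i j hij => by
    have e : σ i = σ j := EtBasicB.section_ext (pullback.snd p.left (l 0).left) (hσ i) (hσ j) (by
      ext z
      constructor <;> rintro ⟨q, rfl⟩ <;>
        exact ⟨IsLocalRing.closedPoint L, by
          rw [Subsingleton.elim (α := PrimeSpectrum L) q (IsLocalRing.closedPoint L)]
          first | exact hij | exact hij.symm⟩)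
    apply hl
    rw [← (hμ i).2, ← (hμ j).2]
    have e2 := congrArg (· ≫ pullback.fst p.left (l 0).left) e
    simp only [σ, pullback.lift_fst] at e2
    rw [show μ i = μ j from Over.OverMorphism.ext e2]
  have h := (BddFibre.fibreDegLE_iff p.left n).mp hn L (l 0).left
  haveI : Finite ↥P := (BddFibre.finite_discrete_of_finiteOfDegLE _ (Field.toIsField L) h).1
  have h1 := Nat.card_le_card_of_injective _ hinj
  have h2 : Nat.card ↥P ≤ n := BddFibre.natCard_le _ (Field.toIsField L) h
  rw [Nat.card_eq_fintype_card, Fintype.card_fin] at h1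
  omega

end GrothLib.AlgSp
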