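import Groth.Agent.Lib.EtaPt.Top
import Groth.Agent.Lib.AlgSp.DimFormulaSpace
import Groth.Agent.Lib.AlgSp.EtaleLocallyProps
import Groth.Agent.Lib.AlgSp.PointProps
import Groth.Agent.Lib.AlgSp.PointsUniv
import Groth.Agent.Lib.AlgSp.Strata
import Groth.Agent.Lib.AlgSp.LocP

/-!
# Locally finitely many irreducible components
-/

set_option backward.isDefEq.respectTransparency false

universe u

open CategoryTheory CategoryTheory.Limits AlgebraicGeometry TopologicalSpace Topology

namespace GrothLib.AlgSp.FinIrred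

open _root_.AlgSp GrothLib.EtaPt

/-- Quasi-compact opens have finitely many irreducible components. -/
abbrev FinIrred (U : Scheme.{u}) : Prop :=
  ∀ W : U.Opens, IsCompact (W : Set ↥U) → (irreducibleComponents ↥W).Finite

theorem finIrred_of_flat_lft {Y X : Scheme.{u}} (f : Y ⟶ X) [Flat f]
    [LocallyOfFiniteType f]
    (hX : ∀ U : X.Opens, IsCompact (U : Set X) → (irreducibleComponents (U : Type u)).Finite)
    (V : Y.Opens) (hV : IsCompact (V : Set Y)) : (irreducibleComponents (V : Type u)).Finite := by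
  have hloc : ∀ y : V, ∃ W : Y.Opens, (y : Y) ∈ W ∧ W ≤ V ∧ (irreducibleComponents ↥W).Finite := by
    rintro ⟨y, hy⟩
    obtain ⟨_, ⟨U, hU, rfl⟩, hyU, -⟩ :=
      X.isBasis_affineOpens.exists_subset_of_mem_open (Set.mem_univ (f y)) isOpen_univ
    obtain ⟨_, ⟨W, hW, rfl⟩, hyW, hWV⟩ := Y.isBasis_affineOpens.exists_subset_of_mem_open
      (show y ∈ V ⊓ f ⁻¹ᵁ U from ⟨hy, hyU⟩) (V ⊓ f ⁻¹ᵁ U).isOpen
    refine ⟨W, hyW, fun z hz => (hWV hz).1, ?_⟩
    have e : W ≤ f ⁻¹ᵁ U := fun z hz => (hWV hz).2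
    have h1 := f.flat_appLE hU hW e
    have h2 := f.finiteType_appLE hU hW e
    let _ : Algebra Γ(X, U) Γ(Y, W) := (f.appLE U W e).hom.toAlgebra
    have : Module.Flat Γ(X, U) Γ(Y, W) := h1
    have : Algebra.FiniteType Γ(X, U) Γ(Y, W) := h2
    exact (finite_irreducibleComponents_iff_of_affine hW).2 (finite_minimalPrimes_of_flat
      ((finite_irreducibleComponents_iff_of_affine hU).1 (hX U hU.isCompact)))
  choose W hW hWV hfin using hloc
  obtain ⟨s, hs⟩ := hV.elim_finite_subcover (fun y => (W y : Set Y)) (fun y => (W y).isOpen)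
    fun y hy => Set.mem_iUnion.2 ⟨⟨y, hy⟩, hW _⟩
  refine finite_irreducibleComponents_of_cover
    (fun i : s => (⟨Subtype.val ⁻¹' (W i.1 : Set Y), (W i.1).isOpen.preimage continuous_subtype_val⟩ :
      Opens ↥V)) (fun z => ?_) fun i => ?_
  · obtain ⟨i, hi, hzi⟩ := Set.mem_iUnion₂.1 (hs z.2)
    exact ⟨⟨i, hi⟩, hzi⟩
  · let e : {z : V // (z : Y) ∈ W i.1} ≃ₜ ↥(W i.1) :=
      { toFun := fun z => ⟨z.1.1, z.2⟩
        invFun := fun z => ⟨⟨z.1, hWV _ z.2⟩, z.2⟩
        left_inv := fun _ => rfl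
        right_inv := fun _ => rfl
        continuous_toFun := by fun_prop
        continuous_invFun := by fun_prop }
    refine ((hfin i.1).image fun t => e ⁻¹' t).subset fun t ht => ⟨e.symm ⁻¹' t, ?_, ?_⟩
    · exact preimage_mem_irreducibleComponents ht e.symm.isOpenEmbedding
        (by obtain ⟨z, hz⟩ := ht.1.1; exact ⟨z, hz, e.symm.surjective z⟩)
    · ext x; simp

theorem asc {X Y : Scheme.{u}} (f : X ⟶ Y) [Flat f] [LocallyOfFiniteType f] (hY : FinIrred Y) : FinIrred X :=
  fun V hV => finIrred_of_flat_lft f hY V hV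

/-- Components of the image of a space with finitely many components. -/
theorem finite_components_of_surjective {A B : Type*} [TopologicalSpace A] [TopologicalSpace B] {f : A → B}
    (hf : Continuous f) (hs : Function.Surjective f) (hA : (irreducibleComponents A).Finite) :
    (irreducibleComponents B).Finite := by
  refine (hA.image fun C => closure (f '' C)).subset fun T hT => ?_
  have hC : ∀ C ∈ irreducibleComponents A, IsIrreducible (closure (f '' C)) := fun C hC =>
    (hC.1.image f hf.continuousOn).closure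
  have hcov : T ⊆ ⋃₀ ((fun C => closure (f '' C)) '' irreducibleComponents A) := fun x _ => by
    obtain ⟨a, rfl⟩ := hs x
    exact ⟨_, ⟨irreducibleComponent a, irreducibleComponent_mem_irreducibleComponents a, rfl⟩,
      subset_closure ⟨a, mem_irreducibleComponent, rfl⟩⟩
  obtain ⟨z, hz, hTz⟩ := isIrreducible_iff_sUnion_isClosed.1 hT.1 (hA.image fun C => closure (f '' C)).toFinset
    (fun z hz => by
      obtain ⟨C, -, rfl⟩ := (Set.Finite.mem_toFinset _).1 hz
      exact isClosed_closure) (by rwa [Set.Finite.coe_toFinset])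
  obtain ⟨C, hC', rfl⟩ := (Set.Finite.mem_toFinset _).1 hz
  exact ⟨C, hC', Set.Subset.antisymm (hT.2 (hC C hC') hTz) hTz⟩

theorem desc {X Y : Scheme.{u}} (f : X ⟶ Y) [Etale f] [Surjective f] (hX : FinIrred X) : FinIrred Y := by
  intro W hW
  have hopen : ∀ w : ↥W, ∃ V : X.Opens, IsCompact (V : Set ↥X) ∧ V ≤ f ⁻¹ᵁ W ∧ w.1 ∈ f '' (V : Set ↥X) := fun w => by
    obtain ⟨x, hx⟩ := f.surjective w.1
    obtain ⟨V, hV, hxV, hle⟩ := exists_isAffineOpen_mem_and_subset (U := f ⁻¹ᵁ W) (x := x)
      (show f x ∈ W from hx ▸ w.2)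
    exact ⟨V, hV.isCompact, hle, x, hxV, hx⟩
  choose V hVc hVle hwV using hopen
  obtain ⟨s, hs⟩ := hW.elim_finite_subcover (fun w => f '' (V w : Set ↥X))
    (fun w => f.isOpenMap _ (V w).isOpen) fun y hy => Set.mem_iUnion.2 ⟨⟨y, hy⟩, hwV ⟨y, hy⟩⟩
  let V₀ : X.Opens := ⨆ w : s, V w.1
  have hV₀ : IsCompact (V₀ : Set ↥X) := by
    rw [show (V₀ : Set ↥X) = ⋃ w : s, (V w.1 : Set ↥X) from Opens.coe_iSup _]
    exact isCompact_iUnion fun w => hVc _
  have hle : ∀ z : ↥V₀, f z.1 ∈ W := fun z => by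
    obtain ⟨w, hw⟩ := Opens.mem_iSup.1 z.2
    exact hVle _ hw
  refine finite_components_of_surjective (f := fun z : ↥V₀ => (⟨f z.1, hle z⟩ : ↥W)) (by fun_prop)
    (fun y => ?_) (hX V₀ hV₀)
  obtain ⟨w, hw, x, hx, hxy⟩ := Set.mem_iUnion₂.1 (hs y.2)
  exact ⟨⟨x, Opens.mem_iSup.2 ⟨⟨w, hw⟩, hx⟩⟩, Subtype.ext hxy⟩

variable {S : Scheme.{u}}

theorem chart {F : Sp S} (h : EtaleLocally (fun U => FinIrred U) F) {U : Over S} (a : (yon S).obj U ⟶ F)
    (ha : RepWith @Etale a) : FinIrred U.left :=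
  etaleLocally_chart (Q := FinIrred) (fun A B k hk hB => by
    haveI : Etale k := hk
    exact asc k hB) (fun A B k hk hs hA => by
    haveI : Etale k := hk
    haveI : Surjective k := hs
    exact desc k hA) h a ha

theorem finite_components_of_compact {U : Scheme.{u}} [CompactSpace U] (h : FinIrred U) :
    (irreducibleComponents ↥U).Finite :=
  finite_components_of_surjective (f := fun z : ↥(⊤ : U.Opens) => z.1) (by fun_prop) (fun z => ⟨⟨z, trivial⟩, rfl⟩)
    (h ⊤ isCompact_univ)

theorem finite_dim_zero {U : Scheme.{u}} (h : (irreducibleComponents ↥U).Finite) :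
    {u : ↥U | ringKrullDim (U.presheaf.stalk u) = 0}.Finite := by
  refine Set.Finite.of_finite_image (f := fun u : ↥U => closure ({u} : Set ↥U))
    (h.subset ?_) fun a _ b _ e => ?_
  · rintro _ ⟨u, hu, rfl⟩
    refine ⟨isIrreducible_singleton.closure, fun T hT hle => ?_⟩
    obtain ⟨g, hg⟩ := QuasiSober.sober hT.closure isClosed_closure
    have hsp : g ⤳ u := hg.specializes (subset_closure (hle (subset_closure rfl)))
    rw [Set.mem_ofPred_eq, ringKrullDim_stalk_eq_coheight, show (0 : WithBot ℕ∞) = ((0 : ℕ∞) : WithBot ℕ∞) from rfl,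
      WithBot.coe_inj, Order.coheight_eq_zero] at hu
    have : g = u := (hsp.antisymm (Scheme.le_iff_specializes.1 (hu (Scheme.le_iff_specializes.2 hsp)))).eq
    exact subset_closure.trans (this ▸ hg.def).ge
  · simp only at e
    exact (isGenericPoint_closure (x := a)).eq (e.symm ▸ isGenericPoint_closure (x := b))

theorem finite_components_of_dim_zero {U : Scheme.{u}}
    (h : {u : ↥U | ringKrullDim (U.presheaf.stalk u) = 0}.Finite) : (irreducibleComponents ↥U).Finite := by
  refine (h.image fun u => closure ({u} : Set ↥U)).subset fun C hC => ?_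
  obtain ⟨g, hg⟩ := QuasiSober.sober hC.1 (isClosed_of_mem_irreducibleComponents _ hC)
  exact ⟨g, ringKrullDim_stalk_eq_zero_of_component (hg.def.symm ▸ hC), hg.def⟩

theorem codimZero_iff {F : Sp S} (hF : IsAlgSpace F) {U : Over S} {a : (yon S).obj U ⟶ F}
    (ha : RepWith @Etale a) (u : ↥U.left) :
    HasAt (fun U u => ringKrullDim ↥(U.presheaf.stalk u) = 0) F (Points.ofPt a u) ↔
      ringKrullDim ↥(U.left.presheaf.stalk u) = 0 :=
  hasAt_iff hF (Q := fun U u => ringKrullDim ↥(U.presheaf.stalk u) = 0) (fun A B e he p => by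
    haveI : Etale e := he
    rw [ringKrullDim_stalk_eq_of_etale e p]) ha u

theorem finite_of_space {X Y : Space S} (h : EtaleLocally (fun U => FinIrred U) X.obj) (g : Y ⟶ X)
    (hg : IsEtaleMor g.hom) (hqc : IsQuasiCompactSp Y.obj) :
    {y : Points Y.obj | HasAt (fun U u => ringKrullDim ↥(U.presheaf.stalk u) = 0) Y.obj y}.Finite ∧
      (irreducibleComponents (Points Y.obj)).Finite := by
  obtain ⟨W, a, hW, ha, has⟩ := exists_affine_surjective_chart Y.property hqc
  haveI := hW
  have hag : RepWith @Etale (a ≫ g.hom) := EtLocal.etale.repWith_of_locP X.property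
    (representable_of_source_scheme X.property _)
    (EtLocal.etale.locP_comp (IsAlgSpace.yon_obj W) Y.property X.property
      (EtLocal.etale.locP_of_repWith Y.property ha) (locP_of_isEtaleMor X.property hg))
  have hfin := finite_components_of_compact (chart h _ hag)
  refine ⟨((finite_dim_zero hfin).image (Points.ofPt a)).subset fun y hy => ?_,
    finite_components_of_surjective (Points.continuous_ofPt a) (surjective_ofPt_of_repWith has) hfin⟩
  obtain ⟨w, rfl⟩ := surjective_ofPt_of_repWith has y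
  exact ⟨w, (codimZero_iff Y.property ha w).1 hy, rfl⟩

theorem of_spaces {X : Space S}
    (h : ∀ (T : Over S) (g : (yon S).obj T ⟶ X.obj), RepWith @Etale g → IsQuasiCompactSp ((yon S).obj T) →
      (irreducibleComponents ↥T.left).Finite) :
    EtaleLocally (fun U => FinIrred U) X.obj := by
  obtain ⟨V, b, hb, hbs⟩ := X.property.atlas
  refine ⟨V, b, hb, hbs, fun W hW => ?_⟩
  haveI : CompactSpace ↥(Over.mk (W.ι ≫ V.hom)).left := isCompact_iff_compactSpace.1 hW
  exact h (Over.mk (W.ι ≫ V.hom)) ((yon S).map (Over.homMk W.ι rfl) ≫ b)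
    (repWith_comp ((repWith_yon_map_iff _ _).2 (inferInstanceAs (Etale W.ι))) hb) (isQuasiCompactSp_yon _)

end GrothLib.AlgSp.FinIrred
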