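import Groth.Agent.Lib.AlgSp.UnramMono
import Groth.Agent.Lib.AlgSp.Quotient
import Groth.Agent.Lib.LocProp.Stalk
import Groth.Agent.Lib.FibreFlat.Fibrewise
import Groth.Agent.Lib.Fitting.Support
import Groth.Agent.Lib.AlgSt.SepDense
import Groth.Agent.Lib.AlgSp.FieldBase
import Groth.Agent.Lib.DiagGrp.KernelFP
import Groth.Agent.Lib.Constr.Basic
import Mathlib.RingTheory.Extension.Cotangent.Basic
import Mathlib.RingTheory.Spectrum.Prime.Chevalley

/-!
# The locus where a space with a section over a scheme is trivial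
-/

set_option backward.isDefEq.respectTransparency false

universe u

open CategoryTheory CategoryTheory.Limits AlgebraicGeometry TopologicalSpace Topology

namespace GrothLib.AlgSp.TrivLocus

section Scheme

variable {W U : Scheme.{u}} (h : W ⟶ U) [LocallyOfFiniteType h]

/-- The open subscheme where a morphism is unramified. -/
def unrOpen : W.Opens where
  carrier := {w | (h.stalkMap w).hom.FormallyUnramified}
  is_open' := by
    refine isOpen_iff_forall_mem_open.2 fun w hw => ?_
    obtain ⟨O, hwO, hO⟩ := (GrothLib.LocProp.formallyUnramified_nhd_iff h w).2 hw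
    exact ⟨O, fun v hv => (GrothLib.LocProp.formallyUnramified_nhd_iff h v).1 ⟨O, hv, hO⟩, O.2, hwO⟩

theorem mem_unrOpen {w : W} : w ∈ unrOpen h ↔ (h.stalkMap w).hom.FormallyUnramified := Iff.rfl

theorem formallyUnramified_of_le_unrOpen {O : W.Opens} (hO : O ≤ unrOpen h) : FormallyUnramified (O.ι ≫ h) := by
  have hn : ∀ v : O.toScheme, ∃ Q : O.toScheme.Opens, v ∈ Q ∧ FormallyUnramified (Q.ι ≫ O.ι ≫ h) := fun v =>
    (GrothLib.LocProp.formallyUnramified_nhd_iff (O.ι ≫ h) v).2
      ((GrothLib.LocProp.stalkMap_comp_ι_iff RingHom.FormallyUnramified.respectsIso O.ι h v).2 (hO v.2))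
  choose Q hQ hQu using hn
  haveI : IsZariskiLocalAtSource (@FormallyUnramified : MorphismProperty Scheme.{u}) :=
    HasRingHomProperty.instIsZariskiLocalAtSource
  rw [IsZariskiLocalAtSource.iff_of_iSup_eq_top (P := @FormallyUnramified) Q
    (top_le_iff.mp fun v _ => TopologicalSpace.Opens.mem_iSup.mpr ⟨v, hQ v⟩)]
  exact hQu

theorem mem_unrOpen_iff_isUnramifiedAt [IsAffine W] [IsAffine U] (w : W) :
    letI := (h.appLE ⊤ ⊤ le_top).hom.toAlgebra
    w ∈ unrOpen h ↔
      Algebra.IsUnramifiedAt Γ(U, ⊤) ((isAffineOpen_top W).primeIdealOf ⟨w, trivial⟩).asIdeal := by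
  have hft := h.finiteType_appLE (isAffineOpen_top U) (isAffineOpen_top W) le_top
  algebraize [(h.appLE ⊤ ⊤ le_top).hom]
  let p := ((isAffineOpen_top U).primeIdealOf ⟨h w, trivial⟩).asIdeal
  let q := ((isAffineOpen_top W).primeIdealOf ⟨w, trivial⟩).asIdeal
  have : q.LiesOver p :=
    ⟨congr($(IsAffineOpen.comap_primeIdealOf_appLE ⊤ (isAffineOpen_top U) ⊤ (isAffineOpen_top W) le_top
      (x := w) trivial).1).symm⟩
  let := Localization.AtPrime.algebraOfLiesOver p q
  rw [mem_unrOpen, RingHom.FormallyUnramified.respectsIso.arrow_mk_iso_iff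
    (IsAffineOpen.arrowStalkMapIso h ⊤ (isAffineOpen_top U) ⊤ (isAffineOpen_top W) le_top (x := w) trivial)]
  change (algebraMap (Localization.AtPrime p) (Localization.AtPrime q)).FormallyUnramified ↔ _
  rw [RingHom.formallyUnramified_algebraMap]
  exact ⟨fun _ => Algebra.FormallyUnramified.comp _ (Localization.AtPrime p) _,
    fun _ => Algebra.FormallyUnramified.of_restrictScalars Γ(U, ⊤) _ _⟩

theorem isCompact_unrOpen [LocallyOfFinitePresentation h] [IsAffine W] [IsAffine U] :
    IsCompact (unrOpen h : Set W) := by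
  have hfp := h.finitePresentation_appLE (isAffineOpen_top U) (isAffineOpen_top W) le_top
  algebraize [(h.appLE ⊤ ⊤ le_top).hom]
  let L := Algebra.unramifiedLocus Γ(U, ⊤) Γ(W, ⊤)
  have hL : IsCompact L := by
    have e : L = (PrimeSpectrum.zeroLocus (Fitt.ideal Γ(W, ⊤) Ω[Γ(W, ⊤)⁄Γ(U, ⊤)] 0 : Set Γ(W, ⊤)))ᶜ := by
      rw [GrothLib.Fitting.zeroLocus_ideal_zero]
      exact Algebra.unramifiedLocus_eq_compl_support
    exact (PrimeSpectrum.isCompact_isOpen_iff_ideal.2 ⟨_, GrothLib.Fitting.ideal_fg 0, e.symm⟩).1
  let φ : W ≅ Spec Γ(W, ⊤) := W.isoSpec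
  have e : (unrOpen h : Set W) = φ.hom ⁻¹' L := by
    ext w
    refine (mem_unrOpen_iff_isUnramifiedAt h w).trans ?_
    have : (isAffineOpen_top W).primeIdealOf ⟨w, trivial⟩ = φ.hom w := by
      apply φ.inv.homeomorph.injective
      change φ.inv _ = φ.inv (φ.hom w)
      rw [← Scheme.Hom.comp_apply, φ.hom_inv_id]
      have := (isAffineOpen_top W).fromSpec_primeIdealOf ⟨w, trivial⟩
      rw [IsAffineOpen.fromSpec_top] at this
      exact this
    rw [this]
    rfl
  rw [e]
  exact φ.hom.homeomorph.isCompact_preimage.2 hL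

/-- A morphism is unramified along a fibre which is unramified over the residue field. -/
theorem mem_unrOpen_of_fibre (w : W) (hf : FormallyUnramified (pullback.snd h (Scheme.Hom.fiberι (𝟙 U) (h w)))) :
    w ∈ unrOpen h := by
  haveI : FormallyUnramified (MoreMor.fiberMap h (𝟙 U) ((𝟙 U) (h w))) :=
    (GrothLib.FibreFlat.prop_fiberMap_iff h (𝟙 U) _).mpr hf
  exact GrothLib.FibreFlat.formallyUnramified_stalkMap_of_fibrewise h (𝟙 U) w
    ((h ≫ 𝟙 U).asFiber w) ((h ≫ 𝟙 U).fiberι_asFiber w) (FormallyUnramified.stalkMap _ _)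

end Scheme

open _root_.AlgSp

variable {S : Scheme.{u}} {F : Sp S} {U : Over S}

/-- All sections over a base scheme agree. -/
def Triv (π : F ⟶ (yon S).obj U) {T : Over S} (g : T ⟶ U) : Prop :=
  ∀ (T' : Over S) (l : T' ⟶ T) (s s' : (yon S).obj T' ⟶ F),
    s ≫ π = (yon S).map (l ≫ g) → s' ≫ π = (yon S).map (l ≫ g) → s = s'

variable {π : F ⟶ (yon S).obj U}

theorem Triv.comp {T T' : Over S} {g : T ⟶ U} (h : Triv π g) (l : T' ⟶ T) : Triv π (l ≫ g) :=
  fun T'' l' s s' hs hs' => h T'' (l' ≫ l) s s' (by simpa using hs) (by simpa using hs')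

/-- Maps to a separated space agreeing on a dense subscheme agree. -/
theorem eq_of_agree (hπ : IsSeparatedMor π) {P V : Over S} (j : V ⟶ P) [IsSchemeTheoreticallyDominant j.left]
    (a b : (yon S).obj P ⟶ F) (hab : a ≫ π = b ≫ π) (hj : (yon S).map j ≫ a = (yon S).map j ≫ b) : a = b := by
  let g : (yon S).obj P ⟶ pullback π π := pullback.lift a b hab
  have hπ' : RepWith @IsClosedImmersion (pullback.diagonal π) := hπ
  obtain ⟨Z, fst, c, sq⟩ := exists_isPullback_of_representable hπ'.1 g
  have : IsClosedImmersion c.left := hπ'.2 g fst c sq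
  have hw : ((yon S).map j ≫ a) ≫ pullback.diagonal π = (yon S).map j ≫ g := by
    apply pullback.hom_ext
    · simp [g]
    · simp only [g, Category.assoc, pullback.diagonal_snd, pullback.lift_snd, Category.comp_id]
      exact hj
  let l := sq.lift _ _ hw
  obtain ⟨l', hl'⟩ := (yon S).map_surjective l
  have hl : l' ≫ c = j := (yon S).map_injective (by rw [Functor.map_comp, hl']; exact sq.lift_snd _ _ hw)
  have := GrothLib.SchDense.isIso_of_factor c.left j.left l'.left (by rw [← Over.comp_left, hl])
  have : IsIso ((Over.forget S).map c) := this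
  have : IsIso c := isIso_of_reflects_iso c (Over.forget S)
  rw [← cancel_epi ((yon S).map c)]
  have h1 := congrArg (fun q => q ≫ pullback.fst π π) sq.w
  have h2 := congrArg (fun q => q ≫ pullback.snd π π) sq.w
  simp only [g, Category.assoc, pullback.diagonal_fst, pullback.diagonal_snd, pullback.lift_fst,
    pullback.lift_snd, Category.comp_id] at h1 h2
  rw [← h1, ← h2]

/-- The point of a scheme over the base. -/
noncomputable abbrev pt (U : Over S) (t : U.left) : Over S := Over.mk (U.left.fromSpecResidueField t ≫ U.hom)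

/-- The inclusion of a point. -/
noncomputable abbrev ptι (U : Over S) (t : U.left) : pt U t ⟶ U := Over.homMk (U.left.fromSpecResidueField t) rfl

/-- Triviality at a point descends along field extensions. -/
theorem triv_pt (hπ : IsSeparatedMor π) {T : Over S} {g : T ⟶ U} (h : Triv π g) (p : T.left) :
    Triv π (ptι U (g.left p)) := by
  intro T' l s s' hs hs'
  let ρ : Spec (T.left.residueField p) ⟶ Spec (U.left.residueField (g.left p)) := Spec.map (g.left.residueFieldMap p)
  have hρ : IsSchemeTheoreticallyDominant ρ := by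
    have : Surjective ρ := ⟨fun y => ⟨default, Subsingleton.elim _ _⟩⟩
    exact .of_isDominant ρ
  have : Flat l.left := GrothLib.AlgSp.flat_to_field (k := U.left.residueField (g.left p)) l.left
  let P : Over S := Over.mk (pullback.fst l.left ρ ≫ T'.hom)
  let j : P ⟶ T' := Over.homMk (pullback.fst l.left ρ) rfl
  have : IsSchemeTheoreticallyDominant j.left := IsSchemeTheoreticallyDominant.pullbackFst l.left ρ
  have e : ρ ≫ U.left.fromSpecResidueField (g.left p) = T.left.fromSpecResidueField p ≫ g.left :=
    Scheme.Hom.SpecMap_residueFieldMap_fromSpecResidueField _ _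
  let k : P ⟶ T := Over.homMk (pullback.snd l.left ρ ≫ T.left.fromSpecResidueField p) (by
    change (pullback.snd l.left ρ ≫ T.left.fromSpecResidueField p) ≫ T.hom = pullback.fst l.left ρ ≫ T'.hom
    rw [← Over.w g, Category.assoc, ← Category.assoc (T.left.fromSpecResidueField p), ← e, Category.assoc,
      ← pullback.condition_assoc]
    exact congrArg (pullback.fst l.left ρ ≫ ·) (Over.w l))
  have hk : k ≫ g = j ≫ l ≫ ptι U (g.left p) := Over.OverMorphism.ext (by
    change (pullback.snd l.left ρ ≫ T.left.fromSpecResidueField p) ≫ g.left =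
      pullback.fst l.left ρ ≫ l.left ≫ U.left.fromSpecResidueField (g.left p)
    rw [Category.assoc, ← e, pullback.condition_assoc])
  refine eq_of_agree hπ j s s' (hs.trans hs'.symm) (h P k _ _ ?_ ?_) <;>
    rw [Category.assoc, hk, Functor.map_comp _ j]
  · rw [hs]
  · rw [hs']

theorem map_ofPt_of_comp {W : Over S} (a : (yon S).obj W ⟶ F) (h : W ⟶ U) (hh : a ≫ π = (yon S).map h) (w : W.left) :
    (Points.schemeHomeo U).symm (Points.map π (Points.ofPt a w)) = h.left w := by
  rw [Homeomorph.symm_apply_eq, Points.map_ofPt, hh, Points.ofPt_eq_map_ofScheme]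
  exact map_yon_ofPt h w

theorem isLocallySurjective_of_etale {Q T : Over S} (q : Q ⟶ T) [Etale q.left] [Surjective q.left] :
    Sheaf.IsLocallySurjective ((yon S).map q) :=
  isLocallySurjective_of_lifts fun V g => by
    obtain ⟨g, rfl⟩ := (yon S).map_surjective g
    let P : Over S := Over.mk (pullback.fst g.left q.left ≫ V.hom)
    let c : P ⟶ V := Over.homMk (pullback.fst g.left q.left) rfl
    let l : P ⟶ Q := Over.homMk (pullback.snd g.left q.left) (by
      change pullback.snd g.left q.left ≫ Q.hom = pullback.fst g.left q.left ≫ V.hom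
      rw [← Over.w q, ← pullback.condition_assoc, Over.w g])
    refine ⟨P, c, (yon S).map l, ?_, ?_, ?_, ?_⟩
    · exact inferInstanceAs (Flat (pullback.fst g.left q.left))
    · exact inferInstanceAs (LocallyOfFinitePresentation (pullback.fst g.left q.left))
    · exact inferInstanceAs (Surjective (pullback.fst g.left q.left))
    · rw [← Functor.map_comp, ← Functor.map_comp]
      exact congrArg _ (Over.OverMorphism.ext pullback.condition.symm)

/-- The locus of triviality of a separated universally closed space with a section. -/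
theorem exists_locus (hF : IsAlgSpace F) (e : (yon S).obj U ⟶ F) (he : e ≫ π = 𝟙 _) (hsep : IsSeparatedMor π)
    (hlfp : LocP @LocallyOfFinitePresentation π) (huc : IsUnivClosedMor π) {W : Over S}
    (a : (yon S).obj W ⟶ F) (ha : RepWith @Etale a) (has : RepWith @Surjective a) :
    ∃ V : U.left.Opens, (∀ (T : Over S) (g : T ⟶ U), Triv π g ↔ Set.range g.left ⊆ V) ∧
      (IsAffine W.left → IsAffine U.left → IsCompact (V : Set U.left)) := by
  have hes : RepWith @IsClosedImmersion e := repWith_section π e he hsep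
  obtain ⟨U', fst, c, sq⟩ := exists_isPullback_of_representable hes.1 a
  obtain ⟨k, rfl⟩ := (yon S).map_surjective fst
  have : IsClosedImmersion c.left := hes.2 _ _ _ sq
  have hk : Etale k.left := ha.2 e ((yon S).map c) k sq.flip
  let h : W ⟶ U := (yon S).preimage (a ≫ π)
  have hh : a ≫ π = (yon S).map h := ((yon S).map_preimage _).symm
  have hhfp : LocallyOfFinitePresentation h.left :=
    hlfp a (𝟙 _) h ha (repWith_id _ U) (by rw [hh, Category.comp_id])
  have hck : c ≫ h = k := (yon S).map_injective (by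
    rw [Functor.map_comp, ← hh, ← sq.w_assoc, he, Category.comp_id])
  let Eo : W.left.Opens := unrOpen h.left
  let Rc : Set W.left := Set.range c.left
  -- the section is an open immersion over the unramified locus
  have : FormallyUnramified (Eo.ι ≫ h.left) := formallyUnramified_of_le_unrOpen _ le_rfl
  have hopen : IsOpenImmersion (c.left ∣_ Eo) := by
    have : Etale ((c.left ∣_ Eo) ≫ Eo.ι ≫ h.left) := by
      rw [morphismRestrict_ι_assoc, show c.left ≫ h.left = k.left from congrArg CommaMorphism.left hck]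
      infer_instance
    have := Etale.of_comp (c.left ∣_ Eo) (Eo.ι ≫ h.left)
    exact IsOpenImmersion.of_flat_of_mono _
  let E : W.left.Opens := ⟨Set.range ((c.left ∣_ Eo) ≫ Eo.ι),
    ((c.left ∣_ Eo) ≫ Eo.ι).isOpenEmbedding.isOpen_range⟩
  have hE : (E : Set W.left) = Rc ∩ Eo := by
    change Set.range ((c.left ∣_ Eo) ≫ Eo.ι) = _
    rw [morphismRestrict_ι]
    change Set.range (c.left ∘ (c.left ⁻¹ᵁ Eo).ι) = _
    rw [Set.range_comp, Scheme.Opens.range_ι]
    change c.left '' (c.left ⁻¹' (Eo : Set W.left)) = _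
    exact Set.image_preimage_eq_range_inter
  let EW : Over S := Over.mk (E.ι ≫ W.hom)
  let jE : EW ⟶ W := Over.homMk E.ι rfl
  have hr : Set.range E.ι ⊆ Set.range ((c.left ∣_ Eo) ≫ Eo.ι) := by rw [Scheme.Opens.range_ι]; rfl
  let r₀ : E.toScheme ⟶ U'.left := IsOpenImmersion.lift ((c.left ∣_ Eo) ≫ Eo.ι) E.ι hr ≫ (c.left ⁻¹ᵁ Eo).ι
  have hr₀ : r₀ ≫ c.left = E.ι := by
    rw [Category.assoc, ← morphismRestrict_ι, IsOpenImmersion.lift_fac]
  let r : EW ⟶ U' := Over.homMk r₀ (by
    change r₀ ≫ U'.hom = E.ι ≫ W.hom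
    rw [← Over.w c, reassoc_of% hr₀])
  have hrc : r ≫ c = jE := Over.OverMorphism.ext hr₀
  let b : (yon S).obj EW ⟶ F := (yon S).map jE ≫ a
  have hb : RepWith @Etale b := repWith_comp ((repWith_yon_map_iff _ jE).2 (inferInstanceAs (Etale E.ι))) ha
  let AE : Set (Points F) := Points.ofPt a '' (E : Set W.left)
  let B : Set U.left := Points.schemeHomeo U ⁻¹' (Points.map π '' AEᶜ)
  have hB : IsClosed B := by
    have hcl : IsClosedMap (Points.map π) := huc (IsAlgSpace.yon_obj U) (𝟙 _) (𝟙 F) π IsPullback.of_id_fst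
    exact (hcl _ ((isOpenMap_ofPt_of_etale ha) _ E.2).isClosed_compl).preimage (Points.schemeHomeo U).continuous
  let V : U.left.Opens := ⟨Bᶜ, hB.isOpen_compl⟩
  -- over the locus all sections are trivial
  have hpos : ∀ (T : Over S) (g : T ⟶ U), Set.range g.left ⊆ V → Triv π g := by
    intro T g hg T' l
    suffices key : ∀ s, s ≫ π = (yon S).map (l ≫ g) → s = (yon S).map (l ≫ g) ≫ e from
      fun s s' hs hs' => (key s hs).trans (key s' hs').symm
    intro s hs
    obtain ⟨Q, fst, q, sqb⟩ := exists_isPullback_of_representable hb.1 s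
    obtain ⟨w₀, rfl⟩ := (yon S).map_surjective fst
    have : Etale q.left := hb.2 s _ q sqb
    have : Surjective q.left := by
      refine ⟨fun p => ?_⟩
      have hz : Points.ofPt s p ∈ AE := by
        by_contra hn
        refine hg ⟨l.left p, rfl⟩ ⟨_, hn, ?_⟩
        rw [Points.map_ofPt, hs, Points.ofPt_eq_map_ofScheme]
        exact map_yon_ofPt (l ≫ g) p
      obtain ⟨w, hw, hwz⟩ := hz
      obtain ⟨w', hw'⟩ : w ∈ Set.range E.ι := by rw [Scheme.Opens.range_ι]; exact hw
      obtain ⟨z, -, hz'⟩ := exists_ofPt_of_map_eq sqb (z := Points.ofScheme EW w') (t := p) (by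
        rw [← Points.ofPt_eq_map_ofScheme, ofPt_map_comp]
        exact (congrArg (Points.ofPt a) hw').trans hwz)
      exact ⟨z, hz'⟩
    have := isLocallySurjective_of_etale q
    have : Epi ((yon S).map q) := (Sheaf.isLocallySurjective_iff_epi _).1 inferInstance
    rw [← cancel_epi ((yon S).map q)]
    have h1 : (yon S).map q ≫ s = (yon S).map (w₀ ≫ r ≫ k) ≫ e := by
      rw [← sqb.w]
      simp only [b, ← hrc, Functor.map_comp, Category.assoc, sq.w]
    have h2 : w₀ ≫ r ≫ k = q ≫ l ≫ g := (yon S).map_injective (by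
      have := congrArg (· ≫ π) h1
      simp only [Category.assoc, hs, he, Category.comp_id] at this
      rw [← this, Functor.map_comp _ q])
    rw [h1, h2, Functor.map_comp _ q, Category.assoc]
  -- at a point of triviality all points of the chart lie on the good part
  have hneg : ∀ w : W.left, Triv π (ptι U (h.left w)) → w ∈ E := by
    intro w hT
    let t := h.left w
    let ι₀ := Scheme.Hom.fiberι (𝟙 U.left) t
    let σ : Scheme.Hom.fiber (𝟙 U.left) t ⟶ Spec (U.left.residueField t) :=
      Scheme.Hom.fiberToSpecResidueField (𝟙 U.left) t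
    have hσ : σ ≫ U.left.fromSpecResidueField t = ι₀ := by
      change pullback.snd (𝟙 U.left) (U.left.fromSpecResidueField t) ≫ _ = pullback.fst (𝟙 U.left) _
      rw [← pullback.condition, Category.comp_id]
    let P : Over S := Over.mk (pullback.fst h.left ι₀ ≫ W.hom)
    let f : P ⟶ W := Over.homMk (pullback.fst h.left ι₀) rfl
    let l : P ⟶ pt U t := Over.homMk (pullback.snd h.left ι₀ ≫ σ) (by
      change (pullback.snd h.left ι₀ ≫ σ) ≫ U.left.fromSpecResidueField t ≫ U.hom = pullback.fst h.left ι₀ ≫ W.hom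
      rw [Category.assoc, reassoc_of% hσ, ← pullback.condition_assoc, Over.w h])
    have hfl : f ≫ h = l ≫ ptι U t := Over.OverMorphism.ext (by
      change pullback.fst h.left ι₀ ≫ h.left = (pullback.snd h.left ι₀ ≫ σ) ≫ U.left.fromSpecResidueField t
      rw [Category.assoc, hσ, pullback.condition])
    have hse : (yon S).map f ≫ a = (yon S).map (l ≫ ptι U t) ≫ e := hT P l _ _
      (by rw [Category.assoc, hh, ← Functor.map_comp, hfl]) (by rw [Category.assoc, he, Category.comp_id])
    obtain ⟨m, hm⟩ := (yon S).map_surjective (sq.lift ((yon S).map (l ≫ ptι U t)) ((yon S).map f) hse.symm)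
    have hmc : m ≫ c = f := (yon S).map_injective (by rw [Functor.map_comp, hm]; exact sq.lift_snd _ _ _)
    have hmc' : m.left ≫ c.left = pullback.fst h.left ι₀ := congrArg CommaMorphism.left hmc
    have hck' : c.left ≫ h.left = k.left := congrArg CommaMorphism.left hck
    let m' : pullback h.left ι₀ ⟶ pullback k.left ι₀ :=
      pullback.lift m.left (pullback.snd h.left ι₀) (by rw [← hck', reassoc_of% hmc', pullback.condition])
    let c' : pullback k.left ι₀ ⟶ pullback h.left ι₀ :=
      pullback.lift (pullback.fst k.left ι₀ ≫ c.left) (pullback.snd k.left ι₀)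
        (by rw [Category.assoc, hck', pullback.condition])
    have hsplit : m' ≫ c' = 𝟙 _ := by
      apply pullback.hom_ext <;> simp [m', c', hmc']
    have : Mono m' := mono_of_mono_fac hsplit
    have : IsIso (pullback.diagonal m') := (pullback.isIso_diagonal_iff m').2 inferInstance
    have hfu : FormallyUnramified (pullback.snd h.left ι₀) := by
      rw [show pullback.snd h.left ι₀ = m' ≫ pullback.snd k.left ι₀ from (pullback.lift_snd _ _ _).symm]
      exact MorphismProperty.comp_mem _ _ _ inferInstance inferInstance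
    have hw : w ∈ Eo := mem_unrOpen_of_fibre h.left w hfu
    have hwc : w ∈ Rc := by
      obtain ⟨z, hz⟩ : w ∈ Set.range (pullback.fst h.left ι₀) := by
        rw [Scheme.Pullback.range_fst]
        exact ⟨Scheme.Hom.asFiber (𝟙 U.left) t, Scheme.Hom.fiberι_asFiber (𝟙 U.left) t⟩
      exact ⟨m.left z, by rw [← Scheme.Hom.comp_apply, hmc']; exact hz⟩
    change w ∈ (E : Set W.left)
    rw [hE]
    exact ⟨hwc, hw⟩
  refine ⟨V, fun T g => ⟨fun hT => ?_, hpos T g⟩, fun hW hU => ?_⟩
  · rintro _ ⟨p, rfl⟩ ⟨z, hz, hzp⟩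
    obtain ⟨w, rfl⟩ := surjective_ofPt_of_repWith has z
    have hwp : h.left w = g.left p := by
      rw [← map_ofPt_of_comp a h hh w, hzp]
      exact (Points.schemeHomeo U).symm_apply_apply _
    exact hz ⟨w, hneg w (hwp ▸ triv_pt hsep hT p), rfl⟩
  · have : IsAffine W.left := hW
    have : IsAffine U.left := hU
    have hBeq : B = h.left '' (E : Set W.left)ᶜ := by
      ext t
      constructor
      · rintro ⟨z, hz, hzt⟩
        obtain ⟨w, rfl⟩ := surjective_ofPt_of_repWith has z
        refine ⟨w, fun hw => hz ⟨w, hw, rfl⟩, ?_⟩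
        rw [← map_ofPt_of_comp a h hh w, hzt]
        exact (Points.schemeHomeo U).symm_apply_apply _
      · rintro ⟨w, hw, rfl⟩
        by_contra hn
        refine hw (hneg w (hpos _ _ ?_))
        rintro _ ⟨x, rfl⟩
        rw [show (ptι U (h.left w)).left x = h.left w from Scheme.fromSpecResidueField_apply _ _]
        exact hn
    have hc : IsAffine U'.left := isAffine_of_isAffineHom c.left
    have : LocallyOfFinitePresentation c.left := by
      have : LocallyOfFinitePresentation (c.left ≫ h.left) := by rw [← Over.comp_left, hck]; infer_instance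
      exact GrothLib.DiagGrp.lfp_of_comp_of_lft c.left h.left inferInstance inferInstance
    have hR : IsConstructible Rc := by
      rw [show Rc = c.left '' Set.univ from Set.image_univ.symm]
      exact (c.left.isLocallyConstructible_image IsLocallyConstructible.univ).isConstructible
    have hEc : IsConstructible (Eo : Set W.left) :=
      ((isCompact_unrOpen h.left).isRetrocompact Eo.2).isConstructible Eo.2
    have hBc : IsConstructible B := by
      rw [hBeq, hE]
      exact (h.left.isLocallyConstructible_image (hR.inter hEc).compl.isLocallyConstructible).isConstructible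
    change IsCompact Bᶜ
    rw [← Set.image_id Bᶜ]
    exact @IsCompact.image _ _ (constructibleTopology U.left) _ _ id
      (GrothLib.Constr.isCompact_constructibleTopology_of_isClosed
        (GrothLib.Constr.isClosed_constructibleTopology_of_isConstructible hBc.compl))
      GrothLib.Constr.continuous_id_constructibleTopology

end GrothLib.AlgSp.TrivLocus
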