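import Groth.Agent.Lib.AlgSp.Quotient
import Groth.Agent.Lib.AlgSp.TrivLocus
import Groth.Agent.Lib.AlgSp.AffineDescent
import Groth.Agent.Lib.AlgSp.FppfDescent
import Groth.Agent.Lib.AlgSp.LqfScheme
import Groth.Agent.Lib.GrpdQuot.QuotCriteria

/-!
# Quotients by finite etale kernel pairs

* `kerGrpd`: the groupoid scheme of the kernel pair of a map from a scheme to a sheaf.
* `isRepresentable_of_finite_kernelPair`: a sheaf with an etale cover whose kernel pair is finite over a cover in
  which finite sets lie in affine opens is a scheme.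
-/

universe u

open CategoryTheory CategoryTheory.Limits AlgebraicGeometry

namespace GrothLib.AlgSp

open _root_.AlgSp

variable {S : Scheme.{u}} {F : Sp S} {U R : Over S} {t s : R ⟶ U} {a : (yon S).obj U ⟶ F}
  (sq : IsPullback ((yon S).map t) ((yon S).map s) a a)

theorem ker_ext_over (sq : IsPullback ((yon S).map t) ((yon S).map s) a a) {T : Over S} {α β : T ⟶ R}
    (h₁ : α ≫ t = β ≫ t) (h₂ : α ≫ s = β ≫ s) : α = β :=
  (yon S).map_injective (sq.hom_ext (by rw [← Functor.map_comp, ← Functor.map_comp, h₁])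
    (by rw [← Functor.map_comp, ← Functor.map_comp, h₂]))

theorem ker_ext (sq : IsPullback ((yon S).map t) ((yon S).map s) a a) {T : Scheme.{u}} {α β : T ⟶ R.left}
    (h₁ : α ≫ t.left = β ≫ t.left) (h₂ : α ≫ s.left = β ≫ s.left) : α = β := by
  have hw : β ≫ R.hom = α ≫ R.hom := by
    rw [← Over.w s, ← Category.assoc, ← h₂, Category.assoc]
  let A : Over.mk (α ≫ R.hom) ⟶ R := Over.homMk α rfl
  let B : Over.mk (α ≫ R.hom) ⟶ R := Over.homMk β hw
  exact congrArg (fun f => f.left) (ker_ext_over sq (α := A) (β := B) (Over.OverMorphism.ext h₁) (Over.OverMorphism.ext h₂))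

/-- The map to the kernel pair. -/
noncomputable def kerLift {T : Over S} (P Q : T ⟶ U) (h : (yon S).map P ≫ a = (yon S).map Q ≫ a) : T ⟶ R :=
  (yon S).preimage (sq.lift _ _ h)

theorem kerLift_fst {T : Over S} (P Q : T ⟶ U) (h : (yon S).map P ≫ a = (yon S).map Q ≫ a) :
    kerLift sq P Q h ≫ t = P :=
  (yon S).map_injective (by rw [Functor.map_comp, kerLift, Functor.map_preimage, sq.lift_fst])

theorem kerLift_snd {T : Over S} (P Q : T ⟶ U) (h : (yon S).map P ≫ a = (yon S).map Q ≫ a) :
    kerLift sq P Q h ≫ s = Q :=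
  (yon S).map_injective (by rw [Functor.map_comp, kerLift, Functor.map_preimage, sq.lift_snd])

theorem kerLift_fst_left {T : Over S} (P Q : T ⟶ U) (h : (yon S).map P ≫ a = (yon S).map Q ≫ a) :
    (kerLift sq P Q h).left ≫ t.left = P.left :=
  congrArg (fun f => f.left) (kerLift_fst sq P Q h)

theorem kerLift_snd_left {T : Over S} (P Q : T ⟶ U) (h : (yon S).map P ≫ a = (yon S).map Q ≫ a) :
    (kerLift sq P Q h).left ≫ s.left = Q.left :=
  congrArg (fun f => f.left) (kerLift_snd sq P Q h)

variable (R) in
/-- The scheme of composable pairs, over the base. -/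
noncomputable def kerPairs (s t : R ⟶ U) : Over S := Over.mk (pullback.fst s.left t.left ≫ R.hom)

noncomputable def kerPairs₁ (s t : R ⟶ U) : kerPairs R s t ⟶ R := Over.homMk (pullback.fst s.left t.left) rfl

noncomputable def kerPairs₂ (s t : R ⟶ U) : kerPairs R s t ⟶ R :=
  Over.homMk (pullback.snd s.left t.left) (by
    show pullback.snd s.left t.left ≫ R.hom = pullback.fst s.left t.left ≫ R.hom
    rw [← Over.w t, ← Category.assoc, ← pullback.condition, Category.assoc, Over.w s, Over.w t])

include sq in
theorem kerPairs_w : (yon S).map (kerPairs₁ s t ≫ t) ≫ a = (yon S).map (kerPairs₂ s t ≫ s) ≫ a := by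
  have h : kerPairs₁ s t ≫ s = kerPairs₂ s t ≫ t := Over.OverMorphism.ext pullback.condition
  rw [Functor.map_comp, Category.assoc, sq.w, ← Category.assoc, ← Functor.map_comp, h, Functor.map_comp,
    Category.assoc, sq.w, ← Category.assoc, ← Functor.map_comp]

/-- The composition of the kernel pair groupoid. -/
noncomputable def kerComp : pullback s.left t.left ⟶ R.left :=
  (kerLift sq (kerPairs₁ s t ≫ t) (kerPairs₂ s t ≫ s) (kerPairs_w sq)).left

theorem kerComp_fst : kerComp sq ≫ t.left = pullback.fst s.left t.left ≫ t.left :=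
  kerLift_fst_left sq _ _ _

theorem kerComp_snd : kerComp sq ≫ s.left = pullback.snd s.left t.left ≫ s.left :=
  kerLift_snd_left sq _ _ _

/-- The unit of the kernel pair groupoid. -/
noncomputable def kerUnit : U.left ⟶ R.left := (kerLift sq (𝟙 U) (𝟙 U) rfl).left

theorem kerUnit_fst : kerUnit sq ≫ t.left = 𝟙 _ := kerLift_fst_left sq _ _ _

theorem kerUnit_snd : kerUnit sq ≫ s.left = 𝟙 _ := kerLift_snd_left sq _ _ _

/-- The inverse of the kernel pair groupoid. -/
noncomputable def kerInv : R.left ⟶ R.left := (kerLift sq s t sq.w.symm).left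

theorem kerInv_fst : kerInv sq ≫ t.left = s.left := kerLift_fst_left sq _ _ _

theorem kerInv_snd : kerInv sq ≫ s.left = t.left := kerLift_snd_left sq _ _ _

/-- The groupoid scheme of a kernel pair. -/
noncomputable def kerGrpd : Grpd.GroupoidScheme S where
  U := U.left
  R := R.left
  pU := U.hom
  pR := R.hom
  s := s.left
  t := t.left
  e := kerUnit sq
  i := kerInv sq
  c := kerComp sq
  s_over := Over.w s
  t_over := Over.w t
  comp_s α β h := by
    rw [Category.assoc, kerComp_snd, pullback.lift_snd_assoc]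
  comp_t α β h := by
    rw [Category.assoc, kerComp_fst, pullback.lift_fst_assoc]
  assoc α β γ h₁ h₂ := by
    refine ker_ext sq ?_ ?_ <;>
      simp only [Category.assoc, kerComp_fst, kerComp_snd, pullback.lift_fst_assoc, pullback.lift_snd_assoc]
  e_s := kerUnit_snd sq
  e_t := kerUnit_fst sq
  comp_e α := by
    refine ker_ext sq ?_ ?_ <;>
      simp only [Category.assoc, kerComp_fst, kerComp_snd, kerUnit_fst, kerUnit_snd, pullback.lift_fst_assoc,
        pullback.lift_snd_assoc, Category.comp_id]
  e_comp α := by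
    refine ker_ext sq ?_ ?_ <;>
      simp only [Category.assoc, kerComp_fst, kerComp_snd, kerUnit_fst, kerUnit_snd, pullback.lift_fst_assoc,
        pullback.lift_snd_assoc, Category.comp_id]
  i_s := kerInv_snd sq
  i_t := kerInv_fst sq
  comp_i α := by
    refine ker_ext sq ?_ ?_ <;>
      simp only [Category.assoc, kerComp_fst, kerComp_snd, kerUnit_fst, kerUnit_snd, kerInv_fst, kerInv_snd,
        pullback.lift_fst_assoc, pullback.lift_snd_assoc, Category.comp_id]
  i_comp α := by
    refine ker_ext sq ?_ ?_ <;>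
      simp only [Category.assoc, kerComp_fst, kerComp_snd, kerUnit_fst, kerUnit_snd, kerInv_fst, kerInv_snd,
        pullback.lift_fst_assoc, pullback.lift_snd_assoc, Category.comp_id]

/-- A sheaf with an etale cover whose kernel pair is finite is a scheme, if finite subsets of the cover lie in
affine opens. -/
theorem isRepresentable_of_finite_kernelPair (sq : IsPullback ((yon S).map t) ((yon S).map s) a a)
    [Sheaf.IsLocallySurjective a] [IsFinite s.left] [Etale s.left]
    (hU : ∀ E : Set ↥U.left, E.Finite → ∃ V : U.left.Opens, IsAffineOpen V ∧ E ⊆ V) :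
    F.obj.IsRepresentable := by
  let G := kerGrpd sq
  haveI : IsFinite G.s := ‹IsFinite s.left›
  haveI : Flat G.s := (inferInstance : Flat s.left)
  haveI : LocallyOfFinitePresentation G.s := (inferInstance : LocallyOfFinitePresentation s.left)
  haveI : Mono G.j := GrothLib.GrpdQuot.mono_j_of_ext G fun _ _ h₁ h₂ => ker_ext sq h₁ h₂
  have hc : GrothLib.GrpdQuot.Covered G := GrothLib.GrpdQuot.covered_of_closed G fun Z _ hne => by
    obtain ⟨u, hu⟩ := hne
    obtain ⟨V, hV, hEV⟩ := hU _ (GrothLib.GrpdQuot.finite_orbit G u)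
    exact ⟨u, hu, V, hV, fun r hr => hEV ⟨r, hr, rfl⟩⟩
  obtain ⟨M, m, ⟨hm₁, hm₂, hm₃⟩, hms, hpb, -⟩ := GrothLib.GrpdQuot.exists_fppf_quotient G hc
  haveI := hms
  haveI : Etale m.left := fppfDescends_etale m.left m.left t.left s.left hpb hm₂ hm₃ hms ‹Etale s.left›
  let m' : U ⟶ M := m
  haveI : Etale m'.left := ‹Etale m.left›
  haveI : Surjective m'.left := hms
  haveI : Sheaf.IsLocallySurjective ((yon S).map m') := TrivLocus.isLocallySurjective_of_etale m'
  have hpb' : IsPullback t s m' m' := IsPullback.of_map (Over.forget S) (Over.OverMorphism.ext hpb.w) hpb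
  obtain ⟨e, -⟩ := exists_iso_of_kernelPair ((yon S).map m') a
    (isPullback_yon hpb') sq
  exact (representableByOfIso e).isRepresentable

end GrothLib.AlgSp
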