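import Groth.Agent.Lib.AlgSp.GenericDegree
import Groth.Agent.Lib.AlgSp.KernelGrpd
import Groth.Agent.Lib.AlgSp.OpenSub
import Groth.Agent.Lib.AlgSp.Glue

/-!
# Decent spaces have dense open subschemes

* `exists_constant_degree_open`: an affine etale chart of a decent space has constant degree over a nonempty open.
* `isRepresentable_of_constant_degree`: there the space is a scheme.
* `exists_dense_open_subscheme`: decent spaces contain a dense open subscheme.
-/

universe u

open CategoryTheory CategoryTheory.Limits AlgebraicGeometry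

namespace GrothLib.AlgSp

open _root_.AlgSp

variable {S : Scheme.{u}} {X : Sp S}

theorem exists_constant_degree_open (hX : IsAlgSpace X) (hd : IsDecent X) {U : Over S} [IsAffine U.left]
    {a : (yon S).obj U ⟶ X} (ha : RepWith @Etale a) [Nonempty ↥U.left] :
    ∃ (n : ℕ) (N : Set (Points X)), IsOpen N ∧ N.Nonempty ∧ N ⊆ degGE a (n + 1) ∧
      ∀ x ∈ N, x ∉ degGE a (n + 2) := by
  have hU := isAffineOpen_top U.left
  let Bad : ℕ → Prop := fun k => ∃ f : Γ(U.left, ⊤), (U.left.basicOpen f : Set ↥U.left).Nonempty ∧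
    ∀ v ∈ U.left.basicOpen f, Points.ofPt a v ∉ degGE a (k + 1)
  classical
  have hex : ∃ k, Bad k := by
    by_contra hcon
    have hall : ∀ k (f : Γ(U.left, ⊤)), (U.left.basicOpen f : Set ↥U.left).Nonempty →
        ∃ g : Γ(U.left, ⊤), (U.left.basicOpen (f * g) : Set ↥U.left).Nonempty ∧
          (U.left.basicOpen (f * g) : Set ↥U.left) ⊆ Points.ofPt a ⁻¹' degGE a (k + 1) := by
      intro k f hf
      obtain ⟨v, hvf, hv⟩ : ∃ v ∈ U.left.basicOpen f, Points.ofPt a v ∈ degGE a (k + 1) := by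
        by_contra h
        exact hcon ⟨k, f, hf, fun v hv hv' => h ⟨v, hv, hv'⟩⟩
      let V : U.left.Opens := ⟨Points.ofPt a ⁻¹' degGE a (k + 1),
        (isOpen_degGE hX ha k).preimage (Points.continuous_ofPt a)⟩
      obtain ⟨g, hg, hvg⟩ := hU.exists_basicOpen_le (V := V) ⟨v, hv⟩ trivial
      have hmul : U.left.basicOpen (f * g) = U.left.basicOpen f ⊓ U.left.basicOpen g := Scheme.basicOpen_mul _ _ _
      exact ⟨g, ⟨v, hmul ▸ ⟨hvf, hvg⟩⟩, fun y hy => hg (hmul ▸ hy : _).2⟩
    have hone : (U.left.basicOpen (1 : Γ(U.left, ⊤)) : Set ↥U.left).Nonempty :=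
      ⟨Classical.arbitrary _, by rw [Scheme.basicOpen_of_isUnit _ isUnit_one]; trivial⟩
    choose g hg hgsub using hall
    let F : ℕ → {f : Γ(U.left, ⊤) // (U.left.basicOpen f : Set ↥U.left).Nonempty} := fun k =>
      Nat.rec ⟨1, hone⟩ (fun m f => ⟨f.1 * g m f.1 f.2, hg m f.1 f.2⟩) k
    have hF : ∀ k, U.left.basicOpen (F (k + 1)).1 ≤ U.left.basicOpen (F k).1 := fun k => by
      show U.left.basicOpen ((F k).1 * _) ≤ _
      rw [Scheme.basicOpen_mul]; exact inf_le_left
    have hFanti : ∀ {k m}, k ≤ m → U.left.basicOpen (F m).1 ≤ U.left.basicOpen (F k).1 := fun h =>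
      antitone_nat_of_succ_le (f := fun k => U.left.basicOpen (F k).1) hF h
    let M := Submonoid.closure (Set.range fun k => (F k).1)
    have hM : ∀ m ∈ M, ∃ k, U.left.basicOpen (F k).1 ≤ U.left.basicOpen m := by
      intro m hm
      induction hm using Submonoid.closure_induction with
      | mem m hm => obtain ⟨k, rfl⟩ := hm; exact ⟨k, le_rfl⟩
      | one => exact ⟨0, le_rfl⟩
      | mul m m' _ _ ih ih' =>
        obtain ⟨k, hk⟩ := ih
        obtain ⟨k', hk'⟩ := ih'
        refine ⟨max k k', ?_⟩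
        rw [Scheme.basicOpen_mul]
        exact le_inf ((hFanti (le_max_left _ _)).trans hk) ((hFanti (le_max_right _ _)).trans hk')
    have hd' : Disjoint ((⊥ : Ideal Γ(U.left, ⊤)) : Set Γ(U.left, ⊤)) M := Set.disjoint_left.2 fun m hm0 hmM => by
      obtain ⟨k, hk⟩ := hM m hmM
      obtain ⟨z, hz⟩ := (F k).2
      rw [(Submodule.mem_bot _).1 hm0, Scheme.basicOpen_zero] at hk
      exact hk hz
    obtain ⟨P, hP, -, hPM⟩ := Ideal.exists_le_prime_disjoint ⊥ M hd'
    let p : PrimeSpectrum Γ(U.left, ⊤) := ⟨P, hP⟩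
    have hpt : ∀ f : Γ(U.left, ⊤), f ∉ P → hU.fromSpec p ∈ U.left.basicOpen f := fun f hf => by
      show p ∈ hU.fromSpec ⁻¹ᵁ U.left.basicOpen f
      rw [hU.fromSpec_preimage_basicOpen]
      exact hf
    have hpk : ∀ k, Points.ofPt a (hU.fromSpec p) ∈ degGE a (k + 1) := fun k =>
      hgsub k (F k).1 (F k).2 (hpt _ (Set.disjoint_right.1 hPM (Submonoid.subset_closure ⟨k + 1, rfl⟩)))
    obtain ⟨q, hq, -, hqc⟩ := hd (Points.ofPt a (hU.fromSpec p))
    obtain ⟨N, hN⟩ := exists_not_mem_degGE hX ha q hqc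
    exact hN (hq ▸ degGE_antitone (Nat.le_succ N) (hpk N))
  obtain ⟨f, hfne, hf⟩ := Nat.find_spec hex
  rcases hn : Nat.find hex with _ | n
  · obtain ⟨v, hv⟩ := hfne
    rw [hn] at hf
    exact absurd (degGE_one (a := a) ▸ Set.mem_range_self v) (hf v hv)
  · rw [hn] at hf
    obtain ⟨v, hvf, hv⟩ : ∃ v ∈ U.left.basicOpen f, Points.ofPt a v ∈ degGE a (n + 1) := by
      by_contra h
      exact Nat.find_min hex (m := n) (by omega) ⟨f, hfne, fun v hv hv' => h ⟨v, hv, hv'⟩⟩
    exact ⟨n, Points.ofPt a '' U.left.basicOpen f ∩ degGE a (n + 1),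
      (isOpenMap_ofPt_of_etale ha _ (U.left.basicOpen f).isOpen).inter (isOpen_degGE hX ha n),
      ⟨_, ⟨v, hvf, rfl⟩, hv⟩, Set.inter_subset_right, by rintro _ ⟨⟨w, hw, rfl⟩, -⟩; exact hf w hw⟩

theorem universallyClosed_of_sections {T W : Scheme.{u}} (p : T ⟶ W) {ι : Type} [Finite ι] (σ : ι → (W ⟶ T))
    (hσ : ∀ i, σ i ≫ p = 𝟙 W) (hcov : ∀ x : ↥T, ∃ i, x ∈ Set.range (σ i)) : UniversallyClosed p := by
  refine ⟨fun T' W' g g' p' H₀ C hC => ?_⟩
  have H := H₀.flip
  let σ' : ι → (W' ⟶ T') := fun i => H.lift (g' ≫ σ i) (𝟙 W') (by rw [Category.assoc, hσ, Category.comp_id, Category.id_comp])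
  have h₂ : ∀ i, σ' i ≫ p' = 𝟙 W' := fun i => H.lift_snd _ _ _
  have hsurj : ∀ x : ↥T', ∃ i, x ∈ Set.range (σ' i) := by
    intro x
    obtain ⟨i, w, hw⟩ := hcov (g x)
    have sqi : IsPullback g' (σ' i) (σ i) g := by
      refine IsPullback.of_bot (v₂₁ := p') (v₂₂ := p) ?_ (H.lift_fst _ _ _).symm H
      rw [h₂, hσ]
      exact IsPullback.of_id_snd
    obtain ⟨q, -, hq⟩ := Scheme.exists_preimage_of_isPullback sqi w x hw
    exact ⟨i, q, hq⟩
  have e : p' '' C = ⋃ i, σ' i ⁻¹' C := by
    ext w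
    constructor
    · rintro ⟨x, hx, rfl⟩
      obtain ⟨i, w, rfl⟩ := hsurj x
      refine Set.mem_iUnion.2 ⟨i, ?_⟩
      rw [← Scheme.Hom.comp_apply, h₂]
      exact hx
    · intro hw
      obtain ⟨i, hi⟩ := Set.mem_iUnion.1 hw
      exact ⟨σ' i w, hi, by rw [← Scheme.Hom.comp_apply, h₂]; rfl⟩
  rw [e]
  exact isClosed_iUnion_of_finite fun i => hC.preimage (σ' i).continuous

theorem isPullback_of_mono_comp {F G : Sp S} {T U V W : Over S} {ι : G ⟶ F} [Mono ι] {j : U ⟶ V} [Mono j]
    {fst : T ⟶ W} {snd : T ⟶ U} {f : (yon S).obj W ⟶ G} {a' : (yon S).obj U ⟶ G} {a : (yon S).obj V ⟶ F}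
    (hj : a' ≫ ι = (yon S).map j ≫ a)
    (sq : IsPullback ((yon S).map fst) ((yon S).map (snd ≫ j)) (f ≫ ι) a) :
    IsPullback ((yon S).map fst) ((yon S).map snd) f a' := by
  have w : (yon S).map fst ≫ f = (yon S).map snd ≫ a' := by
    rw [← cancel_mono ι, Category.assoc, Category.assoc, hj, sq.w, Functor.map_comp, Category.assoc]
  refine isPullback_of_yon w fun Z x y hxy => ?_
  obtain ⟨l, hl⟩ := (yon S).map_surjective (sq.lift x (y ≫ (yon S).map j) (by
    rw [reassoc_of% hxy, hj, Category.assoc]))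
  refine ⟨(yon S).map l, ⟨by rw [hl, sq.lift_fst], ?_⟩, ?_⟩
  · obtain ⟨y', rfl⟩ := (yon S).map_surjective y
    rw [← Functor.map_comp]
    congr 1
    rw [← cancel_mono j, Category.assoc]
    apply (yon S).map_injective
    rw [Functor.map_comp, hl, sq.lift_snd, Functor.map_comp]
  · rintro l' ⟨h₁, h₂⟩
    rw [hl]
    refine sq.hom_ext (by rw [sq.lift_fst, h₁]) ?_
    rw [sq.lift_snd, Functor.map_comp, ← Category.assoc, h₂]

theorem scheme_ext_of_pullback {F : Sp S} {T U V : Over S} {p : T ⟶ V} {d : T ⟶ U} {g : (yon S).obj V ⟶ F}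
    {a : (yon S).obj U ⟶ F} (sq : IsPullback ((yon S).map p) ((yon S).map d) g a) {Z : Scheme.{u}}
    {α β : Z ⟶ T.left} (h₁ : α ≫ p.left = β ≫ p.left) (h₂ : α ≫ d.left = β ≫ d.left) : α = β := by
  have hw : β ≫ T.hom = α ≫ T.hom := by
    rw [← Over.w d, ← Category.assoc, ← h₂, Category.assoc]
  let A : Over.mk (α ≫ T.hom) ⟶ T := Over.homMk α rfl
  let B : Over.mk (α ≫ T.hom) ⟶ T := Over.homMk β hw
  have e₁ : A ≫ p = B ≫ p := Over.OverMorphism.ext h₁
  have e₂ : A ≫ d = B ≫ d := Over.OverMorphism.ext h₂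
  have e : A = B := (yon S).map_injective (sq.hom_ext
    (by rw [← Functor.map_comp, ← Functor.map_comp, e₁]) (by rw [← Functor.map_comp, ← Functor.map_comp, e₂]))
  exact congrArg (fun f : Over.mk (α ≫ T.hom) ⟶ T => f.left) e

/-- Where the degree of an affine chart is constant the space is a scheme. -/
theorem isRepresentable_of_constant_degree (hX : IsAlgSpace X) {U : Over S} [IsAffine U.left]
    {a : (yon S).obj U ⟶ X} (ha : RepWith @Etale a) {n : ℕ} {N : Set (Points X)} (hN : IsOpen N)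
    (h₁ : N ⊆ degGE a (n + 1)) (h₂ : ∀ x ∈ N, x ∉ degGE a (n + 2)) :
    (openSub X N).obj.IsRepresentable := by
  haveI : Mono (openSubι X N) := mono_openSubι X N
  have hX' := isAlgSpace_openSub hX hN
  let O : U.left.Opens := ⟨Points.ofPt a ⁻¹' N, hN.preimage (Points.continuous_ofPt a)⟩
  let U' : Over S := Over.mk (O.ι ≫ U.hom)
  let j : U' ⟶ U := Over.homMk O.ι rfl
  haveI : IsOpenImmersion j.left := inferInstanceAs (IsOpenImmersion O.ι)
  haveI : Mono j := (Over.forget S).mono_of_mono_map (inferInstanceAs (Mono O.ι))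
  obtain ⟨a', ha'⟩ := openSub_lift (W := N) ((yon S).map j ≫ a) fun t => by rw [ofPt_map_comp]; exact t.2
  -- the chart of the open subspace
  have hae : RepWith @Etale a' := by
    have sqid : IsPullback (𝟙 _) a' (a' ≫ openSubι X N) (openSubι X N) :=
      isPullback_of_yon (Category.id_comp _) fun Z x y h => ⟨x, ⟨Category.comp_id _, by
        rw [← cancel_mono (openSubι X N), Category.assoc, h]⟩, fun l hl => by rw [← hl.1, Category.comp_id]⟩
    refine repWith_of_isPullback sqid ?_
    rw [ha']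
    exact repWith_comp ((repWith_yon_map_iff _ _).2 (inferInstanceAs (Etale O.ι))) ha
  have hsurj : RepWith @Surjective a' := repWith_surjective_of_ofPt hae.1 fun x => by
    have hx : Points.map (openSubι X N) x ∈ N := range_openSubι.subset (Set.mem_range_self x)
    obtain ⟨v, hv⟩ := degGE_one (a := a) ▸ degGE_antitone (Nat.le_add_left 1 n) (h₁ hx)
    obtain ⟨g, hg⟩ := exists_ofPt x
    refine ⟨⟨v, show Points.ofPt a v ∈ N from hv ▸ hx⟩, ?_⟩
    apply injective_map_of_mono (openSubι X N)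
    rw [Points.map_ofPt, ha', ofPt_map_comp]
    exact hv
  haveI := chart_isLocallySurjective hae hsurj
  obtain ⟨R, t, s, sq⟩ := exists_isPullback_yon hX'.diag a' a'
  haveI : Etale s.left := hae.2 _ _ _ sq
  haveI : Etale t.left := hae.2 _ _ _ sq.flip
  haveI : IsSeparated U.hom := inferInstance
  -- the relation is finite
  haveI : IsProper s.left := by
    refine IsZariskiLocalAtTarget.of_forall_exists_morphismRestrict (P := @IsProper) (f := s.left) fun v => ?_
    have hvN : Points.ofPt a (j.left v) ∈ N := v.2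
    obtain ⟨L, _, w, γ, l, hγ, hl, hc⟩ := h₁ hvN
    obtain ⟨c₀, lam, -, hg₀⟩ := exists_cfg hX ha n L inferInstance w γ l hl hc
    -- the configuration over `N`
    let O₀ : c₀.W.left.Opens := ⟨Points.ofPt c₀.g ⁻¹' N, hN.preimage (Points.continuous_ofPt c₀.g)⟩
    let j₀ : Over.mk (O₀.ι ≫ c₀.W.hom) ⟶ c₀.W := Over.homMk O₀.ι rfl
    haveI : Mono j₀.left := inferInstanceAs (Mono O₀.ι)
    haveI : Mono j₀ := (Over.forget S).mono_of_mono_map ‹Mono j₀.left›
    let c : SectionCfg a (n + 1) :=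
      { W := Over.mk (O₀.ι ≫ c₀.W.hom)
        g := (yon S).map j₀ ≫ c₀.g
        etale := repWith_comp ((repWith_yon_map_iff _ _).2 (inferInstanceAs (Etale O₀.ι))) c₀.etale
        e := fun i => j₀ ≫ c₀.e i
        comm := fun i => by rw [Functor.map_comp, Category.assoc, c₀.comm]
        disj := fun i k hik L' _ w' μ h => c₀.disj i k hik L' inferInstance w' (μ ≫ j₀) (by
          rw [Category.assoc, Category.assoc]; exact h) }
    have hcN : ∀ z, Points.ofPt c.g z ∈ N := fun z => by rw [ofPt_map_comp]; exact z.2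
    obtain ⟨T, p, d, σ, O', sqT, hσ, hcov, c', j', hj', hjr, -, -, hg'⟩ := exists_step hX ha c
    have hO' : ∀ x, x ∉ O' := fun x hx => by
      obtain ⟨x', rfl⟩ : x ∈ Set.range j'.left := hjr ▸ hx
      refine h₂ _ (hcN (p.left (j'.left x'))) ?_
      have := mem_degGE_of_cfg c' x'
      rwa [hg', ofPt_map_comp, Over.comp_left] at this
    obtain ⟨dd, hdd⟩ : ∃ dd : T ⟶ U', dd ≫ j = d := by
      obtain ⟨dd, hdd⟩ := exists_lift_opens d O (by
        rintro _ ⟨x, rfl⟩
        show Points.ofPt a (d.left x) ∈ N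
        rw [← ofPt_map_comp, ← sqT.w, ofPt_map_comp]
        exact hcN _)
      exact ⟨dd, hdd⟩
    obtain ⟨g', hg''⟩ := openSub_lift (W := N) c.g hcN
    have sqT' : IsPullback ((yon S).map p) ((yon S).map dd) g' a' := by
      refine isPullback_of_mono_comp ha' ?_
      rw [hg'', hdd]; exact sqT
    haveI : Etale p.left := ha.2 _ _ _ sqT.flip
    haveI : IsSeparated p.left := by
      let jT : T.left ⟶ pullback c.W.hom U.hom := pullback.lift p.left d.left ((Over.w p).trans (Over.w d).symm)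
      haveI : Mono jT := ⟨fun α β h => by
        have e₁ : α ≫ p.left = β ≫ p.left := by
          rw [← pullback.lift_fst p.left d.left ((Over.w p).trans (Over.w d).symm), ← Category.assoc, ← Category.assoc]
          exact congrArg (· ≫ _) h
        have e₂ : α ≫ d.left = β ≫ d.left := by
          rw [← pullback.lift_snd p.left d.left ((Over.w p).trans (Over.w d).symm), ← Category.assoc, ← Category.assoc]
          exact congrArg (· ≫ _) h
        exact scheme_ext_of_pullback sqT e₁ e₂⟩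
      have e : jT ≫ pullback.fst c.W.hom U.hom = p.left := pullback.lift_fst _ _ _
      rw [← e]; infer_instance
    haveI : UniversallyClosed p.left := universallyClosed_of_sections p.left (fun i => (σ i).left)
      (fun i => congrArg (fun f => f.left) (hσ i).1) fun x => (hcov x).resolve_left (hO' x)
    haveI : QuasiCompact p.left := inferInstance
    haveI : IsProper p.left := { }
    -- the image of `T`
    haveI : Etale dd.left := by
      haveI : Etale (dd.left ≫ j.left) := by rw [← Over.comp_left, hdd]; exact c.etale.2 _ _ _ sqT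
      exact Etale.of_comp dd.left j.left
    let V : U'.left.Opens := ⟨Set.range dd.left, dd.left.isOpenMap.isOpen_range⟩
    refine ⟨V, ?_, ?_⟩
    · let z₀ : ↥c₀.W.left := lam.left (IsLocalRing.closedPoint L)
      have hz₀ : Points.ofPt c₀.g z₀ = Points.ofPt a (j.left v) := by
        rw [← hγ, ← hg₀]; exact (ofPt_map_comp lam c₀.g _).symm
      let z : ↥c.W.left := (⟨z₀, show Points.ofPt c₀.g z₀ ∈ N from hz₀ ▸ hvN⟩ : ↥O₀)
      obtain ⟨x, -, hx⟩ := (ofPt_eq_ofPt_iff sqT z (j.left v)).1 (by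
        rw [ofPt_map_comp]; exact hz₀)
      exact ⟨x, j.left.isOpenEmbedding.injective (by rw [← hx, ← hdd]; rfl)⟩
    -- base change of `p` along `p`
    obtain ⟨Q, q₁, q₂, sqQ⟩ := exists_isPullback_yon (IsAlgSpace.yon_obj c.W).diag ((yon S).map p) ((yon S).map p)
    haveI : IsProper q₂.left :=
      ((repWith_yon_map_iff (@IsProper) p).2 ‹IsProper p.left›).2 _ _ _ sqQ
    have big : IsPullback ((yon S).map (q₁ ≫ dd)) ((yon S).map q₂) a' ((yon S).map dd ≫ a') := by
      have := sqQ.paste_horiz sqT'.flip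
      rwa [← Functor.map_comp, sqT'.w] at this
    obtain ⟨m, hm⟩ := (yon S).map_surjective (sq.lift ((yon S).map (q₁ ≫ dd)) ((yon S).map (q₂ ≫ dd))
      (by rw [big.w, Functor.map_comp, Category.assoc]))
    have hm₁ : (yon S).map m ≫ (yon S).map t = (yon S).map (q₁ ≫ dd) := by rw [hm, sq.lift_fst]
    have hm₂ : (yon S).map m ≫ (yon S).map s = (yon S).map q₂ ≫ (yon S).map dd := by
      rw [hm, sq.lift_snd, Functor.map_comp]
    have small : IsPullback m q₂ s dd := by
      refine isPullback_of_isPullback_yon (IsPullback.of_right ?_ hm₂ sq)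
      rw [hm₁]; exact big
    have small' : IsPullback m.left q₂.left s.left dd.left := small.map (Over.forget S)
    let dV : T.left ⟶ V := IsOpenImmersion.lift V.ι dd.left (by rw [Scheme.Opens.range_ι]; exact subset_rfl)
    have hdV : dV ≫ V.ι = dd.left := IsOpenImmersion.lift_fac _ _ _
    haveI : Etale dV := by
      haveI : Etale (dV ≫ V.ι) := by rw [hdV]; infer_instance
      exact Etale.of_comp dV V.ι
    haveI : Surjective dV := ⟨fun x => by
      obtain ⟨y, hy⟩ := x.2
      exact ⟨y, V.ι.isOpenEmbedding.injective (by rw [← Scheme.Hom.comp_apply, hdV]; exact hy)⟩⟩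
    have hrest := isPullback_morphismRestrict s.left V
    let mV : Q.left ⟶ (s.left ⁻¹ᵁ V).toScheme := hrest.lift (q₂.left ≫ dV) m.left
      (by rw [Category.assoc, hdV]; exact small'.w.symm)
    have sqV : IsPullback mV q₂.left (s.left ∣_ V) dV := by
      refine IsPullback.of_right ?_ (hrest.lift_fst _ _ _) hrest.flip
      rw [hrest.lift_snd, hdV]; exact small'
    exact fppfDescends_isProper _ dV mV q₂.left sqV inferInstance inferInstance inferInstance ‹_›
  haveI : LocallyQuasiFinite s.left := locallyQuasiFinite_of_unramified _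
  haveI : IsFinite s.left := .of_isProper_of_locallyQuasiFinite s.left
  refine isRepresentable_of_finite_kernelPair sq fun E hE => ?_
  rcases (j.left '' E).eq_empty_or_nonempty with h | h
  · exact ⟨⊥, isAffineOpen_bot _, fun x hx => absurd (Set.mem_image_of_mem j.left hx) (h ▸ id)⟩
  obtain ⟨f, hfO, hEf⟩ := GrothLib.GrpdQuot.exists_affine_le_of_finite (isAffineOpen_top U.left) O le_top
    (hE.image j.left) h (by rintro _ ⟨e, -, rfl⟩; exact e.2)
  haveI : IsAffine (⊤ : U.left.Opens).toScheme := isAffineOpen_top U.left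
  have hA := ((isAffineOpen_top (⊤ : U.left.Opens).toScheme).basicOpen f).image_of_isOpenImmersion (⊤ : U.left.Opens).ι
  exact ⟨j.left ⁻¹ᵁ _, hA.preimage_of_isOpenImmersion O.ι (by rw [Scheme.Opens.opensRange_ι]; exact hfO),
    fun e he => hEf (Set.mem_image_of_mem j.left he)⟩

/-- The largest open subscheme. -/
theorem exists_largest_open_subscheme (hX : IsAlgSpace X) :
    ∃ N : Set (Points X), IsOpen N ∧ (openSub X N).obj.IsRepresentable ∧
      ∀ x : Points X, (∃ M : Set (Points X), IsOpen M ∧ x ∈ M ∧ (openSub X M).obj.IsRepresentable) → x ∈ N := by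
  obtain ⟨U, a, ha, hs⟩ := hX.atlas
  let good : ↥U.left → Prop := fun v => ∃ N : Set (Points X), IsOpen N ∧ Points.ofPt a v ∈ N ∧
    (openSub X N).obj.IsRepresentable
  choose Nv hNo hNm hNr using fun v : {v // good v} => v.2
  let N := ⋃ v, Nv v
  have hN : IsOpen N := isOpen_iUnion hNo
  refine ⟨N, hN, ?_, ?_⟩
  · haveI := mono_openSubι X N
    have hrep : ∀ v, ∃ (M : Over S), Nonempty ((yon S).obj M ≅ openSub X (Nv v)) := fun v => by
      haveI := hNr v
      exact ⟨_, ⟨isoOfRepresentableBy (Functor.IsRepresentable.has_representation (F := (openSub X (Nv v)).obj)).choose_spec.some⟩⟩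
    choose M e using hrep
    have hfac : ∀ v, ∃ f : openSub X (Nv v) ⟶ openSub X N, f ≫ openSubι X N = openSubι X (Nv v) := fun v =>
      (exists_factor_iff (repWith_openSubι hN) _).2 (by
        rw [range_openSubι, range_openSubι]; exact Set.subset_iUnion Nv v)
    choose f hf using hfac
    have hfo : ∀ v, RepWith @IsOpenImmersion ((e v).some.hom ≫ f v) := fun v => by
      refine repWith_comp (repWith_iso _) (repWith_of_isPullback (g := openSubι X N) (g' := 𝟙 _) ?_ (repWith_openSubι (hNo v)))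
      exact isPullback_of_yon (by rw [Category.id_comp, hf]) fun Z x y h => ⟨x, ⟨Category.comp_id _, by
        rw [← cancel_mono (openSubι X N), Category.assoc, hf, h]⟩, fun l hl => by rw [← hl.1, Category.comp_id]⟩
    obtain ⟨Mall, eall, -⟩ := exists_iso_yon_of_openCover M (fun v => (e v).some.hom ≫ f v) hfo fun x => by
      obtain ⟨v, hv⟩ := Set.mem_iUnion.1 (range_openSubι.subset ⟨x, rfl⟩ : Points.map (openSubι X N) x ∈ N)
      obtain ⟨y, hy⟩ := (range_openSubι (F := X) (W := Nv v)).symm.subset hv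
      obtain ⟨z, rfl⟩ := (map_bijective_of_iso (e v).some).2 y
      refine ⟨v, z, injective_map_of_mono (openSubι X N) ?_⟩
      rw [← hy, Points.map_comp, ← hf v, Points.map_comp]
    exact (representableByOfIso eall).isRepresentable
  · rintro x ⟨M, hM, hxM, hr⟩
    obtain ⟨v, rfl⟩ := surjective_ofPt_of_repWith hs x
    exact Set.mem_iUnion.2 ⟨⟨v, M, hM, hxM, hr⟩, hNm _⟩

/-- A decent space has a dense open subscheme containing all points with schematic neighbourhoods. -/
theorem exists_max_open_subscheme (hX : IsAlgSpace X) (hd : IsDecent X) :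
    ∃ N : Set (Points X), IsOpen N ∧ Dense N ∧ (openSub X N).obj.IsRepresentable ∧
      ∀ x : Points X, (∃ M : Set (Points X), IsOpen M ∧ x ∈ M ∧ (openSub X M).obj.IsRepresentable) → x ∈ N := by
  obtain ⟨N, hN, hr, hmax⟩ := exists_largest_open_subscheme hX
  refine ⟨N, hN, dense_iff_inter_open.2 fun W hW ⟨x, hx⟩ => ?_, hr, hmax⟩
  obtain ⟨U, a, ha, hs⟩ := hX.atlas
  obtain ⟨v, rfl⟩ := surjective_ofPt_of_repWith hs x
  obtain ⟨A, hA, hvA, hAW⟩ := exists_isAffineOpen_mem_and_subset
    (U := (⟨Points.ofPt a ⁻¹' W, hW.preimage (Points.continuous_ofPt a)⟩ : U.left.Opens)) (x := v) hx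
  let i : Over.mk (A.ι ≫ U.hom) ⟶ U := Over.homMk A.ι rfl
  haveI : IsAffine (Over.mk (A.ι ≫ U.hom)).left := hA
  haveI : Nonempty ↥(Over.mk (A.ι ≫ U.hom)).left := ⟨⟨v, hvA⟩⟩
  have hb : RepWith @Etale ((yon S).map i ≫ a) :=
    repWith_comp ((repWith_yon_map_iff _ _).2 (inferInstanceAs (Etale A.ι))) ha
  obtain ⟨n, M, hM, ⟨y, hy⟩, h₁, h₂⟩ := exists_constant_degree_open hX hd hb
  obtain ⟨z, hz⟩ : y ∈ Set.range (Points.ofPt ((yon S).map i ≫ a)) :=
    degGE_one (a := (yon S).map i ≫ a) ▸ degGE_antitone (Nat.le_add_left 1 n) (h₁ hy)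
  rw [ofPt_map_comp] at hz
  exact ⟨y, hz ▸ hAW z.2, hmax y ⟨M, hM, hy, isRepresentable_of_constant_degree hX hb hM h₁ h₂⟩⟩

/-- A decent space has a dense open subscheme. -/
theorem exists_dense_open_subscheme (hX : IsAlgSpace X) (hd : IsDecent X) :
    ∃ N : Set (Points X), IsOpen N ∧ Dense N ∧ (openSub X N).obj.IsRepresentable := by
  obtain ⟨N, h₁, h₂, h₃, -⟩ := exists_max_open_subscheme hX hd
  exact ⟨N, h₁, h₂, h₃⟩

end GrothLib.AlgSp
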