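import Groth.Agent.Lib.AlgSp.UnivThick
import Groth.Agent.Lib.AlgSp.AffineDescent
import Groth.Agent.Lib.AlgSp.Quotient
import Groth.Agent.Lib.UnivThick.Scheme

/-!
# Existence of universal first order thickenings of algebraic spaces
-/

universe u

open CategoryTheory CategoryTheory.Limits AlgebraicGeometry Opposite

namespace GrothLib.AlgSp

open _root_.AlgSp

variable {S : Scheme.{u}}

/-- A thickening which is of first order on one atlas is of first order. -/
theorem isFOThick_of_chart {T T' : Sp S} {j : T ⟶ T'} (hj : IsThickMor j) {A A₀ : Over S}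
    {q : (yon S).obj A ⟶ T'} (qe : RepWith @Etale q) (qs : RepWith @Surjective q)
    {g₀ : (yon S).obj A₀ ⟶ T} {s₀ : A₀ ⟶ A} (sq₀ : IsPullback g₀ ((yon S).map s₀) j q) (ht : FOT s₀) :
    IsFOThickMor j := by
  refine isFOThick_of_forall hj fun V W b fst snd sq => ?_
  obtain ⟨V', v, c, sqV⟩ := exists_isPullback_of_representable qe.1 b
  obtain ⟨v, rfl⟩ := (yon S).map_surjective v
  have : Etale c.left := qe.2 _ _ _ sqV
  have : Surjective c.left := qs.2 _ _ _ sqV
  have sqW := IsPullback.of_hasPullback snd c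
  obtain ⟨m, hm⟩ := (yon S).map_surjective (sq₀.lift ((yon S).map (pullback.fst snd c) ≫ fst)
    ((yon S).map (pullback.snd snd c ≫ v)) (by
      rw [(isPullback_stack sq sqW).w, ← sqV.w, Functor.map_comp, Category.assoc]))
  have sq' : IsPullback m (pullback.snd snd c) s₀ v := by
    refine isPullback_of_isPullback_yon (IsPullback.of_right (h₁₂ := g₀) (v₁₃ := j) (h₂₂ := q) ?_ ?_ sq₀)
    · rw [hm, sq₀.lift_fst, sqV.w]
      exact isPullback_stack sq sqW
    · rw [hm, sq₀.lift_snd, Functor.map_comp]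
  exact fot_of_cover sqW (GrothLib.UnivThick.fot_of_isPullback (isPullback_left sq') ht)

/-- A universal thickening of schemes is universal among sheaves. -/
theorem univAff_of_scheme {U U' V : Over S} {k : U ⟶ V} {i : U ⟶ U'} {g : U' ⟶ V}
    (hu : OmegaSh.IsUnivThickening k.left i.left g.left) :
    UnivAff ((yon S).map k) ((yon S).map i) ((yon S).map g) := by
  refine ⟨fun T T' t a l l' _ ht h1 h2 h3 => ?_, fun T T' t a b _ ht w => ?_⟩
  · obtain ⟨a, rfl⟩ := (yon S).map_surjective a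
    obtain ⟨l, rfl⟩ := (yon S).map_surjective l
    obtain ⟨l', rfl⟩ := (yon S).map_surjective l'
    simp only [← Functor.map_comp] at h1 h2 h3
    replace h1 := congrArg Over.Hom.left ((yon S).map_injective h1)
    replace h2 := congrArg Over.Hom.left ((yon S).map_injective h2)
    replace h3 := congrArg Over.Hom.left ((yon S).map_injective h3)
    simp only [Over.comp_left] at h1 h2 h3
    exact congrArg _ (Over.OverMorphism.ext ((hu.2.2 _ _ t.left (l.left ≫ g.left) a.left ht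
      (by rw [reassoc_of% h1, hu.2.1])).unique ⟨h1, rfl⟩ ⟨h2, h3.symm⟩))
  · obtain ⟨a, rfl⟩ := (yon S).map_surjective a
    obtain ⟨b, rfl⟩ := (yon S).map_surjective b
    simp only [← Functor.map_comp] at w
    obtain ⟨l, ⟨hl, hlb⟩, -⟩ := hu.2.2 _ _ t.left b.left a.left ht
      (congrArg Over.Hom.left ((yon S).map_injective w))
    let L : T' ⟶ U' := Over.homMk l (by rw [← Over.w g, reassoc_of% hlb, Over.w b])
    refine ⟨(yon S).map L, ?_, ?_⟩
    · simp only [← Functor.map_comp]; exact congrArg _ (Over.OverMorphism.ext hl)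
    · simp only [← Functor.map_comp]; exact congrArg _ (Over.OverMorphism.ext hlb)

/-- Two universal thickenings of a scheme are isomorphic. -/
theorem exists_iso_univAff {X : Sp S} {R R₁ R₂ : Over S} {hR : (yon S).obj R ⟶ X} {j₁ : R ⟶ R₁}
    {j₂ : R ⟶ R₂} {g₁ : (yon S).obj R₁ ⟶ X} {g₂ : (yon S).obj R₂ ⟶ X}
    (h₁ : FOT j₁) (h₂ : FOT j₂) (w₁ : (yon S).map j₁ ≫ g₁ = hR) (w₂ : (yon S).map j₂ ≫ g₂ = hR)
    (H₁ : UnivAff hR ((yon S).map j₁) g₁) (H₂ : UnivAff hR ((yon S).map j₂) g₂) :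
    ∃ φ : R₁ ≅ R₂, j₁ ≫ φ.hom = j₂ ∧ (yon S).map φ.hom ≫ g₂ = g₁ := by
  obtain ⟨m, hm, hmg⟩ := H₂.exists_lift h₁ (𝟙 _) g₁ (by rw [w₁, Category.id_comp])
  obtain ⟨n, hn, hng⟩ := H₁.exists_lift h₂ (𝟙 _) g₂ (by rw [w₂, Category.id_comp])
  obtain ⟨m, rfl⟩ := (yon S).map_surjective m
  obtain ⟨n, rfl⟩ := (yon S).map_surjective n
  rw [Category.id_comp] at hm hn
  have hm' : j₁ ≫ m = j₂ := (yon S).map_injective (by rw [Functor.map_comp]; exact hm)
  have hn' : j₂ ≫ n = j₁ := (yon S).map_injective (by rw [Functor.map_comp]; exact hn)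
  refine ⟨⟨m, n, (yon S).map_injective ?_, (yon S).map_injective ?_⟩, hm', hmg⟩
  · refine H₁.1.hom_ext h₁ (a := 𝟙 _) ?_ ?_ ?_
    · rw [← Functor.map_comp, reassoc_of% hm', hn', Category.id_comp]
    · rw [← Functor.map_comp, Category.comp_id, Category.id_comp]
    · rw [Functor.map_comp, Category.assoc, hng, hmg, CategoryTheory.Functor.map_id, Category.id_comp]
  · refine H₂.1.hom_ext h₂ (a := 𝟙 _) ?_ ?_ ?_
    · rw [← Functor.map_comp, reassoc_of% hn', hm', Category.id_comp]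
    · rw [← Functor.map_comp, Category.comp_id, Category.id_comp]
    · rw [Functor.map_comp, Category.assoc, hmg, hng, CategoryTheory.Functor.map_id, Category.id_comp]

section Relation

variable {Z X : Sp S} {U U' : Over S} (iU : U ⟶ U') (a : (yon S).obj U ⟶ Z) (gX : (yon S).obj U' ⟶ X)

/-- Two points of the thickened atlas have the same image in the thickening. -/
def ThickRel (T : Over S) (x y : T ⟶ U') : Prop :=
  ∃ (T₀ : Over S) (j : T₀ ⟶ T) (ux uy : T₀ ⟶ U), IsPullback ux j iU x ∧ IsPullback uy j iU y ∧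
    (yon S).map ux ≫ a = (yon S).map uy ≫ a ∧ (yon S).map x ≫ gX = (yon S).map y ≫ gX

theorem thickRel_equivalence (T : Over S) : Equivalence (ThickRel iU a gX T) where
  refl x := ⟨pullback iU x, pullback.snd iU x, pullback.fst iU x, pullback.fst iU x,
    IsPullback.of_hasPullback iU x, IsPullback.of_hasPullback iU x, rfl, rfl⟩
  symm := by
    rintro x y ⟨T₀, j, ux, uy, h1, h2, h3, h4⟩
    exact ⟨T₀, j, uy, ux, h2, h1, h3.symm, h4.symm⟩
  trans := by
    rintro x y z ⟨T₀, j, ux, uy, h1, h2, h3, h4⟩ ⟨T₁, j', vy, vz, k1, k2, k3, k4⟩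
    let e : T₀ ≅ T₁ := h2.isoIsPullback _ _ k1
    have e1 : e.hom ≫ vy = uy := h2.isoIsPullback_hom_fst _ _ k1
    have e2 : e.hom ≫ j' = j := h2.isoIsPullback_hom_snd _ _ k1
    refine ⟨T₀, j, ux, e.hom ≫ vz, h1, ?_, ?_, h4.trans k4⟩
    · exact k2.of_iso e.symm (Iso.refl _) (Iso.refl _) (Iso.refl _) (by simp) (by simp [← e2])
        (by simp) (by simp)
    · rw [h3, ← e1, Functor.map_comp_assoc, Functor.map_comp_assoc, k3]

end Relation

/-- Universal first order thickenings exist. -/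
theorem exists_univThick {Z X : Sp S} (hZ : IsAlgSpace Z) (hX : IsAlgSpace X) {h : Z ⟶ X}
    (hh : IsFormallyUnramifiedMor h) :
    ∃ (Z' : Sp S) (i : Z ⟶ Z') (h' : Z' ⟶ X), IsAlgSpace Z' ∧ IsFOThickMor i ∧ i ≫ h' = h ∧
      UnivAff h i h' ∧ IsFormallyUnramifiedMor h' := by
  obtain ⟨V, b, hb, hb'⟩ := hX.atlas
  obtain ⟨U, a, k, ha, hab, has⟩ := exists_chart_over hZ hX h b hb
  have has := has hb'
  have hk : FormallyUnramified k.left := (fu_yon_map_iff k).1 (fu_of_comp (b := b) (by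
    rw [← hab]; exact fu_comp (fu_of_fe (fe_of_repWith_etale ha)) hh))
  obtain ⟨U'₀, i₀, g₀, hu₀⟩ := GrothLib.UnivThick.exists_univThickening k.left
  let U' : Over S := Over.mk (g₀ ≫ V.hom)
  let iU : U ⟶ U' := Over.homMk i₀ (by
    show i₀ ≫ g₀ ≫ V.hom = U.hom
    rw [reassoc_of% hu₀.2.1, Over.w k])
  let g : U' ⟶ V := Over.homMk g₀ rfl
  have hiU : FOT iU := hu₀.1
  let gX : (yon S).obj U' ⟶ X := (yon S).map g ≫ b
  have hgX : IsFormallyUnramifiedMor gX :=
    fu_comp ((fu_yon_map_iff g).2 (GrothLib.UnivThick.formallyUnramified_univThickening k.left i₀ g₀ hu₀))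
      (fu_of_fe (fe_of_repWith_etale hb))
  have wiU : (yon S).map iU ≫ gX = a ≫ h := by
    rw [hab, ← Category.assoc, ← Functor.map_comp]
    exact congrArg (fun m => (yon S).map m ≫ b) (Over.OverMorphism.ext hu₀.2.1)
  have HU : UnivAff (a ≫ h) ((yon S).map iU) gX := by
    rw [hab]
    exact univAff_comp_base (by rw [← Functor.map_comp]; exact congrArg _ (Over.OverMorphism.ext hu₀.2.1))
      (fe_of_repWith_etale hb) (univAff_of_scheme hu₀)
  have : Mono iU := by
    have := hiU.1.1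
    exact Over.mono_of_mono_left iU
  -- the relation
  obtain ⟨R, r₁, r₂, sqR⟩ := exists_isPullback_of_representable ha.1 a
  obtain ⟨r₁, rfl⟩ := (yon S).map_surjective r₁
  have : Etale r₂.left := ha.2 _ _ _ sqR
  have : Etale r₁.left := ha.2 _ _ _ sqR.flip
  obtain ⟨R₁, s, iR, hs, sq₁, -⟩ := exists_etale_extension hiU r₁
  obtain ⟨R₂, s₂, iR₂, hs₂, sq₂, -⟩ := exists_etale_extension hiU r₂
  have hiR : FOT iR := GrothLib.UnivThick.fot_of_isPullback (isPullback_left sq₁.flip) hiU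
  have hiR₂ : FOT iR₂ := GrothLib.UnivThick.fot_of_isPullback (isPullback_left sq₂.flip) hiU
  have HR : UnivAff ((yon S).map r₁ ≫ a ≫ h) ((yon S).map iR) ((yon S).map s ≫ gX) :=
    univAff_etale (by rw [← Functor.map_comp, ← Functor.map_comp, sq₁.w])
      (fe_of_repWith_etale ((repWith_yon_map_iff _ _).2 hs)) HU
  have HR₂ : UnivAff ((yon S).map r₁ ≫ a ≫ h) ((yon S).map iR₂) ((yon S).map s₂ ≫ gX) := by
    rw [sqR.w_assoc]
    exact univAff_etale (by rw [← Functor.map_comp, ← Functor.map_comp, sq₂.w])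
      (fe_of_repWith_etale ((repWith_yon_map_iff _ _).2 hs₂)) HU
  obtain ⟨φ, hφ, hφg⟩ := exists_iso_univAff hiR hiR₂
    (by rw [← Functor.map_comp_assoc, sq₁.w, Functor.map_comp_assoc, wiU])
    (by rw [← Functor.map_comp_assoc, sq₂.w, Functor.map_comp_assoc, wiU, sqR.w_assoc]) HR HR₂
  let t : R₁ ⟶ U' := φ.hom ≫ s₂
  have sq₂' : IsPullback iR r₂ t iU :=
    sq₂.of_iso (Iso.refl _) φ.symm (Iso.refl _) (Iso.refl _) (by simp [← hφ]) (by simp) (by simp [t]) (by simp)
  have hst : (yon S).map t ≫ gX = (yon S).map s ≫ gX := by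
    rw [Functor.map_comp_assoc]; exact hφg
  have ht : Etale t.left := by
    show Etale (φ.hom.left ≫ s₂.left)
    have : IsIso φ.hom.left := inferInstanceAs (IsIso ((Over.forget S).map φ.hom))
    infer_instance
  -- characterisation of the relation
  have key : ∀ (T : Over S) (x y : T ⟶ U'),
      ThickRel iU a gX T x y ↔ ∃ r : T ⟶ R₁, r ≫ s = x ∧ r ≫ t = y := by
    intro T x y
    constructor
    · rintro ⟨T₀, j, ux, uy, h1, h2, h3, h4⟩
      have hj : FOT j := GrothLib.UnivThick.fot_of_isPullback (isPullback_left h1) hiU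
      obtain ⟨m, hm⟩ := (yon S).map_surjective (sqR.lift _ _ h3)
      have m1 : m ≫ r₁ = ux := (yon S).map_injective (by rw [Functor.map_comp, hm, sqR.lift_fst])
      have m2 : m ≫ r₂ = uy := (yon S).map_injective (by rw [Functor.map_comp, hm, sqR.lift_snd])
      obtain ⟨r, hr, hrg⟩ := HR.exists_lift hj ((yon S).map m) ((yon S).map x ≫ gX) (by
        rw [← Functor.map_comp_assoc, ← h1.w, Functor.map_comp_assoc, wiU, ← m1, Functor.map_comp_assoc])
      obtain ⟨r, rfl⟩ := (yon S).map_surjective r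
      rw [← Functor.map_comp, ← Functor.map_comp] at hr
      replace hr := (yon S).map_injective hr
      refine ⟨r, (yon S).map_injective ?_, (yon S).map_injective ?_⟩
      · refine HU.1.hom_ext hj (a := (yon S).map ux) ?_ ?_ ?_
        · rw [← Functor.map_comp, ← Functor.map_comp, reassoc_of% hr, sq₁.w, reassoc_of% m1]
        · rw [← Functor.map_comp, ← Functor.map_comp, ← h1.w]
        · rw [Functor.map_comp_assoc, hrg]
      · refine HU.1.hom_ext hj (a := (yon S).map uy) ?_ ?_ ?_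
        · rw [← Functor.map_comp, ← Functor.map_comp, reassoc_of% hr, sq₂'.w, reassoc_of% m2]
        · rw [← Functor.map_comp, ← Functor.map_comp, ← h2.w]
        · rw [Functor.map_comp_assoc, hst, hrg, h4]
    · rintro ⟨r, rfl, rfl⟩
      refine ⟨pullback iR r, pullback.snd iR r, pullback.fst iR r ≫ r₁, pullback.fst iR r ≫ r₂,
        (IsPullback.of_hasPullback iR r).paste_horiz sq₁.flip,
        (IsPullback.of_hasPullback iR r).paste_horiz sq₂'.flip, ?_, ?_⟩
      · rw [Functor.map_comp_assoc, Functor.map_comp_assoc, sqR.w]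
      · rw [Functor.map_comp_assoc, Functor.map_comp_assoc, hst]
  have heq : IsEqvRel t s := by
    refine ⟨fun T r r' e1 e2 => ?_, fun T => ?_⟩
    · have p1 := (IsPullback.of_hasPullback iR r).paste_horiz sq₁.flip
      have p2 := (IsPullback.of_hasPullback iR r').paste_horiz sq₁.flip
      rw [← e1] at p2
      let e := p1.isoIsPullback _ _ p2
      have k1 : e.hom ≫ pullback.fst iR r' ≫ r₁ = pullback.fst iR r ≫ r₁ := p1.isoIsPullback_hom_fst _ _ p2
      have k2 : e.hom ≫ pullback.snd iR r' = pullback.snd iR r := p1.isoIsPullback_hom_snd _ _ p2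
      have k3 : e.hom ≫ pullback.fst iR r' ≫ r₂ = pullback.fst iR r ≫ r₂ := by
        rw [← cancel_mono iU]
        simp only [Category.assoc]
        rw [← sq₂'.w, pullback.condition_assoc, pullback.condition_assoc, ← e2, reassoc_of% k2]
      have k4 : e.hom ≫ pullback.fst iR r' = pullback.fst iR r := (yon S).map_injective (sqR.hom_ext
        (by simp only [← Functor.map_comp, Category.assoc, k1]) (by simp only [← Functor.map_comp, Category.assoc, k3]))
      refine (yon S).map_injective (HR.1.hom_ext (fot_pullback_snd hiR r)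
        (a := (yon S).map (pullback.fst iR r)) ?_ ?_ ?_)
      · rw [← Functor.map_comp, ← Functor.map_comp, pullback.condition]
      · rw [← Functor.map_comp, ← Functor.map_comp, ← k4, Category.assoc, pullback.condition,
          reassoc_of% k2]
      · simp only [← Category.assoc, ← Functor.map_comp, e1]
    · have hr : (fun x y : T ⟶ U' => ∃ r : T ⟶ R₁, r ≫ s = x ∧ r ≫ t = y) = ThickRel iU a gX T := by
        funext x y; exact propext (key T x y).symm
      rw [hr]
      exact thickRel_equivalence iU a gX T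
  let q := yonQuotπ t s
  have sqK : IsPullback ((yon S).map s) ((yon S).map t) q q := isPullback_yonQuotπ heq
  have := isLocallySurjective_yonQuotπ t s
  obtain ⟨hZ', hqe, hqs⟩ := isAlgSpace_of_kernelPair sqK ht hs
  have := chart_isLocallySurjective ha has
  have := IsRegularEpiCategory.regularEpiOfEpi a
  have := IsRegularEpiCategory.regularEpiOfEpi q
  obtain ⟨i, hi⟩ := IsRegularEpi.exists_of_isKernelPair a sqR ((yon S).map iU ≫ q) (by
    rw [← Functor.map_comp_assoc, ← Functor.map_comp_assoc, ← sq₁.w, ← sq₂'.w, Functor.map_comp_assoc,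
      Functor.map_comp_assoc, sqK.w])
  obtain ⟨h', hh'⟩ := IsRegularEpi.exists_of_isKernelPair q sqK gX hst.symm
  have hih : i ≫ h' = h := by rw [← cancel_epi a, reassoc_of% hi, hh', wiU]
  have hfu : IsFormallyUnramifiedMor h' := fu_of_etale_comp hqe hqs (by rw [hh']; exact hgX)
  have sqi : IsPullback a ((yon S).map iU) i q := by
    refine isPullback_of_yon hi fun T z x hzx => ?_
    obtain ⟨x, rfl⟩ := (yon S).map_surjective x
    obtain ⟨T₁, c, u, hcf, hcp, hcs, hu⟩ := exists_fppf_lift a z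
    obtain ⟨u, rfl⟩ := (yon S).map_surjective u
    have e : (yon S).map (u ≫ iU) ≫ q = (yon S).map (c ≫ x) ≫ q := by
      rw [Functor.map_comp_assoc, ← hi, reassoc_of% hu, hzx, Functor.map_comp_assoc]
    obtain ⟨r, hr⟩ := (yon S).map_surjective (sqK.lift _ _ e)
    obtain ⟨T₀, j, ux, uy, h1, h2, h3, -⟩ := (key T₁ (u ≫ iU) (c ≫ x)).2 ⟨r,
      (yon S).map_injective (by rw [Functor.map_comp, hr, sqK.lift_fst]),
      (yon S).map_injective (by rw [Functor.map_comp, hr, sqK.lift_snd])⟩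
    let σ := h1.lift u (𝟙 _) (by simp)
    have hσ : σ ≫ j = 𝟙 _ := h1.lift_snd _ _ _
    have hcompat : σ ≫ uy ≫ iU = c ≫ x := by rw [h2.w, reassoc_of% hσ]
    obtain ⟨L, hL, -⟩ := exists_hom_of_cover (F := (yon S).obj U) (ι := PUnit.{u + 1}) (fun _ => T₁)
      (fun _ => c) (fun _ => hcf) (fun _ => hcp) (fun y => ⟨⟨⟩, hcs.surj y⟩)
      (fun _ => (yon S).map (σ ≫ uy)) (fun _ _ W gi gj hg => by
        rw [← Functor.map_comp, ← Functor.map_comp]
        congr 1
        rw [← cancel_mono iU]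
        simp only [Category.assoc, hcompat]
        rw [reassoc_of% hg])
    obtain ⟨L, rfl⟩ := (yon S).map_surjective L
    have hL' : c ≫ L = σ ≫ uy := (yon S).map_injective (by rw [Functor.map_comp]; exact hL ⟨⟩)
    have hLx : (yon S).map L ≫ (yon S).map iU = (yon S).map x := by
      refine hom_ext_cover (ι := PUnit.{u + 1}) (fun _ => T₁) (fun _ => c) (fun _ => hcf) (fun _ => hcp)
        (fun y => ⟨⟨⟩, hcs.surj y⟩) fun _ => ?_
      rw [← Functor.map_comp, ← Functor.map_comp, ← Functor.map_comp, reassoc_of% hL', hcompat]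
    refine ⟨(yon S).map L, ⟨?_, hLx⟩, fun w hw => ?_⟩
    · refine hom_ext_cover (ι := PUnit.{u + 1}) (fun _ => T₁) (fun _ => c) (fun _ => hcf) (fun _ => hcp)
        (fun y => ⟨⟨⟩, hcs.surj y⟩) fun _ => ?_
      rw [← Functor.map_comp_assoc, hL', Functor.map_comp_assoc, ← h3, ← Functor.map_comp_assoc,
        show σ ≫ ux = u from h1.lift_fst _ _ _]
      exact hu
    · obtain ⟨w, rfl⟩ := (yon S).map_surjective w
      congr 1
      rw [← cancel_mono iU]
      exact (yon S).map_injective (by rw [Functor.map_comp, Functor.map_comp, hw.2, hLx])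
  have hth : IsThickMor i := by
    refine repWith_of_base_isAffineHom q sqi (fun A B f hf => ?_)
      (fppfDescends_isClosedImmersion.inf fppfDescends_surjective) ((repWith_yon_map_iff _ _).2 hiU.1)
    have : IsClosedImmersion f := hf.1
    infer_instance
  refine ⟨_, i, h', hZ', isFOThick_of_chart hth hqe hqs sqi hiU, hih, ?_, hfu⟩
  exact univAff_descend (e := a) (e' := q) (p := 𝟙 _) (by rwa [Category.id_comp])
    (by rwa [Category.id_comp]) hi.symm (fe_of_repWith_etale hqe) (by rw [hh']; exact HU) hih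

theorem fu_of_univ {Z Z' X : Sp S} (hZ : IsAlgSpace Z) (hX : IsAlgSpace X) (hZ' : IsAlgSpace Z') {h : Z ⟶ X}
    (hh : IsFormallyUnramifiedMor h) {i : Z ⟶ Z'} {h' : Z' ⟶ X} (HU : IsUnivFOThick h i h') :
    IsFormallyUnramifiedMor h' := by
  obtain ⟨Z₀, i₀, h₀, hZ₀, hi₀, w₀, H₀, hfu⟩ := exists_univThick hZ hX hh
  obtain ⟨m, hm, hmh⟩ := H₀.exists_lift_thick hZ' HU.1 (𝟙 _) h' (by rw [HU.2.1, Category.id_comp])
  obtain ⟨n, ⟨hn, hnh⟩, -⟩ := HU.2.2 hZ hZ₀ i₀ (𝟙 _) h₀ hi₀ (by rw [w₀, Category.id_comp])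
  rw [Category.id_comp] at hm hn
  have hmn : m ≫ n = 𝟙 _ := (univAff_of_isUnivFOThick HU).1.hom_ext_thick hZ' HU.1 (a := 𝟙 _)
    (by rw [reassoc_of% hm, hn, Category.id_comp]) (by simp) (by rw [Category.assoc, hnh, hmh, Category.id_comp])
  intro sq l l' h1 h2 h3 h4
  have := hom_ext_of_fu hfu (fot_j sq) (l := l ≫ m) (l' := l' ≫ m)
    (by rw [reassoc_of% h1, reassoc_of% h3]) (by rw [Category.assoc, Category.assoc, hmh, h2, h4])
  simpa [Category.assoc, hmn] using congrArg (· ≫ n) this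

theorem etale_of_comp_repWith {F : Sp S} (hF : IsAlgSpace F) {W A : Over S} {α : W ⟶ A}
    {g : (yon S).obj A ⟶ F} (hg : RepWith @Etale g) (h : RepWith @Etale ((yon S).map α ≫ g)) :
    Etale α.left :=
  EtLocal.locP_of_repWith .etale hF h (𝟙 _) g α (repWith_id _ _) hg (Category.id_comp _)

/-- Universal thickenings localize etale locally. -/
theorem isEtaleMor_univ_localization {Z X Z' V U V' : Sp S} (hZ : IsAlgSpace Z) (hV : IsAlgSpace V)
    (hU : IsAlgSpace U) (hX : IsAlgSpace X) (hV' : IsAlgSpace V') (hZ' : IsAlgSpace Z') {h : Z ⟶ X}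
    {iZ : Z ⟶ Z'} {hZ'' : Z' ⟶ X} (HZ : IsUnivFOThick h iZ hZ'') {v : V ⟶ Z} {w : U ⟶ X}
    (hv : IsEtaleMor v) (hw : IsEtaleMor w) {ψ : V ⟶ U} (c : ψ ≫ w = v ≫ h)
    {iV : V ⟶ V'} {hV'' : V' ⟶ U} (HV : IsUnivFOThick ψ iV hV'') {e' : V' ⟶ Z'}
    (c1 : iV ≫ e' = v ≫ iZ) (c2 : e' ≫ hZ'' = hV'' ≫ w) : IsEtaleMor e' := by
  have HZa := univAff_of_isUnivFOThick HZ
  have HVa : UnivAff (ψ ≫ w) iV (hV'' ≫ w) :=
    univAff_comp_base HV.2.1 (fe_of_isEtaleMor hU hX hw) (univAff_of_isUnivFOThick HV)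
  obtain ⟨A, q, qe, qs⟩ := hZ'.atlas
  obtain ⟨A₀, g₀, s₀, sq₀⟩ := exists_isPullback_of_representable HZ.1.1.1 q
  obtain ⟨B, q', qe', qs'⟩ := hV'.atlas
  obtain ⟨B₀, g₀', s₀', sq₀'⟩ := exists_isPullback_of_representable HV.1.1.1 q'
  have g₀e : RepWith @Etale g₀ := repWith_of_isPullback sq₀.flip qe
  have g₀s : RepWith @Surjective g₀ := repWith_of_isPullback sq₀.flip qs
  have g₀e' : RepWith @Etale g₀' := repWith_of_isPullback sq₀'.flip qe'
  obtain ⟨W, p, α, pe, hp, hps⟩ := exists_chart_over (IsAlgSpace.yon_obj B₀) hZ (g₀' ≫ v) g₀ g₀e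
  obtain ⟨p, rfl⟩ := (yon S).map_surjective p
  have hpe : Etale p.left := (repWith_yon_map_iff _ _).1 pe
  have hαe : Etale α.left := etale_of_comp_repWith hZ g₀e (by
    rw [← hp]; exact repWith_comp pe (hv g₀' g₀e'))
  have ht₀ : FOT s₀ := fot_of_isFOThick HZ.1 qe sq₀
  have ht₀' : FOT s₀' := fot_of_isFOThick HV.1 qe' sq₀'
  obtain ⟨W₁, c₁, j₁, hc₁, sqc₁, hcs₁⟩ := exists_etale_extension ht₀' p
  obtain ⟨W₂, c₂, j₂, hc₂, sqc₂, -⟩ := exists_etale_extension ht₀ α
  have := hcs₁ ((repWith_yon_map_iff _ _).1 (hps g₀s))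
  have hj₁ : FOT j₁ := GrothLib.UnivThick.fot_of_isPullback (isPullback_left sqc₁.flip) ht₀'
  have hj₂ : FOT j₂ := GrothLib.UnivThick.fot_of_isPullback (isPullback_left sqc₂.flip) ht₀
  have H₁ : UnivAff ((yon S).map p ≫ g₀' ≫ ψ ≫ w) ((yon S).map j₁)
      ((yon S).map c₁ ≫ q' ≫ hV'' ≫ w) :=
    univAff_etale (by rw [← Functor.map_comp, ← Functor.map_comp, sqc₁.w])
      (fe_of_repWith_etale ((repWith_yon_map_iff _ _).2 hc₁))
      (univAff_etale sq₀'.w.symm (fe_of_repWith_etale qe') HVa)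
  have e₀ : (yon S).map α ≫ g₀ ≫ h = (yon S).map p ≫ g₀' ≫ ψ ≫ w := by
    rw [c, ← reassoc_of% hp]
  have H₂ : UnivAff ((yon S).map p ≫ g₀' ≫ ψ ≫ w) ((yon S).map j₂) ((yon S).map c₂ ≫ q ≫ hZ'') := by
    rw [← e₀]
    exact univAff_etale (by rw [← Functor.map_comp, ← Functor.map_comp, sqc₂.w])
      (fe_of_repWith_etale ((repWith_yon_map_iff _ _).2 hc₂))
      (univAff_etale sq₀.w.symm (fe_of_repWith_etale qe) HZa)
  obtain ⟨φ, hφ, hφg⟩ := exists_iso_univAff hj₁ hj₂
    (by rw [← Functor.map_comp_assoc, sqc₁.w, Functor.map_comp_assoc, ← sq₀'.w_assoc, ← Category.assoc iV, HV.2.1])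
    (by rw [← Functor.map_comp_assoc, sqc₂.w, Functor.map_comp_assoc, ← sq₀.w_assoc, HZ.2.1, e₀]) H₁ H₂
  have hcomm : ((yon S).map c₁ ≫ q') ≫ e' = (yon S).map (φ.hom ≫ c₂) ≫ q := by
    refine HZa.1.hom_ext hj₁ (a := (yon S).map p ≫ g₀' ≫ v) ?_ ?_ ?_
    · rw [Category.assoc, ← Functor.map_comp_assoc, sqc₁.w, Functor.map_comp_assoc, ← sq₀'.w_assoc, c1]
      simp only [Category.assoc]
    · rw [← Functor.map_comp_assoc, reassoc_of% hφ, sqc₂.w, Functor.map_comp_assoc, ← sq₀.w,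
        ← reassoc_of% hp]
      simp only [Category.assoc]
    · simp only [Category.assoc, Functor.map_comp, c2]
      exact hφg.symm
  have : IsIso φ.hom.left := inferInstanceAs (IsIso ((Over.forget S).map φ.hom))
  refine isEtaleMor_of_locP hZ' (EtLocal.locP_of_chart .etale ?_ ?_ qe hcomm (inferInstanceAs (Etale (φ.hom.left ≫ c₂.left))))
  · exact repWith_comp ((repWith_yon_map_iff _ _).2 hc₁) qe'
  · exact repWith_comp ((repWith_yon_map_iff _ _).2 inferInstance) qs'

end GrothLib.AlgSp
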