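import Groth.Prelude.Def_W4stk3decentspacesp2Birat
import Groth.Agent.Lib.AlgSp.DecentTop
import Groth.Agent.Lib.AlgSp.DecentPoints
import Groth.Agent.Lib.AlgSp.Space
import Groth.Agent.Lib.AlgSp.OpenSub
import Groth.Agent.Lib.AlgSp.GorPoint
import Groth.Agent.Lib.AlgSp.UnivExist
import Groth.Agent.Lib.AlgSp.FlatMono
import Groth.Agent.Lib.AlgSp.FinIrred
import Groth.Agent.Lib.AlgSp.SchematicDense

/-!
# Birational morphisms of decent spaces: the point over a generic point and its base change
-/

set_option autoImplicit false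
set_option backward.isDefEq.respectTransparency false

universe u

open CategoryTheory CategoryTheory.Limits AlgebraicGeometry Opposite

namespace GrothLib.AlgSp

open _root_.AlgSp

/-- A specialization in a fibre with algebraic residue extension at the generization is trivial. -/
theorem eq_of_specializes_of_residue {W V : Scheme.{u}} (h : W ⟶ V) {w w' : ↥W} (hs : w' ⤳ w)
    (he : h w = h w')
    (halg : letI := (h.residueFieldMap w').hom.toAlgebra
      Algebra.IsAlgebraic (V.residueField (h w')) (W.residueField w')) : w = w' := by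
  letI := (h.residueFieldMap w').hom.toAlgebra
  haveI := halg
  let T := W.presheaf.stalkSpecializes hs
  let φ : ↥(W.presheaf.stalk w) →+* ↥(W.residueField w') := (T ≫ W.residue w').hom
  have hF : ∀ c, ∃ d, φ d = algebraMap (V.residueField (h w')) (W.residueField w') c := fun c => by
    obtain ⟨c₀, rfl⟩ := V.residue_surjective (h w') c
    have hsp : h w' ⤳ h w := hs.map h.continuous
    have hsp' : h w ⤳ h w' := by rw [he]
    refine ⟨h.stalkMap w (V.presheaf.stalkSpecializes hsp' c₀), ?_⟩
    have h1 : V.presheaf.stalkSpecializes hsp ≫ h.stalkMap w' = h.stalkMap w ≫ T :=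
      Scheme.Hom.stalkSpecializes_stalkMap h _ _ hs
    have h2 : V.presheaf.stalkSpecializes hsp' ≫ V.presheaf.stalkSpecializes hsp = 𝟙 _ := by
      rw [TopCat.Presheaf.stalkSpecializes_comp, TopCat.Presheaf.stalkSpecializes_refl]
    have h3 : V.presheaf.stalkSpecializes hsp' ≫ h.stalkMap w ≫ T ≫ W.residue w' =
        V.residue (h w') ≫ h.residueFieldMap w' := by
      rw [← Category.assoc (h.stalkMap w), ← h1, Category.assoc, ← Scheme.residue_residueFieldMap,
        reassoc_of% h2]
    exact congrArg (fun m : V.presheaf.stalk (h w') ⟶ W.residueField w' => m c₀) h3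
  let R : Subalgebra (V.residueField (h w')) (W.residueField w') :=
    { φ.range.toSubsemiring with algebraMap_mem' := fun c => hF c }
  have hR : IsField R := Subalgebra.isField_of_algebraic R
  have hloc : IsLocalHom T.hom := by
    refine ⟨fun a ha => ?_⟩
    by_contra hna
    have hne : φ a ≠ 0 := (ha.map (W.residue w').hom).ne_zero
    obtain ⟨⟨_, b, rfl⟩, hb⟩ := hR.mul_inv_cancel (a := ⟨φ a, a, rfl⟩) (fun e => hne (congrArg Subtype.val e))
    have hu : IsUnit (a * b - 1) := by
      have hm : a * b ∈ IsLocalRing.maximalIdeal _ := Ideal.mul_mem_right _ _ ((IsLocalRing.mem_maximalIdeal a).2 hna)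
      rw [← IsLocalRing.notMem_maximalIdeal]
      exact fun h' => (IsLocalRing.maximalIdeal.isMaximal _).ne_top
        ((Ideal.eq_top_iff_one (IsLocalRing.maximalIdeal ↥(W.presheaf.stalk w))).2 (by simpa using sub_mem hm h'))
    have h0 : φ (a * b - 1) = 0 := by
      rw [map_sub, map_mul, map_one, sub_eq_zero]
      exact congrArg Subtype.val hb
    exact not_isUnit_zero (h0 ▸ hu.map φ)
  have e1 : W.fromSpecStalk w (Spec.map T (IsLocalRing.closedPoint _)) = w' := by
    rw [← Scheme.Hom.comp_apply, Scheme.SpecMap_stalkSpecializes_fromSpecStalk, Scheme.fromSpecStalk_closedPoint]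
  rwa [show Spec.map T (IsLocalRing.closedPoint _) = IsLocalRing.closedPoint _ from
    @IsLocalRing.comap_closedPoint _ _ _ _ _ _ T.hom hloc, Scheme.fromSpecStalk_closedPoint] at e1

/-- Base change of a morphism along the spectrum of a local ring, when the fibre is one point with a stalk iso. -/
theorem isIso_snd_of_fibre {U V : Scheme.{u}} (g : U ⟶ V) {u : ↥U} {v : ↥V} (hu : g u = v)
    [IsIso (g.stalkMap u)] {P : Scheme.{u}} (fst : P ⟶ U) (snd : P ⟶ Spec (V.presheaf.stalk v))
    (sq : IsPullback fst snd g (V.fromSpecStalk v)) (hP : ∀ p, fst p = u) : IsIso snd := by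
  subst hu
  let T := Spec.map (g.stalkMap u)
  have hT : T ≫ V.fromSpecStalk (g u) = U.fromSpecStalk u ≫ g := Scheme.SpecMap_stalkMap_fromSpecStalk g
  let σ : Spec (V.presheaf.stalk (g u)) ⟶ P := sq.lift (inv T ≫ U.fromSpecStalk u) (𝟙 _) (by
    rw [Category.assoc, ← hT, IsIso.inv_hom_id_assoc, Category.id_comp])
  haveI : IsPreimmersion fst := MorphismProperty.of_isPullback sq.flip (inferInstanceAs (IsPreimmersion (V.fromSpecStalk (g u))))
  haveI : Subsingleton ↥P := ⟨fun p q => fst.isEmbedding.injective ((hP p).trans (hP q).symm)⟩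
  let p := σ (IsLocalRing.closedPoint _)
  haveI : IsAffine P := inferInstance
  haveI : Subsingleton (PrimeSpectrum Γ(P, ⊤)) :=
    ⟨fun x y => P.isoSpec.inv.homeomorph.injective (Subsingleton.elim _ _)⟩
  haveI : Nonempty (PrimeSpectrum Γ(P, ⊤)) := ⟨P.isoSpec.hom p⟩
  haveI : IsLocalRing Γ(P, ⊤) := by
    haveI : Nontrivial Γ(P, ⊤) := PrimeSpectrum.nonempty_iff_nontrivial.1 inferInstance
    obtain ⟨m, hm⟩ := Ideal.exists_maximal Γ(P, ⊤)
    exact IsLocalRing.of_unique_max_ideal ⟨m, hm, fun m' hm' =>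
      congrArg PrimeSpectrum.asIdeal (Subsingleton.elim (⟨m', hm'.isPrime⟩ : PrimeSpectrum Γ(P, ⊤)) ⟨m, hm.isPrime⟩)⟩
  obtain ⟨k, hk⟩ : ∃ k : P ⟶ Spec (U.presheaf.stalk u), k ≫ U.fromSpecStalk u = fst :=
    by
      let f₁ : Spec Γ(P, ⊤) ⟶ U := P.isoSpec.inv ≫ fst
      have hu' : f₁ (IsLocalRing.closedPoint _) = u := hP _
      refine ⟨P.isoSpec.hom ≫ Spec.map (Scheme.stalkClosedPointTo f₁) ≫
        Spec.map (U.presheaf.stalkSpecializes (specializes_of_eq hu')), ?_⟩
      have e₁ : Spec.map (U.presheaf.stalkSpecializes (specializes_of_eq hu')) ≫ U.fromSpecStalk u =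
          U.fromSpecStalk (f₁ (IsLocalRing.closedPoint _)) := Scheme.SpecMap_stalkSpecializes_fromSpecStalk _
      rw [Category.assoc, Category.assoc, e₁, Scheme.Spec_stalkClosedPointTo_fromSpecStalk]
      simp [f₁]
  have hk' : k ≫ T = snd := by
    rw [← cancel_mono (V.fromSpecStalk (g u)), Category.assoc, hT, reassoc_of% hk, sq.w]
  refine ⟨σ, sq.hom_ext ?_ ?_, sq.lift_snd _ _ _⟩
  · rw [Category.assoc, sq.lift_fst, ← hk', Category.assoc, IsIso.hom_inv_id_assoc, hk, Category.id_comp]
  · rw [Category.assoc, sq.lift_snd, Category.comp_id, Category.id_comp]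

/-- If the base change to the local ring is trivial, the stalk map is an isomorphism. -/
theorem isIso_stalkMap_of_section {R V : Scheme.{u}} (g : R ⟶ V) {v : ↥V} (σ : Spec (V.presheaf.stalk v) ⟶ R)
    (sq : IsPullback σ (𝟙 _) g (V.fromSpecStalk v)) {r : ↥R} (hr : σ (IsLocalRing.closedPoint _) = r) :
    IsIso (g.stalkMap r) := by
  have hg : g r = v := by
    rw [← hr, ← Scheme.Hom.comp_apply, sq.w, Category.id_comp, Scheme.fromSpecStalk_closedPoint]
  subst hg
  let T := Spec.map (g.stalkMap r)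
  have hT : T ≫ V.fromSpecStalk (g r) = R.fromSpecStalk r ≫ g := Scheme.SpecMap_stalkMap_fromSpecStalk g
  have hTσ : T ≫ σ = R.fromSpecStalk r := by
    have e := sq.lift_snd (R.fromSpecStalk r) T hT.symm
    rw [Category.comp_id] at e
    have e' := sq.lift_fst (R.fromSpecStalk r) T hT.symm
    rwa [e] at e'
  let k := Spec.map (Scheme.stalkClosedPointTo σ) ≫
    Spec.map (R.presheaf.stalkSpecializes (specializes_of_eq hr))
  have hk : k ≫ R.fromSpecStalk r = σ := by
    have e₁ : Spec.map (R.presheaf.stalkSpecializes (specializes_of_eq hr)) ≫ R.fromSpecStalk r =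
        R.fromSpecStalk (σ (IsLocalRing.closedPoint _)) := Scheme.SpecMap_stalkSpecializes_fromSpecStalk _
    rw [Category.assoc, e₁, Scheme.Spec_stalkClosedPointTo_fromSpecStalk]
  haveI : IsIso T := ⟨k, by
    rw [← cancel_mono (R.fromSpecStalk r), Category.assoc, hk, hTσ, Category.id_comp], by
    rw [← cancel_mono (V.fromSpecStalk (g r)), Category.assoc, hT, reassoc_of% hk, sq.w]⟩
  haveI : IsIso (Scheme.Spec.map (g.stalkMap r).op) := inferInstanceAs (IsIso T)
  haveI := isIso_of_reflects_iso (g.stalkMap r).op Scheme.Spec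
  exact isIso_of_op _

variable {S : Scheme.{u}} {X Y : Space S} {f : X ⟶ Y}

theorem mem_genericPoints_iff (hX : IsDecent X.obj) {U : Over S} {a : (yon S).obj U ⟶ X.obj}
    (ha : RepWith @Etale a) (u : ↥U.left) :
    Points.ofPt a u ∈ genericPoints (Points X.obj) ↔ ringKrullDim ↥(U.left.presheaf.stalk u) = 0 := by
  rw [← isGenericPoint_component_iff X.property hX ha u]
  exact ⟨fun h => ⟨_, h, isGenericPoint_closure⟩, fun ⟨T, hT, h⟩ => by
    show closure {Points.ofPt a u} ∈ irreducibleComponents _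
    rwa [h.def]⟩

theorem ringKrullDim_zero_iff_isMax {U : Scheme.{u}} (u : ↥U) :
    ringKrullDim ↥(U.presheaf.stalk u) = 0 ↔ ∀ u', u' ⤳ u → u' = u := by
  rw [ringKrullDim_stalk_eq_coheight, show (0 : WithBot ℕ∞) = ((0 : ℕ∞) : WithBot ℕ∞) from rfl, WithBot.coe_inj,
    Order.coheight_eq_zero]
  exact ⟨fun h u' hs => (hs.antisymm (Scheme.le_iff_specializes.1 (h (Scheme.le_iff_specializes.2 hs)))).eq,
    fun h u' hle => le_of_eq (h u' (Scheme.le_iff_specializes.1 hle))⟩

theorem exists_generic_specializes (U : Scheme.{u}) (u : ↥U) :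
    ∃ u' : ↥U, u' ⤳ u ∧ ∀ u'', u'' ⤳ u' → u'' = u' := by
  obtain ⟨g, hg⟩ := QuasiSober.sober (irreducibleComponent_mem_irreducibleComponents u).1 isClosed_irreducibleComponent
  refine ⟨g, hg.specializes mem_irreducibleComponent, fun u'' hs => ?_⟩
  have hle := (irreducibleComponent_mem_irreducibleComponents u).2 isIrreducible_singleton.closure
    (hg.def.symm.subset.trans (specializes_iff_closure_subset.1 hs))
  exact (hs.antisymm (hg.specializes (hle (subset_closure rfl)))).eq

/-- The only point over a generic point of the target is the generic point of the source. -/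
theorem eq_of_map_mem_genericPoints (hX : IsDecent X.obj) (hY : IsDecent Y.obj)
    (hf : W4stk3decentspacesp2.IsBirational f.hom) {z : Points X.obj}
    (hz : Points.map f.hom z ∈ genericPoints (Points Y.obj)) : z ∈ genericPoints (Points X.obj) := by
  obtain ⟨x, hx, hxy⟩ := hf.bijOn.surjOn hz
  obtain ⟨U₀, V₀, a, b, g, u, ha, hb, hab, rfl, hiso⟩ := hf.stalkIso x hx
  have hbe : RepWith @Etale b := repWith_mono hb fun _ _ k (_ : IsOpenImmersion k) => inferInstance
  have hae : RepWith @Etale a := repWith_mono ha fun _ _ k (_ : IsOpenImmersion k) => inferInstance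
  have hv : Points.ofPt b (g.left u) = Points.map f.hom z := by
    rw [← hxy, Points.map_ofPt, hab, ofPt_map_comp]
  have hvmax := (ringKrullDim_zero_iff_isMax _).1 ((mem_genericPoints_iff hY hbe (g.left u)).1 (hv ▸ hz))
  obtain ⟨W, p, h, w, hpe, hc, hw, hhw⟩ := exists_chart_over_point X.property Y.property f.hom b hbe z (g.left u) hv
  obtain ⟨w', hs, hmax⟩ := exists_generic_specializes W.left w
  have hgen : Points.ofPt p w' ∈ genericPoints (Points X.obj) :=
    (mem_genericPoints_iff hX hpe w').2 ((ringKrullDim_zero_iff_isMax w').2 hmax)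
  have hw'v : h.left w' = g.left u := hvmax _ (hhw ▸ hs.map h.left.continuous)
  have hx' : Points.ofPt p w' = Points.ofPt a u := hf.bijOn.injOn hgen hx (by
    rw [hxy, ← hv, Points.map_ofPt, hc, ofPt_map_comp, hw'v])
  -- compare the residue extensions at the generic point
  obtain ⟨R, r₁, r₂, sqR⟩ := exists_isPullback_yon X.property.diag p a
  obtain ⟨r, hr₁, hr₂⟩ := (ofPt_eq_ofPt_iff sqR w' u).1 hx'
  have hcomm : r₁ ≫ h = r₂ ≫ g := by
    apply (yon S).map_injective
    haveI : Mono b := mono_of_openImmersion hb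
    rw [← cancel_mono b, Functor.map_comp, Functor.map_comp, Category.assoc, Category.assoc, ← hc, ← hab,
      sqR.w_assoc]
  haveI : Etale r₂.left := hpe.2 _ _ _ sqR
  have halg : letI := (h.left.residueFieldMap w').hom.toAlgebra
      Algebra.IsAlgebraic (V₀.left.residueField (h.left w')) (W.left.residueField w') := by
    have key : ∀ (k : R.left ⟶ V₀.left), k = r₂.left ≫ g.left → (k.residueFieldMap r).hom.IsIntegral := by
      rintro k rfl
      have h1 : (r₂.left.residueFieldMap r).hom.IsIntegral := by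
        letI := (r₂.left.residueFieldMap r).hom.toAlgebra
        exact algebraMap_isIntegral_iff.2 (Algebra.IsAlgebraic.isIntegral (K := _) )
      haveI : IsIso (g.left.stalkMap (r₂.left r)) := by rw [hr₂]; exact hiso
      have h2 : (g.left.residueFieldMap (r₂.left r)).hom.IsIntegral := by
        refine RingHom.isIntegral_of_surjective _ fun c => ?_
        obtain ⟨c₀, rfl⟩ := U₀.left.residue_surjective (r₂.left r) c
        obtain ⟨d, hd⟩ := (ConcreteCategory.bijective_of_isIso (g.left.stalkMap (r₂.left r))).2 c₀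
        exact ⟨V₀.left.residue _ d, by
          rw [← hd, ← CommRingCat.comp_apply, Scheme.residue_residueFieldMap, CommRingCat.comp_apply]⟩
      rw [Scheme.residueFieldMap_comp]
      exact RingHom.IsIntegral.trans _ _ h2 h1
    have h3 : ((r₁.left ≫ h.left).residueFieldMap r).hom.IsIntegral := key _ (congrArg (fun m => m.left) hcomm)
    rw [Scheme.residueFieldMap_comp, CommRingCat.hom_comp] at h3
    subst hr₁
    have h4 : (h.left.residueFieldMap (r₁.left r)).hom.IsIntegral := fun c => by
      obtain ⟨P, hPm, hPe⟩ := h3 ((r₁.left.residueFieldMap r).hom c)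
      refine ⟨P, hPm, (r₁.left.residueFieldMap r).hom.injective ?_⟩
      rw [map_zero, Polynomial.hom_eval₂]
      exact hPe
    letI := (h.left.residueFieldMap (r₁.left r)).hom.toAlgebra
    exact ⟨fun c => IsIntegral.isAlgebraic (h4 c)⟩
  rw [← hw, eq_of_specializes_of_residue h.left hs (hhw.trans hw'v.symm) halg]
  exact hgen

/-- The base change of a birational morphism along the spectrum of the local ring at a generic point. -/
theorem isIso_baseChange_fromSpecStalk (hX : IsDecent X.obj) (hY : IsDecent Y.obj)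
    (hf : W4stk3decentspacesp2.IsBirational f.hom) {V : Over S} (b : (yon S).obj V ⟶ Y.obj)
    (hb : RepWith @Etale b) (v : ↥V.left) (hv : Points.ofPt b v ∈ genericPoints (Points Y.obj)) {P : Sp S}
    (fst : P ⟶ X.obj) (snd : P ⟶ (yon S).obj (Over.mk (V.left.fromSpecStalk v ≫ V.hom)))
    (hP : IsPullback fst snd f.hom
      ((yon S).map (Over.homMk (V.left.fromSpecStalk v) rfl : Over.mk (V.left.fromSpecStalk v ≫ V.hom) ⟶ V) ≫ b)) :
    IsIso snd := by
  obtain ⟨x, hx, hxy⟩ := hf.bijOn.surjOn hv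
  obtain ⟨U₀, V₀, a, b₀, g, u, ha, hb₀, hab, rfl, hiso⟩ := hf.stalkIso x hx
  have hb₀e : RepWith @Etale b₀ := repWith_mono hb₀ fun _ _ k (_ : IsOpenImmersion k) => inferInstance
  let Q₀ : Over S := Over.mk (V₀.left.fromSpecStalk (g.left u) ≫ V₀.hom)
  let c₀ : Q₀ ⟶ V₀ := Over.homMk (V₀.left.fromSpecStalk (g.left u)) rfl
  let Q₁ : Over S := Over.mk (V.left.fromSpecStalk v ≫ V.hom)
  let c₁ : Q₁ ⟶ V := Over.homMk (V.left.fromSpecStalk v) rfl
  have hv₀ : Points.ofPt b₀ (g.left u) = Points.ofPt b v := by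
    rw [← hxy, Points.map_ofPt, hab, ofPt_map_comp]
  have hsing : ∀ {W : Over S} {w : (yon S).obj W ⟶ Y.obj}, RepWith @Etale w → ∀ w₀ : ↥W.left,
      Points.ofPt w w₀ ∈ genericPoints (Points Y.obj) → ∀ q, W.left.fromSpecStalk w₀ q = w₀ := by
    intro W w hw w₀ hw₀ q
    refine (ringKrullDim_zero_iff_isMax w₀).1 ((mem_genericPoints_iff hY hw w₀).1 hw₀) _ ?_
    have : W.left.fromSpecStalk w₀ q ∈ Set.range (W.left.fromSpecStalk w₀) := ⟨q, rfl⟩
    rwa [Scheme.range_fromSpecStalk] at this
  -- the base change over the open subscheme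
  have hbase : ∀ {P₀ : Sp S} (s₁ : P₀ ⟶ X.obj) (s₂ : P₀ ⟶ (yon S).obj Q₀),
      IsPullback s₁ s₂ f.hom ((yon S).map c₀ ≫ b₀) → IsIso s₂ := by
    intro P₀ s₁ s₂ sq
    obtain ⟨l, hl⟩ := (exists_factor_iff ha s₁).2 (by
      rintro _ ⟨p, rfl⟩
      obtain ⟨t, ht⟩ := (Points.schemeHomeo Q₀).surjective (Points.map s₂ p)
      have hgen : Points.map f.hom (Points.map s₁ p) = Points.ofPt b v := by
        rw [← Points.map_comp, sq.w, Points.map_comp, ← ht, Points.map_comp, Points.map_yon_map_apply]
        change Points.map b₀ (Points.schemeHomeo V₀ (V₀.left.fromSpecStalk (g.left u) t)) = _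
        rw [hsing hb₀e (g.left u) (hv₀ ▸ hv) t, ← hv₀, Points.ofPt_eq_map_ofScheme]
        rfl
      rw [hf.bijOn.injOn (eq_of_map_mem_genericPoints hX hY hf (hgen ▸ hv)) hx (hgen.trans hxy.symm),
        Points.ofPt_eq_map_ofScheme]
      exact ⟨_, rfl⟩)
    haveI : Mono a := mono_of_openImmersion ha
    haveI : Mono b₀ := mono_of_openImmersion hb₀
    have sq' : IsPullback l s₂ ((yon S).map g) ((yon S).map c₀) := by
      have hw' : l ≫ (yon S).map g = s₂ ≫ (yon S).map c₀ := by
        rw [← cancel_mono b₀, Category.assoc, Category.assoc, ← hab, reassoc_of% hl, sq.w]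
      refine IsPullback.of_isLimit' ⟨hw'⟩ (PullbackCone.IsLimit.mk _
        (fun s => sq.lift (s.fst ≫ a) s.snd (by
          rw [Category.assoc, hab, s.condition_assoc]))
        (fun s => ?_) (fun s => sq.lift_snd _ _ _) (fun s m h₁ h₂ => ?_))
      · rw [← cancel_mono a, Category.assoc, hl, sq.lift_fst]
      · refine sq.hom_ext ?_ ?_
        · rw [sq.lift_fst, ← hl, reassoc_of% h₁]
        · rw [sq.lift_snd, h₂]
    have sqO := IsPullback.of_hasPullback g c₀
    have sqL : IsPullback (pullback.fst g c₀).left (pullback.snd g c₀).left g.left c₀.left :=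
      sqO.map (Over.forget S)
    haveI : IsIso (pullback.snd g c₀).left := by
      haveI := hiso
      refine isIso_snd_of_fibre g.left (u := u) rfl _ _ sqL fun p => ?_
      have hmap : Points.map f.hom (Points.ofPt a ((pullback.fst g c₀).left p)) = Points.ofPt b v := by
        rw [Points.map_ofPt, hab, ofPt_map_comp, ← Scheme.Hom.comp_apply, sqL.w, Scheme.Hom.comp_apply]
        change Points.ofPt b₀ (V₀.left.fromSpecStalk (g.left u) _) = _
        rw [hsing hb₀e (g.left u) (hv₀ ▸ hv), hv₀]
      have := hf.bijOn.injOn (eq_of_map_mem_genericPoints hX hY hf (hmap ▸ hv)) hx (hmap.trans hxy.symm)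
      rw [Points.ofPt_eq_map_ofScheme, Points.ofPt_eq_map_ofScheme] at this
      exact (Points.schemeHomeo U₀).injective (injective_map_of_mono a this)
    haveI : IsIso (pullback.snd g c₀) := by
      haveI : IsIso ((Over.forget S).map (pullback.snd g c₀)) := inferInstanceAs (IsIso (pullback.snd g c₀).left)
      exact isIso_of_reflects_iso _ (Over.forget S)
    rw [← (sq'.isoIsPullback_hom_snd _ _ (sqO.map (yon S)))]
    infer_instance
  -- descend to the open subscheme
  obtain ⟨W, w₁, w₂, sqW⟩ := exists_isPullback_yon Y.property.diag b b₀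
  obtain ⟨w, hw₁, hw₂⟩ := (ofPt_eq_ofPt_iff sqW v (g.left u)).1 hv₀.symm
  haveI : IsOpenImmersion w₁.left := hb₀.2 _ _ _ sqW.flip
  obtain ⟨l, hl⟩ : ∃ l : Q₁.left ⟶ W.left, l ≫ w₁.left = V.left.fromSpecStalk v :=
    ⟨IsOpenImmersion.lift w₁.left (V.left.fromSpecStalk v) (by
      rintro _ ⟨q, rfl⟩
      exact ⟨w, hw₁.trans (hsing hb v hv q).symm⟩), IsOpenImmersion.lift_fac _ _ _⟩
  have hl₂ : ∃ m : Q₁.left ⟶ Spec (V₀.left.presheaf.stalk (g.left u)),
      m ≫ V₀.left.fromSpecStalk (g.left u) = l ≫ w₂.left := by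
    obtain ⟨k, hk⟩ : ∃ k : Q₁.left ⟶ Spec (W.left.presheaf.stalk w), k ≫ W.left.fromSpecStalk w = l := by
      refine ⟨Spec.map (V.left.presheaf.stalkSpecializes (specializes_of_eq hw₁.symm)) ≫
        inv (Spec.map (w₁.left.stalkMap w)), ?_⟩
      rw [← cancel_mono w₁.left, Category.assoc, Category.assoc, hl,
        ← Scheme.SpecMap_stalkMap_fromSpecStalk, IsIso.inv_hom_id_assoc,
        Scheme.SpecMap_stalkSpecializes_fromSpecStalk]
    refine ⟨k ≫ Spec.map (V₀.left.presheaf.stalkSpecializes (specializes_of_eq hw₂) ≫ w₂.left.stalkMap w), ?_⟩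
    rw [← hk, Spec.map_comp, Category.assoc, Category.assoc, Category.assoc,
      Scheme.SpecMap_stalkSpecializes_fromSpecStalk, Scheme.SpecMap_stalkMap_fromSpecStalk]
  obtain ⟨m, hm⟩ := hl₂
  have e1 : l ≫ W.hom = V.left.fromSpecStalk v ≫ V.hom := by
    rw [← hl, Category.assoc, show w₁.left ≫ V.hom = W.hom from Over.w w₁]
  let lO : Q₁ ⟶ W := Over.homMk l e1
  let mO : Q₁ ⟶ Q₀ := Over.homMk m (by
    change m ≫ V₀.left.fromSpecStalk _ ≫ V₀.hom = _
    rw [reassoc_of% hm, show w₂.left ≫ V₀.hom = W.hom from Over.w w₂]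
    exact e1)
  have hmw : mO ≫ c₀ = lO ≫ w₂ := Over.OverMorphism.ext hm
  have hlw : lO ≫ w₁ = c₁ := Over.OverMorphism.ext hl
  have hcomm : (yon S).map mO ≫ ((yon S).map c₀ ≫ b₀) = (yon S).map c₁ ≫ b := by
    rw [← Category.assoc, ← Functor.map_comp, hmw, Functor.map_comp, Category.assoc, ← sqW.w,
      ← Category.assoc, ← Functor.map_comp, hlw]
  have sq₀ := IsPullback.of_hasPullback f.hom ((yon S).map c₀ ≫ b₀)
  haveI := hbase _ _ sq₀
  rw [← hcomm] at hP
  have hw₀ : fst ≫ f.hom = (snd ≫ (yon S).map mO) ≫ ((yon S).map c₀ ≫ b₀) := by rw [hP.w, Category.assoc]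
  rw [← sq₀.lift_fst fst (snd ≫ (yon S).map mO) hw₀] at hP
  exact (IsPullback.of_right hP (sq₀.lift_snd _ _ hw₀) sq₀).isIso_snd_of_isIso

theorem genPt_iff {U : Scheme.{u}} (u : ↥U) :
    u ∈ genericPoints ↥U ↔ ringKrullDim ↥(U.presheaf.stalk u) = 0 := by
  rw [ringKrullDim_zero_iff_isMax]
  constructor
  · intro h u' hs
    exact (hs.antisymm (specializes_iff_closure_subset.2
      (h.2 isIrreducible_singleton.closure (specializes_iff_closure_subset.1 hs)))).eq
  · intro h
    obtain ⟨g, hs, -⟩ := exists_generic_specializes U u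
    have hT := irreducibleComponent_mem_irreducibleComponents u
    obtain ⟨η, hη⟩ := QuasiSober.sober hT.1 isClosed_irreducibleComponent
    show closure {u} ∈ irreducibleComponents _
    rw [← h η (hη.specializes mem_irreducibleComponent), hη.def]
    exact hT

theorem genPt_iff_ofPt (hX : IsDecent X.obj) {U : Over S} {a : (yon S).obj U ⟶ X.obj}
    (ha : RepWith @Etale a) (u : ↥U.left) :
    u ∈ genericPoints ↥U.left ↔ Points.ofPt a u ∈ genericPoints (Points X.obj) :=
  (genPt_iff u).trans (mem_genericPoints_iff hX ha u).symm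

/-- Open subsets which are dense contain the generic points when there are finitely many components. -/
theorem genericPoints_subset_of_dense {α : Type*} [TopologicalSpace α] [T0Space α]
    (hfin : (irreducibleComponents α).Finite) {W : Set α} (hW : IsOpen W) (hd : Dense W) :
    genericPoints α ⊆ W := by
  intro x hx
  let C : Set α := ⋃ T ∈ irreducibleComponents α \ {closure {x}}, T
  have hC : IsClosed C := hfin.sdiff.isClosed_biUnion fun T hT => isClosed_of_mem_irreducibleComponents _ hT.1
  have hxC : x ∉ C := by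
    simp only [C, Set.mem_iUnion, not_exists]
    intro T hT hxT
    have h1 : closure {x} ⊆ T :=
      (isClosed_of_mem_irreducibleComponents _ hT.1).closure_subset_iff.2 (Set.singleton_subset_iff.2 hxT)
    exact hT.2 (Set.mem_singleton_iff.2 (Set.Subset.antisymm (hx.2 hT.1.1 h1) h1))
  obtain ⟨z, hzC, hzW⟩ := hd.inter_open_nonempty _ hC.isOpen_compl ⟨x, hxC⟩
  have hz : x ⤳ z := by
    rw [specializes_iff_mem_closure]
    by_contra hne
    exact hzC (Set.mem_biUnion (x := irreducibleComponent z)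
      ⟨irreducibleComponent_mem_irreducibleComponents z, fun e => hne (e ▸ mem_irreducibleComponent)⟩
      mem_irreducibleComponent)
  exact hz.mem_open hW hzW

theorem dense_of_genericPoints_subset {α : Type*} [TopologicalSpace α] [QuasiSober α] {W : Set α}
    (h : genericPoints α ⊆ W) : Dense W := by
  intro z
  obtain ⟨g, hg⟩ := QuasiSober.sober (irreducibleComponent_mem_irreducibleComponents z).1 isClosed_irreducibleComponent
  refine closure_mono (Set.singleton_subset_iff.2 (h ?_)) (hg.def.symm ▸ mem_irreducibleComponent)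
  show closure {g} ∈ irreducibleComponents _
  rw [hg.def]; exact irreducibleComponent_mem_irreducibleComponents z

/-- A dense open subscheme of the source mapping into one of the target, birational as a map of schemes. -/
theorem exists_scheme_model (hX : IsDecent X.obj) (hY : IsDecent Y.obj)
    (hXf : (irreducibleComponents (Points X.obj)).Finite) (hYf : (irreducibleComponents (Points Y.obj)).Finite)
    (hf : W4stk3decentspacesp2.IsBirational f.hom) :
    ∃ (R V₀ : Over S) (a : (yon S).obj R ⟶ X.obj) (b : (yon S).obj V₀ ⟶ Y.obj) (g : R ⟶ V₀),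
      RepWith @IsOpenImmersion a ∧ RepWith @IsOpenImmersion b ∧ a ≫ f.hom = (yon S).map g ≫ b ∧
      genericPoints (Points X.obj) ⊆ Set.range (Points.ofPt a) ∧
      genericPoints (Points Y.obj) ⊆ Set.range (Points.ofPt b) ∧
      (irreducibleComponents ↥R.left).Finite ∧ (irreducibleComponents ↥V₀.left).Finite ∧
      Set.BijOn g.left (genericPoints ↥R.left) (genericPoints ↥V₀.left) ∧
      ∀ r : ↥R.left, r ∈ genericPoints ↥R.left → IsIso (g.left.stalkMap r) := by
  haveI := t0Space_of_isDecent X.property hX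
  haveI := t0Space_of_isDecent Y.property hY
  obtain ⟨NX, hNX, hdX, hrX⟩ := exists_dense_open_subscheme X.property hX
  obtain ⟨NY, hNY, hdY, hrY⟩ := exists_dense_open_subscheme Y.property hY
  obtain ⟨X₀, ⟨rX⟩⟩ := hrX.has_representation
  obtain ⟨V₀, ⟨rY⟩⟩ := hrY.has_representation
  let a₀ := (isoOfRepresentableBy rX).hom ≫ openSubι X.obj NX
  let b := (isoOfRepresentableBy rY).hom ≫ openSubι Y.obj NY
  have ha₀ : RepWith @IsOpenImmersion a₀ := repWith_comp (repWith_iso _) (repWith_openSubι hNX)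
  have hb : RepWith @IsOpenImmersion b := repWith_comp (repWith_iso _) (repWith_openSubι hNY)
  obtain ⟨R, q, g, sq⟩ := exists_isPullback_yon Y.property.diag (a₀ ≫ f.hom) b
  have hq : RepWith @IsOpenImmersion ((yon S).map q) := repWith_of_isPullback sq.flip hb
  let a := (yon S).map q ≫ a₀
  have ha : RepWith @IsOpenImmersion a := repWith_comp hq ha₀
  have hae : RepWith @Etale a := repWith_mono ha fun _ _ k (_ : IsOpenImmersion k) => inferInstance
  have hbe : RepWith @Etale b := repWith_mono hb fun _ _ k (_ : IsOpenImmersion k) => inferInstance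
  have hab : a ≫ f.hom = (yon S).map g ≫ b := (Category.assoc _ _ _).trans sq.w
  haveI : Mono a := mono_of_openImmersion ha
  haveI : Mono b := mono_of_openImmersion hb
  have hinj : ∀ {Z : Sp S} {T : Over S} (c : (yon S).obj T ⟶ Z) [Mono c], Function.Injective (Points.ofPt c) :=
    fun c _ t t' e => by
      rw [Points.ofPt_eq_map_ofScheme, Points.ofPt_eq_map_ofScheme] at e
      exact (Points.schemeHomeo _).injective (injective_map_of_mono c e)
  have hrange : ∀ {Z : Sp S} {T : Over S} (N : Set (Points Z)) (e : (yon S).obj T ≅ openSub Z N),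
      IsOpen N → Set.range (Points.ofPt (e.hom ≫ openSubι Z N)) = N := fun {Z} {T} N e hN => by
    refine Set.Subset.antisymm ?_ fun z hz => ?_
    · rintro _ ⟨t, rfl⟩
      rw [← Points.map_ofPt]
      exact Set.ext_iff.1 (range_openSubι (F := Z) (W := N)) _ |>.1 ⟨_, rfl⟩
    · rw [← range_openSubι (F := Z) (W := N)] at hz
      obtain ⟨w, rfl⟩ := hz
      obtain ⟨t, ht⟩ := (Points.schemeHomeo T).surjective (Points.map e.inv w)
      refine ⟨t, ?_⟩
      rw [Points.ofPt_eq_map_ofScheme, Points.map_comp, show Points.ofScheme T t = Points.map e.inv w from ht,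
        ← Points.map_comp e.inv, e.inv_hom_id, Points.map_id]
  have hgY : genericPoints (Points Y.obj) ⊆ Set.range (Points.ofPt b) := by
    rw [hrange NY _ hNY]; exact genericPoints_subset_of_dense hYf hNY hdY
  have hgX : genericPoints (Points X.obj) ⊆ Set.range (Points.ofPt a) := by
    intro x hx
    obtain ⟨t, rfl⟩ := (hrange NX (isoOfRepresentableBy rX) hNX).symm ▸
      genericPoints_subset_of_dense hXf hNX hdX hx
    obtain ⟨v, hv⟩ := hgY (hf.bijOn.mapsTo hx)
    obtain ⟨z, hz, -⟩ := exists_of_isPullback sq (x := Points.schemeHomeo X₀ t) (y := Points.schemeHomeo V₀ v) (by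
      rw [Points.map_comp, show Points.map a₀ (Points.schemeHomeo X₀ t) = Points.ofPt a₀ t from
        (Points.ofPt_eq_map_ofScheme _ _).symm, ← hv, Points.ofPt_eq_map_ofScheme]; rfl)
    obtain ⟨r, rfl⟩ := (Points.schemeHomeo R).surjective z
    refine ⟨r, ?_⟩
    rw [show a = (yon S).map q ≫ a₀ from rfl, Points.ofPt_eq_map_ofScheme, Points.map_comp,
      show Points.map ((yon S).map q) (Points.ofScheme R r) = Points.schemeHomeo X₀ t from hz,
      Points.ofPt_eq_map_ofScheme]
    rfl
  have hfinC : ∀ {Z : Space S} {T : Over S} {c : (yon S).obj T ⟶ Z.obj}, IsDecent Z.obj → RepWith @Etale c →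
      Function.Injective (Points.ofPt c) → (irreducibleComponents (Points Z.obj)).Finite →
      (irreducibleComponents ↥T.left).Finite := by
    intro Z T c hZ hc hci hfin
    haveI := t0Space_of_isDecent Z.property hZ
    refine FinIrred.finite_components_of_dim_zero (Set.Finite.of_finite_image ?_ hci.injOn)
    refine (Set.Finite.of_finite_image (hfin.subset (Set.image_subset_iff.2 fun z hz => hz))
      fun a _ b _ e => (isGenericPoint_closure (x := a)).eq e.symm).subset ?_
    rintro _ ⟨t, ht, rfl⟩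
    exact (mem_genericPoints_iff hZ hc t).2 ht
  have hgen : ∀ r, Points.ofPt b (g.left r) = Points.map f.hom (Points.ofPt a r) := fun r => by
    rw [Points.map_ofPt, hab, ofPt_map_comp]
  refine ⟨R, V₀, a, b, g, ha, hb, hab, hgX, hgY, hfinC hX hae (hinj a) hXf, hfinC hY hbe (hinj b) hYf,
    ⟨fun r hr => ?_, fun r hr r' hr' e => hinj a (hf.bijOn.injOn ((genPt_iff_ofPt hX hae r).1 hr)
      ((genPt_iff_ofPt hX hae r').1 hr') (by rw [← hgen, ← hgen, e])), fun v hv => ?_⟩, fun r hr => ?_⟩
  · rw [genPt_iff_ofPt hY hbe, hgen]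
    exact hf.bijOn.mapsTo ((genPt_iff_ofPt hX hae r).1 hr)
  · obtain ⟨x, hx, hxy⟩ := hf.bijOn.surjOn ((genPt_iff_ofPt hY hbe v).1 hv)
    obtain ⟨r, rfl⟩ := hgX hx
    exact ⟨r, (genPt_iff_ofPt hX hae r).2 hx, hinj b ((hgen r).trans hxy)⟩
  obtain ⟨U₁, V₁, a₁, b₁, g₁, u₁, ha₁, hb₁, hab₁, hu₁, hiso⟩ := hf.stalkIso _ ((genPt_iff_ofPt hX hae r).1 hr)
  obtain ⟨T, t, t₁, sqT⟩ := exists_isPullback_yon X.property.diag a a₁
  obtain ⟨W, w, w₁, sqW⟩ := exists_isPullback_yon Y.property.diag b b₁
  haveI : IsOpenImmersion t.left := ha₁.2 _ _ _ sqT.flip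
  haveI : IsOpenImmersion t₁.left := ha.2 _ _ _ sqT
  haveI : IsOpenImmersion w.left := hb₁.2 _ _ _ sqW.flip
  haveI : IsOpenImmersion w₁.left := hb.2 _ _ _ sqW
  obtain ⟨s, hs, hs₁⟩ := (ofPt_eq_ofPt_iff sqT r u₁).1 hu₁.symm
  obtain ⟨k, hk⟩ := (yon S).map_surjective (sqW.lift ((yon S).map (t ≫ g)) ((yon S).map (t₁ ≫ g₁)) (by
    rw [Functor.map_comp, Functor.map_comp, Category.assoc, Category.assoc, ← hab, ← hab₁, sqT.w_assoc]))
  have h₁ : t ≫ g = k ≫ w := (yon S).map_injective (by
    rw [(yon S).map_comp k w, hk, sqW.lift_fst])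
  have h₂ : t₁ ≫ g₁ = k ≫ w₁ := (yon S).map_injective (by
    rw [(yon S).map_comp k w₁, hk, sqW.lift_snd])
  subst hs hs₁
  haveI := hiso
  have key : ∀ (m : T.left ⟶ V₁.left), m = t₁.left ≫ g₁.left → IsIso (m.stalkMap s) := by
    rintro m rfl; rw [Scheme.Hom.stalkMap_comp]; infer_instance
  have key' := key _ (congrArg (fun z => z.left) h₂).symm
  change IsIso ((k.left ≫ w₁.left).stalkMap s) at key'
  rw [Scheme.Hom.stalkMap_comp] at key'
  haveI := key'
  haveI : IsIso (k.left.stalkMap s) := IsIso.of_isIso_comp_left (w₁.left.stalkMap (k.left s)) _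
  have key₂ : ∀ (m : T.left ⟶ V₀.left), m = k.left ≫ w.left → IsIso (m.stalkMap s) := by
    rintro m rfl; rw [Scheme.Hom.stalkMap_comp]; infer_instance
  have key₂' := key₂ _ (congrArg (fun z => z.left) h₁)
  change IsIso ((t.left ≫ g.left).stalkMap s) at key₂'
  rw [Scheme.Hom.stalkMap_comp] at key₂'
  haveI := key₂'
  exact IsIso.of_isIso_comp_right (g.left.stalkMap (t.left s)) (t.left.stalkMap s)

theorem eq_of_ofPt_eq {Z : Sp S} {T : Over S} (c : (yon S).obj T ⟶ Z) [Mono c] {t t' : ↥T.left}
    (e : Points.ofPt c t = Points.ofPt c t') : t = t' := by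
  rw [Points.ofPt_eq_map_ofScheme, Points.ofPt_eq_map_ofScheme] at e
  exact (Points.schemeHomeo _).injective (injective_map_of_mono c e)

end GrothLib.AlgSp
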