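import Groth.Agent.Lib.AlgSp.BootstrapQuot
import Groth.Agent.Lib.AlgSp.Glue
import Groth.Agent.Lib.AlgSp.Immersion
import Groth.Agent.Lib.AlgSp.SourceLocal

/-!
# Sheaves covered by a family of fppf charts

* `isAlgSpace_of_scheme_family`: a family of maps from schemes with scheme fibre products, flat lfp;
* `isAlgSpace_of_repBySp_family`: a family of maps from algebraic spaces, representable by algebraic spaces.
-/

universe u

open CategoryTheory CategoryTheory.Limits AlgebraicGeometry Opposite

namespace GrothLib.AlgSp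

open _root_.AlgSp

variable {S : Scheme.{u}} {F : Sp S}

/-- A map is locally surjective if maps from schemes lift fppf locally around every point. -/
theorem isLocallySurjective_of_point_lifts {X G : Sp S} {a : X ⟶ G}
    (h : ∀ (T : Over S) (g : (yon S).obj T ⟶ G) (t : ↥T.left), ∃ (V : Over S) (c : V ⟶ T)
      (l : (yon S).obj V ⟶ X), Flat c.left ∧ LocallyOfFinitePresentation c.left ∧ t ∈ Set.range c.left ∧
      l ≫ a = (yon S).map c ≫ g) :
    Sheaf.IsLocallySurjective a where
  imageSieve_mem {T} x := by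
    choose V c l hf hp ht hl using h T ((J S).uliftYonedaEquiv.{u + 1}.symm x)
    refine GrothendieckTopology.superset_covering _ ?_ (ofArrows_mem V c hf hp fun t => ⟨t, ht t⟩)
    rintro Z g ⟨_, k, _, ⟨t⟩, rfl⟩
    refine ⟨(J S).uliftYonedaEquiv.{u + 1} ((yon S).map k ≫ l t), ?_⟩
    erw [← GrothendieckTopology.uliftYonedaEquiv_comp]
    rw [Category.assoc, hl, ← Functor.map_comp_assoc,
      ← GrothendieckTopology.uliftYonedaEquiv_naturality, Equiv.apply_symm_apply]

/-- A family of maps from schemes with scheme kernel products gives an algebraic space. -/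
theorem isAlgSpace_of_scheme_family {ι : Type u} (U : ι → Over S) (π : ∀ i, (yon S).obj (U i) ⟶ F)
    (hR : ∀ i j, ∃ (R : Over S) (t : R ⟶ U i) (s : R ⟶ U j),
      IsPullback ((yon S).map t) ((yon S).map s) (π i) (π j) ∧ Flat s.left ∧ LocallyOfFinitePresentation s.left)
    (hl : ∀ (T : Over S) (g : (yon S).obj T ⟶ F) (t : ↥T.left), ∃ (i : ι) (V : Over S) (c : V ⟶ T)
      (l : (yon S).obj V ⟶ (yon S).obj (U i)), Flat c.left ∧ LocallyOfFinitePresentation c.left ∧
      t ∈ Set.range c.left ∧ l ≫ π i = (yon S).map c ≫ g) :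
    IsAlgSpace F := by
  let M := sigmaOver U
  obtain ⟨P, hP, -⟩ := exists_hom_of_sigma U π
  have : Sheaf.IsLocallySurjective P := isLocallySurjective_of_point_lifts fun T g t => by
    obtain ⟨i, V, c, l, h₁, h₂, h₃, h₄⟩ := hl T g t
    exact ⟨V, c, l ≫ (yon S).map (sigmaι U i), h₁, h₂, h₃, by rw [Category.assoc, hP i, h₄]⟩
  choose R t s sq hsf hsp using hR
  have sG := IsPullback.of_hasPullback P P
  have hcU : ∀ i, IsOpenImmersion (sigmaι U i).left := fun i =>
    inferInstanceAs (IsOpenImmersion (Sigma.ι (fun i => (U i).left) i))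
  let fR : ∀ p : ι × ι, (yon S).obj (R p.1 p.2) ⟶ pullback P P := fun p =>
    pullback.lift ((yon S).map (t p.1 p.2 ≫ sigmaι U p.1)) ((yon S).map (s p.1 p.2 ≫ sigmaι U p.2)) (by
      rw [Functor.map_comp, Functor.map_comp, Category.assoc, Category.assoc, hP, hP, (sq _ _).w])
  -- the pieces are open
  have hop : ∀ p, RepWith @IsOpenImmersion (fR p) := fun p => by
    obtain ⟨i, j⟩ := p
    let mid := pullback P (π j)
    let a : (yon S).obj (R i j) ⟶ mid := pullback.lift ((yon S).map (t i j ≫ sigmaι U i)) ((yon S).map (s i j))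
      (by rw [Functor.map_comp, Category.assoc, hP, (sq i j).w])
    have sa : IsPullback a ((yon S).map (t i j)) (pullback.fst P (π j)) ((yon S).map (sigmaι U i)) := by
      refine IsPullback.of_right ?_ ?_ (IsPullback.of_hasPullback P (π j)).flip
      · rw [pullback.lift_snd, hP]
        exact (sq i j).flip
      · rw [pullback.lift_fst, Functor.map_comp]
    have h₁ : RepWith @IsOpenImmersion a := repWith_of_isPullback sa.flip ((repWith_yon_map_iff _ _).2 (hcU i))
    let b : mid ⟶ pullback P P := pullback.lift (pullback.fst P (π j)) (pullback.snd P (π j) ≫ (yon S).map (sigmaι U j))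
      (by rw [pullback.condition, Category.assoc, hP])
    have sb : IsPullback b (pullback.snd P (π j)) (pullback.snd P P) ((yon S).map (sigmaι U j)) := by
      refine IsPullback.of_right ?_ (pullback.lift_snd _ _ _) sG
      rw [pullback.lift_fst, hP]
      exact IsPullback.of_hasPullback P (π j)
    have h₂ : RepWith @IsOpenImmersion b := repWith_of_isPullback sb.flip ((repWith_yon_map_iff _ _).2 (hcU j))
    have e : fR (i, j) = a ≫ b := by
      apply pullback.hom_ext
      · simp only [fR, a, b, Category.assoc]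
        rw [pullback.lift_fst, pullback.lift_fst, pullback.lift_fst]
      · simp only [fR, a, b, Category.assoc]
        rw [pullback.lift_snd, pullback.lift_snd, ← Category.assoc, pullback.lift_snd, Functor.map_comp]
    rw [e]
    exact repWith_comp h₁ h₂
  -- the pieces cover
  have hcov : ∀ z : Points (pullback P P), ∃ p, z ∈ Set.range (Points.map (fR p)) := fun z => by
    obtain ⟨K, _, str, g, rfl⟩ := exists_ofPt z
    obtain ⟨a, ha⟩ := (yon S).map_surjective (g ≫ pullback.fst P P)
    obtain ⟨b, hb⟩ := (yon S).map_surjective (g ≫ pullback.snd P P)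
    obtain ⟨⟨i, x⟩, hx⟩ := (sigmaMk fun i => (U i).left).surjective (a.left (IsLocalRing.closedPoint K))
    obtain ⟨⟨j, y⟩, hy⟩ := (sigmaMk fun i => (U i).left).surjective (b.left (IsLocalRing.closedPoint K))
    rw [sigmaMk_mk] at hx hy
    have hfac : ∀ (k : ι) (w : Over.mk str ⟶ M) (v : (U k).left),
        (sigmaι U k).left v = w.left (IsLocalRing.closedPoint K) → ∃ w₀ : Over.mk str ⟶ U k, w₀ ≫ sigmaι U k = w := by
      intro k w v hv
      have := hcU k
      have hr : Set.range w.left ⊆ Set.range (sigmaι U k).left := by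
        rintro _ ⟨q, rfl⟩
        rw [Subsingleton.elim (α := PrimeSpectrum K) q (IsLocalRing.closedPoint K)]
        exact ⟨v, hv⟩
      exact ⟨Over.homMk (IsOpenImmersion.lift (sigmaι U k).left w.left hr)
        (by rw [← Over.w (sigmaι U k), IsOpenImmersion.lift_fac_assoc]; exact Over.w w),
        Over.OverMorphism.ext (IsOpenImmersion.lift_fac _ _ _)⟩
    obtain ⟨a₀, ha₀⟩ := hfac i a x hx
    obtain ⟨b₀, hb₀⟩ := hfac j b y hy
    have hw : (yon S).map a₀ ≫ π i = (yon S).map b₀ ≫ π j := by
      rw [← hP i, ← hP j, ← Category.assoc, ← Category.assoc, ← Functor.map_comp, ← Functor.map_comp, ha₀, hb₀,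
        ha, hb, Category.assoc, Category.assoc, pullback.condition]
    refine ⟨(i, j), Points.ofPt ((sq i j).lift _ _ hw) (IsLocalRing.closedPoint K), ?_⟩
    rw [Points.map_ofPt]
    congr 1
    apply pullback.hom_ext
    · simp only [fR, Category.assoc, pullback.lift_fst, Functor.map_comp]
      rw [(sq i j).lift_fst_assoc, ← Functor.map_comp, ha₀, ha]
    · simp only [fR, Category.assoc, pullback.lift_snd, Functor.map_comp]
      rw [(sq i j).lift_snd_assoc, ← Functor.map_comp, hb₀, hb]
  obtain ⟨RR, e, m, hm⟩ := exists_iso_yon_of_openCover (fun p : ι × ι => R p.1 p.2) fR hop hcov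
  let tt : RR ⟶ M := (yon S).preimage (e.hom ≫ pullback.fst P P)
  let ss : RR ⟶ M := (yon S).preimage (e.hom ≫ pullback.snd P P)
  have sq' : IsPullback ((yon S).map tt) ((yon S).map ss) P P := by
    refine sG.of_iso e.symm (Iso.refl _) (Iso.refl _) (Iso.refl _) ?_ ?_ ?_ ?_ <;> simp [tt, ss]
  have hms : ∀ p, m p ≫ ss = s p.1 p.2 ≫ sigmaι U p.2 := fun p => (yon S).map_injective (by
    rw [Functor.map_comp, Functor.map_preimage, ← Category.assoc, (hm p).2, pullback.lift_snd])
  have hmcov : ∀ r : RR.left, ∃ p w, (m p).left w = r := fun r => by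
    obtain ⟨p, z, hz⟩ := hcov (Points.map e.hom (Points.ofScheme RR r))
    obtain ⟨w, rfl⟩ := (Points.schemeEquiv _).surjective z
    refine ⟨p, w, (Points.schemeEquiv RR).injective ((map_bijective_of_iso e).1 ?_)⟩
    refine Eq.trans ?_ hz
    rw [← (hm p).2, Points.map_comp]
    exact congrArg _ (map_yon_ofPt (m p) w).symm
  have hloc : ∀ (Q : MorphismProperty Scheme.{u}) [IsZariskiLocalAtSource Q] [Q.IsStableUnderComposition],
      (∀ i, Q (sigmaι U i).left) → (∀ i j, Q (s i j).left) → Q ss.left := by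
    intro Q _ _ h₁ h₂
    refine (IsZariskiLocalAtSource.iff_of_openCover (P := Q)
      (Scheme.Cover.mkOfCovers (P := @IsOpenImmersion) (ι × ι) (fun p => (R p.1 p.2).left) (fun p => (m p).left)
        hmcov (fun p => (hm p).1))).2 fun p => ?_
    show Q ((m p).left ≫ ss.left)
    rw [← Over.comp_left, hms, Over.comp_left]
    exact Q.comp_mem _ _ (h₂ _ _) (h₁ _)
  have : Flat ss.left := hloc @Flat (fun i => have := hcU i; inferInstance) hsf
  have : LocallyOfFinitePresentation ss.left :=
    hloc @LocallyOfFinitePresentation (fun i => have := hcU i; inferInstance) hsp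
  obtain ⟨hd, h₁, h₂, h₃⟩ := fppf_chart_of_kernelPair sq'
  exact isAlgSpace_of_fppf_chart hd h₁ h₂ h₃

/-- Flat and locally of finite presentation, for morphisms of sheaves. -/
abbrev FlatLfpMor : MorphismProperty (Sp S) := LocP @Flat ⊓ LocP @LocallyOfFinitePresentation

theorem flatLfpMor_etale_comp ⦃P₁ P₂ : Sp S⦄ ⦃T : Over S⦄ (a' : P₁ ⟶ P₂) (π : P₂ ⟶ (yon S).obj T)
    (h₁ : IsAlgSpace P₁) (h₂ : IsAlgSpace P₂) (he : RepWith @Etale a') (_hs : RepWith @Surjective a')
    (h : FlatLfpMor π) : FlatLfpMor (a' ≫ π) :=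
  ⟨EtLocal.locP_comp EtLocal.flat h₁ h₂ (IsAlgSpace.yon_obj T)
      (EtLocal.locP_of_repWith EtLocal.flat h₂ (repWith_mono he fun _ _ g hg => by
        have : Etale g := hg; infer_instance)) h.1,
    EtLocal.locP_comp EtLocal.lfp h₁ h₂ (IsAlgSpace.yon_obj T)
      (EtLocal.locP_of_repWith EtLocal.lfp h₂ (repWith_mono he fun _ _ g hg => by
        have : Etale g := hg; infer_instance)) h.2⟩

/-- A sheaf with a jointly surjective family of maps from algebraic spaces which are representable by
algebraic spaces, flat and locally of finite presentation, is an algebraic space. -/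
theorem isAlgSpace_of_repBySp_family {ι : Type u} (X : ι → Sp S) (hX : ∀ i, IsAlgSpace (X i))
    (f : ∀ i, X i ⟶ F) (hf : ∀ i, RepBySpWith FlatLfpMor (f i).hom)
    (hs : ∀ (T : Over S) (g : (yon S).obj T ⟶ F) (t : ↥T.left), ∃ i,
      Points.ofScheme T t ∈ Set.range (Points.map (pullback.snd (f i) g))) :
    IsAlgSpace F := by
  choose U a ae as using fun i => (hX i).atlas
  have hπ : ∀ i, RepBySpWith FlatLfpMor (a i ≫ f i).hom := fun i =>
    repBySpWith_comp_chart (hX i) (ae i) (as i) flatLfpMor_etale_comp (hf i)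
  refine isAlgSpace_of_scheme_family U (fun i => a i ≫ f i) (fun i j => ?_) fun T g t => ?_
  · obtain ⟨hP, hQ⟩ := (repBySpWith_hom_iff _ _).1 (hπ i) (a j ≫ f j) _ _ (IsPullback.of_hasPullback _ _)
    have : Mono (prod.lift (pullback.fst (a i ≫ f i) (a j ≫ f j)) (pullback.snd (a i ≫ f i) (a j ≫ f j))) :=
      ⟨fun x y h => pullback.hom_ext (by simpa only [Category.assoc, prod.lift_fst] using h =≫ prod.fst)
        (by simpa only [Category.assoc, prod.lift_snd] using h =≫ prod.snd)⟩
    obtain ⟨R, e, -⟩ := exists_scheme_of_mono_prod hP (pullback.fst _ _) (pullback.snd _ _)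
      (locP_mono (fun _ _ g hg => by have : LocallyOfFinitePresentation g := hg; infer_instance) hQ.2)
    let t : R ⟶ U i := (yon S).preimage (e.hom ≫ pullback.fst _ _)
    let s : R ⟶ U j := (yon S).preimage (e.hom ≫ pullback.snd _ _)
    have hc : e.hom ≫ pullback.snd (a i ≫ f i) (a j ≫ f j) = (yon S).map s ≫ 𝟙 _ := by
      rw [Category.comp_id, Functor.map_preimage]
    refine ⟨R, t, s, ?_, hQ.1 e.hom (𝟙 _) s (repWith_iso _) (repWith_id _ _) hc,
      hQ.2 e.hom (𝟙 _) s (repWith_iso _) (repWith_id _ _) hc⟩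
    refine (IsPullback.of_hasPullback (a i ≫ f i) (a j ≫ f j)).of_iso e.symm (Iso.refl _) (Iso.refl _)
      (Iso.refl _) ?_ ?_ ?_ ?_ <;> simp [t, s]
  · obtain ⟨i, z, hz⟩ := hs T g t
    obtain ⟨u, hu⟩ := surjective_ofPt_of_repWith (as i) (Points.map (pullback.fst (f i) g) z)
    obtain ⟨hP, hQ⟩ := (repBySpWith_hom_iff _ _).1 (hπ i) g _ _ (IsPullback.of_hasPullback (a i ≫ f i) g)
    have he : Points.map (a i ≫ f i) (Points.ofScheme (U i) u) = Points.map g (Points.ofScheme T t) := by
      rw [Points.map_comp, ← Points.ofPt_eq_map_ofScheme, hu, ← Points.map_comp, pullback.condition,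
        Points.map_comp, hz]
    obtain ⟨p, -, hp⟩ := exists_of_isPullback (IsPullback.of_hasPullback (a i ≫ f i) g) he
    obtain ⟨W, b, be, bs⟩ := hP.atlas
    obtain ⟨w, rfl⟩ := surjective_ofPt_of_repWith bs p
    obtain ⟨c, hc⟩ := (yon S).map_surjective (b ≫ pullback.snd (a i ≫ f i) g)
    have hc' : b ≫ pullback.snd (a i ≫ f i) g = (yon S).map c ≫ 𝟙 _ := by rw [Category.comp_id, hc]
    refine ⟨i, W, c, b ≫ pullback.fst (a i ≫ f i) g, hQ.1 b (𝟙 _) c be (repWith_id _ _) hc',
      hQ.2 b (𝟙 _) c be (repWith_id _ _) hc', ⟨w, (Points.schemeEquiv T).injective ?_⟩, ?_⟩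
    · rw [Points.map_ofPt, ← hc, Points.ofPt_eq_map_ofScheme, map_yon_ofPt] at hp
      exact hp
    · rw [Category.assoc, pullback.condition, ← Category.assoc, hc]

end GrothLib.AlgSp
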