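import Groth.Agent.Lib.AlgSp.Bootstrap
import Groth.Agent.Lib.AlgSp.Quotient
import Groth.Agent.Lib.AlgSp.FppfDescent

/-!
# Quotients by fppf equivalence relations
-/

universe u

open CategoryTheory CategoryTheory.Limits AlgebraicGeometry Opposite

namespace GrothLib.AlgSp

open _root_.AlgSp

variable {S : Scheme.{u}}

/-- A locally surjective map from a scheme with flat lfp kernel pair is an fppf chart, and the diagonal is
representable. -/
theorem fppf_chart_of_kernelPair {F : Sp S} {R U : Over S} {s t : R ⟶ U} {p : (yon S).obj U ⟶ F}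
    [Sheaf.IsLocallySurjective p] (sq : IsPullback ((yon S).map t) ((yon S).map s) p p)
    [Flat s.left] [LocallyOfFinitePresentation s.left] :
    Representable (Limits.diag F) ∧ RepWith @Flat p ∧ RepWith @LocallyOfFinitePresentation p ∧
      RepWith @Surjective p := by
  have heq := isEqvRel_of_isPullback sq
  have := mono_prodLift_of_isEqvRel heq
  have hlft : LocallyOfFiniteType (prod.lift t s).left := by
    have : LocallyOfFiniteType ((prod.lift t s).left ≫ (prod.snd : U ⨯ U ⟶ U).left) := by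
      rw [← Over.comp_left, prod.lift_snd]; infer_instance
    exact locallyOfFiniteType_of_comp _ (prod.snd : U ⨯ U ⟶ U).left
  have : Sheaf.IsLocallySurjective (prodComparison (yon S) U U ≫ prod.map p p) :=
    have := isLocallySurjective_prodMap p p
    isLocallySurjective_comp _ _
  have hd : Representable (Limits.diag F) := representable_of_base_lqf _ (isPullback_prodLift sq)
    ((repWith_yon_map_iff _ _).2 (inferInstance : LocallyQuasiFinite (prod.lift t s).left))
    ((repWith_yon_map_iff _ _).2 hlft)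
    ((repWith_yon_map_iff _ _).2 (inferInstanceAs (IsSeparated (prod.lift t s).left)))
  have hp : Representable p := representable_diag_iff.1 hd p
  refine ⟨hd, repWith_of_base hp p sq fppfDescends_flat ((repWith_yon_map_iff _ _).2 ‹Flat s.left›),
    repWith_of_base hp p sq fppfDescends_lfp ((repWith_yon_map_iff _ _).2 ‹LocallyOfFinitePresentation s.left›),
    repWith_of_base hp p sq fppfDescends_surjective ((repWith_yon_map_iff _ _).2 ⟨fun x => ?_⟩)⟩
  obtain ⟨r, -, hr⟩ := (heq.equivalence U).refl (𝟙 U)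
  exact ⟨r.left x, by rw [← Scheme.Hom.comp_apply, ← Over.comp_left, hr]; rfl⟩

/-- The fppf quotient of an fppf equivalence relation of schemes is an algebraic space. -/
theorem isAlgSpace_quot {R U : Over S} {s t : R ⟶ U} (h : IsEqvRel s t) [Flat s.left]
    [LocallyOfFinitePresentation s.left] : IsAlgSpace (QuotSh.quot Scheme.fppfPrecoverage s t) := by
  have := isLocallySurjective_yonQuotπ s t
  obtain ⟨hd, h₁, h₂, h₃⟩ := fppf_chart_of_kernelPair (isPullback_yonQuotπ h)
  exact isAlgSpace_of_fppf_chart hd h₁ h₂ h₃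

/-- A quotient presentation can be made flat, lfp and locally quasi-finite. -/
theorem exists_slice_quot {R U : Over S} {s t : R ⟶ U} (h : IsEqvRel s t) [Flat s.left]
    [LocallyOfFinitePresentation s.left] :
    ∃ (R' U' : Over S) (s' t' : R' ⟶ U') (g : U' ⟶ U) (r : R' ⟶ R)
      (ψ : QuotSh.quot Scheme.fppfPrecoverage s' t' ⟶ QuotSh.quot Scheme.fppfPrecoverage s t),
      IsEqvRel s' t' ∧ r ≫ s = s' ≫ g ∧ r ≫ t = t' ≫ g ∧
      Flat s'.left ∧ LocallyOfFinitePresentation s'.left ∧ LocallyQuasiFinite s'.left ∧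
      Flat t'.left ∧ LocallyOfFinitePresentation t'.left ∧ LocallyQuasiFinite t'.left ∧
      QuotSh.quotπ Scheme.fppfPrecoverage s' t' ≫ ψ =
        QuotSh.repMap Scheme.fppfPrecoverage g ≫ QuotSh.quotπ Scheme.fppfPrecoverage s t ∧ IsIso ψ := by
  have hls := isLocallySurjective_yonQuotπ s t
  have sq := isPullback_yonQuotπ h
  obtain ⟨hd, h₁, h₂, h₃⟩ := fppf_chart_of_kernelPair sq
  obtain ⟨M, g, p, hp, hf, hl, hq, hs, -, -⟩ := exists_lqf_cover hd h₁ h₂ h₃
  obtain ⟨R', t₀, s', sq'⟩ := exists_isPullback_of_representable hf.1 p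
  obtain ⟨t', rfl⟩ := (yon S).map_surjective t₀
  let r : R' ⟶ R := (yon S).preimage (sq.lift ((yon S).map (t' ≫ g)) ((yon S).map (s' ≫ g)) (by
    rw [Functor.map_comp, Functor.map_comp, Category.assoc, Category.assoc, ← hp, sq'.w]))
  have hr₁ : r ≫ t = t' ≫ g := (yon S).map_injective (by rw [Functor.map_comp, Functor.map_preimage, IsPullback.lift_fst])
  have hr₂ : r ≫ s = s' ≫ g := (yon S).map_injective (by rw [Functor.map_comp, Functor.map_preimage, IsPullback.lift_snd])
  let q : QuotSh.rep Scheme.fppfPrecoverage M ⟶ QuotSh.quot Scheme.fppfPrecoverage s t :=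
    QuotSh.repMap Scheme.fppfPrecoverage g ≫ QuotSh.quotπ Scheme.fppfPrecoverage s t
  have hq' : (QuotSh.repIsoUliftYoneda Scheme.fppfPrecoverage M).hom ≫ p = q := by
    rw [hp, ← Category.assoc, ← repIsoUliftYoneda_naturality]
    simp [q, yonQuotπ]
  have hw : QuotSh.repMap Scheme.fppfPrecoverage s' ≫ q = QuotSh.repMap Scheme.fppfPrecoverage t' ≫ q := by
    rw [← hq', ← Category.assoc, ← Category.assoc, repIsoUliftYoneda_naturality, repIsoUliftYoneda_naturality,
      Category.assoc, Category.assoc, sq'.w]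
  let ψ : QuotSh.quot Scheme.fppfPrecoverage s' t' ⟶ QuotSh.quot Scheme.fppfPrecoverage s t :=
    coequalizer.desc q hw
  have hψ : QuotSh.quotπ Scheme.fppfPrecoverage s' t' ≫ ψ = q := coequalizer.π_desc _ _
  have hψ' : yonQuotπ s' t' ≫ ψ = p := by
    rw [Category.assoc, hψ, ← hq', Iso.inv_hom_id_assoc]
  have hls' := isLocallySurjective_of_repWith hf hl hs
  have : Epi p := (Sheaf.isLocallySurjective_iff_epi p).1 hls'
  have := IsRegularEpiCategory.regularEpiOfEpi p
  have hc : (yon S).map s' ≫ yonQuotπ s' t' = (yon S).map t' ≫ yonQuotπ s' t' := by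
    have hn : ∀ a : R' ⟶ M, (yon S).map a ≫ (QuotSh.repIsoUliftYoneda Scheme.fppfPrecoverage M).inv =
        (QuotSh.repIsoUliftYoneda Scheme.fppfPrecoverage R').inv ≫ QuotSh.repMap Scheme.fppfPrecoverage a := fun a => by
      rw [Iso.comp_inv_eq, Category.assoc, repIsoUliftYoneda_naturality, Iso.inv_hom_id_assoc]
    rw [← Category.assoc, ← Category.assoc, hn, hn, Category.assoc, Category.assoc, QuotSh.quot_condition]
  obtain ⟨v, hv⟩ := IsRegularEpi.exists_of_isKernelPair p sq' (yonQuotπ s' t') hc.symm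
  refine ⟨R', M, s', t', g, r, ψ, isEqvRel_of_isPullback sq', hr₂, hr₁, hf.2 _ _ _ sq', hl.2 _ _ _ sq',
    hq.2 _ _ _ sq', hf.2 _ _ _ sq'.flip, hl.2 _ _ _ sq'.flip, hq.2 _ _ _ sq'.flip, hψ, v, ?_, ?_⟩
  · have : Epi (QuotSh.quotπ Scheme.fppfPrecoverage s' t') := coequalizer.π_epi
    have : Epi (yonQuotπ s' t') := epi_comp _ _
    rw [← cancel_epi (yonQuotπ s' t'), ← Category.assoc, hψ', hv, Category.comp_id]
  · rw [← cancel_epi p, ← Category.assoc, hv, hψ', Category.comp_id]

end GrothLib.AlgSp
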