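import Groth.Agent.Lib.AlgSp.Decent
import Groth.Agent.Lib.AlgSp.Points
import Groth.Agent.Lib.AlgSp.FlatMono
import Groth.Agent.Lib.AlgSp.RedInduced

/-!
# Points of closed subspaces

* `isClosedMap_map_of_repWith`, `mono_of_closedImmersion`, `isDecent_of_closedImmersion`,
  `isClosedEmbedding_of_closedImmersion`.
-/

universe u

open CategoryTheory CategoryTheory.Limits AlgebraicGeometry

namespace GrothLib.AlgSp

open _root_.AlgSp

variable {S : Scheme.{u}} {F G : Sp S}

theorem isClosedMap_map_of_repWith {P : MorphismProperty Scheme.{u}}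
    (hP : ∀ ⦃A B : Scheme.{u}⦄ (h : A ⟶ B), P h → IsClosedMap h) {f : F ⟶ G} (hf : RepWith P f) :
    IsClosedMap (Points.map f) := fun W hW => isOpen_compl_iff.1 <| Points.isOpen_iff.2 fun T g => by
  rw [Set.preimage_compl, isOpen_compl_iff]
  obtain ⟨V, fst, snd, sq⟩ := exists_isPullback_of_representable hf.1 g
  have e : Points.ofPt g ⁻¹' (Points.map f '' W) = (fun r => snd.left r) '' (Points.ofPt fst ⁻¹' W) := by
    ext t
    rw [Set.mem_preimage, Points.ofPt_eq_map_ofScheme, ← Set.mem_preimage,
      preimage_image_of_isPullback sq]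
    constructor
    · rintro ⟨p, hp, e⟩
      obtain ⟨r, rfl⟩ := (Points.schemeEquiv V).surjective p
      refine ⟨r, ?_, (Points.schemeEquiv T).injective ((map_yon_ofPt snd r).symm.trans e)⟩
      rw [Set.mem_preimage, Points.ofPt_eq_map_ofScheme]
      exact hp
    · rintro ⟨r, hr, rfl⟩
      refine ⟨Points.ofScheme V r, ?_, map_yon_ofPt snd r⟩
      rw [Set.mem_preimage, ← Points.ofPt_eq_map_ofScheme]
      exact hr
  rw [e]
  exact hP _ (hf.2 _ _ _ sq) _ (hW.preimage (Points.continuous_ofPt fst))

theorem mono_of_closedImmersion {f : F ⟶ G} (hf : RepWith @IsClosedImmersion f) : Mono f :=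
  mono_of_repWith_mono (repWith_mono hf fun _ _ g hg => by
    have : IsClosedImmersion g := hg
    exact (inferInstance : Mono g))

theorem isClosedEmbedding_of_closedImmersion {f : F ⟶ G} (hf : RepWith @IsClosedImmersion f) :
    Topology.IsClosedEmbedding (Points.map f) :=
  haveI := mono_of_closedImmersion hf
  .of_continuous_injective_isClosedMap (Points.continuous_map f) (injective_map_of_mono f)
    (isClosedMap_map_of_repWith (fun _ _ h (hh : IsClosedImmersion h) => h.isClosedEmbedding.isClosedMap) hf)

/-- Spaces representable over a decent space are decent. -/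
theorem isDecent_of_representable {f : F ⟶ G} (hf : Representable f) (hG : IsDecent G) : IsDecent F :=
  isDecent_of_fibres hG fun q P fst snd sq => by
    obtain ⟨W, a, b, sq'⟩ := exists_isPullback_of_representable hf q.toHom
    exact (isDecent_yon W).of_iso (sq'.isoIsPullback _ _ sq)

end GrothLib.AlgSp
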