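import Groth.Agent.Lib.AlgSp.RedInduced
import Groth.Agent.Lib.AlgSp.LocP
import Groth.Agent.Lib.AlgSp.ClosedSub
import Mathlib.AlgebraicGeometry.IdealSheaf.Functorial

/-!
# Closed subspaces and ideal sheaves on charts

* `exists_closed_subspace`: ideal sheaves invariant under the relation of a chart cut out closed subspaces.
* `exists_chart_ideal`: every closed subspace comes from such an ideal sheaf.
* `exists_factor_ideal_iff`: factorisations through a closed subspace are inequalities of ideals.
-/

universe u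

open CategoryTheory CategoryTheory.Limits AlgebraicGeometry

namespace GrothLib.AlgSp

open _root_.AlgSp

variable {S : Scheme.{u}} {X : Sp S}

/-- Kernels of etale surjective morphisms vanish. -/
theorem ker_eq_bot_of_etale_surjective {V T : Scheme.{u}} (c : V ⟶ T) [Etale c] [Surjective c] : c.ker = ⊥ := by
  rw [← Scheme.isIso_subschemeι_iff_eq_bot]
  let s : V ⟶ pullback c.imageι c := pullback.lift c.toImage (𝟙 _) (by rw [c.toImage_imageι, Category.id_comp])
  haveI : IsIso (pullback.snd c.imageι c) := by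
    haveI : IsSplitEpi (pullback.snd c.imageι c) := ⟨⟨⟨s, pullback.lift_snd _ _ _⟩⟩⟩
    exact isIso_of_mono_of_isSplitEpi _
  exact fppfDescends_isomorphisms c.imageι c (pullback.fst _ _) (pullback.snd _ _)
    (IsPullback.of_hasPullback _ _) inferInstance inferInstance inferInstance ‹IsIso (pullback.snd c.imageι c)›

/-- Precomposition with an etale surjection does not change kernels. -/
theorem ker_comp_of_etale_surjective {V T U : Scheme.{u}} (c : V ⟶ T) [Etale c] [Surjective c] (g : T ⟶ U) :
    (c ≫ g).ker = g.ker := by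
  rw [Scheme.Hom.ker_comp, ker_eq_bot_of_etale_surjective, Scheme.IdealSheafData.map_bot]

/-- Factorisation through a closed subscheme is an inequality of ideals. -/
theorem exists_factor_subscheme_iff {T U : Over S} (I : U.left.IdealSheafData) (x : T ⟶ U) :
    (∃ x' : T ⟶ Over.mk (I.subschemeι ≫ U.hom),
      x' ≫ (Over.homMk I.subschemeι rfl : Over.mk (I.subschemeι ≫ U.hom) ⟶ U) = x) ↔ I ≤ x.left.ker := by
  constructor
  · rintro ⟨x', rfl⟩
    conv_lhs => rw [← I.ker_subschemeι]
    exact Scheme.Hom.le_ker_comp _ _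
  · intro h
    have h' : I.subschemeι.ker ≤ x.left.ker := I.ker_subschemeι.le.trans h
    let l := IsClosedImmersion.lift I.subschemeι x.left h'
    have hl : l ≫ I.subschemeι = x.left := IsClosedImmersion.lift_fac _ _ _
    exact ⟨Over.homMk l (by change l ≫ I.subschemeι ≫ U.hom = T.hom; rw [reassoc_of% hl, Over.w]),
      Over.OverMorphism.ext hl⟩

/-- An ideal sheaf of a chart is invariant under its relation. -/
def IsInvariantIdeal {U : Over S} (a : (yon S).obj U ⟶ X) (I : U.left.IdealSheafData) : Prop :=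
  ∀ ⦃R : Over S⦄ (t s : R ⟶ U), IsPullback ((yon S).map t) ((yon S).map s) a a → I.comap t.left = I.comap s.left

theorem isInvariantIdeal_of_eq {U : Over S} {a : (yon S).obj U ⟶ X} {I : U.left.IdealSheafData}
    {R : Over S} {t s : R ⟶ U} (sq : IsPullback ((yon S).map t) ((yon S).map s) a a)
    (h : I.comap t.left = I.comap s.left) : IsInvariantIdeal a I := by
  intro R' t' s' sq'
  obtain ⟨r, hr⟩ := (yon S).map_surjective (sq.lift ((yon S).map t') ((yon S).map s') sq'.w)
  have h₁ : r ≫ t = t' := (yon S).map_injective (by rw [Functor.map_comp, hr, sq.lift_fst])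
  have h₂ : r ≫ s = s' := (yon S).map_injective (by rw [Functor.map_comp, hr, sq.lift_snd])
  rw [← h₁, ← h₂, Over.comp_left, Over.comp_left, Scheme.IdealSheafData.comap_comp,
    Scheme.IdealSheafData.comap_comp, h]

/-- Ideal sheaves invariant under the relation of an etale chart cut out closed subspaces. -/
theorem exists_closed_subspace (hX : IsAlgSpace X) {U : Over S} {a : (yon S).obj U ⟶ X} (hae : RepWith @Etale a)
    (has : RepWith @Surjective a) (I : U.left.IdealSheafData) (hI : IsInvariantIdeal a I) :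
    ∃ (Z : Sp S) (i : Z ⟶ X) (p : (yon S).obj (Over.mk (I.subschemeι ≫ U.hom)) ⟶ Z),
      IsAlgSpace Z ∧ RepWith @IsClosedImmersion i ∧
      IsPullback p ((yon S).map (Over.homMk I.subschemeι rfl : Over.mk (I.subschemeι ≫ U.hom) ⟶ U)) i a := by
  haveI : Sheaf.IsLocallySurjective a := chart_isLocallySurjective hae has
  let C : Over S := Over.mk (I.subschemeι ≫ U.hom)
  let ι : C ⟶ U := Over.homMk I.subschemeι rfl
  haveI : IsClosedImmersion ι.left := inferInstanceAs (IsClosedImmersion I.subschemeι)
  obtain ⟨R, t, s, sq⟩ := exists_isPullback_yon hX.diag a a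
  -- the relation preserves the closed subscheme
  have hfac : ∀ {T₀ : Over S} (x y : T₀ ⟶ U), (yon S).map x ≫ a = (yon S).map y ≫ a →
      ∀ x' : T₀ ⟶ C, x' ≫ ι = x → ∃ y' : T₀ ⟶ C, y' ≫ ι = y := by
    intro T₀ x y hxy x' hx'
    obtain ⟨r, hr₁, hr₂⟩ := exists_lift_yon sq x y hxy
    have hle : I ≤ x.left.ker := (exists_factor_subscheme_iff I x).1 ⟨x', hx'⟩
    refine (exists_factor_subscheme_iff I y).2 ?_
    rw [← Scheme.IdealSheafData.map_bot, Scheme.IdealSheafData.le_map_iff_comap_le] at hle ⊢
    rw [← hr₁, Over.comp_left, Scheme.IdealSheafData.comap_comp, hI t s sq] at hle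
    rwa [← hr₂, Over.comp_left, Scheme.IdealSheafData.comap_comp]
  let q := (yon S).map ι ≫ a
  let p := Limits.factorThruImage q
  let i := Limits.image.ι q
  haveI : Sheaf.IsLocallySurjective p := (Sheaf.isLocallySurjective_iff_epi p).2 inferInstance
  haveI : Mono ι.left := inferInstance
  haveI : Mono ι := (Over.forget S).mono_of_mono_map ‹Mono ι.left›
  have w : p ≫ i = (yon S).map ι ≫ a := Limits.image.fac q
  have sqC : IsPullback p ((yon S).map ι) i a := isPullback_of_yon w fun T₀ z l hzl => by
    obtain ⟨l, rfl⟩ := (yon S).map_surjective l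
    obtain ⟨V, c, y, hcf, hcp, hcs, hy⟩ := exists_fppf_lift p z
    obtain ⟨y, rfl⟩ := (yon S).map_surjective y
    haveI := hcf
    haveI := hcp
    haveI := hcs
    obtain ⟨y', hy'⟩ := hfac (y ≫ ι) (c ≫ l) (by
      rw [Functor.map_comp, Category.assoc, ← w, reassoc_of% hy, hzl, ← Category.assoc, ← Functor.map_comp]) y rfl
    obtain ⟨e, he⟩ := exists_factor_of_fppf_cover ι l c y' hy'
    refine ⟨(yon S).map e, ⟨?_, by rw [← Functor.map_comp, he]⟩, ?_⟩
    · rw [← cancel_mono i, Category.assoc, w, ← Category.assoc, ← Functor.map_comp, he, hzl]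
    · rintro e' ⟨-, he'⟩
      obtain ⟨e', rfl⟩ := (yon S).map_surjective e'
      rw [← Functor.map_comp] at he'
      rw [(cancel_mono ι).1 (((yon S).map_injective he').trans he.symm)]
  have hi : RepWith @IsClosedImmersion i := repWith_of_base_isImmersion a sqC
    (le_isImmersion_of_cases (Or.inl rfl)).1 (le_isImmersion_of_cases (Or.inl rfl)).2
    ((repWith_yon_map_iff _ _).2 ‹IsClosedImmersion ι.left›)
  exact ⟨_, i, p, isAlgSpace_of_representable hX hi.1, hi, sqC⟩

/-- The ideal of a subspace on a chart has equal inverse images on the relation. -/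
theorem comap_eq_of_isPullback {Z : Sp S} {i : Z ⟶ X} {U : Over S} {a : (yon S).obj U ⟶ X}
    {I : U.left.IdealSheafData} {p : (yon S).obj (Over.mk (I.subschemeι ≫ U.hom)) ⟶ Z}
    (sq' : IsPullback p ((yon S).map (Over.homMk I.subschemeι rfl : Over.mk (I.subschemeι ≫ U.hom) ⟶ U)) i a)
    {R : Over S} {t s : R ⟶ U} (sqR : IsPullback ((yon S).map t) ((yon S).map s) a a) :
    I.comap t.left = I.comap s.left := by
  have key : ∀ {T : Over S} (x y : T ⟶ U), (yon S).map x ≫ a = (yon S).map y ≫ a →
      I ≤ x.left.ker → I ≤ y.left.ker := by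
    intro T x y hxy hx
    obtain ⟨x', hx'⟩ := (exists_factor_subscheme_iff _ x).2 hx
    obtain ⟨y', hy'⟩ := (yon S).map_surjective (sq'.lift ((yon S).map x' ≫ p) ((yon S).map y) (by
      rw [Category.assoc, sq'.w, ← Category.assoc, ← Functor.map_comp, hx', hxy]))
    refine (exists_factor_subscheme_iff _ y).1 ⟨y', (yon S).map_injective ?_⟩
    rw [Functor.map_comp, hy', sq'.lift_snd]
  have gen : ∀ (u v : R ⟶ U), (yon S).map u ≫ a = (yon S).map v ≫ a → I.comap v.left ≤ I.comap u.left := by
    intro u v huv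
    let c : Over.mk ((I.comap u.left).subschemeι ≫ R.hom) ⟶ R := Over.homMk (I.comap u.left).subschemeι rfl
    refine Scheme.IdealSheafData.le_map_iff_comap_le.1 (key (c ≫ u) (c ≫ v) ?_ ?_)
    · rw [Functor.map_comp, Functor.map_comp, Category.assoc, Category.assoc, huv]
    · exact Scheme.IdealSheafData.le_map_iff_comap_le.2 le_rfl
  exact le_antisymm (gen s t sqR.w.symm) (gen t s sqR.w)

/-- Closed subspaces come from invariant ideal sheaves. -/
theorem exists_chart_ideal {Z : Sp S} {i : Z ⟶ X} (hi : RepWith @IsClosedImmersion i)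
    {U : Over S} (a : (yon S).obj U ⟶ X) :
    ∃ (I : U.left.IdealSheafData) (p : (yon S).obj (Over.mk (I.subschemeι ≫ U.hom)) ⟶ Z),
      IsInvariantIdeal a I ∧
      IsPullback p ((yon S).map (Over.homMk I.subschemeι rfl : Over.mk (I.subschemeι ≫ U.hom) ⟶ U)) i a := by
  obtain ⟨C, p, ι, sq⟩ := exists_isPullback_of_representable hi.1 a
  haveI : IsClosedImmersion ι.left := hi.2 _ _ _ sq
  have e : ∃ p', IsPullback p' ((yon S).map (Over.homMk ι.left.ker.subschemeι rfl :
      Over.mk (ι.left.ker.subschemeι ≫ U.hom) ⟶ U)) i a := by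
    have hw : ι.left.toImage ≫ ι.left.ker.subschemeι ≫ U.hom = C.hom := by
      rw [ι.left.toImage_imageι_assoc, Over.w]
    let e : C ≅ Over.mk (ι.left.ker.subschemeι ≫ U.hom) := Over.isoMk (asIso ι.left.toImage) hw
    refine ⟨(yon S).map e.inv ≫ p, sq.of_iso ((yon S).mapIso e) (Iso.refl _) (Iso.refl _) (Iso.refl _) ?_ ?_
      (by simp) (by simp)⟩
    · rw [Functor.mapIso_hom, ← Functor.map_comp_assoc, e.hom_inv_id, CategoryTheory.Functor.map_id,
        Category.id_comp, Iso.refl_hom, Category.comp_id]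
    · simp only [Iso.refl_hom, Category.comp_id, Functor.mapIso_hom, ← Functor.map_comp]
      refine congrArg _ (Over.OverMorphism.ext ?_)
      exact ι.left.toImage_imageι.symm
  obtain ⟨p', sq'⟩ := e
  refine ⟨ι.left.ker, p', fun R t s sqR => ?_, sq'⟩
  exact comap_eq_of_isPullback sq' sqR

/-- Factorisations through a closed subspace are inequalities of ideals on charts. -/
theorem exists_factor_ideal_iff {Z F : Sp S} {i : Z ⟶ X} [Mono i] {U W : Over S} {a : (yon S).obj U ⟶ X}
    {I : U.left.IdealSheafData} {p : (yon S).obj (Over.mk (I.subschemeι ≫ U.hom)) ⟶ Z}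
    (sqC : IsPullback p ((yon S).map (Over.homMk I.subschemeι rfl : Over.mk (I.subschemeι ≫ U.hom) ⟶ U)) i a)
    {f : F ⟶ X} {b : (yon S).obj W ⟶ F} [Sheaf.IsLocallySurjective b] {g : W ⟶ U}
    (hg : b ≫ f = (yon S).map g ≫ a) :
    (∃ k, k ≫ i = f) ↔ I ≤ g.left.ker := by
  constructor
  · rintro ⟨k, rfl⟩
    obtain ⟨g', hg'⟩ := (yon S).map_surjective (sqC.lift (b ≫ k) ((yon S).map g) (by rw [Category.assoc, hg]))
    refine (exists_factor_subscheme_iff I g).1 ⟨g', (yon S).map_injective ?_⟩
    rw [Functor.map_comp, hg', sqC.lift_snd]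
  · intro h
    obtain ⟨g', hg'⟩ := (exists_factor_subscheme_iff I g).2 h
    have sq := IsPullback.of_hasPullback i f
    haveI : Mono (pullback.snd i f) := inferInstance
    haveI : Epi b := (Sheaf.isLocallySurjective_iff_epi b).1 inferInstance
    haveI : Epi (pullback.snd i f) := epi_of_epi_fac (f := sq.lift ((yon S).map g' ≫ p) b (by
      rw [Category.assoc, sqC.w, ← Category.assoc, ← Functor.map_comp, hg', hg])) (h := b) (sq.lift_snd _ _ _)
    haveI : IsIso (pullback.snd i f) := isIso_of_mono_of_epi _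
    exact ⟨inv (pullback.snd i f) ≫ pullback.fst i f, by rw [Category.assoc, pullback.condition, IsIso.inv_hom_id_assoc]⟩

end GrothLib.AlgSp
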