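import Groth.Agent.Lib.AlgSp.Descent
import Groth.Agent.Lib.AlgSp.Rep
import Groth.Agent.Lib.AlgSp.Points
import Groth.Agent.Lib.AlgSp.Bootstrap

/-!
# Disjoint unions of charts

* `repWith_sigma`, `isSeparated_sigmaOver`.
-/

universe u

open CategoryTheory CategoryTheory.Limits AlgebraicGeometry

namespace GrothLib.AlgSp

open _root_.AlgSp

variable {S : Scheme.{u}} {F : Sp S}

/-- A property local on the source holds for the disjoint union of charts having it. -/
theorem repWith_sigma (hd : Representable (Limits.diag F)) {ι : Type u} (V : ι → Over S)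
    (π : ∀ i, (yon S).obj (V i) ⟶ F) (P : (yon S).obj (sigmaOver V) ⟶ F)
    (hP : ∀ i, (yon S).map (sigmaι V i) ≫ P = π i) (Q : MorphismProperty Scheme.{u}) [IsZariskiLocalAtSource Q]
    (hQ : ∀ i, RepWith Q (π i)) : RepWith Q P := by
  refine ⟨representable_diag_iff.1 hd P, fun T W g fst snd sq => ?_⟩
  obtain ⟨φ, rfl⟩ := (yon S).map_surjective fst
  show Q snd.left
  let 𝒰 := (sigmaOpenCover fun i => (V i).left).pullback₁ φ.left
  refine (IsZariskiLocalAtSource.iff_of_openCover (P := Q) 𝒰).2 fun u => ?_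
  have sb := IsPullback.of_hasPullback φ (sigmaι V u)
  have sl := isPullback_left sb
  have hcomp : IsPullback ((yon S).map (pullback.snd φ (sigmaι V u)))
      ((yon S).map (pullback.fst φ (sigmaι V u) ≫ snd)) (π u) g := by
    rw [← hP u, Functor.map_comp]
    exact (isPullback_yon sb).flip.paste_vert sq
  have := (hQ u).2 _ _ _ hcomp
  have e : 𝒰.f u = sl.isoPullback.inv ≫ (pullback.fst φ (sigmaι V u)).left := (sl.isoPullback_inv_fst).symm
  rw [e]
  have h2 : Q (sl.isoPullback.inv ≫ (pullback.fst φ (sigmaι V u) ≫ snd).left) :=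
    (MorphismProperty.cancel_left_of_respectsIso Q sl.isoPullback.inv _).2 this
  rw [Over.comp_left, ← Category.assoc] at h2
  exact h2

theorem isSeparated_sigmaOver {ι : Type u} (V : ι → Over S) (h : ∀ i, IsSeparated (V i).hom) :
    IsSeparated (sigmaOver V).hom := isSeparated_sigmaDesc _ h

end GrothLib.AlgSp
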