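import Groth.Agent.Lib.AlgSp.ClosedDescent
import Groth.Agent.Lib.AlgSp.SigmaChart
import Groth.Agent.Lib.AlgSp.Strata
import Groth.Agent.Lib.AlgSp.PointsUniv
import Mathlib.AlgebraicGeometry.Morphisms.SchemeTheoreticallyDominant

/-!
# Scheme theoretic images in algebraic spaces

* `schIdeal`, `isSchImage_iff_schIdeal`, `exists_isSchImage_sp`.
* `ker_comap_of_flat`, `isInvariantIdeal_ker`, `schIdeal_eq_ker`.
* `exists_qc_chart`.
-/

universe u

open CategoryTheory CategoryTheory.Limits AlgebraicGeometry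

namespace GrothLib.AlgSp

open _root_.AlgSp

variable {S : Scheme.{u}} {F X : Sp S} {f : F ⟶ X}

/-- The largest invariant ideal killed on a chart of the source. -/
noncomputable def schIdeal {U W : Over S} (a : (yon S).obj U ⟶ X) (g : W ⟶ U) : U.left.IdealSheafData :=
  sSup {J | IsInvariantIdeal a J ∧ J ≤ g.left.ker}

theorem schIdeal_le {U W : Over S} (a : (yon S).obj U ⟶ X) (g : W ⟶ U) : schIdeal a g ≤ g.left.ker :=
  sSup_le fun _ hJ => hJ.2

theorem isInvariantIdeal_schIdeal {U W : Over S} (a : (yon S).obj U ⟶ X) (g : W ⟶ U) :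
    IsInvariantIdeal a (schIdeal a g) := by
  intro R t s sq
  rw [schIdeal, (Scheme.IdealSheafData.map_gc t.left).l_sSup, (Scheme.IdealSheafData.map_gc s.left).l_sSup]
  exact iSup_congr fun J => iSup_congr fun hJ => hJ.1 t s sq

theorem schIdeal_eq_ker {U W : Over S} {a : (yon S).obj U ⟶ X} {g : W ⟶ U} (h : IsInvariantIdeal a g.left.ker) :
    schIdeal a g = g.left.ker :=
  le_antisymm (schIdeal_le a g) (le_sSup (show g.left.ker ∈ {J | IsInvariantIdeal a J ∧ J ≤ g.left.ker} from
    ⟨h, le_rfl⟩))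

section Chart

variable {U W : Over S} {a : (yon S).obj U ⟶ X} {b : (yon S).obj W ⟶ F} [Sheaf.IsLocallySurjective b] {g : W ⟶ U}

/-- Scheme theoretic images exist and are cut out by the largest invariant ideal. -/
theorem exists_isSchImage_chart (hX : IsAlgSpace X) (hae : RepWith @Etale a) (has : RepWith @Surjective a)
    (hg : b ≫ f = (yon S).map g ≫ a) :
    ∃ (Z : Sp S) (i : Z ⟶ X) (p : (yon S).obj (Over.mk ((schIdeal a g).subschemeι ≫ U.hom)) ⟶ Z),
      IsAlgSpace Z ∧ IsSchImage f i ∧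
      IsPullback p ((yon S).map (Over.homMk (schIdeal a g).subschemeι rfl :
        Over.mk ((schIdeal a g).subschemeι ≫ U.hom) ⟶ U)) i a := by
  obtain ⟨Z, i, p, hZ, hi, sq⟩ := exists_closed_subspace hX hae has _ (isInvariantIdeal_schIdeal a g)
  haveI : Mono i := mono_of_closedImmersion hi
  haveI : Sheaf.IsLocallySurjective p :=
    chart_isLocallySurjective (repWith_of_isPullback sq.flip hae) (repWith_of_isPullback sq.flip has)
  refine ⟨Z, i, p, hZ, ⟨hi, (exists_factor_ideal_iff sq hg).2 (schIdeal_le a g), fun Z' i' _ hi' hf' => ?_⟩, sq⟩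
  haveI : Mono i' := mono_of_closedImmersion hi'
  obtain ⟨J, p', hJ, sq'⟩ := exists_chart_ideal hi' a
  refine (exists_factor_ideal_iff sq' (b := p) (g := Over.homMk (schIdeal a g).subschemeι rfl) sq.w).2 ?_
  exact (le_sSup (show J ∈ {J | IsInvariantIdeal a J ∧ J ≤ g.left.ker} from
    ⟨hJ, (exists_factor_ideal_iff sq' hg).1 hf'⟩)).trans (Scheme.IdealSheafData.ker_subschemeι _).ge

/-- The ideal of a scheme theoretic image on a chart. -/
theorem eq_schIdeal_of_isSchImage (hX : IsAlgSpace X) (hae : RepWith @Etale a) (has : RepWith @Surjective a)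
    (hg : b ≫ f = (yon S).map g ≫ a) {Z : Sp S} {i : Z ⟶ X} (hZ : IsSchImage f i) {J : U.left.IdealSheafData}
    {p : (yon S).obj (Over.mk (J.subschemeι ≫ U.hom)) ⟶ Z}
    (sq : IsPullback p ((yon S).map (Over.homMk J.subschemeι rfl : Over.mk (J.subschemeι ≫ U.hom) ⟶ U)) i a) :
    J = schIdeal a g := by
  haveI : Mono i := mono_of_closedImmersion hZ.1
  haveI : Sheaf.IsLocallySurjective p :=
    chart_isLocallySurjective (repWith_of_isPullback sq.flip hae) (repWith_of_isPullback sq.flip has)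
  have hJ : IsInvariantIdeal a J := fun _ _ _ sqR => comap_eq_of_isPullback sq sqR
  refine le_antisymm (le_sSup (show J ∈ {J | IsInvariantIdeal a J ∧ J ≤ g.left.ker} from
    ⟨hJ, (exists_factor_ideal_iff sq hg).1 hZ.2.1⟩)) ?_
  obtain ⟨Z₀, i₀, p₀, hZ₀, hi₀, sq₀⟩ := exists_isSchImage_chart hX hae has hg
  haveI : Mono i₀ := mono_of_closedImmersion hi₀.1
  exact ((exists_factor_ideal_iff sq₀ (b := p) (g := Over.homMk J.subschemeι rfl) sq.w).1
    (hZ.2.2 i₀ hZ₀ hi₀.1 hi₀.2.1)).trans (Scheme.IdealSheafData.ker_subschemeι _).le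

/-- Closed subspaces with the ideal of the scheme theoretic image are the scheme theoretic image. -/
theorem isSchImage_of_eq_schIdeal (hae : RepWith @Etale a) (has : RepWith @Surjective a)
    (hg : b ≫ f = (yon S).map g ≫ a) {Z : Sp S} {i : Z ⟶ X} (hi : RepWith @IsClosedImmersion i)
    {J : U.left.IdealSheafData} {p : (yon S).obj (Over.mk (J.subschemeι ≫ U.hom)) ⟶ Z}
    (sq : IsPullback p ((yon S).map (Over.homMk J.subschemeι rfl : Over.mk (J.subschemeι ≫ U.hom) ⟶ U)) i a)
    (h : J = schIdeal a g) : IsSchImage f i := by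
  haveI : Mono i := mono_of_closedImmersion hi
  haveI : Sheaf.IsLocallySurjective p :=
    chart_isLocallySurjective (repWith_of_isPullback sq.flip hae) (repWith_of_isPullback sq.flip has)
  refine ⟨hi, (exists_factor_ideal_iff sq hg).2 (h ▸ schIdeal_le a g), fun Z' i' _ hi' hf' => ?_⟩
  haveI : Mono i' := mono_of_closedImmersion hi'
  obtain ⟨J', p', hJ', sq'⟩ := exists_chart_ideal hi' a
  refine (exists_factor_ideal_iff sq' (b := p) (g := Over.homMk J.subschemeι rfl) sq.w).2 ?_
  refine le_trans ?_ (Scheme.IdealSheafData.ker_subschemeι _).ge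
  exact h ▸ le_sSup (show J' ∈ {J | IsInvariantIdeal a J ∧ J ≤ g.left.ker} from
    ⟨hJ', (exists_factor_ideal_iff sq' hg).1 hf'⟩)

end Chart

/-- Scheme theoretic images exist. -/
theorem exists_isSchImage_sp (hF : IsAlgSpace F) (hX : IsAlgSpace X) (f : F ⟶ X) :
    ∃ (Z : Sp S) (i : Z ⟶ X), IsAlgSpace Z ∧ IsSchImage f i := by
  obtain ⟨U, a, hae, has⟩ := hX.atlas
  obtain ⟨W, b, g, hbe, hg, hbs⟩ := exists_chart_over hF hX f a hae
  haveI : Sheaf.IsLocallySurjective b := chart_isLocallySurjective hbe (hbs has)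
  obtain ⟨Z, i, p, hZ, hi, -⟩ := exists_isSchImage_chart hX hae has hg
  exact ⟨Z, i, hZ, hi⟩

/-- Kernels of quasi-compact morphisms commute with flat base change. -/
theorem ker_comap_of_flat {A B V P : Scheme.{u}} {g : A ⟶ B} {φ : V ⟶ B} {pA : P ⟶ A} {pV : P ⟶ V}
    (H : IsPullback pA pV g φ) [QuasiCompact g] [Flat φ] : pV.ker = g.ker.comap φ := by
  have sq₀ := IsPullback.of_hasPullback g.imageι φ
  let n : P ⟶ pullback g.imageι φ := sq₀.lift (pA ≫ g.toImage) pV (by
    rw [Category.assoc, g.toImage_imageι]; exact H.w)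
  have sqn : IsPullback pA n g.toImage (pullback.fst g.imageι φ) := by
    refine IsPullback.of_bot ?_ (sq₀.lift_fst _ _ _).symm sq₀
    rw [sq₀.lift_snd, g.toImage_imageι]
    exact H
  haveI : Flat (pullback.fst g.imageι φ) := inferInstance
  haveI : IsSchemeTheoreticallyDominant g.toImage := by
    refine ⟨Scheme.IdealSheafData.ext_of_iSup_eq_top (fun U : B.affineOpens => ⟨_, U.2.preimage g.imageι⟩)
      (top_le_iff.1 fun x _ => ?_) fun U => ?_⟩
    · obtain ⟨O, hO, hx, -⟩ := exists_isAffineOpen_mem_and_subset (U := (⊤ : B.Opens)) (x := g.imageι x) trivial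
      exact TopologicalSpace.Opens.mem_iSup.2 ⟨⟨O, hO⟩, hx⟩
    · rw [Scheme.Hom.ker_apply, Scheme.IdealSheafData.ideal_bot, Pi.bot_apply,
        ← RingHom.injective_iff_ker_eq_bot]
      exact g.toImage_app_injective U
  haveI : QuasiCompact g.toImage := inferInstance
  haveI : IsSchemeTheoreticallyDominant n := IsSchemeTheoreticallyDominant.of_isPullback sqn
  have hn : n ≫ pullback.snd g.imageι φ = pV := sq₀.lift_snd _ _ _
  rw [← hn, Scheme.Hom.ker_comp, Scheme.Hom.ker_eq_bot, Scheme.IdealSheafData.map_bot,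
    ← pullbackSymmetry_hom_comp_fst g.imageι φ, Scheme.Hom.ker_comp_of_isIso]
  rfl

/-- Etale surjective covers of one space have the same kernel. -/
theorem ker_eq_of_covers {Q : Sp S} {A B R : Over S} {α : (yon S).obj A ⟶ Q} {β : (yon S).obj B ⟶ Q}
    (hα : RepWith @Etale α) (hα' : RepWith @Surjective α) (hβ : RepWith @Etale β) (hβ' : RepWith @Surjective β)
    {π : Q ⟶ (yon S).obj R} {g₁ : A ⟶ R} {g₂ : B ⟶ R} (h₁ : α ≫ π = (yon S).map g₁) (h₂ : β ≫ π = (yon S).map g₂) :
    g₁.left.ker = g₂.left.ker := by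
  obtain ⟨T, c, d, sq⟩ := exists_isPullback_of_representable hα.1 β
  obtain ⟨c, rfl⟩ := (yon S).map_surjective c
  haveI : Etale d.left := hα.2 _ _ _ sq
  haveI : Surjective d.left := hα'.2 _ _ _ sq
  haveI : Etale c.left := hβ.2 _ _ _ sq.flip
  haveI : Surjective c.left := hβ'.2 _ _ _ sq.flip
  have e : c ≫ g₁ = d ≫ g₂ := (yon S).map_injective (by
    rw [Functor.map_comp, Functor.map_comp, ← h₁, ← h₂, reassoc_of% sq.w])
  rw [← ker_comp_of_etale_surjective c.left g₁.left, ← Over.comp_left, e, Over.comp_left,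
    ker_comp_of_etale_surjective]

/-- Covers of a base change of a space over a chart. -/
theorem exists_cover_baseChange {U R : Over S} {P Q : Sp S} {snd : P ⟶ (yon S).obj U} {t : R ⟶ U}
    {m : Q ⟶ P} {sndQ : Q ⟶ (yon S).obj R} (sqQ : IsPullback m sndQ snd ((yon S).map t)) {W : Over S}
    {w : (yon S).obj W ⟶ P} (we : RepWith @Etale w) (ws : RepWith @Surjective w) {g : W ⟶ U}
    (hws : w ≫ snd = (yon S).map g) :
    ∃ α : (yon S).obj (pullback g t) ⟶ Q,
      RepWith @Etale α ∧ RepWith @Surjective α ∧ α ≫ sndQ = (yon S).map (pullback.snd g t) ∧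
      α ≫ m = (yon S).map (pullback.fst g t) ≫ w := by
  let α : (yon S).obj (pullback g t) ⟶ Q := sqQ.lift ((yon S).map (pullback.fst g t) ≫ w)
    ((yon S).map (pullback.snd g t)) (by
      rw [Category.assoc, hws, ← Functor.map_comp, ← Functor.map_comp, pullback.condition])
  have sqα : IsPullback ((yon S).map (pullback.fst g t)) α w m := by
    refine IsPullback.of_bot (v₂₁ := sndQ) (v₂₂ := snd) (h₃₁ := (yon S).map t) ?_ (sqQ.lift_fst _ _ _).symm sqQ
    rw [show α ≫ sndQ = (yon S).map (pullback.snd g t) from sqQ.lift_snd _ _ _, hws]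
    exact isPullback_yon (IsPullback.of_hasPullback g t)
  exact ⟨α, repWith_of_isPullback sqα we, repWith_of_isPullback sqα ws, sqQ.lift_snd _ _ _,
    sqQ.lift_fst _ _ _⟩

/-- The kernel of a quasi-compact chart of a morphism is invariant. -/
theorem isInvariantIdeal_ker {U : Over S} {a : (yon S).obj U ⟶ X} (hae : RepWith @Etale a) {P : Sp S} {fst : P ⟶ F}
    {snd : P ⟶ (yon S).obj U} (sqP : IsPullback fst snd f a) {W : Over S} {w : (yon S).obj W ⟶ P}
    (we : RepWith @Etale w) (ws : RepWith @Surjective w) {g : W ⟶ U} (hws : w ≫ snd = (yon S).map g)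
    [QuasiCompact g.left] : IsInvariantIdeal a g.left.ker := by
  intro R t s sq
  haveI : Etale t.left := hae.2 _ _ _ sq.flip
  haveI : Etale s.left := hae.2 _ _ _ sq
  have sqQ := IsPullback.of_hasPullback f ((yon S).map t ≫ a)
  let mt : pullback f ((yon S).map t ≫ a) ⟶ P :=
    sqP.lift (pullback.fst _ _) (pullback.snd _ _ ≫ (yon S).map t) (by rw [Category.assoc, pullback.condition])
  let ms : pullback f ((yon S).map t ≫ a) ⟶ P :=
    sqP.lift (pullback.fst _ _) (pullback.snd _ _ ≫ (yon S).map s) (by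
      rw [Category.assoc, ← sq.w, pullback.condition])
  have sqt : IsPullback mt (pullback.snd _ _) snd ((yon S).map t) := by
    refine IsPullback.of_right ?_ (sqP.lift_snd _ _ _) sqP
    rw [show mt ≫ fst = pullback.fst _ _ from sqP.lift_fst _ _ _]
    exact sqQ
  have sqs : IsPullback ms (pullback.snd f ((yon S).map t ≫ a)) snd ((yon S).map s) := by
    refine IsPullback.of_right ?_ (sqP.lift_snd _ _ _) sqP
    rw [show ms ≫ fst = pullback.fst _ _ from sqP.lift_fst _ _ _, ← sq.w]
    exact sqQ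
  obtain ⟨αt, te, ts, ht, -⟩ := exists_cover_baseChange sqt we ws hws
  obtain ⟨αs, se, ss, hs, -⟩ := exists_cover_baseChange sqs we ws hws
  rw [← ker_comap_of_flat (isPullback_left (IsPullback.of_hasPullback g t)),
    ← ker_comap_of_flat (isPullback_left (IsPullback.of_hasPullback g s))]
  exact ker_eq_of_covers te ts se ss ht hs

/-- Disjoint unions of morphisms with compact sources and affine targets are quasi-compact. -/
theorem quasiCompact_sigma_map {ι : Type u} {A B : ι → Scheme.{u}} (g : ∀ i, A i ⟶ B i) [∀ i, IsAffine (B i)]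
    [∀ i, QuasiCompact (g i)] : QuasiCompact (Limits.Sigma.map g) := by
  rw [quasiCompact_iff_forall_isAffineOpen]
  intro O hO
  obtain ⟨T, hT⟩ := hO.isCompact.elim_finite_subcover (fun i => Set.range (Sigma.ι B i))
    (fun i => (Sigma.ι B i).isOpenEmbedding.isOpen_range) (fun x _ => by
      obtain ⟨i, b, rfl⟩ := (sigmaOpenCover B).exists_eq x
      exact Set.mem_iUnion.2 ⟨i, b, rfl⟩)
  have e : ∀ i y, Limits.Sigma.map g (Sigma.ι A i y) = Sigma.ι B i (g i y) := fun i y => by
    rw [← Scheme.Hom.comp_apply, Sigma.ι_map, Scheme.Hom.comp_apply]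
  have hc : ∀ i, IsClosed (Set.range (Sigma.ι B i)) := fun i => by
    have h : Set.range (Sigma.ι B i) = (⋃ j ∈ {j | j ≠ i}, Set.range (Sigma.ι B j))ᶜ := by
      ext x
      obtain ⟨k, b, rfl⟩ := (sigmaOpenCover B).exists_eq x
      simp only [Set.mem_compl_iff, Set.mem_iUnion, Set.mem_setOf_eq, not_exists]
      constructor
      · rintro ⟨c, hc⟩ j hj ⟨d, hd⟩
        exact Set.disjoint_left.1 (TopologicalSpace.Opens.coe_disjoint.2 (disjoint_opensRange_sigmaι B j i hj))
          ⟨d, hd⟩ ⟨c, hc⟩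
      · intro h
        by_contra hk
        exact h k (fun hki => hk (hki ▸ ⟨b, rfl⟩)) ⟨b, rfl⟩
    rw [h]
    exact (isOpen_biUnion fun j _ => (Sigma.ι B j).isOpenEmbedding.isOpen_range).isClosed_compl
  have heq : (Limits.Sigma.map g ⁻¹ᵁ O : Set ↥(∐ A)) =
      ⋃ i ∈ T, Sigma.ι A i '' (g i ⁻¹' (Sigma.ι B i ⁻¹' (O : Set ↥(∐ B)))) := by
    ext x
    obtain ⟨k, y, rfl⟩ := (sigmaOpenCover A).exists_eq x
    change Limits.Sigma.map g (Sigma.ι A k y) ∈ O ↔ Sigma.ι A k y ∈ _
    rw [e]
    constructor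
    · intro hx
      obtain ⟨i, hi, c, hci⟩ := Set.mem_iUnion₂.1 (hT hx)
      obtain rfl : i = k := by
        by_contra hik
        exact Set.disjoint_left.1 (TopologicalSpace.Opens.coe_disjoint.2 (disjoint_opensRange_sigmaι B i k hik))
          ⟨c, hci⟩ ⟨g k y, rfl⟩
      exact Set.mem_iUnion₂.2 ⟨i, hi, y, hx, rfl⟩
    · intro hx
      obtain ⟨i, hi, z, hz, hzy⟩ := Set.mem_iUnion₂.1 hx
      rw [← e k y, ← hzy, e]
      exact hz
  rw [heq]
  refine T.finite_toSet.isCompact_biUnion fun i _ => IsCompact.image ?_ (Sigma.ι A i).continuous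
  refine QuasiCompact.isCompact_preimage _ ((Sigma.ι B i).isOpenEmbedding.continuous.isOpen_preimage _ O.2) ?_
  rw [(Sigma.ι B i).isOpenEmbedding.isInducing.isCompact_iff, Set.image_preimage_eq_inter_range]
  exact hO.isCompact.inter_right (hc i)

/-- Quasi-compact morphisms have charts with quasi-compact chart morphisms and invariant kernels. -/
theorem exists_qc_chart (hF : IsAlgSpace F) (hX : IsAlgSpace X) (hf : IsQuasiCompactMor f) :
    ∃ (U W : Over S) (a : (yon S).obj U ⟶ X) (w : (yon S).obj W ⟶ pullback f a) (g : W ⟶ U),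
      RepWith @Etale a ∧ RepWith @Surjective a ∧ RepWith @Etale w ∧ RepWith @Surjective w ∧
      w ≫ pullback.snd f a = (yon S).map g ∧ QuasiCompact g.left ∧ IsInvariantIdeal a g.left.ker := by
  obtain ⟨ι, V, r, hV, hr, hcov, -⟩ := exists_affine_charts hX
  obtain ⟨a, ha, -⟩ := exists_hom_of_sigma V r
  haveI hι : ∀ i, Etale (sigmaι V i).left := fun i => inferInstanceAs (Etale (Sigma.ι (fun i => (V i).left) i))
  have hae : RepWith @Etale a := repWith_sigma hX.diag V r a ha @Etale hr
  have has : RepWith @Surjective a := repWith_surjective_of_ofPt hae.1 fun x => by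
    obtain ⟨i, v, rfl⟩ := hcov x
    exact ⟨(sigmaι V i).left v, by rw [← ha i, ofPt_map_comp]⟩
  have sqP := IsPullback.of_hasPullback f a
  have hP : IsAlgSpace (pullback f a) := isAlgSpace_pullback' hX hF (IsAlgSpace.yon_obj _) f a
  have hch : ∀ i, ∃ (Wi : Over S) (w : (yon S).obj Wi ⟶ pullback f a) (gi : Wi ⟶ V i),
      IsAffine Wi.left ∧ RepWith @Etale w ∧ w ≫ pullback.snd f a = (yon S).map (gi ≫ sigmaι V i) ∧
      ∀ z v, Points.map (pullback.snd f a) z = Points.schemeHomeo _ ((sigmaι V i).left v) →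
        ∃ u, Points.ofPt w u = z := by
    intro i
    haveI := hV i
    have sqi := IsPullback.of_hasPullback f (r i)
    let m : pullback f (r i) ⟶ pullback f a :=
      pullback.lift (pullback.fst _ _) (pullback.snd _ _ ≫ (yon S).map (sigmaι V i)) (by
        rw [Category.assoc, ha, pullback.condition])
    have sqm : IsPullback m (pullback.snd f (r i)) (pullback.snd f a) ((yon S).map (sigmaι V i)) := by
      refine IsPullback.of_right ?_ (pullback.lift_snd _ _ _) sqP
      rw [show m ≫ pullback.fst f a = pullback.fst _ _ from pullback.lift_fst _ _ _, ha]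
      exact sqi
    obtain ⟨Wi, w, hWi, we, ws⟩ := exists_affine_surjective_chart
      (isAlgSpace_pullback' hX hF (IsAlgSpace.yon_obj _) f (r i))
      (hf (IsAlgSpace.yon_obj _) (isQuasiCompactSp_yon _) (r i) _ _ sqi)
    obtain ⟨gi, hgi⟩ := (yon S).map_surjective (w ≫ pullback.snd f (r i))
    refine ⟨Wi, w ≫ m, gi, hWi, repWith_comp we (repWith_of_isPullback sqm.flip ((repWith_yon_map_iff _ _).2
      (hι i))), ?_, fun z v hz => ?_⟩
    · rw [Category.assoc, sqm.w, ← Category.assoc, ← hgi, ← Functor.map_comp]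
    · obtain ⟨q, hq, -⟩ := exists_of_isPullback sqm (x := z) (y := Points.schemeHomeo _ v)
        (hz.trans (Points.map_yon_map_apply _ _).symm)
      obtain ⟨u, rfl⟩ := surjective_ofPt_of_repWith ws q
      exact ⟨u, by rw [← Points.map_ofPt, hq]⟩
  choose Ws ws gs hWa hwe hwg hwc using hch
  obtain ⟨w, hw, -⟩ := exists_hom_of_sigma Ws ws
  haveI : ∀ i, IsAffine (V i).left := hV
  let g : sigmaOver Ws ⟶ sigmaOver V := Over.homMk (Limits.Sigma.map fun i => (gs i).left) (by
    refine Sigma.hom_ext _ _ fun i => ?_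
    simp)
  have hgw : w ≫ pullback.snd f a = (yon S).map g := by
    refine (exists_hom_of_sigma Ws fun i => ws i ≫ pullback.snd f a).unique (fun i => ?_) fun i => ?_
    · rw [← Category.assoc, hw]
    · rw [hwg, ← Functor.map_comp]
      exact congrArg _ (Over.OverMorphism.ext (Sigma.ι_map (fun i => (gs i).left) i))
  have we : RepWith @Etale w := repWith_sigma hP.diag Ws ws w hw @Etale hwe
  have wsurj : RepWith @Surjective w := repWith_surjective_of_ofPt we.1 fun z => by
    obtain ⟨v', hv'⟩ := (Points.schemeHomeo (sigmaOver V)).surjective (Points.map (pullback.snd f a) z)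
    obtain ⟨i, v, rfl⟩ := (sigmaOpenCover fun i => (V i).left).exists_eq v'
    obtain ⟨u, rfl⟩ := hwc i z v hv'.symm
    exact ⟨(sigmaι Ws i).left u, by rw [← hw i, ofPt_map_comp]⟩
  haveI : ∀ i, IsAffine (Ws i).left := hWa
  haveI : QuasiCompact g.left := by
    haveI : ∀ i, QuasiCompact (gs i).left := fun i => by
      haveI := isAffineHom_of_isAffine (gs i).left
      infer_instance
    exact quasiCompact_sigma_map fun i => (gs i).left
  exact ⟨_, _, a, w, g, hae, has, we, wsurj, hgw, inferInstance, isInvariantIdeal_ker hae sqP we wsurj hgw⟩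

/-- The chart morphism to the source of a chart of a base change. -/
theorem chart_fst (hX : IsAlgSpace X) {U W : Over S} {a : (yon S).obj U ⟶ X} {P : Sp S} {fst : P ⟶ F}
    {snd : P ⟶ (yon S).obj U} (sqP : IsPullback fst snd f a) {w : (yon S).obj W ⟶ P} {g : W ⟶ U}
    (hae : RepWith @Etale a) (has : RepWith @Surjective a) (we : RepWith @Etale w) (ws : RepWith @Surjective w)
    (hgw : w ≫ snd = (yon S).map g) :
    (w ≫ fst) ≫ f = (yon S).map g ≫ a ∧ Sheaf.IsLocallySurjective (w ≫ fst) :=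
  ⟨by rw [Category.assoc, sqP.w, reassoc_of% hgw],
    chart_isLocallySurjective (repWith_comp we (repWith_of_isPullback sqP.flip hae))
      (repWith_comp ws (repWith_of_isPullback sqP.flip has))⟩

/-- Points factor through a closed subspace iff the ideal vanishes on them. -/
theorem exists_factor_point_iff {Z : Sp S} {i : Z ⟶ X} [Mono i] {U T : Over S} {a : (yon S).obj U ⟶ X}
    {I : U.left.IdealSheafData} {p : (yon S).obj (Over.mk (I.subschemeι ≫ U.hom)) ⟶ Z}
    (sqC : IsPullback p ((yon S).map (Over.homMk I.subschemeι rfl : Over.mk (I.subschemeι ≫ U.hom) ⟶ U)) i a)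
    (x : T ⟶ U) : (∃ k, k ≫ i = (yon S).map x ≫ a) ↔ I ≤ x.left.ker := by
  haveI : Sheaf.IsLocallySurjective (𝟙 ((yon S).obj T)) :=
    (Sheaf.isLocallySurjective_iff_epi _).2 inferInstance
  exact exists_factor_ideal_iff sqC (Category.id_comp _)

/-- Ideals of pulled back closed subspaces are inverse images. -/
theorem chartIdeal_of_isPullback {X' Z Z' : Sp S} {φ : X' ⟶ X} {i : Z ⟶ X} [Mono i] {i' : Z' ⟶ X'} [Mono i']
    {i₁ : Z' ⟶ Z} (sqZ : IsPullback i₁ i' i φ) {U U' : Over S} {a : (yon S).obj U ⟶ X} {a' : (yon S).obj U' ⟶ X'}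
    {γ : U' ⟶ U} (hγ : a' ≫ φ = (yon S).map γ ≫ a)
    {J : U.left.IdealSheafData} {p : (yon S).obj (Over.mk (J.subschemeι ≫ U.hom)) ⟶ Z}
    (sq : IsPullback p ((yon S).map (Over.homMk J.subschemeι rfl : Over.mk (J.subschemeι ≫ U.hom) ⟶ U)) i a)
    {J' : U'.left.IdealSheafData} {p' : (yon S).obj (Over.mk (J'.subschemeι ≫ U'.hom)) ⟶ Z'}
    (sq' : IsPullback p' ((yon S).map (Over.homMk J'.subschemeι rfl : Over.mk (J'.subschemeι ≫ U'.hom) ⟶ U')) i' a') :
    J' = J.comap γ.left := by
  have key : ∀ {T : Over S} (x : T ⟶ U'), J' ≤ x.left.ker ↔ J.comap γ.left ≤ x.left.ker := by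
    intro T x
    rw [← exists_factor_point_iff sq' x, ← Scheme.IdealSheafData.le_map_iff_comap_le,
      ← Scheme.Hom.ker_comp, ← Over.comp_left, ← exists_factor_point_iff sq (x ≫ γ)]
    constructor
    · rintro ⟨k, hk⟩
      exact ⟨k ≫ i₁, by rw [Category.assoc, sqZ.w, reassoc_of% hk, hγ, Functor.map_comp, Category.assoc]⟩
    · rintro ⟨k, hk⟩
      exact ⟨sqZ.lift k ((yon S).map x ≫ a') (by rw [hk, Category.assoc, hγ, Functor.map_comp, Category.assoc]),
        sqZ.lift_snd _ _ _⟩
  refine le_antisymm ?_ ?_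
  · have h := (key (Over.homMk (J.comap γ.left).subschemeι rfl :
      Over.mk ((J.comap γ.left).subschemeι ≫ U'.hom) ⟶ U')).2 (Scheme.IdealSheafData.ker_subschemeι _).ge
    exact h.trans (Scheme.IdealSheafData.ker_subschemeι _).le
  · have h := (key (Over.homMk J'.subschemeι rfl :
      Over.mk (J'.subschemeι ≫ U'.hom) ⟶ U')).1 (Scheme.IdealSheafData.ker_subschemeι _).ge
    exact h.trans (Scheme.IdealSheafData.ker_subschemeι _).le

/-- Flat base change of scheme theoretic images of quasi-compact morphisms. -/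
theorem isSchImage_of_flat_baseChange {X' F' Z Z' : Sp S} (hF : IsAlgSpace F) (hX : IsAlgSpace X)
    (hX' : IsAlgSpace X') (hf : IsQuasiCompactMor f) {φ : X' ⟶ X} (hφ : LocP @Flat φ)
    {f₁ : F' ⟶ F} {f' : F' ⟶ X'} (sqF : IsPullback f₁ f' f φ) {i : Z ⟶ X} (hZ : IsSchImage f i)
    {i₁ : Z' ⟶ Z} {i' : Z' ⟶ X'} (sqZ : IsPullback i₁ i' i φ) : IsSchImage f' i' := by
  obtain ⟨U, W, a, w, g, hae, has, we, ws, hgw, hgq, hinv⟩ := exists_qc_chart hF hX hf
  haveI := hgq
  obtain ⟨U', a', γ, ae', hγ, as'⟩ := exists_chart_over hX' hX φ a hae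
  haveI : Flat γ.left := hφ a' a γ ae' hae hγ
  have hi' : RepWith @IsClosedImmersion i' := repWith_of_isPullback sqZ hZ.1
  haveI : Mono i := mono_of_closedImmersion hZ.1
  haveI : Mono i' := mono_of_closedImmersion hi'
  obtain ⟨J, p, -, sqJ⟩ := exists_chart_ideal hZ.1 a
  obtain ⟨J', p', -, sqJ'⟩ := exists_chart_ideal hi' a'
  obtain ⟨hb, hbl⟩ := chart_fst hX (IsPullback.of_hasPullback f a) hae has we ws hgw
  haveI := hbl
  have hJ : J = g.left.ker := (eq_schIdeal_of_isSchImage hX hae has hb hZ sqJ).trans (schIdeal_eq_ker hinv)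
  have sqP' := IsPullback.of_hasPullback f' a'
  let m : pullback f' a' ⟶ pullback f a := pullback.lift (pullback.fst _ _ ≫ f₁) (pullback.snd _ _ ≫ (yon S).map γ)
    (by rw [Category.assoc, sqF.w, reassoc_of% sqP'.w, hγ, Category.assoc])
  have sqm : IsPullback m (pullback.snd f' a') (pullback.snd f a) ((yon S).map γ) := by
    refine IsPullback.of_right ?_ (pullback.lift_snd _ _ _) (IsPullback.of_hasPullback f a)
    rw [show m ≫ pullback.fst f a = pullback.fst f' a' ≫ f₁ from pullback.lift_fst _ _ _, ← hγ]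
    exact sqP'.paste_horiz sqF
  obtain ⟨α, αe, αs, hα, -⟩ := exists_cover_baseChange sqm we ws hgw
  haveI : QuasiCompact (pullback.snd g γ).left :=
    MorphismProperty.of_isPullback (isPullback_left (IsPullback.of_hasPullback g γ)) hgq
  obtain ⟨hb', hbl'⟩ := chart_fst hX' sqP' ae' (as' has) αe αs hα
  haveI := hbl'
  refine isSchImage_of_eq_schIdeal ae' (as' has) hb' hi' sqJ' ?_
  rw [schIdeal_eq_ker (isInvariantIdeal_ker ae' sqP' αe αs hα), chartIdeal_of_isPullback sqZ hγ sqJ sqJ', hJ,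
    ker_comap_of_flat (isPullback_left (IsPullback.of_hasPullback g γ))]

/-- The image of a quasi-compact morphism is dense in its scheme theoretic image. -/
theorem range_subset_closure_of_isSchImage {Z : Sp S} (hF : IsAlgSpace F) (hX : IsAlgSpace X)
    (hf : IsQuasiCompactMor f) {i : Z ⟶ X} (hZ : IsSchImage f i) :
    Set.range (Points.map i) ⊆ closure (Set.range (Points.map f)) := by
  obtain ⟨U, W, a, w, g, hae, has, we, ws, hgw, hgq, hinv⟩ := exists_qc_chart hF hX hf
  haveI := hgq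
  obtain ⟨J, p, -, sqJ⟩ := exists_chart_ideal hZ.1 a
  obtain ⟨hb, hbl⟩ := chart_fst hX (IsPullback.of_hasPullback f a) hae has we ws hgw
  haveI := hbl
  have hJ : J = g.left.ker := (eq_schIdeal_of_isSchImage hX hae has hb hZ sqJ).trans (schIdeal_eq_ker hinv)
  rintro _ ⟨z, rfl⟩
  obtain ⟨c, rfl⟩ := surjective_ofPt_of_repWith (repWith_of_isPullback sqJ.flip has) z
  rw [Points.map_ofPt, sqJ.w, ofPt_map_comp]
  have hc : J.subschemeι c ∈ closure (Set.range g.left) := by
    rw [← Scheme.Hom.support_ker, ← hJ, ← Scheme.IdealSheafData.range_subschemeι]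
    exact ⟨c, rfl⟩
  refine map_mem_closure (Points.continuous_ofPt a) hc ?_
  rintro _ ⟨x, rfl⟩
  exact ⟨Points.ofPt (w ≫ pullback.fst f a) x, by rw [Points.map_ofPt, hb, ofPt_map_comp]⟩

end GrothLib.AlgSp
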