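import Groth.Prelude.Def_AlgSpModX
import Groth.Agent.Lib.AlgSp.SchImage
import Groth.Agent.Lib.BlowUp.IdealComap

/-!
# Quasi-coherent ideals on the small etale site and closed subspaces

* `topIdeal`, `le_of_comap_opens`, `opensObj`: ideal sheaves through affine open objects of the site.
* `exists_idealData`: a quasi-coherent `IdealEt` restricted to an object of the site.
* `repKer`: the kernel of a represented morphism on an object of the site.
-/

universe u

set_option backward.isDefEq.respectTransparency false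

open CategoryTheory CategoryTheory.Limits AlgebraicGeometry

namespace GrothLib.AlgSp

open _root_.AlgSp

variable {S : Scheme.{u}}

/-- The ideal of global functions of an ideal sheaf on an affine scheme. -/
def topIdeal {A : Scheme.{u}} (J : A.IdealSheafData) (h : IsAffine A) : Ideal Γ(A, ⊤) :=
  J.ideal ⟨⊤, @isAffineOpen_top A h⟩

theorem topIdeal_comap {A B : Scheme.{u}} (hA : IsAffine A) (hB : IsAffine B) (J : B.IdealSheafData) (f : A ⟶ B) :
    topIdeal (J.comap f) hA = (topIdeal J hB).map f.appTop.hom :=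
  haveI := hA
  haveI := hB
  GrothLib.BlowUp.ideal_comap_eq_map_of_isAffine J f

theorem topIdeal_mono {A : Scheme.{u}} {J₁ J₂ : A.IdealSheafData} (h : J₁ ≤ J₂) (hA : IsAffine A) :
    topIdeal J₁ hA ≤ topIdeal J₂ hA :=
  h _

theorem topIdeal_ker {A B : Scheme.{u}} (f : A ⟶ B) [QuasiCompact f] (hB : IsAffine B) :
    topIdeal f.ker hB = RingHom.ker f.appTop.hom :=
  Scheme.Hom.ker_apply f _

/-- Inequalities of ideal sheaves are checked on global functions of affine opens. -/
theorem le_of_comap_opens {U : Scheme.{u}} {J₁ J₂ : U.IdealSheafData}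
    (h : ∀ (W : U.Opens) (hW : IsAffineOpen W),
      topIdeal (J₁.comap W.ι) hW ≤ topIdeal (J₂.comap W.ι) hW) : J₁ ≤ J₂ := by
  intro W
  have hT : (⊤ : W.1.toScheme.Opens) ≤ W.1.ι ⁻¹ᵁ W.1 := by simp
  have h' := h W.1 W.2
  unfold topIdeal at h'
  rw [GrothLib.BlowUp.ideal_comap_eq_map _ _ W _ hT, GrothLib.BlowUp.ideal_comap_eq_map _ _ W _ hT] at h'
  have hbij := ConcreteCategory.bijective_of_isIso (W.1.ι.appLE W.1 ⊤ hT)
  rwa [Ideal.map_le_iff_le_comap, Ideal.comap_map_of_bijective _ hbij] at h'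

theorem eq_of_comap_opens {U : Scheme.{u}} {J₁ J₂ : U.IdealSheafData}
    (h : ∀ (W : U.Opens) (hW : IsAffineOpen W),
      topIdeal (J₁.comap W.ι) hW = topIdeal (J₂.comap W.ι) hW) : J₁ = J₂ :=
  le_antisymm (le_of_comap_opens fun W hW => (h W hW).le) (le_of_comap_opens fun W hW => (h W hW).ge)

/-- Ideal sheaves with equal inverse images along an etale surjection are equal. -/
theorem eq_of_comap_etale_surjective {V T : Scheme.{u}} (c : V ⟶ T) [Etale c] [Surjective c]
    {J₁ J₂ : T.IdealSheafData} (h : J₁.comap c = J₂.comap c) : J₁ = J₂ := by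
  have key : ∀ J : T.IdealSheafData, (J.comap c).map c = J := fun J => by
    refine le_antisymm ?_ (J.le_map_comap c)
    haveI : Etale (pullback.snd c J.subschemeι) := inferInstance
    rw [Scheme.IdealSheafData.map, ← J.comapIso_hom_fst c, Category.assoc, pullback.condition, ← Category.assoc,
      ker_comp_of_etale_surjective ((J.comapIso c).hom ≫ pullback.snd c J.subschemeι), J.ker_subschemeι]
  rw [← key J₁, h, key J₂]

section Site

variable {X : Sp S}

/-- The object of the site of an open of an object. -/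
noncomputable def opensObj (E : EtOver X) (W : E.obj.left.left.Opens) : EtOver X :=
  EtOver.mk ((yon S).map (Over.homMk W.ι rfl : Over.mk (W.ι ≫ E.obj.left.hom) ⟶ E.obj.left) ≫ E.obj.hom)
    (repWith_comp ((repWith_yon_map_iff _ _).2 (show Etale W.ι by infer_instance)) E.property)

/-- The inclusion of an open of an object. -/
noncomputable def opensInc (E : EtOver X) (W : E.obj.left.left.Opens) : opensObj E W ⟶ E :=
  EtOver.homMk (Over.homMk W.ι rfl : Over.mk (W.ι ≫ E.obj.left.hom) ⟶ E.obj.left) rfl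

theorem opensInc_left (E : EtOver X) (W : E.obj.left.left.Opens) : (opensInc E W).hom.left.left = W.ι := rfl

theorem comp_left_left {E₁ E₂ E₃ : EtOver X} (g : E₁ ⟶ E₂) (g' : E₂ ⟶ E₃) :
    (g ≫ g').hom.left.left = g.hom.left.left ≫ g'.hom.left.left := rfl

/-- A quasi-coherent family of ideals is the family of inverse images of an ideal sheaf on every object. -/
theorem exists_idealData (I : IdealEt X) (hI : I.IsQCoh) (E : EtOver X) :
    ∃ J : E.obj.left.left.IdealSheafData, ∀ (E' : EtOver X) (g : E' ⟶ E) (hE' : IsAffine E'.obj.left.left),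
      topIdeal (J.comap g.hom.left.left) hE' = I.ideal E' hE' := by
  have hmap : ∀ {E₁ E₂ : EtOver X} (g : E₂ ⟶ E₁) (h₁ : IsAffine E₁.obj.left.left) (h₂ : IsAffine E₂.obj.left.left),
      (I.ideal E₁ h₁).map g.hom.left.left.appTop.hom = I.ideal E₂ h₂ :=
    fun g h₁ h₂ => le_antisymm (I.map_le g h₁ h₂) (hI g h₁ h₂)
  let U := E.obj.left.left
  have hT : ∀ W : U.Opens, (⊤ : W.toScheme.Opens) ≤ W.ι ⁻¹ᵁ W := fun W => by simp
  let J₀ : ∀ W : U.affineOpens, Ideal Γ(U, W.1) := fun W =>
    (I.ideal (opensObj E W.1) W.2).comap (W.1.ι.appLE W.1 ⊤ (hT W.1)).hom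
  have hJ₀ : ∀ W : U.affineOpens, (J₀ W).map (W.1.ι.appLE W.1 ⊤ (hT W.1)).hom = I.ideal (opensObj E W.1) W.2 :=
    fun W => Ideal.map_comap_of_surjective _
      (ConcreteCategory.bijective_of_isIso (W.1.ι.appLE W.1 ⊤ (hT W.1))).2 _
  have hres : ∀ (W : U.affineOpens) (f : Γ(U, W.1)),
      (J₀ W).map (U.presheaf.map (homOfLE <| U.basicOpen_le f).op).hom = J₀ (U.affineBasicOpen f) := by
    intro W f
    let D := U.affineBasicOpen f
    have hD : D.1 ≤ W.1 := U.basicOpen_le f
    let g : opensObj E D.1 ⟶ opensObj E W.1 :=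
      EtOver.homMk (Over.homMk (U.homOfLE hD) (by
        change U.homOfLE hD ≫ W.1.ι ≫ E.obj.left.hom = D.1.ι ≫ E.obj.left.hom
        rw [Scheme.homOfLE_ι_assoc])) (by
        change (yon S).map _ ≫ (yon S).map _ ≫ E.obj.hom = (yon S).map _ ≫ E.obj.hom
        rw [← Functor.map_comp_assoc]
        congr 2
        exact Over.OverMorphism.ext (U.homOfLE_ι hD))
    have hg := hmap g W.2 D.2
    rw [← hJ₀ W, ← hJ₀ D, Ideal.map_map, ← CommRingCat.hom_comp] at hg
    have e : W.1.ι.appLE W.1 ⊤ (hT W.1) ≫ g.hom.left.left.appTop =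
        U.presheaf.map (homOfLE hD).op ≫ D.1.ι.appLE D.1 ⊤ (hT D.1) := by
      rw [show g.hom.left.left.appTop = (U.homOfLE hD).appLE ⊤ ⊤ le_top from
        (U.homOfLE hD).app_eq_appLE]
      rw [Scheme.Hom.appLE_comp_appLE, Scheme.Hom.map_appLE]
      simp only [Scheme.homOfLE_ι]
    rw [e, CommRingCat.hom_comp, ← Ideal.map_map] at hg
    have hinj := (ConcreteCategory.bijective_of_isIso (D.1.ι.appLE D.1 ⊤ (hT D.1)))
    have := congrArg (Ideal.comap (D.1.ι.appLE D.1 ⊤ (hT D.1)).hom) hg
    rwa [Ideal.comap_map_of_bijective _ hinj, Ideal.comap_map_of_bijective _ hinj] at this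
  let J : U.IdealSheafData := { ideal := J₀, map_ideal_basicOpen := hres }
  have hopen : ∀ W : U.affineOpens, topIdeal (J.comap W.1.ι) W.2 = I.ideal (opensObj E W.1) W.2 := fun W => by
    unfold topIdeal
    rw [GrothLib.BlowUp.ideal_comap_eq_map J W.1.ι W _ (hT W.1)]
    exact hJ₀ W
  refine ⟨J, fun E' g hE' => ?_⟩
  -- compare on the affine opens of `E'` mapping into affine opens of `E`
  haveI := hE'
  let K : E'.obj.left.left.IdealSheafData := Scheme.IdealSheafData.ofIdealTop (I.ideal E' hE')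
  have hK : topIdeal K hE' = I.ideal E' hE' := by
    unfold topIdeal
    simp [K]
  suffices J.comap g.hom.left.left = K by rw [this, hK]
  refine Scheme.IdealSheafData.ext_of_iSup_eq_top
    (U := fun V : { V : E'.obj.left.left.affineOpens // ∃ W : U.affineOpens, V.1 ≤ g.hom.left.left ⁻¹ᵁ W.1 } => V.1)
    (top_le_iff.1 fun x _ => ?_) ?_
  · obtain ⟨W, hW, hxW, -⟩ := exists_isAffineOpen_mem_and_subset (U := (⊤ : U.Opens)) (x := g.hom.left.left x) trivial
    obtain ⟨V, hV, hxV, hVW⟩ := exists_isAffineOpen_mem_and_subset (U := g.hom.left.left ⁻¹ᵁ W) (x := x) hxW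
    exact TopologicalSpace.Opens.mem_iSup.2 ⟨⟨⟨V, hV⟩, ⟨W, hW⟩, hVW⟩, hxV⟩
  rintro ⟨V, W, hVW⟩
  let gV : opensObj E' V.1 ⟶ opensObj E W.1 :=
    EtOver.homMk (Over.homMk (g.hom.left.left.resLE W.1 V.1 hVW) (by
      change g.hom.left.left.resLE W.1 V.1 hVW ≫ W.1.ι ≫ E.obj.left.hom = V.1.ι ≫ E'.obj.left.hom
      rw [Scheme.Hom.resLE_comp_ι_assoc, Over.w g.hom.left])) (by
      change (yon S).map _ ≫ (yon S).map _ ≫ E.obj.hom = (yon S).map _ ≫ E'.obj.hom
      rw [← EtOver.w g, ← Functor.map_comp_assoc, ← Functor.map_comp_assoc]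
      congr 2
      exact Over.OverMorphism.ext (Scheme.Hom.resLE_comp_ι _ hVW))
  have h₁ : topIdeal ((J.comap g.hom.left.left).comap V.1.ι) V.2 = topIdeal (K.comap V.1.ι) V.2 := by
    rw [← Scheme.IdealSheafData.comap_comp,
      ← show g.hom.left.left.resLE W.1 V.1 hVW ≫ W.1.ι = V.1.ι ≫ g.hom.left.left from
        Scheme.Hom.resLE_comp_ι _ hVW,
      Scheme.IdealSheafData.comap_comp, topIdeal_comap V.2 W.2, hopen, topIdeal_comap V.2 hE', hK]
    exact (hmap gV W.2 V.2).trans (hmap (opensInc E' V.1) hE' V.2).symm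
  have hT' : (⊤ : V.1.toScheme.Opens) ≤ V.1.ι ⁻¹ᵁ V.1 := by simp
  unfold topIdeal at h₁
  rw [GrothLib.BlowUp.ideal_comap_eq_map _ _ V _ hT', GrothLib.BlowUp.ideal_comap_eq_map _ _ V _ hT'] at h₁
  have hbij := ConcreteCategory.bijective_of_isIso (V.1.ι.appLE V.1 ⊤ hT')
  have h₂ := congrArg (Ideal.comap (V.1.ι.appLE V.1 ⊤ hT').hom) h₁
  rwa [Ideal.comap_map_of_bijective _ hbij, Ideal.comap_map_of_bijective _ hbij] at h₂

end Site

section RepKer

variable {Z X : Sp S} {i : Z ⟶ X} (hi : Representable i)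

/-- The kernel of a represented morphism on an object of the small etale site. -/
noncomputable def repKer (E : EtOver X) : E.obj.left.left.IdealSheafData :=
  (EtOver.bcπ hi E).left.ker

theorem repKer_comap {E E' : EtOver X} (g : E' ⟶ E) [QuasiCompact (EtOver.bcπ hi E).left] :
    (repKer hi E).comap g.hom.left.left = repKer hi E' :=
  haveI := EtOver.etale_left g
  (ker_comap_of_flat (EtOver.isPullback_bcMap_left hi g)).symm

theorem idealOfRep_ideal (E : EtOver X) (hE : IsAffine E.obj.left.left) [QuasiCompact (EtOver.bcπ hi E).left] :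
    (idealOfRep hi).ideal E hE = topIdeal (repKer hi E) hE :=
  (topIdeal_ker _ hE).symm

omit hi in
theorem isClosedImmersion_bcπ (hc : RepWith @IsClosedImmersion i) (E : EtOver X) :
    IsClosedImmersion (EtOver.bcπ hc.1 E).left :=
  hc.2 _ _ _ (EtOver.isPullback_bcObj hc.1 E)

omit hi in
/-- The chart ideal of a closed subspace on an object of the site is its kernel. -/
theorem exists_repKer_square (hc : RepWith @IsClosedImmersion i) (E : EtOver X) :
    ∃ p : (yon S).obj (Over.mk ((repKer hc.1 E).subschemeι ≫ E.obj.left.hom)) ⟶ Z,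
      IsPullback p ((yon S).map (Over.homMk (repKer hc.1 E).subschemeι rfl :
        Over.mk ((repKer hc.1 E).subschemeι ≫ E.obj.left.hom) ⟶ E.obj.left)) i E.obj.hom := by
  obtain ⟨J, p, -, sq⟩ := exists_chart_ideal hc E.obj.hom
  obtain ⟨e, he⟩ := (yon S).map_surjective ((EtOver.isPullback_bcObj hc.1 E).isoIsPullback _ _ sq).hom
  haveI : IsIso ((yon S).map e) := by rw [he]; infer_instance
  haveI : IsIso e := isIso_of_fully_faithful (yon S) e
  have hJ : J = repKer hc.1 E := by
    have h := congrArg CommaMorphism.left ((yon S).map_injective (show (yon S).map (e ≫ Over.homMk J.subschemeι rfl) =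
      (yon S).map (EtOver.bcπ hc.1 E) by
        rw [Functor.map_comp, he, IsPullback.isoIsPullback_hom_snd]))
    haveI : IsIso e.left := inferInstanceAs (IsIso ((Over.forget S).map e))
    rw [repKer, ← show e.left ≫ J.subschemeι = (EtOver.bcπ hc.1 E).left from h, Scheme.Hom.ker_comp_of_isIso]
    exact J.ker_subschemeι.symm
  subst hJ
  exact ⟨p, sq⟩

omit hi in
theorem isLocallySurjective_bcObj_hom (hi : Representable i) (E : EtOver X)
    (hs : RepWith @Surjective E.obj.hom) : Sheaf.IsLocallySurjective (EtOver.bcObj hi E).obj.hom :=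
  chart_isLocallySurjective (EtOver.bcObj hi E).property
    (repWith_of_isPullback (EtOver.isPullback_bcObj hi E).flip hs)

omit hi in
/-- The fibre product of an atlas and an object, as an object of the site. -/
theorem exists_prod_obj (hX : IsAlgSpace X) (E E₀ : EtOver X) (hs : RepWith @Surjective E₀.obj.hom) :
    ∃ (R : EtOver X) (c : R ⟶ E) (_ : R ⟶ E₀), Etale c.hom.left.left ∧ Surjective c.hom.left.left := by
  obtain ⟨R, c, d, sq⟩ := exists_isPullback_yon hX.diag E.obj.hom E₀.obj.hom
  have hc : Etale c.left := E₀.property.2 _ _ _ sq.flip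
  refine ⟨EtOver.mk ((yon S).map c ≫ E.obj.hom) (repWith_comp ((repWith_yon_map_iff _ _).2 hc) E.property),
    EtOver.homMk c rfl, EtOver.homMk d sq.w.symm, hc, hs.2 _ _ _ sq.flip⟩

end RepKer

end GrothLib.AlgSp
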