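import Groth.Agent.Lib.AlgSp.CartierDescent
import Groth.Agent.Lib.AlgSp.ClosedDescent
import Groth.Agent.Lib.AlgSp.IdealEtLib
import Groth.Agent.Lib.AlgSp.ClosedSub
import Groth.Agent.Lib.AlgSp.LocP

/-!
# Effective Cartier divisors on algebraic spaces
-/

universe u

set_option backward.isDefEq.respectTransparency false

open CategoryTheory CategoryTheory.Limits AlgebraicGeometry

namespace GrothLib.AlgSp

open _root_.AlgSp

variable {S : Scheme.{u}} {X Z : Sp S} {i : Z ⟶ X}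

/-- The structure morphism of a closed subscheme over `S`. -/
noncomputable abbrev subHom {U : Over S} (I : U.left.IdealSheafData) : Over.mk (I.subschemeι ≫ U.hom) ⟶ U :=
  Over.homMk I.subschemeι rfl

/-- Ideals of a closed subspace on two charts agree on common refinements. -/
theorem comap_eq_of_squares {U U' R : Over S} {a : (yon S).obj U ⟶ X} {a' : (yon S).obj U' ⟶ X}
    {I : U.left.IdealSheafData} {p : (yon S).obj (Over.mk (I.subschemeι ≫ U.hom)) ⟶ Z}
    {I' : U'.left.IdealSheafData} {p' : (yon S).obj (Over.mk (I'.subschemeι ≫ U'.hom)) ⟶ Z}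
    (sq : IsPullback p ((yon S).map (subHom I)) i a) (sq' : IsPullback p' ((yon S).map (subHom I')) i a')
    (r : R ⟶ U) (r' : R ⟶ U') (h : (yon S).map r ≫ a = (yon S).map r' ≫ a') :
    I.comap r.left = I'.comap r'.left := by
  have key : ∀ {T : Over S} {U₁ U₂ : Over S} {a₁ : (yon S).obj U₁ ⟶ X} {a₂ : (yon S).obj U₂ ⟶ X}
      {I₁ : U₁.left.IdealSheafData} {p₁ : (yon S).obj (Over.mk (I₁.subschemeι ≫ U₁.hom)) ⟶ Z}
      {I₂ : U₂.left.IdealSheafData} {p₂ : (yon S).obj (Over.mk (I₂.subschemeι ≫ U₂.hom)) ⟶ Z}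
      (_ : IsPullback p₁ ((yon S).map (subHom I₁)) i a₁) (_ : IsPullback p₂ ((yon S).map (subHom I₂)) i a₂)
      (x : T ⟶ U₁) (y : T ⟶ U₂), (yon S).map x ≫ a₁ = (yon S).map y ≫ a₂ →
      I₁ ≤ x.left.ker → I₂ ≤ y.left.ker := by
    intro T U₁ U₂ a₁ a₂ I₁ p₁ I₂ p₂ s₁ s₂ x y hxy hx
    obtain ⟨x', hx'⟩ := (exists_factor_subscheme_iff _ x).2 hx
    obtain ⟨y', hy'⟩ := (yon S).map_surjective (s₂.lift ((yon S).map x' ≫ p₁) ((yon S).map y) (by
      rw [Category.assoc, s₁.w, ← Category.assoc, ← Functor.map_comp, hx', hxy]))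
    refine (exists_factor_subscheme_iff _ y).1 ⟨y', (yon S).map_injective ?_⟩
    rw [Functor.map_comp, hy', s₂.lift_snd]
  have gen : ∀ {U₁ U₂ : Over S} {a₁ : (yon S).obj U₁ ⟶ X} {a₂ : (yon S).obj U₂ ⟶ X}
      {I₁ : U₁.left.IdealSheafData} {p₁ : (yon S).obj (Over.mk (I₁.subschemeι ≫ U₁.hom)) ⟶ Z}
      {I₂ : U₂.left.IdealSheafData} {p₂ : (yon S).obj (Over.mk (I₂.subschemeι ≫ U₂.hom)) ⟶ Z}
      (_ : IsPullback p₁ ((yon S).map (subHom I₁)) i a₁) (_ : IsPullback p₂ ((yon S).map (subHom I₂)) i a₂)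
      (x : R ⟶ U₁) (y : R ⟶ U₂), (yon S).map x ≫ a₁ = (yon S).map y ≫ a₂ →
      I₂.comap y.left ≤ I₁.comap x.left := by
    intro U₁ U₂ a₁ a₂ I₁ p₁ I₂ p₂ s₁ s₂ x y hxy
    let c : Over.mk ((I₁.comap x.left).subschemeι ≫ R.hom) ⟶ R := Over.homMk (I₁.comap x.left).subschemeι rfl
    have hker : c.left.ker = I₁.comap x.left := (I₁.comap x.left).ker_subschemeι
    have h' := key s₁ s₂ (c ≫ x) (c ≫ y) (by rw [Functor.map_comp, Functor.map_comp, Category.assoc, Category.assoc, hxy])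
      (by rw [Over.comp_left, Scheme.Hom.ker_comp, hker]; exact Scheme.IdealSheafData.le_map_comap _ _)
    rw [Over.comp_left, Scheme.Hom.ker_comp, hker] at h'
    exact Scheme.IdealSheafData.le_map_iff_comap_le.1 h'
  exact le_antisymm (gen sq' sq r' r h.symm) (gen sq sq' r r' h)

theorem isEffCartierIdeal_of_isEffCartierSub (hX : IsAlgSpace X) (h : IsEffCartierSub i) {U : Over S}
    {a : (yon S).obj U ⟶ X} (ha : RepWith @Etale a) {I : U.left.IdealSheafData}
    {p : (yon S).obj (Over.mk (I.subschemeι ≫ U.hom)) ⟶ Z} (sq : IsPullback p ((yon S).map (subHom I)) i a) :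
    _root_.BlowUp.IsEffCartierIdeal I := by
  obtain ⟨-, V, φ, J, q, φe, φs, sq₀, hJ⟩ := h
  obtain ⟨R, r₁, r₂, sqR⟩ := exists_isPullback_yon hX.diag φ a
  have : Etale r₂.left := φe.2 _ _ _ sqR
  have : Surjective r₂.left := φs.2 _ _ _ sqR
  have : Etale r₁.left := ha.2 _ _ _ sqR.flip
  have e := comap_eq_of_squares sq₀ sq r₁ r₂ sqR.w
  exact isEffCartierIdeal_of_comap r₂.left (e ▸ GrothLib.BlowUp.isEffCartierIdeal_comap_of_flat r₁.left hJ)

theorem isEffCartierSub_of_charts (hX : IsAlgSpace X) (hi : RepWith @IsClosedImmersion i)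
    (h : ∀ (U : Over S) (a : (yon S).obj U ⟶ X), RepWith @Etale a → ∀ (I : U.left.IdealSheafData)
      (p : (yon S).obj (Over.mk (I.subschemeι ≫ U.hom)) ⟶ Z), IsPullback p ((yon S).map (subHom I)) i a →
      _root_.BlowUp.IsEffCartierIdeal I) : IsEffCartierSub i := by
  obtain ⟨U, a, ae, as⟩ := hX.atlas
  obtain ⟨I, p, -, sq⟩ := exists_chart_ideal hi a
  exact ⟨hi, U, a, I, p, ae, as, sq, h U a ae I p sq⟩

theorem exists_affine_nbhd_cartier (hX : IsAlgSpace X) (h : IsEffCartierSub i) (x : Points Z) :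
    ∃ (U : Over S) (_ : IsAffine U.left) (a : (yon S).obj U ⟶ X) (u : ↥U.left) (f : Γ(U.left, ⊤))
      (I : U.left.IdealSheafData) (fst : (yon S).obj (Over.mk (I.subschemeι ≫ U.hom)) ⟶ Z),
      RepWith @Etale a ∧ Points.ofPt a u = Points.map i x ∧ f ∈ nonZeroDivisors Γ(U.left, ⊤) ∧
        I.ideal ⟨⊤, isAffineOpen_top U.left⟩ = Ideal.span {f} ∧
        IsPullback fst ((yon S).map (subHom I)) i a := by
  obtain ⟨hi, V, φ, J, q, φe, φs, sq₀, hJ⟩ := h
  obtain ⟨v, hv⟩ := surjective_ofPt_of_repWith φs (Points.map i x)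
  obtain ⟨O, hO, hvO, -, f, hf, hfI⟩ := exists_cartierTop hJ (W := ⊤) (x := v) trivial
  let U : Over S := Over.mk (O.ι ≫ V.hom)
  let j : U ⟶ V := Over.homMk O.ι rfl
  obtain ⟨I, p, -, sq⟩ := exists_chart_ideal hi ((yon S).map j ≫ φ)
  have e : I = J.comap O.ι := by
    have := comap_eq_of_squares sq sq₀ (𝟙 U) j (by rw [CategoryTheory.Functor.map_id, Category.id_comp])
    rwa [Over.id_left, Scheme.IdealSheafData.comap_id] at this
  have hUa : IsAffine U.left := hO
  refine ⟨U, hUa, (yon S).map j ≫ φ, ⟨v, hvO⟩, f, I, p,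
    repWith_comp ((repWith_yon_map_iff @Etale j).2 (inferInstanceAs (Etale O.ι))) φe, ?_, hf, ?_, sq⟩
  · rw [ofPt_map_comp]
    exact hv
  · subst e
    exact hfI

theorem isEffCartierSub_of_nbhds (hX : IsAlgSpace X) (hi : RepWith @IsClosedImmersion i)
    (h : ∀ x : Points Z, ∃ (U : Over S) (_ : IsAffine U.left) (a : (yon S).obj U ⟶ X) (u : ↥U.left)
      (f : Γ(U.left, ⊤)) (I : U.left.IdealSheafData) (fst : (yon S).obj (Over.mk (I.subschemeι ≫ U.hom)) ⟶ Z),
      RepWith @Etale a ∧ Points.ofPt a u = Points.map i x ∧ f ∈ nonZeroDivisors Γ(U.left, ⊤) ∧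
        I.ideal ⟨⊤, isAffineOpen_top U.left⟩ = Ideal.span {f} ∧
        IsPullback fst ((yon S).map (subHom I)) i a) : IsEffCartierSub i := by
  refine isEffCartierSub_of_charts hX hi fun V φ φe J q sq₀ => ?_
  refine GrothLib.BlowUp.isEffCartierIdeal_of_forall_exists_open fun v => ?_
  by_cases hv : v ∈ Set.range J.subschemeι
  · obtain ⟨d, hd⟩ := hv
    obtain ⟨U, hU, a, u, f, I, p, ae, hu, hf, hfI, sq⟩ := h (Points.ofPt q d)
    obtain ⟨R, r₁, r₂, sqR⟩ := exists_isPullback_yon hX.diag a φ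
    have : Etale r₂.left := ae.2 _ _ _ sqR
    have : Etale r₁.left := φe.2 _ _ _ sqR.flip
    have hvu : Points.ofPt a u = Points.ofPt φ v := by
      rw [hu, Points.map_ofPt, sq₀.w, ofPt_map_comp]
      exact congrArg (Points.ofPt φ) hd
    obtain ⟨z, hz₁, hz₂⟩ := (ofPt_eq_ofPt_iff sqR u v).1 hvu
    let O : V.left.Opens := ⟨Set.range r₂.left, r₂.left.isOpenMap.isOpen_range⟩
    refine ⟨O, ⟨z, hz₂⟩, ?_⟩
    let c := IsOpenImmersion.lift O.ι r₂.left (by simp [O])
    have hc : c ≫ O.ι = r₂.left := IsOpenImmersion.lift_fac _ _ _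
    have : Etale c := by
      have : Etale (c ≫ O.ι) := by rw [hc]; infer_instance
      exact Etale.of_comp c O.ι
    have : Surjective c := ⟨fun w => by
      obtain ⟨z', hz'⟩ := (w.2 : w.1 ∈ Set.range r₂.left)
      refine ⟨z', Subtype.ext ?_⟩
      rw [← hz', ← hc]
      rfl⟩
    refine isEffCartierIdeal_of_comap c ?_
    rw [← Scheme.IdealSheafData.comap_comp, hc, ← comap_eq_of_squares sq sq₀ r₁ r₂ sqR.w]
    exact GrothLib.BlowUp.isEffCartierIdeal_comap_of_flat r₁.left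
      (isEffCartierIdeal_of_cartierTop (hA := hU) ⟨f, hf, hfI⟩)
  · rw [Scheme.IdealSheafData.range_subschemeι] at hv
    refine ⟨⟨(J.support : Set ↥V.left)ᶜ, J.support.isClosed.isOpen_compl⟩, hv, ?_⟩
    let O : V.left.Opens := ⟨(J.support : Set ↥V.left)ᶜ, J.support.isClosed.isOpen_compl⟩
    have hs : (J.comap O.ι).support = ⊥ := by
      rw [Scheme.IdealSheafData.support_comap]
      exact TopologicalSpace.Closeds.ext (Set.eq_empty_of_forall_notMem fun w hw => w.2 hw)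
    rw [(Scheme.IdealSheafData.support_eq_bot_iff _).1 hs]
    exact GrothLib.BlowUp.isEffCartierIdeal_top

theorem isEffCartierSub_pullback_of_flat {Y W P : Sp S} (hY : IsAlgSpace Y) (hX : IsAlgSpace X) {f : X ⟶ Y}
    (hf : LocP @Flat f) {d : W ⟶ Y} (hd : IsEffCartierSub d) {fst : P ⟶ W} {snd : P ⟶ X}
    (sqP : IsPullback fst snd d f) : IsEffCartierSub snd := by
  obtain ⟨hdc, V, φ, J, q, φe, φs, sq₀, hJ⟩ := hd
  obtain ⟨U, a, α, ae, hα, has⟩ := exists_chart_over hX hY f φ φe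
  have hi : RepWith @IsClosedImmersion snd := repWith_of_isPullback sqP hdc
  obtain ⟨I, p, -, sq⟩ := exists_chart_ideal hi a
  refine ⟨hi, U, a, I, p, ae, has φs, sq, ?_⟩
  have sq' := sq.paste_horiz sqP
  have e := comap_eq_of_squares sq' sq₀ (𝟙 U) α (by rw [CategoryTheory.Functor.map_id, Category.id_comp, hα])
  rw [Over.id_left, Scheme.IdealSheafData.comap_id] at e
  have : Flat α.left := hf a φ α ae φe hα
  exact e ▸ GrothLib.BlowUp.isEffCartierIdeal_comap_of_flat α.left hJ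

/-- The ideal of a product on the objects of the site. -/
theorem repKer_mul {Z₁ Z₂ D : Sp S} {i₁ : Z₁ ⟶ X} {i₂ : Z₂ ⟶ X} {d : D ⟶ X} {I J : IdealEt X}
    (h₁ : IsCutOutBy I i₁) (h₂ : IsCutOutBy J i₂) (hd : IsCutOutBy (I * J) d) (E : EtOver X) :
    repKer hd.choose.1 E = repKer h₁.choose.1 E * repKer h₂.choose.1 E := by
  have top : ∀ {Z' : Sp S} {k : Z' ⟶ X} (hk : RepWith @IsClosedImmersion k) (W : E.obj.left.left.Opens)
      (hW : IsAffineOpen W), topIdeal ((repKer hk.1 E).comap W.ι) hW = (idealOfRep hk.1).ideal (opensObj E W) hW := by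
    intro Z' k hk W hW
    have := isClosedImmersion_bcπ hk E
    have := isClosedImmersion_bcπ hk (opensObj E W)
    rw [idealOfRep_ideal, ← opensInc_left E W, repKer_comap]
  refine eq_of_comap_opens fun W hW => ?_
  rw [GrothLib.BlowUp.comap_mul, top hd.choose]
  change _ = topIdeal ((repKer h₁.choose.1 E).comap W.ι) hW * topIdeal ((repKer h₂.choose.1 E).comap W.ι) hW
  rw [top h₁.choose, top h₂.choose, hd.choose_spec, h₁.choose_spec, h₂.choose_spec]
  rfl

theorem isEffCartierSub_iff_repKer (hX : IsAlgSpace X) (hi : RepWith @IsClosedImmersion i) :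
    IsEffCartierSub i ↔ ∀ E : EtOver X, _root_.BlowUp.IsEffCartierIdeal (repKer hi.1 E) := by
  refine ⟨fun h E => ?_, fun h => isEffCartierSub_of_charts hX hi fun U a ae I p sq => ?_⟩
  · obtain ⟨p, sq⟩ := exists_repKer_square hi E
    exact isEffCartierIdeal_of_isEffCartierSub hX h E.property sq
  · obtain ⟨p', sq'⟩ := exists_repKer_square hi (EtOver.mk a ae)
    have e := comap_eq_of_squares sq sq' (𝟙 U) (𝟙 U) rfl
    rw [Over.id_left, Scheme.IdealSheafData.comap_id] at e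
    exact e.trans (Scheme.IdealSheafData.comap_id _) ▸ h _

end GrothLib.AlgSp
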