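import Mathlib.AlgebraicGeometry.Morphisms.UniversallyClosed
import Mathlib.AlgebraicGeometry.Morphisms.Proper
import Groth.Agent.Lib.AlgSp.LocP
import Groth.Agent.Lib.AlgSp.Diag
import Groth.Agent.Lib.AlgSp.PointsUniv

/-!
# Universally closed and proper morphisms of algebraic spaces
-/

universe u

open CategoryTheory CategoryTheory.Limits AlgebraicGeometry TopologicalSpace

namespace GrothLib.AlgSp

open _root_.AlgSp

variable {S : Scheme.{u}} {X Y Z : Sp S}

theorem univSp_of_isPullback {Q : MorphismProperty (Sp S)} {X' Y' : Sp S} {f : X ⟶ Y} {g : Y' ⟶ Y}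
    {fst : X' ⟶ X} {f' : X' ⟶ Y'} (sq : IsPullback fst f' f g) (h : UnivSp Q f) : UnivSp Q f' :=
  fun _ _ hZ k a b sq' => h hZ (k ≫ g) (a ≫ fst) b (sq'.paste_horiz sq)

theorem univSp_comp {Q : MorphismProperty (Sp S)} [Q.IsStableUnderComposition] (hY : IsAlgSpace Y)
    (hZ : IsAlgSpace Z) {f : X ⟶ Y} {g : Y ⟶ Z} (hf : UnivSp Q f) (hg : UnivSp Q g) : UnivSp Q (f ≫ g) := by
  intro W W' hW k fst snd sq
  have sqg := IsPullback.of_hasPullback g k
  let m : W' ⟶ pullback g k := pullback.lift (fst ≫ f) snd (by rw [Category.assoc, sq.w])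
  have sqm : IsPullback fst m f (pullback.fst g k) := by
    refine IsPullback.flip (IsPullback.of_right (h₁₂ := pullback.snd g k) (h₂₂ := g) (v₁₃ := k) ?_ ?_ sqg.flip)
    · rw [pullback.lift_snd]; exact sq.flip
    · rw [pullback.lift_fst]
  rw [show snd = m ≫ pullback.snd g k from (pullback.lift_snd _ _ _).symm]
  exact Q.comp_mem _ _ (hf (isAlgSpace_pullback' hZ hY hW g k) _ _ _ sqm) (hg hW k _ _ sqg)

instance : MorphismProperty.IsStableUnderComposition (IsClosedMor (S := S)) where
  comp_mem f g (hf : IsClosedMap _) (hg : IsClosedMap _) := by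
    change IsClosedMap (Points.map (f ≫ g))
    rw [show Points.map (f ≫ g) = Points.map g ∘ Points.map f from funext (Points.map_comp _ _)]
    exact hg.comp hf

theorem isUnivClosedMor_comp (hY : IsAlgSpace Y) (hZ : IsAlgSpace Z) {f : X ⟶ Y} {g : Y ⟶ Z}
    (hf : IsUnivClosedMor f) (hg : IsUnivClosedMor g) : IsUnivClosedMor (f ≫ g) :=
  univSp_comp hY hZ hf hg

theorem isUnivClosedMor_of_repWith {f : X ⟶ Y} (h : RepWith @UniversallyClosed f) : IsUnivClosedMor f := by
  have hf := h.1
  rw [repWith_universally_iff universallyClosed_eq (Q := IsClosedMor)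
    (fun φ => isClosedMap_map_yon_iff φ) hf] at h
  refine isUnivClosedMor_of_affine fun T _ g P fst snd sq => ?_
  refine forall_affine_of_representable hf (fun {A B} k => IsClosedMap (Points.map k))
    (fun e k hk => ?_) h T g P fst snd sq
  rw [show Points.map (e.hom ≫ k) = Points.map k ∘ Points.map e.hom from funext (Points.map_comp _ _)]
  refine hk.comp (IsClosedMap.of_inverse (Points.continuous_map e.inv) (fun x => ?_) fun x => ?_) <;>
    rw [← Points.map_comp] <;> simp

theorem repWith_universallyClosed_of_isUnivClosedMor {f : X ⟶ Y} (hf : Representable f)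
    (h : IsUnivClosedMor f) : RepWith @UniversallyClosed f :=
  (repWith_universally_iff universallyClosed_eq (Q := IsClosedMor) (fun φ => isClosedMap_map_yon_iff φ) hf).2
    fun T g V fst snd sq => h (IsAlgSpace.yon_obj T) g _ _ sq

theorem isClosed_range_of_isUnivClosedMor (hY : IsAlgSpace Y) {f : X ⟶ Y} (hf : IsUnivClosedMor f) :
    IsClosed (Set.range (Points.map f)) := by
  have h : IsClosedMap (Points.map f) := hf hY (𝟙 Y) (𝟙 X) f (IsPullback.of_id_fst)
  exact h.isClosed_range

/-- A base change of a surjection is surjective. -/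
theorem surjective_of_pullback {X' Y' : Sp S} {f : X ⟶ Y} {g : Y' ⟶ Y} {fst : X' ⟶ X} {f' : X' ⟶ Y'}
    (sq : IsPullback fst f' f g) (hf : Function.Surjective (Points.map f)) :
    Function.Surjective (Points.map f') :=
  surjective_map_of_isPullback sq hf

/-- Cancelling a surjection. -/
theorem isUnivClosedMor_of_surjective_comp {f : X ⟶ Y} {g : Y ⟶ Z} (hf : IsSurjectiveMor f)
    (h : IsUnivClosedMor (f ≫ g)) : IsUnivClosedMor g := by
  intro W W' hW k fst snd sq A hA
  have sqX := IsPullback.of_hasPullback f fst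
  have sq' := sqX.paste_vert sq
  have h' : IsClosedMap (Points.map (pullback.snd f fst ≫ snd)) := h hW k _ _ sq'
  have e := h' _ (hA.preimage (Points.continuous_map (pullback.snd f fst)))
  rwa [show Points.map (pullback.snd f fst ≫ snd) = Points.map snd ∘ Points.map (pullback.snd f fst) from
      funext (Points.map_comp _ _), Set.image_comp,
    (surjective_map_of_isPullback sqX hf).image_preimage A] at e

/-- An algebraic space universally closed over a field has compact space of points. -/
theorem compactSpace_of_isUnivClosedMor_field {P : Sp S} (hP : IsAlgSpace P) {K : Type u} [Field K]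
    {str : Spec (CommRingCat.of K) ⟶ S} (s : P ⟶ (yon S).obj (Over.mk str)) (hs : IsUnivClosedMor s) :
    CompactSpace (Points P) := by
  classical
  obtain ⟨ι, W, r, hW, hre, hcov, -⟩ := exists_affine_charts hP
  let U : ι → Set (Points P) := fun i => Set.range (Points.ofPt (r i))
  have hUo : ∀ i, IsOpen (U i) := fun i => (isOpenMap_ofPt_of_etale (hre i)).isOpen_range
  have hUc : ∀ i, IsCompact (U i) := fun i => by
    haveI := hW i
    exact isCompact_range (Points.continuous_ofPt (r i))
  have hxU : ∀ x : Points P, ∃ i, x ∈ U i := fun x => hcov x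
  let q : Spec (CommRingCat.of (MvPolynomial ι K)) ⟶ Spec (CommRingCat.of K) :=
    Spec.map (CommRingCat.ofHom MvPolynomial.C)
  let T : Over S := Over.mk (q ≫ str)
  let qT : T ⟶ Over.mk str := Over.homMk q rfl
  have sq := IsPullback.of_hasPullback s ((yon S).map qT)
  let fT := pullback.snd s ((yon S).map qT)
  let p := pullback.fst s ((yon S).map qT)
  let Ti : ι → Set ↥T.left := fun i =>
    SetLike.coe (PrimeSpectrum.basicOpen (MvPolynomial.X i : MvPolynomial ι K))
  let O : Set (Points (pullback s ((yon S).map qT))) :=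
    ⋃ i, Points.map fT ⁻¹' ((Points.schemeHomeo T).symm ⁻¹' Ti i) ∩ Points.map p ⁻¹' U i
  have hO : IsOpen O := isOpen_iUnion fun i =>
    ((((PrimeSpectrum.basicOpen _).2).preimage (Points.schemeHomeo T).symm.continuous).preimage
      (Points.continuous_map fT)).inter ((hUo i).preimage (Points.continuous_map p))
  have hZc : IsClosed (Points.map fT '' Oᶜ) :=
    (hs (IsAlgSpace.yon_obj T) _ _ _ sq) _ hO.isClosed_compl
  let Zc : Set ↥T.left := ((Points.schemeHomeo T) ⁻¹' (Points.map fT '' Oᶜ))ᶜ
  have hZo : IsOpen Zc := (hZc.preimage (Points.schemeHomeo T).continuous).isOpen_compl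
  let ψ : MvPolynomial ι K →ₐ[K] K := MvPolynomial.aeval (fun _ ↦ 1)
  let t : ↥T.left := Spec.map (CommRingCat.ofHom ψ.toRingHom) default
  have ht (i : ι) : t ∈ Ti i := show ψ (.X i) ≠ 0 by simp [ψ]
  have htZc : t ∈ Zc := by
    rintro ⟨z, hz, hzt⟩
    obtain ⟨i, hi⟩ := hxU (Points.map p z)
    refine hz (Set.mem_iUnion.2 ⟨i, ?_, hi⟩)
    change (Points.schemeHomeo T).symm (Points.map fT z) ∈ Ti _
    rw [hzt, Homeomorph.symm_apply_apply]
    exact ht _
  obtain ⟨_, ⟨g, rfl⟩, htg, hgle⟩ :=
    PrimeSpectrum.isTopologicalBasis_basic_opens.exists_subset_of_mem_open htZc hZo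
  let σ : Finset ι := MvPolynomial.vars g
  let φ : MvPolynomial ι K →+* MvPolynomial ι K :=
    (MvPolynomial.aeval fun i : ι ↦ if i ∈ σ then MvPolynomial.X i else 0).toRingHom
  let t' : ↥T.left := Spec.map (CommRingCat.ofHom φ) t
  have ht'g : t' ∈ (PrimeSpectrum.basicOpen g : Set (PrimeSpectrum _)) :=
    show φ g ∉ t.asIdeal from
      (show φ g = g from MvPolynomial.aeval_ite_mem_eq_self g subset_rfl).symm ▸ htg
  suffices hcov : ⋃ i ∈ σ, U i = Set.univ from
    ⟨hcov ▸ σ.isCompact_biUnion fun i _ ↦ hUc i⟩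
  rw [Set.iUnion₂_eq_univ_iff]
  by_contra hne
  simp only [not_forall, not_exists] at hne
  obtain ⟨x, hx⟩ := hne
  have hpt : ∀ y : Points ((yon S).obj (Over.mk str)), y = Points.map s x := fun y =>
    (Points.schemeHomeo (Over.mk str)).symm.injective (Subsingleton.elim (α := PrimeSpectrum K) _ _)
  obtain ⟨z, hz₁, hz₂⟩ := exists_of_isPullback sq (x := x) (y := Points.schemeHomeo T t') (hpt _).symm
  refine hgle ht'g ⟨z, fun hzO => ?_, hz₂⟩
  obtain ⟨i, hi₁, hi₂⟩ := Set.mem_iUnion.1 hzO
  change Points.map p z ∈ U i at hi₂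
  rw [hz₁] at hi₂
  change (Points.schemeHomeo T).symm (Points.map fT z) ∈ Ti i at hi₁
  rw [hz₂, Homeomorph.symm_apply_apply] at hi₁
  have : φ (.X i) = 0 := by simpa [φ] using fun hi : i ∈ σ => (hx i hi hi₂).elim
  exact hi₁ (show φ (.X i) ∈ t.asIdeal by rw [this]; exact zero_mem _)

end GrothLib.AlgSp

namespace GrothLib.AlgSp

open _root_.AlgSp

variable {S : Scheme.{u}} {X Y Z : Sp S}

theorem isClosedMap_points_of_closed {P : Sp S} {T : Over S} {s : P ⟶ (yon S).obj T}
    (h : IsUnivClosedMor s) : IsClosedMap (Points.map s) :=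
  h (IsAlgSpace.yon_obj T) (𝟙 _) (𝟙 P) s IsPullback.of_id_fst

/-- Universally closed morphisms are quasi-compact. -/
theorem isQuasiCompactMor_of_isUnivClosedMor (hX : IsAlgSpace X) (hY : IsAlgSpace Y) {f : X ⟶ Y}
    (hf : IsUnivClosedMor f) : IsQuasiCompactMor f := by
  refine isQuasiCompactMor_of_affine fun T hT g P fst snd sq => ?_
  have hP : IsAlgSpace P := isAlgSpace_pullback hY.diag hX (IsAlgSpace.yon_obj T) sq
  have hs := univSp_of_isPullback sq hf
  haveI : CompactSpace (Points P) := by
    refine ⟨?_⟩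
    have hp : IsProperMap (fun z => (Points.schemeHomeo T).symm (Points.map snd z)) := by
      refine isProperMap_iff_isClosedMap_and_compact_fibers.2 ⟨(Points.schemeHomeo T).symm.continuous.comp
        (Points.continuous_map snd), (Points.schemeHomeo T).symm.isClosedMap.comp
        (isClosedMap_points_of_closed hs), fun t => ?_⟩
      let Tκ : Over S := Over.mk (T.left.fromSpecResidueField t ≫ T.hom)
      let c : Tκ ⟶ T := Over.homMk (T.left.fromSpecResidueField t) rfl
      have sqt := IsPullback.of_hasPullback snd ((yon S).map c)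
      haveI := compactSpace_of_isUnivClosedMor_field
        (isAlgSpace_pullback' (IsAlgSpace.yon_obj T) hP (IsAlgSpace.yon_obj Tκ) snd ((yon S).map c))
        (pullback.snd snd ((yon S).map c)) (univSp_of_isPullback sqt hs)
      convert isCompact_range (Points.continuous_map (pullback.fst snd ((yon S).map c))) using 1
      ext z
      constructor
      · intro hz
        have hz' : (Points.schemeHomeo T).symm (Points.map snd z) = t := hz
        obtain ⟨w, hw, -⟩ := exists_of_isPullback sqt (x := z)
          (y := Points.schemeHomeo Tκ (default : ↥(Spec (T.left.residueField t)))) (by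
            rw [Points.map_yon_map_apply, ← (Points.schemeHomeo T).apply_symm_apply (Points.map snd z), hz']
            exact congrArg _ (T.left.fromSpecResidueField_apply t _).symm)
        exact ⟨w, hw⟩
      · rintro ⟨w, rfl⟩
        obtain ⟨k, hk⟩ := (Points.schemeHomeo Tκ).surjective (Points.map (pullback.snd snd ((yon S).map c)) w)
        change (Points.schemeHomeo T).symm (Points.map snd (Points.map (pullback.fst snd ((yon S).map c)) w)) = t
        rw [← Points.map_comp, pullback.condition, Points.map_comp, ← hk, Points.map_yon_map_apply,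
          Homeomorph.symm_apply_apply]
        exact T.left.fromSpecResidueField_apply t k
    haveI : CompactSpace ↥T.left := inferInstance
    exact hp.isCompact_preimage isCompact_univ
  exact isQuasiCompactSp_of_compactSpace_points hP

theorem isSeparatedMor_comp {f : X ⟶ Y} {g : Y ⟶ Z} (hf : IsSeparatedMor f) (hg : IsSeparatedMor g) :
    IsSeparatedMor (f ≫ g) := by
  unfold IsSeparatedMor
  rw [pullback.diagonal_comp]
  exact repWith_comp hf ((MorphismProperty.cancel_left_of_respectsIso (RepWith @IsClosedImmersion) _ _).2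
    (repWith_of_isPullback (IsPullback.of_hasPullback _ _) hg))

theorem isSeparatedMor_of_comp {f : X ⟶ Y} {g : Y ⟶ Z} (h : IsSeparatedMor (f ≫ g)) : IsSeparatedMor f := by
  let m : pullback f f ⟶ pullback (f ≫ g) (f ≫ g) := pullback.lift (pullback.fst f f) (pullback.snd f f)
    (by rw [pullback.condition_assoc])
  haveI hm : Mono m := ⟨fun {W} x y e => by
    apply pullback.hom_ext
    · simpa only [m, Category.assoc, pullback.lift_fst] using congrArg (· ≫ pullback.fst _ _) e
    · simpa only [m, Category.assoc, pullback.lift_snd] using congrArg (· ≫ pullback.snd _ _) e⟩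
  have e : pullback.diagonal f ≫ m = pullback.diagonal (f ≫ g) := by
    apply pullback.hom_ext <;>
      simp only [m, Category.assoc, pullback.lift_fst, pullback.lift_snd, pullback.diagonal_fst,
        pullback.diagonal_snd]
  refine repWith_of_isPullback (g := m) (g' := 𝟙 X) ?_ h
  refine isPullback_of_yon (by rw [Category.id_comp, e]) fun T a b hab => ⟨a, ⟨Category.comp_id _, ?_⟩,
    fun c hc => by rw [← hc.1, Category.comp_id]⟩
  rw [← cancel_mono m, Category.assoc, e, hab]

theorem isFiniteTypeMor_comp (hX : IsAlgSpace X) (hY : IsAlgSpace Y) (hZ : IsAlgSpace Z) {f : X ⟶ Y}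
    {g : Y ⟶ Z} (hf : IsFiniteTypeMor f) (hg : IsFiniteTypeMor g) : IsFiniteTypeMor (f ≫ g) :=
  ⟨EtLocal.locP_comp EtLocal.lft hX hY hZ hf.1 hg.1, isQuasiCompactMor_comp hX hY hZ hf.2 hg.2⟩

theorem isProperMor_comp (hX : IsAlgSpace X) (hY : IsAlgSpace Y) (hZ : IsAlgSpace Z) {f : X ⟶ Y} {g : Y ⟶ Z}
    (hf : IsProperMor f) (hg : IsProperMor g) : IsProperMor (f ≫ g) :=
  ⟨isSeparatedMor_comp hf.1 hg.1, isFiniteTypeMor_comp hX hY hZ hf.2.1 hg.2.1,
    isUnivClosedMor_comp hY hZ hf.2.2 hg.2.2⟩

theorem isProperMor_of_repWith_isClosedImmersion (hY : IsAlgSpace Y) {f : X ⟶ Y}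
    (hf : RepWith @IsClosedImmersion f) : IsProperMor f :=
  ⟨(isSeparatedMor_iff_repWith hf.1).2 (repWith_mono hf fun A B g (hg : IsClosedImmersion g) => inferInstance),
    ⟨EtLocal.locP_of_repWith EtLocal.lft hY (repWith_mono hf fun A B g (hg : IsClosedImmersion g) =>
        show LocallyOfFiniteType g from inferInstance),
      isQuasiCompactMor_of_repWith (repWith_mono hf fun A B g (hg : IsClosedImmersion g) => inferInstance)⟩,
    isUnivClosedMor_of_repWith (repWith_mono hf fun A B g (hg : IsClosedImmersion g) => inferInstance)⟩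

/-- A universally closed monomorphism of finite type which is representable is a closed immersion. -/
theorem isClosedImmersion_of_univClosed_mono {A B : Scheme.{u}} (g : A ⟶ B) [UniversallyClosed g] [Mono g]
    [LocallyOfFiniteType g] : IsClosedImmersion g := by
  haveI : IsProper g := {}
  exact (IsClosedImmersion.iff_isProper_and_mono g).2 ⟨inferInstance, inferInstance⟩

theorem isSeparatedMor_iff_diagonal_univClosed (hX : IsAlgSpace X) {f : X ⟶ Y} :
    IsSeparatedMor f ↔ IsUnivClosedMor (pullback.diagonal f) := by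
  refine ⟨fun h => isUnivClosedMor_of_repWith (repWith_mono h fun A B g (hg : IsClosedImmersion g) => inferInstance),
    fun h => ?_⟩
  have hm := repWith_diagonal f (repWith_diag_mono hX)
  refine repWith_mono (repWith_inf_iff.2 ⟨repWith_universallyClosed_of_isUnivClosedMor hm.1 h,
    repWith_inf_iff.2 ⟨hm, repWith_diagonal f (repWith_diag_lft hX)⟩⟩) fun A B g ⟨h₁, h₂, h₃⟩ => ?_
  have : UniversallyClosed g := h₁
  have : Mono g := h₂
  have : LocallyOfFiniteType g := h₃
  exact isClosedImmersion_of_univClosed_mono g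

theorem isSeparatedMor_iff_diagonal_proper (hX : IsAlgSpace X) (hY : IsAlgSpace Y) {f : X ⟶ Y} :
    IsSeparatedMor f ↔ IsProperMor (pullback.diagonal f) :=
  ⟨fun h => isProperMor_of_repWith_isClosedImmersion (isAlgSpace_pullback' hY hX hX f f) h,
    fun h => (isSeparatedMor_iff_diagonal_univClosed hX).2 h.2.2⟩

theorem univClosed_of_comp_separated (hX : IsAlgSpace X) (hY : IsAlgSpace Y) (hZ : IsAlgSpace Z) {f : X ⟶ Y}
    {g : Y ⟶ Z} (h : IsUnivClosedMor (f ≫ g)) (hg : IsSeparatedMor g) : IsUnivClosedMor f := by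
  let s : X ⟶ pullback (f ≫ g) g := pullback.lift (𝟙 _) f (Category.id_comp _)
  have hP := isAlgSpace_pullback' hZ hX hY (f ≫ g) g
  rw [show f = s ≫ pullback.snd _ _ from (pullback.lift_snd _ _ _).symm]
  refine isUnivClosedMor_comp hP hY (isUnivClosedMor_of_repWith ?_)
    (univSp_of_isPullback (IsPullback.of_hasPullback (f ≫ g) g) h)
  refine repWith_mono (repWith_section (pullback.fst _ _) s (pullback.lift_fst _ _ _)
    (repWith_of_isPullback (isPullback_diagonal_of_isPullback (IsPullback.of_hasPullback (f ≫ g) g).flip) hg))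
    fun A B k (hk : IsClosedImmersion k) => ?_
  infer_instance

theorem isQuasiCompactMor_of_comp (hX : IsAlgSpace X) (hY : IsAlgSpace Y) (hZ : IsAlgSpace Z) {f : X ⟶ Y}
    {g : Y ⟶ Z} (h : IsQuasiCompactMor (f ≫ g)) (hg : IsQuasiSeparatedMor g) : IsQuasiCompactMor f := by
  let s : X ⟶ pullback (f ≫ g) g := pullback.lift (𝟙 _) f (Category.id_comp _)
  have hP := isAlgSpace_pullback' hZ hX hY (f ≫ g) g
  rw [show f = s ≫ pullback.snd _ _ from (pullback.lift_snd _ _ _).symm]
  refine isQuasiCompactMor_comp hX hP hY (isQuasiCompactMor_of_repWith ?_) ?_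
  · refine repWith_section (pullback.fst _ _) s (pullback.lift_fst _ _ _) ?_
    exact repWith_of_isPullback
      (isPullback_diagonal_of_isPullback (IsPullback.of_hasPullback (f ≫ g) g).flip) hg
  · intro W W' hW hWc k fst snd sq
    exact h hW hWc (k ≫ g) (fst ≫ pullback.fst _ _) snd
      (sq.paste_horiz (IsPullback.of_hasPullback (f ≫ g) g))

theorem isQuasiSeparatedMor_of_isSeparatedMor {f : X ⟶ Y} (h : IsSeparatedMor f) : IsQuasiSeparatedMor f :=
  repWith_mono h fun _ _ g (_ : IsClosedImmersion g) => inferInstance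

theorem isProperMor_of_comp (hX : IsAlgSpace X) (hY : IsAlgSpace Y) (hZ : IsAlgSpace Z) {f : X ⟶ Y}
    {g : Y ⟶ Z} (h : IsProperMor (f ≫ g)) (hg : IsSeparatedMor g) : IsProperMor f :=
  ⟨isSeparatedMor_of_comp h.1,
    ⟨EtLocal.locP_of_comp EtLocal.lft (fun _ _ _ a b (_ : LocallyOfFiniteType (a ≫ b)) =>
        locallyOfFiniteType_of_comp a b) hX hY hZ h.2.1.1,
      isQuasiCompactMor_of_comp hX hY hZ h.2.1.2 (isQuasiSeparatedMor_of_isSeparatedMor hg)⟩,
    univClosed_of_comp_separated hX hY hZ h.2.2 hg⟩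

/-- Surjective universally closed morphisms descend separation. -/
theorem separation_of_surjective_univClosed (hX : IsAlgSpace X) (hY : IsAlgSpace Y) (hZ : IsAlgSpace Z)
    {f : X ⟶ Y} {g : Y ⟶ Z} (hs : IsSurjectiveMor f) (hc : IsUnivClosedMor f) :
    (IsQuasiSeparatedMor (f ≫ g) → IsQuasiSeparatedMor g) ∧ (IsSeparatedMor (f ≫ g) → IsSeparatedMor g) := by
  let m₁ : pullback (f ≫ g) (f ≫ g) ⟶ pullback (f ≫ g) g :=
    pullback.lift (pullback.fst _ _) (pullback.snd _ _ ≫ f) (by rw [Category.assoc, pullback.condition])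
  let m₂ : pullback (f ≫ g) g ⟶ pullback g g :=
    pullback.lift (pullback.fst _ _ ≫ f) (pullback.snd _ _) (by rw [Category.assoc, pullback.condition])
  have sq₁ : IsPullback (pullback.snd (f ≫ g) (f ≫ g)) m₁ f (pullback.snd (f ≫ g) g) := by
    refine isPullback_of_yon (by simp only [m₁, pullback.lift_snd]) fun T a b hab => ?_
    refine ⟨pullback.lift (b ≫ pullback.fst _ _) a (by
      rw [reassoc_of% hab, Category.assoc, pullback.condition]), ⟨pullback.lift_snd _ _ _, ?_⟩, ?_⟩
    · apply pullback.hom_ext <;>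
        simp only [m₁, Category.assoc, pullback.lift_fst, pullback.lift_snd, pullback.lift_snd_assoc, hab]
    · rintro c ⟨rfl, rfl⟩
      apply pullback.hom_ext <;>
        simp only [m₁, Category.assoc, pullback.lift_fst, pullback.lift_snd]
  have sq₂ : IsPullback (pullback.fst (f ≫ g) g) m₂ f (pullback.fst g g) := by
    refine isPullback_of_yon (by simp only [m₂, pullback.lift_fst]) fun T a b hab => ?_
    refine ⟨pullback.lift a (b ≫ pullback.snd _ _) (by
      rw [reassoc_of% hab, Category.assoc, pullback.condition]), ⟨pullback.lift_fst _ _ _, ?_⟩, ?_⟩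
    · apply pullback.hom_ext <;>
        simp only [m₂, Category.assoc, pullback.lift_fst, pullback.lift_snd, pullback.lift_fst_assoc, hab]
    · rintro c ⟨rfl, rfl⟩
      apply pullback.hom_ext <;>
        simp only [m₂, Category.assoc, pullback.lift_fst, pullback.lift_snd]
  have e : pullback.diagonal (f ≫ g) ≫ m₁ ≫ m₂ = f ≫ pullback.diagonal g := by
    apply pullback.hom_ext <;>
      simp only [m₁, m₂, Category.assoc, pullback.lift_fst, pullback.lift_snd, pullback.lift_fst_assoc,
        pullback.lift_snd_assoc, pullback.diagonal_fst, pullback.diagonal_snd, pullback.diagonal_fst_assoc,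
        pullback.diagonal_snd_assoc, Category.comp_id]
  have hP₁ := isAlgSpace_pullback' hZ hX hX (f ≫ g) (f ≫ g)
  have hP₂ := isAlgSpace_pullback' hZ hX hY (f ≫ g) g
  have hP₃ := isAlgSpace_pullback' hZ hY hY g g
  have hqf := isQuasiCompactMor_of_isUnivClosedMor hX hY hc
  refine ⟨fun h => ?_, fun h => ?_⟩
  · have hqc : IsQuasiCompactMor (f ≫ pullback.diagonal g) := by
      rw [← e]
      refine isQuasiCompactMor_comp hX hP₁ hP₃ (isQuasiCompactMor_of_repWith h)
        (isQuasiCompactMor_comp hP₁ hP₂ hP₃ ?_ ?_)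
      · exact fun W W' hW hWc k a b sq => hqf hW hWc (k ≫ _) (a ≫ _) b (sq.paste_horiz sq₁)
      · exact fun W W' hW hWc k a b sq => hqf hW hWc (k ≫ _) (a ≫ _) b (sq.paste_horiz sq₂)
    refine repWith_quasiCompact_of_isQuasiCompactMor (repWith_diagonal g (repWith_diag_mono hY)).1 ?_
    intro W W' hW hWc k a b sq
    have sqX := IsPullback.of_hasPullback f a
    have := compactSpace_points_of_isQuasiCompactSp (hqc hW hWc k _ _ (sqX.paste_vert sq))
    have : CompactSpace (Points W') := Function.Surjective.compactSpace (Points.continuous_map _)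
      (surjective_map_of_isPullback sqX hs)
    exact isQuasiCompactSp_of_compactSpace_points (isAlgSpace_pullback hP₃.diag hY hW sq)
  · refine (isSeparatedMor_iff_diagonal_univClosed hY).2 (isUnivClosedMor_of_surjective_comp hs ?_)
    rw [← e]
    exact isUnivClosedMor_comp hP₁ hP₃ ((isSeparatedMor_iff_diagonal_univClosed hX).1 h)
      (isUnivClosedMor_comp hP₂ hP₃ (univSp_of_isPullback sq₁ hc) (univSp_of_isPullback sq₂ hc))

end GrothLib.AlgSp
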