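import Groth.Agent.Lib.AlgSp.SchImageRed
import Groth.Agent.Lib.AlgSp.UnivClosed
import Groth.Agent.Lib.SchDensePull.Basic
import Mathlib.AlgebraicGeometry.Morphisms.Immersion

/-!
# Scheme theoretically dense open subspaces

* `exists_opens_chart`, `isSchematicallyDense_desc`, `isSchematicallyDense_iff_ker`.
* `isSchematicallyDense_of_chart`, `isSchematicallyDense_preimage_of_qc`.
-/

universe u

open CategoryTheory CategoryTheory.Limits AlgebraicGeometry

namespace GrothLib.AlgSp

open _root_.AlgSp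

/-- Schematic density descends along flat surjections. -/
theorem isSchematicallyDense_desc {A B : Scheme.{u}} (c : A ⟶ B) [Flat c] [Surjective c] {W : B.Opens}
    (h : CInt.IsSchematicallyDense (c ⁻¹ᵁ W)) : CInt.IsSchematicallyDense W := by
  intro O
  rw [injective_iff_map_eq_zero]
  intro s hs
  have h₁ : c.app O s = 0 := by
    refine (injective_iff_map_eq_zero _).1 (h (c ⁻¹ᵁ O)) _ ?_
    have := congrArg (fun φ => φ.hom s) (c.naturality (homOfLE (inf_le_left : O ⊓ W ≤ O)).op)
    simp only [CommRingCat.hom_comp, RingHom.comp_apply, hs, map_zero] at this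
    exact this.symm
  refine TopCat.Presheaf.section_ext B.sheaf _ _ _ fun y hy => ?_
  obtain ⟨x, rfl⟩ := c.surjective y
  algebraize [(c.stalkMap x).hom]
  have hff : Module.FaithfullyFlat (B.presheaf.stalk (c x)) (A.presheaf.stalk x) :=
    @Module.FaithfullyFlat.of_flat_of_isLocalHom _ _ _ _ _ _ _ (Flat.stalkMap c x) (c.toLRSHom.prop x)
  have hinj : Function.Injective (c.stalkMap x).hom :=
    RingHom.FaithfullyFlat.injective (f := (c.stalkMap x).hom) hff
  refine hinj ?_
  erw [map_zero, map_zero]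
  erw [Scheme.Hom.germ_stalkMap_apply]
  rw [h₁, map_zero]

/-- For quasi-compact opens, schematic density is the vanishing of the kernel. -/
theorem isSchematicallyDense_iff_ker {T : Scheme.{u}} (W : T.Opens) [QuasiCompact W.ι] :
    CInt.IsSchematicallyDense W ↔ W.ι.ker = ⊥ := by
  have key : ∀ O : T.Opens, Function.Injective (W.ι.app O) ↔
      Function.Injective (T.presheaf.map (homOfLE (inf_le_left : O ⊓ W ≤ O)).op) := by
    intro O
    have hle : O ⊓ W ≤ W.ι ''ᵁ (W.ι ⁻¹ᵁ O) := fun x hx => ⟨⟨x, hx.2⟩, hx.1, rfl⟩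
    have heq : W.ι ''ᵁ (W.ι ⁻¹ᵁ O) = O ⊓ W := le_antisymm (by rintro _ ⟨x, hx, rfl⟩; exact ⟨hx, x.2⟩) hle
    constructor
    · intro h s t hst
      refine h ?_
      rw [Scheme.Opens.ι_app]
      have := congrArg (T.presheaf.map (homOfLE heq.le).op) hst
      rwa [← CommRingCat.comp_apply, ← CommRingCat.comp_apply, ← Functor.map_comp] at this
    · intro h s t hst
      refine h ?_
      rw [Scheme.Opens.ι_app] at hst
      have := congrArg (T.presheaf.map (homOfLE hle).op) hst
      erw [SchDensePull.res_res, SchDensePull.res_res] at this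
      exact this
  constructor
  · intro h
    refine le_bot_iff.1 fun V => ?_
    rw [Scheme.Hom.ker_apply, (RingHom.injective_iff_ker_eq_bot _).1 ((key V.1).2 (h V.1))]
    exact bot_le
  · intro h O
    haveI : IsSchemeTheoreticallyDominant W.ι := ⟨h⟩
    exact (key O).1 (W.ι.app_injective O)

variable {S : Scheme.{u}} {G F : Sp S} {j : G ⟶ F}

/-- Open subspaces pull back to open subschemes of charts. -/
theorem exists_opens_chart (hj : RepWith @IsOpenImmersion j) {T : Over S} (a : (yon S).obj T ⟶ F) :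
    ∃ (W : T.left.Opens) (fst : (yon S).obj (Over.mk (W.ι ≫ T.hom)) ⟶ G),
      IsPullback fst ((yon S).map (Over.homMk W.ι rfl : Over.mk (W.ι ≫ T.hom) ⟶ T)) j a := by
  obtain ⟨C, p, c, sq⟩ := exists_isPullback_of_representable hj.1 a
  haveI : IsOpenImmersion c.left := hj.2 _ _ _ sq
  let W := c.left.opensRange
  have hw : c.left.isoOpensRange.hom ≫ W.ι ≫ T.hom = C.hom := by
    rw [Scheme.Hom.isoOpensRange_hom_ι_assoc, Over.w]
  let e : C ≅ Over.mk (W.ι ≫ T.hom) := Over.isoMk c.left.isoOpensRange hw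
  refine ⟨W, (yon S).map e.inv ≫ p,
    sq.of_iso ((yon S).mapIso e) (Iso.refl _) (Iso.refl _) (Iso.refl _) ?_ ?_ (by simp) (by simp)⟩
  · rw [Functor.mapIso_hom, ← Functor.map_comp_assoc, e.hom_inv_id, CategoryTheory.Functor.map_id,
      Category.id_comp, Iso.refl_hom, Category.comp_id]
  · simp only [Iso.refl_hom, Category.comp_id, Functor.mapIso_hom, ← Functor.map_comp]
    refine congrArg _ (Over.OverMorphism.ext ?_)
    exact (Scheme.Hom.isoOpensRange_hom_ι c.left).symm

/-- The open subscheme of a chart consists of the points over the open subspace. -/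
theorem coe_opens_chart {T : Over S} {a : (yon S).obj T ⟶ F} {W : T.left.Opens}
    {fst : (yon S).obj (Over.mk (W.ι ≫ T.hom)) ⟶ G}
    (sq : IsPullback fst ((yon S).map (Over.homMk W.ι rfl : Over.mk (W.ι ≫ T.hom) ⟶ T)) j a) :
    (W : Set ↥T.left) = Points.ofPt a ⁻¹' Set.range (Points.map j) := by
  rw [preimage_range_map sq]
  exact (Scheme.Opens.range_ι W).symm

/-- Preimages of opens of points over compatible charts. -/
theorem preimage_opens_chart {T T' : Over S} {a : (yon S).obj T ⟶ F} {a' : (yon S).obj T' ⟶ F} {γ : T' ⟶ T}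
    (hγ : (yon S).map γ ≫ a = a') {W : T.left.Opens} {W' : T'.left.Opens}
    {fst : (yon S).obj (Over.mk (W.ι ≫ T.hom)) ⟶ G}
    (sq : IsPullback fst ((yon S).map (Over.homMk W.ι rfl : Over.mk (W.ι ≫ T.hom) ⟶ T)) j a)
    {fst' : (yon S).obj (Over.mk (W'.ι ≫ T'.hom)) ⟶ G}
    (sq' : IsPullback fst' ((yon S).map (Over.homMk W'.ι rfl : Over.mk (W'.ι ≫ T'.hom) ⟶ T')) j a') :
    W' = γ.left ⁻¹ᵁ W := by
  refine TopologicalSpace.Opens.ext ?_
  rw [coe_opens_chart sq', TopologicalSpace.Opens.map_coe, coe_opens_chart sq, ← hγ]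
  ext t
  simp only [Set.mem_preimage, ofPt_map_comp]

/-- Schematically dense open subspaces are schematically dense on every chart. -/
theorem isSchematicallyDense_of_chart (hj : IsSchDense j) {T : Over S} {a : (yon S).obj T ⟶ F}
    (ha : RepWith @Etale a) {W : T.left.Opens} {fst : (yon S).obj (Over.mk (W.ι ≫ T.hom)) ⟶ G}
    (sq : IsPullback fst ((yon S).map (Over.homMk W.ι rfl : Over.mk (W.ι ≫ T.hom) ⟶ T)) j a) :
    CInt.IsSchematicallyDense W := by
  obtain ⟨hjo, V, φ, W₀, fst₀, φe, φs, sq₀, hd⟩ := hj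
  obtain ⟨R, r₁, r₂, sqR⟩ := exists_isPullback_of_representable φe.1 a
  obtain ⟨r₁, rfl⟩ := (yon S).map_surjective r₁
  haveI : Etale r₂.left := φe.2 _ _ _ sqR
  haveI : Surjective r₂.left := φs.2 _ _ _ sqR
  haveI : Etale r₁.left := ha.2 _ _ _ sqR.flip
  obtain ⟨WR, fstR, sqWR⟩ := exists_opens_chart hjo ((yon S).map r₁ ≫ φ)
  have h₁ := preimage_opens_chart rfl sq₀ sqWR
  have h₂ := preimage_opens_chart sqR.w.symm sq sqWR
  refine isSchematicallyDense_desc r₂.left ?_
  rw [← h₂, h₁]
  exact SchDensePull.isSchematicallyDense_preimage r₁.left W₀ hd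

/-- Flat preimages of schematically dense quasi-compact opens are schematically dense. -/
theorem isSchematicallyDense_preimage_of_qc {A B : Scheme.{u}} (c : A ⟶ B) [Flat c] (W : B.Opens)
    [QuasiCompact W.ι] (h : CInt.IsSchematicallyDense W) : CInt.IsSchematicallyDense (c ⁻¹ᵁ W) := by
  have sq : IsPullback (c ∣_ W) (c ⁻¹ᵁ W).ι W.ι c := (isPullback_morphismRestrict c W).flip.flip
  haveI : QuasiCompact (c ⁻¹ᵁ W).ι := MorphismProperty.of_isPullback sq inferInstance
  haveI : IsSchemeTheoreticallyDominant W.ι := ⟨(isSchematicallyDense_iff_ker W).1 h⟩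
  haveI : IsSchemeTheoreticallyDominant (c ⁻¹ᵁ W).ι := IsSchemeTheoreticallyDominant.of_isPullback sq
  exact (isSchematicallyDense_iff_ker _).2 (Scheme.Hom.ker_eq_bot _)

end GrothLib.AlgSp
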