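import Groth.Prelude.Def_W4stk3spdivLocPr
import Groth.Agent.Lib.AlgSp.CartierSub
import Groth.Agent.Lib.AlgSp.SchDenseSp
import Groth.Agent.Lib.AlgSp.AffineDescent
import Groth.Agent.Lib.AlgSp.AffineMor

/-!
# Complements of locally principal closed subspaces
-/

universe u

open CategoryTheory CategoryTheory.Limits AlgebraicGeometry

namespace GrothLib.AlgSp

open _root_.AlgSp

theorem compl_inf_eq_basicOpen {T : Scheme.{u}} {I : T.IdealSheafData} {U : T.affineOpens} {f : Γ(T, U.1)}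
    (hf : I.ideal U = Ideal.span {f}) {W : T.Opens} (hW : (W : Set T) = (I.support : Set T)ᶜ) :
    W ⊓ U.1 = T.basicOpen f := by
  refine TopologicalSpace.Opens.ext (Set.ext fun x => ?_)
  have h := I.coe_support_inter U
  rw [hf, Scheme.zeroLocus_span, Scheme.zeroLocus_singleton] at h
  have hx := Set.ext_iff.1 h x
  constructor
  · rintro ⟨hxW, hxU⟩
    by_contra hb
    exact (hW.le hxW) (hx.2 ⟨hb, hxU⟩).1
  · intro hb
    have hxU : x ∈ U.1 := T.basicOpen_le f hb
    refine ⟨hW.ge fun hs => ?_, hxU⟩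
    exact (hx.1 ⟨hs, hxU⟩).1 hb

theorem isAffineHom_compl {T : Scheme.{u}} {I : T.IdealSheafData} (hI : Curv2.IsLocPrincipal I) {W : T.Opens}
    (hW : (W : Set T) = (I.support : Set T)ᶜ) : IsAffineHom W.ι := by
  refine isAffineHom_of_forall_exists_isAffineOpen _ fun x => ?_
  by_cases hx : x ∈ I.support
  · obtain ⟨U, hxU, f, hf⟩ := hI x hx
    refine ⟨U.1, hxU, U.2, ?_⟩
    have e := compl_inf_eq_basicOpen hf hW
    refine (Scheme.Hom.isAffineOpen_iff_of_isOpenImmersion W.ι).1 ?_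
    rw [Scheme.Hom.image_preimage_eq_opensRange_inf, Scheme.Opens.opensRange_ι, e]
    exact U.2.basicOpen f
  · obtain ⟨U, hxU, hle⟩ := GrothLib.BlowUp.exists_affine_mem_le (W := W) (x := x) (hW.ge hx)
    refine ⟨U.1, hxU, U.2, ?_⟩
    refine (Scheme.Hom.isAffineOpen_iff_of_isOpenImmersion W.ι).1 ?_
    rw [Scheme.Hom.image_preimage_eq_opensRange_inf, Scheme.Opens.opensRange_ι, inf_eq_right.2 hle]
    exact U.2

theorem isSchematicallyDense_compl {T : Scheme.{u}} {I : T.IdealSheafData} (hI : _root_.BlowUp.IsEffCartierIdeal I)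
    {W : T.Opens} (hW : (W : Set T) = (I.support : Set T)ᶜ) : CInt.IsSchematicallyDense W := by
  intro O
  rw [injective_iff_map_eq_zero]
  intro s hs
  refine TopCat.Presheaf.section_ext T.sheaf _ _ _ fun y hy => ?_
  obtain ⟨V, hyV, hVO, f, hf, hfI⟩ := GrothLib.BlowUp.exists_cartierOn_le hI hy
  have e := compl_inf_eq_basicOpen hfI hW
  have hV : T.presheaf.map (homOfLE hVO).op s = 0 := by
    have := V.2.isLocalization_basicOpen f
    have h0 : algebraMap Γ(T, V.1) Γ(T, T.basicOpen f) (T.presheaf.map (homOfLE hVO).op s) = 0 := by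
      have hle : T.basicOpen f ≤ O ⊓ W := e ▸ le_inf (inf_le_right.trans hVO) inf_le_left
      rw [RingHom.algebraMap_toAlgebra, ← CommRingCat.comp_apply, ← Functor.map_comp]
      have := congrArg (T.presheaf.map (homOfLE hle).op) hs
      rwa [map_zero, ← CommRingCat.comp_apply, ← Functor.map_comp] at this
    exact IsLocalization.injective Γ(T, T.basicOpen f) (M := Submonoid.powers f)
      (by rintro _ ⟨k, rfl⟩; exact pow_mem hf k) (h0.trans (map_zero _).symm)
  erw [← T.presheaf.germ_res_apply (homOfLE hVO) y hyV s]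
  rw [hV, map_zero]
  erw [map_zero]
  rfl

variable {S : Scheme.{u}} {X D U : Sp S}

theorem coe_compl_chart {i : D ⟶ X} {j : U ⟶ X}
    (hU : Set.range (Points.map j) = (Set.range (Points.map i))ᶜ) {V : Over S} {φ : (yon S).obj V ⟶ X}
    {I : V.left.IdealSheafData} {p : (yon S).obj (Over.mk (I.subschemeι ≫ V.hom)) ⟶ D}
    (sq : IsPullback p ((yon S).map (subHom I)) i φ) {W : V.left.Opens}
    {q : (yon S).obj (Over.mk (W.ι ≫ V.hom)) ⟶ U}
    (sqW : IsPullback q ((yon S).map (Over.homMk W.ι rfl : Over.mk (W.ι ≫ V.hom) ⟶ V)) j φ) :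
    (W : Set ↥V.left) = (I.support : Set ↥V.left)ᶜ := by
  rw [coe_opens_chart sqW, hU, Set.preimage_compl, preimage_range_map sq, ← Scheme.IdealSheafData.range_subschemeι]
  rfl

theorem isAffineMor_compl (hX : IsAlgSpace X) {i : D ⟶ X} {j : U ⟶ X} (hj : RepWith @IsOpenImmersion j)
    (hU : Set.range (Points.map j) = (Set.range (Points.map i))ᶜ) {V : Over S} {φ : (yon S).obj V ⟶ X}
    (φe : RepWith @Etale φ) (φs : RepWith @Surjective φ)
    {I : V.left.IdealSheafData} {p : (yon S).obj (Over.mk (I.subschemeι ≫ V.hom)) ⟶ D}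
    (sq : IsPullback p ((yon S).map (subHom I)) i φ) (hI : Curv2.IsLocPrincipal I) : IsAffineMor j := by
  obtain ⟨W, q, sqW⟩ := exists_opens_chart hj φ
  have := chart_isLocallySurjective φe φs
  rw [isAffineMor_iff]
  exact repWith_of_base_isAffineHom φ sqW le_rfl fppfDescends_isAffineHom
    ((repWith_yon_map_iff @IsAffineHom _).2 (isAffineHom_compl hI (coe_compl_chart hU sq sqW)))

theorem isSchDense_compl {i : D ⟶ X} {j : U ⟶ X} (hj : RepWith @IsOpenImmersion j)
    (hU : Set.range (Points.map j) = (Set.range (Points.map i))ᶜ) (hD : IsEffCartierSub i) : IsSchDense j := by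
  obtain ⟨-, V, φ, I, p, φe, φs, sq, hI⟩ := hD
  obtain ⟨W, q, sqW⟩ := exists_opens_chart hj φ
  exact ⟨hj, V, φ, W, q, φe, φs, sqW, isSchematicallyDense_compl hI (coe_compl_chart hU sq sqW)⟩

end GrothLib.AlgSp
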