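import Groth.Agent.Lib.AlgSp.IdealEtLib
import Groth.Agent.Lib.BlowUp.EffCartier
import Mathlib.RingTheory.RingHom.FaithfullyFlat
import Mathlib.RingTheory.Flat.FaithfullyFlat.Algebra
import Mathlib.AlgebraicGeometry.Morphisms.UniversallyOpen
import Mathlib.AlgebraicGeometry.Morphisms.Flat

/-!
# Being an effective Cartier ideal descends along flat surjective morphisms locally of finite presentation
-/

universe u

open CategoryTheory AlgebraicGeometry

namespace GrothLib.AlgSp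

open GrothLib.BlowUp (mem_nonZeroDivisors_of_flat exists_cartierOn_le)

/-- The ideal is generated by one nonzerodivisor on the whole affine scheme. -/
def CartierTop {A : Scheme.{u}} (J : A.IdealSheafData) (hA : IsAffine A) : Prop :=
  ∃ f : Γ(A, ⊤), f ∈ nonZeroDivisors Γ(A, ⊤) ∧ topIdeal J hA = Ideal.span {f}

theorem isEffCartierIdeal_of_cartierTop {A : Scheme.{u}} {J : A.IdealSheafData} {hA : IsAffine A}
    (h : CartierTop J hA) : _root_.BlowUp.IsEffCartierIdeal J :=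
  fun _ => ⟨⟨⊤, isAffineOpen_top A⟩, trivial, h⟩

theorem isEffCartierIdeal_of_forall_cartierTop {T : Scheme.{u}} {I : T.IdealSheafData}
    (h : ∀ x : T, ∃ (W : T.Opens) (hW : IsAffineOpen W), x ∈ W ∧ CartierTop (I.comap W.ι) hW) :
    _root_.BlowUp.IsEffCartierIdeal I :=
  GrothLib.BlowUp.isEffCartierIdeal_of_forall_exists_open fun x =>
    let ⟨W, _, hx, hc⟩ := h x
    ⟨W, hx, isEffCartierIdeal_of_cartierTop hc⟩

theorem exists_cartierTop {T : Scheme.{u}} {I : T.IdealSheafData} (hI : _root_.BlowUp.IsEffCartierIdeal I)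
    {W : T.Opens} {x : T} (hx : x ∈ W) :
    ∃ (V : T.Opens) (hV : IsAffineOpen V), x ∈ V ∧ V ≤ W ∧ CartierTop (I.comap V.ι) hV := by
  obtain ⟨V, hxV, hle, f, hf, e⟩ := exists_cartierOn_le hI hx
  have hT : (⊤ : V.1.toScheme.Opens) ≤ V.1.ι ⁻¹ᵁ V.1 := by simp
  have : IsAffine V.1.toScheme := V.2
  refine ⟨V.1, V.2, hxV, hle, V.1.ι.appLE V.1 ⊤ hT f,
    mem_nonZeroDivisors_of_flat _ (Scheme.Hom.flat_appLE V.1.ι V.2 (isAffineOpen_top _) hT) hf, ?_⟩
  unfold topIdeal
  rw [GrothLib.BlowUp.ideal_comap_eq_map I V.1.ι V ⟨⊤, isAffineOpen_top V.1.toScheme⟩ hT, e, Ideal.map_span,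
    Set.image_singleton]

theorem appTop_ι_isUnit {A : Scheme.{u}} (d : Γ(A, ⊤)) : IsUnit ((A.basicOpen d).ι.appTop d) := by
  have h : (A.basicOpen d).toScheme.basicOpen ((A.basicOpen d).ι.appTop d) = ⊤ := by
    rw [← Scheme.preimage_basicOpen_top]
    exact TopologicalSpace.Opens.ext (Set.eq_univ_of_forall fun x => x.2)
  have := RingedSpace.isUnit_res_basicOpen (X := (A.basicOpen d).toScheme.toLocallyRingedSpace.toRingedSpace)
    ((A.basicOpen d).ι.appTop d)
  have e : (A.basicOpen d).toScheme.presheaf.map (homOfLE le_top).op ((A.basicOpen d).ι.appTop d) =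
      (A.basicOpen d).toScheme.presheaf.map (eqToHom h).op ((A.basicOpen d).ι.appTop d) := rfl
  have hb : IsUnit ((A.basicOpen d).toScheme.presheaf.map (eqToHom h).op ((A.basicOpen d).ι.appTop d)) := e ▸ this
  exact (isUnit_map_iff ((A.basicOpen d).toScheme.presheaf.map (eqToHom h).op).hom _).1 hb

theorem faithfullyFlat_appTop {A B : Scheme.{u}} [IsAffine A] [IsAffine B] (c : A ⟶ B) [Flat c] [Surjective c] :
    c.appTop.hom.FaithfullyFlat := by
  refine RingHom.FaithfullyFlat.iff_flat_and_comap_surjective.2 ⟨HasRingHomProperty.appTop @Flat c ‹_›, ?_⟩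
  have : Surjective (Spec.map c.appTop) := by
    have e : Spec.map c.appTop = A.isoSpec.inv ≫ c ≫ B.isoSpec.hom := by
      rw [← Scheme.isoSpec_hom_naturality, Iso.inv_hom_id_assoc]
    rw [e]
    infer_instance
  exact (Spec.map c.appTop).surjective

/-- A point where the pulled back ideal is generated by the image of one element of the ideal. -/
theorem exists_generator {A B : Type u} [CommRing A] [CommRing B] (φ : A →+* B) (I : Ideal A) {g : B}
    (hg : g ∈ nonZeroDivisors B) (h : I.map φ = Ideal.span {g}) (p : Ideal B) [p.IsPrime] :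
    ∃ a ∈ I, ∃ d, φ a = g * d ∧ d ∉ p := by
  by_contra! hall
  have key : ∀ b ∈ I.map φ, ∃ c ∈ p, b = g * c := by
    intro b hb
    refine Submodule.span_induction ?_ ?_ ?_ ?_ hb
    · rintro _ ⟨a, ha, rfl⟩
      obtain ⟨d, hd⟩ := Ideal.mem_span_singleton.1 (h.le (Ideal.mem_map_of_mem φ ha))
      exact ⟨d, hall a ha d hd, hd⟩
    · exact ⟨0, zero_mem _, (mul_zero _).symm⟩
    · rintro _ _ - - ⟨c, hc, rfl⟩ ⟨c', hc', rfl⟩
      exact ⟨c + c', add_mem hc hc', (mul_add _ _ _).symm⟩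
    · rintro r _ - ⟨c, hc, rfl⟩
      exact ⟨r * c, Ideal.mul_mem_left _ _ hc, by rw [smul_eq_mul]; ring⟩
  obtain ⟨c, hc, e⟩ := key g (h.ge (Ideal.mem_span_singleton_self g))
  have : (1 : B) = c := (mul_cancel_left_mem_nonZeroDivisors hg).1 (by rw [mul_one]; exact e)
  exact ‹p.IsPrime›.ne_top ((Ideal.eq_top_iff_one _).2 (this ▸ hc))

/-- Being effective Cartier descends along flat surjective morphisms locally of finite presentation. -/
theorem isEffCartierIdeal_of_comap {T' T : Scheme.{u}} (c : T' ⟶ T) [Flat c] [LocallyOfFinitePresentation c]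
    [Surjective c] {I : T.IdealSheafData} (h : _root_.BlowUp.IsEffCartierIdeal (I.comap c)) :
    _root_.BlowUp.IsEffCartierIdeal I := by
  refine GrothLib.BlowUp.isEffCartierIdeal_of_forall_exists_open fun x => ?_
  obtain ⟨U, hxU, -⟩ := GrothLib.BlowUp.exists_affine_mem_le (W := (⊤ : T.Opens)) (x := x) trivial
  obtain ⟨x', rfl⟩ := c.surjective x
  obtain ⟨V, hV, hx'V, hle, g, hg, hgI⟩ := exists_cartierTop h (W := c ⁻¹ᵁ U.1) hxU
  let A := U.1.toScheme
  let B := V.toScheme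
  have : IsAffine A := U.2
  have : IsAffine B := hV
  let c₁ : B ⟶ A := c.resLE U.1 V hle
  let IU := topIdeal (I.comap U.1.ι) U.2
  have h₁ : IU.map c₁.appTop.hom = Ideal.span {g} := by
    rw [← topIdeal_comap hV, ← Scheme.IdealSheafData.comap_comp, Scheme.Hom.resLE_comp_ι,
      Scheme.IdealSheafData.comap_comp, hgI]
  obtain ⟨a, ha, d, had, hd⟩ := exists_generator c₁.appTop.hom IU hg h₁
    ((isAffineOpen_top B).primeIdealOf ⟨⟨x', hx'V⟩, trivial⟩).asIdeal
  have hxd : (⟨x', hx'V⟩ : B) ∈ B.basicOpen d := by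
    rw [← (isAffineOpen_top B).fromSpec_image_basicOpen]
    exact ⟨_, hd, (isAffineOpen_top B).fromSpec_primeIdealOf ⟨⟨x', hx'V⟩, trivial⟩⟩
  let c₂ : (B.basicOpen d).toScheme ⟶ A := (B.basicOpen d).ι ≫ c₁
  have : LocallyOfFinitePresentation c₁ := inferInstance
  have : Flat c₁ := inferInstance
  have : IsAffine (B.basicOpen d).toScheme := (isAffineOpen_top B).basicOpen d
  let O : A.Opens := ⟨Set.range c₂, c₂.isOpenMap.isOpen_range⟩
  have hxO : (⟨c x', hxU⟩ : A) ∈ O := ⟨⟨⟨x', hx'V⟩, hxd⟩, Subtype.ext (by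
    change U.1.ι (c₂ ⟨⟨x', hx'V⟩, hxd⟩) = c x'
    rw [← Scheme.Hom.comp_apply, Category.assoc, Scheme.Hom.resLE_comp_ι]
    rfl)⟩
  obtain ⟨r, hrle, hxr⟩ := (isAffineOpen_top A).exists_basicOpen_le ⟨_, hxO⟩ trivial
  let W := A.basicOpen r
  have : IsAffine W.toScheme := (isAffineOpen_top A).basicOpen r
  have hV₃ : IsAffineOpen (c₂ ⁻¹ᵁ W) := by
    rw [Scheme.preimage_basicOpen_top]
    exact (isAffineOpen_top _).basicOpen _
  have : IsAffine (c₂ ⁻¹ᵁ W).toScheme := hV₃
  let c₃ := c₂ ∣_ W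
  have : Flat c₃ := IsZariskiLocalAtTarget.restrict (P := @Flat) inferInstance W
  have : Surjective c₃ := ⟨fun w => by
    obtain ⟨v, hv⟩ := hrle w.2
    refine ⟨⟨v, show c₂ v ∈ W from hv ▸ w.2⟩, Subtype.ext ?_⟩
    rw [← Scheme.Opens.ι_apply, ← Scheme.Hom.comp_apply, morphismRestrict_ι]
    exact hv⟩
  refine ⟨W.ι ≫ U.1.ι |>.opensRange, ⟨⟨⟨c x', hxU⟩, hxr⟩, rfl⟩, ?_⟩
  suffices hW : _root_.BlowUp.IsEffCartierIdeal ((I.comap U.1.ι).comap W.ι) by
    have := GrothLib.BlowUp.isEffCartierIdeal_comap_of_flat (W.ι ≫ U.1.ι).isoOpensRange.inv hW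
    rwa [← Scheme.IdealSheafData.comap_comp, ← Scheme.IdealSheafData.comap_comp, Category.assoc,
      Scheme.Hom.isoOpensRange_inv_comp] at this
  refine isEffCartierIdeal_of_cartierTop (hA := ‹IsAffine W.toScheme›) ?_
  let e := ((c₂ ⁻¹ᵁ W).ι ≫ (B.basicOpen d).ι).appTop.hom
  have hne : e g ∈ nonZeroDivisors _ :=
    mem_nonZeroDivisors_of_flat e (HasRingHomProperty.appTop @Flat _ inferInstance) hg
  have hud : IsUnit (e d) := by
    simp only [e, Scheme.Hom.comp_appTop, CommRingCat.hom_comp, RingHom.comp_apply]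
    exact (appTop_ι_isUnit d).map _
  have hcomm : c₃ ≫ W.ι = ((c₂ ⁻¹ᵁ W).ι ≫ (B.basicOpen d).ι) ≫ c₁ := by
    rw [morphismRestrict_ι, Category.assoc]
  have hap : ∀ s, c₃.appTop.hom (W.ι.appTop.hom s) = e (c₁.appTop.hom s) := fun s => by
    simp only [e, ← RingHom.comp_apply, ← CommRingCat.hom_comp, ← Scheme.Hom.comp_appTop, hcomm]
  have hff := faithfullyFlat_appTop c₃
  algebraize [c₃.appTop.hom]
  have : Module.FaithfullyFlat Γ(W.toScheme, ⊤) Γ((c₂ ⁻¹ᵁ W).toScheme, ⊤) := hff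
  have himg : c₃.appTop.hom (W.ι.appTop.hom a) = e g * e d := by rw [hap, had, map_mul]
  have hinj : Function.Injective c₃.appTop.hom := RingHom.FaithfullyFlat.injective hff
  refine ⟨W.ι.appTop.hom a, ?_, ?_⟩
  · rw [mem_nonZeroDivisors_iff_right]
    intro z hz
    refine hinj ?_
    rw [map_zero]
    refine (mul_right_mem_nonZeroDivisors_eq_zero_iff (mul_mem hne hud.mem_nonZeroDivisors)).1 ?_
    rw [← himg, ← map_mul, hz, map_zero]
  · have hJ : (topIdeal ((I.comap U.1.ι).comap W.ι) ‹_›).map c₃.appTop.hom = (Ideal.span {W.ι.appTop.hom a}).map c₃.appTop.hom := by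
      rw [← topIdeal_comap (‹IsAffine (c₂ ⁻¹ᵁ W).toScheme›), ← Scheme.IdealSheafData.comap_comp, hcomm,
        topIdeal_comap _ U.2, Scheme.Hom.comp_appTop, CommRingCat.hom_comp, ← Ideal.map_map, h₁,
        Ideal.map_span, Ideal.map_span, Set.image_singleton, Set.image_singleton, himg,
        Ideal.span_singleton_mul_right_unit hud]
    have := congrArg (Ideal.comap (algebraMap Γ(W.toScheme, ⊤) Γ((c₂ ⁻¹ᵁ W).toScheme, ⊤))) hJ
    rwa [RingHom.algebraMap_toAlgebra, ← RingHom.algebraMap_toAlgebra c₃.appTop.hom,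
      Ideal.comap_map_eq_self_of_faithfullyFlat, Ideal.comap_map_eq_self_of_faithfullyFlat] at this

end GrothLib.AlgSp
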