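import Groth.Agent.Lib.AlgSp.DecentBridge
import Groth.Agent.Lib.AlgSp.FiniteDiscrete

/-!
# The degree of an affine etale chart

For an affine etale chart `a : U ⟶ X`, `degGE a k` is the set of points over which some field-valued point has `k`
distinct lifts to `U`.

* `isOpen_degGE`, `exists_not_mem_degGE`: these sets are open and avoid a quasi-compact point eventually.
* `exists_eq_of_not_mem`: where the degree is maximal the fibres are given by sections.
* `exists_maximal_degree`: on an irreducible closed set the degree is maximal on a nonempty open.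
* `quasiSober_of_isDecent`: decent spaces have generic points.
-/

universe u

open CategoryTheory CategoryTheory.Limits AlgebraicGeometry

namespace GrothLib.AlgSp

open _root_.AlgSp

variable {S : Scheme.{u}} {X : Sp S} {U : Over S} (a : (yon S).obj U ⟶ X)

/-- `k` pointwise distinct sections of `a` over an etale scheme over `X`. -/
structure SectionCfg (k : ℕ) where
  W : Over S
  g : (yon S).obj W ⟶ X
  etale : RepWith @Etale g
  e : Fin k → (W ⟶ U)
  comm : ∀ i, (yon S).map (e i) ≫ a = g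
  disj : ∀ i j, i ≠ j → ∀ (L : Type u) (_ : Field L) (w : Spec (CommRingCat.of L) ⟶ S)
    (μ : Over.mk w ⟶ W), μ ≫ e i ≠ μ ≫ e j

/-- The points over which a field valued point has `k` distinct lifts. -/
def degGE (k : ℕ) : Set (Points X) :=
  {x | ∃ (L : Type u) (_ : Field L) (w : Spec (CommRingCat.of L) ⟶ S) (γ : (yon S).obj (Over.mk w) ⟶ X)
    (l : Fin k → (Over.mk w ⟶ U)), Points.ofPt γ (IsLocalRing.closedPoint L) = x ∧ Function.Injective l ∧
      ∀ i, (yon S).map (l i) ≫ a = γ}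

variable {a}

theorem mem_degGE_of_cfg {k : ℕ} (c : SectionCfg a k) (w : ↥c.W.left) : Points.ofPt c.g w ∈ degGE a k := by
  let i : Over.mk (c.W.left.fromSpecResidueField w ≫ c.W.hom) ⟶ c.W := Over.homMk (c.W.left.fromSpecResidueField w) rfl
  refine ⟨c.W.left.residueField w, inferInstance, _, (yon S).map i ≫ c.g, fun j => i ≫ c.e j, ?_, fun j j' h => ?_,
    fun j => by rw [Functor.map_comp, Category.assoc, c.comm]⟩
  · rw [ofPt_map_comp]
    exact congrArg (Points.ofPt c.g) (Scheme.fromSpecResidueField_apply _ _)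
  · by_contra hne
    exact c.disj j j' hne _ inferInstance _ i h

theorem degGE_succ_subset (k : ℕ) : degGE a (k + 1) ⊆ degGE a k := by
  rintro x ⟨L, _, w, γ, l, hx, hl, hc⟩
  exact ⟨L, inferInstance, w, γ, fun i => l i.castSucc, hx, fun i j h => Fin.castSucc_injective _ (hl h), fun i => hc i.castSucc⟩

theorem degGE_antitone {k m : ℕ} (h : k ≤ m) : degGE a m ⊆ degGE a k := by
  induction h with
  | refl => exact subset_rfl
  | step _ ih => exact (degGE_succ_subset _).trans ih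

theorem degGE_one : degGE a 1 = Set.range (Points.ofPt a) := by
  ext x
  constructor
  · rintro ⟨L, _, w, γ, l, rfl, -, hc⟩
    exact ⟨(l 0).left (IsLocalRing.closedPoint L), by rw [← hc 0, ofPt_map_comp]⟩
  · rintro ⟨v, rfl⟩
    let i : Over.mk (U.left.fromSpecResidueField v ≫ U.hom) ⟶ U := Over.homMk (U.left.fromSpecResidueField v) rfl
    refine ⟨U.left.residueField v, inferInstance, _, (yon S).map i ≫ a, fun _ => i, ?_,
      Function.injective_of_subsingleton _, fun _ => rfl⟩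
    rw [ofPt_map_comp]
    exact congrArg (Points.ofPt a) (Scheme.fromSpecResidueField_apply _ _)

section Step

variable (hX : IsAlgSpace X) [IsAffine U.left] (ha : RepWith @Etale a) {k : ℕ} (c : SectionCfg a k)
include hX ha

/-- One more section over the complement of the sections in `W ×_X U`. -/
theorem exists_step : ∃ (T : Over S) (p : T ⟶ c.W) (d : T ⟶ U) (σ : Fin k → (c.W ⟶ T))
    (O : T.left.Opens), IsPullback ((yon S).map p) ((yon S).map d) c.g a ∧
      (∀ i, σ i ≫ p = 𝟙 _ ∧ σ i ≫ d = c.e i ∧ IsOpenImmersion (σ i).left ∧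
        Disjoint (O : Set ↥T.left) (Set.range (σ i).left)) ∧
      (∀ t : ↥T.left, t ∈ O ∨ ∃ i, t ∈ Set.range (σ i).left) ∧
      ∃ c' : SectionCfg a (k + 1), ∃ j : c'.W ⟶ T, IsOpenImmersion j.left ∧ Set.range j.left = O ∧
        (∀ i, c'.e i.castSucc = j ≫ p ≫ c.e i) ∧ c'.e (Fin.last k) = j ≫ d ∧
        c'.g = (yon S).map (j ≫ p) ≫ c.g := by
  obtain ⟨T, p, d, sq⟩ := exists_isPullback_yon hX.diag c.g a
  haveI : Etale p.left := ha.2 _ _ _ sq.flip
  haveI : IsSeparated U.hom := ⟨inferInstance⟩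
  haveI hsep : IsSeparated p.left := by
    let j : T.left ⟶ pullback c.W.hom U.hom := pullback.lift p.left d.left ((Over.w p).trans (Over.w d).symm)
    have : Mono j := ⟨fun {Z} α β h => by
      have h1 : α ≫ p.left = β ≫ p.left := by
        have := h =≫ pullback.fst c.W.hom U.hom
        simpa only [Category.assoc, j, pullback.lift_fst] using this
      have h2 : α ≫ d.left = β ≫ d.left := by
        have := h =≫ pullback.snd c.W.hom U.hom
        simpa only [Category.assoc, j, pullback.lift_snd] using this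
      let α' : Over.mk (α ≫ T.hom) ⟶ T := Over.homMk α rfl
      let β' : Over.mk (α ≫ T.hom) ⟶ T := Over.homMk β (by
        show β ≫ T.hom = α ≫ T.hom
        rw [← Over.w p, ← Category.assoc, ← h1, Category.assoc])
      exact congrArg (fun q => q.left) ((yon S).map_injective (sq.hom_ext
        (show (yon S).map α' ≫ _ = (yon S).map β' ≫ _ by
          rw [← Functor.map_comp, ← Functor.map_comp]; exact congrArg _ (Over.OverMorphism.ext h1))
        (show (yon S).map α' ≫ _ = (yon S).map β' ≫ _ by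
          rw [← Functor.map_comp, ← Functor.map_comp]; exact congrArg _ (Over.OverMorphism.ext h2))))⟩
    rw [← pullback.lift_fst p.left d.left ((Over.w p).trans (Over.w d).symm)]
    exact inferInstanceAs (IsSeparated (j ≫ pullback.fst c.W.hom U.hom))
  have hσ : ∀ i, ∃ σ : c.W ⟶ T, σ ≫ p = 𝟙 _ ∧ σ ≫ d = c.e i := fun i => by
    obtain ⟨σ, hσ⟩ := (yon S).map_surjective (sq.lift (𝟙 _) ((yon S).map (c.e i)) (by rw [Category.id_comp, c.comm]))
    exact ⟨σ, (yon S).map_injective (by rw [Functor.map_comp, hσ, sq.lift_fst, CategoryTheory.Functor.map_id]),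
      (yon S).map_injective (by rw [Functor.map_comp, hσ, sq.lift_snd])⟩
  choose σ hσp hσd using hσ
  have hp : ∀ i, (σ i).left ≫ p.left = 𝟙 c.W.left := fun i => by rw [← Over.comp_left, hσp]; rfl
  have hci : ∀ i, IsClosedImmersion (σ i).left := fun i => by
    haveI : IsClosedImmersion ((σ i).left ≫ p.left) := by rw [hp]; infer_instance
    exact IsClosedImmersion.of_comp (σ i).left p.left
  have hoi : ∀ i, IsOpenImmersion (σ i).left := fun i => by
    haveI := hci i
    haveI : Etale ((σ i).left ≫ p.left) := by rw [hp]; infer_instance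
    haveI : Etale (σ i).left := Etale.of_comp (σ i).left p.left
    exact IsOpenImmersion.of_flat_of_mono _
  let O : T.left.Opens := ⟨(⋃ i, Set.range (σ i).left)ᶜ, (isClosed_iUnion_of_finite fun i =>
    (σ i).left.isClosedEmbedding.isClosed_range).isOpen_compl⟩
  have hO : ∀ i, Disjoint (O : Set ↥T.left) (Set.range (σ i).left) := fun i =>
    Set.disjoint_left.2 fun t ht hi => ht (Set.mem_iUnion.2 ⟨i, hi⟩)
  let W' : Over S := Over.mk (O.ι ≫ T.hom)
  let j : W' ⟶ T := Over.homMk O.ι rfl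
  refine ⟨T, p, d, σ, O, sq, fun i => ⟨hσp i, hσd i, hoi i, hO i⟩, fun t => ?_, ?_⟩
  · by_cases h : t ∈ O
    · exact Or.inl h
    · exact Or.inr (Set.mem_iUnion.1 (not_not.1 h))
  have key : ∀ (i : Fin k) (L : Type u) (_ : Field L) (w : Spec (CommRingCat.of L) ⟶ S) (μ : Over.mk w ⟶ W'),
      μ ≫ j ≫ p ≫ c.e i ≠ μ ≫ j ≫ d := fun i L _ w μ h => by
    have e : μ ≫ j = (μ ≫ j ≫ p) ≫ σ i := (yon S).map_injective (sq.hom_ext
      (by rw [← Functor.map_comp, ← Functor.map_comp]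
          simp only [Category.assoc, hσp, Category.comp_id])
      (by rw [← Functor.map_comp, ← Functor.map_comp]
          simp only [Category.assoc, hσd]
          rw [h]))
    refine Set.disjoint_left.1 (hO i) (μ.left (IsLocalRing.closedPoint L)).2
      ⟨(μ ≫ j ≫ p).left (IsLocalRing.closedPoint L), ?_⟩
    rw [← Scheme.Hom.comp_apply, ← Over.comp_left, ← e]
    rfl
  let c' : SectionCfg a (k + 1) := {
    W := W'
    g := (yon S).map (j ≫ p) ≫ c.g
    etale := repWith_comp ((repWith_yon_map_iff _ _).2 (inferInstanceAs (Etale (O.ι ≫ p.left)))) c.etale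
    e := Fin.snoc (fun i => j ≫ p ≫ c.e i) (j ≫ d)
    comm := fun i => by
      induction i using Fin.lastCases with
      | last => rw [Fin.snoc_last, Functor.map_comp, Category.assoc, ← sq.w, Functor.map_comp, Category.assoc]
      | cast i => rw [Fin.snoc_castSucc]; simp only [Functor.map_comp, Category.assoc, c.comm]
    disj := fun i i' hne L _ w μ => by
      induction i using Fin.lastCases with
      | last =>
        induction i' using Fin.lastCases with
        | last => exact absurd rfl hne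
        | cast i' => rw [Fin.snoc_last, Fin.snoc_castSucc]; exact (key i' L inferInstance w μ).symm
      | cast i =>
        induction i' using Fin.lastCases with
        | last => rw [Fin.snoc_last, Fin.snoc_castSucc]; exact key i L inferInstance w μ
        | cast i' =>
          rw [Fin.snoc_castSucc, Fin.snoc_castSucc]
          intro h
          exact c.disj i i' (fun e => hne (by rw [e])) L inferInstance w (μ ≫ j ≫ p) (by
            simpa only [Category.assoc] using h) }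
  refine ⟨c', j, inferInstanceAs (IsOpenImmersion O.ι), Scheme.Opens.range_ι O,
    fun i => ?_, ?_, rfl⟩
  · simp only [c', Fin.snoc_castSucc]
  · simp only [c', Fin.snoc_last]

end Step

/-- Distinct lifts come from configurations. -/
theorem exists_cfg (hX : IsAlgSpace X) [IsAffine U.left] (ha : RepWith @Etale a) (k : ℕ) :
    ∀ (L : Type u) (_ : Field L) (w : Spec (CommRingCat.of L) ⟶ S) (γ : (yon S).obj (Over.mk w) ⟶ X)
      (l : Fin (k + 1) → (Over.mk w ⟶ U)), Function.Injective l → (∀ i, (yon S).map (l i) ≫ a = γ) →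
      ∃ (c : SectionCfg a (k + 1)) (lam : Over.mk w ⟶ c.W), (∀ i, lam ≫ c.e i = l i) ∧ (yon S).map lam ≫ c.g = γ := by
  induction k with
  | zero =>
    intro L _ w γ l _ hc
    refine ⟨⟨U, a, ha, fun _ => 𝟙 U, fun _ => by rw [CategoryTheory.Functor.map_id, Category.id_comp],
      fun i j hne => absurd (Subsingleton.elim (α := Fin 1) i j) hne⟩, l 0, fun i => ?_, hc 0⟩
    rw [Category.comp_id, Fin.fin_one_eq_zero i]
  | succ k ih =>
    intro L _ w γ l hl hc
    obtain ⟨c, lam, hlam, hg⟩ := ih L inferInstance w γ (l ∘ Fin.castSucc) (hl.comp (Fin.castSucc_injective _))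
      (fun i => hc _)
    obtain ⟨T, p, d, σ, O, sq, hσ, hcov, c', j, hj, hjr, hel, hlast, hg'⟩ := exists_step hX ha c
    obtain ⟨ν, hν⟩ := (yon S).map_surjective (sq.lift ((yon S).map lam) ((yon S).map (l (Fin.last _)))
      (by rw [hg, hc]))
    have hν₁ : ν ≫ p = lam := (yon S).map_injective (by rw [Functor.map_comp, hν, sq.lift_fst])
    have hν₂ : ν ≫ d = l (Fin.last _) := (yon S).map_injective (by rw [Functor.map_comp, hν, sq.lift_snd])
    have hr : Set.range ν.left ⊆ Set.range j.left := by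
      rintro _ ⟨z, rfl⟩
      rw [hjr]
      by_contra hz
      obtain ⟨i, hi⟩ := (hcov (ν.left z)).resolve_left hz
      obtain ⟨hsp, hsd, hso, -⟩ := hσ i
      haveI := hso
      have hsub : Set.range ν.left ⊆ Set.range (σ i).left := by
        rintro _ ⟨z', rfl⟩
        rwa [show z' = z from Subsingleton.elim (α := PrimeSpectrum L) _ _]
      let μ : Over.mk w ⟶ c.W := Over.homMk (IsOpenImmersion.lift (σ i).left ν.left hsub) (by
        rw [← Over.w (σ i), ← Category.assoc, IsOpenImmersion.lift_fac]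
        exact Over.w ν)
      have hμ : μ ≫ σ i = ν := Over.OverMorphism.ext (IsOpenImmersion.lift_fac _ _ _)
      have h₁ : lam = μ := by rw [← hν₁, ← hμ, Category.assoc, hsp, Category.comp_id]
      have h₂ : l (Fin.last _) = l i.castSucc := by
        rw [← hν₂, ← hμ, Category.assoc, hsd, ← h₁, hlam]; rfl
      exact (Fin.castSucc_lt_last i).ne' (hl h₂)
    haveI := hj
    let ν' : Over.mk w ⟶ c'.W := Over.homMk (IsOpenImmersion.lift j.left ν.left hr) (by
      rw [← Over.w j, ← Category.assoc, IsOpenImmersion.lift_fac]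
      exact Over.w ν)
    have hν' : ν' ≫ j = ν := Over.OverMorphism.ext (IsOpenImmersion.lift_fac _ _ _)
    refine ⟨c', ν', fun i => ?_, ?_⟩
    · induction i using Fin.lastCases with
      | last => rw [hlast, reassoc_of% hν', hν₂]
      | cast i => rw [hel, reassoc_of% hν', reassoc_of% hν₁, hlam]; rfl
    · rw [hg', ← Category.assoc, ← Functor.map_comp, reassoc_of% hν', hν₁, hg]

theorem isOpen_degGE (hX : IsAlgSpace X) [IsAffine U.left] (ha : RepWith @Etale a) (k : ℕ) :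
    IsOpen (degGE a (k + 1)) := by
  have e : degGE a (k + 1) = ⋃ c : SectionCfg a (k + 1), Set.range (Points.ofPt c.g) := by
    refine subset_antisymm ?_ (Set.iUnion_subset fun c => Set.range_subset_iff.2 (mem_degGE_of_cfg c))
    rintro x ⟨L, _, w, γ, l, rfl, hl, hc⟩
    obtain ⟨c, lam, -, hg⟩ := exists_cfg hX ha k L inferInstance w γ l hl hc
    exact Set.mem_iUnion.2 ⟨c, lam.left (IsLocalRing.closedPoint L), by rw [← hg, ofPt_map_comp]⟩
  rw [e]
  exact isOpen_iUnion fun c => (isOpenMap_ofPt_of_etale c.etale).isOpen_range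

/-- Where the degree is maximal, the fibre consists of the sections. -/
theorem exists_eq_of_not_mem (hX : IsAlgSpace X) [IsAffine U.left] (ha : RepWith @Etale a) {k : ℕ}
    (c : SectionCfg a k) (w : ↥c.W.left) (h : Points.ofPt c.g w ∉ degGE a (k + 1)) (v : ↥U.left)
    (hv : Points.ofPt a v = Points.ofPt c.g w) : ∃ i, (c.e i).left w = v := by
  obtain ⟨T, p, d, σ, O, sq, hσ, hcov, c', j, hj, hjr, -, -, hg'⟩ := exists_step hX ha c
  obtain ⟨t, ht₁, ht₂⟩ := (ofPt_eq_ofPt_iff sq w v).1 hv.symm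
  rcases hcov t with htO | ⟨i, z, hz⟩
  · obtain ⟨t', rfl⟩ : t ∈ Set.range j.left := hjr ▸ htO
    refine absurd ?_ h
    rw [← ht₁]
    have := mem_degGE_of_cfg c' t'
    rwa [hg', ofPt_map_comp] at this
  · obtain ⟨hsp, hsd, -, -⟩ := hσ i
    refine ⟨i, ?_⟩
    rw [← ht₂, ← hz, ← Scheme.Hom.comp_apply, ← Over.comp_left, hsd]
    congr 1
    rw [← ht₁, ← hz, ← Scheme.Hom.comp_apply, ← Over.comp_left, hsp]
    rfl

/-- A quasi-compact point bounds the number of lifts. -/
theorem exists_not_mem_degGE (hX : IsAlgSpace X) [IsAffine U.left] (ha : RepWith @Etale a) (q : FieldPt X)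
    (hq : RepWith @QuasiCompact q.toHom) : ∃ N, Points.mk q ∉ degGE a N := by
  obtain ⟨W, c, d, sq⟩ := exists_isPullback_yon hX.diag q.toHom a
  haveI := compact_pullback_of_qc q hq sq
  obtain ⟨hc, hW, -⟩ := discrete_fibre ha q sq
  haveI := hc
  haveI := hW
  haveI : Finite ↥W.left := finite_of_compact_of_discrete
  obtain ⟨hcf, hWa⟩ := finite_of_finite_points (K := q.K) c.left
  haveI := hWa
  obtain ⟨φ, hφ⟩ := Spec.map_surjective (W.left.isoSpec.inv ≫ c.left)
  have hfin : φ.hom.Finite := (IsFinite.SpecMap_iff φ).1 (by rw [hφ]; infer_instance)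
  letI := φ.hom.toAlgebra
  haveI : Module.Finite q.K Γ(W.left, ⊤) := hfin
  refine ⟨Module.finrank q.K Γ(W.left, ⊤) + 1, ?_⟩
  rintro ⟨L, _, w, γ, l, hx, hl, hcomm⟩
  have e : Points.map γ (Points.ofScheme (Over.mk w) (IsLocalRing.closedPoint L)) =
      Points.map q.toHom (Points.ofScheme q.pt (IsLocalRing.closedPoint q.K)) := by
    rw [← Points.ofPt_eq_map_ofScheme, ← Points.ofPt_eq_map_ofScheme, Points.ofPt_toHom, hx]
  obtain ⟨Ω, _, w', α, β, hαβ, -, -⟩ := exists_common_field e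
  obtain ⟨α, rfl⟩ := (yon S).map_surjective α
  obtain ⟨β, rfl⟩ := (yon S).map_surjective β
  have hw : ∀ i, (yon S).map β ≫ q.toHom = (yon S).map (α ≫ l i) ≫ a := fun i => by
    rw [Functor.map_comp, Category.assoc, hcomm, hαβ]
  choose μ hμ using fun i => (yon S).map_surjective (sq.lift _ _ (hw i))
  have hμc : ∀ i, μ i ≫ c = β := fun i => (yon S).map_injective (by rw [Functor.map_comp, hμ, sq.lift_fst])
  have hμd : ∀ i, μ i ≫ d = α ≫ l i := fun i => (yon S).map_injective (by rw [Functor.map_comp, hμ, sq.lift_snd])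
  obtain ⟨ρ, hρ⟩ := Spec.map_surjective β.left
  letI := ρ.hom.toAlgebra
  choose ψ hψ using fun i => Spec.map_surjective ((μ i).left ≫ W.left.isoSpec.hom)
  have hψφ : ∀ i, φ ≫ ψ i = ρ := fun i => Spec.map_injective (by
    rw [Spec.map_comp, hψ, hφ, hρ, Category.assoc, Iso.hom_inv_id_assoc, ← Over.comp_left, hμc])
  let Ψ : Fin (Module.finrank q.K Γ(W.left, ⊤) + 1) → (Γ(W.left, ⊤) →ₐ[q.K] Ω) := fun i =>
    { (ψ i).hom with commutes' := fun r => congr($(hψφ i).hom r) }
  have hΨ : Function.Injective Ψ := fun i i' h => by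
    have h1 : ψ i = ψ i' := CommRingCat.hom_ext (RingHom.ext fun x => congr($h x))
    have h2 : μ i = μ i' := Over.OverMorphism.ext ((cancel_mono W.left.isoSpec.hom).1 (by rw [← hψ, ← hψ, h1]))
    have h3 : α ≫ l i = α ≫ l i' := by rw [← hμd, ← hμd, h2]
    obtain ⟨τ, hτ⟩ := Spec.map_surjective α.left
    obtain ⟨m, hm⟩ := Spec.map_surjective ((l i).left ≫ U.left.isoSpec.hom)
    obtain ⟨m', hm'⟩ := Spec.map_surjective ((l i').left ≫ U.left.isoSpec.hom)
    have h4 : m ≫ τ = m' ≫ τ := Spec.map_injective (by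
      rw [Spec.map_comp, Spec.map_comp, hτ, hm, hm']
      have h6 : α.left ≫ (l i).left = α.left ≫ (l i').left := by rw [← Over.comp_left, ← Over.comp_left, h3]
      exact ((Category.assoc _ _ _).symm.trans (congrArg (· ≫ U.left.isoSpec.hom) h6)).trans (Category.assoc _ _ _))
    have h5 : m = m' := CommRingCat.hom_ext (RingHom.ext fun x => τ.hom.injective congr($(h4).hom x))
    exact hl (Over.OverMorphism.ext ((cancel_mono U.left.isoSpec.hom).1 (by rw [← hm, ← hm', h5])))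
  haveI : Finite (Γ(W.left, ⊤) →ₐ[q.K] Ω) := inferInstance
  have := (Nat.card_le_card_of_injective Ψ hΨ).trans (card_algHom_le_finrank q.K Γ(W.left, ⊤) Ω)
  simp at this

/-- On an irreducible closed subset meeting the chart the degree attains a maximum. -/
theorem exists_maximal_degree (hX : IsAlgSpace X) (hd : IsDecent X) [IsAffine U.left] (ha : RepWith @Etale a)
    {T : Set (Points X)} (hT : IsIrreducible T) (hTc : IsClosed T) (hne : (T ∩ Set.range (Points.ofPt a)).Nonempty) :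
    ∃ n, (T ∩ degGE a (n + 1)).Nonempty ∧ ∀ x ∈ T, x ∉ degGE a (n + 2) := by
  by_contra hcon
  push Not at hcon
  have hall : ∀ k, (T ∩ degGE a (k + 1)).Nonempty := by
    intro k
    induction k with
    | zero => rw [degGE_one]; exact hne
    | succ k ih => exact hcon k ih
  let Z : Set ↥U.left := Points.ofPt a ⁻¹' T
  have hU := isAffineOpen_top U.left
  -- a decreasing sequence of basic opens
  have hstep : ∀ k (f : Γ(U.left, ⊤)), (Z ∩ U.left.basicOpen f).Nonempty →
      ∃ g : Γ(U.left, ⊤), (Z ∩ U.left.basicOpen (f * g)).Nonempty ∧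
        Z ∩ U.left.basicOpen (f * g) ⊆ Points.ofPt a ⁻¹' degGE a (k + 1) := by
    intro k f ⟨z, hz, hzf⟩
    obtain ⟨x, hxT, hx⟩ := hT.2 (degGE a (k + 1)) (Points.ofPt a '' U.left.basicOpen f) (isOpen_degGE hX ha k)
      (isOpenMap_ofPt_of_etale ha _ (U.left.basicOpen f).isOpen) (hall k) ⟨_, hz, z, hzf, rfl⟩
    obtain ⟨hxd, v, hvf, hv⟩ := hx
    let V : U.left.Opens := ⟨Points.ofPt a ⁻¹' degGE a (k + 1), (isOpen_degGE hX ha k).preimage (Points.continuous_ofPt a)⟩
    obtain ⟨g, hg, hvg⟩ := hU.exists_basicOpen_le (V := V) ⟨v, show Points.ofPt a v ∈ degGE a (k + 1) from hv ▸ hxd⟩ trivial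
    have hmul : U.left.basicOpen (f * g) = U.left.basicOpen f ⊓ U.left.basicOpen g := Scheme.basicOpen_mul _ _ _
    exact ⟨g, ⟨v, show Points.ofPt a v ∈ T from hv ▸ hxT, hmul ▸ ⟨hvf, hvg⟩⟩, fun y hy => hg (hmul ▸ hy.2 : _).2⟩
  obtain ⟨x₀, hx₀T, v₀, rfl⟩ := hne
  have hone : (Z ∩ U.left.basicOpen (1 : Γ(U.left, ⊤))).Nonempty :=
    ⟨v₀, hx₀T, by rw [Scheme.basicOpen_of_isUnit _ isUnit_one]; trivial⟩
  choose g hg hgsub using hstep
  let F : ℕ → {f : Γ(U.left, ⊤) // (Z ∩ U.left.basicOpen f).Nonempty} := fun k =>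
    Nat.rec ⟨1, hone⟩ (fun m f => ⟨f.1 * g m f.1 f.2, hg m f.1 f.2⟩) k
  have hF : ∀ k, U.left.basicOpen (F (k + 1)).1 ≤ U.left.basicOpen (F k).1 := fun k => by
    show U.left.basicOpen ((F k).1 * _) ≤ _
    rw [Scheme.basicOpen_mul]; exact inf_le_left
  have hFanti : ∀ {k m}, k ≤ m → U.left.basicOpen (F m).1 ≤ U.left.basicOpen (F k).1 := fun h =>
    antitone_nat_of_succ_le (f := fun k => U.left.basicOpen (F k).1) hF h
  -- a point in all of them
  let I : Ideal Γ(U.left, ⊤) := PrimeSpectrum.vanishingIdeal (hU.fromSpec ⁻¹' Z)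
  let M := Submonoid.closure (Set.range fun k => (F k).1)
  have hM : ∀ m ∈ M, ∃ k, U.left.basicOpen (F k).1 ≤ U.left.basicOpen m := by
    intro m hm
    induction hm using Submonoid.closure_induction with
    | mem m hm => obtain ⟨k, rfl⟩ := hm; exact ⟨k, le_rfl⟩
    | one => exact ⟨0, le_rfl⟩
    | mul m m' _ _ ih ih' =>
      obtain ⟨k, hk⟩ := ih
      obtain ⟨k', hk'⟩ := ih'
      refine ⟨max k k', ?_⟩
      rw [Scheme.basicOpen_mul]
      exact le_inf ((hFanti (le_max_left _ _)).trans hk) ((hFanti (le_max_right _ _)).trans hk')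
  have hpt : ∀ (q : PrimeSpectrum Γ(U.left, ⊤)) (f : Γ(U.left, ⊤)), hU.fromSpec q ∈ U.left.basicOpen f ↔ f ∉ q.asIdeal := by
    intro q f
    show q ∈ hU.fromSpec ⁻¹ᵁ U.left.basicOpen f ↔ _
    rw [hU.fromSpec_preimage_basicOpen]
    rfl
  have hd' : Disjoint (I : Set Γ(U.left, ⊤)) M := Set.disjoint_left.2 fun m hmI hmM => by
    obtain ⟨k, hk⟩ := hM m hmM
    obtain ⟨z, hz, hzk⟩ := (F k).2
    obtain ⟨q, rfl⟩ : z ∈ Set.range hU.fromSpec := by rw [hU.range_fromSpec]; trivial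
    exact (hpt q m).1 (hk hzk) ((PrimeSpectrum.mem_vanishingIdeal _ _).1 hmI q hz)
  obtain ⟨P, hP, hIP, hPM⟩ := Ideal.exists_le_prime_disjoint I M hd'
  let p : PrimeSpectrum Γ(U.left, ⊤) := ⟨P, hP⟩
  have hpZ : hU.fromSpec p ∈ Z := by
    have hcl : IsClosed (hU.fromSpec ⁻¹' Z) :=
      (hTc.preimage (Points.continuous_ofPt a)).preimage hU.fromSpec.continuous
    have h2 : p ∈ PrimeSpectrum.zeroLocus (I : Set Γ(U.left, ⊤)) := hIP
    rw [PrimeSpectrum.zeroLocus_vanishingIdeal_eq_closure] at h2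
    exact hcl.closure_subset h2
  have hpk : ∀ k, Points.ofPt a (hU.fromSpec p) ∈ degGE a (k + 1) := fun k =>
    hgsub k (F k).1 (F k).2 ⟨hpZ, (hpt p _).2 (Set.disjoint_right.1 hPM (Submonoid.subset_closure ⟨k + 1, rfl⟩))⟩
  obtain ⟨q, hq, -, hqc⟩ := hd (Points.ofPt a (hU.fromSpec p))
  obtain ⟨N, hN⟩ := exists_not_mem_degGE hX ha q hqc
  exact hN (hq ▸ degGE_antitone (Nat.le_succ N) (hpk N))

/-- Decent spaces have generic points. -/
theorem quasiSober_of_isDecent (hX : IsAlgSpace X) (hd : IsDecent X) : QuasiSober (Points X) := by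
  refine ⟨fun {T} hT hTc => ?_⟩
  obtain ⟨U₀, a₀, ha₀, hs₀⟩ := hX.atlas
  obtain ⟨x₀, hx₀⟩ := hT.1
  obtain ⟨v₀, rfl⟩ := surjective_ofPt_of_repWith hs₀ x₀
  obtain ⟨A, hvA, hA, b, hb, hbw⟩ := exists_affine_subchart ha₀ v₀
  haveI : IsAffine (Over.mk (A.ι ≫ U₀.hom)).left := hA
  obtain ⟨n, ⟨x₁, hx₁T, hx₁⟩, hmax⟩ := exists_maximal_degree hX hd hb hT hTc
    ⟨_, hx₀, ⟨v₀, hvA⟩, hbw ⟨v₀, hvA⟩⟩
  let V := T ∩ degGE b (n + 1)
  have hVo := isOpen_degGE hX hb n
  -- images of closed sets are closed over `V`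
  have hclosed : ∀ C : Set ↥(Over.mk (A.ι ≫ U₀.hom)).left, IsClosed C → ∀ x ∈ V, x ∉ Points.ofPt b '' C →
      ∃ N, IsOpen N ∧ x ∈ N ∧ ∀ y ∈ N ∩ V, y ∉ Points.ofPt b '' C := by
    rintro C hC x ⟨hxT, L, _, w, γ, l, rfl, hl, hc⟩ hxC
    obtain ⟨c, lam, -, hg⟩ := exists_cfg hX hb n L inferInstance w γ l hl hc
    let O : Set ↥c.W.left := {w' | ∀ i, (c.e i).left w' ∉ C}
    have hO : IsOpen O := by
      rw [show O = ⋂ i, (c.e i).left ⁻¹' Cᶜ by ext; simp [O]]
      exact isOpen_iInter_of_finite fun i => hC.isOpen_compl.preimage (c.e i).left.continuous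
    refine ⟨Points.ofPt c.g '' O, isOpenMap_ofPt_of_etale c.etale _ hO,
      ⟨lam.left (IsLocalRing.closedPoint L), fun i hi => hxC ⟨_, hi, ?_⟩, by rw [← hg, ofPt_map_comp]⟩, ?_⟩
    · rw [← hg, ofPt_map_comp, ← c.comm i, ofPt_map_comp]
    · rintro y ⟨⟨w', hw', rfl⟩, hyT, -⟩ ⟨v, hvC, hv⟩
      obtain ⟨i, rfl⟩ := exists_eq_of_not_mem hX hb c w' (hmax _ hyT) v hv
      exact hw' i hvC
  -- a minimal closed subset dominating `V`
  let 𝒞 : Set (Set ↥(Over.mk (A.ι ≫ U₀.hom)).left) :=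
    {C | IsClosed C ∧ C ⊆ Points.ofPt b ⁻¹' T ∧ V ⊆ Points.ofPt b '' C}
  have htop : Points.ofPt b ⁻¹' T ∈ 𝒞 := ⟨hTc.preimage (Points.continuous_ofPt b), subset_rfl, fun y hy => by
    obtain ⟨v, rfl⟩ : y ∈ Set.range (Points.ofPt b) := degGE_one (a := b) ▸ degGE_antitone (Nat.le_add_left 1 n) hy.2
    exact ⟨v, hy.1, rfl⟩⟩
  obtain ⟨C, -, hCmin⟩ := zorn_superset_nonempty 𝒞 (fun ch hch hchain hne => by
    refine ⟨⋂₀ ch, ⟨isClosed_sInter fun C hC => (hch hC).1,
      (Set.sInter_subset_of_mem hne.some_mem).trans (hch hne.some_mem).2.1, fun y hy => ?_⟩,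
      fun C hC => Set.sInter_subset_of_mem hC⟩
    have hfin := finiteFibres_of_isDecent hX hd y _ b ‹IsAffine (Over.mk (A.ι ≫ U₀.hom)).left› hb
    let F := fun C : Set ↥(Over.mk (A.ι ≫ U₀.hom)).left => C ∩ Points.ofPt b ⁻¹' {y}
    have hex : ∃ m, ∃ C ∈ ch, (F C).ncard = m := ⟨_, _, hne.some_mem, rfl⟩
    classical
    obtain ⟨C₀, hC₀, hm⟩ := Nat.find_spec hex
    obtain ⟨v, hvC₀, hv⟩ := (hch hC₀).2.2 hy
    refine ⟨v, fun C hC => ?_, hv⟩
    rcases hchain.total hC₀ hC with h | h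
    · exact h hvC₀
    · have hsub : F C ⊆ F C₀ := Set.inter_subset_inter_left _ h
      have hle : (F C₀).ncard ≤ (F C).ncard := hm ▸ Nat.find_le ⟨C, hC, rfl⟩
      have := Set.eq_of_subset_of_ncard_le hsub hle (hfin.subset Set.inter_subset_right)
      exact (show v ∈ F C from this ▸ ⟨hvC₀, hv⟩).1) _ htop
  obtain ⟨hCc, hCT, hCV⟩ := hCmin.prop
  have hVirr : IsPreirreducible V := by
    rintro O₁ O₂ h₁ h₂ ⟨y₁, hy₁, hy₁'⟩ ⟨y₂, hy₂, hy₂'⟩
    obtain ⟨y, hyT, ⟨hyd, hy1⟩, hy2⟩ := hT.2 (degGE b (n + 1) ∩ O₁) O₂ (hVo.inter h₁) h₂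
      ⟨y₁, hy₁.1, hy₁.2, hy₁'⟩ ⟨y₂, hy₂.1, hy₂'⟩
    exact ⟨y, ⟨hyT, hyd⟩, hy1, hy2⟩
  have hirr : IsIrreducible C := by
    refine ⟨?_, isPreirreducible_iff_isClosed_union_isClosed.2 fun C₁ C₂ h₁ h₂ hC => ?_⟩
    · obtain ⟨v, hv, -⟩ := hCV ⟨hx₁T, hx₁⟩; exact ⟨v, hv⟩
    · by_contra hne
      push Not at hne
      have key : ∀ C' : Set ↥(Over.mk (A.ι ≫ U₀.hom)).left, IsClosed C' → ¬C ⊆ C' → ∃ y ∈ V, y ∉ Points.ofPt b '' (C ∩ C') :=
        fun C' hC' hn => by
          by_contra hall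
          push Not at hall
          exact hn ((hCmin.le_of_le ⟨hCc.inter hC', Set.inter_subset_left.trans hCT, hall⟩ Set.inter_subset_left).trans Set.inter_subset_right)
      obtain ⟨y₁, hy₁V, hy₁⟩ := key C₁ h₁ hne.1
      obtain ⟨y₂, hy₂V, hy₂⟩ := key C₂ h₂ hne.2
      obtain ⟨N₁, hN₁, hyN₁, hN₁'⟩ := hclosed _ (hCc.inter h₁) y₁ hy₁V hy₁
      obtain ⟨N₂, hN₂, hyN₂, hN₂'⟩ := hclosed _ (hCc.inter h₂) y₂ hy₂V hy₂
      obtain ⟨y, hyV, hy1, hy2⟩ := hVirr N₁ N₂ hN₁ hN₂ ⟨y₁, hy₁V, hyN₁⟩ ⟨y₂, hy₂V, hyN₂⟩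
      obtain ⟨v, hvC, hv⟩ := hCV hyV
      rcases hC hvC with h | h
      · exact hN₁' y ⟨hy1, hyV⟩ ⟨v, ⟨hvC, h⟩, hv⟩
      · exact hN₂' y ⟨hy2, hyV⟩ ⟨v, ⟨hvC, h⟩, hv⟩
  obtain ⟨η, hη⟩ := QuasiSober.sober hirr hCc
  refine ⟨Points.ofPt b η, subset_antisymm (hTc.closure_subset_iff.2 (Set.singleton_subset_iff.2 (hCT hη.mem))) fun y hy => ?_⟩
  have h1 : V ⊆ closure {Points.ofPt b η} := fun z hz => by
    obtain ⟨v, hv, rfl⟩ := hCV hz
    exact ((hη.specializes hv).map (Points.continuous_ofPt b)).mem_closure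
  refine closure_minimal h1 isClosed_closure (mem_closure_iff.2 fun N hN hyN => ?_)
  obtain ⟨z, hzT, hzN, hzd⟩ := hT.2 N (degGE b (n + 1)) hN hVo ⟨y, hy, hyN⟩ ⟨x₁, hx₁T, hx₁⟩
  exact ⟨z, hzN, hzT, hzd⟩

end GrothLib.AlgSp
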