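import Groth.Prelude.Def_W4stk3decentspacesp2Birat
import Groth.Agent.Lib.AlgSp.DecentTop
import Groth.Agent.Lib.AlgSp.GenericDegree
import Groth.Agent.Lib.CycP1.Graph
import Groth.Agent.Lib.CycPush.Finite
import Groth.Agent.Lib.Weight.GeomPoints
import Groth.Agent.Lib.Props8.DimFun
import Groth.Agent.Lib.C1.ProperPush
import Groth.Agent.Lib.Altitude.Scheme
import Groth.Agent.S9684

/-!
# Catenarity of the points of a decent space locally of finite type over a universally catenary base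

`delta_eq_of_ofPt_eq`, `isCatenarySpace_of_chart_deltas`, `isCatenarySpace_points`.
-/

universe u

open CategoryTheory CategoryTheory.Limits AlgebraicGeometry TopologicalSpace

namespace GrothLib.AlgSp

open _root_.AlgSp

attribute [local instance] specializationOrder

variable {S : Scheme.{u}} {X : Sp S}

/-- The induced dimension function on a chart takes equal values on points with the same image. -/
theorem delta_eq_of_ofPt_eq (hX : IsAlgSpace X) {U : Over S} {a : (yon S).obj U ⟶ X} (ha : RepWith @Etale a)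
    {V : Scheme.{u}} (j : V ⟶ S) [Mono j] (g : U.left ⟶ V) (hg : g ≫ j = U.hom) {δ : V → ℤ}
    {δU : U.left → ℤ} (hδ : Cyc.DeltaCompat g δU δ) {v w : U.left}
    (h : Points.ofPt a v = Points.ofPt a w) : δU v = δU w := by
  obtain ⟨R, t, s, sq⟩ := exists_isPullback_yon hX.diag a a
  haveI : Etale s.left := ha.2 _ _ _ sq
  haveI : Etale t.left := ha.2 _ _ _ sq.flip
  obtain ⟨r, rfl, rfl⟩ := (ofPt_eq_ofPt_iff sq v w).1 h
  have e : t.left ≫ g = s.left ≫ g := (cancel_mono j).1 (by rw [Category.assoc, Category.assoc, hg, Over.w, Over.w])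
  have h0 : ∀ (p : R.left ⟶ U.left) [Etale p], CycFlat.resTrdeg p r = 0 := fun p _ => by
    haveI := locallyQuasiFinite_of_unramified p
    exact CycPush.resTrdeg_finite p (Weight.finite_residueFieldMap p r)
  have h1 := GrothLib.C1.resTrdeg_congr e r
  rw [CycFlat.resTrdeg_comp, CycFlat.resTrdeg_comp, h0, h0, add_zero, add_zero] at h1
  obtain ⟨n, hn, hd⟩ := hδ (t.left r)
  obtain ⟨m, hm, hd'⟩ := hδ (s.left r)
  have hnm : (n : Cardinal.{u}) = m := hn.symm.trans (h1.trans hm)
  have hp : g (t.left r) = g (s.left r) := by rw [← Scheme.Hom.comp_apply, e, Scheme.Hom.comp_apply]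
  have : n = m := by exact_mod_cast hnm
  rw [hd, hd', hp, this]

/-- Equal lengths of saturated chains from dimension functions near every point. -/
theorem isCatenarySpace_of_chart_deltas (hX : IsAlgSpace X) (hd : IsDecent X)
    (h : ∀ x : Points X, ∃ (U : Over S) (a : (yon S).obj U ⟶ X) (u : U.left) (δU : U.left → ℤ),
      RepWith @Etale a ∧ Points.ofPt a u = x ∧ Cyc.IsDimFun U.left δU ∧
        ∀ v w, Points.ofPt a v = Points.ofPt a w → δU v = δU w) :
    W4stk3decentspacesp2.IsCatenarySpace (Points X) := by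
  classical
  haveI := t0Space_of_isDecent hX hd
  haveI := quasiSober_of_isDecent hX hd
  intro T T' hTT'
  let pt : IrreducibleCloseds (Points X) → Points X := irreducibleSetEquivPoints
  obtain ⟨U, a, u, δU, ha, hu, hdim, heq⟩ := h (pt T)
  let P := {Z : IrreducibleCloseds (Points X) // T ≤ Z}
  have hsp : ∀ {Y Y' : IrreducibleCloseds (Points X)}, Y ≤ Y' → pt Y' ⤳ pt Y := fun h =>
    GrothLib.Catenary20.specializes_pt h
  have hlift : ∀ Z : P, ∃ v : U.left, v ⤳ u ∧ Points.ofPt a v = pt Z.1 := fun Z =>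
    generalizingMap_ofPt hX hd ha (hu ▸ hsp Z.2)
  choose v hv hvZ using hlift
  let d : P → ℤ := fun Z => δU (v Z)
  have hmono : ∀ Z Z' : P, Z < Z' → d Z < d Z' ∧ (Z.1 ⋖ Z'.1 → d Z' = d Z + 1) := by
    intro Z Z' hlt
    obtain ⟨v', hv', hv'Z⟩ := generalizingMap_ofPt hX hd ha
      (show pt Z'.1 ⤳ Points.ofPt a (v Z) by rw [hvZ]; exact hsp hlt.le)
    have hne : v' ≠ v Z := fun e => hlt.ne (Subtype.ext (irreducibleSetEquivPoints.injective
      (show pt Z.1 = pt Z'.1 by rw [← hvZ, ← e, hv'Z])))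
    have hd' : d Z' = δU v' := heq _ _ (by rw [hvZ, hv'Z])
    obtain ⟨h1, h2⟩ := hdim v' (v Z) hv' hne
    refine ⟨by rw [hd']; exact h1, fun hcov => ?_⟩
    rw [hd']
    refine h2 fun w hw₁ hw₂ => ?_
    obtain ⟨W, hW⟩ := (irreducibleSetEquivPoints (α := Points X)).surjective (Points.ofPt a w)
    have l1 : Z.1 ≤ W := (irreducibleSetEquivPoints (α := Points X)).le_iff_le.1 (by
      change pt W ⤳ pt Z.1
      rw [show pt W = _ from hW, ← hvZ]
      exact hw₂.map (Points.continuous_ofPt a))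
    have l2 : W ≤ Z'.1 := (irreducibleSetEquivPoints (α := Points X)).le_iff_le.1 (by
      change pt Z'.1 ⤳ pt W
      rw [show pt W = _ from hW, ← hv'Z]
      exact hw₁.map (Points.continuous_ofPt a))
    rcases l1.lt_or_eq with h3 | h3
    · rcases l2.lt_or_eq with h4 | h4
      · exact (hcov.2 h3 h4).elim
      · refine Or.inl (eq_of_specializes_ofPt hX hd ha v' w hw₁ ?_).symm
        rw [hv'Z, ← hW, h4]
    · refine Or.inr (eq_of_specializes_ofPt hX hd ha w (v Z) hw₂ ?_)
      rw [hvZ, ← hW, h3]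
  have key : ∀ p : LTSeries (IrreducibleCloseds (Points X)), ∀ (h0 : p.head = T) (i : Fin (p.length + 1)),
      ((i : ℕ) : ℤ) ≤ d ⟨p i, h0 ▸ p.monotone (Fin.zero_le i)⟩ - d ⟨T, le_rfl⟩ ∧
      ((∀ j : Fin p.length, p.toFun j.castSucc ⋖ p.toFun j.succ) →
        ((i : ℕ) : ℤ) = d ⟨p i, h0 ▸ p.monotone (Fin.zero_le i)⟩ - d ⟨T, le_rfl⟩) := by
    intro p h0 i
    induction i using Fin.induction with
    | zero =>
      have : (⟨p 0, h0 ▸ p.monotone (Fin.zero_le 0)⟩ : P) = ⟨T, le_rfl⟩ := Subtype.ext h0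
      rw [this]
      simp
    | succ i ih =>
      obtain ⟨h1, h2⟩ := hmono ⟨p i.castSucc, h0 ▸ p.monotone (Fin.zero_le _)⟩
        ⟨p i.succ, h0 ▸ p.monotone (Fin.zero_le _)⟩ (p.step i)
      refine ⟨?_, fun hs => ?_⟩
      · have := ih.1
        simp at this ⊢
        omega
      · have := ih.2 hs
        have := h2 (hs i)
        simp at *
        omega
  have fin : ∀ p : LTSeries (IrreducibleCloseds (Points X)), p.head = T → ∀ (hl : p.last = T'),
      (p.length : ℤ) ≤ d ⟨T', hTT'⟩ - d ⟨T, le_rfl⟩ ∧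
      ((∀ j : Fin p.length, p.toFun j.castSucc ⋖ p.toFun j.succ) → (p.length : ℤ) = d ⟨T', hTT'⟩ - d ⟨T, le_rfl⟩) := by
    intro p h0 hl
    have := key p h0 (Fin.last _)
    have e : (⟨p (Fin.last _), h0 ▸ p.monotone (Fin.zero_le _)⟩ : P) = ⟨T', hTT'⟩ := Subtype.ext hl
    rw [e] at this
    simpa using this
  refine ⟨⟨(d ⟨T', hTT'⟩ - d ⟨T, le_rfl⟩).toNat, fun p hp hp' => ?_⟩, fun p q hp hp' hq hq' hps hqs => ?_⟩
  · have := (fin p hp hp').1
    omega
  · have := (fin p hp hp').2 hps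
    have := (fin q hq hq').2 hqs
    omega

/-- Decent spaces locally of finite type over a universally catenary base have catenary spaces of points. -/
theorem isCatenarySpace_points [IsLocallyNoetherian S]
    (hS : ∀ s : ↥S, CAlg.IsUniversallyCatenary ↥(S.presheaf.stalk s)) (hX : IsAlgSpace X) (hd : IsDecent X)
    (p : X ⟶ (yon S).obj (Over.mk (𝟙 S))) (hp : LocP @LocallyOfFiniteType p) :
    W4stk3decentspacesp2.IsCatenarySpace (Points X) := by
  refine isCatenarySpace_of_chart_deltas hX hd fun x => ?_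
  obtain ⟨U₀, a₀, ha₀, hs₀⟩ := hX.atlas
  obtain ⟨u₀, hu₀⟩ := surjective_ofPt_of_repWith hs₀ x
  obtain ⟨h, hh⟩ := (yon S).map_surjective (a₀ ≫ p)
  have hlft₀ : LocallyOfFiniteType U₀.hom := by
    have := hp a₀ (𝟙 _) h ha₀ (repWith_iso (𝟙 _)) (by rw [hh, Category.comp_id])
    have e : h.left = U₀.hom := by simpa using Over.w h
    rwa [e] at this
  have hcat : PtTop.IsCatenarySpace S := (GrothLib.Props8.isCatenarySpace_iff_stalks S).2 fun s => by
    exact (hS s).2 _ inferInstance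
  obtain ⟨V, hsV, δ, hδ⟩ := GrothLib.Props8.exists_dimensionFunction_scheme S hcat (U₀.hom u₀)
  have hset : Cyc.IsSetup V.toScheme δ := by
    refine ⟨inferInstance, fun v => ?_, fun a b hab hne => ⟨hδ.1 a b hab hne, fun hz => hδ.2 a b ⟨hab, hne, hz⟩⟩⟩
    let e : S.presheaf.stalk v.1 ≅ V.toScheme.presheaf.stalk v := (V.stalkIso v).symm
    exact GrothLib.Altitude.isUniversallyCatenary_of_surjective e.hom.hom
      (ConcreteCategory.bijective_of_isIso e.hom).2 (hS v.1)
  let O : U₀.left.Opens := U₀.hom ⁻¹ᵁ V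
  let U : Over S := Over.mk (O.ι ≫ U₀.hom)
  let i : U ⟶ U₀ := Over.homMk O.ι rfl
  let a := (yon S).map i ≫ a₀
  let g : O.toScheme ⟶ V.toScheme := U₀.hom ∣_ V
  haveI : LocallyOfFiniteType g := inferInstance
  obtain ⟨δU, hδU⟩ := GrothLib.CycP1.exists_deltaCompat g δ
  refine ⟨U, a, ⟨u₀, hsV⟩, δU, repWith_comp ((repWith_yon_map_iff @Etale i).2 (inferInstanceAs (Etale O.ι))) ha₀,
    (ofPt_map_comp i a₀ _).trans hu₀, Groth.Agent.S9684.result g δ hset δU hδU, fun v w hvw => ?_⟩
  exact delta_eq_of_ofPt_eq hX (repWith_comp ((repWith_yon_map_iff @Etale i).2 (inferInstanceAs (Etale O.ι))) ha₀)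
    (U := U) V.ι g (morphismRestrict_ι _ _) hδU hvw

end GrothLib.AlgSp
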