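import Groth.Agent.Lib.AlgSp.NormGlue
import Groth.Agent.Lib.AlgSp.ImmersionDescent
import Groth.Agent.Lib.AlgSp.PointsUniv
import Groth.Agent.Lib.AlgSp.FpqcProps
import Groth.Agent.Lib.AlgSp.FlatMono

/-!
# Closed immersions checked on pieces

* `repWith_closedImmersion_of_pieces`: closed immersions are local for jointly surjective etale families;
* `repWith_closedImmersion_of_closed_range`: immersions with closed range are closed immersions;
* `repWith_immersion_graph`: graphs over open immersions into separated targets are immersions.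
-/

set_option autoImplicit false
universe u
open CategoryTheory CategoryTheory.Limits AlgebraicGeometry
set_option backward.isDefEq.respectTransparency false

namespace GrothLib.AlgSp

open _root_.AlgSp

variable {S : Scheme.{u}}

/-- Closed immersions are local for jointly surjective etale families of the target. -/
theorem repWith_closedImmersion_of_pieces {X G : Sp S} (hG : IsAlgSpace G) {Δ : X ⟶ G} (hrep : Representable Δ)
    {ι : Type u} (Q : ι → Sp S) (hQ : ∀ i, IsAlgSpace (Q i)) (q : ∀ i, Q i ⟶ G) (hq : ∀ i, IsEtaleMor (q i))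
    (hcov : ∀ x : Points G, ∃ i z, Points.map (q i) z = x) (A : ι → Sp S) (a : ∀ i, A i ⟶ X) (m : ∀ i, A i ⟶ Q i)
    (sq : ∀ i, IsPullback (a i) (m i) Δ (q i)) (hm : ∀ i, RepWith @IsClosedImmersion (m i)) :
    RepWith @IsClosedImmersion Δ := by
  refine ⟨hrep, fun {T R} g fst r sqR => ?_⟩
  -- charts of the pieces over `T`
  have hT := IsAlgSpace.yon_obj (S := S) T
  choose κ K k hK hk hkc _h using fun i => exists_affine_charts (isAlgSpace_pullback' hG (hQ i) hT (q i) g)
  let J := Σ i, κ i
  have hsnd : ∀ i, IsEtaleMor (pullback.snd (q i) g) := fun i => isEtaleMor_of_locP hT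
    (EtLocal.etale.locP_of_isPullback (hQ i) hG hT (IsPullback.of_hasPullback (q i) g) (locP_of_isEtaleMor hG (hq i)))
  choose c hc using fun p : J => (yon S).map_surjective (k p.1 p.2 ≫ pullback.snd (q p.1) g)
  have hce : ∀ p, Etale (c p).left := fun p => (repWith_yon_map_iff _ (c p)).1 (by
    rw [hc]; exact hsnd p.1 (k p.1 p.2) (hk p.1 p.2))
  let KK : J → Over S := fun p => K p.1 p.2
  obtain ⟨C, hC, -⟩ := exists_hom_of_sigma KK fun p => (yon S).map (c p)
  obtain ⟨C, rfl⟩ := (yon S).map_surjective C
  have Ce : RepWith @Etale ((yon S).map C) := repWith_sigma hT.diag KK (fun p => (yon S).map (c p)) _ hC @Etale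
    fun p => (repWith_yon_map_iff _ (c p)).2 (hce p)
  haveI : Etale C.left := (repWith_yon_map_iff _ C).1 Ce
  haveI : Surjective C.left := ⟨fun t => by
    obtain ⟨i, z, hz⟩ := hcov (Points.ofPt g t)
    rw [Points.ofPt_eq_map_ofScheme] at hz
    obtain ⟨y, -, hy⟩ := exists_of_isPullback (IsPullback.of_hasPullback (q i) g) hz
    obtain ⟨j, w, hw⟩ := hkc i y
    refine ⟨(sigmaι KK ⟨i, j⟩).left w, (Points.schemeEquiv T).injective ?_⟩
    have h1 : sigmaι KK ⟨i, j⟩ ≫ C = c ⟨i, j⟩ := (yon S).map_injective (by rw [Functor.map_comp, hC])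
    refine ((map_yon_ofPt _ _).symm.trans ?_)
    rw [← Points.ofPt_eq_map_ofScheme, ← ofPt_map_comp, hC, hc, ← Points.map_ofPt, hw]
    exact hy⟩
  refine fppfDescends_isClosedImmersion r.left C.left _ _ (IsPullback.of_hasPullback r.left C.left)
    inferInstance inferInstance inferInstance ?_
  haveI hoi : ∀ p, IsOpenImmersion (sigmaι KK p).left := isOpenImmersion_sigmaι KK
  refine (IsZariskiLocalAtTarget.iff_of_openCover (P := @IsClosedImmersion)
    (sigmaOpenCover fun p => (KK p).left)).2 fun p => ?_
  -- the piece as a base change of `m`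
  obtain ⟨i, j⟩ := p
  obtain ⟨L, l, n, sqL⟩ := exists_isPullback_of_representable (hm i).1 (k i j ≫ pullback.fst (q i) g)
  haveI : IsClosedImmersion n.left := (hm i).2 _ _ _ sqL
  have e1 : (k i j ≫ pullback.fst (q i) g) ≫ q i = (yon S).map (c ⟨i, j⟩) ≫ g := by
    rw [hc, Category.assoc, pullback.condition, Category.assoc]
  have sqb : IsPullback (l ≫ a i) ((yon S).map n) Δ ((yon S).map (c ⟨i, j⟩) ≫ g) := by
    rw [← e1]
    exact sqL.paste_horiz (sq i)
  obtain ⟨π, hπ⟩ := (yon S).map_surjective (sqR.lift (l ≫ a i) ((yon S).map n ≫ (yon S).map (c ⟨i, j⟩))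
    (by rw [sqb.w, Category.assoc]))
  have sqS : IsPullback π n r (c ⟨i, j⟩) := by
    refine IsPullback.of_map (yon S) ((yon S).map_injective (by
      rw [Functor.map_comp, Functor.map_comp, hπ, sqR.lift_snd])) ?_
    refine IsPullback.of_right ?_ (by rw [hπ, sqR.lift_snd]) sqR
    rw [hπ, sqR.lift_fst]
    exact sqb
  have hcl : (sigmaι KK ⟨i, j⟩).left ≫ C.left = (c ⟨i, j⟩).left := by
    rw [← Over.comp_left, show sigmaι KK ⟨i, j⟩ ≫ C = c ⟨i, j⟩ from (yon S).map_injective (by rw [Functor.map_comp, hC])]
  have big := (IsPullback.of_hasPullback (pullback.snd r.left C.left) (sigmaι KK ⟨i, j⟩).left).paste_horiz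
    (IsPullback.of_hasPullback r.left C.left)
  rw [hcl] at big
  show IsClosedImmersion (pullback.snd (pullback.snd r.left C.left) (sigmaι KK ⟨i, j⟩).left)
  rw [← big.isoIsPullback_hom_snd _ _ (isPullback_left sqS)]
  infer_instance

/-- Immersions with closed range are closed immersions. -/
theorem repWith_closedImmersion_of_closed_range {F G : Sp S} {f : F ⟶ G} (hf : RepWith @IsImmersion f)
    (hc : IsClosed (Set.range (Points.map f))) : RepWith @IsClosedImmersion f := by
  refine ⟨hf.1, fun {T P} g fst k sq => ?_⟩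
  haveI : IsImmersion k.left := hf.2 _ _ _ sq
  refine IsClosedImmersion.of_isPreimmersion k.left ?_
  have : Set.range k.left = Points.ofPt g ⁻¹' Set.range (Points.map f) := by
    ext t
    constructor
    · rintro ⟨p, rfl⟩
      refine ⟨Points.map fst (Points.ofScheme P p), ?_⟩
      rw [← Points.map_comp, sq.w, Points.map_comp, Points.ofPt_eq_map_ofScheme]
      exact congrArg (Points.map g) (map_yon_ofPt k p)
    · rintro ⟨y, hy⟩
      rw [Points.ofPt_eq_map_ofScheme] at hy
      obtain ⟨p, -, hp⟩ := exists_of_isPullback sq hy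
      obtain ⟨p, rfl⟩ := (Points.schemeEquiv P).surjective p
      exact ⟨p, (Points.schemeEquiv T).injective ((map_yon_ofPt k p).symm.trans hp)⟩
  rw [this]
  exact hc.preimage (Points.continuous_ofPt g)

/-- A map `c` with `c ≫ π` an open immersion and `π` separated is an immersion. -/
theorem repWith_immersion_graph {A B V : Sp S} {c : A ⟶ B} {π : B ⟶ V} (ho : RepWith @IsOpenImmersion (c ≫ π))
    (hs : IsSeparatedMor π) : RepWith @IsImmersion c := by
  generalize hq : c ≫ π = q at ho
  have sq := IsPullback.of_hasPullback q π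
  let Γ : A ⟶ pullback q π := pullback.lift (𝟙 A) c (by rw [Category.id_comp, hq])
  have hΓ₁ : Γ ≫ pullback.fst q π = 𝟙 A := pullback.lift_fst _ _ _
  have hΓ₂ : Γ ≫ pullback.snd q π = c := pullback.lift_snd _ _ _
  obtain ⟨β, hβ₁, hβ₂⟩ : ∃ β, β ≫ pullback.fst π π = pullback.fst q π ≫ c ∧ β ≫ pullback.snd π π = pullback.snd q π :=
    ⟨pullback.lift _ _ (by rw [Category.assoc, hq]; exact pullback.condition), pullback.lift_fst _ _ _,
      pullback.lift_snd _ _ _⟩
  have sqΓ : IsPullback c Γ (pullback.diagonal π) β := by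
    refine IsPullback.of_isLimit' ⟨?_⟩ (PullbackCone.IsLimit.mk _
      (fun s => s.snd ≫ pullback.fst q π) (fun s => ?_) (fun s => ?_) (fun s m _ h₂ => ?_))
    · apply pullback.hom_ext
      · simp only [Category.assoc, pullback.diagonal_fst, Category.comp_id, hβ₁, reassoc_of% hΓ₁]
      · simp only [Category.assoc, pullback.diagonal_snd, Category.comp_id, hβ₂, hΓ₂]
    · have h1 := congrArg (· ≫ pullback.fst π π) s.condition
      simp only [Category.assoc, pullback.diagonal_fst, Category.comp_id, hβ₁] at h1
      simp only [Category.assoc, ← h1]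
    · have h1 := congrArg (· ≫ pullback.fst π π) s.condition
      have h2 := congrArg (· ≫ pullback.snd π π) s.condition
      simp only [Category.assoc, pullback.diagonal_fst, Category.comp_id, hβ₁] at h1
      simp only [Category.assoc, pullback.diagonal_snd, Category.comp_id, hβ₂] at h2
      apply pullback.hom_ext
      · simp only [Category.assoc, hΓ₁, Category.comp_id]
      · simp only [Category.assoc, hΓ₂]
        exact h1.symm.trans h2
    · rw [← h₂]
      simp only [Category.assoc, hΓ₁, Category.comp_id]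
  have h₁ : RepWith @IsImmersion Γ := repWith_mono (repWith_of_isPullback sqΓ hs) fun A B m hm => by
    have : IsClosedImmersion m := hm
    exact inferInstanceAs (IsImmersion m)
  have h₂ : RepWith @IsImmersion (pullback.snd q π) := repWith_mono (repWith_of_isPullback sq ho) fun A B m hm => by
    have : IsOpenImmersion m := hm
    exact inferInstanceAs (IsImmersion m)
  exact hΓ₂ ▸ repWith_comp h₁ h₂

end GrothLib.AlgSp
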