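import Groth.Agent.Lib.AlgSp.QCohPres
import Mathlib.LinearAlgebra.TensorProduct.RightExactness
import Mathlib.RingTheory.Finiteness.Finsupp
import Mathlib.LinearAlgebra.TensorProduct.Finiteness

/-!
# Generators and presentations from sections on affine objects

* `span_secAt_eq_top`, `finite_of_cover`: finitely many generators give finite sections on affine objects.
* `epi_of_surjective`: a morphism surjective on affine objects is an epimorphism.
* `exists_presentation`: presentations from generators and relations of the global sections.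
-/

universe u

open CategoryTheory CategoryTheory.Limits Opposite TensorProduct
set_option backward.isDefEq.respectTransparency false

noncomputable section

namespace GrothLib.AlgSp.QCohEt

variable {C : Type (u + 1)} [Category.{u} C] {J : GrothendieckTopology C} {O : Sheaf J CommRingCat.{u + 1}}
  [HasSheafify J AddCommGrpCat.{u + 1}] [J.WEqualsLocallyBijective AddCommGrpCat.{u + 1}]
  {M : SheafOfModules.{u + 1} (RR O)} (S : AffSite O)

/-- Over an affine object generating sections span the sections. -/
theorem span_secAt_eq_top (G : M.GeneratingSections) {E : C} (hE : S.Aff E) (hgood : Good M S E) :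
    Submodule.span (Ob O E) (Set.range fun i => secAt (G.s i) E) = ⊤ := by
  rw [eq_top_iff]
  intro m _
  let N : Submodule (Ob O E) (Sec M E) := Submodule.span (Ob O E) (Set.range fun i => secAt (G.s i) E)
  obtain ⟨T, hT, hT'⟩ := exists_span G m
  obtain ⟨n, _, W, w, hw, -, hS⟩ := S.fam E hE T hT
  haveI := fun k => (hw k).2.2
  refine (Submodule.Quotient.mk_eq_zero N).1 (eq_zero_of_forall (fun k => Ov O (Over.mk (w k))) hS _ fun k => ?_)
  let V : Over E := Over.mk (w k)
  let Sg : Submodule (Ov O V) (Ov O V ⊗[Ob O E] Sec M E) :=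
    Submodule.span (Ov O V) (Set.range fun i => (1 : Ov O V) ⊗ₜ secAt (G.s i) E)
  let θ := thetaL (LinearMap.id : Sec M E →ₗ[Ob O E] Sec M E) V
  have hle : Submodule.span (Ob O (W k)) (Set.range fun i => secAt (G.s i) (W k)) ≤
      (Submodule.span (Ob O V.left) (Set.range fun i => (1 : Ov O V) ⊗ₜ[Ob O E] secAt (G.s i) E)).map θ := by
    rw [Submodule.map_span]
    refine Submodule.span_mono ?_
    rintro _ ⟨i, rfl⟩
    refine ⟨_, ⟨i, rfl⟩, ?_⟩
    show theta LinearMap.id V ((1 : Ov O V) ⊗ₜ[Ob O E] secAt (G.s i) E) = _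
    rw [theta_tmul, LinearMap.id_apply, mres_secAt]
    exact one_smul (Ob O V.left) _
  obtain ⟨z, hz, hzm⟩ := hle (hT' (w k) (hw k).2.1)
  have e : z = (1 : Ov O V) ⊗ₜ m := (hgood V (hw k).1).1 (hzm.trans (by
    rw [theta_tmul, LinearMap.id_apply]
    exact (one_smul (Ob O V.left) _).symm))
  show N.mkQ.lTensor (Ov O V) ((1 : Ov O V) ⊗ₜ m) = 0
  rw [← e]
  clear e hzm
  induction hz using Submodule.span_induction with
  | mem y hy =>
    obtain ⟨i, rfl⟩ := hy
    rw [LinearMap.lTensor_tmul, Submodule.mkQ_apply, (Submodule.Quotient.mk_eq_zero N).2 (Submodule.subset_span ⟨i, rfl⟩),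
      TensorProduct.tmul_zero]
  | zero => exact map_zero _
  | add y y' _ _ hy hy' => rw [map_add, hy, hy', add_zero]
  | smul a y _ hy =>
    have hl : N.mkQ.lTensor (Ov O V) (a • y) = a • N.mkQ.lTensor (Ov O V) y :=
      (N.mkQ.baseChange (Ov O V)).map_smul (show Ov O V from a) y
    rw [hl, hy, smul_zero]

omit [HasSheafify J AddCommGrpCat.{u + 1}] [J.WEqualsLocallyBijective AddCommGrpCat.{u + 1}] in
/-- Finiteness of the sections over affine objects is local. -/
theorem finite_of_cover {E : C} (hE : S.Aff E) (hgood : Good M S E) {T : Sieve E} (hT : T ∈ J E)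
    (hfin : ∀ ⦃Z : C⦄ (z : Z ⟶ E), S.Aff Z → T.arrows z → Module.Finite (Ob O Z) (Sec M Z)) :
    Module.Finite (Ob O E) (Sec M E) := by
  classical
  obtain ⟨n, _, W, w, hw, -, hS⟩ := S.fam E hE T hT
  haveI := fun k => (hw k).2.2
  haveI := Fintype.ofFinite n
  haveI := fun k => hfin (w k) (hw k).1 (hw k).2.1
  choose s hs using fun k => (Module.Finite.fg_top : (⊤ : Submodule (Ob O (W k)) (Sec M (W k))).FG)
  choose z hz using fun k (x : Sec M (W k)) => (hgood (Over.mk (w k)) (hw k).1).2 x
  choose F hF using fun k (x : Sec M (W k)) => TensorProduct.exists_finset (z k x)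
  let t : Finset (Sec M E) := Finset.univ.biUnion fun k => (s k).biUnion fun x => (F k x).image Prod.snd
  refine ⟨⟨t, ?_⟩⟩
  rw [eq_top_iff]
  intro m _
  let N : Submodule (Ob O E) (Sec M E) := Submodule.span (Ob O E) (t : Set (Sec M E))
  refine (Submodule.Quotient.mk_eq_zero N).1 (eq_zero_of_forall (fun k => Ov O (Over.mk (w k))) hS _ fun k => ?_)
  let V : Over E := Over.mk (w k)
  let θ := thetaL (LinearMap.id : Sec M E →ₗ[Ob O E] Sec M E) V
  have hgen : ∀ x ∈ s k, N.mkQ.lTensor (Ov O V) (z k x) = 0 := by
    intro x hx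
    rw [hF k x, map_sum]
    refine Finset.sum_eq_zero fun p hp => ?_
    rw [LinearMap.lTensor_tmul, Submodule.mkQ_apply, (Submodule.Quotient.mk_eq_zero N).2 (Submodule.subset_span
      (Finset.mem_biUnion.2 ⟨k, Finset.mem_univ k, Finset.mem_biUnion.2 ⟨x, hx, Finset.mem_image_of_mem _ hp⟩⟩)),
      TensorProduct.tmul_zero]
  have hall : ∀ y ∈ Submodule.span (Ob O (W k)) (s k : Set (Sec M (W k))), ∀ c : Ov O V ⊗[Ob O E] Sec M E,
      θ c = y → N.mkQ.lTensor (Ov O V) c = 0 := by
    intro y hy
    induction hy using Submodule.span_induction with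
    | mem y hy =>
      intro c hc
      rw [(hgood V (hw k).1).1 (hc.trans (hz k y).symm)]
      exact hgen y hy
    | zero =>
      intro c hc
      rw [(hgood V (hw k).1).1 (hc.trans (map_zero (theta _ V)).symm), map_zero]
    | add a b _ _ ha hb =>
      intro c hc
      obtain ⟨ca, hca⟩ := (hgood V (hw k).1).2 a
      obtain ⟨cb, hcb⟩ := (hgood V (hw k).1).2 b
      have e : c = ca + cb := (hgood V (hw k).1).1 (hc.trans (by rw [map_add, hca, hcb]))
      rw [e, map_add, ha ca hca, hb cb hcb, add_zero]
    | smul a b _ hb =>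
      intro c hc
      obtain ⟨cb, hcb⟩ := (hgood V (hw k).1).2 b
      have e : c = (show Ov O V from a) • cb := (hgood V (hw k).1).1 (hc.trans (by rw [theta_smul, hcb]))
      have hl : N.mkQ.lTensor (Ov O V) ((show Ov O V from a) • cb) = (show Ov O V from a) • N.mkQ.lTensor (Ov O V) cb :=
        (N.mkQ.baseChange (Ov O V)).map_smul (show Ov O V from a) cb
      rw [e, hl, hb cb hcb, smul_zero]
  exact hall (θ ((1 : Ov O V) ⊗ₜ m)) (hs k ▸ Submodule.mem_top) ((1 : Ov O V) ⊗ₜ m) rfl

/-- The covering condition of affine objects. -/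
def AffCovers : Prop :=
  ∀ V : C, ∃ T ∈ J V, ∀ ⦃Z : C⦄ (z : Z ⟶ V), T.arrows z → ∃ (W : C) (a : Z ⟶ W) (b : W ⟶ V), S.Aff W ∧ a ≫ b = z

omit [HasSheafify J AddCommGrpCat.{u + 1}] [J.WEqualsLocallyBijective AddCommGrpCat.{u + 1}] in
/-- A morphism locally surjective on affine objects is locally surjective. -/
theorem isLocallySurjective_of_affine (hcov : AffCovers S) {M' : SheafOfModules.{u + 1} (RR O)} (φ : M ⟶ M')
    (h : ∀ V : C, S.Aff V → ∀ x : Sec M' V, ∃ T ∈ J V, ∀ ⦃Z : C⦄ (z : Z ⟶ V), T.arrows z →
      ∃ y, app φ Z y = mres M' z x) :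
    Presheaf.IsLocallySurjective J ((PresheafOfModules.toPresheaf (RR O).obj).map φ.val) := by
  constructor
  intro V x
  obtain ⟨T, hT, hT'⟩ := hcov V
  refine J.transitive hT _ fun Z z hz => ?_
  obtain ⟨W, a, b, hW, rfl⟩ := hT' z hz
  obtain ⟨T', hT'', hT'''⟩ := h W hW (mres M' b x)
  refine J.superset_covering ?_ (J.pullback_stable a hT'')
  intro Y y hy
  obtain ⟨v, hv⟩ := hT''' (y ≫ a) hy
  refine ⟨v, hv.trans ?_⟩
  exact (mres_comp M' b (y ≫ a) x).symm.trans (congrArg (fun f => mres M' f x) (Category.assoc _ _ _))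

/-- A morphism locally surjective on affine objects is an epimorphism. -/
theorem epi_of_surjective (hcov : AffCovers S) {M' : SheafOfModules.{u + 1} (RR O)} (φ : M ⟶ M')
    (h : ∀ V : C, S.Aff V → ∀ x : Sec M' V, ∃ T ∈ J V, ∀ ⦃Z : C⦄ (z : Z ⟶ V), T.arrows z →
      ∃ y, app φ Z y = mres M' z x) : Epi φ := by
  haveI : Sheaf.IsLocallySurjective ((SheafOfModules.toSheaf (RR O)).map φ) :=
    isLocallySurjective_of_affine S hcov φ h
  haveI : Epi ((SheafOfModules.toSheaf (RR O)).map φ) :=
    (Sheaf.isLocallySurjective_iff_epi' (A := AddCommGrpCat.{u + 1}) _).1 inferInstance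
  exact (SheafOfModules.toSheaf (RR O)).epi_of_epi_map inferInstance

/-- The section of a module given by its value at a terminal object. -/
def secOfTop {top : C} (ht : IsTerminal top) (M : SheafOfModules.{u + 1} (RR O)) (x : Sec M top) : M.sections :=
  PresheafOfModules.sectionsMk (fun V => mres M (ht.from V.unop) x) fun V W g => by
    show mres M g.unop (mres M (ht.from V.unop) x) = mres M (ht.from W.unop) x
    rw [← mres_comp, ht.hom_ext (g.unop ≫ ht.from V.unop) (ht.from W.unop)]

omit [HasSheafify J AddCommGrpCat.{u + 1}] [J.WEqualsLocallyBijective AddCommGrpCat.{u + 1}] in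
theorem secAt_secOfTop {top : C} (ht : IsTerminal top) (x : Sec M top) (V : C) :
    secAt (secOfTop ht M x) V = mres M (ht.from V) x := rfl

theorem app_secAt_free {I : Type (u + 1)} (s : I → M.sections) (i : I) (V : C) :
    app (M.freeHomEquiv.symm s) V (secAt (SheafOfModules.freeSection i) V) = secAt (s i) V := by
  rw [← secAt_sectionsMap, SheafOfModules.sectionsMap_freeHomEquiv_symm_freeSection]

theorem app_comp {M' M'' : SheafOfModules.{u + 1} (RR O)} (f : M ⟶ M') (g : M' ⟶ M'') (V : C) (x : Sec M V) :
    app (f ≫ g) V x = app g V (app f V x) := rfl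

theorem app_injective {M' : SheafOfModules.{u + 1} (RR O)} (φ : M ⟶ M') [Mono φ] (V : C) :
    Function.Injective (app φ V) :=
  (ModuleCat.mono_iff_injective ((SheafOfModules.evaluation.{u + 1} (RR O) (op V)).map φ)).1 inferInstance

/-- Generators and relations of the global sections give a presentation. -/
theorem exists_presentation (hcov : AffCovers S) {top : C} (ht : IsTerminal top) (htop : S.Aff top)
    (hgood : Good M S top) {I R : Type (u + 1)} (v : I → Sec M top) (hv : Submodule.span (Ob O top) (Set.range v) = ⊤)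
    (r : R → (I →₀ Ob O top))
    (hr : Submodule.span (Ob O top) (Set.range r) = LinearMap.ker (Finsupp.linearCombination (Ob O top) v)) :
    ∃ P : M.Presentation, Finite I → Finite R → P.IsFinite := by
  classical
  let F : SheafOfModules.{u + 1} (RR O) := SheafOfModules.free I
  let π : F ⟶ M := M.freeHomEquiv.symm fun i => secOfTop ht M (v i)
  let κ : (I →₀ Ob O top) →ₗ[Ob O top] Sec F top :=
    Finsupp.linearCombination (Ob O top) fun i => secAt (SheafOfModules.freeSection (R := RR O) i : F.sections) top
  have hπκ : (app π top).comp κ = Finsupp.linearCombination (Ob O top) v := by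
    refine Finsupp.lhom_ext fun i a => ?_
    show app π top (Finsupp.linearCombination (Ob O top) _ (Finsupp.single i a)) = _
    rw [Finsupp.linearCombination_single, Finsupp.linearCombination_single, map_smul]
    refine congrArg (fun y => a • y) ((app_secAt_free _ i top).trans ?_)
    rw [secAt_secOfTop, ht.hom_ext (ht.from top) (𝟙 top), mres_id]
  have hsurj : Function.Surjective (Finsupp.linearCombination (Ob O top) v) := by
    rw [← LinearMap.range_eq_top, Finsupp.range_linearCombination, hv]
  let G : M.GeneratingSections :=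
    { I := I
      s := fun i => secOfTop ht M (v i)
      epi := by
        refine epi_of_surjective S hcov π fun V hV x => ⟨⊤, J.top_mem _, fun Z z _ => ?_⟩
        let V' : Over top := Over.mk (ht.from V)
        obtain ⟨c, hc⟩ := (hgood V' hV).2 x
        obtain ⟨c', rfl⟩ := LinearMap.lTensor_surjective (Ov O V') hsurj c
        rw [← theta_comp, LinearMap.id_comp, ← hπκ, ← app_theta] at hc
        exact ⟨mres F z (theta κ V' c'), (app_mres π z _).trans (congrArg _ hc)⟩ }
  let f : SheafOfModules.free R ⟶ F := F.freeHomEquiv.symm fun j => secOfTop ht F (κ (r j))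
  have hf : f ≫ π = 0 := by
    apply M.freeHomEquiv.injective
    funext j
    refine PresheafOfModules.sections_ext _ _ fun V => ?_
    rw [SheafOfModules.freeHomEquiv_apply, SheafOfModules.freeHomEquiv_apply]
    show app (f ≫ π) V.unop (secAt (SheafOfModules.freeSection j) V.unop) = 0
    rw [app_comp, app_secAt_free, secAt_secOfTop, app_mres, ← LinearMap.comp_apply, hπκ,
      show Finsupp.linearCombination (Ob O top) v (r j) = 0 from hr.le (Submodule.subset_span ⟨j, rfl⟩), map_zero]
  have hGπ : G.π = π := rfl
  let f' : SheafOfModules.free R ⟶ kernel G.π := kernel.lift G.π f (hGπ ▸ hf)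
  let κR : (R →₀ Ob O top) →ₗ[Ob O top] Sec (SheafOfModules.free R : SheafOfModules.{u + 1} (RR O)) top :=
    Finsupp.linearCombination (Ob O top) fun j => secAt (SheafOfModules.freeSection (R := RR O) j) top
  let rr : (R →₀ Ob O top) →ₗ[Ob O top] (I →₀ Ob O top) := Finsupp.linearCombination (Ob O top) r
  have hfκ : (app f top).comp κR = κ.comp rr := by
    refine Finsupp.lhom_ext fun j a => ?_
    show app f top (Finsupp.linearCombination (Ob O top) _ (Finsupp.single j a)) =
      κ (Finsupp.linearCombination (Ob O top) r (Finsupp.single j a))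
    rw [Finsupp.linearCombination_single, Finsupp.linearCombination_single, map_smul, map_smul]
    refine congrArg (fun y => a • y) ((app_secAt_free _ j top).trans ?_)
    rw [secAt_secOfTop, ht.hom_ext (ht.from top) (𝟙 top), mres_id]
  have hex : Function.Exact rr (Finsupp.linearCombination (Ob O top) v) := by
    rw [LinearMap.exact_iff, ← hr, Finsupp.range_linearCombination]
  let K : (kernel G.π).GeneratingSections :=
    { I := R
      s := (kernel G.π).freeHomEquiv f'
      epi := by
        rw [Equiv.symm_apply_apply]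
        refine epi_of_surjective S hcov f' fun V hV x => ⟨⊤, J.top_mem _, fun Z z _ => ?_⟩
        let V' : Over top := Over.mk (ht.from V)
        obtain ⟨c, hc⟩ := (bijective_theta_free S I V' hV).2 (app (kernel.ι G.π) V x)
        have h0 : app π V (theta κ V' c) = 0 := by
          rw [show theta κ V' c = _ from hc, ← app_comp, ← hGπ, kernel.condition]
          rfl
        have h2 : theta ((LinearMap.id : Sec M top →ₗ[Ob O top] Sec M top).comp (Finsupp.linearCombination (Ob O top) v))
            V' c = 0 := by
          rw [LinearMap.id_comp, ← hπκ]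
          exact (app_theta π κ V' c).symm.trans h0
        rw [theta_comp] at h2
        have h1 := (hgood V' hV).1 (h2.trans (map_zero _).symm)
        obtain ⟨d, rfl⟩ := (lTensor_exact (Ov O V') hex hsurj c).1 h1
        refine ⟨mres _ z (theta κR V' d), (app_mres f' z _).trans (congrArg _ ?_)⟩
        apply app_injective (kernel.ι G.π)
        rw [← app_comp, kernel.lift_ι]
        refine (app_theta f κR V' d).trans ?_
        rw [hfκ, theta_comp]
        exact hc }
  refine ⟨⟨G, K⟩, fun hI hR => ?_⟩
  exact { isFiniteType_generators := ⟨hI⟩, isFiniteType_relations := ⟨hR⟩ }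

end GrothLib.AlgSp.QCohEt
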