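import Groth.Agent.Lib.AlgSp.QCohEt
import Groth.Agent.Lib.AlgSp.QCohFP
import Groth.Agent.Lib.AlgSp.EtaleLocallyProps
import Mathlib.RingTheory.Noetherian.Basic
import Mathlib.Algebra.Module.FinitePresentation

/-!
# Finite type and finitely presented modules on the small étale site

* `finite_sec_of_isFiniteType`: sections over affine objects of a quasi-coherent module of finite type are finite.
* `isQuasicoherent_of_good`, `isFinitePresentation_of_good`: the converse.
* `isNoetherianRing_ob`, `isFinitePresentation_of_finite`: the locally noetherian case.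
-/

universe u

open CategoryTheory CategoryTheory.Limits AlgebraicGeometry Opposite TensorProduct
set_option backward.isDefEq.respectTransparency false

noncomputable section

namespace GrothLib.AlgSp.QCohEt

open _root_.AlgSp

variable {S : Scheme.{u}} {X : Sp S}

theorem affCovers_affEt : AffCovers (affEt X) := by
  intro V
  choose O hO hxO _ using fun x : ↥V.obj.left.left =>
    exists_isAffineOpen_mem_and_subset (x := x) (U := (⊤ : V.obj.left.left.Opens)) trivial
  refine ⟨_, ofArrows_mem_etTop (fun x => opensObj V (O x)) (fun x => opensInc V (O x))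
    fun x => ⟨x, ⟨x, hxO x⟩, rfl⟩, ?_⟩
  rintro Z z ⟨Y, a, b, ⟨x⟩, rfl⟩
  exact ⟨_, a, _, hO x, rfl⟩

theorem affCovers_slice (E : EtOver X) : AffCovers (affSlice (affEt X) E) := by
  intro V
  obtain ⟨T, hT, hT'⟩ := affCovers_affEt (X := X) V.left
  refine ⟨(Sieve.overEquiv V).symm T, ?_, fun Z z hz => ?_⟩
  · rw [(etTop X).mem_over_iff]
    exact (congrArg (fun T' : Sieve V.left => T' ∈ etTop X V.left) ((Sieve.overEquiv V).apply_symm_apply T)).mpr hT
  · obtain ⟨W, a, b, hW, e⟩ := hT' z.left ((Sieve.overEquiv_symm_iff T z).1 hz)
    exact ⟨Over.mk (b ≫ V.hom), Over.homMk a ((reassoc_of% e) V.hom |>.trans (Over.w z)), Over.homMk b rfl, hW,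
      Over.OverMorphism.ext e⟩

theorem good_slice (M : ModEt X) {E : EtOver X} {V₀ : Over E}
    (h : Good (O := OEt X) M (affEt X) V₀.left) :
    Good (O := (OEt X).over E) (M.over E) (affSlice (affEt X) E) V₀ :=
  fun V hV => h (Over.mk V.hom.left) hV

theorem isTerminal_top (E : EtOver X) : Nonempty (IsTerminal (Over.mk (𝟙 E))) := ⟨Over.mkIdTerminal⟩

/-- Sections of quasi-coherent finite type modules on affine objects are finite. -/
theorem finite_sec_of_isFiniteType (M : ModEt X) [M.IsQuasicoherent] [hM : M.IsFiniteType] {E : EtOver X}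
    (hE : IsAffine E.obj.left.left) : Module.Finite (Ob (OEt X) E) (Sec (O := OEt X) M E) := by
  obtain ⟨σ, hσ⟩ := hM.exists_localGeneratorsData
  refine finite_of_cover (affEt X) hE (good_of_isQuasicoherent M hE) (σ.coversTop E) fun Z z hZ hz => ?_
  obtain ⟨i, ⟨p⟩⟩ := (Sieve.mem_ofObjects_iff ..).1 hz
  haveI := hσ.isFiniteType i
  have h := span_secAt_eq_top (affSlice (affEt X) (σ.X i)) (σ.generators i) (E := Over.mk p) hZ
    (good_slice M (good_of_isQuasicoherent M hZ))
  have := Module.Finite.of_fg_top (R := Ob ((OEt X).over (σ.X i)) (Over.mk p))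
    (M := Sec (O := (OEt X).over (σ.X i)) (M.over (σ.X i)) (Over.mk p)) (h ▸ Submodule.fg_span (Set.finite_range _))
  exact this

/-- The data of presentations from sections on affine objects. -/
theorem exists_presentation_et (M : ModEt X) {E : EtOver X} (hE : IsAffine E.obj.left.left)
    (h : Good (O := OEt X) M (affEt X) E) :
    ∃ P : (M.over E).Presentation,
      Module.FinitePresentation (Ob (OEt X) E) (Sec (O := OEt X) M E) → P.IsFinite := by
  classical
  let A := Ob ((OEt X).over E) (Over.mk (𝟙 E))
  let N := Sec (O := (OEt X).over E) (M.over E) (Over.mk (𝟙 E))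
  by_cases hfp : Module.FinitePresentation (Ob (OEt X) E) (Sec (O := OEt X) M E)
  · haveI : Module.FinitePresentation A N := hfp
    obtain ⟨s, hs⟩ := (Module.Finite.fg_top : (⊤ : Submodule A N).FG)
    let v : ↥s → N := Subtype.val
    have hv : Submodule.span A (Set.range v) = ⊤ := by rw [Subtype.range_coe_subtype]; exact hs
    have hsurj : Function.Surjective (Finsupp.linearCombination A v) := by
      rw [← LinearMap.range_eq_top, Finsupp.range_linearCombination, hv]
    obtain ⟨t, ht⟩ := Module.FinitePresentation.fg_ker _ hsurj
    obtain ⟨P, hP⟩ := exists_presentation (affSlice (affEt X) E) (affCovers_slice E) Over.mkIdTerminal hE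
      (good_slice M h) v hv (Subtype.val : ↥t → _) (by rw [Subtype.range_coe_subtype]; exact ht)
    exact ⟨P, fun _ => hP inferInstance inferInstance⟩
  · let v : N → N := id
    obtain ⟨P, -⟩ := exists_presentation (affSlice (affEt X) E) (affCovers_slice E) Over.mkIdTerminal hE
      (good_slice M h) v (by simp [v]) (Subtype.val : ↥(LinearMap.ker (Finsupp.linearCombination A v)) → _)
      (by rw [Subtype.range_coe]; exact Submodule.span_eq _)
    exact ⟨P, fun h' => absurd h' hfp⟩

theorem coversTop_affine : (etTop X).CoversTop fun E : {E : EtOver X // IsAffine E.obj.left.left} => E.1 := by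
  intro V
  obtain ⟨T, hT, hT'⟩ := affCovers_affEt (X := X) V
  refine (etTop X).superset_covering (fun Z z hz => ?_) hT
  obtain ⟨W, a, -, hW, -⟩ := hT' z hz
  exact (Sieve.mem_ofObjects_iff ..).2 ⟨⟨W, hW⟩, ⟨a⟩⟩

/-- Modules whose sections on affine objects are base changes are quasi-coherent. -/
theorem isQuasicoherent_of_good (M : ModEt X)
    (h : ∀ E : EtOver X, IsAffine E.obj.left.left → Good (O := OEt X) M (affEt X) E) : M.IsQuasicoherent := by
  choose P _ using fun E : {E : EtOver X // IsAffine E.obj.left.left} => exists_presentation_et M E.2 (h E.1 E.2)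
  let q : M.QuasicoherentData :=
    { I := {E : EtOver X // IsAffine E.obj.left.left}
      X := fun E => E.1
      coversTop := coversTop_affine
      presentation := P }
  exact q.isQuasicoherent

/-- Modules whose sections on affine objects are finitely presented base changes are finitely presented. -/
theorem isFinitePresentation_of_good (M : ModEt X)
    (h : ∀ E : EtOver X, IsAffine E.obj.left.left → Good (O := OEt X) M (affEt X) E)
    (hfp : ∀ E : EtOver X, IsAffine E.obj.left.left →
      Module.FinitePresentation (Ob (OEt X) E) (Sec (O := OEt X) M E)) : M.IsFinitePresentation := by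
  choose P hP using fun E : {E : EtOver X // IsAffine E.obj.left.left} => exists_presentation_et M E.2 (h E.1 E.2)
  let q : M.QuasicoherentData :=
    { I := {E : EtOver X // IsAffine E.obj.left.left}
      X := fun E => E.1
      coversTop := coversTop_affine
      presentation := P }
  have hq : q.IsFinitePresentation :=
    SheafOfModules.QuasicoherentData.IsFinitePresentation.mk (q := q) fun i => hP i (hfp i.1 i.2)
  exact SheafOfModules.IsFinitePresentation.mk (M := M) ⟨q, hq⟩

theorem isNoetherianRing_ob (hX : IsLocNoethSp X) {E : EtOver X} (hE : IsAffine E.obj.left.left) :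
    IsNoetherianRing (Ob (OEt X) E) := by
  haveI : IsLocallyNoetherian E.obj.left.left := etaleLocally_chart (Q := IsLocallyNoetherian)
    (fun _ _ k => isLocallyNoetherian_of_etale k) (fun _ _ k => isLocallyNoetherian_desc k) hX E.obj.hom E.property
  haveI : IsNoetherianRing Γ(E.obj.left.left, ⊤) :=
    IsLocallyNoetherian.component_noetherian ⟨⊤, isAffineOpen_top _⟩
  exact isNoetherianRing_of_ringEquiv Γ(E.obj.left.left, ⊤)
    (ULift.ringEquiv.symm : Γ(E.obj.left.left, ⊤) ≃+* ULift.{u + 1} Γ(E.obj.left.left, ⊤))

/-- On a locally noetherian space modules with finite good sections are finitely presented. -/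
theorem isFinitePresentation_of_finite (hX : IsLocNoethSp X) (M : ModEt X)
    (h : ∀ E : EtOver X, IsAffine E.obj.left.left → Good (O := OEt X) M (affEt X) E)
    (hfin : ∀ E : EtOver X, IsAffine E.obj.left.left → Module.Finite (Ob (OEt X) E) (Sec (O := OEt X) M E)) :
    M.IsFinitePresentation :=
  isFinitePresentation_of_good M h fun E hE => by
    haveI := isNoetherianRing_ob hX hE
    haveI := hfin E hE
    exact Module.finitePresentation_of_finite _ _

end GrothLib.AlgSp.QCohEt
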