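import Groth.Agent.Lib.AlgSp.QCohPush
import Groth.Agent.Lib.AlgSp.QCohFPEt
import Mathlib.RingTheory.IsTensorProduct

/-!
# Direct images of quasi-coherent modules along affine morphisms

* `isPushout_ulift`, `bcF`: base change squares of functions on affine objects.
* `good_push`: sections of affine direct images over affine objects are base changes.
-/

universe u

open CategoryTheory CategoryTheory.Limits AlgebraicGeometry Opposite TensorProduct
set_option backward.isDefEq.respectTransparency false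

noncomputable section

namespace GrothLib.AlgSp.QCohEt

open _root_.AlgSp

/-- Pushout squares transported along isomorphisms to another universe. -/
theorem isPushout_transport {A B B' Q : Type u} [CommRing A] [CommRing B] [CommRing B'] [CommRing Q] [Algebra A B]
    [Algebra A B'] [Algebra A Q] [Algebra B Q] [Algebra B' Q] [IsScalarTower A B Q] [IsScalarTower A B' Q]
    [Algebra.IsPushout A B B' Q] {A₁ B₁ B₁' Q₁ : Type (u + 1)} [CommRing A₁] [CommRing B₁] [CommRing B₁'] [CommRing Q₁]
    [Algebra A₁ B₁] [Algebra A₁ B₁'] [Algebra A₁ Q₁] [Algebra B₁ Q₁] [Algebra B₁' Q₁] [IsScalarTower A₁ B₁ Q₁]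
    [IsScalarTower A₁ B₁' Q₁] (eA : A₁ ≃+* A) (eB : B₁ ≃+* B) (eB' : B₁' ≃+* B') (eQ : Q₁ ≃+* Q)
    (h1 : ∀ a, eB (algebraMap A₁ B₁ a) = algebraMap A B (eA a))
    (h2 : ∀ a, eB' (algebraMap A₁ B₁' a) = algebraMap A B' (eA a))
    (h3 : ∀ b, eQ (algebraMap B₁ Q₁ b) = algebraMap B Q (eB b))
    (h4 : ∀ b, eQ (algebraMap B₁' Q₁ b) = algebraMap B' Q (eB' b)) : Algebra.IsPushout A₁ B₁ B₁' Q₁ := by
  have hb : ∀ (a : A₁) (b : B₁), eB (a • b) = eA a • eB b := fun a b => by
    rw [Algebra.smul_def, Algebra.smul_def, map_mul, h1]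
  have hb' : ∀ (a : A₁) (b : B₁'), eB' (a • b) = eA a • eB' b := fun a b => by
    rw [Algebra.smul_def, Algebra.smul_def, map_mul, h2]
  have hi : ∀ (a : A) (b : B), eB.symm (a • b) = eA.symm a • eB.symm b := fun a b =>
    eB.injective (by rw [RingEquiv.apply_symm_apply, hb, RingEquiv.apply_symm_apply, RingEquiv.apply_symm_apply])
  have hi' : ∀ (a : A) (b : B'), eB'.symm (a • b) = eA.symm a • eB'.symm b := fun a b =>
    eB'.injective (by rw [RingEquiv.apply_symm_apply, hb', RingEquiv.apply_symm_apply, RingEquiv.apply_symm_apply])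
  let γ : B₁ ⊗[A₁] B₁' →+ B ⊗[A] B' := TensorProduct.liftAddHom
    { toFun := fun b =>
        { toFun := fun b' => eB b ⊗ₜ[A] eB' b'
          map_zero' := by rw [map_zero, TensorProduct.tmul_zero]
          map_add' := fun _ _ => by rw [map_add, TensorProduct.tmul_add] }
      map_zero' := AddMonoidHom.ext fun b' => by simp
      map_add' := fun _ _ => AddMonoidHom.ext fun b' => by simp [TensorProduct.add_tmul] }
    fun a b b' => by
      show eB (a • b) ⊗ₜ[A] eB' b' = eB b ⊗ₜ[A] eB' (a • b')
      rw [hb, hb', TensorProduct.smul_tmul]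
  let β : B ⊗[A] B' →+ B₁ ⊗[A₁] B₁' := TensorProduct.liftAddHom
    { toFun := fun b =>
        { toFun := fun b' => eB.symm b ⊗ₜ[A₁] eB'.symm b'
          map_zero' := by rw [map_zero, TensorProduct.tmul_zero]
          map_add' := fun _ _ => by rw [map_add, TensorProduct.tmul_add] }
      map_zero' := AddMonoidHom.ext fun b' => by simp
      map_add' := fun _ _ => AddMonoidHom.ext fun b' => by simp [TensorProduct.add_tmul] }
    fun a b b' => by
      show eB.symm (a • b) ⊗ₜ[A₁] eB'.symm b' = eB.symm b ⊗ₜ[A₁] eB'.symm (a • b')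
      rw [hi, hi', TensorProduct.smul_tmul]
  have hβγ : ∀ t, β (γ t) = t := by
    intro t
    induction t using TensorProduct.induction_on with
    | zero => simp
    | add a b ha hb => simp only [map_add, ha, hb]
    | tmul b b' => simp [γ, β]
  have hγβ : ∀ t, γ (β t) = t := by
    intro t
    induction t using TensorProduct.induction_on with
    | zero => simp
    | add a b ha hb => simp only [map_add, ha, hb]
    | tmul b b' => simp [γ, β]
  let pm : B₁ ⊗[A₁] B₁' →ₐ[B₁] Q₁ := Algebra.TensorProduct.lift (Algebra.ofId B₁ Q₁) (IsScalarTower.toAlgHom A₁ B₁' Q₁)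
    fun _ _ => mul_comm _ _
  have key : ∀ t, eQ (pm t) = Algebra.IsPushout.equiv A B B' Q (γ t) := by
    intro t
    induction t using TensorProduct.induction_on with
    | zero => simp
    | add a b ha hb => simp only [map_add, ha, hb]
    | tmul b b' =>
      show eQ (algebraMap B₁ Q₁ b * algebraMap B₁' Q₁ b') = Algebra.IsPushout.equiv A B B' Q (eB b ⊗ₜ[A] eB' b')
      rw [map_mul, h3, h4, Algebra.IsPushout.equiv_tmul]
  have hbij : Function.Bijective pm := by
    have hc : ⇑eQ ∘ ⇑pm = ⇑(Algebra.IsPushout.equiv A B B' Q) ∘ ⇑γ := funext key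
    have h := (Algebra.IsPushout.equiv A B B' Q).bijective.comp
      (⟨Function.LeftInverse.injective hβγ, Function.RightInverse.surjective hγβ⟩ : Function.Bijective γ)
    rw [← hc] at h
    exact ⟨fun a b e => h.1 (congrArg eQ e), fun q => by
      obtain ⟨t, ht⟩ := h.2 (eQ q)
      exact ⟨t, eQ.injective ht⟩⟩
  exact ⟨IsBaseChange.of_equiv (AlgEquiv.ofBijective pm hbij).toLinearEquiv fun b' => by simp [pm]⟩

variable {S : Scheme.{u}} {X Y : Sp S} {f : X ⟶ Y} (hf : Representable f)

/-- Functions pulled back to the base change. -/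
def bcF (E : EtOver Y) : Ob (OEt Y) E →+* Ob (OEt X) (EtOver.bcObj hf E) :=
  ((bcRingHom hf).hom.app (op E)).hom

theorem bcF_apply (E : EtOver Y) (a : Ob (OEt Y) E) :
    (bcF hf E a).down = (EtOver.bcπ hf E).left.appTop.hom a.down := rfl

/-- Sections of affine direct images on affine objects are base changes. -/
theorem good_push (haff : IsAffineMor f) (M : ModEt X) [M.IsQuasicoherent] {E : EtOver Y}
    (hE : IsAffine E.obj.left.left) : Good (O := OEt Y) ((pushModEt hf).obj M) (affEt Y) E := by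
  intro V hV
  haveI := hE
  haveI : IsAffine V.left.obj.left.left := hV
  haveI := isAffine_bcObj hf haff E
  haveI := isAffine_bcObj hf haff V.left
  let g := V.hom
  let A := Ob (OEt Y) E
  let B := Ob (OEt X) (EtOver.bcObj hf E)
  let W : Over (EtOver.bcObj hf E) := Over.mk (EtOver.bcMap hf g)
  let A₀ := Γ(E.obj.left.left, ⊤)
  let S₀ := Γ(V.left.obj.left.left, ⊤)
  let B₀ := Γ((EtOver.bcObj hf E).obj.left.left, ⊤)
  let Q₀ := Γ(W.left.obj.left.left, ⊤)
  letI : Algebra A₀ S₀ := g.hom.left.left.appTop.hom.toAlgebra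
  letI : Algebra A₀ B₀ := (EtOver.bcπ hf E).left.appTop.hom.toAlgebra
  letI : Algebra S₀ Q₀ := (EtOver.bcπ hf V.left).left.appTop.hom.toAlgebra
  letI : Algebra B₀ Q₀ := (EtOver.bcMap hf g).hom.left.left.appTop.hom.toAlgebra
  letI : Algebra A₀ Q₀ := (g.hom.left.left.appTop ≫ (EtOver.bcπ hf V.left).left.appTop).hom.toAlgebra
  have sq := (EtOver.isPullback_bcMap_left hf g).flip
  haveI : IsScalarTower A₀ S₀ Q₀ := IsScalarTower.of_algebraMap_eq fun _ => rfl
  have hpo := isPushout_appTop_of_isPullback sq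
  haveI : IsScalarTower A₀ B₀ Q₀ := IsScalarTower.of_algebraMap_eq fun r => congrArg (fun q => q.hom r) hpo.w
  haveI : Algebra.IsPushout A₀ S₀ B₀ Q₀ := CommRingCat.isPushout_iff_isPushout.1 hpo
  letI : Algebra A B := (bcF hf E).toAlgebra
  letI : Algebra (Ov (OEt Y) V) (Ov (OEt X) W) := (bcF hf V.left).toAlgebra
  letI : Algebra A (Ov (OEt X) W) := ((bcF hf V.left).comp (algebraMap A (Ov (OEt Y) V))).toAlgebra
  haveI : IsScalarTower A (Ov (OEt Y) V) (Ov (OEt X) W) := IsScalarTower.of_algebraMap_eq fun _ => rfl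
  haveI : IsScalarTower A B (Ov (OEt X) W) := IsScalarTower.of_algebraMap_eq fun r => by
    apply ULift.ext
    exact congrArg (fun q => q.hom r.down) hpo.w
  haveI : Algebra.IsPushout A (Ov (OEt Y) V) B (Ov (OEt X) W) :=
    isPushout_transport (A := A₀) (B := S₀) (B' := B₀) (Q := Q₀) ULift.ringEquiv ULift.ringEquiv ULift.ringEquiv
      ULift.ringEquiv (fun _ => rfl) (fun _ => rfl) (fun _ => rfl) (fun _ => rfl)
  let N := Sec (O := OEt X) M (EtOver.bcObj hf E)
  letI : Module A N := Module.compHom N (algebraMap A B)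
  haveI : IsScalarTower A B N := IsScalarTower.of_algebraMap_smul fun _ _ => rfl
  let e := Algebra.IsPushout.cancelBaseChange A (Ov (OEt Y) V) B (Ov (OEt X) W) N
  have hgood := good_of_isQuasicoherent M (isAffine_bcObj hf haff E) W (isAffine_bcObj hf haff V.left)
  let θP : Ov (OEt Y) V ⊗[A] N → Sec (O := OEt X) M W.left := fun z =>
    theta (LinearMap.id : Sec (O := OEt Y) ((pushModEt hf).obj M) E →ₗ[A] _) V z
  have h0 : θP 0 = 0 := map_zero (theta (LinearMap.id : Sec (O := OEt Y) ((pushModEt hf).obj M) E →ₗ[A] _) V)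
  have hadd : ∀ a b, θP (a + b) = θP a + θP b :=
    map_add (theta (LinearMap.id : Sec (O := OEt Y) ((pushModEt hf).obj M) E →ₗ[A] _) V)
  have h : ∀ z, theta (LinearMap.id : Sec (O := OEt X) M (EtOver.bcObj hf E) →ₗ[B] _) W (e.symm z) = θP z := by
    intro z
    induction z using TensorProduct.induction_on with
    | zero => rw [map_zero, h0]; exact map_zero _
    | add a b ha hb =>
      rw [map_add, map_add, ha, hb]
      exact (hadd a b).symm
    | tmul s m =>
      rw [Algebra.IsPushout.cancelBaseChange_symm_tmul]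
      rfl
  have hb : Function.Bijective θP := (funext h : _ = θP) ▸ (hgood.comp e.symm.bijective :
    Function.Bijective fun z => theta (LinearMap.id : Sec (O := OEt X) M (EtOver.bcObj hf E) →ₗ[B] _) W (e.symm z))
  exact hb

end GrothLib.AlgSp.QCohEt
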