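import Groth.Agent.Lib.AlgSp.ClosedPushDense
import Groth.Agent.Lib.AlgSp.QCohPushAff
import Groth.Agent.S9987
import Mathlib.CategoryTheory.Sites.DenseSubsite.InducedTopology
import Mathlib.CategoryTheory.Sites.DenseSubsite.SheafEquiv

/-!
# Modules killed by the ideal of a closed subspace are direct images

* `isLocallyFaithful_bc`, `isAffineMor_closed`, `bcF_surjective`, `good_of_good`.
* `exists_push_iso`: the essential image of direct image along a closed immersion.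
-/

universe u

open CategoryTheory CategoryTheory.Limits AlgebraicGeometry Opposite TensorProduct
set_option backward.isDefEq.respectTransparency false

noncomputable section

namespace GrothLib.AlgSp.QCohEt

open _root_.AlgSp GrothLib.AlgSp

/-- Objects over good objects are good. -/
theorem good_of_good {C : Type (u + 1)} [Category.{u} C] {J : GrothendieckTopology C}
    {O : Sheaf J CommRingCat.{u + 1}} {M : SheafOfModules.{u + 1} (RR O)} (A : AffSite O) {E : C} (h : Good M A E)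
    (V : Over E) (hV : A.Aff V.left) : Good M A V.left := by
  let κ₀ : Sec M E →ₗ[Ob O E] Sec M E := LinearMap.id
  refine good_of_theta A hV (N := Ov O V ⊗[Ob O E] Sec M E) (thetaL κ₀ V) fun W hW => ?_
  have hb := h (push W) hW
  have hs : Function.Surjective (psi O (Sec M E) V W) := by
    intro z
    induction z using TensorProduct.induction_on with
    | zero => exact ⟨0, map_zero _⟩
    | add a b ha hb =>
      obtain ⟨p, rfl⟩ := ha; obtain ⟨q, rfl⟩ := hb
      exact ⟨p + q, map_add _ _ _⟩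
    | tmul b t =>
      induction t using TensorProduct.induction_on with
      | zero => exact ⟨0, (map_zero _).trans (TensorProduct.tmul_zero _ _).symm⟩
      | add a c ha hc =>
        obtain ⟨p, hp⟩ := ha; obtain ⟨q, hq⟩ := hc
        exact ⟨p + q, by rw [map_add, hp, hq, TensorProduct.tmul_add]⟩
      | tmul c m =>
        refine ⟨(show Ov O (push W) from (show Ob O V.left from c) • b) ⊗ₜ m, ?_⟩
        rw [psi_tmul]
        refine (TensorProduct.smul_tmul (R := Ob O V.left) (R' := Ob O V.left) (show Ob O V.left from c) b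
          ((1 : Ov O V) ⊗ₜ[Ob O E] m)).trans ?_
        rw [smul_tmul_left, mul_one]
  have he : ∀ z, theta (thetaL κ₀ V) W (psi O (Sec M E) V W z) = theta κ₀ (push W) z :=
    theta_psi O κ₀ V W (thetaL κ₀ V) fun _ => rfl
  refine ⟨fun x y hxy => ?_, fun x => ?_⟩
  · obtain ⟨p, rfl⟩ := hs x; obtain ⟨q, rfl⟩ := hs y
    rw [he, he] at hxy
    exact congrArg _ (hb.1 hxy)
  · obtain ⟨z, rfl⟩ := hb.2 x
    exact ⟨_, he z⟩

variable {S : Scheme.{u}} {Z X : Space S} (i : Z ⟶ X) (hi : RepWith @IsClosedImmersion i.hom)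

include hi in
theorem isAffineMor_closed : IsAffineMor i.hom := by
  intro T hT g
  haveI : IsClosedImmersion (hi.1.snd g).left := hi.2 _ _ _ (hi.1.isPullback g)
  exact ⟨hi.1.pullback g, hi.1.snd g, hi.1.fst g, hi.1.isPullback g,
    (IsClosedImmersion.isAffine_surjective_of_isAffine (hi.1.snd g).left).1⟩

theorem isLocallyFaithful_bc : (EtOver.bc hi.1).IsLocallyFaithful (etTop Z.obj) := by
  constructor
  intro U V f₁ f₂ e
  refine mem_etTop_of_points Z _ fun z hz v => ?_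
  let l : (FieldPt.liftsTo (z.map i.hom)).obj U :=
    ⟨v.1 ≫ EtOver.bcπ hi.1 U, by
      rw [Functor.map_comp, Category.assoc, ← (EtOver.isPullback_bcObj hi.1 U).w, ← Category.assoc]
      exact (congrArg (· ≫ i.hom) v.2).trans (FieldPt.toHom_map i.hom z).symm⟩
  have hv : bcLift i hi z U l = v := Subtype.ext (hi.1.hom_ext
    ((bcLift i hi z U l).2.trans v.2.symm) (bcLift_snd i hi z U l))
  have hf : (FieldPt.liftsTo (z.map i.hom)).map f₁ l = (FieldPt.liftsTo (z.map i.hom)).map f₂ l := by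
    have h1 := bcLift_map i hi z f₁ l
    rw [e, bcLift_map] at h1
    exact Subtype.ext ((bcLift_snd i hi z V _).symm.trans ((congrArg (fun t => t.1 ≫ hi.1.snd V.obj.hom) h1).symm.trans
      (bcLift_snd i hi z V _)))
  -- the diagonal of an étale morphism is open: equalize by the fibre product over the product
  haveI : IsCofiltered ((FieldPt.liftsTo (z.map i.hom)).Elements) := Groth.Agent.S10217.result X (z.map i.hom) hz
  let q₁ : (FieldPt.liftsTo (z.map i.hom)).elementsMk U l ⟶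
      (FieldPt.liftsTo (z.map i.hom)).elementsMk V ((FieldPt.liftsTo (z.map i.hom)).map f₁ l) :=
    ⟨f₁, rfl⟩
  let q₂ : (FieldPt.liftsTo (z.map i.hom)).elementsMk U l ⟶
      (FieldPt.liftsTo (z.map i.hom)).elementsMk V ((FieldPt.liftsTo (z.map i.hom)).map f₁ l) :=
    ⟨f₂, hf.symm⟩
  obtain ⟨⟨M, lM⟩, ⟨g, hg⟩, hgg⟩ := IsCofilteredOrEmpty.cone_maps q₁ q₂
  refine ⟨(EtOver.bc hi.1).obj M, (EtOver.bc hi.1).map g,
    ⟨M, g, 𝟙 _, congrArg Subtype.val hgg, (Category.id_comp _).symm⟩, bcLift i hi z M lM, ?_⟩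
  rw [bcLift_map, hg, hv]

/-- Surjectivity of functions on base changes of affine objects. -/
theorem bcF_surjective (M : EtOver X.obj) [IsAffine M.obj.left.left] : Function.Surjective (bcF hi.1 M) := by
  haveI : IsClosedImmersion (hi.1.snd M.obj.hom).left := hi.2 _ _ _ (hi.1.isPullback M.obj.hom)
  obtain ⟨-, hsurj⟩ := IsClosedImmersion.isAffine_surjective_of_isAffine (hi.1.snd M.obj.hom).left
  intro t
  obtain ⟨r, hr⟩ := hsurj t.down
  exact ⟨ULift.up r, ULift.ext _ _ hr⟩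

theorem bcF_res {M N : EtOver X.obj} (n : N ⟶ M) (a : Ob (OEt X.obj) M) :
    bcF hi.1 N (res (OEt X.obj) n a) = res (OEt Z.obj) (EtOver.bcMap hi.1 n) (bcF hi.1 M a) :=
  RingHom.congr_fun (congrArg RingCat.Hom.hom ((bcRingHom hi.1).hom.naturality n.op)) a

theorem exists_hit {T : Sp S} {E : EtOver T} {Q : Sieve E} (hQ : Q ∈ etTop T E) (y : ↥E.obj.left.left) :
    ∃ (W : EtOver T) (w : W ⟶ E), Q w ∧ y ∈ Set.range w.hom.left.left := by
  obtain ⟨R, hR, hle⟩ := Precoverage.mem_toGrothendieck_iff_of_isStableUnderComposition.1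
    (show Q ∈ (etPre T).toGrothendieck E from hQ)
  obtain ⟨ι, Y, g, rfl⟩ := Presieve.exists_eq_ofArrows R
  obtain ⟨j, b, hb⟩ := (ofArrows_mem_etPre_iff Y g).1 hR y
  exact ⟨Y j, g j, hle _ _ ⟨j⟩, b, hb⟩

/-- Killed by the ideal of the closed subspace. -/
def Killed (F : ModEt X.obj) : Prop :=
  ∀ (E : EtOver X.obj) (hE : IsAffine E.obj.left.left) (s : sectModEt F E),
    (idealOfRep hi.1).ideal E hE ≤ annSect s

variable {i hi}
variable {F : ModEt X.obj} (hF : Killed i hi F)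
include hF

theorem smul_eq_zero_of_bcF {M : EtOver X.obj} {a : Ob (OEt X.obj) M} (ha : bcF hi.1 M a = 0)
    (s : Sec (O := OEt X.obj) F M) : a • s = 0 := by
  obtain ⟨T, hT, hT'⟩ := affCovers_affEt (X := X.obj) M
  refine sec_ext (O := OEt X.obj) F hT fun C c hc => ?_
  obtain ⟨W, p, w, hW, rfl⟩ := hT' c hc
  rw [mres_comp, mres_comp, map_zero]
  suffices h : res (OEt X.obj) w a • mres (O := OEt X.obj) F w s = 0 by
    rw [mres_smul, h, map_zero]
  refine (mem_annSect_iff (M := F) (E := W) _ _).1 (hF W hW (mres (O := OEt X.obj) F w s)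
    (show (res (OEt X.obj) w a).down ∈ (idealOfRep hi.1).ideal W hW from ?_))
  show (EtOver.bcπ hi.1 W).left.appTop.hom (res (OEt X.obj) w a).down = 0
  rw [← bcF_apply, bcF_res i hi, ha, map_zero]
  rfl

theorem smul_congr_of_bcF {M : EtOver X.obj} {a b : Ob (OEt X.obj) M} (h : bcF hi.1 M a = bcF hi.1 M b)
    (s : Sec (O := OEt X.obj) F M) : a • s = b • s := by
  rw [← sub_eq_zero, ← sub_smul]
  exact smul_eq_zero_of_bcF hF (by rw [map_sub, h, sub_self]) s

theorem eq_zero_of_isEmpty {M : EtOver X.obj} (h : IsEmpty ↥(EtOver.bcObj hi.1 M).obj.left.left)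
    (s : Sec (O := OEt X.obj) F M) : s = 0 := by
  haveI := h
  exact (one_smul (Ob (OEt X.obj) M) s).symm.trans (smul_eq_zero_of_bcF hF
    (ULift.ext _ _ (@Subsingleton.elim Γ((EtOver.bcObj hi.1 M).obj.left.left, ⊤) inferInstance _ _)) s)

/-- A killed module is a sheaf for the topology induced from the closed subspace. -/
theorem isSheaf_induced [(EtOver.bc hi.1).IsCoverDense (etTop Z.obj)] [(EtOver.bc hi.1).IsLocallyFull (etTop Z.obj)]
    [(EtOver.bc hi.1).IsLocallyFaithful (etTop Z.obj)] :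
    Presheaf.IsSheaf ((EtOver.bc hi.1).inducedTopology (etTop Z.obj)) F.val.presheaf := by
  rw [Presheaf.isSheaf_iff_isSheaf_forget _ _ (CategoryTheory.forget AddCommGrpCat.{u + 1}), isSheaf_iff_isSheaf_of_type]
  intro U T hT
  rw [Functor.mem_inducedTopology_iff_of_isCoverDense] at hT
  classical
  let T' : Sieve U :=
    { arrows := fun W w => T w ∨ IsEmpty ↥(EtOver.bcObj hi.1 W).obj.left.left
      downward_closed := fun {W W'} w hw v => hw.imp (fun h => T.downward_closed h v)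
        fun (h : IsEmpty ↥(EtOver.bcObj hi.1 W).obj.left.left) =>
          @Function.isEmpty _ _ h ((EtOver.bcMap hi.1 v).hom.left.left) }
  haveI hcl : IsClosedImmersion (EtOver.bcπ hi.1 U).left := hi.2 _ _ _ (hi.1.isPullback U.obj.hom)
  let π := (EtOver.bcπ hi.1 U).left
  let O : U.obj.left.left.Opens := ⟨(Set.range π)ᶜ, π.isClosedEmbedding.isClosed_range.isOpen_compl⟩
  have hO : T'.arrows (opensInc U O) := by
    refine Or.inr ⟨fun b => ?_⟩
    have h := congrArg (fun k => k.left) (EtOver.bcMap_snd hi.1 (opensInc U O))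
    simp only [Over.comp_left] at h
    have h1 := congrArg (fun k => k b) h
    exact ((EtOver.bcπ hi.1 (opensObj U O)).left b).2 ⟨(EtOver.bcMap hi.1 (opensInc U O)).hom.left.left b, h1⟩
  have hT' : T' ∈ etTop X.obj U := by
    have key : ∀ y : ↥U.obj.left.left, ∃ (W : EtOver X.obj) (w : W ⟶ U), T'.arrows w ∧ y ∈ Set.range w.hom.left.left := by
      intro y
      by_cases hy : y ∈ Set.range π
      · obtain ⟨p, rfl⟩ := hy
        obtain ⟨B, b, ⟨W, w, k, hw, rfl⟩, x, rfl⟩ := exists_hit hT p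
        refine ⟨W, w, Or.inl hw, (EtOver.bcπ hi.1 W).left (k.hom.left.left x), ?_⟩
        have h := congrArg (fun k => k.left) (EtOver.bcMap_snd hi.1 w)
        simp only [Over.comp_left] at h
        exact (congrArg (fun t => t (k.hom.left.left x)) h).symm
      · exact ⟨_, _, hO, ⟨y, hy⟩, rfl⟩
    choose W w hw hy using key
    refine (etTop X.obj).superset_covering ?_ (ofArrows_mem_etTop W w fun y => ⟨y, hy y⟩)
    rw [Sieve.generate_le_iff]
    rintro _ _ ⟨y⟩
    exact hw y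
  have hFs := ((isSheaf_iff_isSheaf_of_type _ _).1
    ((Presheaf.isSheaf_iff_isSheaf_forget (etTop X.obj) F.val.presheaf (CategoryTheory.forget AddCommGrpCat.{u + 1})).1
      F.isSheaf)) T' hT'
  intro x hx
  let x' : ∀ ⦃W⦄ (w : W ⟶ U), T'.arrows w → Sec (O := OEt X.obj) F W := fun W w _ => if h : T w then x w h else 0
  have hx' : Presieve.FamilyOfElements.Compatible (P := F.val.presheaf ⋙ CategoryTheory.forget AddCommGrpCat.{u + 1})
      (R := T'.arrows) x' := by
    intro W₁ W₂ A g₁ g₂ w₁ w₂ h₁ h₂ e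
    show mres (O := OEt X.obj) F g₁ (x' w₁ h₁) = mres (O := OEt X.obj) F g₂ (x' w₂ h₂)
    by_cases hT₁ : T w₁ <;> by_cases hT₂ : T w₂
    · simp only [x', dif_pos hT₁, dif_pos hT₂]
      exact hx g₁ g₂ hT₁ hT₂ e
    · haveI := h₂.resolve_left hT₂
      have hA : IsEmpty ↥(EtOver.bcObj hi.1 A).obj.left.left := Function.isEmpty (EtOver.bcMap hi.1 g₂).hom.left.left
      rw [eq_zero_of_isEmpty hF hA (mres (O := OEt X.obj) F g₁ _), eq_zero_of_isEmpty hF hA (mres (O := OEt X.obj) F g₂ _)]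
    all_goals
      haveI := h₁.resolve_left hT₁
      have hA : IsEmpty ↥(EtOver.bcObj hi.1 A).obj.left.left := Function.isEmpty (EtOver.bcMap hi.1 g₁).hom.left.left
      rw [eq_zero_of_isEmpty hF hA (mres (O := OEt X.obj) F g₁ _), eq_zero_of_isEmpty hF hA (mres (O := OEt X.obj) F g₂ _)]
  obtain ⟨y, hy, huniq⟩ := hFs x' hx'
  refine ⟨y, fun W w hw => (hy w (Or.inl hw)).trans (dif_pos hw), fun y' hy' => huniq y' fun W w hw => ?_⟩
  by_cases h : T w
  · exact (hy' w h).trans (dif_pos h).symm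
  · show _ = x' w hw
    simp only [x', dif_neg h]
    exact eq_zero_of_isEmpty hF (hw.resolve_left h) _

omit hF

/-! ### The action of the functions of the closed subspace -/

section Action

variable (hi) (F) (G₀ : Sheaf (etTop Z.obj) AddCommGrpCat.{u + 1})
  (e : (EtOver.bc hi.1).op ⋙ G₀.obj ≅ F.val.presheaf)

/-- Restriction of sections. -/
def gres {B B' : EtOver Z.obj} (c : B' ⟶ B) : G₀.obj.obj (op B) →+ G₀.obj.obj (op B') := (G₀.obj.map c.op).hom

theorem gres_comp {B B' B'' : EtOver Z.obj} (c : B' ⟶ B) (d : B'' ⟶ B') (y : G₀.obj.obj (op B)) :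
    gres G₀ (d ≫ c) y = gres G₀ d (gres G₀ c y) := by
  show (G₀.obj.map (d ≫ c).op).hom y = _
  rw [op_comp, Functor.map_comp]
  rfl

theorem gres_id {B : EtOver Z.obj} (y : G₀.obj.obj (op B)) : gres G₀ (𝟙 B) y = y := by
  show (G₀.obj.map (𝟙 B).op).hom y = _
  rw [op_id, CategoryTheory.Functor.map_id]
  rfl

theorem gres_ext {B : EtOver Z.obj} {T : Sieve B} (hT : T ∈ etTop Z.obj B) {x y : G₀.obj.obj (op B)}
    (h : ∀ ⦃W⦄ (w : W ⟶ B), T.arrows w → gres G₀ w x = gres G₀ w y) : x = y :=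
  (((isSheaf_iff_isSheaf_of_type _ _).1
    ((Presheaf.isSheaf_iff_isSheaf_forget (etTop Z.obj) G₀.obj (CategoryTheory.forget AddCommGrpCat.{u + 1})).1
      G₀.property)) _ hT).isSeparatedFor.ext h

/-- Evaluation at a base changed object. -/
def ev {B : EtOver Z.obj} {M : EtOver X.obj} (k : EtOver.bcObj hi.1 M ⟶ B) :
    G₀.obj.obj (op B) →+ Sec (O := OEt X.obj) F M :=
  (e.hom.app (op M)).hom.comp (gres G₀ k)

/-- The inverse of evaluation at a base changed object. -/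
def evInv (M : EtOver X.obj) : Sec (O := OEt X.obj) F M →+ G₀.obj.obj (op (EtOver.bcObj hi.1 M)) :=
  (e.inv.app (op M)).hom

theorem ev_evInv {M : EtOver X.obj} (s : Sec (O := OEt X.obj) F M) : ev hi F G₀ e (𝟙 _) (evInv hi F G₀ e M s) = s := by
  show (e.hom.app (op M)).hom (gres G₀ (𝟙 _) _) = s
  rw [gres_id]
  exact ConcreteCategory.congr_hom (e.inv_hom_id_app (op M)) s

theorem evInv_ev {M : EtOver X.obj} (y : G₀.obj.obj (op (EtOver.bcObj hi.1 M))) :
    evInv hi F G₀ e M (ev hi F G₀ e (𝟙 _) y) = y := by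
  show (e.inv.app (op M)).hom ((e.hom.app (op M)).hom (gres G₀ (𝟙 _) y)) = y
  rw [gres_id]
  exact ConcreteCategory.congr_hom (e.hom_inv_id_app (op M)) y

theorem ev_comp {B B' : EtOver Z.obj} (c : B' ⟶ B) {M : EtOver X.obj} (k : EtOver.bcObj hi.1 M ⟶ B')
    (y : G₀.obj.obj (op B)) : ev hi F G₀ e (k ≫ c) y = ev hi F G₀ e k (gres G₀ c y) :=
  congrArg _ (gres_comp G₀ c k y)

theorem ev_bcMap {B : EtOver Z.obj} {M N : EtOver X.obj} (n : N ⟶ M) (k : EtOver.bcObj hi.1 M ⟶ B)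
    (y : G₀.obj.obj (op B)) :
    ev hi F G₀ e (EtOver.bcMap hi.1 n ≫ k) y = mres (O := OEt X.obj) F n (ev hi F G₀ e k y) :=
  (congrArg _ (gres_comp G₀ k _ y)).trans (ConcreteCategory.congr_hom (e.hom.naturality n.op) (gres G₀ k y))

theorem ev_injective {B : EtOver Z.obj} {M : EtOver X.obj} (k : EtOver.bcObj hi.1 M ⟶ B) {x y : G₀.obj.obj (op B)}
    (h : ev hi F G₀ e k x = ev hi F G₀ e k y) : gres G₀ k x = gres G₀ k y :=
  (ConcreteCategory.bijective_of_isIso (e.hom.app (op M))).1 h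

variable [hcd : (EtOver.bc hi.1).IsCoverDense (etTop Z.obj)]
  [hlf : (EtOver.bc hi.1).IsLocallyFull (etTop Z.obj)]

/-- Two functions are locally images of functions. -/
theorem cover_ext {B : EtOver Z.obj} (r s : Ob (OEt Z.obj) B) {x y : G₀.obj.obj (op B)}
    (h : ∀ (M : EtOver X.obj) (k : EtOver.bcObj hi.1 M ⟶ B) (a b : Ob (OEt X.obj) M),
      bcF hi.1 M a = res (OEt Z.obj) k r → bcF hi.1 M b = res (OEt Z.obj) k s →
        ev hi F G₀ e k x = ev hi F G₀ e k y) : x = y := by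
  haveI := Groth.Agent.S9987.result i hi
  refine gres_ext G₀ ((EtOver.bc hi.1).is_cover_of_isCoverDense (etTop Z.obj) B) fun B' c hc => ?_
  obtain ⟨⟨M, c₁, k, rfl⟩⟩ := hc
  rw [gres_comp, gres_comp]
  refine congrArg (gres G₀ c₁) (gres_ext G₀ (bc_covering (Y' := Z.obj) hi.1 ((etTop X.obj).intersection_covering
    (Presheaf.imageSieve_mem (etTop X.obj) (bcRingHom hi.1).hom (U := op M) (res (OEt Z.obj) k r))
    (Presheaf.imageSieve_mem (etTop X.obj) (bcRingHom hi.1).hom (U := op M) (res (OEt Z.obj) k s)))) fun B'' d hd => ?_)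
  obtain ⟨N, n, d₁, ⟨⟨a, ha⟩, ⟨b, hb⟩⟩, rfl⟩ := hd
  rw [gres_comp, gres_comp]
  refine congrArg (gres G₀ d₁) ?_
  rw [← gres_comp, ← gres_comp]
  exact ev_injective hi F G₀ e _ (h N _ a b
    (ha.trans (res_comp (OEt Z.obj) k _ r).symm) (hb.trans (res_comp (OEt Z.obj) k _ s).symm))

/-- Objects with two maps to base changed ones are locally base changed. -/
theorem covering_two {C : EtOver Z.obj} {M M' : EtOver X.obj} (g : C ⟶ EtOver.bcObj hi.1 M)
    (g' : C ⟶ EtOver.bcObj hi.1 M') {x y : G₀.obj.obj (op C)}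
    (h : ∀ (N : EtOver X.obj) (d : EtOver.bcObj hi.1 N ⟶ C) (n : N ⟶ M) (n' : N ⟶ M'),
      d ≫ g = EtOver.bcMap hi.1 n → d ≫ g' = EtOver.bcMap hi.1 n' → ev hi F G₀ e d x = ev hi F G₀ e d y) : x = y := by
  refine gres_ext G₀ ((EtOver.bc hi.1).is_cover_of_isCoverDense (etTop Z.obj) C) fun B' c hc => ?_
  obtain ⟨⟨N, c₁, d, rfl⟩⟩ := hc
  rw [gres_comp, gres_comp]
  refine congrArg (gres G₀ c₁) (gres_ext G₀ ((EtOver.bc hi.1).functorPushforward_imageSieve_mem (etTop Z.obj) (d ≫ g))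
    fun B₁ c₂ hc₂ => ?_)
  obtain ⟨N₁, n₁, c₃, ⟨n, hn⟩, rfl⟩ := hc₂
  rw [gres_comp, gres_comp]
  refine congrArg (gres G₀ c₃) (gres_ext G₀ ((EtOver.bc hi.1).functorPushforward_imageSieve_mem (etTop Z.obj)
    (((EtOver.bc hi.1).map n₁ ≫ d) ≫ g')) fun B₂ c₄ hc₄ => ?_)
  obtain ⟨N₂, n₂, c₅, ⟨n', hn'⟩, rfl⟩ := hc₄
  rw [gres_comp, gres_comp]
  refine congrArg (gres G₀ c₅) ?_
  rw [← gres_comp, ← gres_comp, ← gres_comp, ← gres_comp]
  refine ev_injective hi F G₀ e _ (h N₂ _ (n₂ ≫ n) n' ?_ ?_)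
  · show _ = (EtOver.bc hi.1).map _
    rw [Functor.map_comp, hn]
    simp only [Category.assoc]
  · show _ = (EtOver.bc hi.1).map _
    rw [hn']
    simp only [Category.assoc]

theorem ev_gres_evInv {C : EtOver Z.obj} {M N : EtOver X.obj} (g : C ⟶ EtOver.bcObj hi.1 M)
    (d : EtOver.bcObj hi.1 N ⟶ C) (n : N ⟶ M) (hn : d ≫ g = EtOver.bcMap hi.1 n) (s : Sec (O := OEt X.obj) F M) :
    ev hi F G₀ e d (gres G₀ g (evInv hi F G₀ e M s)) = mres (O := OEt X.obj) F n s := by
  rw [← ev_comp hi F G₀ e g d, hn]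
  refine ((congrArg (fun t => ev hi F G₀ e t (evInv hi F G₀ e M s)) (Category.comp_id (EtOver.bcMap hi.1 n)).symm).trans
    (ev_bcMap hi F G₀ e n (𝟙 _) _)).trans ?_
  exact congrArg _ (ev_evInv hi F G₀ e s)

include hF

theorem exists_smul {B : EtOver Z.obj} (r : Ob (OEt Z.obj) B) (x : G₀.obj.obj (op B)) :
    ∃ y : G₀.obj.obj (op B), ∀ (M : EtOver X.obj) (k : EtOver.bcObj hi.1 M ⟶ B) (a : Ob (OEt X.obj) M),
      bcF hi.1 M a = res (OEt Z.obj) k r → ev hi F G₀ e k y = a • ev hi F G₀ e k x := by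
  classical
  haveI := Groth.Agent.S9987.result i hi
  let ι : Type (u + 1) :=
    Σ M : EtOver X.obj, { p : (EtOver.bcObj hi.1 M ⟶ B) × Ob (OEt X.obj) M // bcF hi.1 M p.2 = res (OEt Z.obj) p.1 r }
  let Y : ι → EtOver Z.obj := fun j => EtOver.bcObj hi.1 j.1
  let k : ∀ j : ι, Y j ⟶ B := fun j => j.2.1.1
  have hcov : Sieve.ofArrows Y k ∈ etTop Z.obj B := by
    refine (etTop Z.obj).transitive ((EtOver.bc hi.1).is_cover_of_isCoverDense (etTop Z.obj) B) _ fun B' c hc => ?_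
    obtain ⟨⟨M, c₁, k₁, rfl⟩⟩ := hc
    rw [Sieve.pullback_comp]
    refine (etTop Z.obj).pullback_stable c₁ ((etTop Z.obj).superset_covering ?_ (bc_covering (Y' := Z.obj) hi.1
      (Presheaf.imageSieve_mem (etTop X.obj) (bcRingHom hi.1).hom (U := op M) (res (OEt Z.obj) k₁ r))))
    rintro B'' _ ⟨N, n, d₁, ⟨a, ha⟩, rfl⟩
    refine ⟨_, d₁, _, ⟨(⟨N, ⟨(EtOver.bcMap hi.1 n ≫ k₁, a), ha.trans (res_comp (OEt Z.obj) k₁ _ r).symm⟩⟩ : ι)⟩, ?_⟩
    exact (Category.assoc _ _ _).symm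
  have hsh : Presieve.IsSheafFor (G₀.obj ⋙ CategoryTheory.forget AddCommGrpCat.{u + 1}) (Presieve.ofArrows Y k) := by
    have h := (isSheaf_iff_isSheaf_of_type _ _).1
      ((Presheaf.isSheaf_iff_isSheaf_forget (etTop Z.obj) G₀.obj (CategoryTheory.forget AddCommGrpCat.{u + 1})).1
        G₀.property) _ hcov
    rwa [Sieve.ofArrows, ← Presieve.isSheafFor_iff_generate] at h
  obtain ⟨y, hy, -⟩ := (Presieve.isSheafFor_arrows_iff _ _).1 hsh
    (fun j => evInv hi F G₀ e j.1 (j.2.1.2 • ev hi F G₀ e (k j) x))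
    (fun j j' C g g' hg => by
      show gres G₀ g (evInv hi F G₀ e j.1 (j.2.1.2 • ev hi F G₀ e (k j) x)) =
        gres G₀ g' (evInv hi F G₀ e j'.1 (j'.2.1.2 • ev hi F G₀ e (k j') x))
      refine covering_two hi F G₀ e g g' fun N d n n' hn hn' => ?_
      refine (ev_gres_evInv hi F G₀ e g d n hn _).trans (Eq.trans ?_ (ev_gres_evInv hi F G₀ e g' d n' hn' _).symm)
      have hk : EtOver.bcMap hi.1 n ≫ k j = EtOver.bcMap hi.1 n' ≫ k j' := by
        rw [← hn, ← hn', Category.assoc, Category.assoc, hg]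
      have h₁ := ev_bcMap hi F G₀ e n (k j) x
      have h₂ := ev_bcMap hi F G₀ e n' (k j') x
      rw [mres_smul, mres_smul, ← h₁, ← h₂, hk]
      refine smul_congr_of_bcF hF ?_ _
      rw [bcF_res i hi, bcF_res i hi, j.2.2, j'.2.2, ← res_comp, ← res_comp]
      exact congrArg (fun t => res (OEt Z.obj) t r) hk)
  refine ⟨y, fun M k₀ a ha => ?_⟩
  exact (congrArg (e.hom.app (op M)).hom (hy ⟨M, ⟨(k₀, a), ha⟩⟩)).trans
    ((congrArg (e.hom.app (op M)).hom (gres_id G₀ _).symm).trans (ev_evInv hi F G₀ e _))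

/-- The action. -/
def gsmul {B : EtOver Z.obj} (r : Ob (OEt Z.obj) B) (x : G₀.obj.obj (op B)) : G₀.obj.obj (op B) :=
  (exists_smul hi F hF G₀ e r x).choose

theorem ev_gsmul {B : EtOver Z.obj} (r : Ob (OEt Z.obj) B) (x : G₀.obj.obj (op B)) {M : EtOver X.obj}
    (k : EtOver.bcObj hi.1 M ⟶ B) (a : Ob (OEt X.obj) M) (ha : bcF hi.1 M a = res (OEt Z.obj) k r) :
    ev hi F G₀ e k (gsmul hi F hF G₀ e r x) = a • ev hi F G₀ e k x :=
  (exists_smul hi F hF G₀ e r x).choose_spec M k a ha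

/-- The module structure on sections. -/
def gmodule (B : EtOver Z.obj) : Module (Ob (OEt Z.obj) B) (G₀.obj.obj (op B)) where
  smul := gsmul hi F hF G₀ e
  one_smul x := cover_ext hi F G₀ e 1 1 fun M k a b ha _ =>
    (ev_gsmul hi F hF G₀ e 1 x k 1 (by rw [map_one, map_one])).trans (one_smul _ _)
  mul_smul r s x := cover_ext hi F G₀ e r s fun M k a b ha hb => by
    show ev hi F G₀ e k (gsmul hi F hF G₀ e (r * s) x) = ev hi F G₀ e k (gsmul hi F hF G₀ e r (gsmul hi F hF G₀ e s x))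
    rw [ev_gsmul hi F hF G₀ e (r * s) x k (a * b) (by rw [map_mul, map_mul, ha, hb]),
      ev_gsmul hi F hF G₀ e r _ k a ha, ev_gsmul hi F hF G₀ e s x k b hb, mul_smul]
  smul_zero r := cover_ext hi F G₀ e r r fun M k a _ ha _ => by
    show ev hi F G₀ e k (gsmul hi F hF G₀ e r 0) = ev hi F G₀ e k 0
    rw [ev_gsmul hi F hF G₀ e r 0 k a ha, map_zero, smul_zero]
  smul_add r x y := cover_ext hi F G₀ e r r fun M k a _ ha _ => by
    show ev hi F G₀ e k (gsmul hi F hF G₀ e r (x + y)) = ev hi F G₀ e k (gsmul hi F hF G₀ e r x + gsmul hi F hF G₀ e r y)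
    rw [map_add, ev_gsmul hi F hF G₀ e r _ k a ha, ev_gsmul hi F hF G₀ e r x k a ha, ev_gsmul hi F hF G₀ e r y k a ha,
      map_add, smul_add]
  add_smul r s x := cover_ext hi F G₀ e r s fun M k a b ha hb => by
    show ev hi F G₀ e k (gsmul hi F hF G₀ e (r + s) x) = ev hi F G₀ e k (gsmul hi F hF G₀ e r x + gsmul hi F hF G₀ e s x)
    rw [map_add, ev_gsmul hi F hF G₀ e (r + s) x k (a + b) (by rw [map_add, map_add, ha, hb]),
      ev_gsmul hi F hF G₀ e r x k a ha, ev_gsmul hi F hF G₀ e s x k b hb, add_smul]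
  zero_smul x := cover_ext hi F G₀ e 0 0 fun M k a _ _ _ => by
    show ev hi F G₀ e k (gsmul hi F hF G₀ e 0 x) = ev hi F G₀ e k 0
    rw [ev_gsmul hi F hF G₀ e 0 x k 0 (by rw [map_zero, map_zero]), map_zero, zero_smul]

theorem gres_gsmul {B B' : EtOver Z.obj} (c : B' ⟶ B) (r : Ob (OEt Z.obj) B) (x : G₀.obj.obj (op B)) :
    gres G₀ c (gsmul hi F hF G₀ e r x) = gsmul hi F hF G₀ e (res (OEt Z.obj) c r) (gres G₀ c x) := by
  refine cover_ext hi F G₀ e (res (OEt Z.obj) c r) (res (OEt Z.obj) c r) fun M k a _ ha _ => ?_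
  rw [← ev_comp, ev_gsmul hi F hF G₀ e r x (k ≫ c) a (by rw [res_comp]; exact ha), ev_gsmul hi F hF G₀ e _ _ k a ha,
    ← ev_comp]

/-- The presheaf of modules on the closed subspace. -/
def gPre : PresheafOfModules.{u + 1} (OEtRing Z.obj).obj :=
  letI : ∀ B : (EtOver Z.obj)ᵒᵖ, Module ((OEtRing Z.obj).obj.obj B) (G₀.obj.obj B) := fun B => gmodule hi F hF G₀ e B.unop
  PresheafOfModules.ofPresheaf G₀.obj fun B B' c r x => gres_gsmul hi F hF G₀ e c.unop r x

/-- The module on the closed subspace. -/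
def gMod : ModEt Z.obj where
  val := gPre hi F hF G₀ e
  isSheaf := G₀.property

/-- Its direct image is the given module. -/
def gIso : (pushModEt hi.1).obj (gMod hi F hF G₀ e) ≅ F :=
  (SheafOfModules.fullyFaithfulForget (OEtRing X.obj)).preimageIso
    (PresheafOfModules.isoMk (fun M =>
      LinearEquiv.toModuleIso
        (X₁ := ((pushModEt hi.1).obj (gMod hi F hF G₀ e)).val.obj M) (X₂ := F.val.obj M)
        { toFun := fun y => ev hi F G₀ e (M := M.unop) (𝟙 _) y
          invFun := evInv hi F G₀ e M.unop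
          map_add' := map_add _
          map_smul' := fun a y => ev_gsmul hi F hF G₀ e (bcF hi.1 M.unop a) y (𝟙 _) a (res_id (OEt Z.obj) _).symm
          left_inv := fun y => evInv_ev hi F G₀ e y
          right_inv := fun s => ev_evInv hi F G₀ e s })
      (fun M M' n => by
        ext y
        show ev hi F G₀ e (𝟙 _) (gres G₀ (EtOver.bcMap hi.1 n.unop) y) = mres (O := OEt X.obj) F n.unop (ev hi F G₀ e (𝟙 _) y)
        rw [← ev_comp, ← ev_bcMap, Category.id_comp, Category.comp_id]))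

end Action

include hF

/-- Killed modules are direct images. -/
theorem exists_push_iso : ∃ G : ModEt Z.obj, Nonempty ((pushModEt hi.1).obj G ≅ F) := by
  haveI := isCoverDense_bc i hi
  haveI := isLocallyFull_bc i hi
  haveI := isLocallyFaithful_bc i hi
  let J := (EtOver.bc hi.1).inducedTopology (etTop Z.obj)
  let F₀ : Sheaf J AddCommGrpCat.{u + 1} := ⟨F.val.presheaf, isSheaf_induced hF⟩
  let e := Functor.IsDenseSubsite.sheafEquiv J (etTop Z.obj) (EtOver.bc hi.1) AddCommGrpCat.{u + 1}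
  let G₀ := e.functor.obj F₀
  let iso : (EtOver.bc hi.1).op ⋙ G₀.obj ≅ F.val.presheaf := (sheafToPresheaf _ _).mapIso (e.unitIso.app F₀).symm
  exact ⟨gMod hi F hF G₀ iso, ⟨gIso hi F hF G₀ iso⟩⟩

omit hF

variable (i hi)

/-- Base changes of affine objects have good sections. -/
theorem good_bcObj (G : ModEt Z.obj) {F : ModEt X.obj} [F.IsQuasicoherent] (φ : (pushModEt hi.1).obj G ≅ F)
    (M : EtOver X.obj) [hM : IsAffine M.obj.left.left] : Good (O := OEt Z.obj) G (affEt Z.obj) (EtOver.bcObj hi.1 M) := by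
  haveI := isCoverDense_bc i hi
  haveI := isLocallyFull_bc i hi
  have haff := isAffineMor_closed i hi
  haveI := isAffine_bcObj hi.1 haff M
  haveI : ((pushModEt hi.1).obj G).IsQuasicoherent := (SheafOfModules.isQuasicoherent (OEtRing X.obj)).prop_of_iso φ.symm ‹F.IsQuasicoherent›
  -- base changes
  have key : ∀ (N : EtOver X.obj) (n : N ⟶ M), IsAffine N.obj.left.left →
      Function.Bijective (theta (LinearMap.id : Sec (O := OEt Z.obj) G (EtOver.bcObj hi.1 M) →ₗ[Ob (OEt Z.obj) (EtOver.bcObj hi.1 M)] _)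
        (Over.mk (EtOver.bcMap hi.1 n))) := by
    intro N n hN
    haveI := hN
    let V : Over M := Over.mk n
    let W : Over (EtOver.bcObj hi.1 M) := Over.mk (EtOver.bcMap hi.1 n)
    let q : Ov (OEt X.obj) V ⊗[Ob (OEt X.obj) M] Sec (O := OEt X.obj) ((pushModEt hi.1).obj G) M →+
        Ov (OEt Z.obj) W ⊗[Ob (OEt Z.obj) (EtOver.bcObj hi.1 M)] Sec (O := OEt Z.obj) G (EtOver.bcObj hi.1 M) :=
      TensorProduct.liftAddHom
        { toFun := fun b =>
            { toFun := fun s => (show Ov (OEt Z.obj) W from bcF hi.1 N b) ⊗ₜ (show Sec (O := OEt Z.obj) G _ from s)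
              map_zero' := TensorProduct.tmul_zero _ _
              map_add' := fun _ _ => TensorProduct.tmul_add _ _ _ }
          map_zero' := AddMonoidHom.ext fun s => (congrArg (fun t : Ov (OEt Z.obj) W => t ⊗ₜ _) (map_zero _)).trans (TensorProduct.zero_tmul _ _)
          map_add' := fun b b' => AddMonoidHom.ext fun s => (congrArg (fun t : Ov (OEt Z.obj) W => t ⊗ₜ _) (map_add _ _ _)).trans (TensorProduct.add_tmul _ _ _) }
        (fun a b s => by
          show (show Ov (OEt Z.obj) W from bcF hi.1 N (res (OEt X.obj) n a * (show Ob (OEt X.obj) N from b))) ⊗ₜ (show Sec (O := OEt Z.obj) G _ from s) =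
            (show Ov (OEt Z.obj) W from bcF hi.1 N b) ⊗ₜ ((bcF hi.1 M a) • (show Sec (O := OEt Z.obj) G _ from s))
          rw [map_mul, bcF_res i hi, ← TensorProduct.smul_tmul (bcF hi.1 M a), Algebra.smul_def]
          rfl)
    have hq : Function.Surjective q := by
      intro z
      induction z using TensorProduct.induction_on with
      | zero => exact ⟨0, map_zero _⟩
      | add a b ha hb =>
        obtain ⟨p, rfl⟩ := ha; obtain ⟨p', rfl⟩ := hb
        exact ⟨p + p', map_add _ _ _⟩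
      | tmul c s =>
        obtain ⟨b, hb⟩ := bcF_surjective i hi N c
        exact ⟨(show Ov (OEt X.obj) V from b) ⊗ₜ (show Sec (O := OEt X.obj) ((pushModEt hi.1).obj G) M from s),
          congrArg (fun t : Ov (OEt Z.obj) W => t ⊗ₜ s) hb⟩
    have hc : ∀ z, theta (LinearMap.id : Sec (O := OEt Z.obj) G (EtOver.bcObj hi.1 M) →ₗ[Ob (OEt Z.obj) (EtOver.bcObj hi.1 M)] _) W (q z) =
        theta (LinearMap.id : Sec (O := OEt X.obj) ((pushModEt hi.1).obj G) M →ₗ[Ob (OEt X.obj) M] _) V z := by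
      intro z
      induction z using TensorProduct.induction_on with
      | zero => rw [map_zero, map_zero, map_zero]
      | add a b ha hb => simp only [map_add, ha, hb]
      | tmul b s => rfl
    have hb := good_of_isQuasicoherent ((pushModEt hi.1).obj G) (E := M) hM V hN
    refine ⟨fun x y hxy => ?_, fun x => ?_⟩
    · obtain ⟨p, rfl⟩ := hq x; obtain ⟨p', rfl⟩ := hq y
      rw [hc, hc] at hxy
      exact congrArg q (hb.1 hxy)
    · obtain ⟨z, rfl⟩ := hb.2 x
      exact ⟨q z, hc z⟩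
  -- base changed objects cover
  have hcov : ∀ V : Over (EtOver.bcObj hi.1 M), ∃ T ∈ etTop Z.obj V.left, ∀ ⦃W⦄ (w : W ⟶ V.left), T.arrows w →
      ∃ (N : EtOver X.obj) (n : N ⟶ M) (_ : IsAffine N.obj.left.left) (d : Over.mk (EtOver.bcMap hi.1 n) ⟶ V)
        (w₁ : W ⟶ EtOver.bcObj hi.1 N), w = w₁ ≫ d.left := by
    intro V
    let T : Sieve V.left :=
      { arrows := fun W w => ∃ (N : EtOver X.obj) (n : N ⟶ M) (_ : IsAffine N.obj.left.left)
          (d : Over.mk (EtOver.bcMap hi.1 n) ⟶ V) (w₁ : W ⟶ EtOver.bcObj hi.1 N), w = w₁ ≫ d.left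
        downward_closed := by
          rintro W W' w ⟨N, n, hN, d, w₁, rfl⟩ v
          exact ⟨N, n, hN, d, v ≫ w₁, (Category.assoc _ _ _).symm⟩ }
    refine ⟨T, ?_, fun W w hw => hw⟩
    refine (etTop Z.obj).transitive ((EtOver.bc hi.1).is_cover_of_isCoverDense (etTop Z.obj) V.left) _ fun B c hc => ?_
    obtain ⟨⟨N, c₁, d, rfl⟩⟩ := hc
    rw [Sieve.pullback_comp]
    refine (etTop Z.obj).pullback_stable c₁ ((etTop Z.obj).transitive
      ((EtOver.bc hi.1).functorPushforward_imageSieve_mem (etTop Z.obj) (d ≫ V.hom)) _ fun B' c' hc' => ?_)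
    obtain ⟨N₁, n₁, c₂, ⟨n, hn⟩, rfl⟩ := hc'
    rw [Sieve.pullback_comp]
    refine (etTop Z.obj).pullback_stable c₂ ?_
    rw [← Sieve.pullback_comp]
    obtain ⟨T₁, hT₁, hT₁'⟩ := affCovers_affEt (X := X.obj) N₁
    refine (etTop Z.obj).superset_covering ?_ (bc_covering (Y' := Z.obj) hi.1 hT₁)
    rintro B'' _ ⟨N₂, n₂, c₃, hn₂, rfl⟩
    obtain ⟨N₃, p, n₃, hN₃, rfl⟩ := hT₁' n₂ hn₂
    refine ⟨N₃, n₃ ≫ n, hN₃, Over.homMk ((EtOver.bc hi.1).map n₃ ≫ (EtOver.bc hi.1).map n₁ ≫ d) ?_,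
      c₃ ≫ (EtOver.bc hi.1).map p, ?_⟩
    · show ((EtOver.bc hi.1).map n₃ ≫ (EtOver.bc hi.1).map n₁ ≫ d) ≫ V.hom = (EtOver.bc hi.1).map (n₃ ≫ n)
      rw [Functor.map_comp, hn]
      simp only [Category.assoc]
    · show (c₃ ≫ (EtOver.bc hi.1).map (p ≫ n₃)) ≫ (EtOver.bc hi.1).map n₁ ≫ d =
        (c₃ ≫ (EtOver.bc hi.1).map p) ≫ (EtOver.bc hi.1).map n₃ ≫ (EtOver.bc hi.1).map n₁ ≫ d
      rw [Functor.map_comp]
      simp only [Category.assoc]
  intro V hV
  refine bijective_theta (affEt Z.obj) _ ?_ ?_ V hV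
  · intro V _ z hz
    obtain ⟨T, hT, hT'⟩ := hcov V
    refine ⟨T, hT, fun W w _ hw => ?_⟩
    obtain ⟨N, n, hN, d, w₁, rfl⟩ := hT' w hw
    have h0 : (rho (OEt Z.obj) d).toLinearMap.rTensor _ z = 0 := (key N n hN).1 (by rw [theta_rho, hz, map_zero, map_zero])
    let p : push (Over.mk (w₁ ≫ d.left) : Over V.left) ⟶ Over.mk (EtOver.bcMap hi.1 n) :=
      Over.homMk w₁ (by rw [← Over.w d]; exact (Category.assoc _ _ _).symm)
    have hp : rho (OEt Z.obj) (pr (Over.mk (w₁ ≫ d.left) : Over V.left)) =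
        (rho (OEt Z.obj) p).comp (rho (OEt Z.obj) d) :=
      AlgHom.ext fun a => res_comp (OEt Z.obj) d.left w₁ a
    rw [hp, AlgHom.comp_toLinearMap, LinearMap.rTensor_comp, LinearMap.comp_apply, h0, map_zero]
  · intro V _ x
    obtain ⟨T, hT, hT'⟩ := hcov V
    refine ⟨T, hT, fun W w _ hw => ?_⟩
    obtain ⟨N, n, hN, d, w₁, rfl⟩ := hT' w hw
    obtain ⟨z, hz⟩ := (key N n hN).2 (mres (O := OEt Z.obj) G d.left x)
    let p : push (Over.mk (w₁ ≫ d.left) : Over V.left) ⟶ Over.mk (EtOver.bcMap hi.1 n) :=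
      Over.homMk w₁ (by rw [← Over.w d]; exact (Category.assoc _ _ _).symm)
    exact ⟨(rho (OEt Z.obj) p).toLinearMap.rTensor _ z, by rw [theta_rho, hz, ← mres_comp]; rfl⟩

/-- Base changes of affine objects cover. -/
theorem exists_bc_affine_cover (B : EtOver Z.obj) : ∃ T ∈ etTop Z.obj B, ∀ ⦃W⦄ (w : W ⟶ B), T.arrows w →
    ∃ (M : EtOver X.obj) (_ : IsAffine M.obj.left.left) (w₁ : W ⟶ EtOver.bcObj hi.1 M) (k : EtOver.bcObj hi.1 M ⟶ B),
      w = w₁ ≫ k := by
  haveI := isCoverDense_bc i hi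
  let T : Sieve B :=
    { arrows := fun W w => ∃ (M : EtOver X.obj) (_ : IsAffine M.obj.left.left) (w₁ : W ⟶ EtOver.bcObj hi.1 M)
        (k : EtOver.bcObj hi.1 M ⟶ B), w = w₁ ≫ k
      downward_closed := by
        rintro W W' w ⟨M, hM, w₁, k, rfl⟩ v
        exact ⟨M, hM, v ≫ w₁, k, (Category.assoc _ _ _).symm⟩ }
  refine ⟨T, ?_, fun W w hw => hw⟩
  refine (etTop Z.obj).transitive ((EtOver.bc hi.1).is_cover_of_isCoverDense (etTop Z.obj) B) _ fun B' c hc => ?_
  obtain ⟨⟨M, c₁, k, rfl⟩⟩ := hc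
  rw [Sieve.pullback_comp]
  refine (etTop Z.obj).pullback_stable c₁ ?_
  obtain ⟨T₁, hT₁, hT₁'⟩ := affCovers_affEt (X := X.obj) M
  refine (etTop Z.obj).superset_covering ?_ (bc_covering (Y' := Z.obj) hi.1 hT₁)
  rintro B'' _ ⟨M₂, n₂, c₃, hn₂, rfl⟩
  obtain ⟨M₃, p, n₃, hM₃, rfl⟩ := hT₁' n₂ hn₂
  refine ⟨M₃, hM₃, c₃ ≫ (EtOver.bc hi.1).map p, (EtOver.bc hi.1).map n₃ ≫ k, ?_⟩
  show (c₃ ≫ (EtOver.bc hi.1).map (p ≫ n₃)) ≫ k = _
  rw [Functor.map_comp]
  simp only [Category.assoc]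

include hi in
/-- Modules with quasi-coherent direct image along a closed immersion are quasi-coherent. -/
theorem isQuasicoherent_of_push (G : ModEt Z.obj) {F : ModEt X.obj} [F.IsQuasicoherent]
    (φ : (pushModEt hi.1).obj G ≅ F) : G.IsQuasicoherent := by
  refine isQuasicoherent_of_good _ fun B hB => ?_
  obtain ⟨T, hT, hT'⟩ := exists_bc_affine_cover i hi B
  refine good_of_cover (O := OEt Z.obj) G (affEt Z.obj) hB hT fun W w hW hw => ?_
  obtain ⟨M, hM, w₁, k, rfl⟩ := hT' w hw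
  exact good_of_good (affEt Z.obj) (good_bcObj i hi G φ M) (Over.mk w₁) hW

theorem killed_push (G : ModEt Z.obj) : Killed i hi ((pushModEt hi.1).obj G) := fun E hE s a ha => by
  rw [mem_annSect_iff]
  show bcF hi.1 E (upΓ E a) • (show Sec (O := OEt Z.obj) G (EtOver.bcObj hi.1 E) from s) = 0
  have h0 : bcF hi.1 E (upΓ E a) = 0 := ULift.ext _ _ ha
  rw [h0, zero_smul]

end GrothLib.AlgSp.QCohEt
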