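import Groth.Agent.Lib.AlgSp.FiniteNhd
import Groth.Agent.Lib.Equidim6.CondTOpen
import Groth.Agent.S1608
import Groth.Agent.S9334

/-!
# Quasi-finiteness over points of codimension at most one
-/

set_option autoImplicit false
set_option linter.style.haveILetI false

universe u

open CategoryTheory CategoryTheory.Limits AlgebraicGeometry Topology TopologicalSpace

namespace GrothLib.AlgSp

open _root_.AlgSp

section Scheme

variable {U V : Scheme.{u}}

theorem ringKrullDim_stalk_eq_zero_iff (u : U) :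
    ringKrullDim (U.presheaf.stalk u) = 0 ↔ ∀ z, z ⤳ u → z = u := by
  rw [ringKrullDim_stalk_eq_coheight, ← WithBot.coe_zero, WithBot.coe_inj, Order.coheight_eq_zero]
  exact ⟨fun h z hz => Inseparable.eq (Specializes.antisymm hz (h (b := z) hz)),
    fun h z hz => le_of_eq (h z hz)⟩

theorem quasiFiniteAt_iff_resTrdeg (f : U ⟶ V) [LocallyOfFiniteType f] (u : U)
    (h : ∀ z, z ⤳ u → z = u) : f.QuasiFiniteAt u ↔ Dual3.resTrdeg f u = 0 := by
  rw [quasiFiniteAt_iff_fibreDimAt]
  obtain ⟨n, h₁, h₂⟩ := GrothLib.Equidim6.fibreDimAt_eq_resTrdeg f u fun z _ hz => h z hz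
  rw [h₁, h₂]
  constructor
  · intro h3
    rw [show n = 0 by exact_mod_cast le_antisymm h3 (by exact_mod_cast Nat.zero_le n)]
    exact Nat.cast_zero
  · intro h3
    rw [show n = 0 by exact_mod_cast h3]
    rfl

theorem quasiFiniteAt_of_codim_le_one (f : U ⟶ V) [LocallyOfFiniteType f] [IsLocallyNoetherian V] (u : U)
    (hd : ringKrullDim (V.presheaf.stalk (f u)) ≤ 1)
    (h : ∀ η : U, (∀ z, z ⤳ η → z = η) → f η ⤳ f u → f.QuasiFiniteAt η) : f.QuasiFiniteAt u := by
  let j := V.fromSpecStalk (f u)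
  let T := Spec (V.presheaf.stalk (f u))
  let f' : pullback f j ⟶ T := pullback.snd f j
  have hsq : IsPullback (pullback.fst f j) f' f j := IsPullback.of_hasPullback f j
  have hqf : ∀ x, f'.QuasiFiniteAt x ↔ f.QuasiFiniteAt (pullback.fst f j x) := fun x => by
    rw [quasiFiniteAt_iff_fibreDimAt, quasiFiniteAt_iff_fibreDimAt, fibreDimAt_of_isPullback hsq x]
  obtain ⟨x, hx₁, hx₂⟩ := Scheme.Pullback.exists_preimage_pullback (f := f) (g := j) u
    (IsLocalRing.closedPoint (V.presheaf.stalk (f u))) Scheme.fromSpecStalk_closedPoint.symm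
  haveI : IsNoetherianRing (V.presheaf.stalk (f u)) := inferInstance
  haveI : IsNoetherianRing (T.presheaf.stalk (f' x)) := inferInstance
  have hT : ringKrullDim (T.presheaf.stalk (f' x)) ≤ 1 := by
    refine le_trans ?_ hd
    haveI : IsLocalization.AtPrime (Localization.AtPrime (f' x).asIdeal) (f' x).asIdeal := inferInstance
    refine (ringKrullDim_eq_of_ringEquiv
      (StructureSheaf.stalkIso (V.presheaf.stalk (f u)) (f' x)).symm.toRingEquiv).trans_le ?_
    rw [IsLocalization.AtPrime.ringKrullDim_eq_height (f' x).asIdeal]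
    exact Ideal.height_le_ringKrullDim_of_ne_top (f' x).isPrime.ne_top
  have hspec : ∀ e, f (pullback.fst f j e) ⤳ f u := fun e => by
    have e₁ : f (pullback.fst f j e) = j (f' e) := congrArg (fun g : pullback f j ⟶ V => g e) hsq.w
    exact (specializes_of_eq e₁).trans (((IsLocalRing.specializes_closedPoint (f' e)).map j.continuous).trans
      (specializes_of_eq Scheme.fromSpecStalk_closedPoint))
  have key := Groth.Agent.S1608.result f' (f' x) hT (fun Z hZ η hη => ?_) x rfl
  · rwa [hqf, hx₁] at key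
  · rw [hqf]
    refine h _ (fun z hz => ?_) ?_
    · have hfη : f z ⤳ f u := by
        exact (hz.map f.continuous).trans (hspec η)
      obtain ⟨w, hw⟩ := (Scheme.range_fromSpecStalk (X := V) (x := f u)).ge hfη
      obtain ⟨z', hz₁, hz₂⟩ := Scheme.Pullback.exists_preimage_pullback (f := f) (g := j) z w hw.symm
      have hs : z' ⤳ η := by
        rw [← (pullback.fst f j).isEmbedding.isInducing.specializes_iff, hz₁]
        exact hz
      have : z' = η := by
        refine ((hη.specializes ?_).antisymm hs).eq.symm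
        have hmax : Z ⊆ closure {z'} := by
          rw [← hη.def]
          exact closure_minimal (Set.singleton_subset_iff.2 hs.mem_closure) isClosed_closure
        exact (hZ.le_of_ge isIrreducible_singleton.closure hmax) (subset_closure rfl)
      rw [← this, hz₁]
    · exact hspec η

/-- A dense open subset of a locally noetherian scheme contains the maximal points. -/
theorem mem_of_dense_open [IsLocallyNoetherian U] {Q : Set U} (hQ : IsOpen Q) (hd : Dense Q) (η : U)
    (hη : ∀ z, z ⤳ η → z = η) : η ∈ Q := by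
  obtain ⟨N, hN, hηN, -⟩ := exists_isAffineOpen_mem_and_subset (U := (⊤ : U.Opens)) (x := η) trivial
  haveI : IsAffine (N : Scheme.{u}) := hN
  haveI : IsNoetherian (N : Scheme.{u}) := {}
  let C := irreducibleComponents ↥N.toScheme
  let Z : Set ↥N.toScheme := closure {⟨η, hηN⟩}
  have hfin : C.Finite := NoetherianSpace.finite_irreducibleComponents (α := ↥N.toScheme)
  let O : Set ↥N.toScheme := (⋃₀ (C \ {Z}))ᶜ
  have hO : IsOpen O := by
    have hc : IsClosed (⋃ W ∈ C \ {Z}, W) :=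
      (hfin.sdiff (t := {Z})).isClosed_biUnion fun W hW => isClosed_of_mem_irreducibleComponents W hW.1
    rw [← Set.sUnion_eq_biUnion] at hc
    exact hc.isOpen_compl
  have hηO : (⟨η, hηN⟩ : ↥N.toScheme) ∈ O := by
    rintro ⟨W, ⟨hW, hWne⟩, hηW⟩
    refine hWne (Set.mem_singleton_iff.2 ?_)
    have hWi : IsIrreducible W := hW.1
    have hWc : IsClosed W := isClosed_of_mem_irreducibleComponents W hW
    obtain ⟨g, hg⟩ := QuasiSober.sober hWi hWc
    have hgη : g ⤳ ⟨η, hηN⟩ := hg.specializes hηW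
    have : g = ⟨η, hηN⟩ := Subtype.ext (hη g.1 (hgη.map N.ι.continuous))
    rw [← hg.def, this]
  have hOsub : O ⊆ Z := fun z hz => by
    obtain ⟨W, hW, hzW⟩ : ∃ W ∈ C, z ∈ W :=
      ⟨_, irreducibleComponent_mem_irreducibleComponents z, mem_irreducibleComponent⟩
    by_contra hne
    exact hz ⟨W, ⟨hW, fun e => hne (Set.mem_singleton_iff.1 e ▸ hzW)⟩, hzW⟩
  obtain ⟨z, ⟨z', hz', rfl⟩, hzQ⟩ := hd.inter_open_nonempty _ (N.2.isOpenMap_subtype_val _ hO)
    ⟨η, ⟨η, hηN⟩, hηO, rfl⟩
  have hs : (⟨η, hηN⟩ : ↥N.toScheme) ⤳ z' := specializes_iff_mem_closure.2 (hOsub hz')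
  exact (hs.map N.ι.continuous).mem_open hQ hzQ

theorem quasiFiniteAt_of_fibre_maximal (f : U ⟶ V) [LocallyOfFiniteType f] (u : U)
    (h₁ : ∀ z, f z = f u → z ⤳ u → z = u) (h₂ : ∀ z, f z = f u → u ⤳ z → z = u) : f.QuasiFiniteAt u := by
  rw [Groth.Agent.S9334.result]
  refine ⟨?_, fun x' hx' => ?_⟩
  · rw [← closure_subset_iff_isClosed]
    intro z hz
    refine (f.fiberι (f u)).isEmbedding.injective ?_
    rw [f.fiberι_asFiber]
    refine h₂ _ ((f.range_fiberι (f u)).le ⟨z, rfl⟩) ?_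
    exact (specializes_of_eq (f.fiberι_asFiber u).symm).trans
      ((specializes_iff_mem_closure.2 hz).map (f.fiberι (f u)).continuous)
  · refine (f.fiberι (f u)).isEmbedding.injective ?_
    rw [f.fiberι_asFiber]
    exact h₁ _ ((f.range_fiberι (f u)).le ⟨x', rfl⟩)
      ((hx'.map (f.fiberι (f u)).continuous).trans (specializes_of_eq (f.fiberι_asFiber u)))

theorem eq_of_specializes_of_quasiFiniteAt (f : U ⟶ V) [LocallyOfFiniteType f] {u z : U}
    (hq : f.QuasiFiniteAt u) (hf : f z = f u) : (z ⤳ u → z = u) ∧ (u ⤳ z → z = u) := by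
  obtain ⟨hc, hg⟩ := (Groth.Agent.S9334.result f u).1 hq
  obtain ⟨z', hz'⟩ := (f.range_fiberι (f u)).ge hf
  have hin := (f.fiberι (f u)).isEmbedding.isInducing
  refine ⟨fun h => ?_, fun h => ?_⟩
  · rw [← hz', hg z' (hin.specializes_iff.1 (by rw [hz', f.fiberι_asFiber]; exact h)), f.fiberι_asFiber]
  · have : z' ∈ closure {f.asFiber u} := specializes_iff_mem_closure.1
      (hin.specializes_iff.1 (by rw [hz', f.fiberι_asFiber]; exact h))
    rw [hc.closure_eq, Set.mem_singleton_iff] at this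
    rw [← hz', this, f.fiberι_asFiber]

end Scheme

variable {S : Scheme.{u}} {X Y : Sp S} {f : X ⟶ Y}

theorem hasAt_codimZero_iff (hX : IsAlgSpace X) {U : Over S} {a : (yon S).obj U ⟶ X} (ha : RepWith @Etale a)
    (u : ↥U.left) :
    HasAt (fun U u => ringKrullDim ↥(U.presheaf.stalk u) = 0) X (Points.ofPt a u) ↔
      ∀ z : ↥U.left, z ⤳ u → z = u :=
  (hasAt_iff hX (Q := fun U u => ringKrullDim ↥(U.presheaf.stalk u) = 0)
    (fun A B k hk x => by rw [ringKrullDim_stalk_eq_of_etale k x]) ha u).trans (ringKrullDim_stalk_eq_zero_iff u)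

theorem hasAtMor_qf_iff (hX : IsAlgSpace X) (hY : IsAlgSpace Y) (hf : LocP @LocallyOfFiniteType f) {U V : Over S}
    {a : (yon S).obj U ⟶ X} {b : (yon S).obj V ⟶ Y} {h : U ⟶ V} [LocallyOfFiniteType h.left]
    (ha : RepWith @Etale a) (hb : RepWith @Etale b) (c : a ≫ f = (yon S).map h ≫ b) (u : ↥U.left) :
    HasAtMor (fun U _ h u => ∃ W : U.Opens, u ∈ W ∧ LocallyQuasiFinite (W.ι ≫ h) ∧ LocallyOfFiniteType (W.ι ≫ h))
      f (Points.ofPt a u) ↔ h.left.QuasiFiniteAt u := by
  rw [hasAtMor_lqf_iff hX hY hf, hasAtMor_fibreDim_iff hX hY ha hb c u (fun d => d ≤ 0), quasiFiniteAt_iff_fibreDimAt]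

/-- Quasi-finiteness over a point of codimension at most one is decided at the maximal points above its generisations. -/
theorem hasAtMor_qf_of_codim_le_one (hX : IsAlgSpace X) (hY : IsAlgSpace Y) (hf : LocP @LocallyOfFiniteType f)
    (hN : IsLocNoethSp Y) (y : Points Y)
    (hy : HasAt (fun U u => ringKrullDim ↥(U.presheaf.stalk u) ≤ 1) Y y)
    (h : ∀ x, HasAt (fun U u => ringKrullDim ↥(U.presheaf.stalk u) = 0) X x → Points.map f x ⤳ y →
      HasAtMor (fun U _ h u => ∃ W : U.Opens, u ∈ W ∧ LocallyQuasiFinite (W.ι ≫ h) ∧ LocallyOfFiniteType (W.ι ≫ h)) f x)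
    (x : Points X) (hx : Points.map f x = y) :
    HasAtMor (fun U _ h u => ∃ W : U.Opens, u ∈ W ∧ LocallyQuasiFinite (W.ι ≫ h) ∧ LocallyOfFiniteType (W.ι ≫ h)) f x := by
  subst hx
  obtain ⟨U, V, a, b, k, u, ha, hb, c, rfl⟩ := exists_chart_at hX hY f x
  haveI : LocallyOfFiniteType k.left := hf a b k ha hb c
  haveI : IsLocallyNoetherian V.left :=
    etaleLocally_chart (fun _ _ e => isLocallyNoetherian_of_etale e) (fun _ _ e => isLocallyNoetherian_desc e) hN b hb
  rw [hasAtMor_qf_iff hX hY hf ha hb c]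
  have hmap : ∀ z : ↥U.left, Points.map f (Points.ofPt a z) = Points.ofPt b (k.left z) := fun z => by
    rw [Points.map_ofPt, c, ofPt_map_comp]
  refine quasiFiniteAt_of_codim_le_one k.left u ?_ fun η hη hs => ?_
  · rw [hmap] at hy
    exact (hasAt_iff hY (Q := fun U u => ringKrullDim ↥(U.presheaf.stalk u) ≤ 1)
      (fun A B e he z => by rw [ringKrullDim_stalk_eq_of_etale e z]) hb _).1 hy
  · refine (hasAtMor_qf_iff hX hY hf ha hb c η).1 (h _ ((hasAt_codimZero_iff hX ha η).2 hη) ?_)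
    rw [hmap, hmap]
    exact hs.map (Points.continuous_ofPt b)

theorem hasAtMor_qf_of_codimZero_dense (hX : IsAlgSpace X) (hY : IsAlgSpace Y) (hf : LocP @LocallyOfFiniteType f)
    (hN : IsLocNoethSp Y)
    (hd : Dense {x : Points X | HasAtMor (fun U _ h u => ∃ W : U.Opens, u ∈ W ∧ LocallyQuasiFinite (W.ι ≫ h) ∧
      LocallyOfFiniteType (W.ι ≫ h)) f x})
    (x : Points X) (hx : HasAt (fun U u => ringKrullDim ↥(U.presheaf.stalk u) = 0) X x) :
    HasAtMor (fun U _ h u => ∃ W : U.Opens, u ∈ W ∧ LocallyQuasiFinite (W.ι ≫ h) ∧ LocallyOfFiniteType (W.ι ≫ h)) f x := by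
  obtain ⟨U, V, a, b, k, u, ha, hb, c, rfl⟩ := exists_chart_at hX hY f x
  haveI : LocallyOfFiniteType k.left := hf a b k ha hb c
  haveI : IsLocallyNoetherian V.left :=
    etaleLocally_chart (fun _ _ e => isLocallyNoetherian_of_etale e) (fun _ _ e => isLocallyNoetherian_desc e) hN b hb
  haveI : IsLocallyNoetherian U.left := LocallyOfFiniteType.isLocallyNoetherian k.left
  exact mem_of_dense_open ((isOpen_hasAtMor_lqf f).preimage (Points.continuous_ofPt a))
    (hd.preimage (isOpenMap_ofPt_of_etale ha)) u ((hasAt_codimZero_iff hX ha u).1 hx)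

theorem hasAtMor_qf_of_resTrdeg (hX : IsAlgSpace X) (hY : IsAlgSpace Y) (hf : LocP @LocallyOfFiniteType f)
    (x : Points X) (hx : HasAt (fun U u => ringKrullDim ↥(U.presheaf.stalk u) = 0) X x)
    (h : HasAtMor (fun _ _ h u => Dual3.resTrdeg h u = 0) f x) :
    HasAtMor (fun U _ h u => ∃ W : U.Opens, u ∈ W ∧ LocallyQuasiFinite (W.ι ≫ h) ∧ LocallyOfFiniteType (W.ι ≫ h)) f x := by
  obtain ⟨U, V, a, b, k, u, ha, hb, c, rfl, hq⟩ := h
  haveI : LocallyOfFiniteType k.left := hf a b k ha hb c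
  rw [hasAtMor_qf_iff hX hY hf ha hb c]
  exact (quasiFiniteAt_iff_resTrdeg k.left u ((hasAt_codimZero_iff hX ha u).1 hx)).2 hq

theorem fibre_codimZero_iff_qf (hX : IsAlgSpace X) (hY : IsAlgSpace Y) (hf : LocP @LocallyOfFiniteType f)
    (y : Points Y) (hy : HasAt (fun U u => ringKrullDim ↥(U.presheaf.stalk u) = 0) Y y) :
    ((∀ x, Points.map f x = y → HasAt (fun U u => ringKrullDim ↥(U.presheaf.stalk u) = 0) X x) ↔
        (∀ x, Points.map f x = y → HasAtMor (fun U _ h u => ∃ W : U.Opens, u ∈ W ∧ LocallyQuasiFinite (W.ι ≫ h) ∧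
          LocallyOfFiniteType (W.ι ≫ h)) f x)) ∧
      ((∀ x, Points.map f x = y → HasAt (fun U u => ringKrullDim ↥(U.presheaf.stalk u) = 0) X x →
          HasAtMor (fun U _ h u => ∃ W : U.Opens, u ∈ W ∧ LocallyQuasiFinite (W.ι ≫ h) ∧
            LocallyOfFiniteType (W.ι ≫ h)) f x) →
        ∀ x, Points.map f x = y → HasAt (fun U u => ringKrullDim ↥(U.presheaf.stalk u) = 0) X x) := by
  have h₃₁ : (∀ x, Points.map f x = y → HasAt (fun U u => ringKrullDim ↥(U.presheaf.stalk u) = 0) X x →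
        HasAtMor (fun U _ h u => ∃ W : U.Opens, u ∈ W ∧ LocallyQuasiFinite (W.ι ≫ h) ∧
          LocallyOfFiniteType (W.ι ≫ h)) f x) →
      ∀ x, Points.map f x = y → HasAt (fun U u => ringKrullDim ↥(U.presheaf.stalk u) = 0) X x := by
    intro H x hx
    subst hx
    obtain ⟨U, V, a, b, k, u, ha, hb, c, rfl⟩ := exists_chart_at hX hY f x
    haveI : LocallyOfFiniteType k.left := hf a b k ha hb c
    have hmap : ∀ z : ↥U.left, Points.map f (Points.ofPt a z) = Points.ofPt b (k.left z) := fun z => by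
      rw [Points.map_ofPt, c, ofPt_map_comp]
    rw [hmap] at hy
    have hv := (hasAt_codimZero_iff hY hb _).1 hy
    obtain ⟨η, hη, hmax⟩ := GrothLib.AffDom.exists_maximal_point u
    have hfη : k.left η = k.left u := hv _ (hη.map k.left.continuous)
    have hq : k.left.QuasiFiniteAt η := (hasAtMor_qf_iff hX hY hf ha hb c η).1
      (H _ (by rw [hmap, hmap, hfη]) ((hasAt_codimZero_iff hX ha η).2 hmax))
    have : u = η := (eq_of_specializes_of_quasiFiniteAt k.left hq hfη.symm).2 hη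
    subst this
    exact (hasAt_codimZero_iff hX ha u).2 hmax
  refine ⟨⟨fun H x hx => ?_, fun H => h₃₁ fun x hx _ => H x hx⟩, h₃₁⟩
  subst hx
  obtain ⟨U, V, a, b, k, u, ha, hb, c, rfl⟩ := exists_chart_at hX hY f x
  haveI : LocallyOfFiniteType k.left := hf a b k ha hb c
  have hmap : ∀ z : ↥U.left, Points.map f (Points.ofPt a z) = Points.ofPt b (k.left z) := fun z => by
    rw [Points.map_ofPt, c, ofPt_map_comp]
  have hm : ∀ z, k.left z = k.left u → ∀ w, w ⤳ z → w = z := fun z hz =>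
    (hasAt_codimZero_iff hX ha z).1 (H _ (by rw [hmap, hmap, hz]))
  rw [hasAtMor_qf_iff hX hY hf ha hb c]
  exact quasiFiniteAt_of_fibre_maximal k.left u (fun z _ hs => hm u rfl z hs)
    fun z hz hs => (hm z hz u hs).symm

end GrothLib.AlgSp
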