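import Groth.Prelude.Def_AlgSpOX3
import Groth.Agent.Lib.AlgSp.LocP
import Mathlib.AlgebraicGeometry.AlgClosed.Basic
import Mathlib.AlgebraicGeometry.Morphisms.QuasiFinite

/-!
# Lifting geometric points along etale maps

* `exists_section_of_etale_algClosed`, `exists_liftsTo_map`, `nonempty_liftsTo`.
-/

universe u

set_option backward.isDefEq.respectTransparency false

open CategoryTheory CategoryTheory.Limits AlgebraicGeometry

namespace GrothLib.AlgSp

open _root_.AlgSp

variable {S : Scheme.{u}}

/-- Etale schemes over algebraically closed fields have a section through every point. -/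
theorem exists_section_of_etale_algClosed {K : Type u} [Field K] [IsAlgClosed K]
    {str : Spec (CommRingCat.of K) ⟶ S} {W : Over S} (c : W ⟶ Over.mk str) [Etale c.left] (w : ↥W.left) :
    ∃ s : Over.mk str ⟶ W, s ≫ c = 𝟙 _ ∧ s.left (IsLocalRing.closedPoint K) = w := by
  let g : W.left ⟶ Spec (CommRingCat.of K) := c.left
  haveI : Etale g := ‹Etale c.left›
  haveI : LocallyQuasiFinite g := locallyQuasiFinite_of_unramified _
  haveI : DiscreteTopology W.left := by
    have := g.isDiscrete_preimage_singleton (IsLocalRing.closedPoint K)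
    exact isDiscrete_univ_iff.1 (this.mono fun w _ =>
      show g w = IsLocalRing.closedPoint K from Subsingleton.elim (α := PrimeSpectrum K) _ _)
  have hw : IsClosed ({w} : Set W.left) := isClosed_discrete _
  have hpt := pointOfClosedPoint_comp g w hw
  refine ⟨Over.homMk (pointOfClosedPoint g w hw) ?_, Over.OverMorphism.ext hpt, pointOfClosedPoint_apply g w hw _⟩
  change pointOfClosedPoint g w hw ≫ W.hom = str
  rw [← Over.w c]
  change pointOfClosedPoint g w hw ≫ g ≫ str = str
  rw [← Category.assoc, hpt, Category.id_comp]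

variable {X : Sp S} (p : FieldPt X)

/-- Geometric points lift along surjective etale maps of the site. -/
theorem exists_liftsTo_map (hp : p.IsGeometric) {E E' : EtOver X} (g : E' ⟶ E) (u : (FieldPt.liftsTo p).obj E)
    (e : ↥E'.obj.left.left) (he : g.hom.left.left e = u.1.left (IsLocalRing.closedPoint p.K)) :
    ∃ v : (FieldPt.liftsTo p).obj E', (FieldPt.liftsTo p).map g v = u := by
  haveI : IsAlgClosed p.K := hp
  haveI := EtOver.etale_left g
  have sq := IsPullback.of_hasPullback g.hom.left u.1
  have sq' : IsPullback (pullback.fst g.hom.left u.1).left (pullback.snd g.hom.left u.1).left g.hom.left.left u.1.left :=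
    sq.map (Over.forget S)
  haveI : Etale (pullback.snd g.hom.left u.1).left := MorphismProperty.of_isPullback sq' ‹Etale g.hom.left.left›
  obtain ⟨w, -, -⟩ := Scheme.exists_preimage_of_isPullback sq' e (IsLocalRing.closedPoint p.K) he
  obtain ⟨s, hs, -⟩ := exists_section_of_etale_algClosed (K := p.K) (str := p.str) (pullback.snd g.hom.left u.1) w
  have e1 : (s ≫ pullback.fst g.hom.left u.1) ≫ g.hom.left = u.1 := by
    rw [Category.assoc, pullback.condition, reassoc_of% hs]
  refine ⟨⟨s ≫ pullback.fst g.hom.left u.1, ?_⟩, Subtype.ext e1⟩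
  rw [← EtOver.w g, ← Functor.map_comp_assoc, e1]
  exact u.2

/-- Geometric points have etale neighbourhoods. -/
theorem nonempty_liftsTo (hX : IsAlgSpace X) (hp : p.IsGeometric) :
    ∃ (E : EtOver X), Nonempty ((FieldPt.liftsTo p).obj E) := by
  haveI : IsAlgClosed p.K := hp
  obtain ⟨U, a, hae, has⟩ := hX.atlas
  obtain ⟨W, c, d, sq⟩ := exists_isPullback_yon hX.diag p.toHom a
  haveI : Etale c.left := hae.2 _ _ _ sq.flip
  haveI : Surjective c.left := has.2 _ _ _ sq.flip
  obtain ⟨w, -⟩ := c.left.surjective (IsLocalRing.closedPoint p.K)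
  obtain ⟨s, hs, -⟩ := exists_section_of_etale_algClosed (K := p.K) (str := p.str) c w
  refine ⟨EtOver.mk a hae, ⟨⟨s ≫ d, ?_⟩⟩⟩
  change (yon S).map (s ≫ d) ≫ a = p.toHom
  rw [Functor.map_comp, Category.assoc, ← sq.w, ← Functor.map_comp_assoc, hs, CategoryTheory.Functor.map_id,
    Category.id_comp]

end GrothLib.AlgSp
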