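import Groth.Agent.Lib.AlgSp.GeomConn
import Groth.Agent.Lib.AlgSp.GeomNbhd
import Groth.Agent.Lib.Chev28.GeomConnEtale

/-!
# Connected components of fibres under extensions of the field

* `exists_baseExt_chart`: charts of a base change along a morphism of base schemes;
* `baseExt_props`, `connectedComponents_bijective_baseExt`, `connectedSpace_baseExt`;
* `connectedSpace_fibre_of_finite`: connected fibres over algebraic extensions from finite levels.
-/

set_option autoImplicit false
universe u
open CategoryTheory CategoryTheory.Limits AlgebraicGeometry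
set_option backward.isDefEq.respectTransparency false

namespace GrothLib.AlgSp

open _root_.AlgSp

variable {S : Scheme.{u}}

/-- The comparison map of two base changes. -/
theorem exists_baseExt {X Y : Sp S} {f : X ⟶ Y} {T T' : Over S} {g : (yon S).obj T ⟶ Y} (c : T' ⟶ T)
    {g' : (yon S).obj T' ⟶ Y} (hg : (yon S).map c ≫ g = g')
    {P P' : Sp S} {p : P ⟶ X} {q : P ⟶ (yon S).obj T} (sq : IsPullback p q f g) {p' : P' ⟶ X}
    {q' : P' ⟶ (yon S).obj T'} (sq' : IsPullback p' q' f g') :
    ∃ d : P' ⟶ P, d ≫ p = p' ∧ IsPullback d q' q ((yon S).map c) := by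
  subst hg
  exact ⟨sq.lift p' (q' ≫ (yon S).map c) (by rw [Category.assoc]; exact sq'.w), sq.lift_fst _ _ _,
    IsPullback.of_right (by rw [sq.lift_fst]; exact sq') (sq.lift_snd _ _ _) sq⟩

theorem exists_baseExt_chart {T T' : Over S} {c : T' ⟶ T} {P P' : Sp S} (hP : IsAlgSpace P)
    {q : P ⟶ (yon S).obj T} {d : P' ⟶ P} {q' : P' ⟶ (yon S).obj T'} (sd : IsPullback d q' q ((yon S).map c)) :
    ∃ (W W' : Over S) (η : W ⟶ T) (η' : W' ⟶ T') (m : W' ⟶ W) (a : (yon S).obj W ⟶ P)
      (a' : (yon S).obj W' ⟶ P'),
      IsPullback ((yon S).map m) a' a d ∧ Topology.IsQuotientMap (Points.ofPt a) ∧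
        IsPullback m.left η'.left η.left c.left := by
  obtain ⟨W, a, ha, hs⟩ := hP.atlas
  obtain ⟨η, hη⟩ := (yon S).map_surjective (a ≫ q)
  let W' : Over S := Over.mk (pullback.fst η.left c.left ≫ W.hom)
  let p₁ : W' ⟶ W := Over.homMk (pullback.fst η.left c.left) rfl
  let p₂ : W' ⟶ T' := Over.homMk (pullback.snd η.left c.left) (by
    show pullback.snd η.left c.left ≫ T'.hom = pullback.fst η.left c.left ≫ W.hom
    rw [← Over.w η, ← Over.w c, ← Category.assoc, ← pullback.condition, Category.assoc])
  have sqW : IsPullback p₁ p₂ η c :=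
    IsPullback.of_map_of_faithful (Over.forget S) (IsPullback.of_hasPullback η.left c.left)
  obtain ⟨a', hw₁, hw₂⟩ : ∃ a', a' ≫ d = (yon S).map p₁ ≫ a ∧ a' ≫ q' = (yon S).map p₂ :=
    ⟨sd.lift _ _ (by rw [Category.assoc, ← hη, ← Functor.map_comp, sqW.w, Functor.map_comp]),
      sd.lift_fst _ _ _, sd.lift_snd _ _ _⟩
  exact ⟨W, W', η, p₂, p₁, a, a', IsPullback.of_bot (by rw [hw₂, ← hη]; exact isPullback_yon sqW) hw₁.symm sd,
    (isOpenQuotientMap_ofPt ha hs).isQuotientMap, IsPullback.of_hasPullback η.left c.left⟩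

section

variable {T T' : Over S} {c : T' ⟶ T} {P P' : Sp S} (hP : IsAlgSpace P)
  {q : P ⟶ (yon S).obj T} {d : P' ⟶ P} {q' : P' ⟶ (yon S).obj T'} (sd : IsPullback d q' q ((yon S).map c))
include hP sd

theorem surjective_baseExt [Surjective c.left] : Function.Surjective (Points.map d) := by
  obtain ⟨W, W', η, η', m, a, a', sq, hq, hm⟩ := exists_baseExt_chart hP sd
  haveI : Surjective m.left := MorphismProperty.of_isPullback hm.flip ‹Surjective c.left›
  exact surjective_of_chart sq hq.surjective m.left.surjective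

theorem baseExt_props [UniversallyOpen c.left] [GeometricallyConnected c.left] :
    IsOpenMap (Points.map d) ∧ ∀ z, _root_.IsConnected (Points.map d ⁻¹' {z}) := by
  obtain ⟨W, W', η, η', m, a, a', sq, hq, hm⟩ := exists_baseExt_chart hP sd
  haveI : UniversallyOpen m.left := MorphismProperty.of_isPullback hm.flip ‹UniversallyOpen c.left›
  haveI : GeometricallyConnected m.left := MorphismProperty.of_isPullback hm.flip ‹GeometricallyConnected c.left›
  exact ⟨isOpenMap_of_chart sq hq m.left.isOpenMap,
    isConnected_fibre_of_chart sq hq.surjective fun w => m.left.isConnected_preimage_singleton w⟩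

theorem connectedComponents_bijective_baseExt [UniversallyOpen c.left] [GeometricallyConnected c.left] :
    Function.Bijective (Continuous.connectedComponentsMap (Points.continuous_map d)) := by
  obtain ⟨ho, hf⟩ := baseExt_props hP sd
  exact Topology.IsCoinducing.connectedComponentsMap_bijective
    (ho.isQuotientMap (Points.continuous_map d) (fun y => (hf y).nonempty)).isCoinducing hf

theorem connectedSpace_baseExt [UniversallyOpen c.left] [GeometricallyConnected c.left]
    [ConnectedSpace (Points P)] : ConnectedSpace (Points P') := by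
  obtain ⟨ho, hf⟩ := baseExt_props hP sd
  have h := GrothLib.FBase7.isConnected_preimage_of_open ho (Points.continuous_map d)
    (fun y => (hf y).nonempty) hf isConnected_univ
  rw [Set.preimage_univ] at h
  exact connectedSpace_iff_univ.2 h

theorem connectedSpace_of_baseExt [Surjective c.left] [ConnectedSpace (Points P')] : ConnectedSpace (Points P) :=
  (surjective_baseExt hP sd).connectedSpace (Points.continuous_map d)

end

theorem geometricallyConnected_SpecMap (K L : Type u) [Field K] [Field L] [Algebra K L] [IsSepClosed K] :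
    GeometricallyConnected (Spec.map (CommRingCat.ofHom (algebraMap K L))) := by
  have h := GrothLib.BaseChange.geometricallyIrreducible_spec_of_isSepClosed K L
  refine ⟨fun F _ y Z fst snd hp => ?_⟩
  have := h.geometrically_irreducibleSpace _ _ _ hp
  infer_instance

theorem surjective_to_field {K : Type u} [Field K] {str : Spec (CommRingCat.of K) ⟶ S} {T : Over S}
    [Nonempty ↥T.left] (c : T ⟶ Over.mk str) : Surjective c.left := by
  haveI : Subsingleton ↥(Over.mk str).left := inferInstanceAs (Subsingleton (PrimeSpectrum K))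
  exact ⟨fun y => ⟨Classical.arbitrary _, Subsingleton.elim _ _⟩⟩

/-- The components of a fibre over an algebraically closed field do not change under field extension. -/
theorem card_connectedComponents_baseExt {K L : Type u} [Field K] [Field L] [IsSepClosed K]
    {str : Spec (CommRingCat.of K) ⟶ S} {str' : Spec (CommRingCat.of L) ⟶ S} (c : Over.mk str' ⟶ Over.mk str)
    {P P' : Sp S} (hP : IsAlgSpace P) {q : P ⟶ (yon S).obj (Over.mk str)} {d : P' ⟶ P}
    {q' : P' ⟶ (yon S).obj (Over.mk str')} (sd : IsPullback d q' q ((yon S).map c)) :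
    ENat.card (_root_.ConnectedComponents (Points P')) = ENat.card (_root_.ConnectedComponents (Points P)) := by
  obtain ⟨φ, hφ⟩ := Spec.map_surjective c.left
  letI : Algebra K L := φ.hom.toAlgebra
  haveI : GeometricallyConnected c.left := hφ ▸ geometricallyConnected_SpecMap K L
  haveI : UniversallyOpen c.left := hφ ▸ (inferInstanceAs (UniversallyOpen
    (Spec.map (CommRingCat.ofHom (algebraMap K L)))))
  exact ENat.card_congr (Equiv.ofBijective _ (connectedComponents_bijective_baseExt hP sd))

/-- A base change along an algebraic field extension is connected if all finite levels are. -/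
theorem connectedSpace_fibre_of_finite {P : Sp S} (hP : IsAlgSpace P)
    {K : Type u} [Field K] {str : Spec (CommRingCat.of K) ⟶ S} (q : P ⟶ (yon S).obj (Over.mk str))
    (L : Type u) [Field L] [Algebra K L] [Algebra.IsAlgebraic K L]
    (h : ∀ E : IntermediateField K L, FiniteDimensional K E → ConnectedSpace (Points (pullback q
      ((yon S).map (Over.homMk (U := Over.mk (Spec.map (CommRingCat.ofHom (algebraMap K E)) ≫ str))
        (V := Over.mk str) (Spec.map (CommRingCat.ofHom (algebraMap K E))) rfl))))) :
    ConnectedSpace (Points (pullback q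
      ((yon S).map (Over.homMk (U := Over.mk (Spec.map (CommRingCat.ofHom (algebraMap K L)) ≫ str))
        (V := Over.mk str) (Spec.map (CommRingCat.ofHom (algebraMap K L))) rfl)))) := by
  classical
  let T : Over S := Over.mk str
  let TL : Over S := Over.mk (Spec.map (CommRingCat.ofHom (algebraMap K L)) ≫ str)
  let cL : TL ⟶ T := Over.homMk (U := TL) (V := T) (Spec.map (CommRingCat.ofHom (algebraMap K L))) rfl
  let TE : IntermediateField K L → Over S := fun E =>
    Over.mk (Spec.map (CommRingCat.ofHom (algebraMap K E)) ≫ str)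
  let e : ∀ E, TE E ⟶ T := fun E =>
    Over.homMk (U := TE E) (V := T) (Spec.map (CommRingCat.ofHom (algebraMap K E))) rfl
  let cE : ∀ E, TL ⟶ TE E := fun E =>
    Over.homMk (U := TL) (V := TE E) (Spec.map (CommRingCat.ofHom (algebraMap E L))) (by
      show Spec.map _ ≫ Spec.map _ ≫ str = Spec.map _ ≫ str
      rw [← Category.assoc, GrothLib.BaseChange.spec_tower K E L])
  have hce : ∀ E, cE E ≫ e E = cL := fun E =>
    Over.OverMorphism.ext (GrothLib.BaseChange.spec_tower K E L)
  have sqL := IsPullback.of_hasPullback q ((yon S).map cL)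
  have sqE := fun E => IsPullback.of_hasPullback q ((yon S).map (e E))
  have hPE : ∀ E, IsAlgSpace (pullback q ((yon S).map (e E))) := fun E =>
    isAlgSpace_pullback' (IsAlgSpace.yon_obj T) hP (IsAlgSpace.yon_obj (TE E)) _ _
  have hd : ∀ E, ∃ d, d ≫ pullback.fst q ((yon S).map (e E)) = pullback.fst q ((yon S).map cL) ∧
      IsPullback d (pullback.snd q ((yon S).map cL)) (pullback.snd q ((yon S).map (e E))) ((yon S).map (cE E)) :=
    fun E => exists_baseExt (cE E) (by rw [← Functor.map_comp, hce]) (sqE E) sqL
  choose d hd₁ sd using hd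
  haveI : Nonempty ↥TL.left := inferInstanceAs (Nonempty (PrimeSpectrum L))
  haveI hne : Nonempty (Points (pullback q ((yon S).map cL))) := by
    haveI := surjective_to_field (cE ⊥)
    obtain ⟨y⟩ := (h ⊥ inferInstance).toNonempty
    exact ⟨(surjective_baseExt (hPE ⊥) (sd ⊥) y).choose⟩
  haveI : PreconnectedSpace (Points (pullback q ((yon S).map cL))) := by
    refine preconnectedSpace_iff_clopen.2 fun A hA => ?_
    by_contra hne
    push_neg at hne
    obtain ⟨⟨p₀, hp₀⟩, hAu⟩ := hne
    obtain ⟨p₁, hp₁⟩ := (Set.ne_univ_iff_exists_notMem A).1 hAu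
    obtain ⟨W, a, ha, hs⟩ := hP.atlas
    obtain ⟨η, hη⟩ := (yon S).map_surjective (a ≫ q)
    letI : W.left.Over (Spec (CommRingCat.of K)) := ⟨η.left⟩
    have mkchart : ∀ (T' : Over S) (c : T' ⟶ T) (P' : Sp S) (d' : P' ⟶ P) (q' : P' ⟶ (yon S).obj T')
        (_ : IsPullback d' q' q ((yon S).map c)),
        ∃ (p₁ : Over.mk (pullback.fst η.left c.left ≫ W.hom) ⟶ W)
          (p₂ : Over.mk (pullback.fst η.left c.left ≫ W.hom) ⟶ T')
          (a' : (yon S).obj (Over.mk (pullback.fst η.left c.left ≫ W.hom)) ⟶ P'),
          p₁.left = pullback.fst η.left c.left ∧ p₂.left = pullback.snd η.left c.left ∧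
          a' ≫ q' = (yon S).map p₂ ∧ IsPullback ((yon S).map p₁) a' a d' := by
      intro T' c P' d' q' sd'
      let W' : Over S := Over.mk (pullback.fst η.left c.left ≫ W.hom)
      let p₁ : W' ⟶ W := Over.homMk (pullback.fst η.left c.left) rfl
      let p₂ : W' ⟶ T' := Over.homMk (pullback.snd η.left c.left) (by
        show pullback.snd η.left c.left ≫ T'.hom = pullback.fst η.left c.left ≫ W.hom
        rw [← Over.w η, ← Over.w c, ← Category.assoc, ← pullback.condition, Category.assoc])
      have sqW : IsPullback p₁ p₂ η c :=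
        IsPullback.of_map_of_faithful (Over.forget S) (IsPullback.of_hasPullback η.left c.left)
      obtain ⟨a', hw₁, hw₂⟩ : ∃ a', a' ≫ d' = (yon S).map p₁ ≫ a ∧ a' ≫ q' = (yon S).map p₂ :=
        ⟨sd'.lift _ _ (by rw [Category.assoc, ← hη, ← Functor.map_comp, sqW.w, Functor.map_comp]),
          sd'.lift_fst _ _ _, sd'.lift_snd _ _ _⟩
      exact ⟨p₁, p₂, a', rfl, rfl, hw₂, IsPullback.of_bot (by rw [hw₂, ← hη]; exact isPullback_yon sqW) hw₁.symm sd'⟩
    obtain ⟨pL₁, pL₂, aL, hpL₁, hpL₂, hqL, saL⟩ := mkchart TL cL _ _ _ sqL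
    obtain ⟨z₂, hz₂⟩ := surjective_ofPt_of_repWith (repWith_of_isPullback saL hs) p₁
    let A' : Set ↥(Curv2.bc K W.left L) := Points.ofPt aL ⁻¹' A
    have hA' : IsClosed A' := hA.isClosed.preimage (Points.continuous_ofPt _)
    have key : ∀ E : IntermediateField K L, FiniteDimensional K E →
        ∃ c ∈ A', GrothLib.BaseChange.bcMap K W.left E L c = GrothLib.BaseChange.bcMap K W.left E L z₂ := by
      intro E hE
      haveI := h E hE
      haveI : Algebra.IsAlgebraic E L := Algebra.IsAlgebraic.tower_top (K := K) E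
      obtain ⟨pE₁, pE₂, aE, hpE₁, hpE₂, hqE, saE⟩ := mkchart _ (e E) _ _ _ (sqE E)
      let m : Over.mk (pullback.fst η.left cL.left ≫ W.hom) ⟶ Over.mk (pullback.fst η.left (e E).left ≫ W.hom) :=
        Over.homMk (GrothLib.BaseChange.bcMap K W.left E L) (by
          show GrothLib.BaseChange.bcMap K W.left E L ≫ Curv2.bcFst K W.left E ≫ W.hom = _
          rw [GrothLib.BaseChange.bcMap_fst_assoc]; rfl)
      have hm₁ : m ≫ pE₁ = pL₁ := Over.OverMorphism.ext (by
        rw [Over.comp_left, hpE₁, hpL₁]; exact GrothLib.BaseChange.bcMap_fst K W.left E L)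
      have hm₂ : m ≫ pE₂ = pL₂ ≫ cE E := Over.OverMorphism.ext (by
        rw [Over.comp_left, Over.comp_left, hpE₂, hpL₂]; exact GrothLib.BaseChange.bcMap_snd K W.left E L)
      have sa : IsPullback ((yon S).map m) aL aE (d E) := by
        refine IsPullback.of_right (h₁₂ := (yon S).map pE₁) (h₂₂ := pullback.fst q ((yon S).map (e E))) ?_ ?_ saE
        · rw [← Functor.map_comp, hm₁, hd₁]
          exact saL
        · apply (sqE E).hom_ext
          · rw [Category.assoc, Category.assoc, hd₁, ← saL.w, ← saE.w, ← Functor.map_comp_assoc, hm₁]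
          · rw [Category.assoc, Category.assoc, (sd E).w, reassoc_of% hqL, hqE, ← Functor.map_comp,
              ← Functor.map_comp, hm₂]
      have hq : Topology.IsQuotientMap (Points.ofPt aE) :=
        (isOpenQuotientMap_ofPt (repWith_of_isPullback saE ha) (repWith_of_isPullback saE hs)).isQuotientMap
      have hu : Points.map (d E) '' A = Set.univ :=
        IsClopen.eq_univ ⟨isClosedMap_of_chart sa hq (GrothLib.BaseChange.bcMap K W.left E L).isClosedMap _ hA.isClosed,
          isOpenMap_of_chart sa hq (GrothLib.BaseChange.bcMap K W.left E L).isOpenMap _ hA.isOpen⟩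
          ⟨_, p₀, hp₀, rfl⟩
      have h1 : m.left z₂ ∈ m.left '' (Points.ofPt aL ⁻¹' A) := by
        rw [← ofPt_preimage_image sa A, hu]
        trivial
      exact h1
    let x := Curv2.bcFst K W.left L z₂
    let F := Curv2.bcFst K W.left L ⁻¹' {x}
    have hF : IsCompact F := (Curv2.bcFst K W.left L).isCompact_preimage_singleton x
    let R : {E : IntermediateField K L // FiniteDimensional K E} → Set (Curv2.bc K W.left L) :=
      fun E => A' ∩ GrothLib.BaseChange.bcMap K W.left E.1 L ⁻¹'
        closure {GrothLib.BaseChange.bcMap K W.left E.1 L z₂}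
    have hne : (F ∩ ⋂ E, R E).Nonempty := by
      refine hF.inter_iInter_nonempty R (fun E => hA'.inter
        (isClosed_closure.preimage (GrothLib.BaseChange.bcMap K W.left E.1 L).continuous)) fun u => ?_
      let E₀ : IntermediateField K L := ⨆ E ∈ u, E.1
      have : FiniteDimensional K E₀ := by
        have := fun E : {E : IntermediateField K L // FiniteDimensional K E} => E.2
        exact IntermediateField.finiteDimensional_iSup_of_finset
      obtain ⟨c, hc, hc'⟩ := key E₀ this
      refine ⟨c, ?_, Set.mem_iInter₂.mpr fun E hE => ⟨hc, ?_⟩⟩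
      · show Curv2.bcFst K W.left L c = x
        simp only [x]
        rw [← GrothLib.BaseChange.bcMap_fst K W.left E₀ L, Scheme.Hom.comp_apply, hc', ← Scheme.Hom.comp_apply]
      · have hle : E.1 ≤ E₀ := le_iSup₂ (f := fun E (_ : E ∈ u) => E.1) E hE
        let _ : Algebra E.1 E₀ := (IntermediateField.inclusion hle).toRingHom.toAlgebra
        have : IsScalarTower K E.1 E₀ := IsScalarTower.of_algebraMap_eq fun _ => rfl
        have : IsScalarTower E.1 E₀ L := IsScalarTower.of_algebraMap_eq fun _ => rfl
        apply subset_closure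
        show GrothLib.BaseChange.bcMap K W.left E.1 L c = GrothLib.BaseChange.bcMap K W.left E.1 L z₂
        rw [← GrothLib.BaseChange.bcMap_comp K W.left E.1 E₀ L, Scheme.Hom.comp_apply, hc', ← Scheme.Hom.comp_apply]
    obtain ⟨c, hcF, hc⟩ := hne
    have hceq : c = z₂ := GrothLib.BaseChange.eq_of_bcMap_eq K W.left L c z₂ hcF fun E hE => by
      have hsp : GrothLib.BaseChange.bcMap K W.left E L z₂ ⤳ GrothLib.BaseChange.bcMap K W.left E L c :=
        specializes_iff_mem_closure.mpr (Set.mem_iInter.mp hc ⟨E, hE⟩).2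
      have := hE
      refine (GrothLib.BaseChange.eq_of_specializes_of_finite K W.left E hsp ?_).symm
      rw [← Scheme.Hom.comp_apply, ← Scheme.Hom.comp_apply, GrothLib.BaseChange.bcMap_fst]
      exact hcF.symm
    exact hp₁ (hz₂ ▸ (hceq ▸ (Set.mem_iInter.mp hc ⟨⊥, inferInstance⟩).1 : z₂ ∈ A'))
  exact ⟨hne⟩

end GrothLib.AlgSp
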