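import Groth.Agent.Lib.Constr.Scheme
import Groth.Agent.Lib.AlgSp.Immersion

/-!
# Locally constructible sets and charts
-/

universe u

open CategoryTheory CategoryTheory.Limits AlgebraicGeometry Opposite Topology

namespace GrothLib.AlgSp

open _root_.AlgSp

variable {S : Scheme.{u}} {F : Sp S}

theorem isLocallyConstructible_of_preimage {X Y : Scheme.{u}} (f : X ⟶ Y) [LocallyOfFinitePresentation f]
    [Surjective f] {E : Set Y} (h : IsLocallyConstructible (f ⁻¹' E)) : IsLocallyConstructible E := by
  rw [GrothLib.Constr.isLocallyConstructible_iff_ind_and_pro] at h ⊢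
  refine ⟨?_, ?_⟩
  · have := GrothLib.Constr.isIndConstructible_image f h.1
    rwa [Set.image_preimage_eq _ f.surjective] at this
  · rw [GrothLib.Constr.isProConstructible_iff_compl] at h ⊢
    have := GrothLib.Constr.isIndConstructible_image f (E := f ⁻¹' Eᶜ) (by rw [Set.preimage_compl]; exact h.2)
    rwa [Set.image_preimage_eq _ f.surjective] at this

theorem isLocallyConstructible_of_chart {U V : Over S} {p : (yon S).obj U ⟶ F} (hp : RepWith @Etale p)
    (hs : RepWith @Surjective p) {E : Set (Points F)} (hE : IsLocallyConstructible (Points.ofPt p ⁻¹' E))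
    (g : (yon S).obj V ⟶ F) : IsLocallyConstructible (Points.ofPt g ⁻¹' E) := by
  obtain ⟨W, w₁, w₂, sq⟩ := exists_isPullback_of_representable hp.1 g
  obtain ⟨w₁, rfl⟩ := (yon S).map_surjective w₁
  have : Etale w₂.left := hp.2 _ _ _ sq
  have : Surjective w₂.left := hs.2 _ _ _ sq
  refine isLocallyConstructible_of_preimage w₂.left ?_
  have e : w₂.left ⁻¹' (Points.ofPt g ⁻¹' E) = w₁.left ⁻¹' (Points.ofPt p ⁻¹' E) := by
    ext r
    simp only [Set.mem_preimage, ← ofPt_map_comp, sq.w]
  rw [e]
  exact GrothLib.Constr.isLocallyConstructible_preimage _ hE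

end GrothLib.AlgSp
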