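import Groth.Agent.Lib.AlgSp.BootstrapFamily
import Groth.Agent.Lib.AlgSp.OpenSub
import Mathlib.CategoryTheory.Sites.LocallyBijective

/-!
# Coproducts of fppf sheaves

* `mono_inj`, `isEmpty_of_inj_eq`, `exists_lift_inj`: coproducts are disjoint and computed locally;
* `repWith_inj`: coprojections are representable by open and closed immersions;
* `isAlgSpace_cofan_pt`.
-/

universe u

open CategoryTheory CategoryTheory.Limits AlgebraicGeometry Opposite

namespace GrothLib.AlgSp

open _root_.AlgSp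

variable {S : Scheme.{u}}

theorem exists_flat_mem_cover' {U : Over S} {Sv : Sieve U} (h : Sv ∈ J S U) (x : ↥U.left) :
    ∃ (V : Over S) (c : V ⟶ U), Sv.arrows c ∧ Flat c.left ∧ LocallyOfFinitePresentation c.left ∧
      x ∈ Set.range c.left := by
  obtain ⟨R, hR, hle⟩ := Precoverage.mem_toGrothendieck_iff_of_isStableUnderComposition.1
    (show Sieve.overEquiv U Sv ∈ Scheme.fppfTopology U.left from h)
  obtain ⟨Y, f, hf, y, hy⟩ := Scheme.JointlySurjective.exists_eq
    (K := Scheme.precoverage (@Flat ⊓ @LocallyOfFinitePresentation)) R hR x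
  exact ⟨Over.mk (f ≫ U.hom), Over.homMk f rfl, (Sieve.overEquiv_iff _ f).1 (hle _ _ hf),
    (hR.2 hf).1, (hR.2 hf).2, y, hy⟩

variable {ι : Type u} {F : ι → Sp S}

/-- The coproduct presheaf. -/
@[simps]
def sigmaPsh (F : ι → Sp S) : (Over S)ᵒᵖ ⥤ Type (u + 1) where
  obj T := Σ i, (F i).obj.obj T
  map φ := ↾fun p => ⟨p.1, (F p.1).obj.map φ p.2⟩
  map_id T := ConcreteCategory.hom_ext _ _ fun p =>
    show (⟨p.1, (F p.1).obj.map (𝟙 T) p.2⟩ : Σ i, (F i).obj.obj T) = p from
      congrArg (Sigma.mk p.1) (by simp)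
  map_comp φ ψ := ConcreteCategory.hom_ext _ _ fun p =>
    show (⟨p.1, (F p.1).obj.map (φ ≫ ψ) p.2⟩ : Σ i, (F i).obj.obj _) =
        ⟨p.1, (F p.1).obj.map ψ ((F p.1).obj.map φ p.2)⟩ from
      congrArg (Sigma.mk p.1) (by simp)

/-- The comparison map. -/
@[simps]
def toPt (c : Cofan F) : sigmaPsh F ⟶ c.pt.obj where
  app T := ↾fun p => (c.inj p.1).hom.app T p.2
  naturality T T' φ := by
    ext p
    exact NatTrans.naturality_apply (c.inj p.1).hom φ p.2

variable {c : Cofan F} (hc : IsColimit c)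

include hc in
theorem W_toPt : (J S).W (toPt c) := by
  intro Z hZ
  constructor
  · intro a b hab
    have : (⟨a⟩ : c.pt ⟶ ⟨Z, hZ⟩) = ⟨b⟩ := Cofan.IsColimit.hom_ext hc _ _ fun i => by
      apply Sheaf.hom_ext
      ext T y
      exact congrArg (fun m : sigmaPsh F ⟶ Z => m.app T ⟨i, y⟩) hab
    exact congrArg (fun m => m.hom) this
  · intro ψ
    let l : ∀ i, F i ⟶ ⟨Z, hZ⟩ := fun i => ⟨{
      app := fun T => ↾fun y => ψ.app T ⟨i, y⟩
      naturality := fun T T' φ => by
        ext y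
        exact NatTrans.naturality_apply ψ φ (⟨i, y⟩ : Σ j, (F j).obj.obj T) }⟩
    refine ⟨(Cofan.IsColimit.desc hc l).hom, ?_⟩
    ext T ⟨i, y⟩
    exact congrArg (fun m : F i ⟶ ⟨Z, hZ⟩ => m.hom.app T y) (Cofan.IsColimit.fac hc l i)

include hc

theorem isEmpty_of_inj_eq {i j : ι} (hij : i ≠ j) {T : Over S} {a : (yon S).obj T ⟶ F i}
    {b : (yon S).obj T ⟶ F j} (h : a ≫ c.inj i = b ≫ c.inj j) : IsEmpty ↥T.left := by
  refine ⟨fun t => ?_⟩
  have := (((J S).W_iff_isLocallyBijective (toPt c)).1 (W_toPt hc)).1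
  have h' : (toPt c).app (op T) ⟨i, (J S).uliftYonedaEquiv.{u + 1} a⟩ =
      (toPt c).app (op T) ⟨j, (J S).uliftYonedaEquiv.{u + 1} b⟩ := by
    have := congrArg ((J S).uliftYonedaEquiv.{u + 1}) h
    rw [GrothendieckTopology.uliftYonedaEquiv_comp, GrothendieckTopology.uliftYonedaEquiv_comp] at this
    exact this
  obtain ⟨V, d, hd, -, -, -⟩ :=
    exists_flat_mem_cover' (Presheaf.equalizerSieve_mem (J S) (toPt c) _ _ h') t
  exact hij (congrArg Sigma.fst hd)

theorem mono_inj (i : ι) : Mono (c.inj i) := by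
  refine mono_of_yon fun T a b h => ?_
  have := (((J S).W_iff_isLocallyBijective (toPt c)).1 (W_toPt hc)).1
  have h' : (toPt c).app (op T) ⟨i, (J S).uliftYonedaEquiv.{u + 1} a⟩ =
      (toPt c).app (op T) ⟨i, (J S).uliftYonedaEquiv.{u + 1} b⟩ := by
    have := congrArg ((J S).uliftYonedaEquiv.{u + 1}) h
    rw [GrothendieckTopology.uliftYonedaEquiv_comp, GrothendieckTopology.uliftYonedaEquiv_comp] at this
    exact this
  apply (J S).uliftYonedaEquiv.{u + 1}.injective
  exact (((isSheaf_iff_isSheaf_of_type _ _).1 (F i).property _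
    (Presheaf.equalizerSieve_mem (J S) (toPt c) _ _ h')).isSeparatedFor).ext
    fun V d hd => eq_of_heq (Sigma.mk.inj_iff.1 hd).2

/-- Maps into a coproduct locally factor through a coprojection. -/
theorem exists_lift_inj {T : Over S} (g : (yon S).obj T ⟶ c.pt) (t : ↥T.left) :
    ∃ (i : ι) (V : Over S) (d : V ⟶ T) (l : (yon S).obj V ⟶ F i), Flat d.left ∧
      LocallyOfFinitePresentation d.left ∧ t ∈ Set.range d.left ∧ l ≫ c.inj i = (yon S).map d ≫ g := by
  have := (((J S).W_iff_isLocallyBijective (toPt c)).1 (W_toPt hc)).2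
  obtain ⟨V, d, ⟨⟨i, y⟩, hy⟩, hf, hp, ht⟩ := exists_flat_mem_cover'
    (Presheaf.imageSieve_mem (J S) (toPt c) (U := op T) ((J S).uliftYonedaEquiv.{u + 1} g)) t
  refine ⟨i, V, d, (J S).uliftYonedaEquiv.{u + 1}.symm y, hf, hp, ht, ?_⟩
  apply (J S).uliftYonedaEquiv.{u + 1}.injective
  rw [GrothendieckTopology.uliftYonedaEquiv_comp, Equiv.apply_symm_apply,
    ← GrothendieckTopology.uliftYonedaEquiv_naturality]
  exact hy

omit hc in
/-- Points over which a map into a coproduct locally factors through a coprojection. -/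
def compSet (c : Cofan F) {T : Over S} (g : (yon S).obj T ⟶ c.pt) (i : ι) : Set ↥T.left :=
  {t | ∃ (V : Over S) (d : V ⟶ T) (l : (yon S).obj V ⟶ F i), Flat d.left ∧
    LocallyOfFinitePresentation d.left ∧ t ∈ Set.range d.left ∧ l ≫ c.inj i = (yon S).map d ≫ g}

omit hc in
theorem isOpen_compSet {T : Over S} (g : (yon S).obj T ⟶ c.pt) (i : ι) : IsOpen (compSet c g i) := by
  refine isOpen_iff_forall_mem_open.2 ?_
  rintro t ⟨V, d, l, hf, hp, ht, hl⟩
  exact ⟨Set.range d.left, fun t' ht' => ⟨V, d, l, hf, hp, ht', hl⟩, d.left.isOpenMap.isOpen_range, ht⟩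

theorem iUnion_compSet {T : Over S} (g : (yon S).obj T ⟶ c.pt) : ⋃ i, compSet c g i = Set.univ :=
  Set.eq_univ_of_forall fun t => by
    obtain ⟨i, h⟩ := exists_lift_inj hc g t
    exact Set.mem_iUnion.2 ⟨i, h⟩

theorem mem_compSet {T W : Over S} (g : (yon S).obj T ⟶ c.pt) (b : W ⟶ T) {i : ι}
    (a : (yon S).obj W ⟶ F i) (h : a ≫ c.inj i = (yon S).map b ≫ g) (w : ↥W.left) :
    b.left w ∈ compSet c g i := by
  obtain ⟨j, hj⟩ := exists_lift_inj hc g (b.left w)
  by_cases hij : j = i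
  · exact hij ▸ hj
  · obtain ⟨V, d, l, -, -, ⟨v, hv⟩, hl⟩ := hj
    obtain ⟨z, -, -⟩ := Scheme.Pullback.exists_preimage_pullback (f := d.left) (g := b.left) v w hv
    let P : Over S := Over.mk (pullback.fst d.left b.left ≫ V.hom)
    let p₁ : P ⟶ V := Over.homMk (pullback.fst d.left b.left) rfl
    let p₂ : P ⟶ W := Over.homMk (pullback.snd d.left b.left) (by
      change pullback.snd _ _ ≫ W.hom = pullback.fst _ _ ≫ V.hom
      rw [← Over.w b, ← Over.w d, pullback.condition_assoc])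
    have e : p₁ ≫ d = p₂ ≫ b := Over.OverMorphism.ext pullback.condition
    have := isEmpty_of_inj_eq hc hij (T := P) (a := (yon S).map p₁ ≫ l) (b := (yon S).map p₂ ≫ a) (by
      rw [Category.assoc, Category.assoc, hl, h, ← Functor.map_comp_assoc, ← Functor.map_comp_assoc, e])
    exact this.elim z

theorem disjoint_compSet {T : Over S} (g : (yon S).obj T ⟶ c.pt) {i j : ι} (hij : i ≠ j) :
    Disjoint (compSet c g i) (compSet c g j) := by
  rw [Set.disjoint_left]
  rintro t ⟨V, d, l, -, -, ⟨v, rfl⟩, hl⟩ ⟨V', d', l', -, -, ⟨v', hv'⟩, hl'⟩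
  obtain ⟨z, -, -⟩ := Scheme.Pullback.exists_preimage_pullback (f := d.left) (g := d'.left) v v' hv'.symm
  let P : Over S := Over.mk (pullback.fst d.left d'.left ≫ V.hom)
  let p₁ : P ⟶ V := Over.homMk (pullback.fst d.left d'.left) rfl
  let p₂ : P ⟶ V' := Over.homMk (pullback.snd d.left d'.left) (by
    change pullback.snd _ _ ≫ V'.hom = pullback.fst _ _ ≫ V.hom
    rw [← Over.w d', ← Over.w d, pullback.condition_assoc])
  have e : p₁ ≫ d = p₂ ≫ d' := Over.OverMorphism.ext pullback.condition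
  have := isEmpty_of_inj_eq hc hij (T := P) (a := (yon S).map p₁ ≫ l) (b := (yon S).map p₂ ≫ l') (by
    rw [Category.assoc, Category.assoc, hl, hl', ← Functor.map_comp_assoc, ← Functor.map_comp_assoc, e])
  exact this.elim z

theorem isClosed_compSet {T : Over S} (g : (yon S).obj T ⟶ c.pt) (i : ι) : IsClosed (compSet c g i) := by
  have e : (compSet c g i)ᶜ = ⋃ j : {j // j ≠ i}, compSet c g j.1 := by
    ext t
    constructor
    · intro ht
      obtain ⟨j, hj⟩ := exists_lift_inj hc g t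
      exact Set.mem_iUnion.2 ⟨⟨j, fun h => ht (h ▸ hj)⟩, hj⟩
    · intro ht
      obtain ⟨⟨j, hij⟩, hj⟩ := Set.mem_iUnion.1 ht
      exact (Set.disjoint_left.1 (disjoint_compSet hc g hij) hj)
  rw [← isOpen_compl_iff, e]
  exact isOpen_iUnion fun j => isOpen_compSet g j.1

/-- The pullback of a coprojection along a map from a scheme is an open subscheme. -/
theorem exists_isPullback_inj (i : ι) {T : Over S} (g : (yon S).obj T ⟶ c.pt) :
    ∃ (V : Over S) (fst : (yon S).obj V ⟶ F i) (snd : V ⟶ T),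
      IsPullback fst ((yon S).map snd) (c.inj i) g ∧ IsOpenImmersion snd.left ∧
        Set.range snd.left = compSet c g i := by
  have := mono_inj hc i
  let O : T.left.Opens := ⟨compSet c g i, isOpen_compSet g i⟩
  let j : Over.mk (O.ι ≫ T.hom) ⟶ T := Over.homMk O.ι rfl
  let p := pullback.snd (c.inj i) ((yon S).map j ≫ g)
  have hp : Sheaf.IsLocallySurjective p := isLocallySurjective_of_point_lifts fun W b w => by
    obtain ⟨b, rfl⟩ := (yon S).map_surjective b
    obtain ⟨V, d, l, hf, hfp, ⟨v, hv⟩, hl⟩ : (b ≫ j).left w ∈ compSet c g i := (b.left w).2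
    have sq := IsPullback.of_hasPullback d (b ≫ j)
    obtain ⟨z, -, hz⟩ := Scheme.exists_preimage_of_isPullback (sq.map (Over.forget S)) v w hv
    refine ⟨pullback d (b ≫ j), pullback.snd d (b ≫ j),
      pullback.lift ((yon S).map (pullback.fst d (b ≫ j)) ≫ l) ((yon S).map (pullback.snd d (b ≫ j) ≫ b)) ?_,
      MorphismProperty.of_isPullback (sq.map (Over.forget S)) hf,
      MorphismProperty.of_isPullback (sq.map (Over.forget S)) hfp, ⟨z, hz⟩, ?_⟩
    · rw [Category.assoc, hl, ← Functor.map_comp_assoc, sq.w, ← Functor.map_comp_assoc, Category.assoc]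
    · rw [pullback.lift_snd, Functor.map_comp]
  have : Epi p := Sheaf.epi_of_isLocallySurjective p
  have : IsIso p := isIso_of_mono_of_epi p
  refine ⟨_, inv p ≫ pullback.fst _ _, j,
    isPullback_of_yon (by rw [Category.assoc, pullback.condition, IsIso.inv_hom_id_assoc]) fun W a b hab => ?_,
    inferInstanceAs (IsOpenImmersion O.ι), Scheme.Opens.range_ι O⟩
  obtain ⟨b, rfl⟩ := (yon S).map_surjective b
  have hb : Set.range b.left ⊆ Set.range O.ι := by
    rintro _ ⟨w, rfl⟩
    rw [Scheme.Opens.range_ι]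
    exact mem_compSet hc g b a hab w
  let k : W ⟶ Over.mk (O.ι ≫ T.hom) := Over.homMk (IsOpenImmersion.lift O.ι b.left hb) (by
    change IsOpenImmersion.lift O.ι b.left hb ≫ O.ι ≫ T.hom = W.hom
    rw [← Category.assoc, IsOpenImmersion.lift_fac]
    exact Over.w b)
  have hk : k ≫ j = b := Over.OverMorphism.ext (IsOpenImmersion.lift_fac _ _ _)
  refine ⟨(yon S).map k, ⟨?_, by rw [← Functor.map_comp, hk]⟩, ?_⟩
  · rw [← cancel_mono (c.inj i), Category.assoc, Category.assoc, pullback.condition, IsIso.inv_hom_id_assoc,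
      ← Functor.map_comp_assoc, hk, hab]
  · rintro k' ⟨-, hk'⟩
    obtain ⟨k', rfl⟩ := (yon S).map_surjective k'
    congr 1
    have : Mono j.left := inferInstanceAs (Mono O.ι)
    have : Mono j := (Over.forget S).mono_of_mono_map this
    rw [← cancel_mono j, hk]
    exact (yon S).map_injective (by rw [Functor.map_comp]; exact hk')

theorem repWith_inj (i : ι) : RepWith (@IsOpenImmersion ⊓ @IsClosedImmersion) (c.inj i) :=
  repWith_mk fun T g => by
    obtain ⟨V, fst, snd, sq, ho, hr⟩ := exists_isPullback_inj hc i g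
    refine ⟨V, fst, snd, sq, ho, ?_⟩
    exact IsClosedImmersion.of_isPreimmersion snd.left (hr ▸ isClosed_compSet hc g i)

omit hc in
/-- A sheaf covered by algebraic spaces by maps representable flat and locally of finite presentation. -/
theorem isAlgSpace_of_rep_family {G : Sp S} (f : ∀ i, F i ⟶ G) (h : ∀ i, IsAlgSpace (F i))
    (hr : ∀ i, RepWith (@Flat ⊓ @LocallyOfFinitePresentation) (f i))
    (hl : ∀ (T : Over S) (g : (yon S).obj T ⟶ G) (t : ↥T.left), ∃ (i : ι) (V : Over S) (d : V ⟶ T)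
      (l : (yon S).obj V ⟶ F i), Flat d.left ∧ LocallyOfFinitePresentation d.left ∧ t ∈ Set.range d.left ∧
        l ≫ f i = (yon S).map d ≫ g) : IsAlgSpace G := by
  choose U a ha hs using fun i => (h i).atlas
  have ha' : ∀ i, RepWith (@Flat ⊓ @LocallyOfFinitePresentation) (a i) := fun i =>
    repWith_mono (ha i) fun _ _ g (hg : Etale g) => ⟨inferInstance, inferInstance⟩
  have hπ : ∀ i, RepWith (@Flat ⊓ @LocallyOfFinitePresentation) (a i ≫ f i) := fun i =>
    repWith_comp (ha' i) (hr i)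
  refine isAlgSpace_of_scheme_family U (fun i => a i ≫ f i) (fun i j => ?_) fun T g t => ?_
  · obtain ⟨R, fst, s, sq⟩ := exists_isPullback_of_representable (hπ i).1 (a j ≫ f j)
    obtain ⟨t, rfl⟩ := (yon S).map_surjective fst
    exact ⟨R, t, s, sq, ((hπ i).2 _ _ _ sq).1, ((hπ i).2 _ _ _ sq).2⟩
  · obtain ⟨i, V, d, l, hf, hp, ⟨v, hv⟩, hl'⟩ := hl T g t
    obtain ⟨V', fst, e, sq⟩ := exists_isPullback_of_representable (ha i).1 l
    obtain ⟨fst, rfl⟩ := (yon S).map_surjective fst
    have : Etale e.left := (ha i).2 _ _ _ sq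
    have : Surjective e.left := (hs i).2 _ _ _ sq
    obtain ⟨v', rfl⟩ := e.left.surjective v
    refine ⟨i, V', e ≫ d, (yon S).map fst, inferInstanceAs (Flat (e.left ≫ d.left)),
      inferInstanceAs (LocallyOfFinitePresentation (e.left ≫ d.left)), ⟨v', ?_⟩, ?_⟩
    · rw [Over.comp_left, Scheme.Hom.comp_apply, hv]
    · rw [← Category.assoc, sq.w, Category.assoc, hl', Functor.map_comp, Category.assoc]

theorem isAlgSpace_cofan_pt (h : ∀ i, IsAlgSpace (F i)) : IsAlgSpace c.pt :=
  isAlgSpace_of_rep_family c.inj h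
    (fun i => repWith_mono (repWith_inj hc i) fun _ _ g hg => by
      have := hg.1; exact ⟨inferInstance, inferInstance⟩)
    fun _ g t => exists_lift_inj hc g t

end GrothLib.AlgSp
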