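import Groth.Agent.Lib.AlgSp.DecentPoints
import Groth.Agent.Lib.AlgSp.FlatMono
import Groth.Agent.Lib.AlgSp.FppfDescent

/-!
# Finite fibres and quasi-compact monomorphic points

* `finite_fibres_of_compact_pullback`: if the pullback of a chart to a field point is compact, the fibres of
  `U` and of `U ×_X U` over that point are finite.
* `exists_mono_qc_point`: finite fibres give a quasi-compact monomorphic point.
* `finite_of_mono_fibre`, `isPreimmersion_of_mono_fibre`: the pullback of a monomorphic point to a chart.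
-/

universe u

open CategoryTheory CategoryTheory.Limits AlgebraicGeometry Topology

namespace GrothLib.AlgSp

open _root_.AlgSp

variable {S : Scheme.{u}} {X : Sp S}

/-- The pullback of an etale chart to a field point is reduced and discrete. -/
theorem discrete_fibre {U : Over S} {φ : (yon S).obj U ⟶ X} (hφ : RepWith @Etale φ) (q : FieldPt X)
    {W : Over S} {c : W ⟶ q.pt} {d : W ⟶ U} (sq : IsPullback ((yon S).map c) ((yon S).map d) q.toHom φ) :
    Etale c.left ∧ IsLocallyArtinian W.left ∧ IsReduced W.left := by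
  haveI : Etale c.left := hφ.2 _ _ _ sq.flip
  haveI : LocallyQuasiFinite c.left := locallyQuasiFinite_of_unramified _
  haveI : IsLocallyArtinian q.pt.left := inferInstanceAs (IsLocallyArtinian (Spec (CommRingCat.of q.K)))
  haveI : IsReduced q.pt.left := inferInstanceAs (IsReduced (Spec (CommRingCat.of q.K)))
  exact ⟨‹_›, .of_locallyQuasiFinite c.left, isReduced_of_etale c.left inferInstance inferInstance⟩

/-- If the pullback of the chart `φ` to the point `q` is compact then the fibres of `U` and of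
`R = U ×_X U` over the point are finite. -/
theorem finite_fibres_of_compact_pullback (hX : IsAlgSpace X) {U : Over S} {φ : (yon S).obj U ⟶ X}
    (hφ : RepWith @Etale φ) (q : FieldPt X) {W : Over S} {c : W ⟶ q.pt} {d : W ⟶ U}
    (sq₀ : IsPullback ((yon S).map c) ((yon S).map d) q.toHom φ) [CompactSpace ↥W.left]
    {R : Over S} {t s : R ⟶ U} (sq : IsPullback ((yon S).map t) ((yon S).map s) φ φ) :
    (Points.ofPt φ ⁻¹' {Points.mk q}).Finite ∧
      (Points.ofPt ((yon S).map t ≫ φ) ⁻¹' {Points.mk q}).Finite := by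
  obtain ⟨hc, hW, -⟩ := discrete_fibre hφ q sq₀
  haveI := hc
  haveI := hW
  haveI : Finite ↥W.left := finite_of_compact_of_discrete
  refine ⟨(Set.finite_range d.left).subset fun v hv => ?_, ?_⟩
  · obtain ⟨r, -, hr⟩ := (ofPt_eq_ofPt_iff sq₀ (IsLocalRing.closedPoint q.K) v).1
      ((Points.ofPt_toHom q _).trans (Set.mem_singleton_iff.1 hv).symm)
    exact ⟨r, hr⟩
  obtain ⟨V, c', e, sqV⟩ := exists_isPullback_yon hX.diag q.toHom ((yon S).map t ≫ φ)
  have w₁ : (yon S).map c' ≫ q.toHom = (yon S).map (e ≫ t) ≫ φ := by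
    rw [Functor.map_comp, Category.assoc]; exact sqV.w
  have w₂ : (yon S).map c' ≫ q.toHom = (yon S).map (e ≫ s) ≫ φ := by
    rw [Functor.map_comp, Category.assoc, ← sq.w]; exact sqV.w
  obtain ⟨m₁, hm₁⟩ := (yon S).map_surjective (sq₀.lift _ _ w₁)
  obtain ⟨m₂, hm₂⟩ := (yon S).map_surjective (sq₀.lift _ _ w₂)
  have hc₁ : m₁ ≫ c = c' := (yon S).map_injective (by rw [Functor.map_comp, hm₁, sq₀.lift_fst])
  have hc₂ : m₂ ≫ c = c' := (yon S).map_injective (by rw [Functor.map_comp, hm₂, sq₀.lift_fst])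
  have hd₁ : m₁ ≫ d = e ≫ t := (yon S).map_injective (by rw [Functor.map_comp, hm₁, sq₀.lift_snd])
  have hd₂ : m₂ ≫ d = e ≫ s := (yon S).map_injective (by rw [Functor.map_comp, hm₂, sq₀.lift_snd])
  have sqZ := IsPullback.of_hasPullback c c
  have wρ : (yon S).map (pullback.fst c c ≫ d) ≫ φ = (yon S).map (pullback.snd c c ≫ d) ≫ φ := by
    rw [Functor.map_comp, Functor.map_comp, Category.assoc, Category.assoc, ← sq₀.w, ← Category.assoc,
      ← Category.assoc, ← Functor.map_comp, ← Functor.map_comp, pullback.condition]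
  obtain ⟨ρ, hρ⟩ := (yon S).map_surjective (sq.lift _ _ wρ)
  let l : V ⟶ pullback c c := pullback.lift m₁ m₂ (hc₁.trans hc₂.symm)
  have hl : l ≫ ρ = e := (yon S).map_injective (sq.hom_ext
    (by rw [← Functor.map_comp, ← Functor.map_comp, Category.assoc]
        have : ρ ≫ t = pullback.fst c c ≫ d := (yon S).map_injective (by rw [Functor.map_comp, hρ, sq.lift_fst])
        rw [this, pullback.lift_fst_assoc, hd₁])
    (by rw [← Functor.map_comp, ← Functor.map_comp, Category.assoc]
        have : ρ ≫ s = pullback.snd c c ≫ d := (yon S).map_injective (by rw [Functor.map_comp, hρ, sq.lift_snd])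
        rw [this, pullback.lift_snd_assoc, hd₂]))
  haveI : IsFinite c.left := (finite_of_finite_points (K := q.K) c.left).1
  haveI : IsFinite (pullback.fst c c).left :=
    MorphismProperty.of_isPullback (isPullback_left sqZ).flip ‹IsFinite c.left›
  haveI : Finite ↥(pullback c c).left :=
    Set.finite_univ_iff.1 ((pullback.fst c c).left.finite_preimage (Set.finite_univ (α := ↥W.left)))
  refine (Set.finite_range ρ.left).subset fun r hr => ?_
  obtain ⟨v, -, hv⟩ := (ofPt_eq_ofPt_iff sqV (IsLocalRing.closedPoint q.K) r).1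
    ((Points.ofPt_toHom q _).trans (Set.mem_singleton_iff.1 hr).symm)
  exact ⟨l.left v, by rw [← Scheme.Hom.comp_apply, ← Over.comp_left, hl, hv]⟩

/-- The fibre of a monomorphic point in a chart injects into the chart, onto the fibre. -/
theorem mono_fibre_facts (hX : IsAlgSpace X) (p : FieldPt X) [Mono p.toHom] {U : Over S}
    {φ : (yon S).obj U ⟶ X} {W : Over S} {c : W ⟶ p.pt} {d : W ⟶ U}
    (sq : IsPullback ((yon S).map c) ((yon S).map d) p.toHom φ) :
    Mono d.left ∧ Function.Injective d.left ∧ Set.range d.left = Points.ofPt φ ⁻¹' {Points.mk p} := by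
  haveI : Mono ((yon S).map d) :=
    MorphismProperty.of_isPullback (P := MorphismProperty.monomorphisms (Sp S)) sq ‹Mono p.toHom›
  haveI : Mono d := (yon S).mono_of_mono_map ‹_›
  haveI : Mono d.left := (Over.forget S).map_mono d
  refine ⟨‹_›, d.left.injective, Set.ext fun u => ⟨?_, fun hu => ?_⟩⟩
  · rintro ⟨w, rfl⟩
    have := (ofPt_eq_ofPt_iff sq (c.left w) (d.left w)).2 ⟨w, rfl, rfl⟩
    exact Set.mem_singleton_iff.2 (this.symm.trans (Points.ofPt_toHom p _))
  · obtain ⟨r, -, hr⟩ := (ofPt_eq_ofPt_iff sq (IsLocalRing.closedPoint p.K) u).1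
      ((Points.ofPt_toHom p _).trans (Set.mem_singleton_iff.1 hu).symm)
    exact ⟨r, hr⟩

theorem finite_of_mono_fibre (hX : IsAlgSpace X) (p : FieldPt X) [Mono p.toHom] {U : Over S}
    {φ : (yon S).obj U ⟶ X} {W : Over S} {c : W ⟶ p.pt} {d : W ⟶ U}
    (sq : IsPullback ((yon S).map c) ((yon S).map d) p.toHom φ)
    (hfin : (Points.ofPt φ ⁻¹' {Points.mk p}).Finite) : Finite ↥W.left := by
  obtain ⟨-, hinj, hr⟩ := mono_fibre_facts hX p sq
  haveI : Finite (Set.range d.left) := (hr ▸ hfin).to_subtype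
  exact Finite.of_injective (Set.rangeFactorization d.left) fun a b e => hinj (congrArg Subtype.val e)

theorem repWith_quasiCompact_of_finiteFibres (hX : IsAlgSpace X) (p : FieldPt X) [Mono p.toHom]
    (hfin : FiniteFibres (Points.mk p)) : RepWith @QuasiCompact p.toHom := by
  obtain ⟨U, a, ha, hs⟩ := hX.atlas
  obtain ⟨W, c, d, sq⟩ := exists_isPullback_yon hX.diag p.toHom a
  have := chart_isLocallySurjective ha hs
  refine repWith_of_base (representable_diag_iff.1 hX.diag _) a sq fppfDescends_quasiCompact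
    ((repWith_yon_map_iff _ _).2 (quasiCompact_iff_forall_isAffineOpen.2 fun O hO => ?_))
  obtain ⟨-, hinj, hr⟩ := mono_fibre_facts hX p sq
  let i : Over.mk (O.ι ≫ U.hom) ⟶ U := Over.homMk O.ι rfl
  haveI : IsAffine (O : Scheme.{u}) := hO
  have h := hfin _ ((yon S).map i ≫ a) (inferInstanceAs (IsAffine O))
    (repWith_comp ((repWith_yon_map_iff _ _).2 (inferInstanceAs (Etale O.ι))) ha)
  refine Set.Finite.isCompact (((h.image O.ι).preimage hinj.injOn).subset fun w hw => ?_)
  refine ⟨⟨d.left w, hw⟩, ?_, rfl⟩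
  rw [Set.mem_preimage, ofPt_map_comp]
  exact (show d.left w ∈ Points.ofPt a ⁻¹' {Points.mk p} from hr ▸ ⟨w, rfl⟩)

theorem exists_mono_qc_of_pair (hX : IsAlgSpace X) {U R : Over S}
    {φ : (yon S).obj U ⟶ X} (hφ : RepWith @Etale φ)
    {t s : R ⟶ U} (sq : IsPullback ((yon S).map t) ((yon S).map s) φ φ) (u : ↥U.left)
    (hR : (Points.ofPt ((yon S).map t ≫ φ) ⁻¹' {Points.ofPt φ u}).Finite)
    (hfin : FiniteFibres (Points.ofPt φ u)) :
    ∃ p : FieldPt X, Points.mk p = Points.ofPt φ u ∧ Mono p.toHom ∧ RepWith @QuasiCompact p.toHom := by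
  obtain ⟨p, hp, hm⟩ := exists_mono_point_of_fibre_finite hX hφ sq u u rfl (hR.subset fun r hr => by
    rw [Set.mem_preimage, ofPt_map_comp, hr.2]; rfl)
  exact ⟨p, hp, hm, repWith_quasiCompact_of_finiteFibres hX p (hp ▸ hfin)⟩

/-- A point all of whose affine chart fibres, also for `U ×_X U`, are finite is a quasi-compact monomorphism. -/
theorem exists_mono_qc_point (hX : IsAlgSpace X) (x : Points X)
    (h : ∀ (U : Over S) (φ : (yon S).obj U ⟶ X), IsAffine U.left → RepWith @Etale φ →
      ∀ (R : Over S) (t s : R ⟶ U), IsPullback ((yon S).map t) ((yon S).map s) φ φ →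
        (Points.ofPt φ ⁻¹' {x}).Finite ∧ (Points.ofPt ((yon S).map t ≫ φ) ⁻¹' {x}).Finite) :
    ∃ p : FieldPt X, Points.mk p = x ∧ Mono p.toHom ∧ RepWith @QuasiCompact p.toHom := by
  obtain ⟨U, a, ha, hs⟩ := hX.atlas
  obtain ⟨u, rfl⟩ := surjective_ofPt_of_repWith hs x
  obtain ⟨O, huO, hO, b, hb, hbw⟩ := exists_affine_subchart ha u
  haveI : IsAffine (O : Scheme.{u}) := hO
  obtain ⟨R, t, s, sq⟩ := exists_isPullback_yon hX.diag b b
  rw [show Points.ofPt a u = Points.ofPt b ⟨u, huO⟩ from (hbw ⟨u, huO⟩).symm] at h ⊢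
  refine exists_mono_qc_of_pair hX hb sq _ (h _ b (inferInstanceAs (IsAffine O)) hb R t s sq).2 ?_
  intro V ψ hV hψ
  obtain ⟨R', t', s', sq'⟩ := exists_isPullback_yon hX.diag ψ ψ
  exact (h V ψ hV hψ R' t' s' sq').1

theorem exists_mono_qc_of_compact (hX : IsAlgSpace X) (q : FieldPt X)
    (h : ∀ (U : Over S) (φ : (yon S).obj U ⟶ X), IsAffine U.left → RepWith @Etale φ →
      ∀ (W : Over S) (c : W ⟶ q.pt) (d : W ⟶ U),
        IsPullback ((yon S).map c) ((yon S).map d) q.toHom φ → CompactSpace ↥W.left) :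
    ∃ p : FieldPt X, Points.mk p = Points.mk q ∧ Mono p.toHom ∧ RepWith @QuasiCompact p.toHom := by
  refine exists_mono_qc_point hX _ fun U φ hU hφ R t s sq => ?_
  obtain ⟨W, c, d, sq₀⟩ := exists_isPullback_yon hX.diag q.toHom φ
  have := h U φ hU hφ W c d sq₀
  exact finite_fibres_of_compact_pullback hX hφ q sq₀ sq

theorem compact_pullback_of_qc {U : Over S} [IsAffine U.left] {φ : (yon S).obj U ⟶ X} (q : FieldPt X)
    (hq : RepWith @QuasiCompact q.toHom) {W : Over S} {c : W ⟶ q.pt} {d : W ⟶ U}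
    (sq : IsPullback ((yon S).map c) ((yon S).map d) q.toHom φ) : CompactSpace ↥W.left := by
  haveI : QuasiCompact d.left := hq.2 _ _ _ sq
  exact QuasiCompact.compactSpace_of_compactSpace d.left

/-- Monomorphic points with no specializations in the fibre pull back to preimmersions with discrete image. -/
theorem isPreimmersion_of_mono_fibre (hX : IsAlgSpace X) (p : FieldPt X) [Mono p.toHom]
    (hq : RepWith @QuasiCompact p.toHom) {U : Over S}
    {φ : (yon S).obj U ⟶ X} (hφ : RepWith @Etale φ) {W : Over S} {c : W ⟶ p.pt} {d : W ⟶ U}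
    (sq : IsPullback ((yon S).map c) ((yon S).map d) p.toHom φ) : IsPreimmersion d.left := by
  obtain ⟨hm, hinj, hr⟩ := mono_fibre_facts hX p sq
  obtain ⟨-, hA, hred⟩ := discrete_fibre hφ p sq
  haveI := hm
  haveI := hA
  haveI := hred
  have hfin := finite_fibre_of_qc_point hX p hq
  have hiso : ∀ w : ↥W.left, ∃ N : Set ↥U.left, IsOpen N ∧ d.left w ∈ N ∧ ∀ w', d.left w' ∈ N → w' = w := by
    intro w
    obtain ⟨O, hwO, hO, b, hb, hbw⟩ := exists_affine_subchart hφ (d.left w)
    haveI : IsAffine (O : Scheme.{u}) := hO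
    have hF := hfin _ b (inferInstanceAs (IsAffine O)) hb
    have hw : Points.ofPt φ (d.left w) = Points.mk p :=
      (show d.left w ∈ Points.ofPt φ ⁻¹' {Points.mk p} from hr ▸ ⟨w, rfl⟩)
    let T := O.ι '' (Points.ofPt b ⁻¹' {Points.mk p}) \ {d.left w}
    refine ⟨(O : Set ↥U.left) \ closure T, O.isOpen.sdiff isClosed_closure, ⟨hwO, fun hcl => ?_⟩, fun w' hw' => ?_⟩
    · rw [← Set.biUnion_of_singleton T, ((hF.image O.ι).subset Set.sdiff_subset).closure_biUnion] at hcl
      obtain ⟨u', hu', hcl'⟩ := Set.mem_iUnion₂.1 hcl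
      obtain ⟨v, hv, rfl⟩ := hu'.1
      exact hu'.2 (eq_of_specializes_of_finite_fibres hX hfin hφ hw ((hbw v).symm.trans hv)
        (specializes_iff_mem_closure.2 hcl')).symm
    · by_contra hne
      refine hw'.2 (subset_closure ⟨⟨⟨d.left w', hw'.1⟩, ?_, rfl⟩, fun e => hne (hinj e)⟩)
      rw [Set.mem_preimage, hbw]
      exact (show d.left w' ∈ Points.ofPt φ ⁻¹' {Points.mk p} from hr ▸ ⟨w', rfl⟩)
  haveI : SurjectiveOnStalks d.left := by
    refine ⟨fun w => ?_⟩
    haveI : IsArtinianRing (W.left.presheaf.stalk w) := by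
      obtain ⟨A, hA', hwA, -⟩ := exists_isAffineOpen_mem_and_subset (U := (⊤ : W.left.Opens)) (x := w) trivial
      haveI : IsArtinianRing Γ(W.left, A) := IsLocallyArtinian.isArtinianRing_presheaf_obj ⟨_, hA'⟩
      letI := TopCat.Presheaf.algebra_section_stalk W.left.presheaf (⟨w, hwA⟩ : (A : Set _))
      haveI := hA'.isLocalization_stalk ⟨w, hwA⟩
      exact (IsArtinianRing.localization_surjective (hA'.primeIdealOf ⟨w, hwA⟩).asIdeal.primeCompl
        (W.left.presheaf.stalk w)).isArtinianRing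
    have hfield : IsField (W.left.presheaf.stalk w) := IsArtinianRing.isField_of_isReduced_of_isLocalRing _
    have h₁ : Function.Surjective (d.left.residueFieldMap w) := by
      have h := Scheme.Hom.SpecMap_residueFieldMap_fromSpecResidueField d.left w
      let f := d.left.residueFieldMap w
      haveI hf : Mono (Spec.map f) := by
        have : Mono (Spec.map f ≫ U.left.fromSpecResidueField (d.left w)) := by
          rw [show Spec.map f ≫ _ = _ from h]; infer_instance
        exact mono_of_mono _ (U.left.fromSpecResidueField (d.left w))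
      haveI : IsIso (Spec.map f) :=
        isIso_of_mono_to_field (k := U.left.residueField (d.left w)) (Spec.map f)
      exact ((isIso_SpecMap_iff (f := f)).1 inferInstance).2
    have h₂ : Function.Injective (W.left.residue w) := by
      letI := hfield.toField
      exact RingHom.injective (W.left.residue w).hom
    intro y
    obtain ⟨z, hz⟩ := h₁ (W.left.residue w y)
    obtain ⟨z', rfl⟩ := Scheme.residue_surjective _ _ z
    refine ⟨z', h₂ ?_⟩
    rw [← hz, ← CommRingCat.comp_apply, ← CommRingCat.comp_apply, Scheme.residue_residueFieldMap]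
  refine (isPreimmersion_iff d.left).2 ⟨inferInstance, ⟨.mk ?_, hinj⟩⟩
  refine le_antisymm d.left.continuous.le_induced fun A _ => ?_
  choose N hN hmem honly using hiso
  refine isOpen_induced_iff.2 ⟨⋃ w ∈ A, N w, isOpen_biUnion fun w _ => hN w, Set.ext fun w' => ⟨fun hw' => ?_,
    fun hw' => Set.mem_iUnion₂.2 ⟨w', hw', hmem w'⟩⟩⟩
  obtain ⟨w, hw, h⟩ := Set.mem_iUnion₂.1 hw'
  exact honly w w' h ▸ hw

end GrothLib.AlgSp
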