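import Groth.Agent.Lib.AlgSp.MonoPoint
import Groth.Agent.Lib.AlgSp.FlatMono
import Groth.Agent.Lib.AlgSp.PointsUniv
import Groth.Agent.Lib.AlgSp.EtaleLocallyProps
import Mathlib.AlgebraicGeometry.Artinian

/-!
# Decency and quasi-compact etale maps

* `locallyOfFiniteType_of_mono_discrete`: monomorphisms to discrete reduced schemes are of finite type.
* `exists_mono_point_of_qc_etale`, `isDecent_of_qc_etale_surjective`: points represented by monomorphisms descend along
  quasi-compact etale maps.
-/

universe u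

open CategoryTheory CategoryTheory.Limits AlgebraicGeometry

namespace GrothLib.AlgSp

open _root_.AlgSp

variable {S : Scheme.{u}}

theorem locallyOfFiniteType_of_mono_discrete {P W : Scheme.{u}} (m : P ⟶ W) [Mono m] [DiscreteTopology W]
    [IsReduced W] : LocallyOfFiniteType m := by
  let 𝒰 : W.OpenCover := W.openCoverOfIsOpenCover
    (fun x : W ↦ ⟨{x}, isOpen_discrete _⟩) (.mk (by ext; simp))
  rw [IsZariskiLocalAtTarget.iff_of_openCover (P := @LocallyOfFiniteType) 𝒰]
  intro i
  haveI : IsReduced (𝒰.X i) := isReduced_of_isOpenImmersion (𝒰.f i)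
  haveI : Subsingleton ↥(𝒰.X i) := inferInstanceAs (Subsingleton ({i} : Set W))
  change LocallyOfFiniteType (pullback.snd m (𝒰.f i))
  cases isEmpty_or_nonempty ↥(pullback m (𝒰.f i))
  · haveI : IsOpenImmersion (pullback.snd m (𝒰.f i)) := inferInstance
    infer_instance
  haveI : Nonempty ↥(𝒰.X i) := Nonempty.map (pullback.snd m (𝒰.f i)) inferInstance
  haveI : IsIntegral (𝒰.X i) := (isIntegral_iff_irreducibleSpace_and_isReduced _).mpr ⟨⟨inferInstance⟩, inferInstance⟩
  letI := (isField_of_isIntegral_of_subsingleton (𝒰.X i)).toField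
  have := isIso_of_mono_to_field (k := Γ(𝒰.X i, ⊤)) (pullback.snd m (𝒰.f i) ≫ (𝒰.X i).isoSpec.hom)
  haveI : IsIso (pullback.snd m (𝒰.f i)) := IsIso.of_isIso_comp_right _ (𝒰.X i).isoSpec.hom
  infer_instance

/-- Over a point represented by a monomorphism into the source of a quasi-compact etale map there is a monomorphic
point. -/
theorem exists_mono_point_of_qc_etale {X Y : Sp S} (hX : IsAlgSpace X) (hY : IsAlgSpace Y) {f : X ⟶ Y}
    (hq : IsQuasiCompactMor f) (he : IsEtaleMor f) (p : FieldPt X) [Mono p.toHom] :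
    ∃ g : FieldPt Y, Points.mk g = Points.map f (Points.mk p) ∧ Mono g.toHom := by
  let q := p.map f
  haveI : CompactSpace ↥q.pt.left := inferInstanceAs (CompactSpace (PrimeSpectrum q.K))
  have hqh : q.toHom = p.toHom ≫ f := FieldPt.toHom_map f p
  have hT := IsAlgSpace.yon_obj q.pt
  have hP := isAlgSpace_pullback' hY hX hT f q.toHom
  have sqX := IsPullback.of_hasPullback f q.toHom
  have hl := EtLocal.etale.locP_of_isPullback hX hY hT sqX (locP_of_isEtaleMor hY he)
  obtain ⟨W, ⟨hW⟩⟩ := (isRepresentable_of_etale_to_field hP (k := q.K) (str := q.str)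
    (isEtaleMor_of_locP hT hl)).has_representation
  let i := AlgSp.isoOfRepresentableBy hW
  haveI : CompactSpace ↥W.left := compactSpace_of_isQuasiCompactSp_yon W
    (isQuasiCompactSp_of_iso (hq hT (isQuasiCompactSp_yon q.pt) _ _ _ sqX) i.symm)
  obtain ⟨w₂, hw₂⟩ := (yon S).map_surjective (i.hom ≫ pullback.snd f q.toHom)
  haveI : Etale w₂.left := hl i.hom (𝟙 _) w₂ (repWith_iso _) (repWith_id _ _) (by rw [Category.comp_id, hw₂])
  haveI : LocallyQuasiFinite w₂.left := locallyQuasiFinite_of_unramified _
  haveI : IsLocallyArtinian q.pt.left := inferInstanceAs (IsLocallyArtinian (Spec (CommRingCat.of q.K)))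
  haveI : IsLocallyArtinian W.left := .of_locallyQuasiFinite w₂.left
  haveI : IsReduced W.left := by
    haveI : IsReduced q.pt.left := inferInstanceAs (IsReduced (Spec (CommRingCat.of q.K)))
    exact GrothLib.AlgSp.isReduced_of_etale w₂.left inferInstance inferInstance
  haveI : Finite ↥W.left := finite_of_compact_of_discrete
  have key : ∀ {P : Over S} {a a' : P ⟶ q.pt}, IsPullback ((yon S).map a') ((yon S).map a) q.toHom q.toHom →
      LocallyOfFiniteType a.left ∧ Finite ↥P.left := by
    intro P a a' sqP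
    let l : (yon S).obj P ⟶ pullback f q.toHom := pullback.lift ((yon S).map a' ≫ p.toHom) ((yon S).map a)
      ((Category.assoc _ _ _).trans ((congrArg (fun e => (yon S).map a' ≫ e) hqh.symm).trans sqP.w))
    obtain ⟨m, hm⟩ := (yon S).map_surjective (l ≫ i.inv)
    have hm₂ : m ≫ w₂ = a := (yon S).map_injective (by
      rw [Functor.map_comp, hm, hw₂, Category.assoc, Iso.inv_hom_id_assoc, pullback.lift_snd])
    have : Mono m := ⟨fun {Z} b c hbc => by
      have h1 : (yon S).map b ≫ l = (yon S).map c ≫ l := by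
        rw [← cancel_mono i.inv, Category.assoc, Category.assoc, ← hm, ← Functor.map_comp, hbc, Functor.map_comp]
      have h2 := congrArg (· ≫ pullback.fst f q.toHom) h1
      have h3 := congrArg (· ≫ pullback.snd f q.toHom) h1
      simp only [l, Category.assoc, pullback.lift_fst, pullback.lift_snd] at h2 h3
      exact (yon S).map_injective (sqP.hom_ext (Mono.right_cancellation (f := p.toHom) _ _
        ((Category.assoc _ _ _).trans (h2.trans (Category.assoc _ _ _).symm))) h3)⟩
    haveI : Mono m.left := (Over.forget S).map_mono m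
    haveI := locallyOfFiniteType_of_mono_discrete m.left
    refine ⟨?_, Finite.of_injective m.left m.left.injective⟩
    rw [← hm₂, Over.comp_left]
    infer_instance
  obtain ⟨P, a', a, sqP⟩ := exists_isPullback_yon hY.diag q.toHom q.toHom
  obtain ⟨ha, hfin⟩ := key sqP
  obtain ⟨ha', -⟩ := key sqP.flip
  obtain ⟨g, hg, hm⟩ := exists_mono_point_of_finite hY q ⟨P, a', a, sqP, hfin, ha', ha⟩
  exact ⟨g, hg, hm⟩

theorem isDecent_of_qc_etale_surjective {X Y : Sp S} (hX : IsAlgSpace X) (hY : IsAlgSpace Y) {f : X ⟶ Y}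
    (hq : IsQuasiCompactMor f) (he : IsEtaleMor f) (hs : Function.Surjective (Points.map f))
    (hd : IsDecent X) : IsDecent Y := by
  intro y
  obtain ⟨x, rfl⟩ := hs y
  obtain ⟨p, rfl, hpm, hpq⟩ := hd x
  obtain ⟨g, hg, hm⟩ := exists_mono_point_of_qc_etale hX hY hq he p
  refine ⟨g, hg, hm, ?_⟩
  obtain ⟨c, hc⟩ := exists_factor_mono_point hY g (p.map f) hg
  rw [FieldPt.toHom_map] at hc
  refine repWith_mk fun T ξ => ?_
  obtain ⟨R, t, s, sR⟩ := exists_isPullback_yon hY.diag g.toHom ξ
  refine ⟨R, (yon S).map t, s, sR, ?_⟩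
  have sq₁ := IsPullback.of_hasPullback t c
  have sq' := (isPullback_stack sR.flip sq₁).flip
  rw [hc] at sq'
  have sqX := IsPullback.of_hasPullback f ξ
  have hQ := isAlgSpace_pullback' hY hX (IsAlgSpace.yon_obj T) f ξ
  have hqp : IsQuasiCompactMor (p.toHom ≫ f) :=
    isQuasiCompactMor_comp (IsAlgSpace.yon_obj _) hX hY (isQuasiCompactMor_of_repWith hpq) hq
  rw [← Functor.map_comp] at sq'
  have h₁ : QuasiCompact (pullback.fst t c ≫ s).left :=
    (repWith_quasiCompact_of_isQuasiCompactMor (representable_diag_iff.1 hY.diag _) hqp).2 ξ _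
      (pullback.fst t c ≫ s) sq'
  have hcs : Surjective c.left := ⟨Function.surjective_to_subsingleton (α := PrimeSpectrum (p.map f).K)
    (β := PrimeSpectrum g.K) _⟩
  have hps : Surjective (pullback.fst t c).left :=
    MorphismProperty.of_isPullback (isPullback_left sq₁).flip hcs
  refine ⟨fun V hV hVc => ?_⟩
  have := QuasiCompact.isCompact_preimage (f := (pullback.fst t c ≫ s).left) V hV hVc
  have e : s.left ⁻¹' V = (pullback.fst t c).left '' ((pullback.fst t c ≫ s).left ⁻¹' V) := by
    rw [Over.comp_left, Scheme.Hom.comp_base, TopCat.coe_comp, Set.preimage_comp,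
      Set.image_preimage_eq _ hps.surj]
  rw [e]
  exact this.image (pullback.fst t c).left.continuous

end GrothLib.AlgSp
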