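import Groth.Agent.Lib.AlgSp.SymChart
import Groth.Agent.Lib.AlgSp.DecentTop

/-!
# Elementary etale neighbourhoods on decent spaces

* `exists_mono_lift_symChart`: monomorphic quasi-compact points lift to a separated etale chart.
* `exists_affine_elemEtaleNbhd`: affine elementary neighbourhoods with a one point fibre.
-/

universe u

open CategoryTheory CategoryTheory.Limits AlgebraicGeometry

namespace GrothLib.AlgSp

open _root_.AlgSp

variable {S : Scheme.{u}} {X : Sp S}

/-- A section of a mono point through a chart is an elementary neighbourhood. -/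
theorem isElemEtaleNbhd_of_lift (hX : IsAlgSpace X) {M : Over S} {b : (yon S).obj M ⟶ X}
    (hb : RepWith @Etale b) (p : FieldPt X) [Mono p.toHom] (l : p.pt ⟶ M) (hl : (yon S).map l ≫ b = p.toHom) :
    IsElemEtaleNbhd b (l.left (IsLocalRing.closedPoint p.K)) (Points.mk p) := by
  obtain ⟨⟨m, ψ⟩, hψ⟩ := (Scheme.SpecToEquivOfField p.K M.left).symm.surjective l.left
  replace hψ : Spec.map ψ ≫ M.left.fromSpecResidueField m = l.left := hψ
  have hm : l.left (IsLocalRing.closedPoint p.K) = m := by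
    rw [← hψ]
    exact M.left.fromSpecResidueField_apply m _
  have hx : Points.ofPt b m = Points.mk p := by
    rw [← hm, ← ofPt_map_comp, hl, Points.ofPt_toHom]
  rw [hm]
  obtain ⟨c, hc⟩ := exists_factor_mono_point hX p (FieldPt.ofPt b m) hx.symm
  let r : p.pt ⟶ (FieldPt.ofPt b m).pt := Over.homMk (Spec.map ψ) (by
    change Spec.map ψ ≫ M.left.fromSpecResidueField m ≫ M.hom = p.str
    rw [← Category.assoc, hψ]
    exact Over.w l)
  have hr : (yon S).map r ≫ (FieldPt.ofPt b m).toHom = p.toHom := by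
    rw [FieldPt.toHom_ofPt, ← Functor.map_comp_assoc, ← hl]
    congr 2
    exact Over.OverMorphism.ext hψ
  have hrc : r ≫ c = 𝟙 _ := (yon S).map_injective ((cancel_mono p.toHom).1 (by
    rw [Functor.map_comp, Category.assoc, hc, hr, CategoryTheory.Functor.map_id, Category.id_comp]))
  obtain ⟨φ, hφ⟩ := Spec.map_surjective c.left
  have h1 : φ ≫ ψ = 𝟙 _ := Spec.map_injective (by
    rw [Spec.map_comp, hφ]
    exact (congrArg (fun f : p.pt ⟶ p.pt => f.left) hrc).trans (Spec.map_id _).symm)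
  haveI : IsIso φ := ⟨ψ, h1, by
    ext a
    exact ψ.hom.injective (congrArg (fun f : CommRingCat.of p.K ⟶ CommRingCat.of p.K => f.hom (ψ.hom a)) h1)⟩
  haveI : IsIso ((Over.forget S).map c) := by
    change IsIso c.left
    rw [← hφ]; infer_instance
  haveI : IsIso c := isIso_of_reflects_iso c (Over.forget S)
  exact ⟨hb, hx, hc ▸ inferInstanceAs (Mono ((yon S).map c ≫ p.toHom))⟩

/-- Monomorphic quasi-compact points lift to separated etale charts. -/
theorem exists_mono_lift_symChart (hX : IsAlgSpace X) (p : FieldPt X) (hq : RepWith @QuasiCompact p.toHom) :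
    ∃ (M : Over S) (b : (yon S).obj M ⟶ X) (l : p.pt ⟶ M),
      RepWith @Etale b ∧ IsSeparated M.hom ∧ (yon S).map l ≫ b = p.toHom := by
  classical
  obtain ⟨U₀, a₀, ha₀, hs₀⟩ := hX.atlas
  obtain ⟨v₀, hv₀⟩ := surjective_ofPt_of_repWith hs₀ (Points.mk p)
  obtain ⟨A, hvA, hA, a, ha, haw⟩ := exists_affine_subchart ha₀ v₀
  haveI : IsAffine (Over.mk (A.ι ≫ U₀.hom)).left := hA
  obtain ⟨N, hN⟩ := exists_not_mem_degGE hX ha p hq
  have hex : ∃ k, Points.mk p ∉ degGE a (k + 1) := ⟨N, fun h => hN (degGE_succ_subset _ h)⟩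
  rcases hn : Nat.find hex with _ | n
  · have := Nat.find_spec hex
    rw [hn, degGE_one] at this
    exact absurd (show Points.mk p ∈ Set.range (Points.ofPt a) from
      ⟨⟨v₀, hvA⟩, (haw ⟨v₀, hvA⟩).trans hv₀⟩) this
  have hout : Points.mk p ∉ degGE a (n + 2) := by
    have := Nat.find_spec hex; rwa [hn] at this
  have hin : Points.mk p ∈ degGE a (n + 1) := not_not.1 (Nat.find_min hex (m := n) (by omega))
  obtain ⟨M, b, hb, hsep, -, -, -, hlift⟩ := exists_symChart hX ha n
  obtain ⟨l, hl, -⟩ := hlift p.pt p.toHom fun t => by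
    rw [Points.ofPt_toHom]
    exact ⟨hin, hout⟩
  exact ⟨M, b, l, hb, hsep, hl⟩

/-- Affine elementary neighbourhoods whose fibre over the point is a single point. -/
theorem exists_affine_elemEtaleNbhd (hX : IsAlgSpace X) (hd : IsDecent X) (x : Points X) :
    ∃ (U : Over S) (a : (yon S).obj U ⟶ X) (u : ↥U.left), IsAffine U.left ∧
      IsElemEtaleNbhd a u x ∧ Points.ofPt a ⁻¹' {x} = {u} := by
  obtain ⟨p, hp, hpm, hpq⟩ := hd x
  obtain ⟨M, b, l, hb, -, hl⟩ := exists_mono_lift_symChart hX p hpq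
  have hm := isElemEtaleNbhd_of_lift hX hb p l hl
  rw [hp] at hm
  obtain ⟨A, hA, hmA, -⟩ := exists_isAffineOpen_mem_and_subset (U := (⊤ : M.left.Opens))
    (x := l.left (IsLocalRing.closedPoint p.K)) trivial
  let i : Over.mk (A.ι ≫ M.hom) ⟶ M := Over.homMk A.ι rfl
  haveI : IsAffine (Over.mk (A.ι ≫ M.hom)).left := hA
  haveI : IsOpenImmersion i.left := inferInstanceAs (IsOpenImmersion A.ι)
  have hc : RepWith @Etale ((yon S).map i ≫ b) :=
    repWith_comp ((repWith_yon_map_iff _ _).2 (inferInstanceAs (Etale A.ι))) hb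
  let m : ↥(Over.mk (A.ι ≫ M.hom)).left := ⟨_, hmA⟩
  let F : Set ↥(Over.mk (A.ι ≫ M.hom)).left := Points.ofPt ((yon S).map i ≫ b) ⁻¹' {x} \ {m}
  have hfin : (Points.ofPt ((yon S).map i ≫ b) ⁻¹' {x}).Finite :=
    finiteFibres_of_isDecent hX hd x _ _ ‹_› hc
  have hmx : Points.ofPt ((yon S).map i ≫ b) m = x := by
    rw [ofPt_map_comp]; exact hm.ofPt_eq
  have hmF : m ∉ closure F := by
    have hF : F = ⋃ z ∈ F, {z} := (Set.biUnion_of_singleton F).symm
    rw [hF, Set.Finite.closure_biUnion (hfin.subset Set.diff_subset)]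
    simp only [Set.mem_iUnion, not_exists]
    intro z hz hmz
    exact hz.2 (eq_of_specializes_ofPt hX hd hc z m (specializes_iff_mem_closure.2 hmz) (hz.1.trans hmx.symm))
  obtain ⟨B, hB, hmB, hBF⟩ := exists_isAffineOpen_mem_and_subset
    (U := (⟨(closure F)ᶜ, isClosed_closure.isOpen_compl⟩ : (Over.mk (A.ι ≫ M.hom)).left.Opens)) (x := m) hmF
  let k : Over.mk (B.ι ≫ A.ι ≫ M.hom) ⟶ M := Over.homMk (B.ι ≫ A.ι) (Category.assoc _ _ _)
  haveI : IsOpenImmersion k.left := inferInstanceAs (IsOpenImmersion (B.ι ≫ A.ι))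
  refine ⟨_, (yon S).map k ≫ b, ⟨m, hmB⟩, hB, ⟨repWith_comp ((repWith_yon_map_iff _ _).2
    (inferInstanceAs (Etale k.left))) hb, ?_, ?_⟩, ?_⟩
  · rw [ofPt_map_comp]
    exact hm.ofPt_eq
  · have : Mono (FieldPt.ofPt b (k.left (⟨m, hmB⟩ : ↥B))).toHom := hm.mono
    exact mono_ofPt_of_residueField k b _
  · ext z
    simp only [Set.mem_preimage, Set.mem_singleton_iff]
    constructor
    · intro hz
      by_contra hne
      refine hBF z.2 (subset_closure ⟨?_, fun h => hne (Subtype.ext h)⟩)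
      change Points.ofPt ((yon S).map i ≫ b) z.1 = x
      rw [ofPt_map_comp] at hz ⊢
      exact hz
    · rintro rfl
      rw [ofPt_map_comp]
      exact hm.ofPt_eq

end GrothLib.AlgSp
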