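import Groth.Agent.Lib.AlgSp.DecentEtale
import Groth.Agent.Lib.AlgSp.DecentPoints

/-!
# One-point decent spaces and fibres of charts over monomorphic points

* `exists_field_iso`: a decent space with an etale surjection from a field spectrum is a field spectrum.
* `finite_pair_fibre`: fibres of `R ⟶ U × U` over pairs of points over a monomorphic point are finite.
-/

universe u

open CategoryTheory CategoryTheory.Limits AlgebraicGeometry

namespace GrothLib.AlgSp

open _root_.AlgSp

variable {S : Scheme.{u}} {X : Sp S}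

theorem exists_field_iso (hX : IsAlgSpace X) (hd : IsDecent X) (p : FieldPt X)
    (hp : RepWith @Etale p.toHom) (hs : RepWith @Surjective p.toHom) :
    ∃ (k' : Type u) (_ : Field k') (str' : Spec (CommRingCat.of k') ⟶ S)
      (e : (yon S).obj (Over.mk str') ≅ X) (c : p.pt ⟶ Over.mk str'),
      (yon S).map c ≫ e.hom = p.toHom ∧ IsFinite c.left ∧ Etale c.left := by
  obtain ⟨q, hq, hqm, -⟩ := hd (Points.mk p)
  haveI := hqm
  obtain ⟨c, hc⟩ := exists_factor_mono_point hX q p hq
  have sq : IsPullback ((yon S).map c) ((yon S).map (𝟙 p.pt)) q.toHom p.toHom := by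
    refine isPullback_of_yon (by rw [CategoryTheory.Functor.map_id, Category.id_comp]; exact hc) fun T a b hab => ?_
    refine ⟨b, ⟨(cancel_mono q.toHom).1 (by rw [Category.assoc, hc, hab]), ?_⟩, fun b' hb' => ?_⟩
    · rw [CategoryTheory.Functor.map_id, Category.comp_id]
    · rw [← hb'.2, CategoryTheory.Functor.map_id, Category.comp_id]
  haveI hce : Etale c.left := hp.2 _ _ _ sq.flip
  haveI : Finite ↥p.pt.left := finite_spec_field p.K
  have hcf := (finite_of_finite_points (K := q.K) c.left).1
  haveI : Epi p.toHom := (Sheaf.isLocallySurjective_iff_epi _).1 (chart_isLocallySurjective hp hs)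
  haveI : Epi ((yon S).map c ≫ q.toHom) := by rw [hc]; infer_instance
  haveI : Epi q.toHom := epi_of_epi ((yon S).map c) _
  haveI := isIso_of_mono_of_epi q.toHom
  exact ⟨q.K, q.field, q.str, asIso q.toHom, c, hc, hcf, hce⟩

theorem finite_pair_fibre (hX : IsAlgSpace X) (p : FieldPt X) [Mono p.toHom] {U R : Over S}
    {φ : (yon S).obj U ⟶ X} (hφ : RepWith @Etale φ) {t s : R ⟶ U}
    (sq : IsPullback ((yon S).map t) ((yon S).map s) φ φ) (u u' : ↥U.left)
    (hu : Points.ofPt φ u = Points.mk p) (hu' : Points.ofPt φ u' = Points.mk p) :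
    {r : ↥R.left | s.left r = u ∧ t.left r = u'}.Finite := by
  obtain ⟨W, w₁, w₂, sW⟩ := exists_isPullback_yon hX.diag p.toHom φ
  haveI : Etale w₁.left := hφ.2 _ _ _ sW.flip
  haveI : LocallyQuasiFinite w₁.left := locallyQuasiFinite_of_unramified _
  haveI : IsLocallyArtinian p.pt.left := inferInstanceAs (IsLocallyArtinian (Spec (CommRingCat.of p.K)))
  haveI : IsLocallyArtinian W.left := .of_locallyQuasiFinite w₁.left
  haveI : IsReduced p.pt.left := inferInstanceAs (IsReduced (Spec (CommRingCat.of p.K)))
  haveI : IsReduced W.left := isReduced_of_etale w₁.left inferInstance inferInstance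
  -- the residue fields over the point are finite over `p.K`
  have key : ∀ v : ↥U.left, Points.ofPt φ v = Points.mk p → ∃ c : (FieldPt.ofPt φ v).pt ⟶ p.pt,
      (yon S).map c ≫ p.toHom = (FieldPt.ofPt φ v).toHom ∧ IsFinite c.left := by
    intro v hv
    obtain ⟨c, hc⟩ := exists_factor_mono_point hX p (FieldPt.ofPt φ v) hv.symm
    refine ⟨c, hc, ?_⟩
    let i : (FieldPt.ofPt φ v).pt ⟶ U := Over.homMk (U.left.fromSpecResidueField v) rfl
    obtain ⟨d, hd⟩ := (yon S).map_surjective (sW.lift ((yon S).map c) ((yon S).map i) (by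
      rw [hc, FieldPt.toHom_ofPt]))
    have hd₁ : d ≫ w₁ = c := (yon S).map_injective (by rw [Functor.map_comp, hd, sW.lift_fst])
    have hd₂ : d ≫ w₂ = i := (yon S).map_injective (by rw [Functor.map_comp, hd, sW.lift_snd])
    haveI : Mono (d.left ≫ w₂.left) := by
      rw [← Over.comp_left, hd₂]
      exact inferInstanceAs (Mono (U.left.fromSpecResidueField v))
    haveI : Mono d.left := mono_of_mono d.left w₂.left
    haveI := locallyOfFiniteType_of_mono_discrete d.left
    haveI : Finite ↥(FieldPt.ofPt φ v).pt.left := finite_spec_field (U.left.residueField v)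
    haveI : LocallyOfFiniteType c.left := by rw [← hd₁, Over.comp_left]; infer_instance
    exact (finite_of_finite_points (K := p.K) c.left).1
  obtain ⟨c, hc, hcf⟩ := key u hu
  obtain ⟨c', hc', hcf'⟩ := key u' hu'
  haveI := hcf
  haveI := hcf'
  -- the fibre product of the two points is finite
  have sqc := IsPullback.of_hasPullback c' c
  haveI : IsFinite (pullback.snd c' c).left := MorphismProperty.of_isPullback (isPullback_left sqc) hcf'
  haveI : Finite ↥(FieldPt.ofPt φ u).pt.left := finite_spec_field (U.left.residueField u)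
  haveI : Finite ↥(pullback c' c).left :=
    Set.finite_univ_iff.1 ((pullback.snd c' c).left.finite_preimage (Set.finite_univ (α := ↥(FieldPt.ofPt φ u).pt.left)))
  let i : (FieldPt.ofPt φ u).pt ⟶ U := Over.homMk (U.left.fromSpecResidueField u) rfl
  let i' : (FieldPt.ofPt φ u').pt ⟶ U := Over.homMk (U.left.fromSpecResidueField u') rfl
  have hci : (yon S).map i ≫ φ = (yon S).map c ≫ p.toHom := by rw [hc, FieldPt.toHom_ofPt]
  have hci' : (yon S).map i' ≫ φ = (yon S).map c' ≫ p.toHom := by rw [hc', FieldPt.toHom_ofPt]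
  obtain ⟨l, hl⟩ := (yon S).map_surjective (sq.lift ((yon S).map (pullback.fst c' c ≫ i'))
    ((yon S).map (pullback.snd c' c ≫ i)) (by
      rw [Functor.map_comp, Functor.map_comp, Category.assoc, Category.assoc, hci, hci', ← Functor.map_comp_assoc,
        ← Functor.map_comp_assoc, pullback.condition]))
  refine (Set.finite_range l.left).subset ?_
  rintro r ⟨rfl, rfl⟩
  let Z : Over S := Over.mk (R.left.fromSpecResidueField r ≫ R.hom)
  let z : Z ⟶ R := Over.homMk (R.left.fromSpecResidueField r) rfl
  let zs : Z ⟶ (FieldPt.ofPt φ (s.left r)).pt := Over.homMk (Spec.map (s.left.residueFieldMap r)) (by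
    show Spec.map _ ≫ U.left.fromSpecResidueField _ ≫ U.hom = R.left.fromSpecResidueField r ≫ R.hom
    rw [Scheme.Hom.SpecMap_residueFieldMap_fromSpecResidueField_assoc, Over.w])
  let zt : Z ⟶ (FieldPt.ofPt φ (t.left r)).pt := Over.homMk (Spec.map (t.left.residueFieldMap r)) (by
    show Spec.map _ ≫ U.left.fromSpecResidueField _ ≫ U.hom = R.left.fromSpecResidueField r ≫ R.hom
    rw [Scheme.Hom.SpecMap_residueFieldMap_fromSpecResidueField_assoc, Over.w])
  have hzs : zs ≫ i = z ≫ s := Over.OverMorphism.ext (s.left.SpecMap_residueFieldMap_fromSpecResidueField r)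
  have hzt : zt ≫ i' = z ≫ t := Over.OverMorphism.ext (t.left.SpecMap_residueFieldMap_fromSpecResidueField r)
  have hcomm : zt ≫ c' = zs ≫ c := (yon S).map_injective ((cancel_mono p.toHom).1 (by
    rw [Functor.map_comp, Functor.map_comp, Category.assoc, Category.assoc, ← hci, ← hci',
      ← Functor.map_comp_assoc, ← Functor.map_comp_assoc, hzs, hzt, Functor.map_comp, Functor.map_comp,
      Category.assoc, Category.assoc, sq.w]))
  let y := pullback.lift zt zs hcomm
  have hy : y ≫ l = z := (yon S).map_injective (sq.hom_ext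
    (by rw [← Functor.map_comp, ← Functor.map_comp, Category.assoc]
        rw [show l ≫ t = pullback.fst c' c ≫ i' from (yon S).map_injective (by rw [Functor.map_comp, hl, sq.lift_fst]),
          ← Category.assoc, pullback.lift_fst, hzt])
    (by rw [← Functor.map_comp, ← Functor.map_comp, Category.assoc]
        rw [show l ≫ s = pullback.snd c' c ≫ i from (yon S).map_injective (by rw [Functor.map_comp, hl, sq.lift_snd]),
          ← Category.assoc, pullback.lift_snd, hzs]))
  have : Nonempty ↥Z.left := inferInstanceAs (Nonempty (PrimeSpectrum (R.left.residueField r)))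
  obtain ⟨o⟩ := this
  refine ⟨y.left o, ?_⟩
  rw [← Scheme.Hom.comp_apply, ← Over.comp_left, hy]
  exact Scheme.fromSpecResidueField_apply _ _

end GrothLib.AlgSp
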