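import Groth.Prelude.Def_AlgSpGpd
import Groth.Agent.Lib.AlgSp.UnivClosed
import Groth.Agent.Lib.AlgSp.SourceLocal
import Groth.Agent.Lib.AlgSp.SingletonSpace
import Groth.Agent.Lib.AlgSp.FieldBase
import Groth.Agent.Lib.AlgSp.OpenSub

/-!
# Groupoids in algebraic spaces: elementary base change squares

* `isPullback_restriction_s/_t/_fR`, `isPullback_comp`.
* `isUnivOpenMor_to_field`.
-/

universe u

open CategoryTheory CategoryTheory.Limits AlgebraicGeometry

namespace GrothLib.AlgSp

open _root_.AlgSp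

variable {S : Scheme.{u}}

theorem isUnivOpenMor_of_repWith {X Y : Sp S} {f : X ⟶ Y} (h : RepWith @UniversallyOpen f) : IsUnivOpenMor f := by
  have hf := h.1
  rw [repWith_universally_iff UniversallyOpen.eq (Q := IsOpenMor)
    (fun φ => isOpenMap_map_yon_iff φ) hf] at h
  refine isUnivOpenMor_of_affine fun T _ g P fst snd sq => ?_
  refine forall_affine_of_representable hf (fun {A B} k => IsOpenMap (Points.map k))
    (fun e k hk => ?_) h T g P fst snd sq
  rw [show Points.map (e.hom ≫ k) = Points.map k ∘ Points.map e.hom from funext (Points.map_comp _ _)]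
  refine hk.comp (IsOpenMap.of_inverse (Points.continuous_map e.inv) (fun x => ?_) fun x => ?_) <;>
    rw [← Points.map_comp] <;> simp

/-- Maps to the spectrum of a field are flat and universally open. -/
theorem isUnivOpenMor_to_field {P : Sp S} (hP : IsAlgSpace P) {k : Type u} [Field k]
    {str : Spec (CommRingCat.of k) ⟶ S} (f : P ⟶ (yon S).obj (Over.mk str)) : IsUnivOpenMor f := by
  obtain ⟨U, a, -, as⟩ := hP.atlas
  obtain ⟨α, hα⟩ := (yon S).map_surjective (a ≫ f)
  refine isUnivOpenMor_of_cover_source (ι := PUnit.{u + 1}) (g := fun _ => a)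
    (fun x => ⟨⟨⟩, surjective_map_of_repWith as x⟩) fun _ => ?_
  rw [← hα]
  exact isUnivOpenMor_of_repWith ((repWith_yon_map_iff _ _).2 (universallyOpen_to_field α.left))

theorem flat_univOpen_to_iso_field {P U : Sp S} (hP : IsAlgSpace P) {k : Type u} [Field k]
    {σ : Spec (CommRingCat.of k) ⟶ S} (eU : U ≅ (yon S).obj (Over.mk σ)) (f : P ⟶ U) :
    LocP @Flat f ∧ IsUnivOpenMor f := by
  have h₁ := locP_flat_to_field hP (f ≫ eU.hom)
  have h₂ := isUnivOpenMor_to_field hP (f ≫ eU.hom)
  have hU : IsAlgSpace U := IsAlgSpace.of_iso (IsAlgSpace.yon_obj _) eU.symm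
  have sq : IsPullback (𝟙 P) f (f ≫ eU.hom) eU.hom := IsPullback.of_horiz_isIso ⟨by simp⟩
  exact ⟨EtLocal.locP_of_isPullback EtLocal.flat hP (IsAlgSpace.yon_obj _) hU sq h₁, univSp_of_isPullback sq h₂⟩

variable {B : Sp S}

/-- The first projection of a restriction is a base change of the restricted map. -/
theorem isPullback_restriction_s {G G' : GroupoidSp B} (φ : GroupoidSp.Hom G' G) (hφ : φ.IsRestriction) :
    IsPullback G'.t (pullback.lift φ.fR G'.s φ.comm_s) φ.fU (pullback.fst G.s φ.fU ≫ G.t) := by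
  refine isPullback_of_yon ?_ fun T a q haq => ?_
  · rw [pullback.lift_fst_assoc, φ.comm_t]
  let r := q ≫ pullback.fst G.s φ.fU
  let b := q ≫ pullback.snd G.s φ.fU
  have hrt : r ≫ G.t = a ≫ φ.fU := by rw [haq, Category.assoc]
  have hrs : r ≫ G.s = b ≫ φ.fU := by simp only [r, b, Category.assoc, pullback.condition]
  have hab : a ≫ G'.pU = b ≫ G'.pU := by
    rw [← φ.fU_over, ← reassoc_of% hrt, ← reassoc_of% hrs, G.t_over, G.s_over]
  have hw : r ≫ G.j = pullback.lift a b hab ≫ φ.prodMap := by
    apply pullback.hom_ext <;>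
      simp only [GroupoidSp.Hom.prodMap, Category.assoc, GroupoidSp.j_fst, GroupoidSp.j_snd, pullback.lift_fst,
        pullback.lift_snd, pullback.lift_fst_assoc, pullback.lift_snd_assoc, hrt, hrs]
  refine ⟨hφ.lift r _ hw, ⟨?_, ?_⟩, fun m hm => hφ.hom_ext ?_ ?_⟩
  · rw [← GroupoidSp.j_fst, hφ.lift_snd_assoc, pullback.lift_fst]
  · apply pullback.hom_ext
    · rw [Category.assoc, pullback.lift_fst, hφ.lift_fst]
    · rw [Category.assoc, pullback.lift_snd, ← GroupoidSp.j_snd, hφ.lift_snd_assoc, pullback.lift_snd]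
  · rw [hφ.lift_fst]
    have := congrArg (· ≫ pullback.fst G.s φ.fU) hm.2
    simpa only [Category.assoc, pullback.lift_fst] using this
  · rw [hφ.lift_snd]
    apply pullback.hom_ext
    · rw [pullback.lift_fst, Category.assoc, GroupoidSp.j_fst, hm.1]
    · rw [pullback.lift_snd, Category.assoc, GroupoidSp.j_snd]
      have := congrArg (· ≫ pullback.snd G.s φ.fU) hm.2
      simpa only [Category.assoc, pullback.lift_snd] using this

/-- The second projection of a restriction is a base change of the restricted map. -/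
theorem isPullback_restriction_t {G G' : GroupoidSp B} (φ : GroupoidSp.Hom G' G) (hφ : φ.IsRestriction) :
    IsPullback G'.s (pullback.lift φ.fR G'.t φ.comm_t) φ.fU (pullback.fst G.t φ.fU ≫ G.s) := by
  refine isPullback_of_yon ?_ fun T b q hbq => ?_
  · rw [pullback.lift_fst_assoc, φ.comm_s]
  let r := q ≫ pullback.fst G.t φ.fU
  let a := q ≫ pullback.snd G.t φ.fU
  have hrs : r ≫ G.s = b ≫ φ.fU := by rw [hbq, Category.assoc]
  have hrt : r ≫ G.t = a ≫ φ.fU := by simp only [r, a, Category.assoc, pullback.condition]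
  have hab : a ≫ G'.pU = b ≫ G'.pU := by
    rw [← φ.fU_over, ← reassoc_of% hrt, ← reassoc_of% hrs, G.t_over, G.s_over]
  have hw : r ≫ G.j = pullback.lift a b hab ≫ φ.prodMap := by
    apply pullback.hom_ext <;>
      simp only [GroupoidSp.Hom.prodMap, Category.assoc, GroupoidSp.j_fst, GroupoidSp.j_snd, pullback.lift_fst,
        pullback.lift_snd, pullback.lift_fst_assoc, pullback.lift_snd_assoc, hrt, hrs]
  refine ⟨hφ.lift r _ hw, ⟨?_, ?_⟩, fun m hm => hφ.hom_ext ?_ ?_⟩
  · rw [← GroupoidSp.j_snd, hφ.lift_snd_assoc, pullback.lift_snd]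
  · apply pullback.hom_ext
    · rw [Category.assoc, pullback.lift_fst, hφ.lift_fst]
    · rw [Category.assoc, pullback.lift_snd, ← GroupoidSp.j_fst, hφ.lift_snd_assoc, pullback.lift_fst]
  · rw [hφ.lift_fst]
    have := congrArg (· ≫ pullback.fst G.t φ.fU) hm.2
    simpa only [Category.assoc, pullback.lift_fst] using this
  · rw [hφ.lift_snd]
    apply pullback.hom_ext
    · rw [pullback.lift_fst, Category.assoc, GroupoidSp.j_fst]
      have := congrArg (· ≫ pullback.snd G.t φ.fU) hm.2
      simpa only [Category.assoc, pullback.lift_snd] using this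
    · rw [pullback.lift_snd, Category.assoc, GroupoidSp.j_snd, hm.1]

/-- Composition is a base change of the source map. -/
theorem isPullback_comp (G : GroupoidSp B) : IsPullback G.c (pullback.snd G.s G.t) G.s G.s := by
  have e : ∀ {T : Sp S} (p : T ⟶ pullback G.s G.t),
      ∃ (α β : T ⟶ G.R) (h : α ≫ G.s = β ≫ G.t), p = pullback.lift α β h := fun p =>
    ⟨p ≫ pullback.fst _ _, p ≫ pullback.snd _ _, by simp only [Category.assoc, pullback.condition],
      pullback.hom_ext (pullback.lift_fst _ _ _).symm (pullback.lift_snd _ _ _).symm⟩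
  refine isPullback_of_yon ?_ fun T γ β h => ?_
  · obtain ⟨α, β, h, hp⟩ := e (𝟙 (pullback G.s G.t))
    have h2 : pullback.snd G.s G.t = β := by rw [← Category.id_comp (pullback.snd G.s G.t), hp, pullback.lift_snd]
    rw [h2, ← Category.id_comp G.c, hp, G.comp_s]
  have hα : γ ≫ G.s = (β ≫ G.i) ≫ G.t := by rw [Category.assoc, G.i_t, h]
  have h1 : (pullback.lift γ (β ≫ G.i) hα ≫ G.c) ≫ G.s = β ≫ G.t := by
    rw [G.comp_s, Category.assoc, G.i_s]
  refine ⟨pullback.lift (pullback.lift γ (β ≫ G.i) hα ≫ G.c) β h1, ⟨?_, pullback.lift_snd _ _ _⟩, fun p hp => ?_⟩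
  · rw [G.assoc γ (β ≫ G.i) β hα (by rw [Category.assoc, G.i_s])]
    simp only [G.i_comp β]
    have := G.comp_e γ
    simp only [reassoc_of% h] at this
    exact this
  · obtain ⟨α, β', hh, rfl⟩ := e p
    obtain ⟨hc, hb⟩ := hp
    rw [pullback.lift_snd] at hb
    subst hb
    apply pullback.hom_ext
    · simp only [pullback.lift_fst, ← hc]
      rw [G.assoc α β' (β' ≫ G.i) hh (by rw [Category.assoc, G.i_t])]
      simp only [G.comp_i β']
      have := G.comp_e α
      simp only [reassoc_of% hh] at this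
      exact this.symm
    · simp only [pullback.lift_snd]

end GrothLib.AlgSp
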