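import Groth.Agent.Lib.AlgSp.MonoPoint
import Groth.Agent.Lib.AlgSp.DecentPoints
import Groth.Agent.Lib.AlgSp.ImmersionDescent
import Groth.Agent.Lib.AlgSp.GpdBasic

/-!
# Rational points of decent spaces over a field are closed

* `repWith_isClosedImmersion_rational_point`, `isSeparatedSp_of_isSeparatedMor`.
* `isSeparatedMor_of_unit`: separatedness of the source map of a groupoid from the identity section.
-/

universe u

open CategoryTheory CategoryTheory.Limits AlgebraicGeometry

namespace GrothLib.AlgSp

open _root_.AlgSp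

variable {S : Scheme.{u}}

/-- Rational points of decent algebraic spaces over a field are closed immersions. -/
theorem repWith_isClosedImmersion_rational_point {R : Sp S} (hR : IsAlgSpace R) (hd : IsDecent R) {k : Type u}
    [Field k] {σ : Spec (CommRingCat.of k) ⟶ S} (π : R ⟶ (yon S).obj (Over.mk σ))
    (e : (yon S).obj (Over.mk σ) ⟶ R) (he : e ≫ π = 𝟙 _) : RepWith @IsClosedImmersion e := by
  let x : Points R := Points.ofPt e (IsLocalRing.closedPoint k)
  have hff : FiniteFibres x := by
    obtain ⟨q, hq, -, hqc⟩ := hd x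
    exact hq ▸ finite_fibre_of_qc_point hR q hqc
  obtain ⟨U, a, hae, has⟩ := hR.atlas
  haveI := chart_isLocallySurjective hae has
  obtain ⟨E, c, d, sq⟩ := exists_isPullback_yon hR.diag e a
  refine repWith_of_base_isImmersion a sq (le_isImmersion_of_cases (Or.inl rfl)).1
    (le_isImmersion_of_cases (Or.inl rfl)).2 ((repWith_yon_map_iff _ _).2 ?_)
  obtain ⟨γ, hγ⟩ := (yon S).map_surjective (a ≫ π)
  have hc : c = d ≫ γ := (yon S).map_injective (by
    rw [Functor.map_comp, hγ, ← Category.assoc, ← sq.w, Category.assoc, he, Category.comp_id])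
  haveI : Etale c.left := hae.2 _ _ _ sq.flip
  haveI hme : Mono e := mono_of_mono_fac he
  haveI : Mono ((yon S).map d) :=
    MorphismProperty.of_isPullback (P := MorphismProperty.monomorphisms (Sp S)) sq hme
  haveI : Mono d := (yon S).mono_of_mono_map ‹_›
  haveI : Mono d.left := (Over.forget S).map_mono d
  refine IsZariskiLocalAtTarget.of_iSup_eq_top (P := @IsClosedImmersion) (fun W : U.left.affineOpens => W.1)
    (iSup_affineOpens_eq_top _) fun W => ?_
  let O : U.left.Opens := W.1
  haveI : IsAffine (O : Scheme.{u}) := W.2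
  let i : Over.mk (O.ι ≫ U.hom) ⟶ U := Over.homMk O.ι rfl
  let g := d.left ∣_ O
  have sqg := isPullback_morphismRestrict d.left O
  haveI : Mono g := MorphismProperty.of_isPullback (P := MorphismProperty.monomorphisms Scheme.{u}) sqg.flip
    ‹Mono d.left›
  have hfib := hff _ ((yon S).map i ≫ a) (inferInstanceAs (IsAffine O))
    (repWith_comp ((repWith_yon_map_iff _ _).2 (inferInstanceAs (Etale O.ι))) hae)
  haveI : Finite (d.left ⁻¹ᵁ O).toScheme := by
    haveI := hfib.to_subtype
    refine Finite.of_injective (β := ↥(Points.ofPt ((yon S).map i ≫ a) ⁻¹' {x})) (fun w => ⟨g w, ?_⟩)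
      fun w₁ w₂ h => g.injective (congrArg Subtype.val h)
    rw [Set.mem_preimage, Set.mem_singleton_iff, ofPt_map_comp]
    refine ((ofPt_eq_ofPt_iff sq (IsLocalRing.closedPoint k) (i.left (g w))).2
      ⟨(d.left ⁻¹ᵁ O).ι w, Subsingleton.elim (α := PrimeSpectrum k) _ _, ?_⟩).symm
    rw [← Scheme.Hom.comp_apply, ← sqg.w, Scheme.Hom.comp_apply]
    rfl
  let f : (d.left ⁻¹ᵁ O).toScheme ⟶ Spec (CommRingCat.of k) := (d.left ⁻¹ᵁ O).ι ≫ c.left
  haveI : Etale f := inferInstanceAs (Etale ((d.left ⁻¹ᵁ O).ι ≫ c.left))
  haveI : IsFinite f := (finite_of_finite_points f).1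
  have e1 : g ≫ (O.ι ≫ γ.left) = f := by
    rw [← Category.assoc, sqg.w, Category.assoc, ← Over.comp_left, ← hc]
  let q : O.toScheme ⟶ Spec (CommRingCat.of k) := O.ι ≫ γ.left
  haveI : IsFinite (g ≫ q) := e1 ▸ ‹IsFinite f›
  haveI : IsFinite g := IsFinite.of_comp g q
  exact (IsClosedImmersion.iff_isFinite_and_mono g).2 ⟨inferInstance, inferInstance⟩

/-- A space separated over a scheme separated over `S` is separated over `S`. -/
theorem isSeparatedSp_of_isSeparatedMor {X : Sp S} {U : Over S} (f : X ⟶ (yon S).obj U) [IsSeparated U.hom]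
    (hf : IsSeparatedMor f) : IsSeparatedSp X := by
  let m : pullback f f ⟶ X ⨯ X := prod.lift (pullback.fst f f) (pullback.snd f f)
  have hm : RepWith @IsClosedImmersion m := by
    refine repWith_of_isPullback (g := prod.map f f) (f := Limits.diag ((yon S).obj U))
      (g' := pullback.fst f f ≫ f) ?_ ((repWith_diag_yon_iff _ U).2 IsSeparated.isClosedImmersion_diagonal)
    refine isPullback_of_yon ?_ fun T u v huv => ?_
    · apply Limits.prod.hom_ext <;>
        simp [m, pullback.condition]
    · have h1 := congrArg (· ≫ prod.fst) huv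
      have h2 := congrArg (· ≫ prod.snd) huv
      simp only [Category.assoc, prod.lift_fst, prod.lift_snd, prod.map_fst, prod.map_snd, Category.comp_id] at h1 h2
      refine ⟨pullback.lift (v ≫ prod.fst) (v ≫ prod.snd) (by rw [Category.assoc, Category.assoc, ← h1, ← h2]),
        ⟨by rw [pullback.lift_fst_assoc, Category.assoc, ← h1], ?_⟩, fun c hc => ?_⟩
      · apply Limits.prod.hom_ext
        · rw [Category.assoc, prod.lift_fst]; exact pullback.lift_fst _ _ _
        · rw [Category.assoc, prod.lift_snd]; exact pullback.lift_snd _ _ _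
      · apply pullback.hom_ext
        · refine Eq.trans ?_ (pullback.lift_fst _ _ _).symm
          rw [← hc.2, Category.assoc, prod.lift_fst]
        · refine Eq.trans ?_ (pullback.lift_snd _ _ _).symm
          rw [← hc.2, Category.assoc, prod.lift_snd]
  rw [IsSeparatedSp, show Limits.diag X = pullback.diagonal f ≫ m by
    apply Limits.prod.hom_ext <;> simp [m]]
  exact repWith_comp hf hm

variable {B : Sp S}

/-- The source map is separated when the identity section is a closed immersion. -/
theorem isSeparatedMor_of_unit (G : GroupoidSp B) (h : RepWith @IsClosedImmersion G.e) : IsSeparatedMor G.s := by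
  have sq := isPullback_comp G
  let m : pullback G.s G.s ⟶ pullback G.s G.t := sq.lift (pullback.fst _ _) (pullback.snd _ _) pullback.condition
  let d : pullback G.s G.s ⟶ G.R := pullback.lift (pullback.fst G.s G.s) (pullback.snd G.s G.s ≫ G.i)
    (by rw [Category.assoc, G.i_t, pullback.condition]) ≫ G.c
  have hd : ∀ {T : Sp S} (γ β : T ⟶ G.R) (h : γ ≫ G.s = β ≫ G.s), pullback.lift γ β h ≫ d =
      pullback.lift γ (β ≫ G.i) (by rw [Category.assoc, G.i_t, h]) ≫ G.c := fun γ β h => by
    rw [← Category.assoc]
    congr 1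
    apply pullback.hom_ext
    · rw [Category.assoc, pullback.lift_fst]
      exact (pullback.lift_fst _ _ _).trans (pullback.lift_fst _ _ _).symm
    · rw [Category.assoc, pullback.lift_snd]
      exact ((pullback.lift_snd_assoc _ _ _ _).trans (pullback.lift_snd _ _ _).symm)
  refine repWith_of_isPullback (f := G.e) (g := d) (g' := G.t) ?_ h
  refine isPullback_of_yon ?_ fun T u p hup => ?_
  · rw [show pullback.diagonal G.s = pullback.lift (𝟙 _) (𝟙 _) rfl from rfl, hd]
    simp only [Category.id_comp]
    have := G.comp_i (𝟙 G.R)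
    simp only [Category.id_comp] at this
    exact this.symm
  obtain ⟨γ, β, hh, rfl⟩ : ∃ (γ β : (yon S).obj T ⟶ G.R) (hh : γ ≫ G.s = β ≫ G.s), p = pullback.lift γ β hh :=
    ⟨p ≫ pullback.fst _ _, p ≫ pullback.snd _ _, by simp only [Category.assoc, pullback.condition],
      pullback.hom_ext (pullback.lift_fst _ _ _).symm (pullback.lift_snd _ _ _).symm⟩
  rw [hd] at hup
  have hu : γ ≫ G.t = u := by
    have := congrArg (· ≫ G.t) hup
    simp only [G.comp_t, Category.assoc, G.e_t, Category.comp_id] at this
    exact this.symm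
  have hγβ : γ = β := by
    have h₁ : γ ≫ G.s = (β ≫ G.i) ≫ G.t := by rw [Category.assoc, G.i_t, hh]
    have h₂ : (β ≫ G.i) ≫ G.s = β ≫ G.t := by rw [Category.assoc, G.i_s]
    have hA := G.assoc γ (β ≫ G.i) β h₁ h₂
    simp only [G.i_comp β, ← hup] at hA
    have hl := G.comp_e γ
    simp only [reassoc_of% hh] at hl
    rw [hl] at hA
    have hub : u = β ≫ G.t := by
      have := congrArg (· ≫ G.s) hup
      simp only [G.comp_s, Category.assoc, G.e_s, Category.comp_id, G.i_s] at this
      exact this
    have hr := G.e_comp β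
    simp only [← reassoc_of% hub] at hr
    exact hA.symm.trans hr
  subst hγβ
  refine ⟨γ, ⟨hu, ?_⟩, fun c hc => ?_⟩
  · apply pullback.hom_ext
    · rw [Category.assoc, pullback.diagonal_fst, Category.comp_id]; exact (pullback.lift_fst _ _ _).symm
    · rw [Category.assoc, pullback.diagonal_snd, Category.comp_id]; exact (pullback.lift_snd _ _ _).symm
  · have := congrArg (· ≫ pullback.fst G.s G.s) hc.2
    simp only [Category.assoc, pullback.diagonal_fst, Category.comp_id] at this
    exact this.trans (pullback.lift_fst _ _ _)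

end GrothLib.AlgSp
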