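import Mathlib.AlgebraicGeometry.Morphisms.Flat
import Mathlib.AlgebraicGeometry.Morphisms.FinitePresentation
import Mathlib.AlgebraicGeometry.Morphisms.SmoothFiber
import Mathlib.AlgebraicGeometry.Morphisms.Etale
import Mathlib.LinearAlgebra.TensorProduct.Quotient
import Mathlib.RingTheory.FinitePresentation
import Groth.Agent.Lib.FSchSys.SpecKer
import Groth.Agent.Lib.AlgSp.LocP
import Groth.Agent.Lib.AlgSp.Points
import Groth.Agent.Lib.Flatness.Fibre
import Groth.Agent.S0400
import Groth.Agent.S0422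
import Groth.Agent.S1309
import Groth.Prelude.Def_MoreMor
import Groth.Prelude.Def_AlgSpMor5

/-!
# Flat deformations over finite order thickenings (schemes)

Main results: `flat_of_deform`, `lfp_of_deform`, `smooth_of_deform`.
-/

universe u

open CategoryTheory CategoryTheory.Limits AlgebraicGeometry TensorProduct

namespace GrothLib.AlgSp

section Ring

variable {R A C : Type u} [CommRing R] [CommRing A] [CommRing C] [Algebra R A] [Algebra R C] [Algebra A C]
  [IsScalarTower R A C] (I : Ideal R)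

theorem flat_of_flat_quotient (hI : IsNilpotent I) [Module.Flat R C]
    (h : (Ideal.quotientMap ((I.map (algebraMap R A)).map (algebraMap A C)) (algebraMap A C)
      Ideal.le_comap_map).Flat) : Module.Flat A C := by
  refine Groth.Agent.S0400.result (M := C) I hI ?_
  let J := I.map (algebraMap R A)
  have : Module.Flat (A ⧸ J) (C ⧸ J.map (algebraMap A C)) := by
    rw [← RingHom.flat_algebraMap_iff]
    convert h using 1
    exact Ideal.Quotient.ringHom_ext (RingHom.ext fun _ => rfl)
  let e₁ : (A ⧸ J) ⊗[A] C ≃ₗ[A] C ⧸ (J • (⊤ : Submodule A C)) := TensorProduct.quotTensorEquivQuotSMul C J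
  let e₂ : (C ⧸ (J • (⊤ : Submodule A C))) ≃ₗ[A] C ⧸ J.map (algebraMap A C) :=
    (Submodule.quotEquivOfEq _ _ (Ideal.smul_top_eq_map J)).trans
      ((Submodule.Quotient.restrictScalarsEquiv A (J.map (algebraMap A C))))
  have : IsScalarTower A (A ⧸ J) (C ⧸ J.map (algebraMap A C)) := IsScalarTower.of_algebraMap_eq fun x => rfl
  exact Module.Flat.of_linearEquiv
    (LinearEquiv.extendScalarsOfSurjective (S := A ⧸ J) Ideal.Quotient.mk_surjective (e₁.trans e₂))

theorem flat_of_flat_quotient_fp (hI : ∀ a ∈ I, IsNilpotent a) [Module.Flat R C] [Algebra.FiniteType R A]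
    [Algebra.FinitePresentation R C]
    (h : (Ideal.quotientMap ((I.map (algebraMap R A)).map (algebraMap A C)) (algebraMap A C)
      Ideal.le_comap_map).Flat) : Module.Flat A C := by
  refine Groth.Agent.S0422.result (S' := C) (M := C) I hI ?_
  let J := I.map (algebraMap R A)
  have : Module.Flat (A ⧸ J) (C ⧸ J.map (algebraMap A C)) := by
    rw [← RingHom.flat_algebraMap_iff]
    convert h using 1
    exact Ideal.Quotient.ringHom_ext (RingHom.ext fun _ => rfl)
  let e₁ : (A ⧸ J) ⊗[A] C ≃ₗ[A] C ⧸ (J • (⊤ : Submodule A C)) := TensorProduct.quotTensorEquivQuotSMul C J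
  let e₂ : (C ⧸ (J • (⊤ : Submodule A C))) ≃ₗ[A] C ⧸ J.map (algebraMap A C) :=
    (Submodule.quotEquivOfEq _ _ (Ideal.smul_top_eq_map J)).trans
      ((Submodule.Quotient.restrictScalarsEquiv A (J.map (algebraMap A C))))
  have : IsScalarTower A (A ⧸ J) (C ⧸ J.map (algebraMap A C)) := IsScalarTower.of_algebraMap_eq fun x => rfl
  exact Module.Flat.of_linearEquiv
    (LinearEquiv.extendScalarsOfSurjective (S := A ⧸ J) Ideal.Quotient.mk_surjective (e₁.trans e₂))

theorem fp_of_fp_quotient (hI : IsNilpotent I) [Module.Flat R C] [Algebra.FiniteType A C]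
    (h : (Ideal.quotientMap ((I.map (algebraMap R A)).map (algebraMap A C)) (algebraMap A C)
      Ideal.le_comap_map).FinitePresentation) : Algebra.FinitePresentation A C := by
  let J := I.map (algebraMap R A)
  have : Algebra.FinitePresentation (A ⧸ J) (C ⧸ J.map (algebraMap A C)) := by
    rw [← RingHom.finitePresentation_algebraMap]
    convert h using 1
    exact Ideal.Quotient.ringHom_ext (RingHom.ext fun _ => rfl)
  obtain ⟨m, π, hπ⟩ := Algebra.FiniteType.iff_quotient_mvPolynomial''.1 ‹Algebra.FiniteType A C›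
  let P := MvPolynomial (Fin m) A
  refine Algebra.FinitePresentation.of_surjective (f := π) hπ ?_
  let K : Ideal P := RingHom.ker π.toRingHom
  let JP : Ideal P := I.map (algebraMap R P)
  have : IsScalarTower A (A ⧸ J) (C ⧸ J.map (algebraMap A C)) := IsScalarTower.of_algebraMap_eq fun x => rfl
  let q : MvPolynomial (Fin m) (A ⧸ J) →ₐ[A ⧸ J] C ⧸ J.map (algebraMap A C) :=
    MvPolynomial.aeval fun k => Ideal.Quotient.mk _ (π (MvPolynomial.X k))
  let ρ : P →+* MvPolynomial (Fin m) (A ⧸ J) := MvPolynomial.map (Ideal.Quotient.mk J)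
  have hq : q.toRingHom.comp ρ = (Ideal.Quotient.mk _).comp π.toRingHom := by
    refine MvPolynomial.ringHom_ext (fun a => ?_) fun k => ?_
    · simp [q, ρ]
    · simp [q, ρ]
  have hqs : Function.Surjective q := fun x => by
    obtain ⟨c, rfl⟩ := Ideal.Quotient.mk_surjective x
    obtain ⟨p, rfl⟩ := hπ c
    exact ⟨ρ p, RingHom.congr_fun hq p⟩
  obtain ⟨t, ht⟩ := Algebra.FinitePresentation.ker_fg_of_mvPolynomial q hqs
  have hρs : Function.Surjective ρ := MvPolynomial.map_surjective _ Ideal.Quotient.mk_surjective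
  have hρk : RingHom.ker ρ = JP := by
    rw [MvPolynomial.ker_map, Ideal.mk_ker, Ideal.map_map]
    rfl
  have hJC : JP.map π.toRingHom = J.map (algebraMap A C) := by
    rw [Ideal.map_map, Ideal.map_map, IsScalarTower.algebraMap_eq R A P, ← RingHom.comp_assoc]
    congr 2
    exact π.comp_algebraMap
  -- lift the generators into the kernel
  have hlift : ∀ y ∈ t, ∃ p ∈ K, ρ p = y := by
    intro y hy
    obtain ⟨p, rfl⟩ := hρs y
    have h1 : q (ρ p) = 0 := by
      have : ρ p ∈ Ideal.span (↑t : Set (MvPolynomial (Fin m) (A ⧸ J))) := Ideal.subset_span hy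
      rw [ht] at this
      exact this
    have h2 : π p ∈ J.map (algebraMap A C) :=
      Ideal.Quotient.eq_zero_iff_mem.1 ((RingHom.congr_fun hq p).symm.trans h1)
    rw [← hJC, Ideal.mem_map_iff_of_surjective π.toRingHom hπ] at h2
    obtain ⟨e, he, hep⟩ := h2
    refine ⟨p - e, by rw [RingHom.mem_ker, map_sub, hep]; exact sub_self _, ?_⟩
    rw [map_sub, show ρ e = 0 from RingHom.mem_ker.1 (hρk.symm ▸ he), sub_zero]
  choose! g hgK hgρ using hlift
  classical
  let N : Ideal P := Ideal.span (↑(t.image g) : Set P)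
  have hNK : N ≤ K := Ideal.span_le.2 fun x hx => by
    obtain ⟨y, hy, rfl⟩ := Finset.mem_image.1 (Finset.mem_coe.1 hx)
    exact hgK y hy
  -- flatness: `K ∩ I P = I K`
  let πl : P →ₗ[R] C := (π.restrictScalars R).toLinearMap
  let KR : Submodule R P := K.restrictScalars R
  have hex : Function.Exact KR.subtype πl := fun x => by
    simp only [Set.mem_range, Submodule.coe_subtype, Subtype.exists, exists_prop, exists_eq_right]
    exact Iff.rfl
  have hflat : ∀ x ∈ K, x ∈ I • (⊤ : Submodule R P) → x ∈ I • KR := by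
    intro x hx hxI
    have h0 : ∃ s : I ⊗[R] P, TensorProduct.lid R P (LinearMap.rTensor P I.subtype s) = x := by
      refine Submodule.smul_induction_on hxI (fun r hr y _ => ⟨⟨r, hr⟩ ⊗ₜ y, by simp⟩) ?_
      rintro y z ⟨s, rfl⟩ ⟨s', rfl⟩
      exact ⟨s + s', by simp⟩
    obtain ⟨s, rfl⟩ := h0
    have hinj : Function.Injective (LinearMap.rTensor C I.subtype) :=
      Module.Flat.rTensor_preserves_injective_linearMap _ I.injective_subtype
    have hnat : ∀ s : I ⊗[R] P, TensorProduct.lid R C (LinearMap.rTensor C I.subtype (LinearMap.lTensor I πl s)) =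
        πl (TensorProduct.lid R P (LinearMap.rTensor P I.subtype s)) := by
      intro s
      induction s using TensorProduct.induction_on with
      | zero => simp
      | tmul r y => simp
      | add a b ha hb => simp [ha, hb]
    have hz : LinearMap.lTensor I πl s = 0 := by
      refine hinj ((TensorProduct.lid R C).injective ?_)
      rw [hnat, map_zero, map_zero]
      exact hx
    obtain ⟨w, rfl⟩ := ((lTensor_exact I hex (fun c => hπ c)) s).1 hz
    clear hz hx hxI
    induction w using TensorProduct.induction_on with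
    | zero => simp
    | tmul r y => simpa using Submodule.smul_mem_smul r.2 y.2
    | add a b ha hb =>
      simp only [map_add]
      exact Submodule.add_mem _ ha hb
  let NR : Submodule R P := N.restrictScalars R
  have hstep : KR ≤ NR ⊔ I • KR := by
    intro x hx
    have hxq : q (ρ x) = 0 := by
      rw [show q (ρ x) = Ideal.Quotient.mk _ (π x) from RingHom.congr_fun hq x, show π x = 0 from hx, map_zero]
    have hxt : ρ x ∈ N.map ρ := by
      rw [Ideal.map_span, Finset.coe_image, Set.image_image]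
      have : ρ x ∈ Ideal.span (↑t : Set (MvPolynomial (Fin m) (A ⧸ J))) := by rw [ht]; exact hxq
      refine Ideal.span_mono ?_ this
      intro y hy
      exact ⟨y, hy, hgρ y hy⟩
    obtain ⟨n, hn, hnx⟩ := (Ideal.mem_map_iff_of_surjective _ hρs).1 hxt
    have hd : x - n ∈ I • (⊤ : Submodule R P) := by
      rw [Ideal.smul_top_eq_map, Submodule.restrictScalars_mem]
      change x - n ∈ JP
      rw [← hρk, RingHom.mem_ker, map_sub, hnx, sub_self]
    refine Submodule.mem_sup.2 ⟨n, hn, x - n, hflat _ (K.sub_mem hx (hNK hn)) hd, by abel⟩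
  obtain ⟨k, hk⟩ := hI
  have hpow : ∀ n, KR ≤ NR ⊔ I ^ n • KR := by
    intro n
    induction n with
    | zero => rw [pow_zero, Ideal.one_eq_top, Submodule.top_smul]; exact le_sup_right
    | succ n ih =>
      refine ih.trans (sup_le le_sup_left ?_)
      refine (Submodule.smul_mono le_rfl hstep).trans ?_
      rw [Submodule.smul_sup, ← Submodule.mul_smul, ← pow_succ]
      exact sup_le_sup_right Submodule.smul_le_right _
  have : K = N := le_antisymm (fun x hx => by
    have h2 := hpow k hx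
    rwa [hk, Submodule.zero_eq_bot, Submodule.bot_smul, sup_bot_eq] at h2) hNK
  exact ⟨t.image g, this.symm⟩

end Ring

section Scheme

variable {X X' Y Y' B B' : Scheme.{u}} {iX : X ⟶ X'} {iY : Y ⟶ Y'} {iB : B ⟶ B'}
  {f : X ⟶ Y} {f' : X' ⟶ Y'} {g : Y ⟶ B} {g' : Y' ⟶ B'}

/-- Compatible affine charts of a composable pair of morphisms through a point. -/
theorem exists_affine_chain (f' : X' ⟶ Y') (g' : Y' ⟶ B') (x : X') :
    ∃ (R A C : CommRingCat.{u}) (oR : Spec R ⟶ B') (oA : Spec A ⟶ Y') (oC : Spec C ⟶ X') (ψ : R ⟶ A) (φ : A ⟶ C),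
      IsOpenImmersion oR ∧ IsOpenImmersion oA ∧ IsOpenImmersion oC ∧ x ∈ Set.range oC ∧
      Spec.map ψ ≫ oR = oA ≫ g' ∧ Spec.map φ ≫ oA = oC ≫ f' := by
  obtain ⟨_, ⟨W, hW, rfl⟩, hxW, -⟩ := B'.isBasis_affineOpens.exists_subset_of_mem_open
    (Set.mem_univ (g' (f' x))) isOpen_univ
  obtain ⟨_, ⟨V, hV, rfl⟩, hxV, hVW⟩ := Y'.isBasis_affineOpens.exists_subset_of_mem_open
    (show f' x ∈ g' ⁻¹ᵁ W from hxW) (g' ⁻¹ᵁ W).2
  obtain ⟨_, ⟨U, hU, rfl⟩, hxU, hUV⟩ := X'.isBasis_affineOpens.exists_subset_of_mem_open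
    (show x ∈ f' ⁻¹ᵁ V from hxV) (f' ⁻¹ᵁ V).2
  exact ⟨_, _, _, hW.fromSpec, hV.fromSpec, hU.fromSpec, g'.appLE W V hVW, f'.appLE V U hUV,
    inferInstance, inferInstance, inferInstance, by rw [hU.range_fromSpec]; exact hxU,
    IsAffineOpen.SpecMap_appLE_fromSpec _ hW hV hVW, IsAffineOpen.SpecMap_appLE_fromSpec _ hV hU hUV⟩

/-- Data reducing a deformation over a finite order thickening to rings. -/
theorem exists_ring_deform (hB : MoreMor.IsThickening iB) (hcX : IsPullback iX (f ≫ g) (f' ≫ g') iB)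
    (hcY : IsPullback iY g g' iB) (w : iX ≫ f' = f ≫ iY) [Flat (f' ≫ g')] (x : X') :
    ∃ (R A C : CommRingCat.{u}) (ψ : R ⟶ A) (φ : A ⟶ C) (oA : Spec A ⟶ Y') (oC : Spec C ⟶ X') (I : Ideal R),
      IsOpenImmersion oA ∧ IsOpenImmersion oC ∧ x ∈ Set.range oC ∧ Spec.map φ ≫ oA = oC ≫ f' ∧
      (∀ a ∈ I, IsNilpotent a) ∧ (IsNilpotent iB.ker → IsNilpotent I) ∧ (ψ ≫ φ).hom.Flat ∧
      (LocallyOfFiniteType g' → ψ.hom.FiniteType) ∧ (LocallyOfFinitePresentation (f' ≫ g') → (ψ ≫ φ).hom.FinitePresentation) ∧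
      ∀ (P : MorphismProperty Scheme.{u}), EtLocal P → P f →
        P (Spec.map (CommRingCat.ofHom (Ideal.quotientMap ((I.map ψ.hom).map φ.hom) φ.hom Ideal.le_comap_map))) := by
  obtain ⟨R, A, C, oR, oA, oC, ψ, φ, hR, hA, hC, hx, eψ, eφ⟩ := exists_affine_chain f' g' x
  obtain ⟨hBc, hBs⟩ := hB
  have hc : IsClosedImmersion (pullback.snd iB oR) := inferInstance
  obtain ⟨I, e, he⟩ := IsClosedImmersion.Spec_iff.1 hc
  let qR := Spec.map (CommRingCat.ofHom (Ideal.Quotient.mk I))
  have sqR : IsPullback (e.inv ≫ pullback.fst iB oR) qR iB oR :=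
    (IsPullback.of_hasPullback iB oR).of_iso e (Iso.refl _) (Iso.refl _) (Iso.refl _) (by simp)
      (by simp [qR, he]) (by simp) (by simp)
  have hIloc : ∀ a ∈ I, IsNilpotent a := by
    intro a ha
    have hs : Surjective qR := MorphismProperty.of_isPullback sqR hBs
    rw [← mem_nilradical, nilradical_eq_sInf, Submodule.mem_sInf]
    intro p hp
    obtain ⟨q, hq⟩ := qR.surjective ⟨p, hp⟩
    have : (Ideal.Quotient.mk I) a ∈ q.asIdeal := by
      rw [Ideal.Quotient.eq_zero_iff_mem.2 ha]; exact zero_mem _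
    have h2 := congrArg PrimeSpectrum.asIdeal hq
    change Ideal.comap (Ideal.Quotient.mk I) q.asIdeal = p at h2
    rw [← h2]; exact this
  have hI : IsNilpotent iB.ker → IsNilpotent I := by
    rintro ⟨n, hn⟩
    refine ⟨n, ?_⟩
    have h1 : qR.ker ^ n = ⊥ := by
      rw [GrothLib.FSchSys.ker_eq_comap_of_isPullback sqR.flip, ← GrothLib.FSchSys.comap_pow, hn]
      simp [Scheme.IdealSheafData.zero_eq_bot]
    have h2 := congrArg (fun J => J.ideal ⟨⊤, isAffineOpen_top _⟩) h1
    simp only [Scheme.IdealSheafData.ideal_pow, Pi.pow_apply, Scheme.IdealSheafData.ideal_bot,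
      Pi.bot_apply, qR, GrothLib.FSchSys.ideal_ker_SpecMap, CommRingCat.hom_ofHom, Ideal.mk_ker,
      ← Ideal.map_pow] at h2
    exact (Ideal.map_eq_bot_iff_of_injective
      (ConcreteCategory.bijective_of_isIso (Scheme.ΓSpecIso R).inv).1).1 h2
  let J := I.map ψ.hom
  let L := J.map φ.hom
  let qA := Spec.map (CommRingCat.ofHom (Ideal.Quotient.mk J))
  let qC := Spec.map (CommRingCat.ofHom (Ideal.Quotient.mk L))
  let ψ₀ := CommRingCat.ofHom (Ideal.quotientMap J ψ.hom Ideal.le_comap_map)
  let φ₀ := CommRingCat.ofHom (Ideal.quotientMap L φ.hom Ideal.le_comap_map)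
  have sA : IsPullback qA (Spec.map ψ₀) (Spec.map ψ) qR :=
    (GrothLib.FSchSys.isPullback_spec_iff ψ ψ₀ (CommRingCat.ofHom (Ideal.Quotient.mk I))
      (CommRingCat.ofHom (Ideal.Quotient.mk J)) Ideal.Quotient.mk_surjective Ideal.Quotient.mk_surjective
      (by ext r; rfl)).2 (by simp [J])
  have sC : IsPullback qC (Spec.map φ₀) (Spec.map φ) qA :=
    (GrothLib.FSchSys.isPullback_spec_iff φ φ₀ (CommRingCat.ofHom (Ideal.Quotient.mk J))
      (CommRingCat.ofHom (Ideal.Quotient.mk L)) Ideal.Quotient.mk_surjective Ideal.Quotient.mk_surjective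
      (by ext r; rfl)).2 (by simp [L])
  have sA' : IsPullback (Spec.map ψ₀ ≫ e.inv ≫ pullback.fst iB oR) qA iB (oA ≫ g') := by
    rw [← eψ]; exact sA.flip.paste_horiz sqR
  let a₀ := hcY.lift (qA ≫ oA) (Spec.map ψ₀ ≫ e.inv ≫ pullback.fst iB oR)
    (by rw [Category.assoc]; exact sA'.w.symm)
  have sY : IsPullback a₀ qA iY oA := by
    refine IsPullback.of_right ?_ (hcY.lift_fst _ _ _) hcY.flip
    rw [show a₀ ≫ g = _ from hcY.lift_snd _ _ _]; exact sA'
  have hiY : IsClosedImmersion iY := MorphismProperty.of_isPullback hcY.flip hBc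
  have sC' : IsPullback (Spec.map φ₀ ≫ a₀) qC iY (oC ≫ f') := by
    rw [← eφ]; exact sC.flip.paste_horiz sY
  have sX : IsPullback iX f f' iY := IsPullback.of_bot hcX w hcY
  let c₀ := sX.lift (qC ≫ oC) (Spec.map φ₀ ≫ a₀) (by rw [Category.assoc]; exact sC'.w.symm)
  have sX' : IsPullback c₀ qC iX oC := by
    refine IsPullback.of_right ?_ (sX.lift_fst _ _ _) sX.flip
    rw [show c₀ ≫ f = _ from sX.lift_snd _ _ _]; exact sC'
  refine ⟨R, A, C, ψ, φ, oA, oC, I, hA, hC, hx, eφ, hIloc, hI, ?_, ?_, ?_, fun P hP hf => ?_⟩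
  · refine (HasRingHomProperty.Spec_iff (P := @Flat)).1 ?_
    refine EtLocal.flat.cancel _ oR ?_
    rw [Spec.map_comp, Category.assoc, eψ, ← Category.assoc, eφ, Category.assoc]
    exact MorphismProperty.comp_mem _ _ _ (inferInstance : Flat oC) ‹_›
  · intro hg
    refine (HasRingHomProperty.Spec_iff (P := @LocallyOfFiniteType)).1 ?_
    refine EtLocal.lft.cancel _ oR ?_
    rw [eψ]
    exact MorphismProperty.comp_mem _ _ _ (inferInstance : LocallyOfFiniteType oA) hg
  · intro hfg
    refine (HasRingHomProperty.Spec_iff (P := @LocallyOfFinitePresentation)).1 ?_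
    refine EtLocal.lfp.cancel _ oR ?_
    rw [Spec.map_comp, Category.assoc, eψ, ← Category.assoc, eφ, Category.assoc]
    exact MorphismProperty.comp_mem _ _ _ (inferInstance : LocallyOfFinitePresentation oC) hfg
  · haveI := hP.respectsIso
    have : IsOpenImmersion c₀ := MorphismProperty.of_isPullback sX'.flip hC
    have : IsOpenImmersion a₀ := MorphismProperty.of_isPullback sY.flip hA
    refine hP.cancel (Spec.map φ₀) a₀ ?_
    rw [← show c₀ ≫ f = Spec.map φ₀ ≫ a₀ from sX.lift_snd _ _ _]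
    exact hP.comp_mem _ _ (hP.of_etale _ inferInstance) hf

theorem flat_of_deform (hB : MoreMor.IsFiniteOrderThickening iB) (hcX : IsPullback iX (f ≫ g) (f' ≫ g') iB)
    (hcY : IsPullback iY g g' iB) (w : iX ≫ f' = f ≫ iY) [Flat (f' ≫ g')] [Flat f] : Flat f' := by
  choose R A C ψ φ oA oC I hA hC hx eφ hIl hIn hfl hft0 hfp0 hP using fun x => exists_ring_deform hB.1 hcX hcY w x
  have hI := fun x => hIn x hB.2
  let 𝒰 : X'.OpenCover := ⟨⟨X', fun x => Spec (C x), oC⟩, by
    rw [Scheme.presieve₀_mem_precoverage_iff]; exact ⟨fun x => ⟨x, hx x⟩, hC⟩⟩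
  rw [IsZariskiLocalAtSource.iff_of_openCover (P := @Flat) 𝒰]
  intro x
  have := hA x
  change Flat (oC x ≫ f')
  rw [← eφ x]
  refine MorphismProperty.comp_mem _ _ _ ((HasRingHomProperty.Spec_iff (P := @Flat)).2 ?_) inferInstance
  have h0 := (HasRingHomProperty.Spec_iff (P := @Flat)).1 (hP x _ EtLocal.flat ‹Flat f›)
  algebraize [(ψ x).hom, (φ x).hom, (φ x).hom.comp (ψ x).hom]
  have : Module.Flat (R x) (C x) := hfl x
  exact flat_of_flat_quotient (I x) (hI x) h0

theorem lfp_of_deform (hB : MoreMor.IsFiniteOrderThickening iB) (hcX : IsPullback iX (f ≫ g) (f' ≫ g') iB)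
    (hcY : IsPullback iY g g' iB) (w : iX ≫ f' = f ≫ iY) [Flat (f' ≫ g')] [LocallyOfFinitePresentation f] :
    LocallyOfFinitePresentation f' := by
  have hY : MoreMor.IsFiniteOrderThickening iY := by
    obtain ⟨⟨hc, hs⟩, n, hn⟩ := hB
    refine ⟨⟨MorphismProperty.of_isPullback hcY.flip hc, MorphismProperty.of_isPullback hcY.flip hs⟩, n, ?_⟩
    rw [GrothLib.FSchSys.ker_eq_comap_of_isPullback hcY, ← GrothLib.FSchSys.comap_pow, hn]
    simp [Scheme.IdealSheafData.zero_eq_bot]
  have hl : LocallyOfFiniteType f' :=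
    (Groth.Agent.S1309.result iX iY f f' hY (IsPullback.of_bot hcX w hcY)).1 inferInstance
  choose R A C ψ φ oA oC I hA hC hx eφ hIl hIn hfl hft0 hfp0 hP using fun x => exists_ring_deform hB.1 hcX hcY w x
  have hI := fun x => hIn x hB.2
  let 𝒰 : X'.OpenCover := ⟨⟨X', fun x => Spec (C x), oC⟩, by
    rw [Scheme.presieve₀_mem_precoverage_iff]; exact ⟨fun x => ⟨x, hx x⟩, hC⟩⟩
  rw [IsZariskiLocalAtSource.iff_of_openCover (P := @LocallyOfFinitePresentation) 𝒰]
  intro x
  have := hA x
  have := hC x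
  change LocallyOfFinitePresentation (oC x ≫ f')
  have hft : LocallyOfFiniteType (Spec.map (φ x)) := by
    have : LocallyOfFiniteType (Spec.map (φ x) ≫ oA x) := by rw [eφ x]; infer_instance
    exact locallyOfFiniteType_of_comp _ (oA x)
  rw [← eφ x]
  refine MorphismProperty.comp_mem _ _ _ ((HasRingHomProperty.Spec_iff (P := @LocallyOfFinitePresentation)).2 ?_)
    inferInstance
  have h0 := (HasRingHomProperty.Spec_iff (P := @LocallyOfFinitePresentation)).1
    (hP x _ EtLocal.lfp ‹LocallyOfFinitePresentation f›)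
  have hft' := (HasRingHomProperty.Spec_iff (P := @LocallyOfFiniteType)).1 hft
  algebraize [(ψ x).hom, (φ x).hom, (φ x).hom.comp (ψ x).hom]
  have : Module.Flat (R x) (C x) := hfl x
  exact fp_of_fp_quotient (I x) (hI x) h0

/-- Flatness over an arbitrary thickening, under finiteness hypotheses. -/
theorem flat_of_deform_fp (hB : MoreMor.IsThickening iB) (hcX : IsPullback iX (f ≫ g) (f' ≫ g') iB)
    (hcY : IsPullback iY g g' iB) (w : iX ≫ f' = f ≫ iY) [Flat (f' ≫ g')] [LocallyOfFinitePresentation (f' ≫ g')]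
    [LocallyOfFiniteType g'] [Flat f] : Flat f' := by
  choose R A C ψ φ oA oC I hA hC hx eφ hIl hIn hfl hft0 hfp0 hP using fun x => exists_ring_deform hB hcX hcY w x
  let 𝒰 : X'.OpenCover := ⟨⟨X', fun x => Spec (C x), oC⟩, by
    rw [Scheme.presieve₀_mem_precoverage_iff]; exact ⟨fun x => ⟨x, hx x⟩, hC⟩⟩
  rw [IsZariskiLocalAtSource.iff_of_openCover (P := @Flat) 𝒰]
  intro x
  have := hA x
  change Flat (oC x ≫ f')
  rw [← eφ x]
  refine MorphismProperty.comp_mem _ _ _ ((HasRingHomProperty.Spec_iff (P := @Flat)).2 ?_) inferInstance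
  have h0 := (HasRingHomProperty.Spec_iff (P := @Flat)).1 (hP x _ EtLocal.flat ‹Flat f›)
  algebraize [(ψ x).hom, (φ x).hom, (φ x).hom.comp (ψ x).hom]
  have : Module.Flat (R x) (C x) := hfl x
  have : Algebra.FiniteType (R x) (A x) := hft0 x ‹_›
  have : Algebra.FinitePresentation (R x) (C x) := hfp0 x ‹_›
  exact flat_of_flat_quotient_fp (I x) (hIl x) h0

/-- A morphism from a spectrum of a field factors through a thickening. -/
theorem exists_lift_field {V V' : Scheme.{u}} (jV : V ⟶ V') [IsClosedImmersion jV] [Surjective jV] {K : Type u}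
    [Field K] (a : Spec (CommRingCat.of K) ⟶ V') : ∃ b : Spec (CommRingCat.of K) ⟶ V, b ≫ jV = a := by
  have : IsClosedImmersion (pullback.snd jV a) := inferInstance
  have : Surjective (pullback.snd jV a) := inferInstance
  have : IsIso (pullback.snd jV a) := isIso_of_isClosedImmersion_of_surjective _
  exact ⟨inv (pullback.snd jV a) ≫ pullback.fst jV a, by
    rw [Category.assoc, pullback.condition, IsIso.inv_hom_id_assoc]⟩

theorem smooth_of_flat_of_thickening {iX : X ⟶ X'} (sX : IsPullback iX f f' iY) [IsClosedImmersion iY]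
    [Surjective iY] [Flat f'] [LocallyOfFinitePresentation f'] [Smooth f] : Smooth f' := by
  refine Smooth.of_smooth_fiberToSpecResidueField f' fun y => ?_
  obtain ⟨b, hb⟩ := exists_lift_field iY (Y'.fromSpecResidueField y)
  have : IsPullback (pullback.fst f b ≫ iX) (pullback.snd f b) f' (Y'.fromSpecResidueField y) := by
    rw [← hb]; exact (IsPullback.of_hasPullback f b).paste_horiz sX
  rw [show f'.fiberToSpecResidueField y = pullback.snd f' (Y'.fromSpecResidueField y) from rfl,
    show pullback.snd f' (Y'.fromSpecResidueField y) = this.isoPullback.inv ≫ pullback.snd f b from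
      this.isoPullback_inv_snd.symm]
  have : Smooth (pullback.snd f b) := MorphismProperty.pullback_snd _ _ ‹Smooth f›
  exact MorphismProperty.comp_mem _ _ _ inferInstance this

theorem smooth_of_deform (hB : MoreMor.IsFiniteOrderThickening iB) (hcX : IsPullback iX (f ≫ g) (f' ≫ g') iB)
    (hcY : IsPullback iY g g' iB) (w : iX ≫ f' = f ≫ iY) [Flat (f' ≫ g')] [Smooth f] : Smooth f' := by
  have := flat_of_deform hB hcX hcY w
  have := lfp_of_deform hB hcX hcY w
  have : IsClosedImmersion iY := MorphismProperty.of_isPullback hcY.flip hB.1.1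
  have : Surjective iY := MorphismProperty.of_isPullback hcY.flip hB.1.2
  exact smooth_of_flat_of_thickening (IsPullback.of_bot hcX w hcY)

end Scheme

open _root_.AlgSp in
/-- Flatness at the points in the image of a flat morphism with flat composite. -/
theorem isFlatAtMor_of_flat_comp {S : Scheme.{u}} {X Y Z : Sp S} (hX : IsAlgSpace X) (hY : IsAlgSpace Y)
    {f : X ⟶ Y} {g : Y ⟶ Z} (hf : LocP @Flat f) (hfg : LocP @Flat (f ≫ g)) (x : Points X) :
    IsFlatAtMor g (Points.map f x) := by
  intro V W a b h v ha hb comm hv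
  have sqP := IsPullback.of_hasPullback f a
  have hP : IsAlgSpace (pullback f a) := isAlgSpace_pullback' hY hX (IsAlgSpace.yon_obj V) f a
  obtain ⟨q, hq₁, hq₂⟩ := exists_of_isPullback sqP (x := x) (y := Points.schemeHomeo V v) (by
    rw [← hv]; rfl)
  obtain ⟨U, r, re, rs⟩ := hP.atlas
  obtain ⟨u, rfl⟩ := surjective_ofPt_of_repWith rs q
  obtain ⟨m, hm⟩ := (yon S).map_surjective (r ≫ pullback.snd f a)
  have hmu : m.left u = v := by
    rw [Points.map_ofPt, ← hm] at hq₂
    apply (Points.schemeHomeo V).injective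
    rw [← hq₂, ← Points.map_yon_map_apply]
    rfl
  have he : RepWith @Etale (r ≫ pullback.fst f a) :=
    repWith_comp re (repWith_of_isPullback sqP.flip ha)
  have c₁ : (r ≫ pullback.fst f a) ≫ f = (yon S).map m ≫ a := by
    rw [Category.assoc, sqP.w, ← Category.assoc, hm]
  have c₂ : (r ≫ pullback.fst f a) ≫ f ≫ g = (yon S).map (m ≫ h) ≫ b := by
    rw [← Category.assoc, c₁, Category.assoc, comm, Functor.map_comp, Category.assoc]
  have : Flat m.left := hf _ _ _ he ha c₁
  have : Flat (m.left ≫ h.left) := hfg _ _ _ he hb c₂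
  subst hmu
  have h1 : (m.left.stalkMap u).hom.Flat := Flat.stalkMap m.left u
  have h2 : ((m.left ≫ h.left).stalkMap u).hom.Flat := Flat.stalkMap _ u
  have h3 : ((m.left.stalkMap u).hom.comp (h.left.stalkMap (m.left u)).hom).Flat := by
    rw [Scheme.Hom.stalkMap_comp] at h2
    exact h2
  change (h.left.stalkMap (m.left u)).hom.Flat
  algebraize [(h.left.stalkMap (m.left u)).hom, (m.left.stalkMap u).hom,
    (m.left.stalkMap u).hom.comp (h.left.stalkMap (m.left u)).hom]
  have : IsLocalHom (algebraMap (V.left.presheaf.stalk (m.left u)) (U.left.presheaf.stalk u)) :=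
    inferInstanceAs (IsLocalHom (m.left.stalkMap u).hom)
  have := Module.FaithfullyFlat.of_flat_of_isLocalHom (A := V.left.presheaf.stalk (m.left u))
    (B := U.left.presheaf.stalk u)
  exact GrothLib.Flatness.flat_of_faithfullyFlat (M := U.left.presheaf.stalk u)

end GrothLib.AlgSp
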