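import Groth.Agent.Lib.AlgSp.BddFibres
import Groth.Agent.Lib.AlgSp.FppfDescent
import Groth.Agent.Lib.AlgSp.AffineDescent
import Groth.Agent.Lib.Weight.FibreDegree
import Groth.Prelude.Def_AlgSpMor5
import Groth.Prelude.Def_Mor2

/-!
# Degrees of finite locally free morphisms

Descent of "finite locally free of degree `d`" along fppf covers.
-/

set_option autoImplicit false
universe u
open CategoryTheory CategoryTheory.Limits AlgebraicGeometry

namespace GrothLib.AlgSp

open _root_.AlgSp

theorem fppfDescends_finLocFreeOfDeg (d : ℕ) : FppfDescends.{u} (finLocFreeOfDeg d) := by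
  intro X Y V X' f c c' f' sq hf hp hs h
  obtain ⟨⟨h1, h2, h3⟩, hd⟩ := h
  haveI g1 : IsFinite f := fppfDescends_isFinite f c c' f' sq hf hp hs h1
  haveI g2 : Flat f := fppfDescends_flat f c c' f' sq hf hp hs h2
  haveI g3 : LocallyOfFinitePresentation f := fppfDescends_lfp f c c' f' sq hf hp hs h3
  refine ⟨⟨g1, g2, g3⟩, fun y => ?_⟩
  obtain ⟨v, rfl⟩ := hs.surj y
  rw [← Scheme.Hom.finrank_of_isPullback _ _ _ _ sq v]
  exact hd v

end GrothLib.AlgSp
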