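import Groth.Agent.Lib.AlgSp.Unramified
import Groth.Agent.Lib.DiagGrp.KernelFP
import Groth.Prelude.Def_AlgSp3

/-!
# The diagonal of a morphism of algebraic spaces computed on charts
-/

universe u

open CategoryTheory CategoryTheory.Limits AlgebraicGeometry

namespace GrothLib.AlgSp

open _root_.AlgSp

variable {S : Scheme.{u}}

theorem locP_diagonal_of_charts {P : MorphismProperty Scheme.{u}} (hP : EtLocal P) {X Y : Sp S}
    (hX : IsAlgSpace X) (hY : IsAlgSpace Y) {f : X ⟶ Y}
    (H : ∀ ⦃U V : Over S⦄ (p : (yon S).obj U ⟶ X) (q : (yon S).obj V ⟶ Y) (h : U ⟶ V),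
      RepWith @Etale p → RepWith @Etale q → p ≫ f = (yon S).map h ≫ q → P (pullback.diagonal h.left)) :
    LocP P (pullback.diagonal f) := by
  obtain ⟨V, q, qe, qs⟩ := hY.atlas
  obtain ⟨U, p, h, pe, hp, hps⟩ := exists_chart_over hX hY f q qe
  have := hP.respectsIso
  -- the chart of the fibre product
  let b₁ := pullback.mapDesc ((yon S).map h) ((yon S).map h) q
  have hb₁ : RepWith @Etale b₁ :=
    repWith_mono (repWith_mapDesc _ _ q (etale_diagonal_of_etale qe)) fun A B g (hg : IsOpenImmersion g) =>
      show Etale g from inferInstance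
  let b₂ : pullback ((yon S).map h ≫ q) ((yon S).map h ≫ q) ⟶ pullback f f :=
    pullback.lift (pullback.fst _ _ ≫ p) (pullback.snd _ _ ≫ p)
      (by rw [Category.assoc, Category.assoc, hp, pullback.condition])
  have hb₂ : RepWith @Etale b₂ := by
    have h2 := repWith_of_isPullback (isPullback_map_prodMap f p) (repWith_prodMap pe pe)
    have e : b₂ = (pullback.congrHom hp.symm hp.symm).hom ≫
        pullback.map (p ≫ f) (p ≫ f) f f p p (𝟙 Y) (by simp) (by simp) := by
      apply pullback.hom_ext <;> simp only [b₂, pullback.map, pullback.congrHom, asIso_hom, Category.assoc, pullback.lift_fst,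
        pullback.lift_snd, pullback.lift_fst_assoc, pullback.lift_snd_assoc, Category.id_comp, Category.comp_id]
    rw [e]
    exact (MorphismProperty.cancel_left_of_respectsIso (RepWith @Etale) _ _).2 h2
  have sqh := isPullback_yon (IsPullback.of_hasPullback h h)
  let b : (yon S).obj (pullback h h) ⟶ pullback f f := sqh.isoPullback.hom ≫ b₁ ≫ b₂
  have hb : RepWith @Etale b :=
    (MorphismProperty.cancel_left_of_respectsIso (RepWith @Etale) _ _).2 (repWith_comp hb₁ hb₂)
  refine EtLocal.locP_of_chart hP pe (hps qs) hb (h := pullback.diagonal h) ?_ ?_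
  · apply pullback.hom_ext
    · simp only [b, b₁, b₂, pullback.map, pullback.mapDesc, Category.assoc, pullback.diagonal_fst,
        Category.comp_id, pullback.lift_fst, pullback.lift_fst_assoc, Category.id_comp,
        IsPullback.isoPullback_hom_fst_assoc]
      rw [← Functor.map_comp_assoc, pullback.diagonal_fst, CategoryTheory.Functor.map_id, Category.id_comp]
    · simp only [b, b₁, b₂, pullback.map, pullback.mapDesc, Category.assoc, pullback.diagonal_snd,
        Category.comp_id, pullback.lift_snd, pullback.lift_snd_assoc, Category.id_comp,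
        IsPullback.isoPullback_hom_snd_assoc]
      rw [← Functor.map_comp_assoc, pullback.diagonal_snd, CategoryTheory.Functor.map_id, Category.id_comp]
  · have sq := isPullback_left (IsPullback.of_hasPullback h h)
    have e : (pullback.diagonal h).left ≫ sq.isoPullback.hom = pullback.diagonal h.left := by
      apply pullback.hom_ext
      · rw [Category.assoc, IsPullback.isoPullback_hom_fst, ← Over.comp_left, pullback.diagonal_fst,
          pullback.diagonal_fst]; rfl
      · rw [Category.assoc, IsPullback.isoPullback_hom_snd, ← Over.comp_left, pullback.diagonal_snd,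
          pullback.diagonal_snd]; rfl
    rw [← MorphismProperty.cancel_right_of_respectsIso P _ sq.isoPullback.hom, e]
    exact H p q h pe qe hp

theorem locP_lfp_diagonal {X Y : Sp S} (hX : IsAlgSpace X) (hY : IsAlgSpace Y) {f : X ⟶ Y}
    (hf : LocP @LocallyOfFiniteType f) : LocP @LocallyOfFinitePresentation (pullback.diagonal f) :=
  locP_diagonal_of_charts EtLocal.lfp hX hY fun U V p q h pe qe hp => by
    have : LocallyOfFiniteType h.left := hf p q h pe qe hp
    exact GrothLib.DiagGrp.lfp_of_comp_of_lft _ (pullback.fst h.left h.left)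
      (by rw [pullback.diagonal_fst]; infer_instance) inferInstance

end GrothLib.AlgSp

namespace GrothLib.AlgSp

open _root_.AlgSp

variable {S : Scheme.{u}}

/-- The fibre product as a base change of the diagonal of the base. -/
theorem isPullback_prodLift_diag {X Y : Sp S} (f : X ⟶ Y) :
    IsPullback (pullback.fst f f ≫ f) (prod.lift (pullback.fst f f) (pullback.snd f f)) (Limits.diag Y)
      (prod.map f f) := by
  refine isPullback_of_yon (by apply prod.hom_ext <;> simp [pullback.condition]) fun T a b hab => ?_
  have h1 := congrArg (fun x => x ≫ prod.fst) hab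
  have h2 := congrArg (fun x => x ≫ prod.snd) hab
  simp only [Limits.diag, Category.assoc, prod.lift_fst, prod.lift_snd, prod.map_fst, prod.map_snd,
    Category.comp_id] at h1 h2
  refine ⟨pullback.lift (b ≫ prod.fst) (b ≫ prod.snd) (by rw [Category.assoc, Category.assoc, ← h1, ← h2]),
    ⟨by rw [← Category.assoc, pullback.lift_fst, Category.assoc, ← h1], ?_⟩, fun c hc => ?_⟩
  · apply prod.hom_ext
    · rw [Category.assoc, prod.lift_fst, pullback.lift_fst]
    · rw [Category.assoc, prod.lift_snd, pullback.lift_snd]
  · apply pullback.hom_ext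
    · rw [pullback.lift_fst, ← hc.2, Category.assoc, prod.lift_fst]
    · rw [pullback.lift_snd, ← hc.2, Category.assoc, prod.lift_snd]

theorem isQuasiSeparatedSp_of_mor {X Y : Sp S} {f : X ⟶ Y} (hf : IsQuasiSeparatedMor f)
    (hY : IsQuasiSeparatedSp Y) : IsQuasiSeparatedSp X := by
  have e : Limits.diag X = pullback.diagonal f ≫ prod.lift (pullback.fst f f) (pullback.snd f f) := by
    apply prod.hom_ext <;> simp
  change RepWith @QuasiCompact (Limits.diag X)
  rw [e]
  exact repWith_comp hf (repWith_of_isPullback (isPullback_prodLift_diag f) hY)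

end GrothLib.AlgSp
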