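import Groth.Agent.Lib.AlgSp.FibreDimZero
import Groth.Agent.Lib.AlgSp.Space

/-!
# The quasi-finite locus of a morphism of algebraic spaces
-/

universe u

open CategoryTheory CategoryTheory.Limits AlgebraicGeometry Opposite

namespace GrothLib.AlgSp

open _root_.AlgSp

variable {S : Scheme.{u}} {F G : Sp S}

theorem exists_chart_at (hF : IsAlgSpace F) (hG : IsAlgSpace G) (f : F ⟶ G) (x : Points F) :
    ∃ (U V : Over S) (a : (yon S).obj U ⟶ F) (b : (yon S).obj V ⟶ G) (h : U ⟶ V) (u : ↥U.left),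
      RepWith @Etale a ∧ RepWith @Etale b ∧ a ≫ f = (yon S).map h ≫ b ∧ Points.ofPt a u = x := by
  obtain ⟨V, q, qe, qs⟩ := hG.atlas
  obtain ⟨U, p, α, pe, hp, hps⟩ := exists_chart_over hF hG f q qe
  obtain ⟨u, rfl⟩ := surjective_ofPt_of_repWith (hps qs) x
  exact ⟨U, V, p, q, α, u, pe, qe, hp, rfl⟩

theorem hasAtMor_lqf_iff (hF : IsAlgSpace F) (hG : IsAlgSpace G) {f : F ⟶ G}
    (hf : LocP @LocallyOfFiniteType f) (x : Points F) :
    HasAtMor (fun U _ h u => ∃ W : U.Opens, u ∈ W ∧ LocallyQuasiFinite (W.ι ≫ h) ∧ LocallyOfFiniteType (W.ι ≫ h))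
        f x ↔
      HasAtMor (fun _ _ h u => FlatMor.fibreDimAt h u ≤ 0) f x := by
  constructor
  · rintro ⟨U, V, a, b, h, u, ha, hb, c, rfl, W, hu, h₁, h₂⟩
    refine ⟨U, V, a, b, h, u, ha, hb, c, rfl, ?_⟩
    have : LocallyOfFiniteType h.left := hf a b h ha hb c
    refine (quasiFiniteAt_iff_fibreDimAt h.left u).1 ?_
    have hq := (W.ι ≫ h.left).quasiFiniteAt (⟨u, hu⟩ : W.toScheme)
    exact (Scheme.Hom.quasiFiniteAt_comp_iff_of_isOpenImmersion (f := W.ι) (g := h.left)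
      (x := (⟨u, hu⟩ : W.toScheme))).1 hq
  · rintro ⟨U, V, a, b, h, u, ha, hb, c, rfl, hd⟩
    have : LocallyOfFiniteType h.left := hf a b h ha hb c
    refine ⟨U, V, a, b, h, u, ha, hb, c, rfl, h.left.quasiFiniteLocus,
      (quasiFiniteAt_iff_fibreDimAt h.left u).2 hd, ?_, inferInstance⟩
    rw [← Scheme.Hom.quasiFiniteLocus_eq_top_iff, Scheme.Hom.quasiFiniteLocus_comp]
    exact h.left.quasiFiniteLocus.ι_preimage_self

end GrothLib.AlgSp
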