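import Groth.Agent.Lib.AlgSp.UnramLocusSpace
import Groth.Agent.Lib.AlgSp.OpenSub
import Groth.Prelude.Def_AlgSp4

/-!
# Largest open subspaces over which something holds
-/

universe u

open CategoryTheory CategoryTheory.Limits AlgebraicGeometry Opposite

namespace GrothLib.AlgSp

open _root_.AlgSp

variable {S : Scheme.{u}} {F G : Sp S}

/-- Maps landing in a set of points factor through the subspace. -/
theorem exists_factor_openSub {W : Set (Points F)} (g : G ⟶ F) (h : ∀ x, Points.map g x ∈ W) :
    ∃ k : G ⟶ openSub F W, k ≫ openSubι F W = g := by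
  have hs : ∀ (T : (Over S)ᵒᵖ) (s : G.obj.obj T), g.hom.app T s ∈ (subfunctorOfSet F W).obj T := fun T s t => by
    rw [← GrothendieckTopology.uliftYonedaEquiv_symm_naturality_right, ← Points.map_ofPt]
    exact h _
  have hr : Subfunctor.range g.hom ≤ subfunctorOfSet F W := by
    rintro T _ ⟨s, rfl⟩
    exact hs T s
  refine ⟨ObjectProperty.homMk (Subfunctor.lift g.hom hr), ?_⟩
  · exact Sheaf.hom_ext (Subfunctor.lift_ι g.hom hr)

/-- For a closed morphism and an open set upstairs, the open subspace over which all points lie in the set. -/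
theorem exists_open_where {X Z : Space S} (p : X ⟶ Z) (hp : IsClosedMor p.hom) {U : Set (Points X.obj)}
    (hU : IsOpen U) :
    ∃ (W : Space S) (w : W ⟶ Z), RepWith @IsOpenImmersion w.hom ∧ ∀ (Z' : Space S) (g : Z' ⟶ Z),
      (∃ k : Z' ⟶ W, k ≫ w = g) ↔
        ∀ (x : Points X.obj) (z : Points Z'.obj), Points.map p.hom x = Points.map g.hom z → x ∈ U := by
  let O : Set (Points Z.obj) := (Points.map p.hom '' Uᶜ)ᶜ
  have hO : IsOpen O := (hp _ hU.isClosed_compl).isOpen_compl
  let W : Space S := ⟨openSub Z.obj O, isAlgSpace_openSub Z.property hO⟩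
  refine ⟨W, ObjectProperty.homMk (openSubι Z.obj O), repWith_openSubι hO, fun Z' g => ⟨?_, fun h => ?_⟩⟩
  · rintro ⟨k, rfl⟩ x z e
    by_contra hx
    have : Points.map (openSubι Z.obj O) (Points.map k.hom z) ∈ O :=
      range_openSubι.subset ⟨_, rfl⟩
    exact this ⟨x, hx, by rw [e, ← Points.map_comp]; rfl⟩
  · obtain ⟨k, hk⟩ := exists_factor_openSub g.hom (W := O) fun z ⟨x, hx, e⟩ => hx (h x z e)
    exact ⟨ObjectProperty.homMk k, InducedCategory.Hom.ext hk⟩

end GrothLib.AlgSp

namespace GrothLib.AlgSp.UnramLocus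

open _root_.AlgSp TrivLocus

variable {S : Scheme.{u}} {F G : Sp S}

theorem locP_iff_forall (hF : IsAlgSpace F) (hG : IsAlgSpace G) {f : F ⟶ G} (hf : LocP @LocallyOfFiniteType f) :
    LocP (@LocallyOfFiniteType ⊓ @FormallyUnramified) f ↔ ∀ x : Points F, HasAtMor UnrAt f x := by
  obtain ⟨V, b, hb, hbs⟩ := hG.atlas
  obtain ⟨U, a, h, ha, c, has⟩ := exists_chart_over hF hG f b hb
  have : LocallyOfFiniteType h.left := hf a b h ha hb c
  constructor
  · intro hu x
    obtain ⟨u, rfl⟩ := surjective_ofPt_of_repWith (has hbs) x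
    have : FormallyUnramified h.left := (hu a b h ha hb c).2
    refine (hasAtMor_iff hF hG hf ha hb c u).2 ?_
    rw [mem_unrOpen]
    exact FormallyUnramified.stalkMap h.left u
  · intro hu
    refine EtLocal.locP_of_chart (EtLocal.lft.inf EtLocal.formallyUnramified) ha (has hbs) hb c
      ⟨inferInstance, ?_⟩
    have h' := formallyUnramified_of_le_unrOpen h.left (O := ⊤)
      (fun u _ => (hasAtMor_iff hF hG hf ha hb c u).1 (hu _))
    rwa [← Scheme.topIso_hom, MorphismProperty.cancel_left_of_respectsIso @FormallyUnramified] at h'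

/-- The open where the base change is unramified. -/
theorem exists_open_where_unramified {X Y Z : Space S} (f : X ⟶ Y) (p : X ⟶ Z) (q : Y ⟶ Z) (hc : f ≫ q = p)
    (hp1 : LocP @LocallyOfFiniteType p.hom) (hp2 : IsClosedMor p.hom) :
    ∃ (W : Space S) (w : W ⟶ Z), RepWith @IsOpenImmersion w.hom ∧ ∀ (Z' : Space S) (g : Z' ⟶ Z),
      (∃ k : Z' ⟶ W, k ≫ w = g) ↔
        ∀ (Y' : Space S) (gY : Y' ⟶ Y) (q' : Y' ⟶ Z'), IsPullback gY.hom q'.hom q.hom g.hom →
          ∀ (X' : Space S) (gX : X' ⟶ X) (f' : X' ⟶ Y'), IsPullback gX.hom f'.hom f.hom gY.hom →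
            LocP (@LocallyOfFiniteType ⊓ @FormallyUnramified) f'.hom := by
  have hfq : f.hom ≫ q.hom = p.hom := congrArg (fun k => k.hom) hc
  have hf : LocP @LocallyOfFiniteType f.hom :=
    EtLocal.locP_of_comp .lft (fun _ _ _ f g h => locallyOfFiniteType_of_comp f g)
      X.property Y.property Z.property (g := q.hom) (hfq ▸ hp1)
  obtain ⟨W, w, hw, hW⟩ := exists_open_where p hp2 (isOpen_hasAtMor X.property Y.property hf)
  refine ⟨W, w, hw, fun Z' g => (hW Z' g).trans ⟨fun h Y' gY q' sq1 X' gX f' sq2 => ?_, fun h x z e => ?_⟩⟩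
  · refine (locP_iff_forall X'.property Y'.property
      (EtLocal.lft.locP_of_isPullback X.property Y.property Y'.property sq2 hf)).2 fun x' => ?_
    refine (preimage_hasAtMor X.property Y.property X'.property Y'.property hf sq2).symm.subset ?_
    refine h _ (Points.map (f'.hom ≫ q'.hom) x') ?_
    rw [← hfq, ← Points.map_comp, ← Points.map_comp, ← Category.assoc, sq2.w, Category.assoc, sq1.w, Category.assoc]
  · let Y' : Space S := ⟨pullback q.hom g.hom, isAlgSpace_pullback' Z.property Y.property Z'.property _ _⟩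
    let gY : Y' ⟶ Y := ObjectProperty.homMk (pullback.fst q.hom g.hom)
    let q' : Y' ⟶ Z' := ObjectProperty.homMk (pullback.snd q.hom g.hom)
    let X' : Space S := ⟨pullback f.hom gY.hom, isAlgSpace_pullback' Y.property X.property Y'.property _ _⟩
    let gX : X' ⟶ X := ObjectProperty.homMk (pullback.fst f.hom gY.hom)
    let f' : X' ⟶ Y' := ObjectProperty.homMk (pullback.snd f.hom gY.hom)
    have sq2 : IsPullback gX.hom f'.hom f.hom gY.hom := IsPullback.of_hasPullback _ _
    have sq1 : IsPullback gY.hom q'.hom q.hom g.hom := IsPullback.of_hasPullback _ _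
    have hu := h Y' gY q' sq1 X' gX f' sq2
    obtain ⟨x', hx', -⟩ := exists_of_isPullback (sq2.paste_vert sq1) (x := x) (y := z) (hfq.symm ▸ e)
    rw [← hx']
    exact (preimage_hasAtMor X.property Y.property X'.property Y'.property hf sq2).subset
      ((locP_iff_forall X'.property Y'.property
        (EtLocal.lft.locP_of_isPullback X.property Y.property Y'.property sq2 hf)).1 hu x')

end GrothLib.AlgSp.UnramLocus
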