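import Groth.Prelude.Def_AlgSpGpd
import Mathlib.CategoryTheory.Monoidal.Cartesian.Over
import Mathlib.CategoryTheory.Monoidal.Cartesian.Grp_
import Groth.Agent.Lib.AlgSp.WhereLocus
import Groth.Agent.Lib.AlgSp.LqfPoint
import Groth.Agent.Lib.AlgSp.FibreDimBC
import Groth.Agent.Lib.AlgSp.Space

/-!
# Loci of a group algebraic space

A locus which is compatible with base change meets a fibre of a group algebraic space either in the whole fibre or
outside of the unit.
-/

set_option backward.isDefEq.respectTransparency false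

universe u

open CategoryTheory CategoryTheory.Limits AlgebraicGeometry CartesianMonoidalCategory MonoidalCategory

open scoped MonObj

namespace GrothLib.AlgSp.GrpLocus

open _root_.AlgSp

variable {S : Scheme.{u}}

/-- A locus of morphisms locally of finite type, open and compatible with base change. -/
structure Locus (Q : MorphismProperty Scheme.{u}) (L : ∀ {F G : Sp S}, (F ⟶ G) → Set (Points F)) : Prop where
  isOpen : ∀ {F G : Sp S} {f : F ⟶ G}, IsAlgSpace F → IsAlgSpace G → LocP @LocallyOfFiniteType f → IsOpen (L f)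
  preimage : ∀ {F G F' G' : Sp S} {f : F ⟶ G} {f' : F' ⟶ G'} {p : F' ⟶ F} {g : G' ⟶ G}, IsAlgSpace F →
    IsAlgSpace G → IsAlgSpace F' → IsAlgSpace G' → LocP @LocallyOfFiniteType f → IsPullback p f' f g →
      L f' = Points.map p ⁻¹' L f
  iff_all : ∀ {F G : Sp S} {f : F ⟶ G}, IsAlgSpace F → IsAlgSpace G → LocP @LocallyOfFiniteType f →
    (LocP Q f ↔ ∀ x, x ∈ L f)

variable {B : Sp S} (G : Over B) [GrpObj G]

/-- The unit section. -/
noncomputable abbrev unitSec : B ⟶ G.left := (η[G]).left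

theorem exists_translation {T : Sp S} (g₀ : T ⟶ G.left) :
    ∃ (τ : pullback G.hom (g₀ ≫ G.hom) ⟶ pullback G.hom (g₀ ≫ G.hom)) (p : T ⟶ pullback G.hom (g₀ ≫ G.hom)),
      IsIso τ ∧ τ ≫ pullback.snd _ _ = pullback.snd _ _ ∧
        p ≫ pullback.fst G.hom (g₀ ≫ G.hom) = (g₀ ≫ G.hom) ≫ (η[G]).left ∧
        p ≫ τ ≫ pullback.fst G.hom (g₀ ≫ G.hom) = g₀ := by
  let T' : Over B := Over.mk (g₀ ≫ G.hom)
  let P : Over B := Over.mk (pullback.fst G.hom (g₀ ≫ G.hom) ≫ G.hom)
  let a : P ⟶ G := Over.homMk (pullback.fst G.hom (g₀ ≫ G.hom)) rfl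
  let c : P ⟶ G := Over.homMk (pullback.snd G.hom (g₀ ≫ G.hom) ≫ g₀) (by
    change (pullback.snd G.hom (g₀ ≫ G.hom) ≫ g₀) ≫ G.hom = pullback.fst G.hom (g₀ ≫ G.hom) ≫ G.hom
    rw [Category.assoc, pullback.condition])
  have hw : ∀ m : P ⟶ G, m.left ≫ G.hom = pullback.snd G.hom (g₀ ≫ G.hom) ≫ g₀ ≫ G.hom := fun m =>
    (Over.w m).trans pullback.condition
  let τ : ∀ _ : P ⟶ G, P ⟶ P := fun m =>
    Over.homMk (pullback.lift m.left (pullback.snd _ _) (hw m)) (by
      change pullback.lift m.left _ _ ≫ pullback.fst _ _ ≫ G.hom = pullback.fst _ _ ≫ G.hom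
      rw [pullback.lift_fst_assoc]
      exact Over.w m)
  have hτa : ∀ m, τ m ≫ a = m := fun m => Over.OverMorphism.ext (pullback.lift_fst _ _ _)
  have hτc : ∀ m, τ m ≫ c = c := fun m => Over.OverMorphism.ext (by
    change pullback.lift m.left _ _ ≫ pullback.snd _ _ ≫ g₀ = pullback.snd _ _ ≫ g₀
    rw [pullback.lift_snd_assoc])
  have comp : ∀ m m', τ m ≫ τ m' = τ (τ m ≫ m') := fun m m' => Over.OverMorphism.ext (by
    apply pullback.hom_ext <;> simp [τ])
  have one : τ a = 𝟙 P := Over.OverMorphism.ext (by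
    apply pullback.hom_ext <;> simp [τ, a] <;> rfl)
  have h₁ : τ (c * a) ≫ (c⁻¹ * a) = a := by
    rw [MonObj.comp_mul, GrpObj.comp_inv, hτc, hτa, inv_mul_cancel_left]
  have h₂ : τ (c⁻¹ * a) ≫ (c * a) = a := by
    rw [MonObj.comp_mul, hτc, hτa, mul_inv_cancel_left]
  let e : T' ⟶ G := 1
  let p : T' ⟶ P := Over.homMk (pullback.lift e.left (𝟙 T) ((Over.w e).trans (Category.id_comp _).symm)) (by
    change pullback.lift e.left _ _ ≫ pullback.fst _ _ ≫ G.hom = g₀ ≫ G.hom
    rw [pullback.lift_fst_assoc]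
    exact Over.w e)
  have hpa : p ≫ a = e := Over.OverMorphism.ext (pullback.lift_fst _ _ _)
  have hpc : p ≫ c = (Over.homMk g₀ rfl : T' ⟶ G) := Over.OverMorphism.ext (by
    change pullback.lift e.left _ _ ≫ pullback.snd _ _ ≫ g₀ = g₀
    rw [pullback.lift_snd_assoc]; exact Category.id_comp g₀)
  refine ⟨(τ (c * a)).left, p.left, ?_, pullback.lift_snd _ _ _, ?_, ?_⟩
  · refine ⟨(τ (c⁻¹ * a)).left, ?_, ?_⟩
    · exact congrArg (fun k => k.left) (((comp _ _).trans (congrArg τ h₁)).trans one)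
    · exact congrArg (fun k => k.left) (((comp _ _).trans (congrArg τ h₂)).trans one)
  · refine (pullback.lift_fst _ _ _).trans ?_
    change (1 : T' ⟶ G).left = _
    rw [Hom.one_def, Over.comp_left, Over.toUnit_left]
    rfl
  · have : p ≫ τ (c * a) ≫ a = (Over.homMk g₀ rfl : T' ⟶ G) := by
      rw [hτa, MonObj.comp_mul, hpa, hpc]
      exact mul_one _
    exact congrArg (fun k => k.left) this

variable {Q : MorphismProperty Scheme.{u}} {L : ∀ {F G : Sp S}, (F ⟶ G) → Set (Points F)}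

theorem mem_iff_unit (hL : Locus Q @L) (hB : IsAlgSpace B) (hG : IsAlgSpace G.left)
    (hlft : LocP @LocallyOfFiniteType G.hom) (x : Points G.left) :
    x ∈ L G.hom ↔ Points.map (unitSec G) (Points.map G.hom x) ∈ L G.hom := by
  obtain ⟨K, _, str, g₀, rfl⟩ := exists_ofPt x
  obtain ⟨τ, p, hτ, hτs, hpa, hpc⟩ := exists_translation G g₀
  have hT := IsAlgSpace.yon_obj (Over.mk str)
  have hP := isAlgSpace_pullback' hB hG hT G.hom (g₀ ≫ G.hom)
  have sq := IsPullback.of_hasPullback G.hom (g₀ ≫ G.hom)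
  have hl := EtLocal.lft.locP_of_isPullback hG hB hT sq hlft
  have e₁ := hL.preimage hG hB hP hT hlft sq
  have e₂ : L (pullback.snd G.hom (g₀ ≫ G.hom)) = Points.map τ ⁻¹' L (pullback.snd G.hom (g₀ ≫ G.hom)) :=
    hL.preimage hP hT hP hT hl (g := 𝟙 _) (IsPullback.of_horiz_isIso ⟨by rw [hτs, Category.comp_id]⟩)
  rw [e₁] at e₂
  have := Set.ext_iff.1 e₂ (Points.map p (Points.ofScheme (Over.mk str) (IsLocalRing.closedPoint K)))
  simp only [Set.mem_preimage, ← Points.map_comp, Category.assoc, hpa, hpc] at this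
  rw [Points.ofPt_eq_map_ofScheme g₀, ← Points.map_comp, ← Points.map_comp]
  exact this.symm

theorem locP_iff_range (hL : Locus Q @L) (hB : IsAlgSpace B) (hG : IsAlgSpace G.left)
    (hlft : LocP @LocallyOfFiniteType G.hom) {Z P : Sp S} (hZ : IsAlgSpace Z) {g : Z ⟶ B} {p : P ⟶ G.left}
    {f : P ⟶ Z} (sq : IsPullback p f G.hom g) :
    LocP Q f ↔ Set.range (Points.map g) ⊆ Points.map (unitSec G) ⁻¹' L G.hom := by
  have hP := isAlgSpace_pullback hB.diag hG hZ sq
  rw [hL.iff_all hP hZ (EtLocal.lft.locP_of_isPullback hG hB hZ sq hlft),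
    hL.preimage hG hB hP hZ hlft sq]
  have he : (unitSec G) ≫ G.hom = 𝟙 B := Over.w (η[G])
  constructor
  · rintro h _ ⟨z, rfl⟩
    obtain ⟨y, hy, -⟩ := exists_of_isPullback sq (x := Points.map (unitSec G) (Points.map g z)) (y := z) (by
      rw [← Points.map_comp (unitSec G), he, Points.map_id])
    have := h y
    rw [Set.mem_preimage, hy] at this
    exact this
  · intro h y
    rw [Set.mem_preimage, mem_iff_unit G hL hB hG hlft, ← Points.map_comp p, sq.w, Points.map_comp]
    exact h ⟨_, rfl⟩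

theorem locP_iff_unit (hL : Locus Q @L) (hB : IsAlgSpace B) (hG : IsAlgSpace G.left)
    (hlft : LocP @LocallyOfFiniteType G.hom) :
    LocP Q G.hom ↔ ∀ b : Points B, Points.map (unitSec G) b ∈ L G.hom := by
  rw [locP_iff_range G hL hB hG hlft hB (g := 𝟙 B) (p := 𝟙 _) IsPullback.of_id_fst, Set.range_subset_iff]
  simp only [Points.map_id, Set.mem_preimage]

theorem exists_largest (hL : Locus Q @L) (hB : IsAlgSpace B) (hG : IsAlgSpace G.left)
    (hlft : LocP @LocallyOfFiniteType G.hom) :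
    ∃ (W : Sp S) (w : W ⟶ B), RepWith @IsOpenImmersion w ∧
      (∀ (W' : Sp S) (w' : W' ⟶ B), RepWith @IsOpenImmersion w' →
        (LocP Q (pullback.snd G.hom w') ↔ ∃ k : W' ⟶ W, k ≫ w = w')) ∧
      (∀ (B' : Sp S), IsAlgSpace B' → ∀ (f : B' ⟶ B) (W'' : Sp S) (w'' : W'' ⟶ B'),
        RepWith @IsOpenImmersion w'' →
        (LocP Q (pullback.snd (pullback.snd G.hom f) w'') ↔
          ∃ k : W'' ⟶ pullback w f, k ≫ pullback.snd w f = w'')) := by
  have ho : IsOpen (Points.map (unitSec G) ⁻¹' L G.hom) :=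
    (hL.isOpen hG hB hlft).preimage (Points.continuous_map _)
  refine ⟨_, openSubι B (Points.map (unitSec G) ⁻¹' L G.hom), repWith_openSubι ho, fun W' w' hw' => ?_,
    fun B' hB' f W'' w'' hw'' => ?_⟩
  · rw [locP_iff_range G hL hB hG hlft (isAlgSpace_of_representable hB hw'.1) (IsPullback.of_hasPullback _ _),
      exists_factor_iff (repWith_openSubι ho), range_openSubι]
  · rw [locP_iff_range G hL hB hG hlft (isAlgSpace_of_representable hB' hw''.1)
      ((IsPullback.of_hasPullback _ w'').paste_horiz (IsPullback.of_hasPullback G.hom f))]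
    have key : (∃ k, k ≫ openSubι B (Points.map (unitSec G) ⁻¹' L G.hom) = w'' ≫ f) ↔
        Set.range (Points.map (w'' ≫ f)) ⊆ Points.map (unitSec G) ⁻¹' L G.hom := by
      rw [exists_factor_iff (repWith_openSubι ho), range_openSubι]
    rw [← key]
    constructor
    · rintro ⟨k, hk⟩
      exact ⟨pullback.lift k w'' hk, pullback.lift_snd _ _ _⟩
    · rintro ⟨k, hk⟩
      exact ⟨k ≫ pullback.fst _ f, by rw [Category.assoc, pullback.condition, reassoc_of% hk]⟩

theorem unr : Locus (S := S) (@LocallyOfFiniteType ⊓ @FormallyUnramified)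
    (fun {_ _} f => {x | HasAtMor UnramLocus.UnrAt f x}) where
  isOpen hF hG hf := UnramLocus.isOpen_hasAtMor hF hG hf
  preimage hF hG hF' hG' hf sq := UnramLocus.preimage_hasAtMor hF hG hF' hG' hf sq
  iff_all hF hG hf := UnramLocus.locP_iff_forall hF hG hf

theorem qfAt_iff {F G : Sp S} (hF : IsAlgSpace F) (hG : IsAlgSpace G) {f : F ⟶ G} {U V : Over S}
    {a : (yon S).obj U ⟶ F} {b : (yon S).obj V ⟶ G} {h : U ⟶ V} (ha : RepWith @Etale a)
    (hb : RepWith @Etale b) (c : a ≫ f = (yon S).map h ≫ b) [LocallyOfFiniteType h.left] (u : ↥U.left) :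
    HasAtMor (fun _ _ h u => FlatMor.fibreDimAt h u ≤ 0) f (Points.ofPt a u) ↔
      u ∈ h.left.quasiFiniteLocus :=
  (hasAtMor_fibreDim_iff hF hG ha hb c u (fun d => d ≤ 0)).trans (quasiFiniteAt_iff_fibreDimAt h.left u).symm

theorem lqf : Locus (S := S) (@LocallyQuasiFinite ⊓ @LocallyOfFiniteType)
    (fun {_ _} f => {x | HasAtMor (fun _ _ h u => FlatMor.fibreDimAt h u ≤ 0) f x}) where
  isOpen {F G f} hF hG hf := by
    obtain ⟨V, b, hb, hbs⟩ := hG.atlas
    obtain ⟨U, a, h, ha, c, has⟩ := exists_chart_over hF hG f b hb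
    have : LocallyOfFiniteType h.left := hf a b h ha hb c
    have e : {x : Points F | HasAtMor (fun _ _ h u => FlatMor.fibreDimAt h u ≤ 0) f x} =
        Points.ofPt a '' (h.left.quasiFiniteLocus : Set U.left) := by
      ext x
      obtain ⟨u, rfl⟩ := surjective_ofPt_of_repWith (has hbs) x
      refine ⟨fun hx => ⟨u, (qfAt_iff hF hG ha hb c u).1 hx, rfl⟩, ?_⟩
      rintro ⟨u', hu', e⟩
      rw [← e]
      exact (qfAt_iff hF hG ha hb c u').2 hu'
    rw [e]
    exact isOpenMap_ofPt_of_etale ha _ h.left.quasiFiniteLocus.isOpen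
  preimage {F G F' G' f f' p g} hF hG hF' hG' hf sq := by
    ext x'
    obtain ⟨U, V, U', V', a, b, a', b', h, h', q, r, u', ha, hb, ha', hb', c, c', cp, sq', rfl⟩ :=
      exists_bc_charts hF hG hG' sq x'
    have : LocallyOfFiniteType h.left := hf a b h ha hb c
    refine (hasAtMor_fibreDim_iff hF' hG' ha' hb' c' u' (fun d => d ≤ 0)).trans ?_
    rw [fibreDimAt_of_isPullback sq', Set.mem_preimage, Points.map_ofPt, cp, ofPt_map_comp]
    exact (hasAtMor_fibreDim_iff hF hG ha hb c _ (fun d => d ≤ 0)).symm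
  iff_all {F G f} hF hG hf := by
    obtain ⟨V, b, hb, hbs⟩ := hG.atlas
    obtain ⟨U, a, h, ha, c, has⟩ := exists_chart_over hF hG f b hb
    have : LocallyOfFiniteType h.left := hf a b h ha hb c
    constructor
    · intro hq x
      obtain ⟨u, rfl⟩ := surjective_ofPt_of_repWith (has hbs) x
      exact (hasAtMor_fibreDim_iff hF hG ha hb c u (fun d => d ≤ 0)).2
        ((lqf_iff_fibreDimAt h.left).1 (hq a b h ha hb c).1 u)
    · intro hq
      exact EtLocal.locP_of_chart (EtLocal.lqf.inf EtLocal.lft) ha (has hbs) hb c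
        ⟨(lqf_iff_fibreDimAt h.left).2 fun u => (hasAtMor_fibreDim_iff hF hG ha hb c u (fun d => d ≤ 0)).1 (hq _),
          inferInstance⟩

end GrothLib.AlgSp.GrpLocus
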