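import Groth.Agent.Lib.AlgSp.FiniteNhd
import Groth.Agent.Lib.AlgSp.LqfScheme
import Groth.Agent.Lib.AlgSp.Strata
import Groth.Agent.Lib.AlgSp.UnivClosed
import Groth.Agent.Lib.AlgSp.FppfDescent
import Groth.Agent.Lib.AlgSp.Quotient
import Groth.Agent.Lib.AlgSp.FpqcProps
import Groth.Agent.Lib.QFDense6.Dense

/-!
# Finiteness over a neighbourhood of a maximal point

`exists_finite_nhd_maximal`: a quasi-separated finite type space over an affine scheme which is
quasi-finite over a maximal point of the base is finite over a neighbourhood of this point.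
-/

universe u

open CategoryTheory CategoryTheory.Limits AlgebraicGeometry

set_option backward.isDefEq.respectTransparency false
set_option maxHeartbeats 800000

namespace GrothLib.AlgSp

open _root_.AlgSp

variable {S : Scheme.{u}}

/-- A closed subset of an affine scheme missing the fibre over a maximal point misses the fibres over a
basic neighbourhood of it. -/
theorem exists_basicOpen_disjoint_of_maximal {U V : Scheme.{u}} [IsAffine U] [IsAffine V] (h : U ⟶ V) {Z : Set ↥U}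
    (hZ : IsClosed Z) {v : ↥V} (hv : ∀ z : ↥V, z ⤳ v → z = v) (hZv : ∀ u ∈ Z, h u ≠ v) :
    ∃ g : Γ(V, ⊤), v ∈ V.basicOpen g ∧ ∀ u ∈ Z, h u ∉ V.basicOpen g := by
  have hU := isAffineOpen_top U
  have hV := isAffineOpen_top V
  let φ := h.appLE ⊤ ⊤ le_rfl
  have e : Spec.map φ ≫ hV.fromSpec = hU.fromSpec ≫ h := hV.SpecMap_appLE_fromSpec h hU le_rfl
  obtain ⟨I, hI⟩ := (PrimeSpectrum.isClosed_iff_zeroLocus_ideal _).1 (hZ.preimage hU.fromSpec.continuous)
  let p := hV.primeIdealOf ⟨v, trivial⟩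
  have hp : hV.fromSpec p = v := hV.fromSpec_primeIdealOf _
  by_cases hd : Disjoint (I : Set Γ(U, ⊤)) (Submonoid.map φ.hom p.asIdeal.primeCompl : Set Γ(U, ⊤))
  · obtain ⟨P, hP, hIP, hPd⟩ := Ideal.exists_le_prime_disjoint I (Submonoid.map φ.hom p.asIdeal.primeCompl) hd
    exfalso
    let P' : PrimeSpectrum Γ(U, ⊤) := ⟨P, hP⟩
    have hle : PrimeSpectrum.comap φ.hom P' ≤ p := fun x hx => by
      by_contra hxp
      exact Set.disjoint_left.1 hPd hx ⟨x, hxp, rfl⟩
    have hm : hU.fromSpec P' ∈ Z := by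
      have : P' ∈ PrimeSpectrum.zeroLocus (I : Set Γ(U, ⊤)) := hIP
      rw [← hI] at this
      exact this
    refine hZv _ hm (hv _ ?_)
    have e' : h (hU.fromSpec P') = hV.fromSpec (Spec.map φ P') := by
      rw [← Scheme.Hom.comp_apply, ← Scheme.Hom.comp_apply, e]
    rw [e', ← hp]
    exact ((PrimeSpectrum.le_iff_specializes _ _).1 hle).map hV.fromSpec.continuous
  · obtain ⟨_, hI', g, hg, rfl⟩ := Set.not_disjoint_iff.1 hd
    refine ⟨g, ?_, fun u hu hug => ?_⟩
    · rw [← hp]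
      show p ∈ hV.fromSpec ⁻¹ᵁ V.basicOpen g
      rw [hV.fromSpec_preimage_basicOpen]
      exact hg
    · let P := hU.primeIdealOf ⟨u, trivial⟩
      have hP : hU.fromSpec P = u := hU.fromSpec_primeIdealOf _
      have hPI : φ.hom g ∈ P.asIdeal := by
        have : P ∈ hU.fromSpec ⁻¹' Z := show hU.fromSpec P ∈ Z by rw [hP]; exact hu
        rw [hI] at this
        exact this hI'
      have h1 : P ∈ (Spec.map φ ≫ hV.fromSpec) ⁻¹ᵁ V.basicOpen g := by
        rw [e]
        show h (hU.fromSpec P) ∈ V.basicOpen g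
        rw [hP]
        exact hug
      rw [Scheme.Hom.comp_preimage, hV.fromSpec_preimage_basicOpen] at h1
      exact h1 hPI

/-- A quasi-finite morphism of finite type is universally closed over a neighbourhood of a maximal point. -/
theorem exists_universallyClosed_nhd_maximal {Z V : Scheme.{u}} [IsAffine V] (h : Z ⟶ V) [LocallyQuasiFinite h]
    [LocallyOfFiniteType h] [CompactSpace ↥Z] {v : ↥V} (hv : ∀ z : ↥V, z ⤳ v → z = v) :
    ∃ g : Γ(V, ⊤), v ∈ V.basicOpen g ∧ ∀ g', g ∣ g' → UniversallyClosed (h ∣_ V.basicOpen g') := by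
  classical
  have hV := isAffineOpen_top V
  let p := hV.primeIdealOf ⟨v, trivial⟩
  have hp : hV.fromSpec p = v := hV.fromSpec_primeIdealOf _
  have hmin : p.asIdeal ∈ minimalPrimes Γ(V, ⊤) := by
    refine ⟨⟨p.isPrime, bot_le⟩, fun q hq hle => ?_⟩
    have h1 : hV.fromSpec ⟨q, hq.1⟩ ⤳ hV.fromSpec p :=
      ((PrimeSpectrum.le_iff_specializes _ _).1 (show (⟨q, hq.1⟩ : PrimeSpectrum Γ(V, ⊤)) ≤ p from hle)).map
        hV.fromSpec.continuous
    rw [hp] at h1
    have h2 := (hv _ h1).trans hp.symm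
    exact (congrArg PrimeSpectrum.asIdeal (hV.fromSpec.isOpenEmbedding.injective h2)).ge
  obtain ⟨t, ht, htf, htcov⟩ := Z.isBasis_affineOpens.exists_finite_of_isCompact
    (U := (⊤ : Z.Opens)) isCompact_univ
  haveI := htf.to_subtype
  letI := Fintype.ofFinite t
  choose c hc hfin using fun W : t =>
    GrothLib.QFDense6.finite_resLE_basicOpen h hV (ht W.2) (fun _ _ => trivial : W.1 ≤ h ⁻¹ᵁ ⊤) p hmin
  refine ⟨∏ W, c W, ?_, fun g hg => ?_⟩
  · rw [← hp]
    show p ∈ hV.fromSpec ⁻¹ᵁ V.basicOpen _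
    rw [hV.fromSpec_preimage_basicOpen]
    intro hm
    obtain ⟨W, -, hW⟩ := p.isPrime.prod_mem_iff.mp hm
    exact hc W hW
  · refine GrothLib.QFDense6.universallyClosed_of_finite_cover (h ∣_ V.basicOpen g)
      (fun W : t => ((W.1 ⊓ h ⁻¹ᵁ V.basicOpen g : Z.Opens) : Scheme.{u})) (fun W => Z.homOfLE inf_le_right) (fun z => ?_) fun W => ?_
    · have hz : z.1 ∈ sSup t := htcov ▸ (trivial : z.1 ∈ (⊤ : Z.Opens))
      obtain ⟨W, hW, hzW⟩ := TopologicalSpace.Opens.mem_sSup.1 hz
      exact ⟨⟨W, hW⟩, ⟨z.1, hzW, z.2⟩, (h ⁻¹ᵁ V.basicOpen g).ι.isOpenEmbedding.injective (by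
        rw [← Scheme.Hom.comp_apply, Scheme.homOfLE_ι]; rfl)⟩
    · have : Z.homOfLE (inf_le_right : W.1 ⊓ h ⁻¹ᵁ V.basicOpen g ≤ h ⁻¹ᵁ V.basicOpen g) ≫ h ∣_ V.basicOpen g =
          h.resLE (V.basicOpen g) (W.1 ⊓ h ⁻¹ᵁ V.basicOpen g) inf_le_right := by
        rw [← cancel_mono (V.basicOpen g).ι, Category.assoc, morphismRestrict_ι, Scheme.homOfLE_ι_assoc,
          Scheme.Hom.resLE_comp_ι]
      rw [this]
      haveI := hfin W g ((Finset.dvd_prod_of_mem c (Finset.mem_univ W)).trans hg) inf_le_right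
      infer_instance

/-- A universally closed morphism of schemes is universally closed as a morphism of spaces. -/
theorem isUnivClosedMor_yon_map {A B : Over S} (k : A ⟶ B) [UniversallyClosed k.left] :
    IsUnivClosedMor ((yon S).map k) :=
  isUnivClosedMor_of_repWith ((repWith_yon_map_iff _ k).2 ‹_›)

/-- A locally quasi-finite space with an affine chart whose kernel pair is quasi-compact near a maximal
point of the base is finite over a neighbourhood of that point. -/
theorem exists_finite_nhd_of_kernel {X : Sp S} (hX : IsAlgSpace X) {V : Over S} [IsAffine V.left]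
    (f : X ⟶ (yon S).obj V) (hqc : IsQuasiCompactMor f) {U R : Over S} [IsAffine U.left]
    {a : (yon S).obj U ⟶ X} (ae : RepWith @Etale a) (as : RepWith @Surjective a) {h : U ⟶ V}
    (hh : (yon S).map h = a ≫ f) [LocallyQuasiFinite h.left] [LocallyOfFiniteType h.left] {t s : R ⟶ U}
    (sq : IsPullback ((yon S).map t) ((yon S).map s) a a) {v : ↥V.left} (hv : ∀ z, z ⤳ v → z = v)
    (g₀ : Γ(V.left, ⊤)) (hg₀ : v ∈ V.left.basicOpen g₀)
    (hK : IsCompact (((s ≫ h).left ⁻¹ᵁ V.left.basicOpen g₀ : R.left.Opens) : Set ↥R.left)) :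
    ∃ O : V.left.Opens, v ∈ O ∧ ∀ (P : Sp S) (fst : P ⟶ X) (snd : P ⟶ (yon S).obj (openOver O)),
      IsPullback fst snd f ((yon S).map (openOverι O)) → RepWith @IsFinite snd := by
  have hq : LocallyQuasiFinite h.left := inferInstance
  have hl : LocallyOfFiniteType h.left := inferInstance
  haveI : Etale s.left := ae.2 _ _ _ sq
  haveI : LocallyQuasiFinite (s ≫ h).left := by
    rw [Over.comp_left]
    haveI : LocallyQuasiFinite s.left := locallyQuasiFinite_of_unramified _
    infer_instance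
  haveI : LocallyOfFiniteType (s ≫ h).left := by rw [Over.comp_left]; infer_instance
  let R' : R.left.Opens := (s ≫ h).left ⁻¹ᵁ V.left.basicOpen g₀
  haveI : CompactSpace ↥(R' : Scheme.{u}) := isCompact_iff_compactSpace.1 hK
  obtain ⟨gU, hgU, hUC⟩ := exists_universallyClosed_nhd_maximal h.left hv
  obtain ⟨gR, hgR, hRC⟩ := exists_universallyClosed_nhd_maximal (R'.ι ≫ (s ≫ h).left) hv
  let O := V.left.basicOpen (gU * (gR * g₀))
  have hUC' : UniversallyClosed (h.left ∣_ O) := hUC _ (dvd_mul_right _ _)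
  have hRC' : UniversallyClosed ((s ≫ h).left ∣_ O) := by
    have h1 : UniversallyClosed ((R'.ι ≫ (s ≫ h).left) ∣_ O) := hRC _ ((dvd_mul_right gR g₀).trans (dvd_mul_left _ _))
    rw [morphismRestrict_comp] at h1
    haveI : IsIso (R'.ι ∣_ ((s ≫ h).left ⁻¹ᵁ O)) := by
      haveI : Surjective (R'.ι ∣_ ((s ≫ h).left ⁻¹ᵁ O)) := ⟨fun z => by
        have hzR : z.1 ∈ R' := by
          have hz : (s ≫ h).left z.1 ∈ V.left.basicOpen (gU * (gR * g₀)) := z.2
          rw [Scheme.basicOpen_mul, Scheme.basicOpen_mul] at hz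
          exact hz.2.2
        exact ⟨⟨⟨z.1, hzR⟩, z.2⟩, Subtype.ext (by simp)⟩⟩
      exact (isIso_iff_isOpenImmersion_and_epi_base _).2 ⟨inferInstance, by
        rw [TopCat.epi_iff_surjective]; exact Scheme.Hom.surjective _⟩
    exact (MorphismProperty.cancel_left_of_respectsIso @UniversallyClosed _ _).1 h1
  refine ⟨O, by
    show v ∈ V.left.basicOpen (gU * (gR * g₀))
    rw [Scheme.basicOpen_mul, Scheme.basicOpen_mul]
    exact ⟨hgU, hgR, hg₀⟩, fun P fst snd sqP => ?_⟩
  have hP : IsAlgSpace P := isAlgSpace_pullback (IsAlgSpace.yon_obj V).diag hX (IsAlgSpace.yon_obj _) sqP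
  -- the chart over `O`
  obtain ⟨U₀, ιU, h₀, sqU⟩ : ∃ (U₀ : Over S) (ιU : U₀ ⟶ U) (h₀ : U₀ ⟶ openOver O),
      IsPullback ιU h₀ h (openOverι O) := ⟨_, _, _, IsPullback.of_hasPullback h (openOverι O)⟩
  have sqUy := isPullback_yon sqU
  rw [hh] at sqUy
  let a₀ : (yon S).obj U₀ ⟶ P := sqP.lift ((yon S).map ιU ≫ a) ((yon S).map h₀) (by
    rw [Category.assoc]; exact sqUy.w)
  have ha₀ : a₀ ≫ snd = (yon S).map h₀ := sqP.lift_snd _ _ _
  have sqa : IsPullback ((yon S).map ιU) a₀ a fst :=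
    IsPullback.of_bot (by rw [ha₀]; exact sqUy) (sqP.lift_fst _ _ _).symm sqP
  have ae₀ : RepWith @Etale a₀ := repWith_of_isPullback sqa ae
  have as₀ : RepWith @Surjective a₀ := repWith_of_isPullback sqa as
  haveI : UniversallyClosed h₀.left := by
    rw [← (isPullback_morphismRestrict h.left O).flip.isoIsPullback_inv_snd _ _ (isPullback_left sqU)]
    haveI := hUC'
    infer_instance
  have hq₀ : (@LocallyQuasiFinite ⊓ @LocallyOfFiniteType) h₀.left :=
    ⟨MorphismProperty.of_isPullback (P := @LocallyQuasiFinite) (isPullback_left sqU) hq,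
      MorphismProperty.of_isPullback (P := @LocallyOfFiniteType) (isPullback_left sqU) hl⟩
  have hlqf : LocP (@LocallyQuasiFinite ⊓ @LocallyOfFiniteType) snd :=
    EtLocal.locP_of_chart (EtLocal.inf EtLocal.lqf EtLocal.lft) ae₀ as₀ (repWith_id _ (openOver O))
      (by rw [ha₀, Category.comp_id]) hq₀
  have huc : IsUnivClosedMor snd :=
    isUnivClosedMor_of_surjective_comp (surjective_map_of_repWith as₀) (by rw [ha₀]; exact isUnivClosedMor_yon_map h₀)
  -- separatedness
  obtain ⟨R₀, t₁, s₁, sq₀⟩ := exists_isPullback_of_representable ae₀.1 a₀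
  obtain ⟨t₁, rfl⟩ := (yon S).map_surjective t₁
  have hw₀ : t₁ ≫ h₀ = s₁ ≫ h₀ := (yon S).map_injective (by
    rw [Functor.map_comp, Functor.map_comp, ← ha₀, sq₀.w_assoc])
  have sq₁ : IsPullback ((yon S).map t₁ ≫ (yon S).map ιU) ((yon S).map s₁) a ((yon S).map ιU ≫ a) := by
    have := sq₀.paste_horiz sqa
    rwa [show a₀ ≫ fst = (yon S).map ιU ≫ a from sqP.lift_fst _ _ _] at this
  let ρy := sq.lift ((yon S).map t₁ ≫ (yon S).map ιU) ((yon S).map s₁ ≫ (yon S).map ιU)
    (by rw [sq₁.w, Category.assoc])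
  obtain ⟨ρ, hρ⟩ := (yon S).map_surjective ρy
  have sqρ : IsPullback ρ s₁ s ιU := isPullback_of_isPullback_yon (by
    rw [hρ]
    refine IsPullback.of_right (h₁₂ := (yon S).map t) ?_ (sq.lift_snd _ _ _) sq
    rw [show ρy ≫ (yon S).map t = (yon S).map t₁ ≫ (yon S).map ιU from sq.lift_fst _ _ _]
    exact sq₁)
  have sqO := isPullback_left (sqρ.paste_vert sqU)
  haveI : UniversallyClosed (s₁ ≫ h₀).left := by
    rw [← (isPullback_morphismRestrict (s ≫ h).left O).flip.isoIsPullback_inv_snd _ _ sqO]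
    haveI := hRC'
    infer_instance
  haveI : IsSeparated h₀.left :=
    MorphismProperty.of_isPullback (P := @IsSeparated) (isPullback_left sqU) inferInstance
  have sqQ₀ := IsPullback.of_hasPullback h₀ h₀
  let k₀ : R₀ ⟶ pullback h₀ h₀ := sqQ₀.lift t₁ s₁ hw₀
  have sqk := isPullback_kernelPairDiagonal snd sq₀ ha₀ sqQ₀ (k := k₀) (sqQ₀.lift_fst _ _ _) (sqQ₀.lift_snd _ _ _)
  haveI : IsSeparated ((pullback.snd h₀ h₀).left ≫ h₀.left) := by
    haveI : IsSeparated (pullback.snd h₀ h₀).left :=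
      MorphismProperty.of_isPullback (P := @IsSeparated) (isPullback_left sqQ₀) ‹IsSeparated h₀.left›
    infer_instance
  have hk : k₀.left ≫ (pullback.snd h₀ h₀).left ≫ h₀.left = (s₁ ≫ h₀).left := by
    rw [← Over.comp_left, ← Over.comp_left, sqQ₀.lift_snd_assoc]
  haveI : UniversallyClosed k₀.left :=
    haveI : UniversallyClosed (k₀.left ≫ (pullback.snd h₀ h₀).left ≫ h₀.left) := by rw [hk]; infer_instance
    UniversallyClosed.of_comp_of_isSeparated k₀.left ((pullback.snd h₀ h₀).left ≫ h₀.left)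
  haveI : LocallyOfFiniteType k₀.left := by
    haveI : LocallyOfFiniteType h₀.left := hq₀.2
    haveI : Etale s₁.left := ae₀.2 _ _ _ sq₀
    haveI : LocallyOfFiniteType (k₀.left ≫ (pullback.snd h₀ h₀).left ≫ h₀.left) := by
      rw [hk, Over.comp_left]; infer_instance
    exact locallyOfFiniteType_of_comp k₀.left ((pullback.snd h₀ h₀).left ≫ h₀.left)
  haveI : Mono k₀.left := by
    haveI : Mono ((yon S).map k₀) :=
      MorphismProperty.of_isPullback (P := MorphismProperty.monomorphisms (Sp S)) sqk (inferInstance : Mono (pullback.diagonal snd))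
    haveI : Mono k₀ := (yon S).mono_of_mono_map ‹_›
    exact (Over.forget S).map_mono k₀
  haveI : IsProper k₀.left := {}
  have hkcl : IsClosedImmersion k₀.left :=
    (IsClosedImmersion.iff_isProper_and_mono k₀.left).2 ⟨inferInstance, inferInstance⟩
  let b₀ : (yon S).obj (pullback h₀ h₀) ⟶ pullback snd snd :=
    pullback.lift ((yon S).map (pullback.fst h₀ h₀) ≫ a₀) ((yon S).map (pullback.snd h₀ h₀) ≫ a₀)
      (by rw [Category.assoc, Category.assoc, ha₀, ← Functor.map_comp, ← Functor.map_comp, sqQ₀.w])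
  haveI : Sheaf.IsLocallySurjective a₀ := isLocallySurjective_of_repWith
    (repWith_mono ae₀ fun A B m (hm : Etale m) => inferInstance)
    (repWith_mono ae₀ fun A B m (hm : Etale m) => inferInstance) as₀
  haveI : Sheaf.IsLocallySurjective b₀ := by
    refine isLocallySurjective_of_lifts fun T g => ?_
    obtain ⟨T₁, c₁, l₁, hf₁, hp₁, hs₁, hl₁⟩ := exists_fppf_lift a₀ (g ≫ pullback.fst snd snd)
    obtain ⟨T₂, c₂, l₂, hf₂, hp₂, hs₂, hl₂⟩ := exists_fppf_lift a₀ ((yon S).map c₁ ≫ g ≫ pullback.snd snd snd)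
    obtain ⟨m₁, hm₁⟩ := (yon S).map_surjective ((yon S).map c₂ ≫ l₁)
    obtain ⟨m₂, hm₂⟩ := (yon S).map_surjective l₂
    have hm : m₁ ≫ h₀ = m₂ ≫ h₀ := (yon S).map_injective (by
      rw [Functor.map_comp, Functor.map_comp, hm₁, hm₂, ← ha₀, reassoc_of% hl₂, Category.assoc, reassoc_of% hl₁]
      simp [pullback.condition])
    refine ⟨T₂, c₂ ≫ c₁, (yon S).map (sqQ₀.lift m₁ m₂ hm), by rw [Over.comp_left]; infer_instance,
      by rw [Over.comp_left]; infer_instance, by rw [Over.comp_left]; infer_instance, ?_⟩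
    apply pullback.hom_ext
    · rw [Category.assoc, Category.assoc, pullback.lift_fst, ← Functor.map_comp_assoc, sqQ₀.lift_fst, hm₁,
        Category.assoc, hl₁, Functor.map_comp, Category.assoc]
    · rw [Category.assoc, Category.assoc, pullback.lift_snd, ← Functor.map_comp_assoc, sqQ₀.lift_snd, hm₂, hl₂,
        Functor.map_comp, Category.assoc]
  have hsep : IsSeparatedMor snd :=
    repWith_of_base (representable_diagonal hP snd) b₀ sqk fppfDescends_isClosedImmersion
      ((repWith_yon_map_iff _ k₀).2 hkcl)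
  refine repWith_isFinite_of_proper_lqf hP (IsAlgSpace.yon_obj _) ⟨hsep, ⟨fun A B x y z hx hy e => (hlqf x y z hx hy e).2, ?_⟩, huc⟩ hlqf
  exact baseChanges_quasiCompact hX (IsAlgSpace.yon_obj V) hP (IsAlgSpace.yon_obj _) sqP hqc

/-- A quasi-separated finite type locally quasi-finite space over an affine scheme is finite over a
neighbourhood of each maximal point. -/
theorem exists_finite_nhd_of_lqf {X : Sp S} (hX : IsAlgSpace X) {V : Over S} [IsAffine V.left]
    (f : X ⟶ (yon S).obj V) (hqs : IsQuasiSeparatedMor f) (hqc : IsQuasiCompactMor f)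
    (hqf : LocP (@LocallyQuasiFinite ⊓ @LocallyOfFiniteType) f) {v : ↥V.left} (hv : ∀ z, z ⤳ v → z = v) :
    ∃ O : V.left.Opens, v ∈ O ∧ ∀ (P : Sp S) (fst : P ⟶ X) (snd : P ⟶ (yon S).obj (openOver O)),
      IsPullback fst snd f ((yon S).map (openOverι O)) → RepWith @IsFinite snd := by
  have hXc : IsQuasiCompactSp X := hqc (IsAlgSpace.yon_obj V) (isQuasiCompactSp_yon V) (𝟙 _) (𝟙 X) f IsPullback.of_id_fst
  obtain ⟨U, a, hU, ae, as⟩ := exists_affine_surjective_chart hX hXc
  haveI := hU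
  obtain ⟨h, hh⟩ := (yon S).map_surjective (a ≫ f)
  obtain ⟨hq, hl⟩ : LocallyQuasiFinite h.left ∧ LocallyOfFiniteType h.left :=
    hqf a (𝟙 _) h ae (repWith_id _ V) (by rw [hh, Category.comp_id])
  obtain ⟨R, t₀, s, sq⟩ := exists_isPullback_of_representable ae.1 a
  obtain ⟨t, rfl⟩ := (yon S).map_surjective t₀
  have sqQ := IsPullback.of_hasPullback h h
  let k : R ⟶ pullback h h := sqQ.lift t s (by
    apply (yon S).map_injective
    rw [Functor.map_comp, Functor.map_comp, hh, reassoc_of% sq.w])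
  haveI : QuasiCompact k.left :=
    hqs.2 _ _ _ (isPullback_kernelPairDiagonal f sq hh.symm sqQ (sqQ.lift_fst _ _ _) (sqQ.lift_snd _ _ _))
  haveI : IsAffine (pullback h h).left :=
    IsAffine.of_isIso (isPullback_left sqQ).isoPullback.hom
  haveI : CompactSpace ↥R.left := QuasiCompact.compactSpace_of_compactSpace k.left
  refine exists_finite_nhd_of_kernel hX f hqc ae as hh sq hv 1 (by rw [Scheme.basicOpen_of_isUnit _ isUnit_one]; trivial) ?_
  rw [Scheme.basicOpen_of_isUnit _ isUnit_one]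
  exact isCompact_univ

/-- A quasi-separated finite type space over an affine scheme which is quasi-finite over a maximal point is
finite over a neighbourhood of it. -/
theorem exists_finite_nhd_maximal {X : Sp S} (hX : IsAlgSpace X) {V : Over S} [IsAffine V.left]
    (f : X ⟶ (yon S).obj V) (hqs : IsQuasiSeparatedMor f) (hft : IsFiniteTypeMor f) {v : ↥V.left}
    (hv : ∀ z, z ⤳ v → z = v)
    (hq : ∀ x : Points X, Points.map f x = Points.ofScheme V v →
      HasAtMor (fun _ _ h u => FlatMor.fibreDimAt h u ≤ 0) f x) :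
    ∃ O : V.left.Opens, v ∈ O ∧ ∀ (P : Sp S) (fst : P ⟶ X) (snd : P ⟶ (yon S).obj (openOver O)),
      IsPullback fst snd f ((yon S).map (openOverι O)) → RepWith @IsFinite snd := by
  haveI : CompactSpace ↥V.left := inferInstance
  have hY := IsAlgSpace.yon_obj V
  obtain ⟨U, a, hU, ae, as⟩ := exists_affine_surjective_chart hX
    (hft.2 hY (isQuasiCompactSp_yon V) (𝟙 _) (𝟙 X) f IsPullback.of_id_fst)
  haveI := hU
  obtain ⟨h, hh⟩ := (yon S).map_surjective (a ≫ f)
  let Q : Set (Points X) := {x | HasAtMor (fun U _ h u => ∃ W : U.Opens, u ∈ W ∧ LocallyQuasiFinite (W.ι ≫ h) ∧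
    LocallyOfFiniteType (W.ι ≫ h)) f x}
  let Z : Set ↥U.left := Points.ofPt a ⁻¹' Qᶜ
  have hZ : IsClosed Z := (isOpen_hasAtMor_lqf f).isClosed_compl.preimage (Points.continuous_ofPt a)
  have hfa : ∀ u, Points.map f (Points.ofPt a u) = Points.ofScheme V (h.left u) := fun u => by
    rw [Points.map_ofPt, ← hh]
    exact ((Points.ofScheme_toScheme V _).symm.trans (congrArg (Points.ofScheme V) (Points.toScheme_ofPt h u)))
  obtain ⟨g, hvg, hg⟩ := exists_basicOpen_disjoint_of_maximal h.left hZ hv fun u hu e =>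
    hu ((hasAtMor_lqf_iff hX hY hft.1 _).2 (hq _ (by rw [hfa, e])))
  let O₁ := V.left.basicOpen g
  let V₁ := openOver O₁
  haveI : IsAffine V₁.left := (isAffineOpen_top V.left).basicOpen g
  have hY₁ := IsAlgSpace.yon_obj V₁
  obtain ⟨X₁, g₁, f₁, sq₁⟩ : ∃ (X₁ : Sp S) (g₁ : X₁ ⟶ X) (f₁ : X₁ ⟶ (yon S).obj V₁),
      IsPullback g₁ f₁ f ((yon S).map (openOverι O₁)) := ⟨_, _, _, IsPullback.of_hasPullback _ _⟩
  have hX₁ : IsAlgSpace X₁ := isAlgSpace_pullback hY.diag hX hY₁ sq₁
  have hlft₁ : LocP @LocallyOfFiniteType f₁ := EtLocal.locP_of_isPullback .lft hX hY hY₁ sq₁ hft.1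
  have hlqf : LocP (@LocallyQuasiFinite ⊓ @LocallyOfFiniteType) f₁ := by
    refine locP_lqf_of_fibreDim hX₁ hY₁ hlft₁ fun x => ?_
    rw [fibreDim_le_zero_baseChange hX hY hY₁ sq₁ hft.1 x]
    refine (hasAtMor_lqf_iff hX hY hft.1 _).1 (by_contra fun hn => ?_)
    obtain ⟨u, hu⟩ := surjective_ofPt_of_repWith as (Points.map g₁ x)
    have h1 := hfa u
    rw [hu, ← Points.map_comp, sq₁.w, Points.map_comp] at h1
    obtain ⟨w, hw⟩ := (Points.schemeEquiv V₁).surjective (Points.map f₁ x)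
    rw [← hw] at h1
    have h2 : h.left u = (openOverι O₁).left w := by
      apply (Points.schemeEquiv V).injective
      refine h1.symm.trans ?_
      exact (Points.ofPt_eq_map_ofScheme _ w).symm.trans
        ((Points.ofScheme_toScheme V _).symm.trans (congrArg (Points.ofScheme V) (Points.toScheme_ofPt _ w)))
    exact hg u (show Points.ofPt a u ∈ Qᶜ by rw [hu]; exact hn) (h2 ▸ w.2)
  have hqs₁ : IsQuasiSeparatedMor f₁ := repWith_of_isPullback (isPullback_diagonal_of_isPullback sq₁) hqs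
  have hv₁ : ∀ z : ↥V₁.left, z ⤳ (⟨v, hvg⟩ : ↥V₁.left) → z = ⟨v, hvg⟩ := fun z hz =>
    O₁.ι.isOpenEmbedding.injective (hv _ (hz.map O₁.ι.continuous))
  obtain ⟨O₂, hvO₂, hfin⟩ := exists_finite_nhd_of_lqf hX₁ f₁ hqs₁
    (baseChanges_quasiCompact hX hY hX₁ hY₁ sq₁ hft.2) hlqf hv₁
  refine ⟨O₁.ι ''ᵁ O₂, ⟨⟨v, hvg⟩, hvO₂, rfl⟩, fun P fst snd sqP => ?_⟩
  let e : openOver O₂ ≅ openOver (O₁.ι ''ᵁ O₂) :=
    Over.isoMk (O₁.ι.isoImage O₂) (by
      show (O₁.ι.isoImage O₂).hom ≫ (O₁.ι ''ᵁ O₂).ι ≫ V.hom = O₂.ι ≫ O₁.ι ≫ V.hom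
      rw [Scheme.Hom.isoImage_hom_ι_assoc])
  have he : e.hom ≫ openOverι (O₁.ι ''ᵁ O₂) = openOverι O₂ ≫ openOverι O₁ :=
    Over.OverMorphism.ext (Scheme.Hom.isoImage_hom_ι O₁.ι O₂)
  have sqP' : IsPullback fst (snd ≫ (yon S).map e.inv) f ((yon S).map (openOverι O₂ ≫ openOverι O₁)) :=
    sqP.of_iso (Iso.refl _) (Iso.refl _) ((yon S).mapIso e.symm) (Iso.refl _) (by simp) (by simp) (by simp)
      (by rw [← he]; simp)
  rw [Functor.map_comp] at sqP'
  let l := sq₁.lift fst ((snd ≫ (yon S).map e.inv) ≫ (yon S).map (openOverι O₂)) (by rw [sqP'.w]; simp only [Category.assoc])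
  have sqL : IsPullback l (snd ≫ (yon S).map e.inv) f₁ ((yon S).map (openOverι O₂)) :=
    IsPullback.of_right (by rw [sq₁.lift_fst]; exact sqP') (sq₁.lift_snd _ _ _) sq₁
  have := repWith_comp (hfin P l _ sqL) (repWith_iso ((yon S).map e.hom) (P := @IsFinite))
  rwa [Category.assoc, ← Functor.map_comp, Iso.inv_hom_id, CategoryTheory.Functor.map_id, Category.comp_id] at this

end GrothLib.AlgSp
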