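import Mathlib.RingTheory.Valuation.ValuationSubring
import Mathlib.RingTheory.Valuation.LocalSubring
import Mathlib.RingTheory.Flat.TorsionFree
import Mathlib.RingTheory.Flat.FaithfullyFlat.Algebra
import Mathlib.RingTheory.Localization.AsSubring
import Mathlib.Algebra.MvPolynomial.Eval
import Mathlib.RingTheory.LocalRing.ResidueField.Basic

/-!
# Composite valuation rings

* `exists_extension_residue`: valuation rings with residue field containing a given one.
* `composite`, `compositeπ`: the composite of a valuation ring and one of its residue field.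
* `exists_prime_localization`: over a dominating extension, the localization at the intermediate prime.
-/

universe u

namespace GrothLib.AlgSp.ValGlue

open IsLocalRing

/-- A valuation ring dominating a local domain, with a prescribed field in its residue field. -/
theorem exists_extension_residue {A : Type u} [CommRing A] [IsDomain A] {K : Type u} [Field K]
    [Algebra A K] [IsFractionRing A K] {Ω : Type u} [Field Ω] (θ : A →+* Ω) :
    ∃ (K₂ : Type u) (_ : Field K₂) (A₂ : ValuationSubring K₂) (i : K →+* K₂) (φ : A →+* A₂)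
      (ι : Ω →+* ResidueField A₂),
      A₂.subtype.comp φ = i.comp (algebraMap A K) ∧ (residue A₂).comp φ = ι.comp θ := by
  let C := MvPolynomial Ω A
  let ev : C →+* Ω := MvPolynomial.eval₂Hom θ id
  have hev : Function.Surjective ev := fun x => ⟨MvPolynomial.X x, MvPolynomial.eval₂Hom_X' _ _ _⟩
  let q := RingHom.ker ev
  haveI : q.IsPrime := RingHom.ker_isPrime ev
  let K₂ := FractionRing C
  let g : Localization.AtPrime q →+* K₂ := IsLocalization.lift (M := q.primeCompl) (g := algebraMap C K₂) fun s =>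
    IsUnit.mk0 _ fun h => s.2 (by
      rw [(map_eq_zero_iff _ (IsFractionRing.injective C K₂)).1 h]
      exact q.zero_mem)
  obtain ⟨A₂, hA, hloc⟩ := IsLocalRing.exists_factor_valuationRing g
  let g' : Localization.AtPrime q →+* A₂ := g.codRestrict A₂.toSubring hA
  haveI : IsLocalHom g' := hloc
  let φC : C →+* A₂ := g'.comp (algebraMap C (Localization.AtPrime q))
  have hφC : ∀ c, (φC c : K₂) = algebraMap C K₂ c := fun c => IsLocalization.lift_eq _ c
  have hker : RingHom.ker ev ≤ RingHom.ker ((residue A₂).comp φC) := fun c hc => by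
    rw [RingHom.mem_ker, RingHom.comp_apply, residue_eq_zero_iff]
    refine map_nonunit g' _ ?_
    rw [Localization.AtPrime.map_eq_maximalIdeal.symm]
    exact Ideal.mem_map_of_mem _ hc
  refine ⟨K₂, inferInstance, A₂,
    IsFractionRing.lift (A := A) (K := K) (g := (algebraMap C K₂).comp MvPolynomial.C)
      ((IsFractionRing.injective C K₂).comp (MvPolynomial.C_injective Ω A)),
    φC.comp MvPolynomial.C,
    RingHom.liftOfSurjective ev hev ⟨(residue A₂).comp φC, hker⟩, ?_, ?_⟩
  · ext a
    show (φC (MvPolynomial.C a) : K₂) = _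
    rw [hφC, RingHom.comp_apply, IsFractionRing.lift_algebraMap]
    rfl
  · ext a
    show residue A₂ (φC (MvPolynomial.C a)) = RingHom.liftOfSurjective ev hev ⟨(residue A₂).comp φC, hker⟩ (θ a)
    rw [show θ a = ev (MvPolynomial.C a) from (MvPolynomial.eval₂Hom_C _ _ a).symm]
    exact (RingHom.liftOfRightInverse_comp_apply ev _ (Function.rightInverse_surjInv hev) ⟨_, hker⟩ _).symm

variable {K : Type u} [Field K] (A : ValuationSubring K) (Ā : ValuationSubring (ResidueField A))

theorem residue_inv_mem {x : K} (hx : x ∈ A) (hx' : x⁻¹ ∈ A) (hx0 : x ≠ 0) (h : residue A ⟨x, hx⟩ ∉ Ā) :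
    residue A ⟨x⁻¹, hx'⟩ ∈ Ā := by
  rcases Ā.mem_or_inv_mem (residue A ⟨x, hx⟩) with h' | h'
  · exact absurd h' h
  · have e : residue A ⟨x⁻¹, hx'⟩ = (residue A ⟨x, hx⟩)⁻¹ := by
      refine eq_inv_of_mul_eq_one_left ?_
      rw [← map_mul, show (⟨x⁻¹, hx'⟩ : A) * ⟨x, hx⟩ = 1 from Subtype.ext (inv_mul_cancel₀ hx0), map_one]
    rw [e]; exact h'

/-- The elements of a valuation ring with residue in a valuation ring of the residue field. -/
noncomputable def composite : ValuationSubring K where
  toSubring := (Ā.toSubring.comap (residue A)).map A.subtype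
  mem_or_inv_mem' x := by
    change x ∈ (Ā.toSubring.comap (residue A)).map A.subtype ∨ x⁻¹ ∈ (Ā.toSubring.comap (residue A)).map A.subtype
    by_cases hx0 : x = 0
    · exact Or.inl (hx0 ▸ Subring.zero_mem _)
    rcases A.mem_or_inv_mem x with hx | hx
    · by_cases h : residue A ⟨x, hx⟩ ∈ Ā
      · exact Or.inl ⟨⟨x, hx⟩, h, rfl⟩
      · right
        have hu : IsUnit (⟨x, hx⟩ : A) := by
          by_contra hn
          exact h (by rw [residue_eq_zero_iff _ |>.2 hn]; exact Ā.zero_mem)
        obtain ⟨v, hv⟩ := hu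
        have hx' : x⁻¹ ∈ A := by
          have : ((v⁻¹ : Aˣ) : A).1 = x⁻¹ := eq_inv_of_mul_eq_one_left (by
            have := congrArg Subtype.val v.inv_mul
            rw [hv] at this
            exact this)
          exact this ▸ ((v⁻¹ : Aˣ) : A).2
        exact ⟨⟨x⁻¹, hx'⟩, residue_inv_mem A Ā hx hx' hx0 h, rfl⟩
    · by_cases h : residue A ⟨x⁻¹, hx⟩ ∈ Ā
      · exact Or.inr ⟨⟨x⁻¹, hx⟩, h, rfl⟩
      · left
        have hu : IsUnit (⟨x⁻¹, hx⟩ : A) := by
          by_contra hn
          exact h (by rw [residue_eq_zero_iff _ |>.2 hn]; exact Ā.zero_mem)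
        obtain ⟨v, hv⟩ := hu
        have hx' : x ∈ A := by
          have : ((v⁻¹ : Aˣ) : A).1 = (x⁻¹)⁻¹ := eq_inv_of_mul_eq_one_left (by
            have := congrArg Subtype.val v.inv_mul
            rw [hv] at this
            exact this)
          rw [inv_inv] at this
          exact this ▸ ((v⁻¹ : Aˣ) : A).2
        refine ⟨⟨x, hx'⟩, ?_, rfl⟩
        have hxx : x⁻¹⁻¹ ∈ A := by rwa [inv_inv]
        have := residue_inv_mem A Ā hx hxx (inv_ne_zero hx0) h
        simpa using this

theorem mem_composite {x : K} : x ∈ composite A Ā ↔ ∃ h : x ∈ A, residue A ⟨x, h⟩ ∈ Ā :=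
  ⟨fun ⟨a, ha, e⟩ => e ▸ ⟨a.2, ha⟩, fun ⟨h, h'⟩ => ⟨⟨x, h⟩, h', rfl⟩⟩

theorem composite_le : composite A Ā ≤ A := fun _ hx => ((mem_composite A Ā).1 hx).1

/-- The inclusion into the first valuation ring. -/
noncomputable def compositeIncl : composite A Ā →+* A := Subring.inclusion (composite_le A Ā)

/-- The projection to the second valuation ring. -/
noncomputable def compositeπ : composite A Ā →+* Ā :=
  ((residue A).comp (compositeIncl A Ā)).codRestrict Ā.toSubring fun b => ((mem_composite A Ā).1 b.2).2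

theorem compositeπ_surjective : Function.Surjective (compositeπ A Ā) := fun y => by
  obtain ⟨a, ha⟩ := IsLocalRing.residue_surjective (y : ResidueField A)
  exact ⟨⟨a.1, (mem_composite A Ā).2 ⟨a.2, ha ▸ y.2⟩⟩, Subtype.ext ha⟩

theorem comp_compositeπ : Ā.subtype.comp (compositeπ A Ā) = (residue A).comp (compositeIncl A Ā) := rfl

theorem isLocalHom_compositeπ : IsLocalHom (compositeπ A Ā) :=
  IsLocalRing.local_hom_TFAE (compositeπ A Ā) |>.out 0 4 |>.2 <| by
    have := IsLocalRing.eq_maximalIdeal (Ideal.comap_isMaximal_of_surjective _ (compositeπ_surjective A Ā)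
      (K := maximalIdeal Ā))
    exact this

/-- The localization of a dominating extension at a prime over the intermediate prime. -/
theorem exists_prime_localization {A' K' : Type u} [CommRing A'] [IsDomain A'] [ValuationRing A'] [Field K']
    [Algebra A' K'] [IsFractionRing A' K'] (φ : composite A Ā →+* A') [IsLocalHom φ] (ψ : K →+* K')
    (h : (algebraMap A' K').comp φ = ψ.comp (composite A Ā).subtype) :
    ∃ (p : Ideal A') (_ : p.IsPrime) (A₃ : ValuationSubring K') (φ₃ : A' →+* A₃) (χ : A →+* A₃),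
      IsLocalHom χ ∧ A₃.subtype.comp φ₃ = algebraMap A' K' ∧ A₃.subtype.comp χ = ψ.comp A.subtype ∧
      p.comap φ = RingHom.ker (compositeπ A Ā) ∧ Ideal.comap φ₃ (maximalIdeal A₃) = p := by
  let B := composite A Ā
  let π := compositeπ A Ā
  have hinj : Function.Injective φ := fun a b hab => Subtype.ext (ψ.injective (by
    have ha := congrFun (congrArg DFunLike.coe h) a
    have hb := congrFun (congrArg DFunLike.coe h) b
    simp only [RingHom.comp_apply] at ha hb
    rw [hab, hb] at ha
    exact ha.symm))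
  letI : Algebra B A' := φ.toAlgebra
  haveI : IsLocalHom (algebraMap B A') := ‹IsLocalHom φ›
  haveI : Module.Flat B A' := by
    rw [Module.Flat.flat_iff_torsion_eq_bot_of_isBezout, eq_bot_iff]
    rintro m ⟨⟨b, hb⟩, hm⟩
    have h0 : φ b * m = 0 := (Algebra.smul_def b m).symm.trans hm
    exact (mul_eq_zero.1 h0).resolve_left fun e =>
      nonZeroDivisors.ne_zero hb (hinj (e.trans (map_zero φ).symm))
  haveI : Module.FaithfullyFlat B A' := Module.FaithfullyFlat.of_flat_of_isLocalHom
  obtain ⟨⟨p, hp⟩, hpe⟩ := PrimeSpectrum.comap_surjective_of_faithfullyFlat (A := B) (B := A')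
    ⟨RingHom.ker π, RingHom.ker_isPrime π⟩
  haveI := hp
  have hpc : p.comap φ = RingHom.ker π := congrArg PrimeSpectrum.asIdeal hpe
  let Sb := Localization.subalgebra.ofField K' p.primeCompl p.primeCompl_le_nonZeroDivisors
  let A₃ : ValuationSubring K' :=
    { Sb.toSubring with
      mem_or_inv_mem' := fun x => by
        obtain ⟨a, ha⟩ | ⟨a, ha⟩ := ValuationRing.isInteger_or_isInteger A' x
        · exact Or.inl (ha ▸ Sb.algebraMap_mem a)
        · exact Or.inr (ha ▸ Sb.algebraMap_mem a) }
  have hmem : ∀ a : A', algebraMap A' K' a ∈ A₃ := fun a => Sb.algebraMap_mem a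
  let φ₃ : A' →+* A₃ := (algebraMap A' K').codRestrict A₃.toSubring hmem
  haveI hloc : IsLocalization.AtPrime Sb p :=
    Localization.subalgebra.isLocalization_ofField K' p.primeCompl p.primeCompl_le_nonZeroDivisors
  have hunit : ∀ a : A', IsUnit (φ₃ a) ↔ a ∉ p := fun a => IsLocalization.AtPrime.isUnit_to_map_iff Sb p a
  have hp3 : Ideal.comap φ₃ (maximalIdeal A₃) = p := by
    ext a
    rw [Ideal.mem_comap, IsLocalRing.mem_maximalIdeal, mem_nonunits_iff, hunit, not_not]
  have hχ : ∀ a : A, ψ a.1 ∈ A₃ := fun a => by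
    rcases B.mem_or_inv_mem a.1 with hb | hb
    · rw [← show algebraMap A' K' (φ ⟨a.1, hb⟩) = ψ a.1 from congrFun (congrArg DFunLike.coe h) ⟨a.1, hb⟩]
      exact hmem _
    · by_cases ha0 : a.1 = 0
      · rw [ha0, map_zero]; exact A₃.zero_mem
      have hb' : φ ⟨a.1⁻¹, hb⟩ ∉ p := fun hmem' => by
        have hk : (⟨a.1⁻¹, hb⟩ : B) ∈ RingHom.ker π := hpc ▸ hmem'
        have h1 : residue A (compositeIncl A Ā ⟨a.1⁻¹, hb⟩) = 0 := congrArg Subtype.val hk
        have h2 : compositeIncl A Ā ⟨a.1⁻¹, hb⟩ * a = 1 := Subtype.ext (inv_mul_cancel₀ ha0)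
        have := congrArg (residue A) h2
        rw [map_mul, h1, zero_mul, map_one] at this
        exact zero_ne_one this
      obtain ⟨v, hv⟩ := (hunit _).2 hb'
      have e : ((v⁻¹ : A₃ˣ) : A₃).1 = ψ a.1 := by
        have h3 : algebraMap A' K' (φ ⟨a.1⁻¹, hb⟩) = ψ a.1⁻¹ := congrFun (congrArg DFunLike.coe h) ⟨a.1⁻¹, hb⟩
        have h4 := congrArg Subtype.val v.inv_mul
        rw [hv] at h4
        have h5 : ((v⁻¹ : A₃ˣ) : A₃).1 * ψ a.1⁻¹ = 1 := h3 ▸ h4
        rw [map_inv₀] at h5
        exact eq_of_mul_inv_eq_one h5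
      exact e ▸ ((v⁻¹ : A₃ˣ) : A₃).2
  let χ : A →+* A₃ := (ψ.comp A.subtype).codRestrict A₃.toSubring hχ
  refine ⟨p, hp, A₃, φ₃, χ, ⟨fun a ha => ?_⟩, rfl, rfl, hpc, hp3⟩
  by_contra hn
  have h0 : residue A a = 0 := (residue_eq_zero_iff a).2 hn
  have hb : a.1 ∈ B := (mem_composite A Ā).2 ⟨a.2, by rw [Subtype.coe_eta, h0]; exact Ā.zero_mem⟩
  have hk : (⟨a.1, hb⟩ : B) ∈ RingHom.ker π := Subtype.ext h0
  rw [← hpc] at hk
  refine (hunit _).1 ?_ hk
  convert ha using 1
  exact Subtype.ext (congrFun (congrArg DFunLike.coe h) ⟨a.1, hb⟩)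

end GrothLib.AlgSp.ValGlue
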