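import Groth.Agent.Lib.AlgSp.Valuative
import Groth.Agent.Lib.AlgSp.ValGlue
import Groth.Agent.Lib.AlgSp.UnivClosed
import Groth.Agent.Lib.GrpdQuot.InvariantOpen

/-!
# The refined valuative criterion for algebraic spaces

* `exists_refined_lift`: lifting specializations given a dense source.
* `isUnivClosedMor_of_refined`.
-/

universe u

open CategoryTheory CategoryTheory.Limits AlgebraicGeometry Topology

namespace GrothLib.AlgSp

open _root_.AlgSp

variable {S : Scheme.{u}} {U X Y : Sp S} {f : X ⟶ Y} {h : U ⟶ X}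

/-- Points over the two parts of a composite valuation ring glue to an affine scheme. -/
theorem exists_glue {V : Scheme.{u}} [IsAffine V] {K₂ : Type u} [Field K₂] (A₂ : ValuationSubring K₂)
    (Ā : ValuationSubring (IsLocalRing.ResidueField A₂)) (σ₂ : Spec (CommRingCat.of A₂) ⟶ V)
    (σ₀ : Spec (CommRingCat.of Ā) ⟶ V)
    (h : Spec.map (CommRingCat.ofHom (IsLocalRing.residue A₂)) ≫ σ₂ =
      Spec.map (CommRingCat.ofHom (algebraMap Ā (IsLocalRing.ResidueField A₂))) ≫ σ₀) :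
    ∃ σ : Spec (CommRingCat.of (ValGlue.composite A₂ Ā)) ⟶ V,
      Spec.map (CommRingCat.ofHom (ValGlue.compositeIncl A₂ Ā)) ≫ σ = σ₂ ∧
      Spec.map (CommRingCat.ofHom (ValGlue.compositeπ A₂ Ā)) ≫ σ = σ₀ := by
  obtain ⟨r₂, hr₂⟩ : ∃ r₂ : Γ(V, ⊤) ⟶ CommRingCat.of A₂, σ₂ ≫ V.isoSpec.hom = Spec.map r₂ :=
    ⟨Spec.preimage _, (Spec.map_preimage _).symm⟩
  obtain ⟨r₀, hr₀⟩ : ∃ r₀ : Γ(V, ⊤) ⟶ CommRingCat.of Ā, σ₀ ≫ V.isoSpec.hom = Spec.map r₀ :=
    ⟨Spec.preimage _, (Spec.map_preimage _).symm⟩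
  have e : (IsLocalRing.residue A₂).comp r₂.hom = Ā.subtype.comp r₀.hom := by
    have e3 : Spec.map (r₂ ≫ CommRingCat.ofHom (IsLocalRing.residue A₂)) =
        Spec.map (r₀ ≫ CommRingCat.ofHom (algebraMap Ā (IsLocalRing.ResidueField A₂))) := by
      rw [Spec.map_comp, Spec.map_comp, ← hr₂, ← hr₀, ← Category.assoc, ← Category.assoc, h]
    exact congrArg CommRingCat.Hom.hom (Spec.map_injective e3)
  have hB : ∀ x, (r₂.hom x).1 ∈ ValGlue.composite A₂ Ā := fun x => (ValGlue.mem_composite A₂ Ā).2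
    ⟨(r₂.hom x).2, by
      have := congrFun (congrArg DFunLike.coe e) x
      simp only [RingHom.comp_apply] at this
      rw [Subtype.coe_eta, this]; exact (r₀.hom x).2⟩
  refine ⟨Spec.map (CommRingCat.ofHom ((A₂.subtype.comp r₂.hom).codRestrict (ValGlue.composite A₂ Ā).toSubring hB)) ≫
    V.isoSpec.inv, ?_, ?_⟩
  · rw [← cancel_mono V.isoSpec.hom, hr₂, Category.assoc, Category.assoc, Iso.inv_hom_id, Category.comp_id,
      ← Spec.map_comp]
    rfl
  · rw [← cancel_mono V.isoSpec.hom, hr₀, Category.assoc, Category.assoc, Iso.inv_hom_id, Category.comp_id,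
      ← Spec.map_comp]
    exact congrArg Spec.map (CommRingCat.hom_ext (RingHom.ext fun x => Subtype.ext
      (congrFun (congrArg DFunLike.coe e) x)))

/-- A point over the composite valuation ring restricts to the second valuation ring. -/
theorem exists_restrict (hv : ∀ sq : ValSq f, (∃ t : (yon S).obj sq.ptK ⟶ U, t ≫ h = sq.top) →
      sq.HasUniq ∧ sq.HasLiftExt)
    {K₂ : Type u} [Field K₂] (A₂ : ValuationSubring K₂) (Ā : ValuationSubring (IsLocalRing.ResidueField A₂))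
    (str : Spec (CommRingCat.of (ValGlue.composite A₂ Ā)) ⟶ S) (bot : (yon S).obj (Over.mk str) ⟶ Y)
    {T₂ : Over S} (i₂ : T₂ ⟶ Over.mk str) (e₂ : T₂.left = Spec (CommRingCat.of A₂))
    (hi₂ : i₂.left = eqToHom e₂ ≫ Spec.map (CommRingCat.ofHom (ValGlue.compositeIncl A₂ Ā)))
    (x₂ : (yon S).obj T₂ ⟶ X) (hx₂ : x₂ ≫ f = (yon S).map i₂ ≫ bot)
    {TK : Over S} (j₂ : TK ⟶ T₂) (eK : TK.left = Spec (CommRingCat.of K₂))
    (hj₂ : j₂.left ≫ eqToHom e₂ = eqToHom eK ≫ Spec.map (CommRingCat.ofHom A₂.subtype))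
    (u : (yon S).obj TK ⟶ U) (hu : u ≫ h = (yon S).map j₂ ≫ x₂) :
    ∃ (C : Type u) (_ : CommRing C) (_ : IsLocalRing C) (κ₃ : Type u) (_ : Field κ₃) (π' : Ā →+* C) (mk : C →+* κ₃)
      (ικ : IsLocalRing.ResidueField A₂ →+* κ₃),
      IsLocalHom π' ∧ mk.comp π' = ικ.comp (algebraMap Ā (IsLocalRing.ResidueField A₂)) ∧
      ∀ (Q k : Over S) (eQ : Q.left = Spec (CommRingCat.of C)) (q : Q ⟶ Over.mk str)
        (_ : q.left = eqToHom eQ ≫ Spec.map (CommRingCat.ofHom π') ≫ Spec.map (CommRingCat.ofHom (ValGlue.compositeπ A₂ Ā)))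
        (j : k ⟶ Q) (ek : k.left = Spec (CommRingCat.of κ₃))
        (_ : j.left ≫ eqToHom eQ = eqToHom ek ≫ Spec.map (CommRingCat.ofHom mk)) (m : k ⟶ T₂)
        (_ : m.left ≫ eqToHom e₂ = eqToHom ek ≫ Spec.map (CommRingCat.ofHom ικ) ≫ Spec.map (CommRingCat.ofHom (IsLocalRing.residue A₂))),
        ∃ l : (yon S).obj Q ⟶ X, l ≫ f = (yon S).map q ≫ bot ∧ (yon S).map j ≫ l = (yon S).map m ≫ x₂ := by
  let B := ValGlue.composite A₂ Ā
  have hK : Spec.map (CommRingCat.ofHom (algebraMap B K₂)) = Spec.map (CommRingCat.ofHom A₂.subtype) ≫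
      Spec.map (CommRingCat.ofHom (ValGlue.compositeIncl A₂ Ā)) := by
    rw [← Spec.map_comp]; rfl
  let a₀ : Over.mk (Spec.map (CommRingCat.ofHom (algebraMap B K₂)) ≫ str) ⟶ TK := Over.homMk (eqToHom eK.symm) (by
    change eqToHom eK.symm ≫ TK.hom = _
    rw [← Over.w (j₂ ≫ i₂), Over.comp_left, hi₂, reassoc_of% hj₂]
    simp only [Category.assoc, eqToHom_trans_assoc, eqToHom_refl, Category.id_comp]
    rw [← reassoc_of% hK]
    rfl)
  have ha₀ : a₀ ≫ j₂ ≫ i₂ =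
      (Over.homMk (Spec.map (CommRingCat.ofHom (algebraMap B K₂))) rfl : _ ⟶ Over.mk str) := Over.OverMorphism.ext (by
    change eqToHom eK.symm ≫ j₂.left ≫ i₂.left = Spec.map _
    rw [hi₂, reassoc_of% hj₂, eqToHom_trans_assoc, eqToHom_refl, Category.id_comp, hK])
  let sq : ValSq f :=
    { A := B, K := K₂, str := str, top := (yon S).map a₀ ≫ u ≫ h, bot := bot
      comm := by
        rw [← ha₀, hu]
        simp only [Functor.map_comp, Category.assoc, hx₂] }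
  obtain ⟨-, e, l, hl₁, hl₂⟩ := hv sq ⟨(yon S).map a₀ ≫ u, Category.assoc _ _ _⟩
  haveI : IsLocalHom e.φ := e.isLocalHom
  obtain ⟨p, hp, A₃, φ₃, χ, hχ, hφ₃, hχψ, hpc, hp₃⟩ :=
    ValGlue.exists_prime_localization A₂ Ā (A' := e.A') (K' := e.K') e.φ e.ψ e.comm
  haveI := hp
  haveI := hχ
  haveI : Nontrivial (e.A' ⧸ p) := Ideal.Quotient.nontrivial_iff.2 hp.ne_top
  haveI : IsLocalRing (e.A' ⧸ p) := .of_surjective' (Ideal.Quotient.mk p) Ideal.Quotient.mk_surjective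
  have hχφ : χ.comp (ValGlue.compositeIncl A₂ Ā) = φ₃.comp e.φ := by
    ext x
    have h1 := congrFun (congrArg DFunLike.coe hχψ) (ValGlue.compositeIncl A₂ Ā x)
    have h2 := congrFun (congrArg DFunLike.coe hφ₃) (e.φ x)
    have h3 := congrFun (congrArg DFunLike.coe e.comm) x
    exact h1.trans (h3.symm.trans h2.symm)
  let π₀ := ValGlue.compositeπ A₂ Ā
  obtain ⟨π', hπ'⟩ : ∃ π' : Ā →+* e.A' ⧸ p, π'.comp π₀ = (Ideal.Quotient.mk p).comp e.φ :=
    ⟨RingHom.liftOfSurjective π₀ (ValGlue.compositeπ_surjective A₂ Ā) ⟨(Ideal.Quotient.mk p).comp e.φ,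
      fun x hx => RingHom.mem_ker.2 (Ideal.Quotient.eq_zero_iff_mem.2 (by rw [← Ideal.mem_comap, hpc]; exact hx))⟩,
      RingHom.liftOfRightInverse_comp π₀ _
        (Function.rightInverse_surjInv (ValGlue.compositeπ_surjective A₂ Ā)) _⟩
  haveI : IsLocalHom (Ideal.Quotient.mk p) := .of_surjective _ Ideal.Quotient.mk_surjective
  haveI : IsLocalHom (π'.comp π₀) := by rw [hπ']; infer_instance
  let mk' : e.A' ⧸ p →+* IsLocalRing.ResidueField A₃ := Ideal.Quotient.lift p ((IsLocalRing.residue A₃).comp φ₃)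
    fun x hx => by
      rw [← hp₃] at hx
      exact (IsLocalRing.residue_eq_zero_iff _).2 hx
  refine ⟨e.A' ⧸ p, inferInstance, inferInstance, IsLocalRing.ResidueField A₃, inferInstance, π', mk',
    IsLocalRing.ResidueField.map χ, ⟨fun x hx => ?_⟩, ?_, ?_⟩
  · obtain ⟨x, rfl⟩ := ValGlue.compositeπ_surjective A₂ Ā x
    exact (isUnit_of_map_unit (π'.comp π₀) x hx).map π₀
  · refine (RingHom.cancel_right (ValGlue.compositeπ_surjective A₂ Ā)).1 ?_
    rw [RingHom.comp_assoc, hπ', RingHom.comp_assoc]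
    ext x
    exact congrArg (IsLocalRing.residue A₃) (congrFun (congrArg DFunLike.coe hχφ) x).symm
  intro Q k eQ q hq j ek hj m hm
  -- uniqueness over the localization
  let sA' : e.ptA' ⟶ sq.ptA := Over.homMk (Spec.map (CommRingCat.ofHom e.φ)) rfl
  let str₃ : Spec (CommRingCat.of A₃) ⟶ S := Spec.map (CommRingCat.ofHom φ₃) ≫ e.ptA'.hom
  let s₃ : Over.mk str₃ ⟶ e.ptA' := Over.homMk (Spec.map (CommRingCat.ofHom φ₃)) rfl
  let s₂ : Over.mk str₃ ⟶ T₂ := Over.homMk (Spec.map (CommRingCat.ofHom χ) ≫ eqToHom e₂.symm) (by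
    change (Spec.map _ ≫ eqToHom e₂.symm) ≫ T₂.hom = Spec.map _ ≫ Spec.map _ ≫ str
    rw [← Over.w i₂, hi₂, Category.assoc, Category.assoc, eqToHom_trans_assoc, eqToHom_refl, Category.id_comp,
      ← Spec.map_comp_assoc, ← Spec.map_comp_assoc, ← CommRingCat.ofHom_comp, ← CommRingCat.ofHom_comp, hχφ]
    rfl)
  have hs₂ : s₂ ≫ i₂ = s₃ ≫ sA' := Over.OverMorphism.ext (by
    change (Spec.map _ ≫ eqToHom e₂.symm) ≫ i₂.left = Spec.map _ ≫ Spec.map _
    rw [hi₂, Category.assoc, eqToHom_trans_assoc, eqToHom_refl, Category.id_comp, ← Spec.map_comp, ← Spec.map_comp,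
      ← CommRingCat.ofHom_comp, ← CommRingCat.ofHom_comp, hχφ])
  let ψ₀ : e.ptK' ⟶ sq.ptK := Over.homMk (Spec.map (CommRingCat.ofHom e.ψ)) (by
    change Spec.map _ ≫ Spec.map _ ≫ _ = Spec.map _ ≫ Spec.map _ ≫ _
    rw [← Spec.map_comp_assoc, ← Spec.map_comp_assoc, ← CommRingCat.ofHom_comp,
      ← CommRingCat.ofHom_comp, e.comm])
  have hK₃ : Spec.map (CommRingCat.ofHom (algebraMap A₃ e.K')) ≫ Spec.map (CommRingCat.ofHom φ₃) =
      Spec.map (CommRingCat.ofHom (algebraMap e.A' e.K')) := by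
    rw [← Spec.map_comp, ← CommRingCat.ofHom_comp]
    exact congrArg (fun g => Spec.map (CommRingCat.ofHom g)) hφ₃
  let j₃ : Over.mk (Spec.map (CommRingCat.ofHom (algebraMap A₃ e.K')) ≫ str₃) ⟶ Over.mk str₃ :=
    Over.homMk (Spec.map (CommRingCat.ofHom (algebraMap A₃ e.K'))) rfl
  let i₃ : Over.mk (Spec.map (CommRingCat.ofHom (algebraMap A₃ e.K')) ≫ str₃) ⟶ e.ptK' := Over.homMk (𝟙 _) (by
    change 𝟙 _ ≫ _ = _ ≫ Spec.map _ ≫ _
    rw [Category.id_comp, reassoc_of% hK₃]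
    rfl)
  let j' : e.ptK' ⟶ e.ptA' := Over.homMk (Spec.map (CommRingCat.ofHom (algebraMap e.A' e.K'))) rfl
  have hij : i₃ ≫ j' = j₃ ≫ s₃ := Over.OverMorphism.ext (by
    change 𝟙 _ ≫ Spec.map _ = Spec.map _ ≫ Spec.map _
    rw [Category.id_comp, hK₃])
  have hψj : ψ₀ ≫ sq.j = j' ≫ sA' := Over.OverMorphism.ext (by
    change Spec.map _ ≫ Spec.map _ = Spec.map _ ≫ Spec.map _
    rw [← Spec.map_comp, ← Spec.map_comp, ← CommRingCat.ofHom_comp, ← CommRingCat.ofHom_comp, e.comm])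
  let sq₃ : ValSq f :=
    { A := A₃, K := e.K', str := str₃, top := (yon S).map (i₃ ≫ ψ₀) ≫ sq.top
      bot := (yon S).map (s₃ ≫ sA') ≫ sq.bot
      comm := by
        change ((yon S).map (i₃ ≫ ψ₀) ≫ sq.top) ≫ f = (yon S).map j₃ ≫ (yon S).map (s₃ ≫ sA') ≫ sq.bot
        rw [Category.assoc, sq.comm, ← Functor.map_comp_assoc, ← Functor.map_comp_assoc, Category.assoc, hψj,
          reassoc_of% hij] }
  have hu₃ := (hv sq₃ ⟨(yon S).map (i₃ ≫ ψ₀) ≫ (yon S).map a₀ ≫ u, by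
    simp only [sq₃, sq, Category.assoc]⟩).1
  have hpre : (i₃ ≫ ψ₀) ≫ a₀ ≫ j₂ = j₃ ≫ s₂ := Over.OverMorphism.ext (by
    change (𝟙 _ ≫ Spec.map _) ≫ eqToHom eK.symm ≫ j₂.left = Spec.map _ ≫ Spec.map _ ≫ eqToHom e₂.symm
    rw [Category.id_comp, ← cancel_mono (eqToHom e₂)]
    simp only [Category.assoc, hj₂, eqToHom_trans_assoc, eqToHom_refl, Category.id_comp, eqToHom_trans,
      Category.comp_id]
    rw [← Spec.map_comp, ← Spec.map_comp, ← CommRingCat.ofHom_comp, ← CommRingCat.ofHom_comp]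
    exact congrArg (fun g => Spec.map (CommRingCat.ofHom g)) hχψ.symm)
  have heq : (yon S).map s₃ ≫ l = (yon S).map s₂ ≫ x₂ := by
    refine hu₃ _ _ ?_ ?_ ?_ ?_
    · show (yon S).map j₃ ≫ (yon S).map s₃ ≫ l = (yon S).map (i₃ ≫ ψ₀) ≫ sq.top
      rw [← Functor.map_comp_assoc, ← hij, Functor.map_comp, Functor.map_comp, Category.assoc, Category.assoc]
      exact congrArg (fun z => (yon S).map i₃ ≫ z) hl₁
    · show ((yon S).map s₃ ≫ l) ≫ f = (yon S).map (s₃ ≫ sA') ≫ sq.bot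
      rw [Category.assoc, hl₂, Functor.map_comp, Category.assoc]
    · show (yon S).map j₃ ≫ (yon S).map s₂ ≫ x₂ = (yon S).map (i₃ ≫ ψ₀) ≫ (yon S).map a₀ ≫ u ≫ h
      rw [hu, ← Functor.map_comp_assoc, ← Functor.map_comp_assoc, ← Functor.map_comp_assoc, ← hpre]
      simp only [Category.assoc]
    · show ((yon S).map s₂ ≫ x₂) ≫ f = (yon S).map (s₃ ≫ sA') ≫ bot
      rw [Category.assoc, hx₂, ← Functor.map_comp_assoc, hs₂]
  let sQ : Q ⟶ e.ptA' := Over.homMk (eqToHom eQ ≫ Spec.map (CommRingCat.ofHom (Ideal.Quotient.mk p))) (by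
    change (eqToHom eQ ≫ Spec.map _) ≫ Spec.map _ ≫ str = Q.hom
    rw [← Over.w q, hq]
    simp only [Category.assoc]
    rw [← Spec.map_comp_assoc, ← Spec.map_comp_assoc, ← CommRingCat.ofHom_comp, ← CommRingCat.ofHom_comp, hπ']
    rfl)
  refine ⟨(yon S).map sQ ≫ l, ?_, ?_⟩
  · rw [Category.assoc, hl₂, ← Functor.map_comp_assoc]
    congr 2
    apply Over.OverMorphism.ext
    change (eqToHom eQ ≫ Spec.map _) ≫ Spec.map _ = q.left
    rw [hq, Category.assoc, ← Spec.map_comp, ← Spec.map_comp, ← CommRingCat.ofHom_comp, ← CommRingCat.ofHom_comp, hπ']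
  · have hres : mk'.comp (Ideal.Quotient.mk p) = (IsLocalRing.residue A₃).comp φ₃ := RingHom.ext fun x => rfl
    let m₃ : k ⟶ Over.mk str₃ := Over.homMk (eqToHom ek ≫ Spec.map (CommRingCat.ofHom (IsLocalRing.residue A₃))) (by
      change (eqToHom ek ≫ Spec.map _) ≫ Spec.map _ ≫ e.ptA'.hom = k.hom
      rw [← Over.w (j ≫ sQ)]
      change _ = (j.left ≫ eqToHom eQ ≫ Spec.map _) ≫ e.ptA'.hom
      rw [reassoc_of% hj]
      simp only [Category.assoc]
      rw [← Spec.map_comp_assoc, ← Spec.map_comp_assoc, ← CommRingCat.ofHom_comp, ← CommRingCat.ofHom_comp, hres])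
    have hm₃ : j ≫ sQ = m₃ ≫ s₃ := Over.OverMorphism.ext (by
      change j.left ≫ eqToHom eQ ≫ Spec.map _ = (eqToHom ek ≫ Spec.map _) ≫ Spec.map _
      rw [reassoc_of% hj, Category.assoc, ← Spec.map_comp, ← Spec.map_comp, ← CommRingCat.ofHom_comp,
        ← CommRingCat.ofHom_comp, hres])
    rw [← Functor.map_comp_assoc, hm₃, Functor.map_comp, Category.assoc, heq, ← Functor.map_comp_assoc]
    congr 2
    apply Over.OverMorphism.ext
    change (eqToHom ek ≫ Spec.map _) ≫ Spec.map _ ≫ eqToHom e₂.symm = m.left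
    rw [← cancel_mono (eqToHom e₂), hm]
    simp only [Category.assoc, eqToHom_trans, eqToHom_refl, Category.comp_id]
    rw [← Spec.map_comp, ← Spec.map_comp, ← CommRingCat.ofHom_comp, ← CommRingCat.ofHom_comp]
    rfl

/-- Specializations over an affine chart of the base lift, given a generization in the dense source. -/
theorem exists_refined_lift (hv : ∀ sq : ValSq f, (∃ t : (yon S).obj sq.ptK ⟶ U, t ≫ h = sq.top) →
      sq.HasUniq ∧ sq.HasLiftExt)
    {V : Over S} [IsAffine V.left] (b : (yon S).obj V ⟶ Y)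
    {Vx : Over S} (a : (yon S).obj Vx ⟶ X) (β : Vx ⟶ V) (hβ : a ≫ f = (yon S).map β ≫ b)
    {W₁ : Over S} (c₁ : W₁ ⟶ Vx) (ε : (yon S).obj W₁ ⟶ U) (hε : ε ≫ h = (yon S).map c₁ ≫ a)
    (w₁ : ↥W₁.left) (v : ↥Vx.left) (hw₁ : c₁.left w₁ ⤳ v)
    {R T : Over S} (d : R ⟶ Vx) (c : R ⟶ T) (γ : T ⟶ V) (hd : d ≫ β = c ≫ γ) (r : ↥R.left) (hr : d.left r = v)
    (t : ↥T.left) (ht : c.left r ⤳ t) :
    ∃ (Q k : Over S) (l : (yon S).obj Q ⟶ X) (q : Q ⟶ T) (j : k ⟶ Q) (π : k ⟶ R) (q₀ : ↥Q.left) (k₀ : ↥k.left),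
      l ≫ f = (yon S).map (q ≫ γ) ≫ b ∧ (yon S).map j ≫ l = (yon S).map (π ≫ d) ≫ a ∧ j ≫ q = π ≫ c ∧
      π.left k₀ = r ∧ j.left k₀ ⤳ q₀ ∧ q.left q₀ = t := by
  obtain ⟨A₁, σ₁, hσ₁, hgen₁⟩ := exists_valuation_point (L := ↥(W₁.left.residueField w₁))
    (W₁.left.fromSpecResidueField w₁ ≫ c₁.left) v
    (by rw [Scheme.Hom.comp_apply, Scheme.fromSpecResidueField_apply]; exact hw₁)
  let pk : Spec (CommRingCat.of (IsLocalRing.ResidueField A₁)) ⟶ Vx.left :=
    Spec.map (CommRingCat.ofHom (IsLocalRing.residue A₁)) ≫ σ₁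
  obtain ⟨ξ, hξ₁, hξ₂⟩ := Scheme.Pullback.exists_preimage_pullback (f := pk) (g := d.left)
    (IsLocalRing.closedPoint (IsLocalRing.ResidueField A₁)) r (by
      rw [hr, ← hσ₁, Scheme.Hom.comp_apply]
      congr 1
      exact IsLocalRing.comap_closedPoint (IsLocalRing.residue A₁))
  obtain ⟨θ, hθ⟩ : ∃ θ : CommRingCat.of A₁ ⟶ (pullback pk d.left).residueField ξ,
      (pullback pk d.left).fromSpecResidueField ξ ≫ pullback.fst _ _ ≫
        Spec.map (CommRingCat.ofHom (IsLocalRing.residue A₁)) = Spec.map θ :=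
    ⟨Spec.preimage _, (Spec.map_preimage _).symm⟩
  have hΩ : Spec.map θ ≫ σ₁ = ((pullback pk d.left).fromSpecResidueField ξ ≫ pullback.snd _ _) ≫ d.left := by
    rw [← hθ]
    simp only [Category.assoc]
    rw [← pullback.condition]
  obtain ⟨K₂, _, A₂, i, φ, ι, hφ, hι⟩ :=
    ValGlue.exists_extension_residue (K := ↥(W₁.left.residueField w₁)) θ.hom
  obtain ⟨pκ, hpκd, hpκ⟩ : ∃ pκ : Spec (CommRingCat.of (IsLocalRing.ResidueField A₂)) ⟶ R.left,
      pκ ≫ d.left = Spec.map (CommRingCat.ofHom (IsLocalRing.residue A₂)) ≫ Spec.map (CommRingCat.ofHom φ) ≫ σ₁ ∧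
      pκ (IsLocalRing.closedPoint _) = r := by
    refine ⟨Spec.map (CommRingCat.ofHom ι) ≫ (pullback pk d.left).fromSpecResidueField ξ ≫ pullback.snd _ _, ?_, ?_⟩
    · rw [Category.assoc, ← hΩ, ← Spec.map_comp_assoc, ← Spec.map_comp_assoc, ← CommRingCat.ofHom_comp, hι]
      rfl
    · rw [Scheme.Hom.comp_apply, Scheme.Hom.comp_apply, Scheme.fromSpecResidueField_apply, hξ₂]
  obtain ⟨Ā, σ₀, hσ₀, hgen₀⟩ := exists_valuation_point (L := IsLocalRing.ResidueField A₂) (pκ ≫ c.left) t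
    (by rw [Scheme.Hom.comp_apply, hpκ]; exact ht)
  obtain ⟨σB, hiB, hπB⟩ := exists_glue A₂ Ā (Spec.map (CommRingCat.ofHom φ) ≫ σ₁ ≫ β.left) (σ₀ ≫ γ.left) (by
    rw [← reassoc_of% hpκd, ← Over.comp_left, hd, Over.comp_left, ← Category.assoc, ← hgen₀, Category.assoc])
  let T₂ : Over S := Over.mk (Spec.map (CommRingCat.ofHom φ) ≫ σ₁ ≫ Vx.hom)
  let s₂ : T₂ ⟶ Vx := Over.homMk (Spec.map (CommRingCat.ofHom φ) ≫ σ₁) (Category.assoc _ _ _)
  let i₂ : T₂ ⟶ Over.mk (σB ≫ V.hom) := Over.homMk (Spec.map (CommRingCat.ofHom (ValGlue.compositeIncl A₂ Ā))) (by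
    change _ ≫ σB ≫ V.hom = _ ≫ σ₁ ≫ Vx.hom
    rw [reassoc_of% hiB, Over.w])
  let sB : Over.mk (σB ≫ V.hom) ⟶ V := Over.homMk σB rfl
  have hiφ : Spec.map (CommRingCat.ofHom A₂.subtype) ≫ Spec.map (CommRingCat.ofHom φ) ≫ σ₁ =
      (Spec.map (CommRingCat.ofHom i) ≫ W₁.left.fromSpecResidueField w₁) ≫ c₁.left := by
    rw [← Spec.map_comp_assoc, ← CommRingCat.ofHom_comp, hφ, CommRingCat.ofHom_comp, Spec.map_comp, Category.assoc,
      hgen₁, Category.assoc]
  let TK : Over S := Over.mk (Spec.map (CommRingCat.ofHom A₂.subtype) ≫ T₂.hom)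
  let j₂ : TK ⟶ T₂ := Over.homMk (Spec.map (CommRingCat.ofHom A₂.subtype)) rfl
  let sK : TK ⟶ W₁ := Over.homMk (Spec.map (CommRingCat.ofHom i) ≫ W₁.left.fromSpecResidueField w₁) (by
    change _ = Spec.map _ ≫ Spec.map _ ≫ σ₁ ≫ Vx.hom
    rw [reassoc_of% hiφ, Over.w, Category.assoc])
  obtain ⟨C, _, _, κ₃, _, π', mk, ικ, hloc, hmk, hQ⟩ := exists_restrict hv A₂ Ā (σB ≫ V.hom) ((yon S).map sB ≫ b)
    i₂ rfl (Category.id_comp _).symm ((yon S).map s₂ ≫ a) (by
      rw [Category.assoc, hβ, ← Functor.map_comp_assoc, ← Functor.map_comp_assoc]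
      congr 2
      apply Over.OverMorphism.ext
      change (Spec.map _ ≫ σ₁) ≫ β.left = Spec.map _ ≫ σB
      rw [hiB, Category.assoc])
    (TK := TK) j₂ rfl ((Category.comp_id _).trans (Category.id_comp _).symm) ((yon S).map sK ≫ ε) (by
      rw [Category.assoc, hε, ← Functor.map_comp_assoc, ← Functor.map_comp_assoc]
      congr 2
      exact Over.OverMorphism.ext hiφ.symm)
  haveI := hloc
  let qQ : Spec (CommRingCat.of C) ⟶ T.left := Spec.map (CommRingCat.ofHom π') ≫ σ₀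
  let Q : Over S := Over.mk (qQ ≫ T.hom)
  let q : Q ⟶ T := Over.homMk qQ rfl
  let qB : Q ⟶ Over.mk (σB ≫ V.hom) := Over.homMk
    (Spec.map (CommRingCat.ofHom π') ≫ Spec.map (CommRingCat.ofHom (ValGlue.compositeπ A₂ Ā))) (by
    change (_ ≫ _) ≫ σB ≫ V.hom = (Spec.map _ ≫ σ₀) ≫ T.hom
    rw [Category.assoc, Category.assoc, reassoc_of% hπB, Over.w])
  let pk₃ : Spec (CommRingCat.of κ₃) ⟶ R.left := Spec.map (CommRingCat.ofHom ικ) ≫ pκ
  let k : Over S := Over.mk (pk₃ ≫ R.hom)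
  have hkq : Spec.map (CommRingCat.ofHom mk) ≫ qQ = pk₃ ≫ c.left := by
    simp only [qQ, pk₃, Category.assoc]
    rw [← hgen₀, ← Spec.map_comp_assoc, ← Spec.map_comp_assoc, ← CommRingCat.ofHom_comp, ← CommRingCat.ofHom_comp, hmk]
  let j : k ⟶ Q := Over.homMk (Spec.map (CommRingCat.ofHom mk)) (by
    change Spec.map _ ≫ qQ ≫ T.hom = pk₃ ≫ R.hom
    rw [reassoc_of% hkq, Over.w])
  let m : k ⟶ T₂ := Over.homMk (Spec.map (CommRingCat.ofHom ικ) ≫ Spec.map (CommRingCat.ofHom (IsLocalRing.residue A₂)))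
    (by
      change (Spec.map _ ≫ Spec.map _) ≫ Spec.map _ ≫ σ₁ ≫ Vx.hom = pk₃ ≫ R.hom
      rw [Category.assoc, ← Over.w d]
      simp only [pk₃, Category.assoc]
      rw [reassoc_of% hpκd])
  obtain ⟨l, hlf, hjl⟩ := hQ Q k rfl qB (Category.id_comp _).symm j rfl
    ((Category.comp_id _).trans (Category.id_comp _).symm) m ((Category.comp_id _).trans (Category.id_comp _).symm)
  refine ⟨Q, k, l, q, j, Over.homMk pk₃ rfl, IsLocalRing.closedPoint C, IsLocalRing.closedPoint κ₃, ?_, ?_,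
    Over.OverMorphism.ext hkq, ?_, IsLocalRing.specializes_closedPoint (R := C) _, ?_⟩
  · rw [hlf, ← Functor.map_comp_assoc]
    congr 2
    apply Over.OverMorphism.ext
    change (Spec.map _ ≫ Spec.map _) ≫ σB = qQ ≫ γ.left
    rw [Category.assoc, hπB]
    exact (Category.assoc _ _ _).symm
  · rw [hjl, ← Functor.map_comp_assoc]
    congr 2
    apply Over.OverMorphism.ext
    change (Spec.map _ ≫ Spec.map _) ≫ Spec.map _ ≫ σ₁ = pk₃ ≫ d.left
    simp only [pk₃, Category.assoc]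
    rw [hpκd]
  · show pκ (Spec.map (CommRingCat.ofHom ικ) (IsLocalRing.closedPoint κ₃)) = r
    rw [show Spec.map (CommRingCat.ofHom ικ) (IsLocalRing.closedPoint κ₃) = IsLocalRing.closedPoint _ from
      Subsingleton.elim (α := PrimeSpectrum (IsLocalRing.ResidueField A₂)) _ _, hpκ]
  · show σ₀ (Spec.map (CommRingCat.ofHom π') (IsLocalRing.closedPoint C)) = t
    rw [← hσ₀]
    congr 1
    exact IsLocalRing.comap_closedPoint π'

/-- Refined existence and uniqueness imply universal closedness. -/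
theorem isUnivClosedMor_of_refined (hU : IsAlgSpace U) (hX : IsAlgSpace X) (hY : IsAlgSpace Y)
    (hf : IsQuasiCompactMor f) (hh : IsQuasiCompactMor h) (hd : DenseRange (Points.map h))
    (hv : ∀ sq : ValSq f, (∃ t : (yon S).obj sq.ptK ⟶ U, t ≫ h = sq.top) → sq.HasUniq ∧ sq.HasLiftExt) :
    IsUnivClosedMor f := by
  refine isUnivClosedMor_of_specializations hX hY hf fun T hT g P fst snd sq W a c hac w t hwt => ?_
  -- a chart of the base at the specialization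
  obtain ⟨ι₁, Vs, bs, hVa, hbs, hbcov, -⟩ := exists_affine_charts hY
  obtain ⟨i₁, v₁, hv₁⟩ := hbcov (Points.ofPt g t)
  haveI := hVa i₁
  let b := bs i₁
  obtain ⟨T', τ, γ, sqT⟩ := exists_isPullback_yon hY.diag g b
  haveI : Etale τ.left := (hbs i₁).2 _ _ _ sqT.flip
  obtain ⟨t', ht', -⟩ := (ofPt_eq_ofPt_iff sqT t v₁).1 hv₁.symm
  obtain ⟨t'', ht'', htc⟩ := Flat.generalizingMap τ.left (a := t') (b := c.left w) (by rw [ht']; exact hwt)
  -- the point over the chart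
  obtain ⟨R₀, p₀, q₀, sqR₀⟩ : ∃ (R₀ : Over S) (p₀ : R₀ ⟶ W) (q₀ : R₀ ⟶ T'), IsPullback p₀ q₀ c τ :=
    ⟨_, _, _, IsPullback.of_hasPullback c τ⟩
  obtain ⟨r₀, hr₀p, hr₀q⟩ := (ofPt_eq_ofPt_iff (isPullback_yon sqR₀) w t'').1 (by
    rw [Points.ofPt_eq_map_ofScheme, Points.ofPt_eq_map_ofScheme]
    refine (Points.map_yon_map_apply c w).trans (Eq.trans ?_ (Points.map_yon_map_apply τ t'').symm)
    rw [htc])
  have sqX := IsPullback.of_hasPullback f b
  have hXV := isAlgSpace_pullback' hY hX (IsAlgSpace.yon_obj (Vs i₁)) f b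
  let δ : (yon S).obj R₀ ⟶ pullback f b := sqX.lift ((yon S).map p₀ ≫ a ≫ fst) ((yon S).map (q₀ ≫ γ)) (by
    rw [Category.assoc, Category.assoc, sq.w, reassoc_of% hac, ← Functor.map_comp_assoc, sqR₀.w, Functor.map_comp,
      Category.assoc, sqT.w, Functor.map_comp, Category.assoc])
  obtain ⟨ι₂, Xs, as, hXa, has, hacov, -⟩ := exists_affine_charts hXV
  obtain ⟨i₂, v, hvx⟩ := hacov (Points.ofPt δ r₀)
  haveI := hXa i₂
  let aX := as i₂ ≫ pullback.fst f b
  have haX : RepWith @Etale aX := repWith_comp (has i₂) (repWith_of_isPullback sqX.flip (hbs i₁))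
  obtain ⟨β, hβ⟩ := (yon S).map_surjective (as i₂ ≫ pullback.snd f b)
  obtain ⟨R, d, ρ, sqR⟩ := exists_isPullback_of_representable (has i₂).1 δ
  obtain ⟨d, rfl⟩ := (yon S).map_surjective d
  obtain ⟨r, hrd, hrρ⟩ := (ofPt_eq_ofPt_iff sqR v r₀).1 hvx
  -- a generization in the source
  haveI : CompactSpace ↥(Xs i₂).left := inferInstance
  have hQ : IsAlgSpace (pullback h aX) := isAlgSpace_pullback' hX hU (IsAlgSpace.yon_obj _) h aX
  obtain ⟨W₁, ω, hW₁, -, ωs⟩ := exists_affine_surjective_chart hQ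
    (hh (IsAlgSpace.yon_obj _) (isQuasiCompactSp_yon _) aX _ _ (IsPullback.of_hasPullback h aX))
  haveI := hW₁
  obtain ⟨c₁, hc₁⟩ := (yon S).map_surjective (ω ≫ pullback.snd h aX)
  have hclos : v ∈ closure (Set.range c₁.left) := by
    have h1 : v ∈ Points.ofPt aX ⁻¹' closure (Set.range (Points.map h)) := hd _
    rw [(isOpenMap_ofPt_of_etale haX).preimage_closure_eq_closure_preimage (Points.continuous_ofPt aX)] at h1
    refine closure_mono ?_ h1
    rintro vv ⟨u, hu⟩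
    obtain ⟨y, -, hy⟩ := exists_of_isPullback (IsPullback.of_hasPullback h aX)
      (x := u) (y := Points.schemeHomeo _ vv) (hu.trans (Points.ofPt_eq_map_ofScheme aX vv))
    obtain ⟨w₁, rfl⟩ := surjective_ofPt_of_repWith ωs y
    refine ⟨w₁, (Points.schemeHomeo _).injective (Eq.trans ?_ hy)⟩
    rw [Points.map_ofPt, ← hc₁, Points.ofPt_eq_map_ofScheme]
    exact (Points.map_yon_map_apply c₁ w₁).symm
  obtain ⟨w₁, -, hw₁⟩ := GrpdQuot.exists_specializes_of_mem_closure c₁.left Set.univ isClosed_univ v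
    (by rwa [Set.image_univ])
  obtain ⟨Q, k, l, q, j, π, q', k₀, hlf, hjl, hjq, hπk, hjk, hqt⟩ :=
    exists_refined_lift hv b aX β (by rw [Category.assoc, sqX.w, hβ, Category.assoc]) c₁ (ω ≫ pullback.fst h aX)
      (by rw [Category.assoc, pullback.condition, hc₁, Category.assoc]) w₁ v hw₁ d (ρ ≫ q₀) γ
      ((yon S).map_injective (by
        rw [Functor.map_comp, hβ, reassoc_of% sqR.w, sqX.lift_snd, ← Functor.map_comp, Category.assoc]))
      r hrd t' (by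
        rw [Over.comp_left, Scheme.Hom.comp_apply, hrρ, hr₀q]; exact ht'')
  let m : (yon S).obj Q ⟶ P := sq.lift l ((yon S).map (q ≫ τ)) (by
    rw [hlf, Functor.map_comp, Functor.map_comp, Category.assoc, Category.assoc, sqT.w])
  refine ⟨Points.ofPt m q', ?_, ?_⟩
  · have hjm : (yon S).map j ≫ m = (yon S).map (π ≫ ρ ≫ p₀) ≫ a := by
      apply sq.hom_ext
      · rw [Category.assoc, sq.lift_fst, hjl, Functor.map_comp, Category.assoc, reassoc_of% sqR.w, sqX.lift_fst]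
        simp only [Functor.map_comp, Category.assoc]
      · rw [Category.assoc, sq.lift_snd, Category.assoc, hac, ← Functor.map_comp, ← Functor.map_comp]
        apply congrArg
        rw [← Category.assoc, hjq, Category.assoc, Category.assoc, Category.assoc, Category.assoc, sqR₀.w]
    have hk : Points.ofPt m (j.left k₀) = Points.ofPt a w := by
      rw [← ofPt_map_comp, hjm, ofPt_map_comp]
      simp only [Over.comp_left, Scheme.Hom.comp_apply]
      rw [hπk, hrρ, hr₀p]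
    rw [← hk]
    exact hjk.map (Points.continuous_ofPt m)
  · rw [Points.map_ofPt, sq.lift_snd, Points.ofPt_eq_map_ofScheme]
    refine (Points.map_yon_map_apply (q ≫ τ) q').trans (congrArg _ ?_)
    rw [Over.comp_left, Scheme.Hom.comp_apply, hqt, ht']

end GrothLib.AlgSp
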