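import Groth.Agent.Lib.AlgSp.FormalLift
import Groth.Agent.Lib.AlgSp.LocP
import Groth.Agent.S9771
import Groth.Prelude.Def_AlgSpInf
import Mathlib.CategoryTheory.Sites.RegularEpi

/-!
# Formally smooth, unramified and etale morphisms of algebraic spaces on charts
-/

universe u

open CategoryTheory CategoryTheory.Limits AlgebraicGeometry Opposite

namespace GrothLib.AlgSp

open _root_.AlgSp

variable {S : Scheme.{u}} {F G H : Sp S}

theorem fu_comp {a : F ⟶ G} {b : G ⟶ H} (ha : IsFormallyUnramifiedMor a) (hb : IsFormallyUnramifiedMor b) :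
    IsFormallyUnramifiedMor (a ≫ b) := by
  intro sq l l' h1 h2 h3 h4
  refine hom_ext_of_fu ha (fot_j sq) (h1.trans h3.symm) (hom_ext_of_fu hb (fot_j sq) ?_ ?_)
  · rw [reassoc_of% h1, reassoc_of% h3]
  · rw [Category.assoc, Category.assoc, h2, h4]

theorem fs_comp {a : F ⟶ G} {b : G ⟶ H} (ha : IsFormallySmoothMor a) (hb : IsFormallySmoothMor b) :
    IsFormallySmoothMor (a ≫ b) := by
  intro sq
  obtain ⟨m, hm, hmb⟩ := hb ⟨sq.A, sq.I, sq.sq_zero, sq.str, sq.top ≫ a, sq.bot, by rw [Category.assoc]; exact sq.comm⟩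
  obtain ⟨l, hl, hla⟩ := ha ⟨sq.A, sq.I, sq.sq_zero, sq.str, sq.top, m, hm.symm⟩
  exact ⟨l, hl, by rw [reassoc_of% hla]; exact hmb⟩

theorem fe_comp {a : F ⟶ G} {b : G ⟶ H} (ha : IsFormallyEtaleMor a) (hb : IsFormallyEtaleMor b) :
    IsFormallyEtaleMor (a ≫ b) :=
  fe_of_fs_fu (fs_comp (fs_of_fe ha) (fs_of_fe hb)) (fu_comp (fu_of_fe ha) (fu_of_fe hb))

theorem fu_of_comp {a : F ⟶ G} {b : G ⟶ H} (h : IsFormallyUnramifiedMor (a ≫ b)) :
    IsFormallyUnramifiedMor a :=
  fun sq _ _ h1 h2 h3 h4 => hom_ext_of_fu h (fot_j sq) (h1.trans h3.symm)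
    (by rw [reassoc_of% h2, reassoc_of% h4])

theorem fs_of_comp {a : F ⟶ G} {b : G ⟶ H} (hb : IsFormallyUnramifiedMor b) (h : IsFormallySmoothMor (a ≫ b)) :
    IsFormallySmoothMor a := by
  intro sq
  obtain ⟨l, hl, hlb⟩ := h ⟨sq.A, sq.I, sq.sq_zero, sq.str, sq.top, sq.bot ≫ b, by
    rw [← Category.assoc, sq.comm, Category.assoc]⟩
  refine ⟨l, hl, hom_ext_of_fu hb (fot_j sq) ?_ (by rw [Category.assoc]; exact hlb)⟩
  rw [← sq.comm, ← Category.assoc]
  exact congrArg (· ≫ a) hl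

theorem fe_of_comp {a : F ⟶ G} {b : G ⟶ H} (hb : IsFormallyUnramifiedMor b) (h : IsFormallyEtaleMor (a ≫ b)) :
    IsFormallyEtaleMor a :=
  fe_of_fs_fu (fs_of_comp hb (fs_of_fe h)) (fu_of_comp (fu_of_fe h))

section BaseChange

variable {P : Sp S} {a : F ⟶ G} {b : H ⟶ G} {b' : P ⟶ F} {a' : P ⟶ H}

theorem fs_baseChange (hP : IsPullback b' a' a b) (ha : IsFormallySmoothMor a) : IsFormallySmoothMor a' := by
  intro sq
  obtain ⟨l, hl, hla⟩ := ha ⟨sq.A, sq.I, sq.sq_zero, sq.str, sq.top ≫ b', sq.bot ≫ b, by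
    rw [Category.assoc, hP.w, ← Category.assoc, sq.comm, Category.assoc]⟩
  refine ⟨hP.lift l sq.bot hla, hP.hom_ext ?_ ?_, hP.lift_snd _ _ _⟩
  · rw [Category.assoc, hP.lift_fst]; exact hl
  · rw [Category.assoc, hP.lift_snd]; exact sq.comm.symm

theorem fu_baseChange (hP : IsPullback b' a' a b) (ha : IsFormallyUnramifiedMor a) : IsFormallyUnramifiedMor a' :=
  fun sq _ _ h1 h2 h3 h4 => hP.hom_ext
    (hom_ext_of_fu ha (fot_j sq) (by rw [reassoc_of% h1, reassoc_of% h3])
      (by simp only [Category.assoc, hP.w]; rw [reassoc_of% h2, reassoc_of% h4]))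
    (h2.trans h4.symm)

theorem fe_baseChange (hP : IsPullback b' a' a b) (ha : IsFormallyEtaleMor a) : IsFormallyEtaleMor a' :=
  fe_of_fs_fu (fs_baseChange hP (fs_of_fe ha)) (fu_baseChange hP (fu_of_fe ha))

end BaseChange

section Yon

variable {U V : Over S} (h : U ⟶ V)

/-- A scheme-level lifting square as a lifting square of representable sheaves. -/
noncomputable def infSqOfHom (A : Type u) [CommRing A] (I : Ideal A) (hI : I ^ 2 = ⊥)
    (a : Spec (CommRingCat.of (A ⧸ I)) ⟶ U.left) (b : Spec (CommRingCat.of A) ⟶ V.left)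
    (w : Spec.map (CommRingCat.ofHom (Ideal.Quotient.mk I)) ≫ b = a ≫ h.left) :
    InfSq ((yon S).map h) :=
  ⟨A, I, hI, b ≫ V.hom, (yon S).map (Over.homMk a (by
      show a ≫ U.hom = _ ≫ b ≫ V.hom
      rw [← Over.w h, ← reassoc_of% w])),
    (yon S).map (Over.homMk b rfl), by
      rw [← Functor.map_comp, ← Functor.map_comp]
      exact congrArg _ (Over.OverMorphism.ext w.symm)⟩

theorem fs_yon_map_iff : IsFormallySmoothMor ((yon S).map h) ↔ MoreMor.IsFormallySmoothHom h.left := by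
  constructor
  · intro H A _ I hI a b w
    obtain ⟨l, hl, hlh⟩ := H (infSqOfHom h A I hI a b w)
    obtain ⟨l, rfl⟩ := (yon S).map_surjective l
    simp only [infSqOfHom, ← Functor.map_comp] at hl hlh
    exact ⟨l.left, congrArg Over.Hom.left ((yon S).map_injective hl),
      congrArg Over.Hom.left ((yon S).map_injective hlh)⟩
  · intro H sq
    obtain ⟨a, ha⟩ := (yon S).map_surjective sq.top
    obtain ⟨b, hb⟩ := (yon S).map_surjective sq.bot
    have w := sq.comm
    rw [← ha, ← hb, ← Functor.map_comp, ← Functor.map_comp] at w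
    obtain ⟨l, hl, hlh⟩ := H sq.A sq.I sq.sq_zero a.left b.left
      (congrArg Over.Hom.left ((yon S).map_injective w)).symm
    let L : sq.ptT' ⟶ U := Over.homMk l (by rw [← Over.w h, ← Over.w b, ← hlh, Category.assoc])
    refine ⟨(yon S).map L, ?_, ?_⟩
    · rw [← ha, ← Functor.map_comp]; exact congrArg _ (Over.OverMorphism.ext hl)
    · rw [← hb, ← Functor.map_comp]; exact congrArg _ (Over.OverMorphism.ext hlh)

theorem fu_yon_map_iff : IsFormallyUnramifiedMor ((yon S).map h) ↔ FormallyUnramified h.left := by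
  constructor
  · intro H
    refine FormallyUnramified.of_hom_ext _ fun R R' φ hs hk g₁ g₂ hg hgh => ?_
    let T' : Over S := Over.mk (g₁ ≫ U.hom)
    let T : Over S := Over.mk (Spec.map φ ≫ g₁ ≫ U.hom)
    let t : T ⟶ T' := Over.homMk (Spec.map φ) rfl
    let l₁ : T' ⟶ U := Over.homMk g₁ rfl
    let l₂ : T' ⟶ U := Over.homMk g₂ (by
      show g₂ ≫ U.hom = g₁ ≫ U.hom
      rw [← Over.w h, reassoc_of% hgh])
    have ht : FOT t := GrothLib.UnivThick.fot_spec φ hs hk
    have : l₁ = l₂ := (yon S).map_injective (hom_ext_of_fu H ht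
      (by rw [← Functor.map_comp, ← Functor.map_comp]; exact congrArg _ (Over.OverMorphism.ext hg))
      (by rw [← Functor.map_comp, ← Functor.map_comp]; exact congrArg _ (Over.OverMorphism.ext hgh)))
    exact congrArg Over.Hom.left this
  · intro H sq l l' h1 h2 h3 h4
    obtain ⟨l, rfl⟩ := (yon S).map_surjective l
    obtain ⟨l', rfl⟩ := (yon S).map_surjective l'
    have := (fot_j sq).1.1
    have e1 : sq.j ≫ l = sq.j ≫ l' := (yon S).map_injective (by simpa only [Functor.map_comp] using h1.trans h3.symm)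
    have e2 : l ≫ h = l' ≫ h := (yon S).map_injective (by simpa only [Functor.map_comp] using h2.trans h4.symm)
    exact congrArg _ (Over.OverMorphism.ext (FormallyUnramified.hom_ext sq.j.left
      ⟨2, by rw [pow_two]; exact (fot_j sq).2⟩ h.left (congrArg Over.Hom.left e1) (congrArg Over.Hom.left e2)))

theorem fe_yon_map_iff : IsFormallyEtaleMor ((yon S).map h) ↔ MoreMor.IsFormallyEtaleHom h.left := by
  constructor
  · intro H A _ I hI a b w
    obtain ⟨l, hl, hlh⟩ := (fs_yon_map_iff h).1 (fs_of_fe H) A I hI a b w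
    have := (fu_yon_map_iff h).1 (fu_of_fe H)
    have ht := GrothLib.UnivThick.fot_spec (CommRingCat.ofHom (Ideal.Quotient.mk I))
      Ideal.Quotient.mk_surjective (by rw [CommRingCat.hom_ofHom, Ideal.mk_ker]; exact hI)
    have := ht.1.1
    exact ⟨l, ⟨hl, hlh⟩, fun l' hl' => FormallyUnramified.hom_ext (Spec.map (CommRingCat.ofHom (Ideal.Quotient.mk I)))
      ⟨2, by rw [pow_two]; exact ht.2⟩ h.left (hl'.1.trans hl.symm) (hl'.2.trans hlh.symm)⟩
  · intro H
    refine fe_of_fs_fu ((fs_yon_map_iff h).2 fun A _ I hI a b w => (H A I hI a b w).exists) ?_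
    refine (fu_yon_map_iff h).2 (FormallyUnramified.of_hom_ext _ fun R R' φ hs hk g₁ g₂ hg hgh => ?_)
    have := (GrothLib.UnivThick.fot_spec φ hs hk).1.1
    have := (GrothLib.UnivThick.fot_spec φ hs hk).1.2
    exact (GrothLib.FormalLift.uniqueLift_of_thickening H (Spec.map φ)
      (GrothLib.UnivThick.fot_spec φ hs hk).2 (Spec.map φ ≫ g₁) (g₁ ≫ h.left) (Category.assoc _ _ _).symm).unique
      ⟨rfl, rfl⟩ ⟨hg.symm, hgh.symm⟩

end Yon

section Charts

variable {X Y : Sp S} {f : X ⟶ Y}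

theorem locP_fu (hf : IsFormallyUnramifiedMor f) : LocP @FormallyUnramified f := by
  intro U V a b h ha hb w
  refine (fu_yon_map_iff h).1 (fu_of_comp (b := b) ?_)
  rw [← w]
  exact fu_comp (fu_of_fe (fe_of_repWith_etale ha)) hf

theorem locP_fe (hf : IsFormallyEtaleMor f) : LocP @MoreMor.IsFormallyEtaleHom f := by
  intro U V a b h ha hb w
  refine (fe_yon_map_iff h).1 (fe_of_comp (fu_of_fe (fe_of_repWith_etale hb)) ?_)
  rw [← w]
  exact fe_comp (fe_of_repWith_etale ha) hf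

theorem locP_fs (hf : IsFormallySmoothMor f) : LocP @MoreMor.IsFormallySmoothHom f := by
  intro U V a b h ha hb w
  refine (fs_yon_map_iff h).1 (fs_of_comp (fu_of_fe (fe_of_repWith_etale hb)) ?_)
  rw [← w]
  exact fs_comp (fs_of_fe (fe_of_repWith_etale ha)) hf

variable {U V : Over S} {a : (yon S).obj U ⟶ X} {b : (yon S).obj V ⟶ Y} {h : U ⟶ V}

theorem fu_of_chart (ha : RepWith @Etale a) (ha' : RepWith @Surjective a) (hb : RepWith @Etale b)
    (w : a ≫ f = (yon S).map h ≫ b) (hh : FormallyUnramified h.left) : IsFormallyUnramifiedMor f := by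
  refine fu_of_etale_comp ha ha' ?_
  rw [w]
  exact fu_comp ((fu_yon_map_iff h).2 hh) (fu_of_fe (fe_of_repWith_etale hb))

theorem fe_of_chart (ha : RepWith @Etale a) (ha' : RepWith @Surjective a) (hb : RepWith @Etale b)
    (w : a ≫ f = (yon S).map h ≫ b) (hh : MoreMor.IsFormallyEtaleHom h.left) : IsFormallyEtaleMor f := by
  refine fe_of_etale_comp ha ha' ?_
  rw [w]
  exact fe_comp ((fe_yon_map_iff h).2 hh) (fe_of_repWith_etale hb)

theorem fu_iff_locP (hX : IsAlgSpace X) (hY : IsAlgSpace Y) :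
    IsFormallyUnramifiedMor f ↔ LocP @FormallyUnramified f := by
  refine ⟨locP_fu, fun hl => ?_⟩
  obtain ⟨V, b, hb, hb'⟩ := hY.atlas
  obtain ⟨U, a, h, ha, w, hs⟩ := exists_chart_over hX hY f b hb
  exact fu_of_chart ha (hs hb') hb w (hl a b h ha hb w)

theorem fe_iff_locP (hX : IsAlgSpace X) (hY : IsAlgSpace Y) :
    IsFormallyEtaleMor f ↔ LocP @MoreMor.IsFormallyEtaleHom f := by
  refine ⟨locP_fe, fun hl => ?_⟩
  obtain ⟨V, b, hb, hb'⟩ := hY.atlas
  obtain ⟨U, a, h, ha, w, hs⟩ := exists_chart_over hX hY f b hb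
  exact fe_of_chart ha (hs hb') hb w (hl a b h ha hb w)

theorem fe_of_unramified_flat (hX : IsAlgSpace X) (hY : IsAlgSpace Y)
    (h1 : LocP (@LocallyOfFiniteType ⊓ @FormallyUnramified) f) (h2 : LocP @Flat f) : IsFormallyEtaleMor f := by
  refine (fe_iff_locP hX hY).2 fun U V a b h ha hb w => ?_
  obtain ⟨i1, i2⟩ := h1 a b h ha hb w
  have i3 : Flat h.left := h2 a b h ha hb w
  exact Groth.Agent.S9771.result h.left

theorem isEtaleMor_iff_lfp_fe (hX : IsAlgSpace X) (hY : IsAlgSpace Y) :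
    IsEtaleMor f ↔ LocP @LocallyOfFinitePresentation f ∧ IsFormallyEtaleMor f := by
  rw [isEtaleMor_iff_locP hY, fe_iff_locP hX hY]
  constructor
  · exact fun hl => ⟨fun U V a b h ha hb w => ((Groth.Agent.S1489.result _).1 (hl a b h ha hb w)).1,
      fun U V a b h ha hb w => ((Groth.Agent.S1489.result _).1 (hl a b h ha hb w)).2⟩
  · exact fun hl U V a b h ha hb w => (Groth.Agent.S1489.result _).2 ⟨hl.1 a b h ha hb w, hl.2 a b h ha hb w⟩

theorem fe_of_isEtaleMor (hX : IsAlgSpace X) (hY : IsAlgSpace Y) (hf : IsEtaleMor f) :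
    IsFormallyEtaleMor f :=
  ((isEtaleMor_iff_lfp_fe hX hY).1 hf).2

end Charts

section SpaceThickening

variable {T T' : Sp S} {j : T ⟶ T'}

/-- The pullback of a first order thickening to a scheme etale over it is one of schemes. -/
theorem fot_of_isFOThick (hj : IsFOThickMor j) {V W : Over S} {b : (yon S).obj V ⟶ T'}
    (hb : RepWith @Etale b) {fst : (yon S).obj W ⟶ T} {snd : W ⟶ V}
    (sq : IsPullback fst ((yon S).map snd) j b) : FOT snd := by
  refine GrothLib.UnivThick.fot_of_local snd.left fun x => ?_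
  obtain ⟨ι, Vi, c, hV, hc, hs⟩ := exists_affine_cover V
  obtain ⟨i, y, hy⟩ := hs x
  have sq' := IsPullback.of_hasPullback snd (c i)
  have hb' : RepWith @Etale ((yon S).map (c i) ≫ b) :=
    repWith_comp ((repWith_yon_map_iff _ _).2 (have := hc i; inferInstance)) hb
  have sqs := isPullback_stack sq sq'
  refine ⟨_, _, _, _, _, isPullback_left sq', hc i, ⟨y, hy⟩, ⟨?_, hj.2 _ _ _ (hV i) hb' sqs⟩⟩
  exact hj.1.2 _ _ _ sqs

/-- At most one lift along a first order thickening of algebraic spaces. -/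
theorem hom_ext_thick {f : F ⟶ G} (hf : IsFormallyUnramifiedMor f) (hT' : IsAlgSpace T') (hj : IsFOThickMor j)
    {l l' : T' ⟶ F} (h : j ≫ l = j ≫ l') (h' : l ≫ f = l' ≫ f) : l = l' := by
  obtain ⟨V, q, qe, qs⟩ := hT'.atlas
  have := chart_isLocallySurjective qe qs
  obtain ⟨W, fst, snd, sq⟩ := exists_isPullback_of_representable hj.1.1 q
  rw [← cancel_epi q]
  refine hom_ext_of_fu hf (fot_of_isFOThick hj qe sq) ?_ (by simp only [Category.assoc, h'])
  rw [← sq.w_assoc, ← sq.w_assoc, h]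

/-- Formally etale maps lift uniquely along a first order thickening of algebraic spaces. -/
theorem existsUnique_lift_thick {f : F ⟶ G} (hf : IsFormallyEtaleMor f) (hT' : IsAlgSpace T')
    (hj : IsFOThickMor j) (a : T ⟶ F) (b : T' ⟶ G) (w : a ≫ f = j ≫ b) :
    ∃! l : T' ⟶ F, j ≫ l = a ∧ l ≫ f = b := by
  obtain ⟨V, q, qe, qs⟩ := hT'.atlas
  have := chart_isLocallySurjective qe qs
  obtain ⟨W, fst, snd, sq⟩ := exists_isPullback_of_representable hj.1.1 q
  obtain ⟨lV, ⟨hlV, hlVf⟩, -⟩ := existsUnique_lift_of_fe hf (fot_of_isFOThick hj qe sq) (fst ≫ a) (q ≫ b)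
    (by rw [Category.assoc, w, sq.w_assoc])
  obtain ⟨R, r₁, r₂, sqR⟩ := exists_isPullback_of_representable qe.1 q
  obtain ⟨r₁, rfl⟩ := (yon S).map_surjective r₁
  have hr : RepWith @Etale ((yon S).map r₁ ≫ q) :=
    repWith_comp (repWith_of_isPullback sqR.flip qe) qe
  obtain ⟨Q, qf, qsnd, sqQ⟩ := exists_isPullback_of_representable hj.1.1 ((yon S).map r₁ ≫ q)
  have := IsRegularEpiCategory.regularEpiOfEpi q
  obtain ⟨l, hl⟩ := IsRegularEpi.exists_of_isKernelPair q sqR lV (by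
    refine hom_ext_of_fu (fu_of_fe hf) (fot_of_isFOThick hj hr sqQ) ?_ ?_
    · obtain ⟨m₁, hm₁⟩ := (yon S).map_surjective (sq.lift qf ((yon S).map (qsnd ≫ r₁))
        (by rw [sqQ.w, Functor.map_comp, Category.assoc]))
      obtain ⟨m₂, hm₂⟩ := (yon S).map_surjective (sq.lift qf ((yon S).map (qsnd ≫ r₂))
        (by rw [sqQ.w, Functor.map_comp, Category.assoc, sqR.w]))
      have e1 : m₁ ≫ snd = qsnd ≫ r₁ := (yon S).map_injective (by rw [Functor.map_comp, hm₁, sq.lift_snd])
      have e2 : m₂ ≫ snd = qsnd ≫ r₂ := (yon S).map_injective (by rw [Functor.map_comp, hm₂, sq.lift_snd])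
      rw [← Functor.map_comp_assoc, ← Functor.map_comp_assoc, ← e1, ← e2, Functor.map_comp_assoc,
        Functor.map_comp_assoc, hlV, hm₁, hm₂, sq.lift_fst_assoc, sq.lift_fst_assoc]
    · simp only [Category.assoc, hlVf, sqR.w_assoc])
  refine ⟨l, ⟨?_, ?_⟩, fun l' hl' => ?_⟩
  · have := chart_isLocallySurjective (repWith_of_isPullback sq.flip qe) (repWith_of_isPullback sq.flip qs)
    rw [← cancel_epi fst, sq.w_assoc, hl, hlV]
  · rw [← cancel_epi q, reassoc_of% hl, hlVf]
  · refine hom_ext_thick (fu_of_fe hf) hT' hj ?_ ?_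
    · rw [hl'.1]
      have := chart_isLocallySurjective (repWith_of_isPullback sq.flip qe) (repWith_of_isPullback sq.flip qs)
      rw [← cancel_epi fst, sq.w_assoc, hl, hlV]
    · rw [hl'.2, ← cancel_epi q, reassoc_of% hl, hlVf]

end SpaceThickening

end GrothLib.AlgSp
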