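import Groth.Agent.Lib.AlgSp.Unramified
import Groth.Agent.Lib.AlgSp.UnivClosed
import Groth.Agent.Lib.AlgSp.LqfScheme
import Groth.Agent.Lib.AlgSp.FlatMono
import Groth.Agent.Lib.AlgSp.AffineMor
import Groth.Agent.Lib.AlgSp.FormalLiftSpace
import Groth.Agent.Lib.EtBasicB.OverField

/-!
# Unramified monomorphisms and closed immersions of algebraic spaces

Main results: `mono_of_unramified_univInjective`, `unramified_of_mono`, `isClosedImmersion_iff`,
`representable_of_lft_mono`.
-/

universe u

open CategoryTheory CategoryTheory.Limits AlgebraicGeometry TopologicalSpace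

namespace GrothLib.AlgSp

open _root_.AlgSp

variable {S : Scheme.{u}} {X Y : Sp S} {f : X ⟶ Y}

theorem surjective_map_diagonal (hX : IsAlgSpace X) (hY : IsAlgSpace Y) (hinj : IsUnivInjectiveMor f) :
    Function.Surjective (Points.map (pullback.diagonal f)) := fun p => by
  refine ⟨Points.map (pullback.snd f f) p, hinj hX f _ _ (IsPullback.of_hasPullback f f) ?_⟩
  rw [← Points.map_comp, pullback.diagonal_snd, Points.map_id]

theorem mono_of_unramified_univInjective (hX : IsAlgSpace X) (hY : IsAlgSpace Y)
    (hu : LocP (@LocallyOfFiniteType ⊓ @FormallyUnramified) f) (hinj : IsUnivInjectiveMor f) : Mono f :=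
  (pullback.isIso_diagonal_iff f).1 (isIso_of_openImmersion_surjective
    (repWith_openImmersion_diagonal_of_unramified hX hY hu) (surjective_map_diagonal hX hY hinj))

theorem unramified_of_mono [Mono f] (hft : LocP @LocallyOfFiniteType f) :
    LocP (@LocallyOfFiniteType ⊓ @FormallyUnramified) f :=
  have : IsIso (pullback.diagonal f) := (pullback.isIso_diagonal_iff f).2 ‹_›
  locP_unramified_of_diagonal hft (repWith_iso _)

theorem locP_lqf_of_unramified (hu : LocP (@LocallyOfFiniteType ⊓ @FormallyUnramified) f) :
    LocP (@LocallyQuasiFinite ⊓ @LocallyOfFiniteType) f :=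
  locP_mono (fun A B g ⟨h₁, h₂⟩ => by
    have : LocallyOfFiniteType g := h₁
    have : FormallyUnramified g := h₂
    exact ⟨GrothLib.EtBasicB.locallyQuasiFinite_of_unramified g, h₁⟩) hu

theorem isSeparatedMor_of_mono [Mono f] : IsSeparatedMor f :=
  have : IsIso (pullback.diagonal f) := (pullback.isIso_diagonal_iff f).2 ‹_›
  repWith_iso _

theorem representable_of_lft_mono (hX : IsAlgSpace X) (hY : IsAlgSpace Y) [Mono f]
    (hft : LocP @LocallyOfFiniteType f) : Representable f :=
  representable_of_lqf_separated hX hY (locP_lqf_of_unramified (unramified_of_mono hft)) isSeparatedMor_of_mono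

theorem repWith_monomorphisms_of_mono [Mono f] (hf : Representable f) :
    RepWith (MorphismProperty.monomorphisms Scheme.{u}) f := by
  refine ⟨hf, fun T V g fst snd sq => ?_⟩
  have : Mono ((yon S).map snd) := ⟨fun x y e => sq.hom_ext
    ((cancel_mono f).1 (by rw [Category.assoc, Category.assoc, sq.w, ← Category.assoc, e, Category.assoc])) e⟩
  have : Mono snd := (yon S).mono_of_mono_map this
  exact (inferInstance : Mono snd.left)

theorem repWith_isClosedImmersion_of (hX : IsAlgSpace X) (hY : IsAlgSpace Y) (huc : IsUnivClosedMor f) [Mono f]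
    (hft : LocP @LocallyOfFiniteType f) : RepWith @IsClosedImmersion f := by
  have hr := representable_of_lft_mono hX hY hft
  refine repWith_mono (repWith_inf_iff.2 ⟨repWith_universallyClosed_of_isUnivClosedMor hr huc,
    repWith_inf_iff.2 ⟨repWith_monomorphisms_of_mono hr, EtLocal.repWith_of_locP EtLocal.lft hY hr hft⟩⟩)
    fun A B g ⟨h₁, h₂, h₃⟩ => ?_
  have : UniversallyClosed g := h₁
  have : Mono g := h₂
  have : LocallyOfFiniteType g := h₃
  exact isClosedImmersion_of_univClosed_mono g

theorem isClosedImmersion_iff (hX : IsAlgSpace X) (hY : IsAlgSpace Y) :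
    RepWith @IsClosedImmersion f ↔ IsUnivClosedMor f ∧ Mono f ∧ LocP @LocallyOfFiniteType f := by
  refine ⟨fun h => ⟨isUnivClosedMor_of_repWith (repWith_mono h fun A B g hg => ?_),
    mono_of_repWith_mono (repWith_mono h fun A B g hg => ?_),
    EtLocal.locP_of_repWith EtLocal.lft hY (repWith_mono h fun A B g hg => ?_)⟩,
    fun ⟨h₁, h₂, h₃⟩ => repWith_isClosedImmersion_of hX hY h₁ h₃⟩
  all_goals have : IsClosedImmersion g := hg
  · infer_instance
  · exact (inferInstance : Mono g)
  · infer_instance

end GrothLib.AlgSp
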