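import Groth.Agent.Lib.AlgSp.ValDVRRefined
import Groth.Agent.Lib.AlgSp.RefinedValuative
import Groth.Agent.Lib.AlgSp.UnramMono

/-!
# Separation and universal closedness from refined discrete valuative criteria
-/

universe u

open CategoryTheory CategoryTheory.Limits AlgebraicGeometry Topology

namespace GrothLib.AlgSp

open _root_.AlgSp

variable {S : Scheme.{u}} {U X Y : Sp S} {f : X ⟶ Y} {h : U ⟶ X}

/-- Spaces locally of finite type over locally noetherian spaces are locally noetherian. -/
theorem isLocNoethSp_of_lft (hX : IsAlgSpace X) (hY : IsAlgSpace Y) (hN : IsLocNoethSp Y)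
    (hf : LocP @LocallyOfFiniteType f) : IsLocNoethSp X := by
  obtain ⟨V, q, qe, qs, hV⟩ := hN
  haveI := hV
  obtain ⟨W, p, α, pe, hp, ps⟩ := exists_chart_over hX hY f q qe
  haveI : LocallyOfFiniteType α.left := hf p q α pe qe hp
  exact ⟨W, p, pe, ps qs, LocallyOfFiniteType.isLocallyNoetherian α.left⟩

/-- Refined existence over discrete valuation rings and uniqueness give universal closedness. -/
theorem isUnivClosedMor_of_refined_dvr (hU : IsAlgSpace U) (hX : IsAlgSpace X) (hY : IsAlgSpace Y)
    (hN : IsLocNoethSp Y) (hf : LocP @LocallyOfFiniteType f) (hq : IsQuasiCompactMor f)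
    (hqs : IsQuasiSeparatedMor f) (hh : LocP @LocallyOfFiniteType h) (hhq : IsQuasiCompactMor h)
    (hd : DenseRange (Points.map h)) (hu : UniqVC f)
    (hv : ∀ v : ValSq f, IsDiscreteValuationRing v.A → (∃ t, t ≫ h = v.top) → v.HasLiftExt) :
    IsUnivClosedMor f :=
  isUnivClosedMor_of_refined hU hX hY hq hhq hd fun v ht =>
    ⟨hu v, hasLiftExt_of_refined_dvr hU hX hY hN hf hq hqs hh hv v ht⟩

/-- Refined uniqueness over discrete valuation rings gives separatedness. -/
theorem isSeparatedMor_of_refined_dvr (hU : IsAlgSpace U) (hX : IsAlgSpace X) (hY : IsAlgSpace Y)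
    (hN : IsLocNoethSp Y) (hf : LocP @LocallyOfFiniteType f) (hqs : IsQuasiSeparatedMor f)
    (hh : LocP @LocallyOfFiniteType h) (hhq : IsQuasiCompactMor h) (hd : DenseRange (Points.map h))
    (hv : ∀ v : ValSq f, IsDiscreteValuationRing v.A → (∃ t, t ≫ h = v.top) → v.HasUniq) :
    IsSeparatedMor f := by
  have hP := isAlgSpace_pullback' hY hX hX f f
  have hPN : IsLocNoethSp (pullback f f) := isLocNoethSp_of_lft hP hY hN
    (EtLocal.locP_comp EtLocal.lft hP hX hY
      (EtLocal.locP_of_isPullback EtLocal.lft hX hY hX (IsPullback.of_hasPullback f f).flip hf) hf)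
  have hqsΔ : IsQuasiSeparatedMor (pullback.diagonal f) :=
    isQuasiSeparatedMor_of_isSeparatedMor isSeparatedMor_of_mono
  refine (isSeparatedMor_iff_diagonal_univClosed hX).2 (isUnivClosedMor_of_refined_dvr hU hX hP hPN
    (EtLocal.locP_of_repWith EtLocal.lft hP (repWith_diagonal f (repWith_diag_lft hX)))
    (isQuasiCompactMor_of_repWith hqs) hqsΔ hh hhq hd
    (fun w l l' _ hl₂ _ hl₂' => (cancel_mono (pullback.diagonal f)).1 (hl₂.trans hl₂'.symm)) fun w hw ⟨t, ht⟩ => ?_)
  let v : ValSq f :=
    { A := w.A, K := w.K, str := w.str, top := w.top, bot := w.bot ≫ pullback.fst _ _ ≫ f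
      comm := by
        have := w.comm =≫ (pullback.fst f f ≫ f)
        simp only [Category.assoc, pullback.diagonal_fst_assoc] at this
        exact this }
  have h₁ := w.comm =≫ pullback.fst f f
  have h₂ := w.comm =≫ pullback.snd f f
  simp only [Category.assoc, pullback.diagonal_fst, pullback.diagonal_snd, Category.comp_id] at h₁ h₂
  have heq : w.bot ≫ pullback.fst _ _ = w.bot ≫ pullback.snd _ _ :=
    hv v hw ⟨t, ht⟩ _ _ h₁.symm (Category.assoc _ _ _) h₂.symm (by rw [Category.assoc, ← pullback.condition])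
  let e : w.DomExt :=
    { A' := w.A, K' := w.K, φ := RingHom.id _, ψ := RingHom.id _, comm := rfl
      isLocalHom := ⟨fun a ha => ha⟩ }
  let i : e.ptA' ⟶ w.ptA := Over.homMk (Spec.map (CommRingCat.ofHom e.φ)) rfl
  refine ⟨e, (yon S).map i ≫ w.bot ≫ pullback.fst _ _, ?_, ?_⟩
  · rw [show w.top = (yon S).map w.j ≫ w.bot ≫ pullback.fst _ _ from h₁]
    rw [← Functor.map_comp_assoc, ← Functor.map_comp_assoc]
    congr 2
    apply Over.OverMorphism.ext
    change Spec.map _ ≫ Spec.map _ = Spec.map _ ≫ Spec.map _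
    rw [← Spec.map_comp, ← Spec.map_comp]
    rfl
  · rw [Category.assoc, Category.assoc]
    congr 1
    apply pullback.hom_ext
    · simp only [Category.assoc, pullback.diagonal_fst, Category.comp_id]
    · simp only [Category.assoc, pullback.diagonal_snd, Category.comp_id]
      exact heq

end GrothLib.AlgSp
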