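import Groth.Agent.Lib.AlgSp.ImmersionChart
import Groth.Agent.Lib.AlgSp.GenericAffine
import Groth.Agent.Lib.AlgSp.RedInduced
import Groth.Agent.Lib.AlgSp.ValDVRCriteria
import Groth.Agent.Lib.AlgSp.MonoPoint
import Groth.Agent.Lib.AlgSp.DiagChart
import Groth.Agent.S10337

/-!
# A dense affine open immerses into an affine space over a noetherian space

* `isImmersion_of_surjective_closedImmersion`: monomorphisms of finite type are immersions as soon as they are on a
  surjective closed subscheme.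
* `exists_dense_affine_immersion`.
-/

universe u

set_option autoImplicit false
set_option backward.isDefEq.respectTransparency false
set_option backward.isDefEq.respectTransparency.types false

open CategoryTheory CategoryTheory.Limits AlgebraicGeometry Topology

namespace GrothLib.AlgSp.DenseAff

open _root_.AlgSp

theorem isImmersion_of_surjective_closedImmersion {A A' P : Scheme.{u}} (g : A ⟶ P) [Mono g]
    [LocallyOfFiniteType g] (c : A' ⟶ A) [IsClosedImmersion c] [Surjective c] [IsImmersion (c ≫ g)] :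
    IsImmersion g := by
  have hr : Set.range g = Set.range (c ≫ g) := by
    ext p
    constructor
    · rintro ⟨a, rfl⟩
      obtain ⟨a', rfl⟩ := c.surjective a
      exact ⟨a', rfl⟩
    · rintro ⟨a', rfl⟩
      exact ⟨c a', rfl⟩
  let O := (c ≫ g).coborderRange
  have hO : Set.range g ⊆ Set.range O.ι := by
    rw [hr, ← (c ≫ g).liftCoborder_ι]
    rintro _ ⟨a, rfl⟩
    exact ⟨(c ≫ g).liftCoborder a, rfl⟩
  let g' := IsOpenImmersion.lift O.ι g hO
  have hg' : g' ≫ O.ι = g := IsOpenImmersion.lift_fac _ _ _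
  have e : c ≫ g' = (c ≫ g).liftCoborder := by
    rw [← cancel_mono O.ι, Category.assoc, hg', (c ≫ g).liftCoborder_ι]
  haveI : IsClosedImmersion (c ≫ g') := by rw [e]; infer_instance
  haveI : UniversallyClosed g' := UniversallyClosed.of_comp_surjective c g'
  haveI : Mono (g' ≫ O.ι) := by rw [hg']; infer_instance
  haveI : Mono g' := mono_of_mono g' O.ι
  haveI : LocallyOfFiniteType (g' ≫ O.ι) := by rw [hg']; infer_instance
  haveI : LocallyOfFiniteType g' := locallyOfFiniteType_of_comp g' O.ι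
  haveI : IsSeparated g' := inferInstance
  haveI : IsProper g' := ⟨⟩
  haveI : IsClosedImmersion g' := (IsClosedImmersion.iff_isProper_and_mono g').2 ⟨inferInstance, inferInstance⟩
  rw [← hg']
  infer_instance

/-- An immersion is local on the source of a topologically disjoint cover pulled back from the target. -/
theorem isImmersion_of_cover {A P : Scheme.{u}} (g : A ⟶ P) {ι : Type*} (O : ι → P.Opens) (hO : iSup O = ⊤)
    (h : ∀ i, IsImmersion ((g ⁻¹ᵁ O i).ι ≫ g)) : IsImmersion g :=
  IsZariskiLocalAtTarget.of_iSup_eq_top O hO fun i => by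
    haveI := h i
    haveI : IsImmersion ((g ∣_ O i) ≫ (O i).ι) := by rw [morphismRestrict_ι]; infer_instance
    exact IsImmersion.of_comp (g ∣_ O i) (O i).ι

variable {S : Scheme.{u}}

theorem mono_prodLift {F : Sp S} {U V R : Over S} {t : R ⟶ U} {s : R ⟶ V} {f : (yon S).obj U ⟶ F}
    {a : (yon S).obj V ⟶ F} (sq : IsPullback ((yon S).map t) ((yon S).map s) f a) : Mono (prod.lift t s) := by
  refine ⟨fun {Z} x y h => ?_⟩
  have h1 : x ≫ t = y ≫ t := by simpa using congrArg (· ≫ prod.fst) h
  have h2 : x ≫ s = y ≫ s := by simpa using congrArg (· ≫ prod.snd) h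
  apply (yon S).map_injective
  apply sq.hom_ext
  · rw [← Functor.map_comp, ← Functor.map_comp, h1]
  · rw [← Functor.map_comp, ← Functor.map_comp, h2]

/-- The fibre product with a chart is immersed in the absolute product on each piece mapping into a separated
subscheme immersed in `X`. -/
theorem exists_immersion_piece {X : Space S} {V B R N W : Over S} {f : (yon S).obj V ⟶ X.obj}
    {a : (yon S).obj B ⟶ X.obj} {t : R ⟶ V} {s : R ⟶ B}
    (sq : IsPullback ((yon S).map t) ((yon S).map s) f a) (m : N ⟶ V) [IsImmersion m.left]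
    {w : (yon S).obj W ⟶ X.obj} (hw : RepWith @IsImmersion w) [IsSeparated W.hom] (k : N ⟶ W)
    (hk : (yon S).map k ≫ w = (yon S).map m ≫ f) :
    ∃ (R' : Scheme.{u}) (e : R' ⟶ R.left), IsImmersion e ∧ IsImmersion (e ≫ (prod.lift t s).left) ∧
      Set.range e = t.left ⁻¹' Set.range m.left := by
  obtain ⟨Q, q₁, q₂, sqQ⟩ := exists_isPullback_of_representable hw.1 a
  obtain ⟨q₁, rfl⟩ := (yon S).map_surjective q₁
  haveI : IsImmersion q₂.left := hw.2 _ _ _ sqQ
  obtain ⟨R', r₁, r₂, sqK⟩ := exists_isPullback_yon (IsAlgSpace.yon_obj W).diag ((yon S).map k) ((yon S).map q₁)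
  have big := sqK.paste_vert sqQ
  rw [← Functor.map_comp, hk] at big
  obtain ⟨e, he₁, he₂⟩ := exists_lift_yon sq (r₁ ≫ m) (r₂ ≫ q₂) (by
    rw [Functor.map_comp, Category.assoc, big.w])
  have sqe : IsPullback ((yon S).map e) ((yon S).map r₁) ((yon S).map t) ((yon S).map m) := by
    refine IsPullback.of_right ?_ (by rw [← Functor.map_comp, ← Functor.map_comp, he₁]) sq.flip
    rw [← Functor.map_comp, he₂, Functor.map_comp]
    exact big.flip
  have sqS : IsPullback e.left r₁.left t.left m.left :=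
    (IsPullback.of_map (yon S) ((yon S).map_injective (by
      rw [Functor.map_comp, Functor.map_comp]; exact sqe.w)) sqe).map (Over.forget S)
  have hre : IsImmersion e.left := MorphismProperty.of_isPullback sqS.flip inferInstance
  have sqKS : IsPullback r₁.left r₂.left k.left q₁.left :=
    (IsPullback.of_map (yon S) ((yon S).map_injective (by
      rw [Functor.map_comp, Functor.map_comp]; exact sqK.w)) sqK).map (Over.forget S)
  refine ⟨R'.left, e.left, hre, ?_, ?_⟩
  · let ψ : pullback k.left q₁.left ⟶ pullback (k.left ≫ W.hom) (q₁.left ≫ W.hom) :=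
      pullback.mapDesc k.left q₁.left W.hom
    haveI : IsClosedImmersion ψ := inferInstance
    let Φ : pullback (k.left ≫ W.hom) (q₁.left ≫ W.hom) ⟶ pullback V.hom B.hom :=
      pullback.map _ _ _ _ m.left q₂.left (𝟙 S) (by rw [Over.w k, Category.comp_id, Over.w m])
        (by rw [Over.w q₁, Category.comp_id, Over.w q₂])
    haveI : IsImmersion Φ := MorphismProperty.pullbackMap (P := @IsImmersion) inferInstance inferInstance
      ((Over.w k).trans (Over.w m).symm) ((Over.w q₁).trans (Over.w q₂).symm)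
    have he : e.left ≫ (prod.lift t s).left =
        sqKS.isoPullback.hom ≫ ψ ≫ Φ ≫ (Over.prodLeftIsoPullback V B).inv := by
      rw [← cancel_mono (Over.prodLeftIsoPullback V B).hom]
      apply pullback.hom_ext
      · simp [ψ, Φ, ← Over.comp_left, he₁]
      · simp [ψ, Φ, ← Over.comp_left, he₂]
    rw [he]
    infer_instance
  · ext r
    constructor
    · rintro ⟨r', rfl⟩
      exact ⟨r₁.left r', by rw [← Scheme.Hom.comp_apply, ← sqS.w, Scheme.Hom.comp_apply]⟩
    · rintro ⟨n, hn⟩
      obtain ⟨z, hz, -⟩ := Scheme.Pullback.exists_preimage_pullback (f := t.left) (g := m.left) r n hn.symm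
      exact ⟨sqS.isoPullback.inv z, by rw [← Scheme.Hom.comp_apply, sqS.isoPullback_inv_fst, hz]⟩

/-- The immersion hypothesis from a family of pieces with open images. -/
theorem isImmersion_prodLift {X : Space S} {V B R : Over S} {f : (yon S).obj V ⟶ X.obj}
    {a : (yon S).obj B ⟶ X.obj} {t : R ⟶ V} {s : R ⟶ B} (ha : RepWith @Etale a)
    (sq : IsPullback ((yon S).map t) ((yon S).map s) f a) {ι : Type u} (N : ι → Over S) (m : ∀ i, N i ⟶ V)
    [∀ i, IsImmersion (m i).left] (hopen : ∀ i, IsOpen (Set.range (m i).left))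
    (hcov : ∀ v, ∃ i, v ∈ Set.range (m i).left)
    (hfac : ∀ i, ∃ (W : Over S) (w : (yon S).obj W ⟶ X.obj) (k : N i ⟶ W), IsAffine W.left ∧
      RepWith @IsImmersion w ∧ (yon S).map k ≫ w = (yon S).map (m i) ≫ f) :
    IsImmersion (prod.lift t s).left := by
  haveI : Etale t.left := ha.2 _ _ _ sq.flip
  haveI := mono_prodLift sq
  haveI : Mono (prod.lift t s).left := inferInstanceAs (Mono ((Over.forget S).map (prod.lift t s)))
  let h := (prod.lift t s).left
  have ht : h ≫ (prod.fst : V ⨯ B ⟶ V).left = t.left := by rw [← Over.comp_left, prod.lift_fst]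
  haveI : LocallyOfFiniteType (h ≫ (prod.fst : V ⨯ B ⟶ V).left) := by rw [ht]; infer_instance
  haveI : LocallyOfFiniteType h := locallyOfFiniteType_of_comp h (prod.fst : V ⨯ B ⟶ V).left
  refine isImmersion_of_cover h (fun i => (prod.fst : V ⨯ B ⟶ V).left ⁻¹ᵁ ⟨_, hopen i⟩) ?_ fun i => ?_
  · refine top_unique fun p _ => ?_
    obtain ⟨i, hi⟩ := hcov ((prod.fst : V ⨯ B ⟶ V).left p)
    exact TopologicalSpace.Opens.mem_iSup.2 ⟨i, hi⟩
  · obtain ⟨W, w, k, hW, hw, hk⟩ := hfac i
    haveI := hW
    haveI : IsSeparated (W.hom ≫ terminal.from S) := by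
      rw [terminal.comp_from]; infer_instance
    haveI : IsSeparated W.hom := IsSeparated.of_comp W.hom (terminal.from S)
    obtain ⟨R', e, he, heh, hr⟩ := exists_immersion_piece sq (m i) hw k hk
    let A : R.left.Opens := h ⁻¹ᵁ (prod.fst : V ⨯ B ⟶ V).left ⁻¹ᵁ ⟨_, hopen i⟩
    have hA : Set.range e = Set.range A.ι := by
      rw [hr, Scheme.Opens.range_ι]
      ext r
      show t.left r ∈ Set.range (m i).left ↔ (h ≫ (prod.fst : V ⨯ B ⟶ V).left) r ∈ Set.range (m i).left
      rw [ht]
    let c := IsOpenImmersion.lift A.ι e hA.le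
    have hc : c ≫ A.ι = e := IsOpenImmersion.lift_fac _ _ _
    haveI : IsImmersion (c ≫ A.ι) := by rw [hc]; exact he
    haveI : IsImmersion c := IsImmersion.of_comp c A.ι
    haveI : Surjective c := ⟨fun x => by
      obtain ⟨y, hy⟩ := hA.ge ⟨x, rfl⟩
      refine ⟨y, A.ι.isOpenEmbedding.injective ?_⟩
      rw [← Scheme.Hom.comp_apply, hc, hy]⟩
    haveI : IsClosedImmersion c := IsClosedImmersion.of_isPreimmersion c (by
      rw [c.surjective.range_eq]; exact isClosed_univ)
    haveI : IsImmersion (c ≫ A.ι ≫ h) := by rw [reassoc_of% hc]; exact heh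
    exact isImmersion_of_surjective_closedImmersion (A.ι ≫ h) c

theorem exists_factor_immersion {X : Space S} {N W : Over S} [IsReduced N.left] (g : (yon S).obj N ⟶ X.obj)
    {w : (yon S).obj W ⟶ X.obj} (hw : RepWith @IsImmersion w)
    (h : ∀ z, Points.ofPt g z ∈ Set.range (Points.ofPt w)) : ∃ k : N ⟶ W, (yon S).map k ≫ w = g := by
  obtain ⟨Q, q₁, q₂, sqQ⟩ := exists_isPullback_of_representable hw.1 g
  obtain ⟨q₁, rfl⟩ := (yon S).map_surjective q₁
  haveI : IsImmersion q₂.left := hw.2 _ _ _ sqQ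
  haveI : Surjective q₂.left := ⟨fun z => by
    obtain ⟨z', hz'⟩ := h z
    obtain ⟨p, -, hp⟩ := exists_of_isPullback sqQ (x := Points.ofScheme W z') (y := Points.ofScheme N z)
      (by rw [← Points.ofPt_eq_map_ofScheme, ← Points.ofPt_eq_map_ofScheme, hz'])
    obtain ⟨p, rfl⟩ := (Points.schemeEquiv _).surjective p
    exact ⟨p, (Points.schemeEquiv _).injective ((map_yon_ofPt q₂ p).symm.trans hp)⟩⟩
  haveI : IsClosedImmersion q₂.left := IsClosedImmersion.of_isPreimmersion q₂.left (by
    rw [q₂.left.surjective.range_eq]; exact isClosed_univ)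
  haveI : IsIso q₂.left := isIso_of_isClosedImmersion_of_surjective q₂.left
  haveI : IsIso ((Over.forget S).map q₂) := inferInstanceAs (IsIso q₂.left)
  haveI : IsIso q₂ := isIso_of_reflects_iso q₂ (Over.forget S)
  refine ⟨inv q₂ ≫ q₁, ?_⟩
  rw [Functor.map_comp, Category.assoc, sqQ.w, ← Functor.map_comp_assoc, IsIso.inv_hom_id,
    CategoryTheory.Functor.map_id, Category.id_comp]

theorem isDecent_of_closedImmersion {F G : Sp S} {i : F ⟶ G} (hi : RepWith @IsClosedImmersion i) (hG : IsDecent G) :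
    IsDecent F := isDecent_of_fibres (ψ := i) hG fun q P fst snd sq => by
  obtain ⟨R, c, d, sqR⟩ := exists_isPullback_of_representable hi.1 q.toHom
  exact (isDecent_yon R).of_iso (sqR.isoIsPullback _ _ sq)

/-- A locally closed affine piece of `X` through a point, for a generic point of a scheme over `X`. -/
theorem exists_piece {X : Space S} (hd : IsDecent X.obj) {T : Over S} (g : (yon S).obj T ⟶ X.obj) (η : ↥T.left)
    {C : Set ↥T.left} (hC : IsGenericPoint η C) {Ω : Set ↥T.left} (hΩ : IsOpen Ω) (hηΩ : η ∈ Ω) (hΩC : Ω ⊆ C) :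
    ∃ (W : Over S) (w : (yon S).obj W ⟶ X.obj) (N : T.left.Opens), IsAffine W.left ∧ RepWith @IsImmersion w ∧
      IsAffineOpen N ∧ η ∈ N ∧ (N : Set ↥T.left) ⊆ Ω ∧ ∀ z ∈ N, Points.ofPt g z ∈ Set.range (Points.ofPt w) := by
  let x := Points.ofPt g η
  obtain ⟨Z, i, hZ, hi⟩ := exists_isRedInduced_sp X.property (T := closure {x}) isClosed_closure
  have hemb : Topology.IsEmbedding (Points.map i) :=
    isEmbedding_map_of_repWith (fun _ _ h (hh : IsClosedImmersion h) => h.isClosedEmbedding.isEmbedding) X.property hi.1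
  obtain ⟨z, hz⟩ : x ∈ Set.range (Points.map i) := hi.2.1.ge (subset_closure rfl)
  have hgen : IsGenericPoint z (Set.univ : Set (Points Z)) := by
    show closure {z} = Set.univ
    rw [hemb.isInducing.closure_eq_preimage_closure_image, Set.image_singleton, hz, ← hi.2.1, Set.preimage_range]
  let Zs : Space S := ⟨Z, hZ⟩
  obtain ⟨W, b, v, hW, hb, hbv, -⟩ :=
    exists_affine_open_generic Zs (isDecent_of_closedImmersion hi.1 hd) hgen isOpen_univ trivial
  let w : (yon S).obj W ⟶ X.obj := b ≫ i
  have hw : RepWith @IsImmersion w := repWith_comp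
    (repWith_mono hb fun _ _ h (_ : IsOpenImmersion h) => (inferInstance : IsImmersion h))
    (repWith_mono hi.1 fun _ _ h (_ : IsClosedImmersion h) => (inferInstance : IsImmersion h))
  have hx : x ∈ Set.range (Points.ofPt w) := ⟨v, by
    rw [show w = b ≫ i from rfl, ← Points.map_ofPt, hbv, hz]⟩
  obtain ⟨O, hO, hOeq⟩ : ∃ O : Set (Points X.obj), IsOpen O ∧ Set.range (Points.ofPt w) = closure {x} ∩ O := by
    have hop : IsOpen (Set.range (Points.ofPt b)) := (isOpenMap_ofPt_of_repWith (fun _ _ h (hh : IsOpenImmersion h) =>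
      h.isOpenEmbedding.isOpenMap) hb).isOpen_range
    obtain ⟨O, hO, hOb⟩ := hemb.isInducing.isOpen_iff.1 hop
    refine ⟨O, hO, ?_⟩
    rw [← hi.2.1]
    ext p
    constructor
    · rintro ⟨q, rfl⟩
      have : Points.ofPt b q ∈ Points.map i ⁻¹' O := hOb ▸ ⟨q, rfl⟩
      rw [show w = b ≫ i from rfl, ← Points.map_ofPt]
      exact ⟨⟨_, rfl⟩, this⟩
    · rintro ⟨⟨p', rfl⟩, hp⟩
      obtain ⟨q, rfl⟩ : p' ∈ Set.range (Points.ofPt b) := hOb ▸ hp
      exact ⟨q, (Points.map_ofPt _ _ _).symm⟩
  have hxO : x ∈ O := (hOeq.le hx).2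
  obtain ⟨N, hN, hηN, hsub⟩ := exists_isAffineOpen_mem_and_subset (x := η)
    (U := (⟨Ω ∩ Points.ofPt g ⁻¹' O, hΩ.inter (hO.preimage (Points.continuous_ofPt g))⟩ : T.left.Opens)) ⟨hηΩ, hxO⟩
  refine ⟨W, w, N, hW, hw, hN, hηN, fun z hz => (hsub hz).1, fun z hz => hOeq.ge ⟨?_, (hsub hz).2⟩⟩
  exact ((hC.specializes (hΩC (hsub hz).1)).map (Points.continuous_ofPt g)).mem_closure

theorem exists_dense_affine_immersion [QuasiSeparatedSpace S] {Y X : Space S} (f : Y ⟶ X)
    (hf : IsFinitePresentationMor f.hom) (hXqc : IsQuasiCompactSp X.obj) (hXqs : IsQuasiSeparatedSp X.obj)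
    (hXln : IsLocNoethSp X.obj) :
    ∃ (V : Space S) (j : V ⟶ Y) (n : ℕ)
      (i : V.obj ⟶ X.obj ⨯ (yon S).obj (Over.mk (𝔸(ULift.{u} (Fin n); S) ↘ S))),
      RepWith @IsOpenImmersion j.hom ∧ Dense (Set.range (Points.map j.hom)) ∧
      i ≫ prod.fst = j.hom ≫ f.hom ∧ RepWith @IsImmersion i := by
  have hlft : LocP @LocallyOfFiniteType f.hom := fun _ _ a b h ha hb c => by
    haveI := hf.1 a b h ha hb c; infer_instance
  have hYqc : IsQuasiCompactSp Y.obj :=
    hf.2.1 X.property hXqc (𝟙 _) (𝟙 _) f.hom (IsPullback.of_horiz_isIso ⟨by simp⟩)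
  have hYqs : IsQuasiSeparatedSp Y.obj := isQuasiSeparatedSp_of_mor hf.2.2 hXqs
  have hYln : IsLocNoethSp Y.obj := isLocNoethSp_of_lft Y.property X.property hXln hlft
  obtain ⟨Y', jY, hjY, hrep, hdense⟩ :=
    Groth.Agent.S10337.result Y (isDecent_of_isQuasiSeparatedSp Y.property hYqs)
  obtain ⟨T, ⟨hT⟩⟩ := hrep.has_representation
  let j₀ : (yon S).obj T ⟶ Y.obj := (isoOfRepresentableBy hT).hom ≫ jY.hom
  have hj₀ : RepWith @IsOpenImmersion j₀ := repWith_comp (repWith_iso _) hjY
  have hj₀e : RepWith @Etale j₀ := repWith_mono hj₀ fun _ _ h (_ : IsOpenImmersion h) => inferInstance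
  haveI : IsLocallyNoetherian T.left := etaleLocally_chart (Q := IsLocallyNoetherian)
    (fun _ _ k => isLocallyNoetherian_of_etale k) (fun _ _ k => isLocallyNoetherian_desc k) hYln j₀ hj₀e
  have hr₀ : Set.range (Points.ofPt j₀) = Set.range (Points.map jY.hom) := by
    ext p
    constructor
    · rintro ⟨q, rfl⟩
      exact ⟨Points.ofPt (isoOfRepresentableBy hT).hom q, Points.map_ofPt _ _ _⟩
    · rintro ⟨y, rfl⟩
      obtain ⟨q, hq⟩ := (Points.schemeEquiv T).surjective (Points.map (isoOfRepresentableBy hT).inv y)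
      refine ⟨q, ?_⟩
      rw [Points.ofPt_eq_map_ofScheme, show Points.ofScheme T q = Points.schemeEquiv T q from rfl, hq,
        ← Points.map_comp, Iso.inv_hom_id_assoc]
  haveI : CompactSpace ↥T.left := by
    obtain ⟨U₀, a₀, ha₀, has₀, hc₀⟩ := hYqc
    haveI := hc₀
    haveI : IsLocallyNoetherian U₀.left := etaleLocally_chart (Q := IsLocallyNoetherian)
      (fun _ _ k => isLocallyNoetherian_of_etale k) (fun _ _ k => isLocallyNoetherian_desc k) hYln a₀ ha₀
    haveI : IsNoetherian U₀.left := ⟨⟩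
    have hinj : Topology.IsEmbedding (Points.ofPt j₀) := by
      have e : Points.ofPt j₀ = Points.map j₀ ∘ Points.schemeHomeo T := funext fun q => Points.ofPt_eq_map_ofScheme _ _
      rw [e]
      exact (isEmbedding_map_of_repWith (fun _ _ h (hh : IsOpenImmersion h) => h.isOpenEmbedding.isEmbedding)
        Y.property hj₀).comp (Points.schemeHomeo T).isEmbedding
    refine ⟨hinj.isCompact_iff.2 ?_⟩
    rw [Set.image_univ, ← Set.inter_eq_left.2 (Set.subset_univ (Set.range (Points.ofPt j₀))),
      ← (surjective_ofPt_of_repWith has₀).range_eq, ← Set.image_preimage_eq_inter_range]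
    exact (TopologicalSpace.NoetherianSpace.isCompact _).image (Points.continuous_ofPt a₀)
  haveI : IsNoetherian T.left := ⟨⟩
  let I := irreducibleComponents ↥T.left
  haveI : Finite I := TopologicalSpace.NoetherianSpace.finite_irreducibleComponents.to_subtype
  let Ω : I → Set ↥T.left := fun C => (⋃ D ∈ {D : I | D ≠ C}, D.1)ᶜ
  have hΩo : ∀ C, IsOpen (Ω C) := fun C =>
    (Set.Finite.isClosed_biUnion (Set.toFinite _) fun D _ => isClosed_of_mem_irreducibleComponents D.1 D.2).isOpen_compl
  have hΩC : ∀ C : I, Ω C ⊆ C.1 := fun C z hz => by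
    have hmem : irreducibleComponent z ∈ irreducibleComponents ↥T.left := irreducibleComponent_mem_irreducibleComponents z
    by_contra hzC
    exact hz (Set.mem_biUnion (x := (⟨_, hmem⟩ : I)) (fun e => hzC (by
      rw [← congrArg Subtype.val e]; exact mem_irreducibleComponent)) mem_irreducibleComponent)
  let η : I → ↥T.left := fun C => C.2.1.genericPoint
  have hη : ∀ C : I, IsGenericPoint (η C) C.1 := fun C => by
    have := C.2.1.isGenericPoint_genericPoint_closure
    rwa [(isClosed_of_mem_irreducibleComponents C.1 C.2).closure_eq] at this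
  have hηΩ : ∀ C, η C ∈ Ω C := fun C h => by
    obtain ⟨D, hD, hηD⟩ := Set.mem_iUnion₂.1 h
    refine hD (Subtype.ext (subset_antisymm (C.2.2 D.2.1 ?_) ?_))
    · exact ((hη C).mem_closed_set_iff (isClosed_of_mem_irreducibleComponents D.1 D.2)).1 hηD
    · exact ((hη C).mem_closed_set_iff (isClosed_of_mem_irreducibleComponents D.1 D.2)).1 hηD
  have hdX := isDecent_of_isQuasiSeparatedSp X.property hXqs
  choose W w N hW hw hN hηN hNΩ hNW using fun C : I =>
    exists_piece hdX (j₀ ≫ f.hom) (η C) (hη C) (hΩo C) (hηΩ C) (hΩC C)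
  have hdis : Pairwise (Function.onFun Disjoint N) := fun C D hCD => by
    rw [Function.onFun, disjoint_iff_inf_le]
    rintro z ⟨hzC, hzD⟩
    exact (hNΩ C hzC (Set.mem_biUnion (x := D) hCD.symm (hΩC D (hNΩ D hzD)))).elim
  haveI : IsAffine (⨆ C, N C).toScheme := IsAffineOpen.iSup_of_disjoint hN hdis
  let V : Over S := Over.mk ((⨆ C, N C).ι ≫ T.hom)
  let ιV : V ⟶ T := Over.homMk (⨆ C, N C).ι rfl
  let j : (yon S).obj V ⟶ Y.obj := (yon S).map ιV ≫ j₀
  have hj : RepWith @IsOpenImmersion j :=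
    repWith_comp ((repWith_yon_map_iff _ _).2 (inferInstanceAs (IsOpenImmersion (⨆ C, N C).ι))) hj₀
  let Vs : Space S := ⟨(yon S).obj V, IsAlgSpace.yon_obj V⟩
  have hjf : LocP @LocallyOfFiniteType (j ≫ f.hom) := fun A B c d h hc hd' e => by
    refine hlft (c ≫ j) d h (repWith_comp hc (repWith_mono hj fun _ _ h (_ : IsOpenImmersion h) => inferInstance)) hd' ?_
    rw [Category.assoc, e]
  obtain ⟨n, i, hi, himm⟩ := ImmersionChart.exists_immersion X hXqs V
    (inferInstanceAs (IsAffine (⨆ C, N C).toScheme)) (j ≫ f.hom) hjf fun B R a t s _ ha sq => by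
    have hNle : ∀ C, N C ≤ ⨆ C, N C := le_iSup N
    let red : ∀ C : I, (N C).toScheme.IdealSheafData := fun C =>
      Scheme.IdealSheafData.vanishingIdeal ⊤
    let Nr : I → Over S := fun C => Over.mk ((red C).subschemeι ≫ (N C).ι ≫ T.hom)
    let m : ∀ C, Nr C ⟶ V := fun C => Over.homMk ((red C).subschemeι ≫ T.left.homOfLE (hNle C)) (by
      change ((red C).subschemeι ≫ T.left.homOfLE (hNle C)) ≫ (⨆ C, N C).ι ≫ T.hom = _
      rw [Category.assoc, Scheme.homOfLE_ι_assoc]
      rfl)
    have hsurj : ∀ C, Function.Surjective (red C).subschemeι := fun C => by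
      rw [← Set.range_eq_univ]
      exact RedSub.range_subschemeι_vanishingIdeal (X := (N C).toScheme) ⊤
    have hrange : ∀ C, Set.range (m C).left = Set.range (T.left.homOfLE (hNle C)) := fun C => by
      show Set.range ((red C).subschemeι ≫ T.left.homOfLE (hNle C)) = _
      rw [Scheme.Hom.comp_base, TopCat.coe_comp, (hsurj C).range_comp]
    haveI : ∀ C, IsImmersion (m C).left := fun C =>
      inferInstanceAs (IsImmersion ((red C).subschemeι ≫ T.left.homOfLE (hNle C)))
    refine isImmersion_prodLift ha sq Nr m (fun C => ?_) (fun v => ?_) fun C => ?_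
    · rw [hrange]
      exact (T.left.homOfLE (hNle C)).isOpenEmbedding.isOpen_range
    · obtain ⟨C, hC⟩ := TopologicalSpace.Opens.mem_iSup.1 v.2
      refine ⟨C, ?_⟩
      rw [hrange]
      exact ⟨⟨v.1, hC⟩, Subtype.ext (Scheme.homOfLE_apply _ _)⟩
    · haveI : IsReduced (Nr C).left := RedSub.isReduced_subscheme_vanishingIdeal (X := (N C).toScheme) ⊤
      obtain ⟨k, hk⟩ := exists_factor_immersion ((yon S).map (m C) ≫ j ≫ f.hom) (hw C) fun z => by
        rw [← Category.assoc ((yon S).map (m C)), show (yon S).map (m C) ≫ j = (yon S).map (m C ≫ ιV) ≫ j₀ by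
          rw [Functor.map_comp, Category.assoc], Category.assoc, ofPt_map_comp]
        refine hNW C _ ?_
        show ((red C).subschemeι ≫ T.left.homOfLE (hNle C) ≫ (⨆ C, N C).ι) z ∈ N C
        rw [Scheme.homOfLE_ι, Scheme.Hom.comp_apply]
        exact ((red C).subschemeι z).2
      exact ⟨W C, w C, k, hW C, hw C, hk⟩
  refine ⟨Vs, ObjectProperty.homMk j, n, i, hj, ?_, hi, himm⟩
  have hV : Dense (Set.range ιV.left) := by
    rw [dense_iff_closure_eq, Set.eq_univ_iff_forall]
    intro z
    have hmem : irreducibleComponent z ∈ irreducibleComponents ↥T.left := irreducibleComponent_mem_irreducibleComponents z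
    have h1 : η ⟨_, hmem⟩ ∈ Set.range ιV.left := by
      show _ ∈ Set.range (⨆ C, N C).ι
      rw [Scheme.Opens.range_ι]
      exact TopologicalSpace.Opens.mem_iSup.2 ⟨_, hηN _⟩
    exact closure_mono (Set.singleton_subset_iff.2 h1)
      ((hη ⟨_, hmem⟩).specializes mem_irreducibleComponent).mem_closure
  have hd0 : DenseRange (Points.ofPt j₀) := by rw [DenseRange, hr₀]; exact hdense
  refine (hd0.comp (f := ιV.left) hV (Points.continuous_ofPt j₀)).mono ?_
  rintro _ ⟨q, rfl⟩
  exact ⟨Points.ofScheme V q, by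
    show Points.map j _ = _
    rw [← Points.ofPt_eq_map_ofScheme]
    exact ofPt_map_comp _ _ _⟩

end GrothLib.AlgSp.DenseAff
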