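import Groth.Agent.Lib.ColimCoh.Site
import Groth.Agent.Lib.AlgSp.IdealEtLib
import Groth.Prelude.Def_AlgSpOX
import Mathlib.CategoryTheory.Sites.Equivalence
import Mathlib.CategoryTheory.Limits.Constructions.Over.Products
import Mathlib.AlgebraicGeometry.Morphisms.QuasiSeparated

/-!
# Sections of filtered colimits on quasi-compact quasi-separated objects of the small étale site of a space

* `sections_colimit_et`.
-/

set_option autoImplicit false
set_option backward.isDefEq.respectTransparency false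
universe u

open CategoryTheory CategoryTheory.Limits AlgebraicGeometry Opposite

noncomputable section

namespace GrothLib.AlgSp.EtColim

open _root_.AlgSp
open GrothLib.AlgSp

variable {S : Scheme.{u}}

/-- The small etale site with morphisms lifted one universe. -/
abbrev SX (X : Sp S) : Type (u + 1) := ULiftHom.{u + 1} (EtOver X)

variable {X : Sp S}

/-- The equivalence with the small etale site. -/
abbrev eS (X : Sp S) : EtOver X ≌ SX X := ULiftHom.equiv

/-- The topology on the small model. -/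
abbrev JS (X : Sp S) : GrothendieckTopology (SX X) :=
  (eS X).inverse.inducedTopology (etTop X)

theorem mem_JS_iff {U : SX X} (T : Sieve U) :
    T ∈ JS X U ↔ T.functorPushforward (eS X).inverse ∈ (etTop X) ((eS X).inverse.obj U) :=
  Functor.mem_inducedTopology_iff_of_isCoverDense _ _ _

instance hasPullbacks_S : HasPullbacks (SX X) :=
  Adjunction.hasLimitsOfShape_of_equivalence (eS X).inverse

/-- The underlying scheme functor. -/
abbrev sch (X : Sp S) : SX X ⥤ Scheme.{u} :=
  (eS X).inverse ⋙ EtOver.toScheme X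

instance preservesPullbacks_sch : PreservesLimitsOfShape WalkingCospan (sch X) :=
  comp_preservesLimitsOfShape _ _

/-- Quasi-compact and quasi-separated objects. -/
def B (X : Sp S) : Set (SX X) :=
  {U | CompactSpace ↥((sch X).obj U) ∧ QuasiSeparatedSpace ↥((sch X).obj U)}

/-- Finite covering families of such objects. -/
def Cov (X : Sp S) (U : SX X) (ι : Type (u + 1)) (Y : ι → Over U) : Prop :=
  Finite ι ∧ U ∈ B X ∧ (∀ i, (Y i).left ∈ B X) ∧
    Sieve.ofArrows (fun i => (Y i).left) (fun i => (Y i).hom) ∈ JS X U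

theorem mem_B_of_iso {U V : SX X} (e : U ≅ V) (h : U ∈ B X) : V ∈ B X := by
  let φ := Scheme.homeoOfIso ((sch X).mapIso e)
  obtain ⟨h1, h2⟩ := h
  exact ⟨φ.compactSpace, (quasiSeparatedSpace_congr φ).1 h2⟩

theorem mem_B_of_isPullback {P A A' U : SX X} {p : P ⟶ A} {p' : P ⟶ A'} {a : A ⟶ U} {a' : A' ⟶ U}
    (h : IsPullback p p' a a') (hA : A ∈ B X) (hA' : A' ∈ B X) (hU : U ∈ B X) : P ∈ B X := by
  obtain ⟨hA1, hA2⟩ := hA
  obtain ⟨hA1', hA2'⟩ := hA'
  obtain ⟨hU1, hU2⟩ := hU
  have hs := h.map (sch X)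
  have hq : QuasiCompact ((sch X).map a') := quasiCompact_of_compactSpace _
  have hqs : QuasiSeparated ((sch X).map a') := by
    have : QuasiSeparated (((sch X).map a') ≫ terminal.from _) := by
      rw [terminalIsTerminal.hom_ext (((sch X).map a') ≫ terminal.from _) (terminal.from _),
        ← quasiSeparatedSpace_iff_quasiSeparated]
      exact hA2'
    exact QuasiSeparated.of_comp _ (terminal.from _)
  have h1 : QuasiCompact ((sch X).map p) := MorphismProperty.of_isPullback hs.flip hq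
  have h2 : QuasiSeparated ((sch X).map p) := MorphismProperty.of_isPullback hs.flip hqs
  exact ⟨QuasiCompact.compactSpace_of_compactSpace ((sch X).map p),
    quasiSeparatedSpace_of_quasiSeparated ((sch X).map p)⟩

theorem prod_mem_B {U : SX X} (hU : U ∈ B X) :
    ∀ (n : ℕ) (Y : Fin (n + 1) → Over U), (∀ k, (Y k).left ∈ B X) → (∏ᶜ Y).left ∈ B X := by
  intro n
  induction n with
  | zero =>
    intro Y hY
    have e : (∏ᶜ Y) ≅ Y 0 :=
      { hom := Pi.π Y 0
        inv := Pi.lift fun k => eqToHom (congrArg Y (Fin.fin_one_eq_zero k).symm)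
        hom_inv_id := Pi.hom_ext _ _ fun k => by
          obtain rfl : k = 0 := Fin.fin_one_eq_zero k
          simp
        inv_hom_id := by simp }
    exact mem_B_of_iso ((Over.forget U).mapIso e.symm) (hY 0)
  | succ n ih =>
    intro Y hY
    let T : Fin (n + 1) → Over U := fun k => Y k.succ
    let tail : (∏ᶜ Y) ⟶ ∏ᶜ T := Pi.lift fun k => Pi.π Y k.succ
    have htail : ∀ k, tail ≫ Pi.π T k = Pi.π Y k.succ := fun k => Pi.lift_π _ k
    let c : BinaryFan (Y 0) (∏ᶜ T) := BinaryFan.mk (Pi.π Y 0) tail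
    let m : ∀ {W : Over U}, (W ⟶ Y 0) → (W ⟶ ∏ᶜ T) → ∀ k : Fin (n + 1 + 1), W ⟶ Y k :=
      fun {W} f g k => Fin.cases (motive := fun k => W ⟶ Y k) f (fun k => g ≫ Pi.π T k) k
    have hc : IsLimit c := BinaryFan.IsLimit.mk c
      (fun f g => Pi.lift (m f g))
      (fun f g => Pi.lift_π (m f g) 0)
      (fun f g => Pi.hom_ext _ _ fun k => by
        change (Pi.lift (m f g) ≫ tail) ≫ Pi.π T k = g ≫ Pi.π T k
        rw [Category.assoc, htail, Pi.lift_π]
        rfl)
      (fun f g l h1 h2 => Pi.hom_ext (f := Y) l (Pi.lift (m f g)) fun k => by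
        rw [Pi.lift_π]
        change l ≫ Pi.π Y 0 = f at h1
        change l ≫ tail = g at h2
        induction k using Fin.cases with
        | zero => exact h1
        | succ j =>
          rw [← htail j, ← Category.assoc, h2]
          rfl)
    exact mem_B_of_isPullback (Over.isPullback_of_binaryFan_isLimit c hc) (hY 0)
      (ih T fun k => hY k.succ) hU

theorem cov_h1 : ∀ (U : SX X) (ι : Type (u + 1)) (Y : ι → Over U), Cov X U ι Y → Finite ι ∧ U ∈ B X ∧
    Sieve.ofArrows (fun i => (Y i).left) (fun i => (Y i).hom) ∈ JS X U ∧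
    ∀ (p : ℕ) (a : Fin (p + 1) → ι), (∏ᶜ fun k => Y (a k)).left ∈ B X :=
  fun _ _ _ ⟨hf, hU, hY, hc⟩ => ⟨hf, hU, hc, fun p a => prod_mem_B hU p _ fun k => hY (a k)⟩

/-- A covering sieve of a quasi-compact object contains a finite covering family of affines. -/
theorem exists_affine_family {U : EtOver X} [CompactSpace ↥U.obj.left.left] {T : Sieve U} (hT : T ∈ etTop X U) :
    ∃ (n : Type u) (_ : Finite n) (W : n → EtOver X) (w : ∀ k, W k ⟶ U),
      (∀ k, IsAffine (W k).obj.left.left ∧ T.arrows (w k)) ∧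
        ∀ x : ↥U.obj.left.left, ∃ k, x ∈ Set.range (w k).hom.left.left := by
  obtain ⟨R, hR, hle⟩ := Precoverage.mem_toGrothendieck_iff_of_isStableUnderComposition.1
    (show T ∈ (etPre X).toGrothendieck U from hT)
  obtain ⟨ι, Y, g, rfl⟩ := Presieve.exists_eq_ofArrows R
  choose i y hy using (ofArrows_mem_etPre_iff Y g).1 hR
  choose O hO hyO _hle using fun x => exists_isAffineOpen_mem_and_subset (x := y x)
    (U := (⊤ : (Y (i x)).obj.left.left.Opens)) trivial
  let w : ∀ x, opensObj (Y (i x)) (O x) ⟶ U := fun x => opensInc (Y (i x)) (O x) ≫ g (i x)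
  haveI : ∀ x, Etale (w x).hom.left.left := fun x => EtOver.etale_left _
  obtain ⟨t, ht⟩ := isCompact_univ.elim_finite_subcover (fun x => Set.range (w x).hom.left.left)
    (fun x => (w x).hom.left.left.isOpenMap.isOpen_range) fun x _ => Set.mem_iUnion.2 ⟨x, ⟨⟨y x, hyO x⟩, hy x⟩⟩
  refine ⟨↥t, inferInstance, fun k => opensObj (Y (i k.1)) (O k.1), fun k => w k.1,
    fun k => ⟨hO k.1, T.downward_closed (hle _ _ ⟨i k.1⟩) _⟩, fun x => ?_⟩
  obtain ⟨x', hx', z, hz⟩ := Set.mem_iUnion₂.1 (ht (Set.mem_univ x))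
  exact ⟨⟨x', hx'⟩, z, hz⟩

theorem cov_h2 : ∀ U ∈ B X, ∀ T ∈ JS X U, ∃ (ι : Type (u + 1)) (Y : ι → Over U),
    Cov X U ι Y ∧ ∀ i, T.arrows (Y i).hom := by
  intro U hU T hT
  obtain ⟨hU1, hU2⟩ := hU
  rw [mem_JS_iff] at hT
  haveI : CompactSpace ↥((eS X).inverse.obj U).obj.left.left := hU1
  obtain ⟨n, hn, W, w, hw, hsurj⟩ := exists_affine_family hT
  let Yf : ULift.{u + 1} n → Over U := fun k =>
    Over.mk (Y := ULiftHom.up.obj (W k.down)) (⟨w k.down⟩ : ULiftHom.up.obj (W k.down) ⟶ U)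
  refine ⟨ULift.{u + 1} n, Yf, ⟨inferInstance, ⟨hU1, hU2⟩, fun k => ?_, ?_⟩, fun k => ?_⟩
  · haveI := (hw k.down).1
    exact ⟨inferInstanceAs (CompactSpace ↥(W k.down).obj.left.left),
      inferInstanceAs (QuasiSeparatedSpace ↥(W k.down).obj.left.left)⟩
  · rw [mem_JS_iff]
    refine (etTop X).superset_covering ?_ (ofArrows_mem_etTop W w hsurj)
    refine (Sieve.generate_le_iff _ _).2 ?_
    rintro _ _ ⟨k⟩
    exact ⟨_, (Yf ⟨k⟩).hom, 𝟙 _, Sieve.ofArrows_mk (fun i => (Yf i).left) (fun i => (Yf i).hom) ⟨k⟩,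
      (Category.id_comp _).symm⟩
  · obtain ⟨W', h, a, hh, ha⟩ := (hw k.down).2
    let a' : ULiftHom.up.obj (W k.down) ⟶ W' := ⟨a⟩
    have e : (Yf k).hom = a' ≫ h := ULift.ext _ _ ha
    rw [e]
    exact T.downward_closed hh a'

/-- Transport to the small model. -/
abbrev ES (X : Sp S) : AbEt X ≌ Sheaf (JS X) AddCommGrpCat.{u + 1} :=
  (eS X).sheafCongr (etTop X) (JS X) AddCommGrpCat.{u + 1}

/-- Sections of a filtered colimit over quasi-compact quasi-separated objects come from stages. -/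
theorem sections_colimit_et {I : Type (u + 1)} [SmallCategory I] [IsFiltered I] {D : I ⥤ AbEt X} {c : Cocone D}
    (hc : IsColimit c) (U : EtOver X) [CompactSpace ↥U.obj.left.left] [QuasiSeparatedSpace ↥U.obj.left.left] :
    (∀ t : c.pt.obj.obj (op U), ∃ (i : I) (x : (D.obj i).obj.obj (op U)), (c.ι.app i).hom.app (op U) x = t) ∧
    (∀ (i : I) (x : (D.obj i).obj.obj (op U)), (c.ι.app i).hom.app (op U) x = 0 →
      ∃ (j : I) (f : i ⟶ j), (D.map f).hom.app (op U) x = 0) := by
  obtain ⟨hg, hk⟩ := GrothLib.ColimCoh.sections_colimit cov_h1 cov_h2 (D ⋙ (ES X).functor)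
    (isColimitOfPreserves (ES X).functor hc)
    (show (ULiftHom.up.obj U : SX X) ∈ B X from ⟨inferInstanceAs (CompactSpace ↥U.obj.left.left),
      inferInstanceAs (QuasiSeparatedSpace ↥U.obj.left.left)⟩)
  exact ⟨hg, hk⟩

end GrothLib.AlgSp.EtColim
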