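import Groth.Agent.Lib.AlgSp.QCohAcyclic
import Groth.Agent.Lib.AlgSp.EtColimSections
import Groth.Agent.Lib.AlgSp.DiagAffine

/-!
# Quasi-compact quasi-separated objects as a class with cofinal covers

* `qsCover`; `isQcqsObj_prod`.
-/

universe u

open CategoryTheory CategoryTheory.Limits AlgebraicGeometry Opposite
set_option backward.isDefEq.respectTransparency false

noncomputable section

namespace GrothLib.AlgSp.QCohEt

open _root_.AlgSp
open GrothLib GrothLib.AlgSp

variable {S : Scheme.{u}} {X : Sp S}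

/-- Quasi-compact quasi-separated objects. -/
def IsQcqsObj (E : EtOver X) : Prop :=
  CompactSpace ↥E.obj.left.left ∧ QuasiSeparatedSpace ↥E.obj.left.left

theorem isQcqsObj_of_isAffine (E : EtOver X) [IsAffine E.obj.left.left] : IsQcqsObj E :=
  ⟨inferInstance, inferInstance⟩

theorem exists_cover_lift_compact {Y : EtOver X} [CompactSpace ↥Y.obj.left.left] {F G : AbEt X} (φ : F ⟶ G)
    (s : G.obj.obj (op Y)) (hs : Presheaf.imageSieve φ.hom s ∈ etTop X Y) :
    ∃ (T : EtOver X) (f : T ⟶ Y), IsAffine T.obj.left.left ∧ Surjective f.hom.left.left ∧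
      Sieve.generate (Presieve.singleton f) ∈ etTop X Y ∧ ∃ r, φ.hom.app (op T) r = G.obj.map f.op s := by
  classical
  obtain ⟨n, hn, W, w, hw, hsurj₀⟩ := GrothLib.AlgSp.EtColim.exists_affine_family hs
  let Z : n → Scheme.{u} := fun k => (W k).obj.left.left
  haveI : ∀ k, IsAffine (Z k) := fun k => (hw k).1
  let b : ∀ k, Z k ⟶ Y.obj.left.left := fun k => (w k).hom.left.left
  haveI : ∀ k, Etale (b k) := fun k => EtOver.etale_left (w k)
  haveI : Etale (Sigma.desc b) := IsZariskiLocalAtSource.sigmaDesc fun k => inferInstance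
  haveI hA : IsAffine (∐ Z) := inferInstance
  let g : Over.mk (Sigma.desc b ≫ Y.obj.left.hom) ⟶ Y.obj.left := Over.homMk (Sigma.desc b) rfl
  let T : EtOver X := EtOver.mk ((yon S).map g ≫ Y.obj.hom)
    (repWith_comp ((repWith_yon_map_iff _ _).2 (show Etale (Sigma.desc b) by infer_instance)) Y.property)
  let f : T ⟶ Y := EtOver.homMk g rfl
  let j : ∀ k, W k ⟶ T := fun k => EtOver.homMk
    (Over.homMk (Sigma.ι Z k) (by
      show Sigma.ι Z k ≫ Sigma.desc b ≫ Y.obj.left.hom = (W k).obj.left.hom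
      rw [Sigma.ι_desc_assoc]
      exact Over.w (w k).hom.left)) (by
      show (yon S).map _ ≫ (yon S).map g ≫ Y.obj.hom = (W k).obj.hom
      rw [← Functor.map_comp_assoc, ← EtOver.w (w k)]
      congr 2
      exact Over.OverMorphism.ext (Sigma.ι_desc _ _))
  have hjf : ∀ k, j k ≫ f = w k := fun k =>
    EtOver.hom_ext _ _ (Over.OverMorphism.ext (Sigma.ι_desc _ _))
  have hsurj : ∀ y : Y.obj.left.left, ∃ k, ∃ z : Z k, b k z = y := hsurj₀
  haveI hf : Surjective f.hom.left.left := ⟨fun y => by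
    obtain ⟨k, z, hz⟩ := hsurj y
    refine ⟨Sigma.ι Z k z, ?_⟩
    show Sigma.desc b (Sigma.ι Z k z) = y
    rw [← Scheme.Hom.comp_apply, Sigma.ι_desc]
    exact hz⟩
  refine ⟨T, f, hA, hf, ?_, ?_⟩
  · have : Sieve.ofArrows (fun _ : PUnit.{u + 1} => T) (fun _ => f) ∈ etTop X Y :=
      ofArrows_mem_etTop _ _ fun y => ⟨⟨⟩, f.hom.left.left.surjective y⟩
    rwa [Sieve.ofArrows, Presieve.ofArrows_pUnit] at this
  have hcT : Sieve.generate (Presieve.ofArrows W j) ∈ etTop X T :=
    ofArrows_mem_etTop W j fun z => by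
      obtain ⟨k, x, hx⟩ := (sigmaOpenCover Z).exists_eq z
      exact ⟨k, x, hx⟩
  let FT := (sheafCompose (etTop X) (forget AddCommGrpCat.{u + 1})).obj F
  let GT := (sheafCompose (etTop X) (forget AddCommGrpCat.{u + 1})).obj G
  have hsh : ∀ H : Sheaf (etTop X) (Type (u + 1)), (Presieve.ofArrows W j).IsSheafFor H.obj :=
    fun H => (Presieve.isSheafFor_iff_generate _).2 ((isSheaf_iff_isSheaf_of_type _ _).1 H.property _ hcT)
  choose r₁ hr₁ using fun k => (hw k).2
  obtain ⟨r₀, hr₀, -⟩ := (Presieve.isSheafFor_arrows_iff _ _).1 (hsh FT) r₁ (fun i i' Z' gi gj hij => by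
    by_cases h : i = i'
    · subst h
      haveI : Mono (j i).hom.left.left := inferInstanceAs (Mono (Sigma.ι Z i))
      obtain rfl : gi = gj := EtOver.hom_ext _ _ (Over.OverMorphism.ext
        ((cancel_mono (j i).hom.left.left).1 (congrArg (fun m : Z' ⟶ T => m.hom.left.left) hij)))
      rfl
    · haveI : IsEmpty Z'.obj.left.left := ⟨fun z =>
        (disjoint_opensRange_sigmaι Z i i' h).le_bot
          ⟨⟨gi.hom.left.left z, rfl⟩, ⟨gj.hom.left.left z, (congr($(hij).hom.left.left.base z)).symm⟩⟩⟩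
      have hbot : (⊥ : Sieve Z') ∈ etTop X Z' := by
        refine (etTop X).superset_covering bot_le ?_
        have := ofArrows_mem_etTop (E := Z') (fun e : PEmpty.{u + 1} => e.elim) (fun e => e.elim)
          (fun z => isEmptyElim z)
        refine (etTop X).superset_covering ?_ this
        exact (Sieve.generate_le_iff _ _).2 fun _ _ hh => by rcases hh with ⟨e⟩; exact e.elim
      exact (((isSheaf_iff_isSheaf_of_type _ _).1 FT.property ⊥ hbot).isSeparatedFor).ext fun _ _ h => h.elim)
  change F.obj.obj (op T) at r₀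
  refine ⟨r₀, (hsh GT).isSeparatedFor.ext ?_⟩
  rintro _ _ ⟨k⟩
  show G.obj.map (j k).op (φ.hom.app (op T) r₀) = G.obj.map (j k).op (G.obj.map f.op s)
  rw [← Functor.map_comp_apply, ← op_comp, hjf, ← hr₁ k]
  refine (ConcreteCategory.congr_hom (φ.hom.naturality (j k).op) r₀).symm.trans ?_
  exact congrArg (φ.hom.app (op (W k))) (hr₀ k)

theorem isQcqsObj_pullback {A A' U : EtOver X} {P : EtOver X} {p : P ⟶ A} {p' : P ⟶ A'} {a : A ⟶ U} {a' : A' ⟶ U}
    (h : IsPullback p p' a a') (hA : IsQcqsObj A) (hA' : IsQcqsObj A') (hU : IsQcqsObj U) : IsQcqsObj P := by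
  obtain ⟨hA1, hA2⟩ := hA
  obtain ⟨hA1', hA2'⟩ := hA'
  obtain ⟨hU1, hU2⟩ := hU
  haveI : CompactSpace ↥((EtOver.toScheme X).obj A) := hA1
  haveI : QuasiSeparatedSpace ↥((EtOver.toScheme X).obj A) := hA2
  haveI : CompactSpace ↥((EtOver.toScheme X).obj A') := hA1'
  haveI : QuasiSeparatedSpace ↥((EtOver.toScheme X).obj U) := hU2
  have hs := h.map (EtOver.toScheme X)
  have hq : QuasiCompact ((EtOver.toScheme X).map a') := quasiCompact_of_compactSpace _
  have hqs : QuasiSeparated ((EtOver.toScheme X).map a') := by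
    have : QuasiSeparated (((EtOver.toScheme X).map a') ≫ terminal.from _) := by
      rw [terminalIsTerminal.hom_ext (((EtOver.toScheme X).map a') ≫ terminal.from _) (terminal.from _),
        ← quasiSeparatedSpace_iff_quasiSeparated]
      exact hA2'
    exact QuasiSeparated.of_comp _ (terminal.from _)
  have h1 : QuasiCompact ((EtOver.toScheme X).map p) := MorphismProperty.of_isPullback hs.flip hq
  have h2 : QuasiSeparated ((EtOver.toScheme X).map p) := MorphismProperty.of_isPullback hs.flip hqs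
  exact ⟨QuasiCompact.compactSpace_of_compactSpace ((EtOver.toScheme X).map p),
    quasiSeparatedSpace_of_quasiSeparated ((EtOver.toScheme X).map p)⟩

theorem isQcqsObj_fibPow {T Y : EtOver X} {f : T ⟶ Y} (E : FibPow f) (hT : IsQcqsObj T) (hY : IsQcqsObj Y) :
    ∀ n, IsQcqsObj (E.P n) := by
  intro n
  induction n with
  | zero =>
    let e : E.P 0 ≅ T := ⟨E.π 0 0, E.lift 0 (fun _ => 𝟙 T) fun _ _ => rfl,
      E.hom_ext _ _ _ fun i => by rw [Category.assoc, E.lift_π, Category.comp_id, Category.id_comp,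
        Fin.fin_one_eq_zero i], E.lift_π _ _ _ _⟩
    let φ := Scheme.homeoOfIso ((EtOver.toScheme X).mapIso e.symm)
    obtain ⟨h1, h2⟩ := hT
    haveI : CompactSpace ↥((EtOver.toScheme X).obj T) := h1
    haveI : QuasiSeparatedSpace ↥((EtOver.toScheme X).obj T) := h2
    exact ⟨φ.compactSpace, (quasiSeparatedSpace_congr φ).1 h2⟩
  | succ n ih =>
    refine isQcqsObj_pullback (p := E.δ n 0) (p' := E.π (n + 1) 0) (a := E.π n 0 ≫ f) (a' := f) ?_ ih hT hY
    have hw : E.δ n 0 ≫ E.π n 0 ≫ f = E.π (n + 1) 0 ≫ f := by rw [E.δ_π_assoc, E.w]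
    refine ⟨⟨hw⟩, ⟨PullbackCone.IsLimit.mk hw (fun s => E.lift (n + 1)
      (Fin.cases s.snd fun i => s.fst ≫ E.π n i) ?_) (fun s => E.hom_ext _ _ _ fun i => ?_)
      (fun s => E.lift_π _ _ _ _) (fun s m h₁ h₂ => E.hom_ext _ _ _ fun i => ?_)⟩⟩
    · have : ∀ i : Fin (n + 2), (Fin.cases s.snd (fun i => s.fst ≫ E.π n i) i : s.pt ⟶ T) ≫ f = s.snd ≫ f := by
        intro i
        cases i using Fin.cases with
        | zero => rfl
        | succ i =>
          simp only [Fin.cases_succ, Category.assoc]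
          rw [E.w n i 0]
          exact s.condition
      exact fun i j => (this i).trans (this j).symm
    · rw [Category.assoc, E.δ_π, E.lift_π, Fin.zero_succAbove, Fin.cases_succ]
    · rw [E.lift_π]
      cases i using Fin.cases with
      | zero => exact h₂
      | succ i => rw [Fin.cases_succ, ← h₁, Category.assoc, E.δ_π, Fin.zero_succAbove]

variable (X) in
/-- Quasi-compact quasi-separated objects with their surjective covers. -/
def qsCover : FibPow.CoverClass.{u + 1} (etTop X) where
  B Y := IsQcqsObj Y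
  Cov T Y f := IsQcqsObj T ∧ IsQcqsObj Y ∧ Surjective f.hom.left.left
  mem _ _ f E := fun ⟨h₁, h₂, _⟩ n => isQcqsObj_fibPow E h₁ h₂ n
  refine' Y hY F G φ s hs := by
    haveI : CompactSpace ↥Y.obj.left.left := hY.1
    obtain ⟨T, f, hT, hf, hcov, hr⟩ := exists_cover_lift_compact φ s hs
    haveI := hT
    exact ⟨T, f, FibPow.ofPullbacks f, ⟨isQcqsObj_of_isAffine T, hY, hf⟩, hcov, hr⟩

/-- Fibre products over a quasi-separated space of quasi-compact quasi-separated objects are such. -/
theorem isQcqsObj_prod [QuasiSeparatedSpace ↥S] (hqs : IsQuasiSeparatedSp X) {A B : EtOver X} (hA : IsQcqsObj A)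
    (hB : IsQcqsObj B) : IsQcqsObj (EtOver.prodObj A B) := by
  obtain ⟨hA1, hA2⟩ := hA
  obtain ⟨hB1, hB2⟩ := hB
  let A₀ := A.obj.left
  let B₀ := B.obj.left
  let p := (EtOver.prodFst A B).hom.left
  let d := (EtOver.prodSnd A B).hom.left
  have sq : IsPullback ((yon S).map p) ((yon S).map d) A.obj.hom B.obj.hom := by
    have h := (B.property.1.isPullback A.obj.hom).flip
    rwa [← Functor.relativelyRepresentable.map_fst'] at h
  haveI : QuasiCompact (prod.lift p d).left := prop_prodLift_of_repWith_diag hqs sq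
  haveI : QuasiCompact A₀.hom := quasiCompact_of_compactSpace _
  haveI : QuasiSeparated A₀.hom := by
    have : QuasiSeparated (A₀.hom ≫ terminal.from S) := by
      rw [terminalIsTerminal.hom_ext (A₀.hom ≫ terminal.from S) (terminal.from _),
        ← quasiSeparatedSpace_iff_quasiSeparated]
      exact hA2
    exact QuasiSeparated.of_comp _ (terminal.from S)
  haveI : CompactSpace ↥(pullback A₀.hom B₀.hom) :=
    QuasiCompact.compactSpace_of_compactSpace (pullback.snd A₀.hom B₀.hom)
  haveI : QuasiSeparatedSpace ↥(pullback A₀.hom B₀.hom) :=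
    quasiSeparatedSpace_of_quasiSeparated (pullback.snd A₀.hom B₀.hom)
  let φ := (Scheme.homeoOfIso (Over.prodLeftIsoPullback A₀ B₀)).symm
  haveI : CompactSpace ↥(A₀ ⨯ B₀ : Over S).left := φ.compactSpace
  haveI : QuasiSeparatedSpace ↥(A₀ ⨯ B₀ : Over S).left := (quasiSeparatedSpace_congr φ).1 inferInstance
  haveI : Mono (prod.lift p d) := ⟨fun a b hab => by
    have h1 : a ≫ p = b ≫ p := by
      have := congrArg (· ≫ prod.fst) hab
      simp only [Category.assoc, prod.lift_fst] at this
      exact this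
    have h2 : a ≫ d = b ≫ d := by
      have := congrArg (· ≫ prod.snd) hab
      simp only [Category.assoc, prod.lift_snd] at this
      exact this
    exact (yon S).map_injective (sq.hom_ext (by rw [← Functor.map_comp, ← Functor.map_comp, h1])
      (by rw [← Functor.map_comp, ← Functor.map_comp, h2]))⟩
  haveI : Mono (prod.lift p d).left := inferInstanceAs (Mono ((Over.forget S).map (prod.lift p d)))
  exact ⟨QuasiCompact.compactSpace_of_compactSpace (prod.lift p d).left,
    quasiSeparatedSpace_of_quasiSeparated (prod.lift p d).left⟩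

end GrothLib.AlgSp.QCohEt
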