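import Groth.Agent.Lib.AlgSp.Limit
import Groth.Agent.Lib.AlgSp.Strata
import Groth.Agent.Lib.AlgSp.LocP
import Groth.Agent.Lib.AlgSp.SigmaChart
import Groth.Agent.Lib.AlgSp.PointsUniv
import Groth.Agent.Lib.LimDesc.SourceTarget
import Groth.Agent.Lib.LimDesc.Inj
import Groth.Agent.Lib.LimSmooth.Affine
import Groth.Agent.S2075

/-!
# Descending properties of morphisms of algebraic spaces to a stage of a limit

* `exists_affine_atlas_of_qc`: a quasi-compact space has an affine atlas;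
* `exists_stage_chart`: a property of schemes descending in the affine case descends on charts.
-/

universe u

open CategoryTheory CategoryTheory.Limits AlgebraicGeometry

namespace GrothLib.AlgSp

open _root_.AlgSp

variable {S : Scheme.{u}}

set_option backward.isDefEq.respectTransparency false

/-- A compact scheme over `S` has an affine etale cover. -/
theorem exists_affine_cover_etale (U : Over S) [CompactSpace ↥U.left] :
    ∃ (W : Over S) (c : W ⟶ U), IsAffine W.left ∧ Etale c.left ∧ Surjective c.left := by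
  let 𝒰 := U.left.affineCover.finiteSubcover
  haveI : Fintype 𝒰.I₀ := Fintype.ofFinite _
  let V : 𝒰.I₀ → Over S := fun k => Over.mk (𝒰.f k ≫ U.hom)
  haveI : ∀ k, IsAffine (𝒰.X k) := fun k => inferInstanceAs (IsAffine (Spec _))
  let c : (∐ fun k => 𝒰.X k) ⟶ U.left := Sigma.desc 𝒰.f
  refine ⟨sigmaOver V, Over.homMk c (Sigma.hom_ext _ _ fun k => by
    show Sigma.ι (fun k => 𝒰.X k) k ≫ Sigma.desc 𝒰.f ≫ U.hom = _
    rw [Sigma.ι_desc_assoc]
    exact (Sigma.ι_desc (fun k => (V k).hom) k).symm),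
    inferInstanceAs (IsAffine (∐ fun k => 𝒰.X k)), ?_, ⟨fun x => ?_⟩⟩
  · show Etale c
    rw [IsZariskiLocalAtSource.iff_of_openCover (P := @Etale) (sigmaOpenCover _)]
    intro k
    show Etale (Sigma.ι (fun k => 𝒰.X k) k ≫ c)
    rw [Sigma.ι_desc]
    infer_instance
  · obtain ⟨k, y, rfl⟩ := 𝒰.exists_eq x
    refine ⟨Sigma.ι (fun k => 𝒰.X k) k y, ?_⟩
    show (Sigma.ι (fun k => 𝒰.X k) k ≫ c) y = 𝒰.f k y
    rw [Sigma.ι_desc]

/-- A quasi-compact space has an affine atlas. -/
theorem exists_affine_atlas_of_qc {X : Sp S} (h : IsQuasiCompactSp X) :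
    ∃ (U : Over S) (a : (yon S).obj U ⟶ X), IsAffine U.left ∧ RepWith @Etale a ∧ RepWith @Surjective a := by
  obtain ⟨U, a, ae, as, hU⟩ := h
  haveI := hU
  obtain ⟨W, c, hW, hce, hcs⟩ := exists_affine_cover_etale U
  exact ⟨W, (yon S).map c ≫ a, hW, repWith_comp ((repWith_yon_map_iff _ c).2 hce) ae,
    repWith_comp ((repWith_yon_map_iff _ c).2 hcs) as⟩

variable {I : Type u} [SmallCategory I] [IsCofiltered I] {D : I ⥤ Sp S}

/-- A property of schemes which descends in the affine case descends on charts of algebraic spaces. -/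
theorem exists_stage_chart [QuasiSeparatedSpace ↥S] (hDa : ∀ (i j : I) (φ : i ⟶ j), IsAffineMor (D.map φ))
    {c : Cone D} (hc : IsLimit c) {i₀ : I}
    {X₀ Y₀ : Sp S} (hX₀ : IsAlgSpace X₀) (hY₀ : IsAlgSpace Y₀) (f₀ : X₀ ⟶ Y₀) (b₀ : Y₀ ⟶ D.obj i₀)
    (hXqc : IsQuasiCompactSp X₀) (hYqc : IsQuasiCompactSp Y₀) (hYqs : IsQuasiSeparatedSp Y₀)
    {X Y : Sp S} {f : X ⟶ Y} {pY : Y ⟶ Y₀} {qY : Y ⟶ c.pt}
    (hY : IsPullback pY qY b₀ (c.π.app i₀)) {pX : X ⟶ X₀} (hX : IsPullback pX f f₀ pY)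
    (hf₀ : LocP @LocallyOfFinitePresentation f₀)
    (Q : MorphismProperty Scheme.{u}) [Q.IsStableUnderBaseChange] (H : LimDesc.AffineCase Q)
    (hQ : ∀ ⦃U V : Over S⦄ (a : (yon S).obj U ⟶ X) (b : (yon S).obj V ⟶ Y) (h : U ⟶ V),
      RepWith @Etale a → RepWith @Etale b → RepWith @Surjective b → a ≫ f = (yon S).map h ≫ b →
      (∀ v, Points.ofPt b v ∈ Set.range (Points.map f) → v ∈ Set.range h.left) → Q h.left) :
    ∃ (i : I) (φ : i ⟶ i₀), ∀ (Xi Yi : Sp S) (fi : Xi ⟶ Yi) (pYi : Yi ⟶ Y₀) (qYi : Yi ⟶ D.obj i)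
      (_ : IsPullback pYi qYi b₀ (D.map φ)) (pXi : Xi ⟶ X₀) (_ : IsPullback pXi fi f₀ pYi),
      ∃ (U V : Over S) (a : (yon S).obj U ⟶ Xi) (b : (yon S).obj V ⟶ Yi) (h : U ⟶ V),
        RepWith @Etale a ∧ RepWith @Surjective a ∧ RepWith @Etale b ∧ RepWith @Surjective b ∧
        a ≫ fi = (yon S).map h ≫ b ∧ Q h.left := by
  -- affine charts of `f₀`
  obtain ⟨V₀, q, hV₀, qe, qs⟩ := exists_affine_atlas_of_qc hYqc
  obtain ⟨A, pA, hA, pAe, pAs⟩ := exists_affine_atlas_of_qc hXqc
  haveI := hV₀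
  obtain ⟨T, t₀, s₀, sqT⟩ := exists_isPullback_of_representable qe.1 (pA ≫ f₀)
  obtain ⟨t₀, rfl⟩ := (yon S).map_surjective t₀
  haveI : QuasiCompact s₀.left := (repWith_quasiCompact_chart hY₀ hYqs q).2 _ _ _ sqT
  haveI := hA
  haveI : CompactSpace ↥T.left := QuasiCompact.compactSpace_of_compactSpace s₀.left
  obtain ⟨U₀, e, hU₀, hee, hes⟩ := exists_affine_cover_etale T
  haveI := hU₀
  let p : (yon S).obj U₀ ⟶ X₀ := (yon S).map (e ≫ s₀) ≫ pA
  let h₀ : U₀ ⟶ V₀ := e ≫ t₀
  have hp : p ≫ f₀ = (yon S).map h₀ ≫ q := by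
    simp only [p, h₀, Functor.map_comp, Category.assoc]
    rw [sqT.w]
  have pe : RepWith @Etale p := by
    refine repWith_comp ((repWith_yon_map_iff _ _).2 ?_) pAe
    haveI : Etale s₀.left := qe.2 _ _ _ sqT
    haveI := hee
    exact (inferInstance : Etale (e.left ≫ s₀.left))
  have ps : RepWith @Surjective p := by
    refine repWith_comp ((repWith_yon_map_iff _ _).2 ?_) pAs
    haveI : Surjective s₀.left := qs.2 _ _ _ sqT
    haveI := hes
    exact (inferInstance : Surjective (e.left ≫ s₀.left))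
  haveI : LocallyOfFinitePresentation h₀.left := hf₀ p q h₀ pe qe hp
  have hsurj : ∀ (x : Points X₀) (v : ↥V₀.left), Points.map f₀ x = Points.ofPt q v →
      v ∈ Set.range h₀.left := by
    intro x v hv
    obtain ⟨a, rfl⟩ := surjective_ofPt_of_repWith pAs x
    rw [Points.map_ofPt, Points.ofPt_eq_map_ofScheme q] at hv
    obtain ⟨r, hr₁, -⟩ := exists_ofPt_of_map_eq sqT hv.symm
    haveI := hes
    obtain ⟨u, rfl⟩ := e.left.surjective r
    refine ⟨u, ?_⟩
    have := congrArg (Points.toScheme V₀) hr₁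
    rw [Points.toScheme_ofPt, Points.toScheme_ofScheme] at this
    exact this
  -- the affine system over `V₀`
  obtain ⟨E, cW, f', w, fst, snd, ⟨hcW⟩, -, hE, hEm, hEπ, sqW⟩ :=
    exists_affine_chart_limit hDa hc i₀ hV₀ (q ≫ b₀)
  let eW : (yon S).obj cW.pt ⟶ Y := hY.lift ((yon S).map snd ≫ q) fst (by rw [Category.assoc, ← sqW.w])
  have sqe : IsPullback ((yon S).map snd) eW q pY :=
    IsPullback.of_bot (v₂₁ := qY) (v₂₂ := b₀) (by rw [hY.lift_snd]; exact sqW.flip)
      (hY.lift_fst _ _ _).symm hY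
  -- the limit chart
  have sqU := isPullback_yon (IsPullback.of_hasPullback h₀ snd)
  have big : IsPullback ((yon S).map (pullback.fst h₀ snd))
      ((yon S).map (pullback.snd h₀ snd) ≫ eW) (p ≫ f₀) pY := by
    rw [hp]
    exact sqU.paste_vert sqe
  let a : (yon S).obj (pullback h₀ snd) ⟶ X := hX.lift ((yon S).map (pullback.fst h₀ snd) ≫ p)
    ((yon S).map (pullback.snd h₀ snd) ≫ eW) (by rw [Category.assoc]; exact big.w)
  have sqa : IsPullback ((yon S).map (pullback.fst h₀ snd)) a p pX :=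
    IsPullback.of_bot (v₂₁ := f) (v₂₂ := f₀) (by rw [hX.lift_snd]; exact big) (hX.lift_fst _ _ _).symm hX
  have hQlim : Q (pullback.snd h₀ snd).left := by
    refine hQ a eW _ (repWith_of_isPullback sqa pe) (repWith_of_isPullback sqe qe)
      (repWith_of_isPullback sqe qs) (hX.lift_snd _ _ _) fun v ⟨x, hx⟩ => ?_
    have h1 : Points.map f₀ (Points.map pX x) = Points.ofPt q (snd.left v) := by
      rw [← Points.map_comp, hX.w, Points.map_comp, hx, Points.map_ofPt, ← sqe.w, ofPt_map_comp]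
    obtain ⟨u, hu⟩ := hsurj _ _ h1
    obtain ⟨r, -, hr⟩ := Scheme.exists_preimage_of_isPullback
      ((IsPullback.of_hasPullback h₀ snd).map (Over.forget S)) u v hu
    exact ⟨r, hr⟩
  -- descend
  haveI : CategoryTheory.IsConnected (CategoryTheory.Over i₀) := IsCofiltered.isConnected _
  let E' : CategoryTheory.Over i₀ ⥤ Scheme.{u} := E ⋙ Over.forget S
  haveI : ∀ (j k : CategoryTheory.Over i₀) (φ : j ⟶ k), IsAffineHom (E'.map φ) := fun j k φ => by
    haveI : IsAffine (E'.obj j) := (hE j).1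
    haveI : IsAffine (E'.obj k) := (hE k).1
    exact isAffineHom_of_isAffine _
  let top : CategoryTheory.Over i₀ := CategoryTheory.Over.mk (𝟙 i₀)
  haveI : IsAffine (E'.obj top) := (hE top).1
  let a' := pullback.snd h₀ (w top)
  haveI : IsAffineHom h₀.left := isAffineHom_of_isAffine _
  have sqt := (IsPullback.of_hasPullback h₀ (w top)).map (Over.forget S)
  haveI : IsAffineHom a'.left := MorphismProperty.of_isPullback (P := @IsAffineHom) sqt ‹_›
  haveI : LocallyOfFinitePresentation a'.left :=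
    MorphismProperty.of_isPullback (P := @LocallyOfFinitePresentation) sqt ‹_›
  haveI : IsAffine (pullback h₀ (w top)).left := by
    haveI : IsAffine (E.obj top).left := (hE top).1
    exact isAffine_of_isAffineHom a'.left
  have hsndtop : cW.π.app top ≫ w top = snd := (hEπ top).2
  let q' : (pullback h₀ snd) ⟶ pullback h₀ (w top) :=
    pullback.lift (pullback.fst _ _) (pullback.snd _ _ ≫ cW.π.app top)
      (by rw [Category.assoc, hsndtop, pullback.condition])
  have sq' : IsPullback q' (pullback.snd h₀ snd) a' (cW.π.app top) := by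
    refine IsPullback.of_right ?_ (pullback.lift_snd _ _ _) (IsPullback.of_hasPullback h₀ (w top))
    rw [pullback.lift_fst, hsndtop]
    exact IsPullback.of_hasPullback _ _
  obtain ⟨j, hj⟩ := H E' _ (isLimitOfPreserves (Over.forget S) hcW) top a'.left
    (sq'.map (Over.forget S)) hQlim
  refine ⟨j.left.left, j.left.hom, fun Xi Yi fi pYi qYi hYi pXi hXi => ?_⟩
  have sqj := (hE j.left).2
  let ej : (yon S).obj (E.obj j.left) ⟶ Yi := hYi.lift ((yon S).map (w j.left) ≫ q) (f' j.left)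
    (by rw [Category.assoc, ← sqj.w])
  have sqej : IsPullback ((yon S).map (w j.left)) ej q pYi :=
    IsPullback.of_bot (v₂₁ := qYi) (v₂₂ := b₀) (by rw [hYi.lift_snd]; exact sqj.flip)
      (hYi.lift_fst _ _ _).symm hYi
  have bigj : IsPullback ((yon S).map (pullback.fst h₀ (w j.left)))
      ((yon S).map (pullback.snd h₀ (w j.left)) ≫ ej) (p ≫ f₀) pYi := by
    rw [hp]
    exact (isPullback_yon (IsPullback.of_hasPullback h₀ (w j.left))).paste_vert sqej
  let aj : (yon S).obj (pullback h₀ (w j.left)) ⟶ Xi :=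
    hXi.lift ((yon S).map (pullback.fst h₀ (w j.left)) ≫ p)
      ((yon S).map (pullback.snd h₀ (w j.left)) ≫ ej) (by rw [Category.assoc]; exact bigj.w)
  have sqaj : IsPullback ((yon S).map (pullback.fst h₀ (w j.left))) aj p pXi :=
    IsPullback.of_bot (v₂₁ := fi) (v₂₂ := f₀) (by rw [hXi.lift_snd]; exact bigj) (hXi.lift_fst _ _ _).symm hXi
  refine ⟨pullback h₀ (w j.left), E.obj j.left, aj, ej, pullback.snd h₀ (w j.left),
    repWith_of_isPullback sqaj pe, repWith_of_isPullback sqaj ps, repWith_of_isPullback sqej qe,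
    repWith_of_isPullback sqej qs, hXi.lift_snd _ _ _, ?_⟩
  have hwj : E.map j.hom ≫ w top = w j.left := (hEm j.hom).2
  let qj : pullback h₀ (w j.left) ⟶ pullback h₀ (w top) :=
    pullback.lift (pullback.fst _ _) (pullback.snd _ _ ≫ E.map j.hom)
      (by rw [Category.assoc, hwj, pullback.condition])
  have sqj' : IsPullback qj (pullback.snd h₀ (w j.left)) a' (E.map j.hom) := by
    refine IsPullback.of_right ?_ (pullback.lift_snd _ _ _) (IsPullback.of_hasPullback h₀ (w top))
    rw [pullback.lift_fst, hwj]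
    exact IsPullback.of_hasPullback _ _
  have := (sqj'.map (Over.forget S)).isoPullback_hom_snd
  change Q ((Over.forget S).map (pullback.snd h₀ (w j.left)))
  rw [← this]
  exact (Q.cancel_left_of_respectsIso _ _).2 hj

end GrothLib.AlgSp

namespace GrothLib.AlgSp

open GrothLib.LimDesc

theorem affineCase_surjective : AffineCase.{u} @Surjective := by
  intro J _ _ E _ c hc j₀ _ U _ a _ X f q hX hf
  haveI := hf
  haveI : CompactSpace ↥(E.obj j₀) := inferInstance
  obtain ⟨j, hj⟩ := LimDesc.exists_surjective E hc a (𝟙 (E.obj j₀)) (X := X) (f := f) (g := 𝟙 c.pt)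
    (IsPullback.of_vert_isIso ⟨by simp⟩) hX
  exact ⟨j, LimSmooth.snd_of_mapNat_id @Surjective E a j hj⟩

theorem affineCase_flat : AffineCase.{u} @Flat := by
  intro J _ _ E _ c hc j₀ _ U _ a _ X f q hX hf
  haveI := hf
  obtain ⟨k, φ, Xi, Yi, fi, gi, pY, pX, hY, hX', hfi⟩ :=
    Groth.Agent.S2075.result E c hc j₀ a (𝟙 (E.obj j₀)) f (𝟙 c.pt) _ q
      IsPullback.of_id_snd hX
  haveI : IsIso gi := MorphismProperty.of_isPullback (P := MorphismProperty.isomorphisms Scheme.{u}) hY
    (inferInstanceAs (IsIso (𝟙 (E.obj j₀))))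
  have sq : IsPullback pX (fi ≫ gi) a (E.map φ) := by
    simpa using hX'.paste_vert hY
  refine ⟨CategoryTheory.Over.mk φ, ?_⟩
  have := sq.isoPullback_inv_snd
  show Flat (pullback.snd a (E.map φ))
  rw [← this]
  infer_instance

end GrothLib.AlgSp
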