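import Groth.Prelude.Def_AlgSpOX2
import Groth.Agent.Lib.AlgSp.QCohFPEt
import Mathlib.Algebra.Category.ModuleCat.Sheaf.PushforwardContinuous
import Mathlib.Algebra.Category.ModuleCat.Presheaf.Limits
import Mathlib.Algebra.Category.ModuleCat.Sheaf.Limits

/-!
# Inverse image of modules along a representable étale morphism is restriction

* `postAdj`: `postcomp f ⊣ bc`; `resEt`, `pullResIso`.
* `good_res`, `good_of_res`, `isQuasicoherent_res`, `isQuasicoherent_of_res`.
-/

universe u

open CategoryTheory CategoryTheory.Limits AlgebraicGeometry Opposite TensorProduct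
set_option backward.isDefEq.respectTransparency false

noncomputable section

namespace GrothLib.AlgSp.QCohEt

open _root_.AlgSp

variable {S : Scheme.{u}} {X Y : Sp S} {f : X ⟶ Y}

instance postcomp_preservesPullback (he : IsEtaleMor f) {E₁ E₂ E₀ : EtOver X} (g₁ : E₁ ⟶ E₀) (g₂ : E₂ ⟶ E₀) :
    PreservesLimit (cospan g₁ g₂) (EtOver.postcomp f he) := by
  refine preservesLimit_of_preserves_limit_cone (EtOver.pullbackIsLimit g₁ g₂)
    ((isLimitMapConePullbackConeEquiv _ _).symm ?_)
  refine PullbackCone.IsLimit.mk _
    (fun s => EtOver.homMk (pullback.lift s.fst.hom.left s.snd.hom.left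
      (congrArg (fun k => k.hom.left) s.condition)) ?_)
    (fun s => EtOver.hom_ext _ _ (pullback.lift_fst _ _ _))
    (fun s => EtOver.hom_ext _ _ (pullback.lift_snd _ _ _))
    (fun s m h₁ h₂ => EtOver.hom_ext _ _ (pullback.hom_ext
      ((congrArg (fun k => k.hom.left) h₁).trans (pullback.lift_fst _ _ _).symm)
      ((congrArg (fun k => k.hom.left) h₂).trans (pullback.lift_snd _ _ _).symm)))
  show (yon S).map _ ≫ ((yon S).map _ ≫ E₁.obj.hom) ≫ f = s.pt.obj.hom
  rw [Category.assoc, ← Category.assoc, ← Functor.map_comp, pullback.lift_fst]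
  exact EtOver.w s.fst

instance postcomp_preservesPullbacks (he : IsEtaleMor f) :
    PreservesLimitsOfShape WalkingCospan (EtOver.postcomp f he) where
  preservesLimit {K} := preservesLimit_of_iso_diagram _ (diagramIsoCospan K).symm

theorem etPre_le_comap_postcomp (he : IsEtaleMor f) : etPre X ≤ (etPre Y).comap (EtOver.postcomp f he) := by
  intro E R hR
  obtain ⟨ι, Z, g, rfl⟩ := R.exists_eq_ofArrows
  rw [Precoverage.mem_comap_iff, Presieve.map_ofArrows]
  exact (ofArrows_mem_etPre_iff _ _).2 ((ofArrows_mem_etPre_iff Z g).1 hR)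

instance postcomp_isContinuous (he : IsEtaleMor f) :
    (EtOver.postcomp f he).IsContinuous (etTop X) (etTop Y) := by
  change (EtOver.postcomp f he).IsContinuous (etPre X).toGrothendieck (etPre Y).toGrothendieck
  exact Functor.isContinuous_toGrothendieck_of_pullbacksPreservedBy _ _ _ (etPre_le_comap_postcomp he)

/-- `O_X` is the restriction of `O_Y`. -/
def resRingHom (he : IsEtaleMor f) : OEtRing X ⟶
    ((EtOver.postcomp f he).sheafPushforwardContinuous RingCat.{u + 1} (etTop X) (etTop Y)).obj (OEtRing Y) :=
  ObjectProperty.homMk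
    { app := fun E => 𝟙 _
      naturality := fun E E' g => by
        refine (Category.comp_id _).trans (Eq.trans ?_ (Category.id_comp _).symm)
        rfl }

/-- Restriction of modules along a representable étale morphism. -/
abbrev resEt (he : IsEtaleMor f) : ModEt Y ⥤ ModEt X := SheafOfModules.pushforward.{u + 1} (resRingHom he)

variable (hrep : Representable f)

theorem unit_w (U : EtOver X) :
    U.obj.hom ≫ f = (yon S).map (𝟙 U.obj.left) ≫ U.obj.hom ≫ f :=
  ((congrArg (· ≫ U.obj.hom ≫ f) ((yon S).map_id _)).trans (Category.id_comp _)).symm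

/-- The section of the base change of an object given by itself. -/
def unitHom (U : EtOver X) : U.obj.left ⟶ hrep.pullback (U.obj.hom ≫ f) :=
  hrep.lift U.obj.hom (𝟙 _) (unit_w U)

theorem unitHom_fst (U : EtOver X) :
    (yon S).map (unitHom hrep U) ≫ hrep.fst (U.obj.hom ≫ f) = U.obj.hom := hrep.lift_fst _ _ _

theorem unitHom_snd (U : EtOver X) : unitHom hrep U ≫ hrep.snd (U.obj.hom ≫ f) = 𝟙 _ := hrep.lift_snd _ _ _

/-- The unit of `postAdj`. -/
def postUnit (he : IsEtaleMor f) : 𝟭 (EtOver X) ⟶ EtOver.postcomp f he ⋙ EtOver.bc hrep where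
  app U := EtOver.homMk (E' := EtOver.bcObj hrep ((EtOver.postcomp f he).obj U)) (unitHom hrep U) (unitHom_fst hrep U)
  naturality U U' g := EtOver.hom_ext _ _ (hrep.hom_ext
    (by
      refine ((congrArg (· ≫ hrep.fst _) ((yon S).map_comp g.hom.left (unitHom hrep U'))).trans
        ((Category.assoc _ _ _).trans ((congrArg ((yon S).map g.hom.left ≫ ·) (unitHom_fst hrep U')).trans
          (EtOver.w g)))).trans ?_
      refine Eq.symm ((congrArg (· ≫ hrep.fst _) ((yon S).map_comp (unitHom hrep U)
        (EtOver.bcMap hrep ((EtOver.postcomp f he).map g)).hom.left)).trans ?_)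
      exact (Category.assoc _ _ _).trans ((congrArg ((yon S).map (unitHom hrep U) ≫ ·)
        (EtOver.map_bcMap_fst hrep ((EtOver.postcomp f he).map g))).trans (unitHom_fst hrep U)))
    (by
      refine (Category.assoc _ _ _).trans (((congrArg (g.hom.left ≫ ·) (unitHom_snd hrep U')).trans
        (Category.comp_id _)).trans ?_)
      refine Eq.symm ((Category.assoc _ _ _).trans ((congrArg (unitHom hrep U ≫ ·)
        (EtOver.bcMap_snd hrep ((EtOver.postcomp f he).map g))).trans ?_))
      exact (Category.assoc _ _ _).symm.trans ((congrArg (· ≫ g.hom.left) (unitHom_snd hrep U)).trans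
        (Category.id_comp _))))

/-- The counit of `postAdj`. -/
def postCounit (he : IsEtaleMor f) : EtOver.bc hrep ⋙ EtOver.postcomp f he ⟶ 𝟭 (EtOver Y) where
  app V := EtOver.homMk (E := (EtOver.postcomp f he).obj (EtOver.bcObj hrep V)) (EtOver.bcπ hrep V)
    (hrep.w V.obj.hom).symm
  naturality V V' g := EtOver.hom_ext _ _ (EtOver.bcMap_snd hrep g)

/-- Composition with a representable étale morphism is left adjoint to base change. -/
def postAdj (he : IsEtaleMor f) : EtOver.postcomp f he ⊣ EtOver.bc hrep where
  unit := postUnit hrep he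
  counit := postCounit hrep he
  left_triangle_components U := EtOver.hom_ext _ _ (unitHom_snd hrep U)
  right_triangle_components V := EtOver.hom_ext _ _ (hrep.hom_ext
    (by
      refine ((congrArg (· ≫ hrep.fst _) ((yon S).map_comp (unitHom hrep (EtOver.bcObj hrep V))
        (EtOver.bcMap hrep ((postCounit hrep he).app V)).hom.left)).trans ((Category.assoc _ _ _).trans
        ((congrArg ((yon S).map (unitHom hrep _) ≫ ·) (EtOver.map_bcMap_fst hrep _)).trans (unitHom_fst hrep _)))).trans ?_
      exact ((congrArg (· ≫ hrep.fst _) ((yon S).map_id _)).trans (Category.id_comp _)).symm)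
    (by
      refine ((Category.assoc _ _ _).trans ((congrArg (unitHom hrep (EtOver.bcObj hrep V) ≫ ·)
        (EtOver.bcMap_snd hrep ((postCounit hrep he).app V))).trans
        ((Category.assoc _ _ _).symm.trans ((congrArg (· ≫ EtOver.bcπ hrep V) (unitHom_snd hrep _)).trans
          (Category.id_comp _))))).trans ?_
      exact (Category.id_comp _).symm))

/-- Restriction is left adjoint to direct image. -/
def resPushAdj (he : IsEtaleMor f) : resEt he ⊣ pushModEt hrep :=
  SheafOfModules.pushforwardPushforwardAdj.{u + 1} (postAdj hrep he) (resRingHom he) (bcRingHom hrep)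
    (by
      ext V : 2
      exact (Category.comp_id _).symm)
    (by
      ext U : 2
      refine (Category.id_comp _).trans ?_
      show (BigSite.ORing Scheme.etalePrecoverage S).obj.map (hrep.snd _).op ≫
        (BigSite.ORing Scheme.etalePrecoverage S).obj.map ((postAdj hrep he).unit.app U.unop).hom.left.op = 𝟙 _
      rw [← Functor.map_comp, ← op_comp]
      refine Eq.trans ?_ ((BigSite.ORing Scheme.etalePrecoverage S).obj.map_id _)
      congr 2
      exact unitHom_snd hrep _)

/-- Inverse image along a representable étale morphism is restriction. -/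
def pullResIso (he : IsEtaleMor f) [(SheafOfModules.pushforward.{u + 1} (bcRingHom hrep)).IsRightAdjoint] :
    pullModEt hrep ≅ resEt he :=
  (pullPushAdjModEt hrep).leftAdjointUniq (resPushAdj hrep he)

instance preservesFiniteLimits_presheafPushforward (he : IsEtaleMor f) :
    PreservesFiniteLimits (PresheafOfModules.pushforward.{u + 1} (resRingHom he).hom) := by
  haveI : PreservesFiniteLimits (PresheafOfModules.pushforward.{u + 1} (resRingHom he).hom ⋙
      PresheafOfModules.toPresheaf _) :=
    preservesFiniteLimits_of_natIso (PresheafOfModules.pushforwardCompToPresheaf (resRingHom he).hom).symm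
  refine ⟨fun J _ _ => ?_⟩
  haveI : ReflectsLimitsOfShape J (PresheafOfModules.toPresheaf.{u + 1} (OEtRing X).obj) :=
    reflectsLimitsOfShape_of_reflectsIsomorphisms
  exact preservesLimitsOfShape_of_reflects_of_preserves _ (PresheafOfModules.toPresheaf.{u + 1} (OEtRing X).obj)

instance preservesFiniteLimits_resEt (he : IsEtaleMor f) : PreservesFiniteLimits (resEt he) := by
  haveI : PreservesFiniteLimits (resEt he ⋙ SheafOfModules.forget (OEtRing X)) :=
    @comp_preservesFiniteLimits _ _ _ _ _ _ (SheafOfModules.forget.{u + 1} (OEtRing Y))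
      (PresheafOfModules.pushforward.{u + 1} (resRingHom he).hom) inferInstance
      (preservesFiniteLimits_presheafPushforward he)
  exact ⟨fun J _ _ => preservesLimitsOfShape_of_reflects_of_preserves (resEt he)
    (SheafOfModules.forget (OEtRing X))⟩

theorem exists_over_lift (he : IsEtaleMor f) {E : EtOver X} (V' : Over ((EtOver.postcomp f he).obj E)) :
    ∃ V : Over E, Over.mk ((EtOver.postcomp f he).map V.hom) = V' := by
  obtain ⟨⟨⟨W, ⟨⟨⟩⟩, a⟩, ha⟩, ⟨⟨⟩⟩, g⟩ := V'
  obtain ⟨k, hk⟩ : ∃ k : W ⟶ E.obj.left, g.hom.left = k := ⟨_, rfl⟩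
  have he0 : RepWith @Etale ((yon S).map k ≫ E.obj.hom) :=
    (repWith_isMultiplicative (S := S) @Etale).comp_mem _ _
      ((repWith_yon_map_iff _ _).2 (by rw [← hk]; exact EtOver.etale_left g)) E.property
  obtain rfl : a = ((yon S).map k ≫ E.obj.hom) ≫ f := by
    rw [Category.assoc, ← hk]; exact (EtOver.w g).symm
  exact ⟨Over.mk (Y := EtOver.mk ((yon S).map k ≫ E.obj.hom) he0) (EtOver.homMk k rfl),
    congrArg Over.mk (EtOver.hom_ext _ _ hk.symm)⟩

theorem good_res (he : IsEtaleMor f) (M : ModEt Y) {E : EtOver X}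
    (h : Good (O := OEt Y) M (affEt Y) ((EtOver.postcomp f he).obj E)) :
    Good (O := OEt X) ((resEt he).obj M) (affEt X) E := by
  intro V hV
  exact h (Over.mk ((EtOver.postcomp f he).map V.hom)) hV

theorem good_of_res (he : IsEtaleMor f) (M : ModEt Y) {E : EtOver X}
    (h : Good (O := OEt X) ((resEt he).obj M) (affEt X) E) :
    Good (O := OEt Y) M (affEt Y) ((EtOver.postcomp f he).obj E) := by
  intro V' hV'
  obtain ⟨V, rfl⟩ := exists_over_lift he V'
  exact h V hV'

theorem isQuasicoherent_res (he : IsEtaleMor f) (M : ModEt Y) [M.IsQuasicoherent] :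
    ((resEt he).obj M).IsQuasicoherent :=
  isQuasicoherent_of_good _ fun E hE =>
    good_res he M (good_of_isQuasicoherent M (E := (EtOver.postcomp f he).obj E) hE)

/-- Quasi-coherence descends along a surjective representable étale morphism. -/
theorem isQuasicoherent_of_res (he : IsEtaleMor f) (hs : RepWith @Surjective f) (M : ModEt Y)
    [((resEt he).obj M).IsQuasicoherent] : M.IsQuasicoherent := by
  refine isQuasicoherent_of_good _ fun E hE => ?_
  let hrep := hs.1
  let B := EtOver.bcObj hrep E
  haveI hπ : Surjective (EtOver.bcπ hrep E).left :=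
    hs.2 _ _ _ (EtOver.isPullback_bcObj hrep E)
  choose O hO hxO _ using fun b : ↥B.obj.left.left => exists_isAffineOpen_mem_and_subset (x := b)
      (U := (⊤ : B.obj.left.left.Opens)) trivial
  let z : ∀ b, (EtOver.postcomp f he).obj (opensObj B (O b)) ⟶ E := fun b =>
    (EtOver.postcomp f he).map (opensInc B (O b)) ≫ (postAdj hrep he).counit.app E
  refine good_of_cover (O := OEt Y) M (affEt Y) hE
    (T := Sieve.ofArrows (fun b => (EtOver.postcomp f he).obj (opensObj B (O b))) z) ?_ ?_
  · refine ofArrows_mem_etTop _ _ fun x => ?_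
    obtain ⟨b, hb⟩ := hπ.surj x
    exact ⟨b, ⟨b, hxO b⟩, hb⟩
  · intro Z g hZ hg
    obtain ⟨_, a, _, ⟨b⟩, -⟩ := hg
    obtain ⟨V, hV⟩ := exists_over_lift he (Over.mk a)
    have hl : (EtOver.postcomp f he).obj V.left = Z := congrArg (fun W => W.left) hV
    subst hl
    exact good_of_res he M (good_of_isQuasicoherent ((resEt he).obj M) (E := V.left) hZ)

end GrothLib.AlgSp.QCohEt
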