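import Groth.Agent.Lib.AlgSp.NormUniv
import Groth.Agent.Lib.AlgSp.FpqcProps

/-!
# Basic properties of normalizations stable under etale base change

* `UnivNorm.isRelNormalization`, `UnivNorm.of_isPullback`, `univNorm_of_cover`, `exists_univNorm_affine`;
* `isRelNormalization_iso`: normalizations are unique.
-/

set_option autoImplicit false
universe u
open CategoryTheory CategoryTheory.Limits AlgebraicGeometry
set_option backward.isDefEq.respectTransparency false

namespace GrothLib.AlgSp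

open _root_.AlgSp

variable {S : Scheme.{u}} {F G N : Sp S} {f : F ⟶ G} {ν : N ⟶ G} {φ : F ⟶ N}

theorem isQuasiCompactMor_of_isPullback' {F' G' : Sp S} {w : G' ⟶ G} {a : F' ⟶ F} {f' : F' ⟶ G'}
    (sq : IsPullback a f' f w) (h : IsQuasiCompactMor f) : IsQuasiCompactMor f' :=
  fun _ _ hZ hc g _ snd sq' => h hZ hc (g ≫ w) _ snd (sq'.paste_horiz sq)

theorem isQuasiSeparatedMor_of_isPullback' {F' G' : Sp S} {w : G' ⟶ G} {a : F' ⟶ F} {f' : F' ⟶ G'}
    (sq : IsPullback a f' f w) (h : IsQuasiSeparatedMor f) : IsQuasiSeparatedMor f' :=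
  repWith_of_isPullback (isPullback_diagonal_of_isPullback sq) h

theorem UnivNorm.isRelNormalization (h : UnivNorm f ν φ) (hG : IsAlgSpace G) : IsRelNormalization f ν φ := by
  obtain ⟨ι, W, r, hW, hr, hcov, -⟩ := exists_affine_charts hG
  refine ⟨h.1, h.2.1, fun Z _ π g hπ hg => ?_⟩
  exact existsUnique_of_good hG h.1 h.2.1 W r hr hcov (fun i T t hT ht =>
    h.2.2 hT _ (repWith_comp ((repWith_yon_map_iff _ t).2 ht) (hr i))) hW π g hπ hg

/-- Goodness passes through a cartesian base change. -/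
theorem IsGoodAt.of_isPullback {F' G' N' : Sp S} {w : G' ⟶ G} {a : F' ⟶ F} {f' : F' ⟶ G'} {b : N' ⟶ N}
    {ν' : N' ⟶ G'} {φ' : F' ⟶ N'} (sqF : IsPullback a f' f w) (sqN : IsPullback b ν' ν w)
    (hφ : φ' ≫ b = a ≫ φ) {V : Over S} {v : (yon S).obj V ⟶ G'} (h : IsGoodAt f ν φ (v ≫ w)) :
    IsGoodAt f' ν' φ' v := by
  intro P' M a' q b' μ sqP sqM ψ h₁ h₂
  exact h (sqP.paste_horiz sqF) (sqM.paste_horiz sqN) ψ
    (by rw [← Category.assoc, h₁, Category.assoc, hφ, Category.assoc]) h₂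

/-- Normalizations stable under etale base change are stable under etale base change. -/
theorem UnivNorm.of_isPullback (h : UnivNorm f ν φ) {F' G' N' : Sp S} {w : G' ⟶ G} (hw : IsEtaleMor w)
    {a : F' ⟶ F} {f' : F' ⟶ G'} {b : N' ⟶ N} {ν' : N' ⟶ G'} {φ' : F' ⟶ N'} (sqF : IsPullback a f' f w)
    (sqN : IsPullback b ν' ν w) (h₁ : φ' ≫ b = a ≫ φ) (h₂ : φ' ≫ ν' = f') : UnivNorm f' ν' φ' :=
  ⟨h₂, isIntegralMor_iff.2 (repWith_of_isPullback sqN (isIntegralMor_iff.1 h.2.1)),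
    fun hV v hv => (h.2.2 hV (v ≫ w) (hw v hv)).of_isPullback sqF sqN h₁⟩

/-- Being a normalization stable under etale base change is etale local on the base. -/
theorem univNorm_of_cover (hG : IsAlgSpace G) (hc : φ ≫ ν = f) (hν : IsIntegralMor ν) {ι : Type u}
    (W : ι → Over S) (r : ∀ i, (yon S).obj (W i) ⟶ G) (hr : ∀ i, RepWith @Etale (r i))
    (hcov : ∀ x : Points G, ∃ i w, Points.ofPt (r i) w = x)
    (hgood : ∀ (i : ι) (T : Over S) (t : T ⟶ W i), IsAffine T.left → Etale t.left →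
      IsGoodAt f ν φ ((yon S).map t ≫ r i)) : UnivNorm f ν φ := by
  refine ⟨hc, hν, fun {V} hV v hv => ?_⟩
  intro P' M a q b μ sqP sqM φ' h₁ h₂ Z π hπ g hg
  choose Q q₁ q₂ sqQ using fun i => exists_isPullback_yon hG.diag v (r i)
  have he₁ : ∀ i, Etale (q₁ i).left := fun i =>
    (repWith_yon_map_iff _ _).1 (repWith_of_isPullback (sqQ i).flip (hr i))
  have he₂ : ∀ i, Etale (q₂ i).left := fun i =>
    (repWith_yon_map_iff _ _).1 (repWith_of_isPullback (sqQ i) hv)
  let κ := Σ i, (Q i).left.affineCover.I₀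
  let V' : κ → Over S := fun p => Over.mk ((Q p.1).left.affineCover.f p.2 ≫ (Q p.1).hom)
  let j : ∀ p : κ, V' p ⟶ Q p.1 := fun p => Over.homMk ((Q p.1).left.affineCover.f p.2) rfl
  have hcov' : ∀ x : Points ((yon S).obj V), ∃ (p : κ) (w : ↥(V' p).left),
      Points.ofPt ((yon S).map (j p ≫ q₁ p.1)) w = x := by
    intro x
    obtain ⟨i, w, hw⟩ := hcov (Points.map v x)
    rw [Points.ofPt_eq_map_ofScheme] at hw
    obtain ⟨p, hp, -⟩ := exists_of_isPullback (sqQ i) hw.symm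
    obtain ⟨m, rfl⟩ := (Points.schemeEquiv (Q i)).surjective p
    obtain ⟨l, t, ht⟩ := (Q i).left.affineCover.exists_eq m
    refine ⟨⟨i, l⟩, t, ?_⟩
    rw [Functor.map_comp, ofPt_map_comp, show (j ⟨i, l⟩).left t = m from ht, Points.ofPt_eq_map_ofScheme]
    exact hp
  have hμ : IsIntegralMor ((yon S).map μ) :=
    isIntegralMor_iff.2 (repWith_of_isPullback sqM (isIntegralMor_iff.1 hν))
  obtain ⟨h, ⟨hh₁, hh₂⟩, hu⟩ := existsUnique_of_good (IsAlgSpace.yon_obj V) h₂ hμ V'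
    (fun p => (yon S).map (j p ≫ q₁ p.1))
    (fun p => (repWith_yon_map_iff _ _).2 (by
      haveI := he₁ p.1
      exact inferInstanceAs (Etale ((Q p.1).left.affineCover.f p.2 ≫ (q₁ p.1).left))))
    hcov' (fun p T t hT ht => IsGoodAt.of_isPullback sqP sqM h₁ (by
      have := hgood p.1 T (t ≫ j p ≫ q₂ p.1) hT (by
        haveI := he₂ p.1
        haveI := ht
        exact inferInstanceAs (Etale (t.left ≫ (Q p.1).left.affineCover.f p.2 ≫ (q₂ p.1).left)))
      simpa only [Functor.map_comp, Category.assoc, ← (sqQ p.1).w] using this))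
    (fun p => inferInstanceAs (IsAffine ((Q p.1).left.affineCover.X p.2)))
    ((yon S).map π) g (isIntegralMor_iff.2 ((repWith_yon_map_iff _ π).2 hπ)) hg
  obtain ⟨h, rfl⟩ := (yon S).map_surjective h
  refine ⟨h, ⟨hh₁, (yon S).map_injective (by rw [Functor.map_comp, hh₂])⟩, fun h' ⟨e₁, e₂⟩ => ?_⟩
  exact (yon S).map_injective (hu _ ⟨e₁, by rw [← Functor.map_comp, e₂]⟩)

/-- Over an affine scheme normalizations exist and commute with smooth base change. -/
theorem exists_univNorm_affine_smooth {U : Over S} [IsAffine U.left] {P : Sp S} (hP : IsAlgSpace P)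
    (p : P ⟶ (yon S).obj U) (hqc : IsQuasiCompactMor p) (hqs : IsQuasiSeparatedMor p) :
    ∃ (M : Over S) (ν : M ⟶ U) (φ : P ⟶ (yon S).obj M), UnivNorm p ((yon S).map ν) φ ∧
      ∀ {V : Over S}, IsAffine V.left → ∀ (v : V ⟶ U), Smooth v.left →
        IsGoodAt p ((yon S).map ν) φ ((yon S).map v) := by
  obtain ⟨R, sR, ⟨e⟩⟩ := exists_specIso_of_affine (Q := U) inferInstance
  have sqe : IsPullback (𝟙 P) (p ≫ (yon S).map e.inv) p ((yon S).map e.hom) :=
    IsPullback.of_horiz_isIso ⟨by rw [Category.id_comp, Category.assoc, ← Functor.map_comp, e.inv_hom_id,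
      CategoryTheory.Functor.map_id, Category.comp_id]⟩
  obtain ⟨M, ν, φ, hν, hc, hgood⟩ := exists_affine_norm_spec hP (p ≫ (yon S).map e.inv)
    (isQuasiCompactMor_of_isPullback' sqe hqc) (isQuasiSeparatedMor_of_isPullback' sqe hqs)
  suffices hg : ∀ {V : Over S}, IsAffine V.left → ∀ (v : V ⟶ U), Smooth v.left →
      IsGoodAt p ((yon S).map (ν ≫ e.hom)) φ ((yon S).map v) by
    refine ⟨M, ν ≫ e.hom, φ, ⟨?_, ?_, fun {V} hV v hv => ?_⟩, hg⟩
    · rw [Functor.map_comp, ← Category.assoc, hc, Category.assoc, ← Functor.map_comp, e.inv_hom_id,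
        CategoryTheory.Functor.map_id, Category.comp_id]
    · refine isIntegralMor_iff.2 ((repWith_yon_map_iff _ _).2 ?_)
      show IsIntegralHom (ν ≫ e.hom).left
      rw [Over.comp_left]
      infer_instance
    · obtain ⟨v, rfl⟩ := (yon S).map_surjective v
      haveI := (repWith_yon_map_iff _ v).1 hv
      exact hg hV v inferInstance
  intro V hV v hv P' M' a q b μ sqP sqM φ' h₁ h₂
  obtain ⟨b, rfl⟩ := (yon S).map_surjective b
  have hve : Smooth (v ≫ e.inv).left := by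
    haveI := hv
    rw [Over.comp_left]
    infer_instance
  refine hgood (v ≫ e.inv) hV hve ?_ ?_ φ' h₁ h₂
  · exact sqP.of_iso (Iso.refl _) (Iso.refl _) (Iso.refl _) ((yon S).mapIso e.symm) (by simp) (by simp)
      (by simp) (by simp)
  · have sq₀ := IsPullback.of_map (yon S) ((yon S).map_injective (by simpa only [Functor.map_comp] using sqM.w)) sqM
    exact sq₀.of_iso (Iso.refl _) (Iso.refl _) (Iso.refl _) e.symm (by simp) (by simp) (by simp) (by simp)

/-- Over an affine scheme normalizations exist. -/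
theorem exists_univNorm_affine {U : Over S} [IsAffine U.left] {P : Sp S} (hP : IsAlgSpace P)
    (p : P ⟶ (yon S).obj U) (hqc : IsQuasiCompactMor p) (hqs : IsQuasiSeparatedMor p) :
    ∃ (M : Over S) (ν : M ⟶ U) (φ : P ⟶ (yon S).obj M), UnivNorm p ((yon S).map ν) φ := by
  obtain ⟨M, ν, φ, h, -⟩ := exists_univNorm_affine_smooth hP p hqc hqs
  exact ⟨M, ν, φ, h⟩

/-- Two normalizations are canonically isomorphic. -/
theorem isRelNormalization_iso {N' : Sp S} {ν' : N' ⟶ G} {φ' : F ⟶ N'} (h : IsRelNormalization f ν φ)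
    (h' : IsRelNormalization f ν' φ') (hN : IsAlgSpace N) (hN' : IsAlgSpace N') :
    ∃ e : N ≅ N', φ ≫ e.hom = φ' ∧ e.hom ≫ ν' = ν := by
  obtain ⟨a, ⟨ha₁, ha₂⟩, -⟩ := h.2.2 hN' ν' φ' h'.2.1 h'.1
  obtain ⟨b, ⟨hb₁, hb₂⟩, -⟩ := h'.2.2 hN ν φ h.2.1 h.1
  refine ⟨⟨a, b, ?_, ?_⟩, ha₁, ha₂⟩
  · exact (h.2.2 hN ν φ h.2.1 h.1).unique ⟨by rw [← Category.assoc, ha₁, hb₁], by rw [Category.assoc, hb₂, ha₂]⟩
      ⟨Category.comp_id _, Category.id_comp _⟩
  · exact (h'.2.2 hN' ν' φ' h'.2.1 h'.1).unique ⟨by rw [← Category.assoc, hb₁, ha₁], by rw [Category.assoc, ha₂, hb₂]⟩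
      ⟨Category.comp_id _, Category.id_comp _⟩

/-- Universality is invariant under isomorphisms of `N`. -/
theorem UnivNorm.of_iso (h : UnivNorm f ν φ) {N' : Sp S} {ν' : N' ⟶ G} {φ' : F ⟶ N'} (e : N ≅ N')
    (h₁ : φ ≫ e.hom = φ') (h₂ : e.hom ≫ ν' = ν) : UnivNorm f ν' φ' := by
  have sq : IsPullback e.inv ν' ν (𝟙 G) := IsPullback.of_horiz_isIso ⟨by
    rw [Category.comp_id, ← h₂, e.inv_hom_id_assoc]⟩
  refine ⟨?_, isIntegralMor_iff.2 (repWith_of_isPullback sq (isIntegralMor_iff.1 h.2.1)), fun hV v hv => ?_⟩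
  · rw [← h₁, Category.assoc, h₂, h.1]
  · exact IsGoodAt.of_isPullback (IsPullback.of_horiz_isIso ⟨by rw [Category.comp_id, Category.id_comp]⟩ :
      IsPullback (𝟙 F) f f (𝟙 G)) sq (by rw [Category.id_comp, ← h₁, Category.assoc, e.hom_inv_id, Category.comp_id])
      (by rw [Category.comp_id]; exact h.2.2 hV v hv)

end GrothLib.AlgSp
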