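import Groth.Agent.Lib.AlgSp.QCohPushAff
import Groth.Agent.Lib.AlgSp.NormBasic
import Mathlib.RingTheory.TensorProduct.Pi

/-!
# Direct images of quasi-coherent modules along quasi-compact quasi-separated morphisms

* `bijective_mu`: sections on affine objects over a base change, after flat base change.
* `good_push_qcqs`: sections of direct images over affine objects are base changes.
-/

universe u

open CategoryTheory CategoryTheory.Limits AlgebraicGeometry Opposite TensorProduct
set_option backward.isDefEq.respectTransparency false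

noncomputable section

namespace GrothLib.AlgSp.QCohEt

open _root_.AlgSp

variable {S : Scheme.{u}} {X Y : Sp S} {f : X ⟶ Y} (hf : Representable f) (M : ModEt X) {E : EtOver Y}
  {L L' : EtOver X} (lam : L ⟶ EtOver.bcObj hf E) (lam' : L' ⟶ EtOver.bcObj hf E)

/-- Sections over an object over a base change, as a module over functions downstairs. -/
def SecL (_lam : L ⟶ EtOver.bcObj hf E) : Type (u + 1) := Sec (O := OEt X) M L

instance : AddCommGroup (SecL hf M lam) := inferInstanceAs (AddCommGroup (Sec (O := OEt X) M L))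

instance : Module (Ob (OEt Y) E) (SecL hf M lam) :=
  Module.compHom (Sec (O := OEt X) M L) ((res (OEt X) lam).comp (bcF hf E))

instance instModuleSecLTop : Module (Ob (OEt X) L) (SecL hf M lam) :=
  inferInstanceAs (Module (Ob (OEt X) L) (Sec (O := OEt X) M L))

/-- Restriction from the base change. -/
def rlE : Sec (O := OEt Y) ((pushModEt hf).obj M) E →ₗ[Ob (OEt Y) E] SecL hf M lam where
  toFun m := mres (O := OEt X) M lam m
  map_add' := map_add _
  map_smul' a m := mres_smul (O := OEt X) M lam (bcF hf E a) m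

/-- Restriction between objects over the base change. -/
def rl (n : L' ⟶ L) (h : n ≫ lam = lam') : SecL hf M lam →ₗ[Ob (OEt Y) E] SecL hf M lam' where
  toFun m := mres (O := OEt X) M n m
  map_add' := map_add _
  map_smul' a m := by
    show mres (O := OEt X) M n (res (OEt X) lam (bcF hf E a) • (show Sec (O := OEt X) M L from m)) =
      res (OEt X) lam' (bcF hf E a) • mres (O := OEt X) M n m
    rw [mres_smul, ← res_comp, h]

variable (V : Over E)

/-- The part over an object downstairs. -/
abbrev part : EtOver X := EtOver.pullbackObj lam (EtOver.bcMap hf V.hom)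

theorem bcF_res' {E₁ E₂ : EtOver Y} (g : E₂ ⟶ E₁) (a : Ob (OEt Y) E₁) :
    bcF hf E₂ (res (OEt Y) g a) = res (OEt X) (EtOver.bcMap hf g) (bcF hf E₁ a) :=
  RingHom.congr_fun (congrArg RingCat.Hom.hom ((bcRingHom hf).hom.naturality g.op)) a

/-- The comparison map for a member. -/
def mu : Ov (OEt Y) V ⊗[Ob (OEt Y) E] SecL hf M lam →+ Sec (O := OEt X) M (part hf lam V) :=
  TensorProduct.liftAddHom
    { toFun := fun b =>
        { toFun := fun m => res (OEt X) (EtOver.pullbackSnd lam (EtOver.bcMap hf V.hom)) (bcF hf V.left b) •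
              mres (O := OEt X) M (EtOver.pullbackFst lam (EtOver.bcMap hf V.hom)) m
          map_zero' := (congrArg (_ • ·) (map_zero _)).trans (smul_zero _)
          map_add' := fun m m' => (congrArg (_ • ·) (map_add _ m m')).trans (smul_add _ _ _) }
      map_zero' := AddMonoidHom.ext fun m =>
        (congrArg (· • _) ((congrArg _ (map_zero _)).trans (map_zero _))).trans (zero_smul _ _)
      map_add' := fun b b' => AddMonoidHom.ext fun m =>
        (congrArg (· • _) ((congrArg _ (map_add _ b b')).trans (map_add _ _ _))).trans (add_smul _ _ _) }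
    (fun a b m => by
      let p := EtOver.pullbackFst lam (EtOver.bcMap hf V.hom)
      let p' := EtOver.pullbackSnd lam (EtOver.bcMap hf V.hom)
      show res (OEt X) p' (bcF hf V.left (res (OEt Y) V.hom a * (show Ob (OEt Y) V.left from b))) •
          mres (O := OEt X) M p m =
        res (OEt X) p' (bcF hf V.left b) •
          mres (O := OEt X) M p (res (OEt X) lam (bcF hf E a) • (show Sec (O := OEt X) M L from m))
      rw [map_mul, map_mul, bcF_res', mres_smul, ← res_comp, ← res_comp, EtOver.pullback_condition, smul_smul,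
        mul_comm])

theorem mu_tmul (b : Ov (OEt Y) V) (m : SecL hf M lam) :
    mu hf M lam V (b ⊗ₜ m) = res (OEt X) (EtOver.pullbackSnd lam (EtOver.bcMap hf V.hom)) (bcF hf V.left b) •
      mres (O := OEt X) M (EtOver.pullbackFst lam (EtOver.bcMap hf V.hom)) m := rfl

/-- The map between parts. -/
def partMap (n : L' ⟶ L) (h : n ≫ lam = lam') : part hf lam' V ⟶ part hf lam V :=
  (EtOver.isPullback lam (EtOver.bcMap hf V.hom)).lift (EtOver.pullbackFst lam' _ ≫ n) (EtOver.pullbackSnd lam' _)
    (by rw [Category.assoc, h, EtOver.pullback_condition])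

theorem mu_rl (n : L' ⟶ L) (h : n ≫ lam = lam') (z : Ov (OEt Y) V ⊗[Ob (OEt Y) E] SecL hf M lam) :
    mu hf M lam' V ((rl hf M lam lam' n h).lTensor _ z) =
      mres (O := OEt X) M (partMap hf lam lam' V n h) (mu hf M lam V z) := by
  induction z using TensorProduct.induction_on with
  | zero => simp
  | add a b ha hb => simp only [map_add, ha, hb]
  | tmul b m =>
    rw [LinearMap.lTensor_tmul, mu_tmul, mu_tmul, mres_smul, ← res_comp, ← mres_comp, partMap, IsPullback.lift_fst,
      IsPullback.lift_snd, mres_comp]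
    rfl

theorem mu_rlE (z : Ov (OEt Y) V ⊗[Ob (OEt Y) E] Sec (O := OEt Y) ((pushModEt hf).obj M) E) :
    mu hf M lam V ((rlE hf M lam).lTensor _ z) =
      mres (O := OEt X) M (EtOver.pullbackSnd lam (EtOver.bcMap hf V.hom))
        (theta (LinearMap.id : Sec (O := OEt Y) ((pushModEt hf).obj M) E →ₗ[Ob (OEt Y) E] _) V z) := by
  induction z using TensorProduct.induction_on with
  | zero => simp only [map_zero]
  | add a b ha hb => simp only [map_add, ha, hb]
  | tmul b m =>
    rw [LinearMap.lTensor_tmul, mu_tmul, theta_tmul]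
    refine Eq.trans ?_ (mres_smul (O := OEt X) M (EtOver.pullbackSnd lam (EtOver.bcMap hf V.hom)) (bcF hf V.left b)
      (mres (O := OEt X) M (EtOver.bcMap hf V.hom) m)).symm
    rw [← mres_comp, ← EtOver.pullback_condition, mres_comp]
    rfl

/-- Sections on the part of an affine member are base changes. -/
theorem bijective_mu [M.IsQuasicoherent] (hE : IsAffine E.obj.left.left) (hV : IsAffine V.left.obj.left.left)
    (hL : IsAffine L.obj.left.left) : Function.Bijective (mu hf M lam V) := by
  haveI := hE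
  haveI := hV
  haveI := hL
  let g := V.hom
  let p := EtOver.pullbackFst lam (EtOver.bcMap hf g)
  let p' := EtOver.pullbackSnd lam (EtOver.bcMap hf g)
  let P := part hf lam V
  have sq1 : IsPullback p.hom.left.left p'.hom.left.left lam.hom.left.left (EtOver.bcMap hf g).hom.left.left :=
    (IsPullback.of_hasPullback lam.hom.left (EtOver.bcMap hf g).hom.left).map (Over.forget S)
  have sq := (sq1.paste_vert (EtOver.isPullback_bcMap_left hf g)).flip
  haveI : IsAffineHom (lam.hom.left.left ≫ (EtOver.bcπ hf E).left) := isAffineHom_of_isAffine _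
  haveI hP : IsAffine P.obj.left.left := .of_isPullback sq
  let A := Ob (OEt Y) E
  let B := Ob (OEt X) L
  let W : Over L := Over.mk p
  let A₀ := Γ(E.obj.left.left, ⊤)
  let S₀ := Γ(V.left.obj.left.left, ⊤)
  let B₀ := Γ(L.obj.left.left, ⊤)
  let Q₀ := Γ(P.obj.left.left, ⊤)
  letI : Algebra A₀ S₀ := g.hom.left.left.appTop.hom.toAlgebra
  letI : Algebra A₀ B₀ := (lam.hom.left.left ≫ (EtOver.bcπ hf E).left).appTop.hom.toAlgebra
  letI : Algebra S₀ Q₀ := (p'.hom.left.left ≫ (EtOver.bcπ hf V.left).left).appTop.hom.toAlgebra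
  letI : Algebra B₀ Q₀ := p.hom.left.left.appTop.hom.toAlgebra
  letI : Algebra A₀ Q₀ :=
    (g.hom.left.left.appTop ≫ (p'.hom.left.left ≫ (EtOver.bcπ hf V.left).left).appTop).hom.toAlgebra
  haveI : IsScalarTower A₀ S₀ Q₀ := IsScalarTower.of_algebraMap_eq fun _ => rfl
  have hpo := isPushout_appTop_of_isPullback sq
  haveI : IsScalarTower A₀ B₀ Q₀ := IsScalarTower.of_algebraMap_eq fun r => congrArg (fun q => q.hom r) hpo.w
  haveI : Algebra.IsPushout A₀ S₀ B₀ Q₀ := CommRingCat.isPushout_iff_isPushout.1 hpo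
  letI : Algebra A B := ((res (OEt X) lam).comp (bcF hf E)).toAlgebra
  letI : Algebra (Ov (OEt Y) V) (Ov (OEt X) W) := ((res (OEt X) p').comp (bcF hf V.left)).toAlgebra
  letI : Algebra A (Ov (OEt X) W) :=
    (((res (OEt X) p').comp (bcF hf V.left)).comp (algebraMap A (Ov (OEt Y) V))).toAlgebra
  haveI : IsScalarTower A (Ov (OEt Y) V) (Ov (OEt X) W) := IsScalarTower.of_algebraMap_eq fun _ => rfl
  haveI : IsScalarTower A B (Ov (OEt X) W) := IsScalarTower.of_algebraMap_eq fun r => by
    apply ULift.ext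
    exact congrArg (fun q => q.hom r.down) hpo.w
  haveI : Algebra.IsPushout A (Ov (OEt Y) V) B (Ov (OEt X) W) :=
    isPushout_transport (A := A₀) (B := S₀) (B' := B₀) (Q := Q₀) ULift.ringEquiv ULift.ringEquiv ULift.ringEquiv
      ULift.ringEquiv (fun _ => rfl) (fun _ => rfl) (fun _ => rfl) (fun _ => rfl)
  let N := SecL hf M lam
  letI : Module B N := instModuleSecLTop hf M lam
  haveI : IsScalarTower A B N := IsScalarTower.of_algebraMap_smul fun _ _ => rfl
  let e := Algebra.IsPushout.cancelBaseChange A (Ov (OEt Y) V) B (Ov (OEt X) W) N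
  have hgood := good_of_isQuasicoherent M hL W hP
  have h : ∀ z, theta (LinearMap.id : Sec (O := OEt X) M L →ₗ[B] _) W (e.symm z) = mu hf M lam V z := by
    intro z
    induction z using TensorProduct.induction_on with
    | zero =>
      exact (congrArg _ (map_zero e.symm)).trans ((map_zero _).trans (map_zero (mu hf M lam V)).symm)
    | add a b ha hb =>
      exact (congrArg _ (map_add e.symm a b)).trans ((map_add _ _ _).trans
        ((congrArg₂ (· + ·) ha hb).trans (map_add (mu hf M lam V) a b).symm))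
    | tmul s m =>
      rw [Algebra.IsPushout.cancelBaseChange_symm_tmul]
      rfl
  exact (funext h : _ = ⇑(mu hf M lam V)) ▸ (hgood.comp e.symm.bijective :
    Function.Bijective fun z => theta (LinearMap.id : Sec (O := OEt X) M L →ₗ[B] _) W (e.symm z))

/-- Inclusions of opens as morphisms of the site. -/
theorem exists_opens_map (T : EtOver X) {U U' : T.obj.left.left.Opens} (h : U ≤ U') :
    ∃ n : opensObj T U ⟶ opensObj T U', n ≫ opensInc T U' = opensInc T U := by
  let q : Over.mk (U.ι ≫ T.obj.left.hom) ⟶ Over.mk (U'.ι ≫ T.obj.left.hom) :=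
    Over.homMk (T.obj.left.left.homOfLE h) (Scheme.homOfLE_ι_assoc _ h _)
  let i' : Over.mk (U'.ι ≫ T.obj.left.hom) ⟶ T.obj.left := Over.homMk U'.ι rfl
  let i : Over.mk (U.ι ≫ T.obj.left.hom) ⟶ T.obj.left := Over.homMk U.ι rfl
  have hq : q ≫ i' = i := Over.OverMorphism.ext (Scheme.homOfLE_ι _ h)
  exact ⟨EtOver.homMk q ((Category.assoc _ _ _).symm.trans (congrArg (· ≫ T.obj.hom)
    (((yon S).map_comp q i').symm.trans (congrArg (yon S).map hq)))), EtOver.hom_ext _ _ hq⟩

/-- Inclusions of opens are monomorphisms. -/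
theorem cancel_opensInc (T : EtOver X) (U : T.obj.left.left.Opens) {C : EtOver X} {g g' : C ⟶ opensObj T U}
    (h : g ≫ opensInc T U = g' ≫ opensInc T U) : g = g' :=
  EtOver.hom_ext _ _ (Over.OverMorphism.ext ((cancel_mono U.ι).1
    (congrArg (fun k : C ⟶ T => k.hom.left.left) h)))

/-- A pullback of schemes has points over compatible points. -/
theorem exists_point_isPullback {P A B C : Scheme.{u}} {fst : P ⟶ A} {snd : P ⟶ B} {a : A ⟶ C} {b : B ⟶ C}
    (sq : IsPullback fst snd a b) {x : A} {y : B} (h : a x = b y) : ∃ z : P, fst z = x ∧ snd z = y := by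
  obtain ⟨t, h₁, h₂⟩ := Scheme.Pullback.exists_preimage_pullback (f := a) (g := b) x y h
  refine ⟨sq.isoPullback.inv t, ?_, ?_⟩
  · rw [← Scheme.Hom.comp_apply, IsPullback.isoPullback_inv_fst, h₁]
  · rw [← Scheme.Hom.comp_apply, IsPullback.isoPullback_inv_snd, h₂]

section Members

variable {ι J : Type u} (Lk : ι → EtOver X) (lk : ∀ k, Lk k ⟶ EtOver.bcObj hf E) (Nj : J → EtOver X)
  (nj : ∀ j, Nj j ⟶ EtOver.bcObj hf E) (k₁ k₂ : J → ι) (a : ∀ j, Nj j ⟶ Lk (k₁ j)) (b : ∀ j, Nj j ⟶ Lk (k₂ j))
  (ha : ∀ j, a j ≫ lk (k₁ j) = nj j) (hb : ∀ j, b j ≫ lk (k₂ j) = nj j)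

/-- Restrictions to the members. -/
def memEps : Sec (O := OEt Y) ((pushModEt hf).obj M) E →ₗ[Ob (OEt Y) E] (∀ k, SecL hf M (lk k)) :=
  LinearMap.pi fun k => rlE hf M (lk k)

/-- The difference on the overlaps. -/
def memDelta : (∀ k, SecL hf M (lk k)) →ₗ[Ob (OEt Y) E] (∀ j, SecL hf M (nj j)) :=
  LinearMap.pi fun j => (rl hf M (lk (k₁ j)) (nj j) (a j) (ha j)).comp (LinearMap.proj (k₁ j)) -
    (rl hf M (lk (k₂ j)) (nj j) (b j) (hb j)).comp (LinearMap.proj (k₂ j))

variable (hcov : Sieve.ofArrows Lk lk ∈ etTop X (EtOver.bcObj hf E))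
include hcov

theorem memEps_injective : Function.Injective (memEps hf M Lk lk) :=
  fun m m' h => sec_ext_fam (O := OEt X) M lk hcov fun k => congrFun h k

theorem exact_members
    (hglue : ∀ y : ∀ k, Sec (O := OEt X) M (Lk k),
      (∀ j, mres (O := OEt X) M (a j) (y (k₁ j)) = mres (O := OEt X) M (b j) (y (k₂ j))) →
      ∀ (k l : ι) (C : EtOver X) (c : C ⟶ Lk k) (c' : C ⟶ Lk l), c ≫ lk k = c' ≫ lk l →
        mres (O := OEt X) M c (y k) = mres (O := OEt X) M c' (y l)) :
    Function.Exact (memEps hf M Lk lk) (memDelta hf M Lk lk Nj nj k₁ k₂ a b ha hb) := by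
  intro y
  constructor
  · intro hy
    have hF : Presieve.IsSheafFor (M.val.presheaf ⋙ CategoryTheory.forget AddCommGrpCat.{u + 1})
        (Presieve.ofArrows Lk lk) := by
      have h := (isSheaf_iff_isSheaf_of_type _ _).1
        ((Presheaf.isSheaf_iff_isSheaf_forget (etTop X) M.val.presheaf (CategoryTheory.forget AddCommGrpCat.{u + 1})).1
          M.isSheaf) _ hcov
      rwa [Sieve.ofArrows, ← Presieve.isSheafFor_iff_generate] at h
    obtain ⟨s, hs, -⟩ := (Presieve.isSheafFor_arrows_iff _ _).1 hF (fun k => (y k : Sec (O := OEt X) M (Lk k)))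
      (fun k l C c c' hcc => hglue (fun k => (y k : Sec (O := OEt X) M (Lk k)))
        (fun j => sub_eq_zero.1 (congrFun hy j)) k l C c c' hcc)
    exact ⟨s, funext fun k => hs k⟩
  · rintro ⟨s, rfl⟩
    funext j
    show mres (O := OEt X) M (a j) (mres (O := OEt X) M (lk (k₁ j)) s) -
      mres (O := OEt X) M (b j) (mres (O := OEt X) M (lk (k₂ j)) s) = 0
    rw [sub_eq_zero, ← mres_comp, ← mres_comp, ha, hb]

/-- A finite affine cover with affine refinements of its overlaps computes flat base changes. -/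
theorem bijective_theta_members [M.IsQuasicoherent] [Finite ι] [Finite J]
    (hE : IsAffine E.obj.left.left) (hV : IsAffine V.left.obj.left.left)
    (hLk : ∀ k, IsAffine (Lk k).obj.left.left) (hNj : ∀ j, IsAffine (Nj j).obj.left.left)
    (hcov' : Sieve.ofArrows (fun k => part hf (lk k) V)
      (fun k => EtOver.pullbackSnd (lk k) (EtOver.bcMap hf V.hom)) ∈ etTop X (EtOver.bcObj hf V.left))
    (hex : Function.Exact (memEps hf M Lk lk) (memDelta hf M Lk lk Nj nj k₁ k₂ a b ha hb)) :
    Function.Bijective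
      (theta (LinearMap.id : Sec (O := OEt Y) ((pushModEt hf).obj M) E →ₗ[Ob (OEt Y) E] _) V) := by
  classical
  haveI := Fintype.ofFinite ι
  haveI := Fintype.ofFinite J
  let A := Ob (OEt Y) E
  haveI : Module.Flat A (Ov (OEt Y) V) := (affEt Y).flat V.hom hE hV
  let πk := fun k => (LinearMap.proj k : (∀ k, SecL hf M (lk k)) →ₗ[A] SecL hf M (lk k))
  have hpiR : ∀ (k : ι) (z : Ov (OEt Y) V ⊗[A] (∀ k, SecL hf M (lk k))),
      (πk k).lTensor (Ov (OEt Y) V) z =
        TensorProduct.piRight A A (Ov (OEt Y) V) (fun k => SecL hf M (lk k)) z k := by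
    intro k z
    induction z using TensorProduct.induction_on with
    | zero => simp
    | add a b ha hb => simp only [map_add, Pi.add_apply, ha, hb]
    | tmul b m => simp [πk]
  have hπε : ∀ k z, (πk k).lTensor (Ov (OEt Y) V) ((memEps hf M Lk lk).lTensor _ z) =
      (rlE hf M (lk k)).lTensor _ z := fun k z => by
    rw [← LinearMap.comp_apply, ← LinearMap.lTensor_comp]
    rfl
  have hμ : ∀ k, Function.Bijective (mu hf M (lk k) V) := fun k =>
    bijective_mu hf M (lk k) V hE hV (hLk k)
  refine ⟨(injective_iff_map_eq_zero _).2 fun z hz => ?_, fun x => ?_⟩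
  · apply Module.Flat.lTensor_preserves_injective_linearMap (M := Ov (OEt Y) V) (memEps hf M Lk lk)
      (memEps_injective hf M Lk lk hcov)
    rw [map_zero]
    apply (TensorProduct.piRight A A (Ov (OEt Y) V) (fun k => SecL hf M (lk k))).injective
    funext k
    rw [← hpiR, hπε, map_zero, Pi.zero_apply]
    exact (hμ k).1 ((mu_rlE hf M (lk k) V z).trans ((congrArg _ hz).trans ((map_zero _).trans (map_zero _).symm)))
  · choose y hy using fun k => (hμ k).2
      (mres (O := OEt X) M (EtOver.pullbackSnd (lk k) (EtOver.bcMap hf V.hom)) x)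
    let yy := (TensorProduct.piRight A A (Ov (OEt Y) V) (fun k => SecL hf M (lk k))).symm y
    have hyy : ∀ k, (πk k).lTensor (Ov (OEt Y) V) yy = y k := fun k => by
      rw [hpiR]
      exact congrFun ((TensorProduct.piRight A A (Ov (OEt Y) V) (fun k => SecL hf M (lk k))).apply_symm_apply y) k
    have hδ : (memDelta hf M Lk lk Nj nj k₁ k₂ a b ha hb).lTensor (Ov (OEt Y) V) yy = 0 := by
      apply (TensorProduct.piRight A A (Ov (OEt Y) V) (fun j => SecL hf M (nj j))).injective
      funext j
      have h1 : ∀ z, TensorProduct.piRight A A (Ov (OEt Y) V) (fun j => SecL hf M (nj j))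
          ((memDelta hf M Lk lk Nj nj k₁ k₂ a b ha hb).lTensor _ z) j =
          (rl hf M (lk (k₁ j)) (nj j) (a j) (ha j)).lTensor _ ((πk (k₁ j)).lTensor _ z) -
            (rl hf M (lk (k₂ j)) (nj j) (b j) (hb j)).lTensor _ ((πk (k₂ j)).lTensor _ z) := by
        intro z
        induction z using TensorProduct.induction_on with
        | zero => simp
        | add a b ha hb => simp only [map_add, Pi.add_apply, ha, hb]; abel
        | tmul c m =>
          rw [LinearMap.lTensor_tmul, LinearMap.lTensor_tmul, LinearMap.lTensor_tmul, LinearMap.lTensor_tmul,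
            LinearMap.lTensor_tmul, TensorProduct.piRight_apply, TensorProduct.piRightHom_tmul, ← TensorProduct.tmul_sub]
          rfl
      rw [h1, hyy, hyy, map_zero, Pi.zero_apply, sub_eq_zero]
      apply (bijective_mu hf M (nj j) V hE hV (hNj j)).1
      rw [mu_rl, mu_rl, hy, hy, ← mres_comp, ← mres_comp, partMap, partMap, IsPullback.lift_snd, IsPullback.lift_snd]
    obtain ⟨d, hd⟩ := (Module.Flat.lTensor_exact (Ov (OEt Y) V) hex yy).1 hδ
    refine ⟨d, sec_ext_fam (O := OEt X) M _ hcov' fun k => ?_⟩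
    exact ((mu_rlE hf M (lk k) V d).symm.trans (congrArg (mu hf M (lk k) V)
      ((hπε k d).symm.trans ((congrArg _ hd).trans (hyy k))))).trans (hy k)

end Members

/-- Sections of direct images over affine objects with quasi-compact quasi-separated base change are base changes. -/
theorem good_push_qcqs [M.IsQuasicoherent] (hE : IsAffine E.obj.left.left)
    [CompactSpace ↥(EtOver.bcObj hf E).obj.left.left] [QuasiSeparatedSpace ↥(EtOver.bcObj hf E).obj.left.left] :
    Good (O := OEt Y) ((pushModEt hf).obj M) (affEt Y) E := by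
  classical
  intro V hV
  let T := EtOver.bcObj hf E
  choose O hO hxO _ using fun x : ↥T.obj.left.left =>
    exists_isAffineOpen_mem_and_subset (x := x) (U := (⊤ : T.obj.left.left.Opens)) trivial
  obtain ⟨t, ht⟩ := isCompact_univ.elim_finite_subcover (fun x => (O x : Set ↥T.obj.left.left))
    (fun x => (O x).2) fun x _ => Set.mem_iUnion.2 ⟨x, hxO x⟩
  have hcpt : ∀ k l : ↥t, IsCompact ((O k.1 : Set ↥T.obj.left.left) ∩ O l.1) := fun k l =>
    QuasiSeparatedSpace.inter_isCompact _ _ (O k.1).2 (hO k.1).isCompact (O l.1).2 (hO l.1).isCompact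
  choose R hR hxR hRle using fun (k l : ↥t) (x : ↥((O k.1 ⊓ O l.1 : T.obj.left.left.Opens))) =>
    exists_isAffineOpen_mem_and_subset (x := x.1) (U := O k.1 ⊓ O l.1) x.2
  choose t' ht' using fun k l => (hcpt k l).elim_finite_subcover (fun x => (R k l x : Set ↥T.obj.left.left))
    (fun x => (R k l x).2) fun x hx => Set.mem_iUnion.2 ⟨⟨x, hx⟩, hxR k l ⟨x, hx⟩⟩
  let J := Σ kl : ↥t × ↥t, ↥(t' kl.1 kl.2)
  let Lk : ↥t → EtOver X := fun k => opensObj T (O k.1)
  let lk : ∀ k, Lk k ⟶ T := fun k => opensInc T (O k.1)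
  let Nj : J → EtOver X := fun j => opensObj T (R j.1.1 j.1.2 j.2.1)
  let nj : ∀ j, Nj j ⟶ T := fun j => opensInc T (R j.1.1 j.1.2 j.2.1)
  choose a ha using fun j : J => exists_opens_map T ((hRle j.1.1 j.1.2 j.2.1).trans inf_le_left :
    R j.1.1 j.1.2 j.2.1 ≤ O j.1.1.1)
  choose b hb using fun j : J => exists_opens_map T ((hRle j.1.1 j.1.2 j.2.1).trans inf_le_right :
    R j.1.1 j.1.2 j.2.1 ≤ O j.1.2.1)
  have hcov : Sieve.ofArrows Lk lk ∈ etTop X T := ofArrows_mem_etTop Lk lk fun x => by
    obtain ⟨k, hk, hxk⟩ := Set.mem_iUnion₂.1 (ht (Set.mem_univ x))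
    exact ⟨⟨k, hk⟩, ⟨x, hxk⟩, rfl⟩
  have hcov' : Sieve.ofArrows (fun k => part hf (lk k) V)
      (fun k => EtOver.pullbackSnd (lk k) (EtOver.bcMap hf V.hom)) ∈ etTop X (EtOver.bcObj hf V.left) :=
    ofArrows_mem_etTop _ _ fun x => by
      obtain ⟨k, hk, hxk⟩ := Set.mem_iUnion₂.1 (ht (Set.mem_univ ((EtOver.bcMap hf V.hom).hom.left.left x)))
      obtain ⟨z, -, hz⟩ := exists_point_isPullback
        ((IsPullback.of_hasPullback (lk ⟨k, hk⟩).hom.left (EtOver.bcMap hf V.hom).hom.left).map (Over.forget S))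
        (x := ⟨_, hxk⟩) (y := x) rfl
      exact ⟨⟨k, hk⟩, z, hz⟩
  refine bijective_theta_members hf M V Lk lk Nj nj (fun j => j.1.1) (fun j => j.1.2) a b ha hb hcov hE hV
    (fun k => hO k.1) (fun j => hR j.1.1 j.1.2 j.2.1) hcov' (exact_members hf M Lk lk Nj nj _ _ a b ha hb hcov ?_)
  intro y hy k l C c c' hcc
  refine sec_ext_fam (O := OEt X) M (fun r : ↥(t' k l) =>
    EtOver.pullbackFst (c ≫ lk k) (nj ⟨(k, l), r⟩)) (ofArrows_mem_etTop _ _ fun x => ?_) fun r => ?_
  · have hmem : (c ≫ lk k).hom.left.left x ∈ (O k.1 : Set ↥T.obj.left.left) ∩ O l.1 :=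
      ⟨(c.hom.left.left x).2, by rw [hcc]; exact (c'.hom.left.left x).2⟩
    obtain ⟨r, hr, hxr⟩ := Set.mem_iUnion₂.1 (ht' k l hmem)
    obtain ⟨z, hz, -⟩ := exists_point_isPullback
      ((IsPullback.of_hasPullback (c ≫ lk k).hom.left (nj ⟨(k, l), ⟨r, hr⟩⟩).hom.left).map (Over.forget S))
      (x := x) (y := ⟨_, hxr⟩) rfl
    exact ⟨⟨r, hr⟩, z, hz⟩
  · let j : J := ⟨(k, l), r⟩
    have hw : EtOver.pullbackFst (c ≫ lk k) (nj j) ≫ c ≫ lk k = EtOver.pullbackSnd (c ≫ lk k) (nj j) ≫ nj j :=
      EtOver.pullback_condition _ _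
    have e₁ : EtOver.pullbackFst (c ≫ lk k) (nj j) ≫ c = EtOver.pullbackSnd (c ≫ lk k) (nj j) ≫ a j :=
      cancel_opensInc T (O k.1) (by rw [Category.assoc, Category.assoc, ha]; exact hw)
    have e₂ : EtOver.pullbackFst (c ≫ lk k) (nj j) ≫ c' = EtOver.pullbackSnd (c ≫ lk k) (nj j) ≫ b j :=
      cancel_opensInc T (O l.1) (by rw [Category.assoc, Category.assoc, hb, ← hcc]; exact hw)
    rw [← mres_comp, ← mres_comp, e₁, e₂, mres_comp, mres_comp, hy j]

end GrothLib.AlgSp.QCohEt
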