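import Groth.Agent.Lib.AlgSp.QCohUnion
import Groth.Agent.Lib.AlgSp.QCohEtRes
import Groth.Agent.Lib.AlgSp.QCohPushQcqs
import Groth.Agent.Lib.AlgSp.EtQsClass
import Groth.Agent.Lib.AlgSp.LimitDesc
import Mathlib.CategoryTheory.Subobject.MonoOver

/-!
# Quasi-coherent modules on noetherian spaces are unions of finitely presented submodules

* `subM`, `finite_subM`, `exists_subM_le`, `exists_bound`, `union_finitePresentation`.
-/

universe u

open CategoryTheory CategoryTheory.Limits AlgebraicGeometry Opposite TensorProduct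
set_option backward.isDefEq.respectTransparency false

noncomputable section

namespace GrothLib.AlgSp.QCohEt

open _root_.AlgSp
open GrothLib GrothLib.AlgSp

variable {S : Scheme.{u}} {X : Sp S} {U : Over S} (a : (yon S).obj U ⟶ X) (ha : RepWith @Etale a)

theorem isEtaleMor_of_repWith (hb : RepWith @Etale a) : IsEtaleMor a := fun _ _ h => repWith_comp h hb

/-- The final object upstairs. -/
abbrev topU (U : Over S) : EtOver ((yon S).obj U) := topObj (Iso.refl ((yon S).obj U))

/-- It is final. -/
abbrev htopU (U : Over S) : IsTerminal (topU U) := isTerminalTopObj (Iso.refl ((yon S).obj U))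

variable (M : ModEt X)

/-- The restriction to the chart. -/
abbrev resM : ModEt ((yon S).obj U) := (resEt (isEtaleMor_of_repWith a ha)).obj M

variable (n : Finset (Sec (O := OEt ((yon S).obj U)) (resM a ha M) (topU U)))

/-- The map given by finitely many sections on the chart. -/
def genMap : freeModEt ((yon S).obj U) ↥n ⟶ resM a ha M :=
  (resM a ha M).freeHomEquiv.symm fun v => secOfTop (O := OEt ((yon S).obj U)) (htopU U) (resM a ha M) v.1

/-- Its cokernel map, transposed. -/
def testMap : M ⟶ (pushModEt ha.1).obj (cokernel (genMap a ha M n)) :=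
  (resPushAdj ha.1 (isEtaleMor_of_repWith a ha)).unit.app M ≫ (pushModEt ha.1).map (cokernel.π (genMap a ha M n))

/-- Sections lying locally on the chart in the span. -/
def subM : ModEt X := kernel (testMap a ha M n)

/-- The inclusion. -/
def subι : subM a ha M n ⟶ M := kernel.ι _

instance : Mono (subι a ha M n) := by
  delta subι
  infer_instance

theorem subι_testMap : subι a ha M n ≫ testMap a ha M n = 0 := kernel.condition _

theorem res_comp_testMap {A : ModEt X} (i : A ⟶ M) :
    i ≫ testMap a ha M n = 0 ↔
      (resEt (isEtaleMor_of_repWith a ha)).map i ≫ cokernel.π (genMap a ha M n) = 0 := by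
  let adj := resPushAdj ha.1 (isEtaleMor_of_repWith a ha)
  have e : adj.homEquiv _ _ ((resEt (isEtaleMor_of_repWith a ha)).map i ≫ cokernel.π (genMap a ha M n)) =
      i ≫ testMap a ha M n := by
    rw [Adjunction.homEquiv_unit, Functor.map_comp]
    exact (adj.unit_naturality_assoc i _)
  have e0 : adj.homEquiv A _ (0 : (resEt (isEtaleMor_of_repWith a ha)).obj A ⟶ cokernel (genMap a ha M n)) = 0 := by
    rw [Adjunction.homEquiv_unit, Functor.map_zero, comp_zero]
  rw [← e, ← e0, EmbeddingLike.apply_eq_iff_eq]

theorem app_genMap_free (v : ↥n) (e : EtOver ((yon S).obj U)) :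
    app (O := OEt ((yon S).obj U)) (genMap a ha M n) e (secAt (SheafOfModules.freeSection v) e) =
      mres (O := OEt ((yon S).obj U)) (resM a ha M) ((htopU U).from e) v.1 :=
  (app_secAt_free (O := OEt ((yon S).obj U)) _ v e).trans rfl

theorem quot_gen {v : Sec (O := OEt ((yon S).obj U)) (resM a ha M) (topU U)} (hv : v ∈ n) :
    app (O := OEt ((yon S).obj U)) (cokernel.π (genMap a ha M n)) (topU U) v = 0 := by
  have h := app_genMap_free a ha M n ⟨v, hv⟩ (topU U)
  rw [(htopU U).hom_ext ((htopU U).from (topU U)) (𝟙 _), mres_id] at h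
  rw [← show _ = v from h, ← app_comp, cokernel.condition]
  rfl

theorem good_free (I : Type (u + 1)) {e : EtOver X} (he : IsAffine e.obj.left.left) :
    Good (O := OEt X) (freeModEt X I) (affEt X) e :=
  good_of_theta (O := OEt X) (affEt X) he _ fun V hV => bijective_theta_free (O := OEt X) (affEt X) I V hV

variable [M.IsQuasicoherent]

theorem isQuasicoherent_resM : (resM a ha M).IsQuasicoherent := isQuasicoherent_res _ M

theorem good_cokernel {e : EtOver ((yon S).obj U)} (he : IsAffine e.obj.left.left) :
    Good (O := OEt ((yon S).obj U)) (cokernel (genMap a ha M n)) (affEt _) e := by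
  haveI := isQuasicoherent_resM a ha M
  let T : ShortComplex (ModEt ((yon S).obj U)) :=
    ShortComplex.mk (genMap a ha M n) (cokernel.π _) (cokernel.condition _)
  haveI : Epi T.g := inferInstanceAs (Epi (cokernel.π _))
  exact good_right (O := OEt ((yon S).obj U)) (affEt _) (T := T)
    (ShortComplex.exact_of_g_is_cokernel T (cokernelIsCokernel _)) he (good_free _ he)
    (good_of_isQuasicoherent _ he)

theorem isQuasicoherent_cokernel : (cokernel (genMap a ha M n)).IsQuasicoherent :=
  isQuasicoherent_of_good _ fun _ he => good_cokernel a ha M n he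

theorem isQcqsObj_bcObj [IsAffine U.left] [QuasiSeparatedSpace ↥S] (hqs : IsQuasiSeparatedSp X) (E : EtOver X)
    [IsAffine E.obj.left.left] : IsQcqsObj (EtOver.bcObj ha.1 E) := by
  let B := EtOver.bcObj ha.1 E
  let A₀ := U
  let B₀ := E.obj.left
  obtain ⟨p, hp⟩ := (yon S).map_surjective B.obj.hom
  let d := EtOver.bcπ ha.1 E
  have sq : IsPullback ((yon S).map p) ((yon S).map d) a E.obj.hom := by
    rw [hp]
    exact EtOver.isPullback_bcObj ha.1 E
  haveI : QuasiCompact (prod.lift p d).left := prop_prodLift_of_repWith_diag hqs sq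
  haveI : QuasiCompact A₀.hom := quasiCompact_of_compactSpace _
  haveI : QuasiSeparated A₀.hom := by
    have : QuasiSeparated (A₀.hom ≫ terminal.from S) := by
      rw [terminalIsTerminal.hom_ext (A₀.hom ≫ terminal.from S) (terminal.from _),
        ← quasiSeparatedSpace_iff_quasiSeparated]
      infer_instance
    exact QuasiSeparated.of_comp _ (terminal.from S)
  haveI : CompactSpace ↥(pullback A₀.hom B₀.hom) :=
    QuasiCompact.compactSpace_of_compactSpace (pullback.snd A₀.hom B₀.hom)
  haveI : QuasiSeparatedSpace ↥(pullback A₀.hom B₀.hom) :=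
    quasiSeparatedSpace_of_quasiSeparated (pullback.snd A₀.hom B₀.hom)
  let φ := (Scheme.homeoOfIso (Over.prodLeftIsoPullback A₀ B₀)).symm
  haveI : CompactSpace ↥(A₀ ⨯ B₀ : Over S).left := φ.compactSpace
  haveI : QuasiSeparatedSpace ↥(A₀ ⨯ B₀ : Over S).left := (quasiSeparatedSpace_congr φ).1 inferInstance
  haveI : Mono (prod.lift p d) := ⟨fun a b hab => by
    have h1 : a ≫ p = b ≫ p := by
      have := congrArg (· ≫ prod.fst) hab
      simp only [Category.assoc, prod.lift_fst] at this
      exact this
    have h2 : a ≫ d = b ≫ d := by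
      have := congrArg (· ≫ prod.snd) hab
      simp only [Category.assoc, prod.lift_snd] at this
      exact this
    exact (yon S).map_injective (sq.hom_ext (by rw [← Functor.map_comp, ← Functor.map_comp, h1])
      (by rw [← Functor.map_comp, ← Functor.map_comp, h2]))⟩
  haveI : Mono (prod.lift p d).left := inferInstanceAs (Mono ((Over.forget S).map (prod.lift p d)))
  exact ⟨QuasiCompact.compactSpace_of_compactSpace (prod.lift p d).left,
    quasiSeparatedSpace_of_quasiSeparated (prod.lift p d).left⟩

variable [IsAffine U.left] [QuasiSeparatedSpace ↥S] (hqs : IsQuasiSeparatedSp X)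

include hqs

theorem good_subM {E : EtOver X} (hE : IsAffine E.obj.left.left) :
    Good (O := OEt X) (subM a ha M n) (affEt X) E := by
  haveI := isQuasicoherent_cokernel a ha M n
  obtain ⟨hc, hq⟩ := isQcqsObj_bcObj a ha hqs E
  haveI : CompactSpace ↥(EtOver.bcObj ha.1 E).obj.left.left := hc
  haveI : QuasiSeparatedSpace ↥(EtOver.bcObj ha.1 E).obj.left.left := hq
  let T : ShortComplex (ModEt X) := ShortComplex.mk (subι a ha M n) (testMap a ha M n) (subι_testMap a ha M n)
  haveI : Mono T.f := inferInstanceAs (Mono (subι a ha M n))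
  exact good_left (O := OEt X) (affEt X) (T := T) (ShortComplex.exact_of_f_is_kernel T (kernelIsKernel _)) hE
    (good_of_isQuasicoherent M hE) (good_push_qcqs ha.1 (cokernel (genMap a ha M n)) hE)

omit hqs in
theorem finite_subM_chart (hN : IsLocNoethSp X) (e : EtOver ((yon S).obj U)) (he : IsAffine e.obj.left.left) :
    Module.Finite (Ob (OEt X) ((EtOver.postcomp a (isEtaleMor_of_repWith a ha)).obj e))
      (Sec (O := OEt X) (subM a ha M n) ((EtOver.postcomp a (isEtaleMor_of_repWith a ha)).obj e)) := by
  classical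
  let E := (EtOver.postcomp a (isEtaleMor_of_repWith a ha)).obj e
  haveI := isQuasicoherent_resM a ha M
  haveI : IsNoetherianRing (Ob (OEt X) E) := isNoetherianRing_ob hN he
  let V := fun v : ↥n => mres (O := OEt ((yon S).obj U)) (resM a ha M) ((htopU U).from e) v.1
  let L := app (O := OEt X) (subι a ha M n) E
  let N : Submodule (Ob (OEt X) E) (Sec (O := OEt X) M E) := Submodule.span (Ob (OEt X) E) (Set.range V)
  haveI : IsNoetherian (Ob (OEt X) E) ↥N := isNoetherian_of_fg_of_noetherian N (Submodule.fg_span (Set.finite_range _))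
  have hL : ∀ x, L x ∈ N := by
    intro x
    let π := cokernel.π (genMap a ha M n)
    have hx : app (O := OEt ((yon S).obj U)) π e (L x) = 0 :=
      congrArg (fun ψ => app (O := OEt ((yon S).obj U)) ψ e x)
        ((res_comp_testMap a ha M n (subι a ha M n)).1 (subι_testMap a ha M n))
    obtain ⟨k, hk⟩ := exact_kernel (O := OEt ((yon S).obj U)) π e _ hx
    let T : ShortComplex (ModEt ((yon S).obj U)) :=
      ShortComplex.mk (genMap a ha M n) π (cokernel.condition _)
    haveI : Epi (kernel.lift T.g T.f T.zero) :=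
      T.exact_iff_epi_kernel_lift.1 (ShortComplex.exact_of_g_is_cokernel T (cokernelIsCokernel _))
    let T' : ShortComplex (ModEt ((yon S).obj U)) := ShortComplex.mk (kernel.ι π) π (kernel.condition _)
    haveI : Mono T'.f := inferInstanceAs (Mono (kernel.ι π))
    obtain ⟨y, hy⟩ := surjective_app_of_epi (O := OEt ((yon S).obj U)) (affEt _) (kernel.lift T.g T.f T.zero) he
      (good_free _ he) (good_left (O := OEt ((yon S).obj U)) (affEt _) (T := T')
        (ShortComplex.exact_of_f_is_kernel T' (kernelIsKernel _)) he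
        (good_of_isQuasicoherent _ he) (good_cokernel a ha M n he)) k
    let κ : (↥n →₀ Ob (OEt ((yon S).obj U)) e) →ₗ[Ob (OEt ((yon S).obj U)) e]
        Sec (O := OEt ((yon S).obj U)) (freeModEt ((yon S).obj U) ↥n) e :=
      Finsupp.linearCombination _ fun v => secAt (SheafOfModules.freeSection v) e
    obtain ⟨c, hc⟩ := surjective_kappa κ
      (bijective_theta_free (O := OEt ((yon S).obj U)) (affEt _) ↥n (Over.mk (𝟙 e)) he).2 y
    have hcomp : (app (O := OEt ((yon S).obj U)) (genMap a ha M n) e).comp κ =
        Finsupp.linearCombination (Ob (OEt ((yon S).obj U)) e) V := by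
      refine Finsupp.lhom_ext fun v r => ?_
      show app _ e (Finsupp.linearCombination (Ob (OEt ((yon S).obj U)) e) _ (Finsupp.single v r)) = _
      rw [Finsupp.linearCombination_single, Finsupp.linearCombination_single, map_smul, app_genMap_free]
    have hmem : app (O := OEt ((yon S).obj U)) (genMap a ha M n) e y ∈
        Submodule.span (Ob (OEt ((yon S).obj U)) e) (Set.range V) := by
      rw [← hc, ← LinearMap.comp_apply, hcomp, ← Finsupp.range_linearCombination]
      exact LinearMap.mem_range_self _ c
    have hLx : L x = app (O := OEt ((yon S).obj U)) (genMap a ha M n) e y := by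
      rw [← hk, ← hy, ← app_comp]
      exact congrArg (fun ψ => app (O := OEt ((yon S).obj U)) ψ e y) (kernel.lift_ι _ _ _)
    rw [hLx]
    exact hmem
  exact Module.Finite.of_injective (L.codRestrict N hL) fun x y h =>
    app_injective (O := OEt X) (subι a ha M n) E (congrArg Subtype.val h)

theorem finite_subM (hN : IsLocNoethSp X) (hs : RepWith @Surjective a) {E : EtOver X}
    (hE : IsAffine E.obj.left.left) :
    Module.Finite (Ob (OEt X) E) (Sec (O := OEt X) (subM a ha M n) E) := by
  let B := EtOver.bcObj ha.1 E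
  let he := isEtaleMor_of_repWith a ha
  haveI hπ : Surjective (EtOver.bcπ ha.1 E).left := hs.2 _ _ _ (EtOver.isPullback_bcObj ha.1 E)
  choose O hO hxO _ using fun b : ↥B.obj.left.left => exists_isAffineOpen_mem_and_subset (x := b)
    (U := (⊤ : B.obj.left.left.Opens)) trivial
  let z : ∀ b, (EtOver.postcomp a he).obj (opensObj B (O b)) ⟶ E := fun b =>
    (EtOver.postcomp a he).map (opensInc B (O b)) ≫ (postAdj ha.1 he).counit.app E
  refine finite_of_cover (O := OEt X) (affEt X) hE (good_subM a ha M n hqs hE)
    (T := Sieve.ofArrows (fun b => (EtOver.postcomp a he).obj (opensObj B (O b))) z) ?_ ?_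
  · refine ofArrows_mem_etTop _ _ fun x => ?_
    obtain ⟨b, hb⟩ := hπ.surj x
    exact ⟨b, ⟨b, hxO b⟩, hb⟩
  · intro Z g hZ hg
    obtain ⟨_, g', _, ⟨b⟩, -⟩ := hg
    obtain ⟨V, hV⟩ := exists_over_lift he (Over.mk g')
    obtain rfl : (EtOver.postcomp a he).obj V.left = Z := congrArg (fun W : Over _ => W.left) hV
    exact finite_subM_chart a ha M n hN V.left hZ

theorem isFinitePresentation_subM (hN : IsLocNoethSp X) (hs : RepWith @Surjective a) :
    (subM a ha M n).IsFinitePresentation :=
  isFinitePresentation_of_finite hN _ (fun _ hE => good_subM a ha M n hqs hE)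
    fun _ hE => finite_subM a ha M n hqs hN hs hE

/-- Every section on an affine object lies in one of the submodules. -/
theorem exists_subM_le {E : EtOver X} (hE : IsAffine E.obj.left.left) (x : Sec (O := OEt X) M E) :
    ∃ (n : Finset (Sec (O := OEt ((yon S).obj U)) (resM a ha M) (topU U)))
      (y : Sec (O := OEt X) (subM a ha M n) E), app (O := OEt X) (subι a ha M n) E y = x := by
  classical
  haveI := isQuasicoherent_resM a ha M
  obtain ⟨hc, -⟩ := isQcqsObj_bcObj a ha hqs E
  let B := EtOver.bcObj ha.1 E
  haveI : CompactSpace ↥B.obj.left.left := hc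
  choose O hO hxO _ using fun b : ↥B.obj.left.left => exists_isAffineOpen_mem_and_subset (x := b)
    (U := (⊤ : B.obj.left.left.Opens)) trivial
  obtain ⟨t, ht⟩ := isCompact_univ.elim_finite_subcover (fun b => (O b : Set ↥B.obj.left.left))
    (fun b => (O b).2) fun b _ => Set.mem_iUnion.2 ⟨b, hxO b⟩
  have htop : IsAffine (topU U).obj.left.left := ‹IsAffine U.left›
  let y : Sec (O := OEt ((yon S).obj U)) (resM a ha M) B :=
    app (O := OEt X) ((resPushAdj ha.1 (isEtaleMor_of_repWith a ha)).unit.app M) E x
  let W : ↥B.obj.left.left → Over (topU U) := fun b => Over.mk ((htopU U).from (opensObj B (O b)))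
  choose c hc' using fun b => ((good_of_isQuasicoherent (resM a ha M) htop) (W b) (hO b)).2
    (mres (O := OEt ((yon S).obj U)) (resM a ha M) (opensInc B (O b)) y)
  choose F hF using fun b => TensorProduct.exists_finset (c b)
  let n := t.biUnion fun b => (F b).image Prod.snd
  refine ⟨n, ?_⟩
  refine exact_kernel (O := OEt X) (testMap a ha M n) E x ?_
  let π := cokernel.π (genMap a ha M n)
  show app (O := OEt ((yon S).obj U)) π B y = 0
  refine sec_ext_fam (O := OEt ((yon S).obj U)) _ (fun b : ↥t => opensInc B (O b.1))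
    (ofArrows_mem_etTop _ _ fun z => ?_) fun b => ?_
  · obtain ⟨b, hb, hzb⟩ := Set.mem_iUnion₂.1 (ht (Set.mem_univ z))
    exact ⟨⟨b, hb⟩, ⟨z, hzb⟩, rfl⟩
  · rw [map_zero, ← app_mres, ← hc' b.1]
    refine (app_theta (O := OEt ((yon S).obj U)) π LinearMap.id (W b.1) (c b.1)).trans ?_
    rw [hF b.1, map_sum]
    refine Finset.sum_eq_zero fun q hq => ?_
    rw [theta_tmul, LinearMap.comp_apply, LinearMap.id_apply,
      quot_gen a ha M n (Finset.mem_biUnion.2 ⟨b.1, b.2, Finset.mem_image_of_mem _ hq⟩), map_zero, smul_zero]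

omit [QuasiSeparatedSpace ↥S] hqs in
/-- Modules of finite type map into almost all of the submodules. -/
theorem exists_bound {A : ModEt X} [A.IsQuasicoherent] [A.IsFiniteType] (i : A ⟶ M) :
    ∃ n₀, ∀ n, n₀ ⊆ n → i ≫ testMap a ha M n = 0 := by
  classical
  let he := isEtaleMor_of_repWith a ha
  let RA := (resEt he).obj A
  haveI : RA.IsQuasicoherent := isQuasicoherent_res he A
  have htop : IsAffine (topU U).obj.left.left := ‹IsAffine U.left›
  haveI hfin : Module.Finite (Ob (OEt ((yon S).obj U)) (topU U)) (Sec (O := OEt ((yon S).obj U)) RA (topU U)) :=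
    finite_sec_of_isFiniteType A (E := (EtOver.postcomp a he).obj (topU U)) htop
  obtain ⟨s, hs⟩ := (Module.Finite.fg_top :
    (⊤ : Submodule (Ob (OEt ((yon S).obj U)) (topU U)) (Sec (O := OEt ((yon S).obj U)) RA (topU U))).FG)
  refine ⟨s.image (app (O := OEt ((yon S).obj U)) ((resEt he).map i) (topU U)), fun n hn => ?_⟩
  rw [res_comp_testMap]
  let ψ := (resEt he).map i ≫ cokernel.π (genMap a ha M n)
  have h0 : app (O := OEt ((yon S).obj U)) ψ (topU U) = 0 := LinearMap.ext_on hs fun v hv => by
    rw [LinearMap.zero_apply]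
    exact quot_gen a ha M n (hn (Finset.mem_image_of_mem _ hv))
  have haff : ∀ W : EtOver ((yon S).obj U), IsAffine W.obj.left.left → ∀ y,
      app (O := OEt ((yon S).obj U)) ψ W y = 0 := fun W hW y => by
    obtain ⟨c, rfl⟩ := (good_of_isQuasicoherent RA htop (Over.mk ((htopU U).from W)) hW).2 y
    refine (app_theta (O := OEt ((yon S).obj U)) ψ LinearMap.id (Over.mk ((htopU U).from W)) c).trans ?_
    rw [LinearMap.comp_id, h0]
    induction c using TensorProduct.induction_on with
    | zero => exact map_zero _
    | add p q hp hq => rw [map_add, hp, hq, add_zero]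
    | tmul r v => rw [theta_tmul, LinearMap.zero_apply, map_zero, smul_zero]
  ext1
  refine PresheafOfModules.hom_ext fun V => ?_
  ext y
  show app (O := OEt ((yon S).obj U)) ψ V.unop y = 0
  obtain ⟨T, hT, hT'⟩ := affCovers_affEt (X := (yon S).obj U) V.unop
  refine sec_ext (O := OEt ((yon S).obj U)) _ hT fun Z z hz => ?_
  obtain ⟨W, p, b, hW, rfl⟩ := hT' z hz
  rw [map_zero, mres_comp, ← app_mres _ b, haff W hW, map_zero]

include ha in
theorem isFiltered_finitePresentation_monoOver (hN : IsLocNoethSp X) (hs : RepWith @Surjective a) :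
    IsFiltered (ObjectProperty.FullSubcategory
      (fun N : MonoOver M => SheafOfModules.IsFinitePresentation N.obj.left)) := by
  classical
  let G := fun n => (⟨MonoOver.mk (subι a ha M n), isFinitePresentation_subM a ha M n hqs hN hs⟩ :
    ObjectProperty.FullSubcategory (fun N : MonoOver M => SheafOfModules.IsFinitePresentation N.obj.left))
  haveI hne : Nonempty (ObjectProperty.FullSubcategory
      (fun N : MonoOver M => SheafOfModules.IsFinitePresentation N.obj.left)) := ⟨G ∅⟩
  haveI : IsFilteredOrEmpty (ObjectProperty.FullSubcategory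
      (fun N : MonoOver M => SheafOfModules.IsFinitePresentation N.obj.left)) :=
    { cocone_objs := fun p q => by
        haveI := p.property
        haveI := q.property
        obtain ⟨np, hnp⟩ := exists_bound a ha M p.obj.arrow
        obtain ⟨nq, hnq⟩ := exists_bound a ha M q.obj.arrow
        exact ⟨G (np ∪ nq),
          ObjectProperty.homMk (MonoOver.homMk (kernel.lift _ _ (hnp _ Finset.subset_union_left)) (kernel.lift_ι _ _ _)),
          ObjectProperty.homMk (MonoOver.homMk (kernel.lift _ _ (hnq _ Finset.subset_union_right)) (kernel.lift_ι _ _ _)),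
          trivial⟩
      cocone_maps := fun _ q f g => ⟨q, 𝟙 q, congrArg (· ≫ 𝟙 q) (InducedCategory.hom_ext (Subsingleton.elim _ _))⟩ }
  exact ⟨⟩

/-- Every section lies locally in one of the submodules. -/
theorem exists_subM_le_cover (V : EtOver X) (x : Sec (O := OEt X) M V) :
    ∃ T ∈ etTop X V, ∀ ⦃Z : EtOver X⦄ (z : Z ⟶ V), T.arrows z →
      ∃ (n : Finset (Sec (O := OEt ((yon S).obj U)) (resM a ha M) (topU U)))
        (y : Sec (O := OEt X) (subM a ha M n) Z),
          app (O := OEt X) (subι a ha M n) Z y = mres (O := OEt X) M z x := by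
  obtain ⟨T, hT, hT'⟩ := affCovers_affEt (X := X) V
  refine ⟨T, hT, fun Z z hz => ?_⟩
  obtain ⟨W, p, b, hW, rfl⟩ := hT' z hz
  obtain ⟨n, y, hy⟩ := exists_subM_le a ha M hqs hW (mres (O := OEt X) M b x)
  refine ⟨n, mres (O := OEt X) (subM a ha M n) p y, ?_⟩
  rw [app_mres, hy]
  exact (mres_comp (O := OEt X) M b p x).symm

omit a ha in
/-- A quasi-coherent module on a noetherian space is the union of its finitely presented submodules. -/
theorem union_finitePresentation (hqc : IsQuasiCompactSp X) (hN : IsLocNoethSp X) (M : ModEt X) [M.IsQuasicoherent] :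
    IsFiltered (ObjectProperty.FullSubcategory
        (fun N : MonoOver M => SheafOfModules.IsFinitePresentation N.obj.left)) ∧
      Nonempty (IsColimit ((Over.forgetCocone M).whisker
        (ObjectProperty.ι (fun N : MonoOver M => SheafOfModules.IsFinitePresentation N.obj.left) ⋙
          MonoOver.forget M))) := by
  obtain ⟨U, a, hU, ha, hs⟩ := exists_affine_atlas_of_qc hqc
  haveI := hU
  haveI hfil := isFiltered_finitePresentation_monoOver a ha M hqs hN hs
  refine ⟨hfil, ?_⟩
  let ιP := ObjectProperty.ι (fun N : MonoOver M => SheafOfModules.IsFinitePresentation N.obj.left) ⋙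
    MonoOver.forget M
  haveI : ∀ p, Mono (((Over.forgetCocone M).whisker ιP).ι.app p) := fun p => p.obj.mono
  refine nonempty_isColimit_of_exhaustive (O := OEt X) ((Over.forgetCocone M).whisker ιP) fun V x => ?_
  exact (exists_subM_le_cover a ha M hqs V x).imp fun T h => ⟨h.1, fun Z z hz =>
    (h.2 z hz).elim fun n hn => ⟨⟨MonoOver.mk (subι a ha M n), isFinitePresentation_subM a ha M n hqs hN hs⟩, hn⟩⟩

end GrothLib.AlgSp.QCohEt
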