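import Groth.Agent.Lib.AlgSp.QCohAbelian
import Mathlib.RingTheory.TensorProduct.Finite
import Mathlib.Algebra.Module.FinitePresentation
import Mathlib.RingTheory.Flat.Stability

/-!
# Local properties of sections on affine objects

* `finite_base_change`, `fp_base_change`, `fp_of_cover`, `fp_of_presentation`.
-/

universe u

open CategoryTheory CategoryTheory.Limits Opposite TensorProduct
set_option backward.isDefEq.respectTransparency false

noncomputable section

namespace GrothLib.AlgSp.QCohEt

variable {C : Type (u + 1)} [Category.{u} C] {J : GrothendieckTopology C} {O : Sheaf J CommRingCat.{u + 1}}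
  {M : SheafOfModules.{u + 1} (RR O)} (S : AffSite O)

/-- Finiteness ascends. -/
theorem finite_base_change {E W : C} (g : W ⟶ E) (hW : S.Aff W) (hgood : Good M S E)
    [Module.Finite (Ob O E) (Sec M E)] : Module.Finite (Ob O W) (Sec M W) := by
  let θ : Ov O (Over.mk g) ⊗[Ob O E] Sec M E →ₗ[Ov O (Over.mk g)] SecO M (Over.mk g) :=
    { toFun := theta LinearMap.id (Over.mk g)
      map_add' := map_add _
      map_smul' := fun c t => theta_smul _ _ c t }
  exact Module.Finite.of_surjective θ (hgood (Over.mk g) hW).2

/-- Finite presentation ascends. -/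
theorem fp_base_change {E W : C} (g : W ⟶ E) (hW : S.Aff W) (hgood : Good M S E)
    [Module.FinitePresentation (Ob O E) (Sec M E)] : Module.FinitePresentation (Ob O W) (Sec M W) := by
  let θ : Ov O (Over.mk g) ⊗[Ob O E] Sec M E →ₗ[Ov O (Over.mk g)] SecO M (Over.mk g) :=
    { toFun := theta LinearMap.id (Over.mk g)
      map_add' := map_add _
      map_smul' := fun c t => theta_smul _ _ c t }
  have h : Module.FinitePresentation (Ov O (Over.mk g)) (SecO M (Over.mk g)) :=
    Module.FinitePresentation.of_equiv (LinearEquiv.ofBijective θ (hgood (Over.mk g) hW))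
  exact h

/-- Finite presentation is local. -/
theorem fp_of_cover {E : C} (hE : S.Aff E) (hgood : Good M S E) {T : Sieve E} (hT : T ∈ J E)
    (hfp : ∀ ⦃Z : C⦄ (z : Z ⟶ E), S.Aff Z → T.arrows z → Module.FinitePresentation (Ob O Z) (Sec M Z)) :
    Module.FinitePresentation (Ob O E) (Sec M E) := by
  classical
  haveI : Module.Finite (Ob O E) (Sec M E) := finite_of_cover S hE hgood hT fun Z z hZ hz => by
    haveI := hfp z hZ hz
    infer_instance
  obtain ⟨m, p, hp⟩ := Module.Finite.exists_fin' (Ob O E) (Sec M E)
  refine Module.finitePresentation_of_surjective p hp ?_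
  let K := LinearMap.ker p
  obtain ⟨n, _, W, w, hw, -, hS⟩ := S.fam E hE T hT
  haveI := fun k => (hw k).2.2
  haveI := Fintype.ofFinite n
  let B := fun k => Ov O (Over.mk (w k))
  have hfg : ∀ k, ∃ s : Finset K, Submodule.span (B k) ((fun y : K => (1 : B k) ⊗ₜ[Ob O E] y) '' (s : Set K)) = ⊤ := by
    intro k
    have hW : Module.FinitePresentation (B k) (Ov O (Over.mk (w k)) ⊗[Ob O E] Sec M E) := by
      haveI : Module.FinitePresentation (B k) (SecO M (Over.mk (w k))) := hfp (w k) (hw k).1 (hw k).2.1
      let θ : B k ⊗[Ob O E] Sec M E →ₗ[B k] SecO M (Over.mk (w k)) :=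
        { toFun := theta LinearMap.id (Over.mk (w k))
          map_add' := map_add _
          map_smul' := fun c t => theta_smul _ _ c t }
      exact Module.FinitePresentation.of_equiv (LinearEquiv.ofBijective θ (hgood (Over.mk (w k)) (hw k).1)).symm
    have hex : Function.Exact (K.subtype.baseChange (B k)) (p.baseChange (B k)) :=
      Module.Flat.lTensor_exact (B k) (LinearMap.exact_subtype_ker_map p)
    have hker := Module.FinitePresentation.fg_ker (p.baseChange (B k))
      (LinearMap.lTensor_surjective (B k) hp)
    rw [LinearMap.exact_iff.1 hex] at hker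
    haveI : Module.Finite (B k) (LinearMap.range (K.subtype.baseChange (B k))) := Module.Finite.iff_fg.2 hker
    haveI : Module.Finite (B k) (B k ⊗[Ob O E] K) := Module.Finite.equiv
      (LinearEquiv.ofInjective (K.subtype.baseChange (B k))
        (Module.Flat.lTensor_preserves_injective_linearMap (M := B k) K.subtype K.injective_subtype)).symm
    obtain ⟨G, hG⟩ := (Module.Finite.fg_top : (⊤ : Submodule (B k) (B k ⊗[Ob O E] K)).FG)
    choose F hF using fun z : B k ⊗[Ob O E] K => TensorProduct.exists_finset z
    refine ⟨G.biUnion fun z => (F z).image Prod.snd, ?_⟩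
    rw [eq_top_iff, ← hG, Submodule.span_le]
    intro z hz
    rw [SetLike.mem_coe, hF z]
    refine Submodule.sum_mem _ fun q hq => ?_
    have e : q.1 ⊗ₜ[Ob O E] q.2 = q.1 • ((1 : B k) ⊗ₜ[Ob O E] q.2) := by
      rw [TensorProduct.smul_tmul', smul_eq_mul, mul_one]
    rw [e]
    exact Submodule.smul_mem _ _ (Submodule.subset_span
      ⟨q.2, Finset.mem_biUnion.2 ⟨z, hz, Finset.mem_image_of_mem _ hq⟩, rfl⟩)
  choose s hs using hfg
  rw [← Submodule.fg_top]
  refine ⟨Finset.univ.biUnion s, eq_top_iff.2 fun y _ => ?_⟩
  let N : Submodule (Ob O E) K := Submodule.span (Ob O E) (Finset.univ.biUnion s : Finset K)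
  refine (Submodule.Quotient.mk_eq_zero N).1 (eq_zero_of_forall B hS _ fun k => ?_)
  show N.mkQ.baseChange (B k) ((1 : B k) ⊗ₜ y) = 0
  have hz : Submodule.span (B k) ((fun y : K => (1 : B k) ⊗ₜ[Ob O E] y) '' (s k : Set K)) ≤
      LinearMap.ker (N.mkQ.baseChange (B k)) := by
    rw [Submodule.span_le]
    rintro _ ⟨x, hx, rfl⟩
    show (1 : B k) ⊗ₜ[Ob O E] N.mkQ x = 0
    rw [Submodule.mkQ_apply, (Submodule.Quotient.mk_eq_zero N).2
      (Submodule.subset_span (Finset.mem_biUnion.2 ⟨k, Finset.mem_univ k, hx⟩)), TensorProduct.tmul_zero]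
  exact hz ((hs k) ▸ Submodule.mem_top)

variable [HasSheafify J AddCommGrpCat.{u + 1}] [J.WEqualsLocallyBijective AddCommGrpCat.{u + 1}]

/-- Finitely presented modules have finitely presented sections on affine objects. -/
theorem fp_of_presentation (P : M.Presentation) [Finite P.generators.I] [Finite P.relations.I] {E : C} (hE : S.Aff E) :
    Module.FinitePresentation (Ob O E) (Sec M E) := by
  classical
  let F : SheafOfModules.{u + 1} (RR O) := SheafOfModules.free P.generators.I
  let κ : (P.generators.I →₀ Ob O E) →ₗ[Ob O E] Sec F E :=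
    Finsupp.linearCombination (Ob O E) fun i => secAt (SheafOfModules.freeSection (R := RR O) i : F.sections) E
  have hκ : ∀ V : Over E, S.Aff V.left → Function.Bijective (theta κ V) := fun V hV => bijective_theta_free S _ V hV
  have hF : Good F S E := good_of_theta S hE κ hκ
  have hM := good_of_presentation S P hE
  haveI : Module.FinitePresentation (Ob O E) (P.generators.I →₀ Ob O E) := Module.finitePresentation_of_projective _ _
  let π := P.generators.π
  have hsurj : Function.Surjective ((app π E).comp κ) :=
    (surjective_app_of_epi S π hE hF hM).comp (surjective_kappa κ (hκ _ hE).2)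
  refine Module.finitePresentation_of_surjective ((app π E).comp κ) hsurj ?_
  let T : ShortComplex (SheafOfModules.{u + 1} (RR O)) := ShortComplex.mk (kernel.ι π) π (kernel.condition π)
  haveI : Mono T.f := inferInstanceAs (Mono (kernel.ι π))
  have hex : T.Exact := ShortComplex.exact_of_f_is_kernel _ (kernelIsKernel π)
  have hK : Good T.X₁ S E := good_left S hex hE hF hM
  have hspan := span_secAt_eq_top S P.relations hE hK
  choose c hc using fun j => surjective_kappa κ (hκ _ hE).2 (app (kernel.ι π) E (secAt (P.relations.s j) E))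
  haveI := Fintype.ofFinite P.relations.I
  refine ⟨Finset.univ.image c, ?_⟩
  have hinj : Function.Injective κ := by
    intro a b h
    have h' : theta κ (Over.mk (𝟙 E)) ((1 : Ov O (Over.mk (𝟙 E))) ⊗ₜ a) =
        theta κ (Over.mk (𝟙 E)) ((1 : Ov O (Over.mk (𝟙 E))) ⊗ₜ b) := by rw [theta_tmul, theta_tmul, h]
    have h'' := congrArg (TensorProduct.finsuppScalarRight (Ob O E) (Ob O E) (Ov O (Over.mk (𝟙 E))) P.generators.I)
      ((hκ (Over.mk (𝟙 E)) hE).1 h')
    ext i
    have h3 := congrArg (fun v => v i) h''
    simp only [TensorProduct.finsuppScalarRight_apply_tmul_apply] at h3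
    have e : ∀ r : Ob O E, (show Ob O E from r • (1 : Ov O (Over.mk (𝟙 E)))) = r := fun r => by
      show res O (𝟙 E) r * (1 : Ob O E) = r
      rw [mul_one, res_id]
    exact (e (a i)).symm.trans ((congrArg (fun v => (show Ob O E from v)) h3).trans (e (b i)))
  rw [Finset.coe_image, Finset.coe_univ, Set.image_univ]
  refine le_antisymm (Submodule.span_le.2 ?_) fun x hx => ?_
  · rintro _ ⟨j, rfl⟩
    show app π E (κ (c j)) = 0
    rw [hc]
    exact congrArg (fun ψ => app ψ E (secAt (P.relations.s j) E)) (kernel.condition π)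
  · obtain ⟨k, hk⟩ := exact_app hex E (κ x) hx
    have hk' : k ∈ Submodule.span (Ob O E) (Set.range fun j => secAt (P.relations.s j) E) := hspan ▸ Submodule.mem_top
    have hle : (Submodule.span (Ob O E) (Set.range fun j => secAt (P.relations.s j) E)).map (app T.f E) ≤
        (Submodule.span (Ob O E) (Set.range c)).map κ := by
      rw [Submodule.map_span, Submodule.map_span, Submodule.span_le]
      rintro _ ⟨_, ⟨j, rfl⟩, rfl⟩
      exact Submodule.subset_span ⟨c j, ⟨j, rfl⟩, hc j⟩
    obtain ⟨y, hy, hyx⟩ := hle ⟨k, hk', hk⟩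
    exact hinj hyx ▸ hy

/-- Spanning global sections generate. -/
theorem exists_generators (hcov : AffCovers S) {top : C} (ht : IsTerminal top) (hgood : Good M S top) {I : Type (u + 1)}
    (v : I → Sec M top) (hv : Submodule.span (Ob O top) (Set.range v) = ⊤) :
    ∃ G : M.GeneratingSections, Finite I → Finite G.I := by
  let π : (SheafOfModules.free I : SheafOfModules.{u + 1} (RR O)) ⟶ M :=
    M.freeHomEquiv.symm fun i => secOfTop ht M (v i)
  let κ := Finsupp.linearCombination (Ob O top) fun i : I => secAt (SheafOfModules.freeSection (R := RR O) i) top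
  have hκ : (app π top).comp κ = Finsupp.linearCombination (Ob O top) v := by
    refine Finsupp.lhom_ext fun i a => ?_
    show app π top (Finsupp.linearCombination (Ob O top) _ (Finsupp.single i a)) = _
    rw [Finsupp.linearCombination_single, Finsupp.linearCombination_single, map_smul]
    refine congrArg (fun y => a • y) ((app_secAt_free _ i top).trans ?_)
    rw [secAt_secOfTop, ht.hom_ext (ht.from top) (𝟙 top), mres_id]
  have hsurj : Function.Surjective (Finsupp.linearCombination (Ob O top) v) := by
    rw [← LinearMap.range_eq_top, Finsupp.range_linearCombination, hv]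
  refine ⟨{ I := I
            s := fun i => secOfTop ht M (v i)
            epi := ?_ }, id⟩
  refine epi_of_surjective S hcov π fun V hV x => ⟨⊤, J.top_mem _, fun Z z _ => ?_⟩
  let V' : Over top := Over.mk (ht.from V)
  obtain ⟨c, hc⟩ := (hgood V' hV).2 x
  obtain ⟨c', rfl⟩ := LinearMap.lTensor_surjective (Ov O V') hsurj c
  rw [← theta_comp, LinearMap.id_comp, ← hκ, ← app_theta] at hc
  exact ⟨mres _ z (theta κ V' c'), (app_mres π z _).trans (congrArg _ hc)⟩

end GrothLib.AlgSp.QCohEt
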