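import Groth.Agent.Lib.AlgSp.QCohFP

/-!
# Good modules in exact sequences

* `exists_lift_of_epi`, `surjective_app_of_epi`.
* `good_left`, `good_right`: sections of kernels and cokernels on affine objects are base changes.
-/

universe u

open CategoryTheory CategoryTheory.Limits Opposite TensorProduct
set_option backward.isDefEq.respectTransparency false

noncomputable section

namespace GrothLib.AlgSp.QCohEt

variable {C : Type (u + 1)} [Category.{u} C] {J : GrothendieckTopology C} {O : Sheaf J CommRingCat.{u + 1}}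
  [HasSheafify J AddCommGrpCat.{u + 1}] [J.WEqualsLocallyBijective AddCommGrpCat.{u + 1}]
  {M N : SheafOfModules.{u + 1} (RR O)}

/-- Sections lift locally along epimorphisms. -/
theorem exists_lift_of_epi (π : M ⟶ N) [Epi π] {V : C} (x : Sec N V) :
    ∃ T ∈ J V, ∀ ⦃Z : C⦄ (z : Z ⟶ V), T.arrows z → ∃ y, app π Z y = mres N z x := by
  haveI : Sheaf.IsLocallySurjective ((SheafOfModules.toSheaf (RR O)).map π) :=
    (Sheaf.isLocallySurjective_iff_epi' (A := AddCommGrpCat.{u + 1}) _).2 (GrothLib.QCoh.toSheaf_map_epi π)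
  refine ⟨_, Presheaf.imageSieve_mem J ((SheafOfModules.toSheaf (RR O)).map π).hom (U := op V) x, ?_⟩
  rintro Z z ⟨y, hy⟩
  exact ⟨y, hy⟩

variable (S : AffSite O)

/-- Epimorphisms of good modules are surjective on affine objects. -/
theorem surjective_app_of_epi (π : M ⟶ N) [Epi π] {E : C} (hE : S.Aff E) (hM : Good M S E) (hN : Good N S E) :
    Function.Surjective (app π E) := by
  intro x
  obtain ⟨T, hT, hT'⟩ := exists_lift_of_epi π x
  obtain ⟨n, _, W, w, hw, -, hS⟩ := S.fam E hE T hT
  haveI := fun k => (hw k).2.2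
  show x ∈ LinearMap.range (app π E)
  refine (Submodule.Quotient.mk_eq_zero _).1 (eq_zero_of_forall (fun k => Ov O (Over.mk (w k))) hS _ fun k => ?_)
  let V : Over E := Over.mk (w k)
  obtain ⟨y, hy⟩ := hT' (w k) (hw k).2.1
  obtain ⟨c, rfl⟩ := (hM V (hw k).1).2 y
  have e : (1 : Ov O V) ⊗ₜ x = (app π E).lTensor (Ov O V) c := by
    apply (hN V (hw k).1).1
    rw [← theta_comp, LinearMap.id_comp, theta_tmul, LinearMap.id_apply]
    exact ((one_smul (Ob O V.left) _).trans hy.symm).trans
      ((app_theta π LinearMap.id V c).trans (by rw [LinearMap.comp_id]))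
  show (LinearMap.range (app π E)).mkQ.lTensor (Ov O V) ((1 : Ov O V) ⊗ₜ x) = 0
  rw [e, ← LinearMap.comp_apply, ← LinearMap.lTensor_comp, LinearMap.range_mkQ_comp, LinearMap.lTensor_zero,
    LinearMap.zero_apply]

omit [HasSheafify J AddCommGrpCat.{u + 1}] [J.WEqualsLocallyBijective AddCommGrpCat.{u + 1}] in
theorem app_zero (V : C) : app (0 : M ⟶ N) V = 0 := rfl

/-- The sections of a left exact sequence are left exact. -/
theorem exact_app {T : ShortComplex (SheafOfModules.{u + 1} (RR O))} (hT : T.Exact) [Mono T.f] (V : C)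
    (x : Sec T.X₂ V) (hx : app T.g V x = 0) : ∃ k : Sec T.X₁ V, app T.f V k = x := by
  let F := SheafOfModules.evaluation.{u + 1} (RR O) (op V)
  haveI : F.PreservesZeroMorphisms := ⟨fun _ _ => rfl⟩
  have h : (T.map F).Exact := hT.map_of_mono_of_preservesKernel F inferInstance inferInstance
  exact (ShortComplex.moduleCat_exact_iff _).1 h x hx

/-- Kernels of maps of good modules are good. -/
theorem good_left {T : ShortComplex (SheafOfModules.{u + 1} (RR O))} (hT : T.Exact) [Mono T.f] {E : C}
    (hE : S.Aff E) (h₂ : Good T.X₂ S E) (h₃ : Good T.X₃ S E) : Good T.X₁ S E := by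
  refine good_of_theta S hE LinearMap.id fun V hV => ?_
  haveI : Module.Flat (Ob O E) (Ov O V) := S.flat V.hom hE hV
  have hgf : ∀ (W : C) (k : Sec T.X₁ W), app T.g W (app T.f W k) = 0 := fun W k =>
    congrArg (fun ψ => app ψ W k) T.zero
  have hex : Function.Exact (app T.f E) (app T.g E) := fun x =>
    ⟨fun hx => exact_app hT E x hx, by rintro ⟨k, rfl⟩; exact hgf E k⟩
  have key : ∀ c, app T.f V.left (theta LinearMap.id V c) = theta LinearMap.id V ((app T.f E).lTensor (Ov O V) c) :=
    fun c => (app_theta T.f LinearMap.id V c).trans (by rw [← theta_comp, LinearMap.comp_id, LinearMap.id_comp])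
  constructor
  · intro a b hab
    exact Module.Flat.lTensor_preserves_injective_linearMap (M := Ov O V) (app T.f E) (app_injective T.f E)
      ((h₂ V hV).1 ((key a).symm.trans ((congrArg _ hab).trans (key b))))
  · intro x
    obtain ⟨c, hc⟩ := (h₂ V hV).2 (app T.f V.left x)
    have h0 : (app T.g E).lTensor (Ov O V) c = 0 := by
      apply (h₃ V hV).1
      rw [map_zero, ← theta_comp, LinearMap.id_comp]
      refine Eq.trans ?_ (hgf V.left x)
      rw [← hc]
      exact ((app_theta T.g LinearMap.id V c).trans (by rw [LinearMap.comp_id])).symm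
    obtain ⟨d, rfl⟩ := (Module.Flat.lTensor_exact (Ov O V) hex c).1 h0
    exact ⟨d, app_injective T.f V.left ((key d).trans hc)⟩

/-- Cokernels of maps of good modules are good. -/
theorem good_right {T : ShortComplex (SheafOfModules.{u + 1} (RR O))} (hT : T.Exact) [Epi T.g] {E : C}
    (hE : S.Aff E) (h₁ : Good T.X₁ S E) (h₂ : Good T.X₂ S E) : Good T.X₃ S E := by
  let K := LinearMap.range (app T.f E)
  have hgf : ∀ (W : C) (k : Sec T.X₁ W), app T.g W (app T.f W k) = 0 := fun W k =>
    congrArg (fun ψ => app ψ W k) T.zero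
  let κ : (Sec T.X₂ E ⧸ K) →ₗ[Ob O E] Sec T.X₃ E := K.liftQ (app T.g E) (by
    rintro _ ⟨k, rfl⟩
    exact hgf E k)
  have hκ : κ.comp K.mkQ = app T.g E := Submodule.liftQ_mkQ _ _ _
  have key : ∀ (V : Over E) c, theta κ V (K.mkQ.lTensor (Ov O V) c) = app T.g V.left (theta LinearMap.id V c) :=
    fun V c => by
      rw [← theta_comp, hκ]
      exact ((app_theta T.g LinearMap.id V c).trans (by rw [LinearMap.comp_id])).symm
  refine good_of_theta S hE κ (bijective_theta S κ ?_ ?_)
  · intro V hV z hz
    obtain ⟨c, rfl⟩ := LinearMap.lTensor_surjective (Ov O V) K.mkQ_surjective z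
    rw [key] at hz
    let ι := kernel.ι T.g
    haveI : Epi (kernel.lift T.g T.f T.zero) := T.exact_iff_epi_kernel_lift.1 hT
    obtain ⟨k, hk⟩ := exact_kernel T.g V.left _ hz
    obtain ⟨S', hS', hlift⟩ := exists_lift_of_epi (kernel.lift T.g T.f T.zero) k
    refine ⟨S', hS', fun W w hW hw => ?_⟩
    let W' : Over E := push (Over.mk w)
    obtain ⟨y, hy⟩ := hlift w hw
    obtain ⟨d, rfl⟩ := (h₁ W' hW).2 y
    have e : (rho O (pr (Over.mk w))).toLinearMap.rTensor _ c = (app T.f E).lTensor (Ov O W') d := by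
      apply (h₂ W' hW).1
      rw [theta_rho, ← hk, ← theta_comp, LinearMap.id_comp]
      refine (app_mres ι w k).symm.trans ((congrArg (app ι W) hy.symm).trans ?_)
      rw [← app_comp, kernel.lift_ι]
      exact (app_theta T.f LinearMap.id W' d).trans (by rw [LinearMap.comp_id])
    rw [← LinearMap.comp_apply, LinearMap.rTensor_comp_lTensor, ← LinearMap.lTensor_comp_rTensor,
      LinearMap.comp_apply, e, ← LinearMap.comp_apply, ← LinearMap.lTensor_comp, LinearMap.range_mkQ_comp,
      LinearMap.lTensor_zero, LinearMap.zero_apply]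
  · intro V _ x
    obtain ⟨S', hS', hlift⟩ := exists_lift_of_epi T.g x
    refine ⟨S', hS', fun W w hW hw => ?_⟩
    obtain ⟨y, hy⟩ := hlift w hw
    obtain ⟨d, rfl⟩ := (h₂ (push (Over.mk w)) hW).2 y
    exact ⟨K.mkQ.lTensor _ d, (key (push (Over.mk w)) d).trans hy⟩

end GrothLib.AlgSp.QCohEt
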