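import Groth.Agent.Lib.AlgSp.QCohEt
import Groth.Agent.Lib.AlgSp.PointProps
import Groth.Agent.Lib.AlgSp.Immersion
import Groth.Agent.S1233
import Mathlib.RingTheory.RingHom.Etale

/-!
# Weakly associated points on charts

* `isWeakAssOn_iff`, `weakAssOn_map_iff`: weak associatedness is invariant along morphisms of affine charts.
* `exists_affine_above`: two points of charts over the same point lie below a point of an affine chart.
-/

universe u

open CategoryTheory CategoryTheory.Limits AlgebraicGeometry Opposite TensorProduct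
set_option backward.isDefEq.respectTransparency false

noncomputable section

namespace GrothLib.AlgSp.QCohEt

open _root_.AlgSp

variable {S : Scheme.{u}} {X : Sp S}

/-- A prime of global functions, lifted one universe. -/
def upPrime (E : EtOver X) (u : E.obj.left.left) : Ideal (Ob (OEt X) E) :=
  (primeAtPt E.obj.left.left u).comap (ULift.ringEquiv : ULift.{u + 1} Γ(E.obj.left.left, ⊤) ≃+* _).toRingHom

instance (E : EtOver X) (u : E.obj.left.left) : (upPrime E u).IsPrime := by
  unfold upPrime; infer_instance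

theorem isWeakAssOn_iff (M : ModEt X) (E : EtOver X) [IsAffine E.obj.left.left] (u : E.obj.left.left) :
    IsWeakAssOn M E u ↔ upPrime E u ∈ FlatCA.weakAss (Ob (OEt X) E) (Sec (O := OEt X) M E) := by
  have key : ∀ s : Sec (O := OEt X) M E, (Submodule.span (Ob (OEt X) E) {s}).annihilator =
      (annSect (M := M) (E := E) s).comap (ULift.ringEquiv : ULift.{u + 1} Γ(E.obj.left.left, ⊤) ≃+* _).toRingHom := fun s => by
    ext a
    rw [Submodule.mem_annihilator_span_singleton]
    exact Iff.rfl
  have hd : Function.Surjective (ULift.ringEquiv : ULift.{u + 1} Γ(E.obj.left.left, ⊤) ≃+* _).toRingHom :=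
    RingEquiv.surjective _
  constructor
  · rintro ⟨s, hs⟩
    refine ⟨s, ?_⟩
    rw [key, Ideal.comap_minimalPrimes_eq_of_surjective hd]
    exact ⟨_, hs, rfl⟩
  · rintro ⟨s, hs⟩
    refine ⟨s, ?_⟩
    rw [key, Ideal.comap_minimalPrimes_eq_of_surjective hd] at hs
    obtain ⟨q, hq, he⟩ := hs
    have : q = primeAtPt E.obj.left.left u := Ideal.comap_injective_of_surjective _ hd he
    exact this ▸ hq

theorem ulift_etale {A B : Type u} [CommRing A] [CommRing B] {φ : A →+* B} (h : φ.Etale) :
    ((ULift.ringEquiv.symm : B ≃+* ULift.{u + 1} B).toRingHom.comp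
      (φ.comp (ULift.ringEquiv : ULift.{u + 1} A ≃+* A).toRingHom)).Etale := by
  algebraize [φ]
  let U := ULift.{u + 1}
  haveI hB : Algebra.Etale A (U B) := Algebra.Etale.of_equiv (ULift.algEquiv (R := A) (A := B)).symm
  letI a1 : Algebra (U A) (U B) := ((algebraMap A (U B)).comp (ULift.ringEquiv : U A ≃+* A).toRingHom).toAlgebra
  letI a2 : Algebra (U A) A := (ULift.ringEquiv : U A ≃+* A).toRingHom.toAlgebra
  haveI : IsScalarTower (U A) A (U B) := IsScalarTower.of_algebraMap_eq fun _ => rfl
  haveI : Algebra.Etale (U A) A := RingHom.etale_algebraMap.1 (RingHom.Etale.of_bijective (RingEquiv.bijective _))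
  haveI : Algebra.Etale (U A) (U B) := Algebra.Etale.comp (U A) A (U B)
  exact RingHom.etale_algebraMap.2 this

/-- Weak associatedness is invariant along morphisms of affine charts. -/
theorem weakAssOn_map_iff (M : ModEt X) [M.IsQuasicoherent] {E F : EtOver X} [IsAffine E.obj.left.left]
    [IsAffine F.obj.left.left] (g : F ⟶ E) (v : F.obj.left.left) :
    IsWeakAssOn M F v ↔ IsWeakAssOn M E (g.hom.left.left v) := by
  rw [isWeakAssOn_iff, isWeakAssOn_iff]
  let V : Over E := Over.mk g
  haveI := EtOver.etale_left g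
  haveI : Algebra.Etale (Ob (OEt X) E) (Ov (OEt X) V) :=
    RingHom.etale_algebraMap.1 (ulift_etale (HasRingHomProperty.appTop (P := @Etale) g.hom.left.left inferInstance))
  haveI : (show Ideal (Ov (OEt X) V) from upPrime F v).IsPrime := inferInstanceAs (upPrime F v).IsPrime
  haveI : (show Ideal (Ov (OEt X) V) from upPrime F v).LiesOver (upPrime E (g.hom.left.left v)) := ⟨by
    ext a
    show a.down ∈ primeAtPt E.obj.left.left (g.hom.left.left v) ↔ _
    rw [← comap_primeAtPt]
    exact Iff.rfl⟩
  have h := Groth.Agent.S1233.result (A := Ob (OEt X) E) (B := Ov (OEt X) V) (Sec (O := OEt X) M E)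
    (upPrime E (g.hom.left.left v)) (show Ideal (Ov (OEt X) V) from upPrime F v)
  rw [← h]
  have hbij := good_of_isQuasicoherent M (E := E) inferInstance V
    (inferInstanceAs (IsAffine F.obj.left.left))
  let e : Ov (OEt X) V ⊗[Ob (OEt X) E] Sec (O := OEt X) M E ≃ₗ[Ov (OEt X) V] SecO (O := OEt X) M V :=
    LinearEquiv.ofBijective
      { toFun := theta (LinearMap.id : Sec (O := OEt X) M E →ₗ[Ob (OEt X) E] Sec (O := OEt X) M E) V
        map_add' := map_add _
        map_smul' := fun c t => theta_smul _ V c t } hbij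
  have key : ∀ z, (Submodule.span (Ov (OEt X) V) {e z}).annihilator = (Submodule.span (Ov (OEt X) V) {z}).annihilator := by
    intro z
    ext a
    rw [Submodule.mem_annihilator_span_singleton, Submodule.mem_annihilator_span_singleton, ← map_smul,
      LinearEquiv.map_eq_zero_iff]
  constructor
  · rintro ⟨m, hm⟩
    obtain ⟨z, rfl⟩ := e.surjective (show SecO (O := OEt X) M V from m)
    exact ⟨z, (congrArg Ideal.minimalPrimes (key z)) ▸ hm⟩
  · rintro ⟨z, hz⟩
    refine ⟨(show Sec (O := OEt X) M F from e z), ?_⟩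
    exact (congrArg Ideal.minimalPrimes (key z)).symm ▸ hz

/-- Two points of charts at the same point lie below a point of an affine chart. -/
theorem exists_affine_above (hX : IsAlgSpace X) (E E' : EtOver X) (u : E.obj.left.left) (u' : E'.obj.left.left)
    (h : Points.ofPt E.obj.hom u = Points.ofPt E'.obj.hom u') :
    ∃ (W : EtOver X) (_ : IsAffine W.obj.left.left) (g : W ⟶ E) (g' : W ⟶ E') (w : W.obj.left.left),
      g.hom.left.left w = u ∧ g'.hom.left.left w = u' := by
  obtain ⟨W, w₁, w₂, w, he₁, he₂, e, rfl, rfl⟩ := exists_common_chart hX E.property E'.property h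
  obtain ⟨O, hO, hwO, -⟩ := exists_isAffineOpen_mem_and_subset (x := w) (U := (⊤ : W.left.Opens)) trivial
  let j : Over.mk (O.ι ≫ W.hom) ⟶ W := Over.homMk O.ι rfl
  refine ⟨EtOver.mk ((yon S).map (j ≫ w₁) ≫ E.obj.hom) (repWith_comp
      ((repWith_yon_map_iff _ _).2 (inferInstanceAs (Etale (O.ι ≫ w₁.left)))) E.property), hO,
    EtOver.homMk (j ≫ w₁) rfl, EtOver.homMk (j ≫ w₂) ?_, ⟨w, hwO⟩, rfl, rfl⟩
  show (yon S).map (j ≫ w₂) ≫ E'.obj.hom = (yon S).map (j ≫ w₁) ≫ E.obj.hom
  rw [Functor.map_comp, Functor.map_comp, Category.assoc, Category.assoc, e]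

/-- Weak associatedness does not depend on the affine chart. -/
theorem isWeakAssOn_of_mem (hX : IsAlgSpace X) (M : ModEt X) [M.IsQuasicoherent] {x : Points X}
    (hx : x ∈ WeakAssEt M) (E : EtOver X) [IsAffine E.obj.left.left] (u : E.obj.left.left)
    (hu : Points.ofPt E.obj.hom u = x) : IsWeakAssOn M E u := by
  obtain ⟨E₀, hE₀, u₀, hu₀, h₀⟩ := hx
  haveI := hE₀
  obtain ⟨W, hW, g, g', w, rfl, rfl⟩ := exists_affine_above hX E₀ E u₀ u (hu₀.trans hu.symm)
  haveI := hW
  exact (weakAssOn_map_iff M g' w).1 ((weakAssOn_map_iff M g w).2 h₀)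

/-- Every point lies on an affine chart. -/
theorem exists_affine_chart_at (hX : IsAlgSpace X) (x : Points X) :
    ∃ (E : EtOver X) (_ : IsAffine E.obj.left.left) (u : E.obj.left.left), Points.ofPt E.obj.hom u = x := by
  obtain ⟨U, p, hU, pe, ⟨u, hu⟩, -⟩ := exists_affine_chart_mem hX isOpen_univ (Set.mem_univ x) (fun _ => True)
    fun s => ⟨⊤, trivial, trivial⟩
  exact ⟨EtOver.mk p pe, hU, u, hu⟩

end GrothLib.AlgSp.QCohEt
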