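import Groth.Agent.Lib.AlgSp.QCohFPEt
import Groth.Agent.Lib.AlgSp.QCohAbelian
import Groth.Agent.Lib.AlgSp.QCohWeakAss

/-!
# Affine charts and morphisms of quasi-coherent modules

* `exists_finite_charts`: finitely many affine charts over a quasi-compact set of points.
* `covering_of_points`: charts hitting all points cover.
* `epi_of_charts`, `isIso_of_charts`: properties of morphisms detected on such charts.
-/

universe u

open CategoryTheory CategoryTheory.Limits AlgebraicGeometry Opposite TensorProduct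
set_option backward.isDefEq.respectTransparency false

noncomputable section

namespace GrothLib.AlgSp.QCohEt

open _root_.AlgSp

variable {S : Scheme.{u}} {X : Sp S}

/-- Finitely many affine charts over a quasi-compact set. -/
theorem exists_finite_charts (hX : IsAlgSpace X) {W : Set (Points X)} (hW : IsCompact W) :
    ∃ (n : ℕ) (E : Fin n → EtOver X), (∀ i, IsAffine (E i).obj.left.left) ∧
      ∀ x ∈ W, ∃ i u, Points.ofPt (E i).obj.hom u = x := by
  choose F hF u hu using fun x : W => exists_affine_chart_at hX x.1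
  obtain ⟨t, ht⟩ := hW.elim_finite_subcover (fun x : W => Set.range (Points.ofPt (F x).obj.hom))
    (fun x => (isOpenMap_ofPt_of_etale (F x).property).isOpen_range)
    fun x hx => Set.mem_iUnion.2 ⟨⟨x, hx⟩, u ⟨x, hx⟩, hu ⟨x, hx⟩⟩
  refine ⟨t.card, fun i => F (t.equivFin.symm i).1, fun i => hF _, fun x hx => ?_⟩
  obtain ⟨y, hy, v, hv⟩ := Set.mem_iUnion₂.1 (ht hx)
  refine ⟨t.equivFin ⟨y, hy⟩, ?_⟩
  exact (congrArg (fun z : ↥t => ∃ v, Points.ofPt (F z.1).obj.hom v = x) (t.equivFin.symm_apply_apply ⟨y, hy⟩)).mpr ⟨v, hv⟩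

/-- Charts hitting all points of an object cover it. -/
theorem covering_of_points (hX : IsAlgSpace X) {ι : Type*} (E : ι → EtOver X) (V : EtOver X)
    (h : ∀ x : V.obj.left.left, ∃ i u, Points.ofPt (E i).obj.hom u = Points.ofPt V.obj.hom x) :
    ∃ T ∈ etTop X V, ∀ ⦃Z : EtOver X⦄ (z : Z ⟶ V), T.arrows z →
      ∃ (W : EtOver X) (a : Z ⟶ W) (b : W ⟶ V) (i : ι) (_ : W ⟶ E i), IsAffine W.obj.left.left ∧ a ≫ b = z := by
  choose i u hu using h
  choose W hW g g' w _ hw using fun x => exists_affine_above hX (E (i x)) V (u x) x (hu x)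
  refine ⟨_, ofArrows_mem_etTop W g' fun x => ⟨x, w x, hw x⟩, ?_⟩
  rintro Z z ⟨_, a, b, ⟨x⟩, rfl⟩
  exact ⟨_, a, _, i x, g x, hW x, rfl⟩

/-- A morphism surjective on charts hitting all points is an epimorphism. -/
theorem epi_of_charts (hX : IsAlgSpace X) {ι : Type*} (E : ι → EtOver X) (hE : ∀ i, IsAffine (E i).obj.left.left)
    (hcov : ∀ x : Points X, ∃ i u, Points.ofPt (E i).obj.hom u = x) {M N : ModEt X} (φ : M ⟶ N)
    (hN : ∀ i, Good (O := OEt X) N (affEt X) (E i))
    (h : ∀ i, Function.Surjective (app (O := OEt X) φ (E i))) : Epi φ := by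
  refine epi_of_surjective (O := OEt X) (affEt X) affCovers_affEt φ fun V _ x => ?_
  obtain ⟨T, hT, hT'⟩ := covering_of_points hX E V fun _ => hcov _
  refine ⟨T, hT, fun Z z hz => ?_⟩
  obtain ⟨W, a, b, i, g, hW, rfl⟩ := hT' z hz
  let W' : Over (E i) := Over.mk g
  obtain ⟨c, hc⟩ := (hN i W' hW).2 (mres (O := OEt X) N b x)
  obtain ⟨d, rfl⟩ := LinearMap.lTensor_surjective (Ov (OEt X) W') (h i) c
  rw [← theta_comp, LinearMap.id_comp] at hc
  refine ⟨mres (O := OEt X) M a (theta LinearMap.id W' d), ?_⟩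
  rw [app_mres, mres_comp]
  refine congrArg _ ?_
  refine ((app_theta φ LinearMap.id W' d).trans ?_)
  rw [LinearMap.comp_id]
  exact hc

/-- A monomorphism surjective on charts hitting all points is an isomorphism. -/
theorem isIso_of_charts (hX : IsAlgSpace X) {ι : Type*} (E : ι → EtOver X) (hE : ∀ i, IsAffine (E i).obj.left.left)
    (hcov : ∀ x : Points X, ∃ i u, Points.ofPt (E i).obj.hom u = x) {M N : ModEt X} (φ : M ⟶ N) [Mono φ]
    (hN : ∀ i, Good (O := OEt X) N (affEt X) (E i))
    (h : ∀ i, Function.Surjective (app (O := OEt X) φ (E i))) : IsIso φ := by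
  haveI := epi_of_charts hX E hE hcov φ hN h
  exact isIso_of_mono_of_epi φ

end GrothLib.AlgSp.QCohEt
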