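import Groth.Agent.Lib.AlgSp.QCohPushAff
import Groth.Agent.Lib.AlgSp.QCohLocalProps
import Groth.Agent.Lib.AlgSp.QCohCharts
import Groth.Agent.Lib.AlgSp.AffineMor
import Groth.Agent.Lib.AlgSp.LocP
import Mathlib.RingTheory.Finiteness.ModuleFinitePresentation

/-!
# Finiteness of direct images along finite morphisms

* `fp_sec_of_isFinitePresentation`, `isFiniteType_of_good`, `finite_push_iff`, `fp_push_iff`.
-/

universe u

open CategoryTheory CategoryTheory.Limits AlgebraicGeometry Opposite TensorProduct
set_option backward.isDefEq.respectTransparency false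

noncomputable section

namespace GrothLib.AlgSp.QCohEt

open _root_.AlgSp

variable {S : Scheme.{u}} {X Y : Sp S} {f : X ⟶ Y}

/-- Sections over affine objects of finitely presented modules are finitely presented. -/
theorem fp_sec_of_isFinitePresentation (M : ModEt X) [hM : M.IsFinitePresentation] {E : EtOver X}
    (hE : IsAffine E.obj.left.left) : Module.FinitePresentation (Ob (OEt X) E) (Sec (O := OEt X) M E) := by
  obtain ⟨σ, hσ⟩ := hM.exists_quasicoherentData
  refine fp_of_cover (affEt X) hE (good_of_isQuasicoherent M hE) (σ.coversTop E) fun Z z hZ hz => ?_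
  obtain ⟨i, ⟨p⟩⟩ := (Sieve.mem_ofObjects_iff ..).1 hz
  haveI := hσ.isFinite_presentation i
  exact fp_of_presentation (affSlice (affEt X) (σ.X i)) (σ.presentation i) (E := Over.mk p) hZ

/-- Modules with finite good sections on affine objects are of finite type. -/
theorem isFiniteType_of_good (M : ModEt X)
    (h : ∀ E : EtOver X, IsAffine E.obj.left.left → Good (O := OEt X) M (affEt X) E)
    (hfin : ∀ E : EtOver X, IsAffine E.obj.left.left → Module.Finite (Ob (OEt X) E) (Sec (O := OEt X) M E)) :
    M.IsFiniteType := by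
  classical
  have key : ∀ E : {E : EtOver X // IsAffine E.obj.left.left}, ∃ G : (M.over E.1).GeneratingSections, Finite G.I := by
    rintro ⟨E, hE⟩
    let A := Ob ((OEt X).over E) (Over.mk (𝟙 E))
    let N := Sec (O := (OEt X).over E) (M.over E) (Over.mk (𝟙 E))
    haveI : Module.Finite A N := hfin E hE
    obtain ⟨s, hs⟩ := (Module.Finite.fg_top : (⊤ : Submodule A N).FG)
    let v : ↥s → N := Subtype.val
    obtain ⟨G, hG⟩ := exists_generators (affSlice (affEt X) E) (affCovers_slice E) Over.mkIdTerminal
      (good_slice M (V₀ := Over.mk (𝟙 E)) (h E hE)) v (by rw [Subtype.range_coe_subtype]; exact hs)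
    exact ⟨G, hG inferInstance⟩
  choose G hG using key
  let σ : M.LocalGeneratorsData :=
    { I := {E : EtOver X // IsAffine E.obj.left.left}
      X := fun E => E.1
      coversTop := coversTop_affine
      generators := G }
  have hσ : σ.IsFiniteType := SheafOfModules.LocalGeneratorsData.IsFiniteType.mk (p := σ) fun i => ⟨hG i⟩
  exact SheafOfModules.IsFiniteType.mk (M := M) ⟨σ, hσ⟩

/-- Finite morphisms are affine. -/
theorem isAffineMor_of_isFiniteMor (hfin : IsFiniteMor f) : IsAffineMor f := fun Z hZ g => by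
  obtain ⟨W, i, fst, sq, hW, -⟩ := hfin hZ g
  exact ⟨W, i, fst, sq, hW⟩

variable (hf : Representable f)

theorem finite_bcF (hfin : IsFiniteMor f) (E : EtOver Y) (hE : IsAffine E.obj.left.left) : (bcF hf E).Finite := by
  haveI := hE
  haveI : IsFinite (EtOver.bcπ hf E).left := (isFiniteMor_iff.1 hfin).2 _ _ _ (EtOver.isPullback_bcObj hf E)
  have h : ((EtOver.bcπ hf E).left.appTop).hom.Finite :=
    Scheme.Hom.finite_app (EtOver.bcπ hf E).left ⊤ (isAffineOpen_top _)
  exact ((RingHom.Finite.of_surjective (ULift.ringEquiv.symm : Γ((EtOver.bcObj hf E).obj.left.left, ⊤) ≃+*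
      ULift.{u + 1} Γ((EtOver.bcObj hf E).obj.left.left, ⊤)).toRingHom
      (ULift.ringEquiv.symm : Γ((EtOver.bcObj hf E).obj.left.left, ⊤) ≃+*
      ULift.{u + 1} Γ((EtOver.bcObj hf E).obj.left.left, ⊤)).surjective).comp h).comp
    (RingHom.Finite.of_surjective (ULift.ringEquiv : ULift.{u + 1} Γ(E.obj.left.left, ⊤) ≃+* _).toRingHom
      (ULift.ringEquiv : ULift.{u + 1} Γ(E.obj.left.left, ⊤) ≃+* _).surjective)

theorem finitePresentation_bcF (hY : IsAlgSpace Y) (hlfp : LocP @LocallyOfFinitePresentation f) (E : EtOver Y)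
    (hE : IsAffine E.obj.left.left) (hbc : IsAffine (EtOver.bcObj hf E).obj.left.left) :
    (bcF hf E).FinitePresentation := by
  haveI := hE
  haveI := hbc
  haveI : LocallyOfFinitePresentation (EtOver.bcπ hf E).left :=
    ((EtLocal.locP_iff_repWith EtLocal.lfp hY hf).1 hlfp).2 _ _ _ (EtOver.isPullback_bcObj hf E)
  have h : ((EtOver.bcπ hf E).left.appTop).hom.FinitePresentation :=
    HasRingHomProperty.appTop (P := @LocallyOfFinitePresentation) _ inferInstance
  exact ((RingHom.FinitePresentation.of_bijective (f := (ULift.ringEquiv.symm : Γ((EtOver.bcObj hf E).obj.left.left, ⊤) ≃+*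
      ULift.{u + 1} Γ((EtOver.bcObj hf E).obj.left.left, ⊤)).toRingHom)
      (ULift.ringEquiv.symm : Γ((EtOver.bcObj hf E).obj.left.left, ⊤) ≃+*
      ULift.{u + 1} Γ((EtOver.bcObj hf E).obj.left.left, ⊤)).bijective).comp h).comp
    (RingHom.FinitePresentation.of_bijective (f := (ULift.ringEquiv : ULift.{u + 1} Γ(E.obj.left.left, ⊤) ≃+* _).toRingHom)
      (ULift.ringEquiv : ULift.{u + 1} Γ(E.obj.left.left, ⊤) ≃+* _).bijective)

/-- Direct images along affine morphisms of quasi-coherent modules are quasi-coherent. -/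
theorem isQuasicoherent_push (haff : IsAffineMor f) (M : ModEt X) [M.IsQuasicoherent] :
    ((pushModEt hf).obj M).IsQuasicoherent :=
  isQuasicoherent_of_good _ fun _ hE => good_push hf haff M hE

theorem finite_push (hfin : IsFiniteMor f) (M : ModEt X) (E : EtOver Y) (hE : IsAffine E.obj.left.left) :
    Module.Finite (Ob (OEt Y) E) (Sec (O := OEt Y) ((pushModEt hf).obj M) E) ↔
      Module.Finite (Ob (OEt X) (EtOver.bcObj hf E)) (Sec (O := OEt X) M (EtOver.bcObj hf E)) := by
  let A := Ob (OEt Y) E
  let B := Ob (OEt X) (EtOver.bcObj hf E)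
  let N := Sec (O := OEt X) M (EtOver.bcObj hf E)
  letI : Algebra A B := (bcF hf E).toAlgebra
  haveI : Module.Finite A B := finite_bcF hf hfin E hE
  letI : Module A N := Module.compHom N (algebraMap A B)
  haveI : IsScalarTower A B N := IsScalarTower.of_algebraMap_smul fun _ _ => rfl
  constructor
  · intro (h : Module.Finite A N)
    exact Module.Finite.of_restrictScalars_finite A B N
  · intro h
    haveI : Module.Finite B N := h
    exact (Module.Finite.trans B N : Module.Finite A N)

theorem fp_push (hY : IsAlgSpace Y) (hfin : IsFiniteMor f) (hlfp : LocP @LocallyOfFinitePresentation f) (M : ModEt X)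
    (E : EtOver Y) (hE : IsAffine E.obj.left.left) :
    Module.FinitePresentation (Ob (OEt Y) E) (Sec (O := OEt Y) ((pushModEt hf).obj M) E) ↔
      Module.FinitePresentation (Ob (OEt X) (EtOver.bcObj hf E)) (Sec (O := OEt X) M (EtOver.bcObj hf E)) := by
  haveI := hE
  let A := Ob (OEt Y) E
  let B := Ob (OEt X) (EtOver.bcObj hf E)
  let N := Sec (O := OEt X) M (EtOver.bcObj hf E)
  letI : Algebra A B := (bcF hf E).toAlgebra
  haveI : Module.Finite A B := finite_bcF hf hfin E hE
  haveI : Algebra.FinitePresentation A B :=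
    finitePresentation_bcF hf hY hlfp E hE (isAffine_bcObj hf (isAffineMor_of_isFiniteMor hfin) E)
  haveI : Module.FinitePresentation A B := Module.FinitePresentation.of_finite_of_finitePresentation A B
  letI : Module A N := Module.compHom N (algebraMap A B)
  haveI : IsScalarTower A B N := IsScalarTower.of_algebraMap_smul fun _ _ => rfl
  constructor
  · intro (h : Module.FinitePresentation A N)
    haveI : Module.Finite B N := Module.Finite.of_restrictScalars_finite A B N
    obtain ⟨m, p, hp⟩ := Module.Finite.exists_fin' B N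
    refine Module.finitePresentation_of_surjective p hp ?_
    have hk : (LinearMap.ker (p.restrictScalars A)).FG :=
      Module.FinitePresentation.fg_ker (p.restrictScalars A) hp
    exact Submodule.FG.of_restrictScalars A hk
  · intro h
    haveI : Module.FinitePresentation B N := h
    exact (Module.FinitePresentation.trans (R := A) (M := N) B : Module.FinitePresentation A N)

/-- Properties of sections checked on base changes of charts. -/
theorem of_bc (hX : IsAlgSpace X) (hY : IsAlgSpace Y) (M : ModEt X) [M.IsQuasicoherent] (P : ∀ E : EtOver X, Prop)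
    (haff : IsAffineMor f)
    (hbc : ∀ {E W : EtOver X} (_ : W ⟶ E), IsAffine E.obj.left.left → IsAffine W.obj.left.left → P E → P W)
    (hcov : ∀ {E : EtOver X} (_ : IsAffine E.obj.left.left) (T : Sieve E), T ∈ etTop X E →
      (∀ ⦃Z : EtOver X⦄ (z : Z ⟶ E), IsAffine Z.obj.left.left → T.arrows z → P Z) → P E)
    (h : ∀ E : EtOver Y, IsAffine E.obj.left.left → P (EtOver.bcObj hf E)) {E : EtOver X}
    (hE : IsAffine E.obj.left.left) : P E := by
  let ι := {F : EtOver Y // IsAffine F.obj.left.left}
  obtain ⟨T, hT, hT'⟩ := covering_of_points hX (fun F : ι => EtOver.bcObj hf F.1) E fun x => by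
    obtain ⟨F, hF, v, hv⟩ := exists_affine_chart_at hY (Points.map f (Points.ofPt E.obj.hom x))
    obtain ⟨z, hzx, -⟩ := exists_of_isPullback (EtOver.isPullback_bcObj hf F) (x := Points.ofPt E.obj.hom x)
      (y := Points.schemeEquiv F.obj.left v) (by rw [hv.symm, Points.ofPt_eq_map_ofScheme]; rfl)
    obtain ⟨w, rfl⟩ := (Points.schemeEquiv (EtOver.bcObj hf F).obj.left).surjective z
    exact ⟨⟨F, hF⟩, w, (Points.ofPt_eq_map_ofScheme _ _).trans hzx⟩
  refine hcov hE T hT fun Z z hZ hz => ?_
  obtain ⟨W, a, b, i, g, hW, rfl⟩ := hT' z hz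
  haveI := i.2
  exact hbc a hW hZ (hbc g (isAffine_bcObj hf haff i.1) hW (h i.1 i.2))

end GrothLib.AlgSp.QCohEt
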