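import Mathlib.CategoryTheory.Sites.Point.Basic

/-!
# Detecting local injectivity and surjectivity on a covering-detecting family of points

Coefficients may live in a universe larger than that of the points.
-/

universe w w' v v' u u'

open CategoryTheory CategoryTheory.Limits Opposite

namespace GrothLib.PointDetect

variable {C : Type u} [Category.{v} C] [LocallySmall.{w} C] {J : GrothendieckTopology C}
  {A : Type u'} [Category.{v'} A] [HasColimitsOfSize.{w, w} A]
  {FC : A → A → Type*} {CC : A → Type w'} [∀ (X Y : A), FunLike (FC X Y) (CC X) (CC Y)]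
  [ConcreteCategory.{w'} A FC] [PreservesFilteredColimitsOfSize.{w, w} (forget A)]
  {ι : Type*} (Φ : ι → GrothendieckTopology.Point.{w} J)
  (hΦ : ∀ {U : C} (Q : Sieve U), (∀ (i : ι) (x : (Φ i).fiber.obj U),
    ∃ (V : C) (f : V ⟶ U) (_ : Q f) (y : (Φ i).fiber.obj V), (Φ i).fiber.map f y = x) → Q ∈ J U)

include hΦ

theorem isLocallyInjective {P Q : Cᵒᵖ ⥤ A} (a : P ⟶ Q)
    (h : ∀ i, Function.Injective ((Φ i).presheafFiber.map a)) : Presheaf.IsLocallyInjective J a where
  equalizerSieve_mem {U} s₁ s₂ he := hΦ _ fun i x => by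
    have h' : (Φ i).toPresheafFiber U.unop x P s₁ = (Φ i).toPresheafFiber U.unop x P s₂ := by
      apply h i
      exact ((Φ i).toPresheafFiber_naturality_apply a U.unop x s₁).trans ((congrArg _ he).trans
        ((Φ i).toPresheafFiber_naturality_apply a U.unop x s₂).symm)
    obtain ⟨V, f, y, hy, hf⟩ := ((Φ i).toPresheafFiber_eq_iff' U.unop x s₁ s₂).1 h'
    exact ⟨V, f, hf, y, hy⟩

theorem isLocallySurjective {P Q : Cᵒᵖ ⥤ A} (a : P ⟶ Q)
    (h : ∀ i, Function.Surjective ((Φ i).presheafFiber.map a)) : Presheaf.IsLocallySurjective J a where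
  imageSieve_mem {U} s := hΦ _ fun i x => by
    obtain ⟨q, hq⟩ := h i ((Φ i).toPresheafFiber U x Q s)
    obtain ⟨W, w, z, rfl⟩ := (Φ i).toPresheafFiber_jointly_surjective q
    replace hq := ((Φ i).toPresheafFiber_naturality_apply a W w z).symm.trans hq
    obtain ⟨⟨V, v⟩, ⟨k, hk⟩, ⟨g, hg⟩, -⟩ :=
      IsCofilteredOrEmpty.cone_objs (C := (Φ i).fiber.Elements) ⟨W, w⟩ ⟨U, x⟩
    dsimp only at k g hk hg
    rw [← hk, ← hg, ← (Φ i).toPresheafFiber_w_apply k v, ← (Φ i).toPresheafFiber_w_apply g v] at hq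
    obtain ⟨V', f, y, hy, hf⟩ := ((Φ i).toPresheafFiber_eq_iff' V v _ _).1 hq
    refine ⟨V', f ≫ g, ⟨P.map f.op (P.map k.op z), ?_⟩, y, ?_⟩
    · rw [op_comp, Functor.map_comp_apply, ← hf, NatTrans.naturality_apply, NatTrans.naturality_apply]
    · rw [Functor.map_comp_apply, hy, hg]

end GrothLib.PointDetect
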