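import Groth.Agent.Lib.AlgSp.EtPoints
import Groth.Agent.Lib.AlgSp.PointDetect
import Groth.Agent.Lib.AlgSp.Points
import Groth.Prelude.Def_AlgSpModX
import Mathlib.Algebra.Category.Grp.FilteredColimits

/-!
# Stalks of sheaves on the small etale site of an algebraic space

* instances for coefficients one universe up; `stalkEtFunctor` is the fibre functor of `etPoint` by `rfl`.
* `injective_stalk_of_mono`, `surjective_map_of_epi`, `mono_of_stalks`, `epi_of_stalks`.
-/

universe u

set_option backward.isDefEq.respectTransparency false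

open CategoryTheory CategoryTheory.Limits AlgebraicGeometry Opposite
open scoped ZeroObject

namespace GrothLib.AlgSp

open _root_.AlgSp

instance ab5OfSize_type_succ : AB5OfSize.{u, u} (Type (u + 1)) := by
  have : AB5OfSize.{u + 1, u + 1} (Type (u + 1)) := inferInstanceAs (AB5 (Type (u + 1)))
  exact AB5OfSize_of_univLE.{u, u, u + 1, u + 1} (Type (u + 1))

instance ab5OfSize_ab_succ : AB5OfSize.{u, u} AddCommGrpCat.{u + 1} := by
  have : AB5OfSize.{u + 1, u + 1} AddCommGrpCat.{u + 1} := inferInstanceAs (AB5 AddCommGrpCat.{u + 1})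
  exact AB5OfSize_of_univLE.{u, u, u + 1, u + 1} AddCommGrpCat.{u + 1}

instance preservesFiltered_forget_ab_succ :
    PreservesFilteredColimitsOfSize.{u, u} (forget AddCommGrpCat.{u + 1}) :=
  by
  haveI : PreservesFilteredColimitsOfSize.{u + 1, u + 1} (forget AddCommGrpCat.{u + 1}) := inferInstance
  exact preservesFilteredColimitsOfSize_of_univLE.{u + 1, u + 1, u, u} (forget AddCommGrpCat.{u + 1})

variable {S : Scheme.{u}} (X : Space S)

/-- All geometric points, as a family of points of the site. -/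
noncomputable def etPoints (q : {p : FieldPt X.obj // p.IsGeometric}) :
    GrothendieckTopology.Point.{u} (etTop X.obj) :=
  etPoint X q.1 q.2

theorem etPoints_detect {E : EtOver X.obj} (Q : Sieve E)
    (h : ∀ (q : {p : FieldPt X.obj // p.IsGeometric}) (x : (etPoints X q).fiber.obj E),
      ∃ (E' : EtOver X.obj) (f : E' ⟶ E) (_ : Q f) (y : (etPoints X q).fiber.obj E'),
        (etPoints X q).fiber.map f y = x) : Q ∈ etTop X.obj E :=
  mem_etTop_of_points X Q fun p hp l => h ⟨p, hp⟩ l

theorem injective_stalk_of_mono {F G : EtSh X.obj (Type (u + 1))} (a : F ⟶ G) [Mono a] (p : FieldPt X.obj)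
    (hp : p.IsGeometric) : Function.Injective ((stalkEtFunctor (Type (u + 1)) p).map a) := by
  change Function.Injective ((etPoint X p hp).sheafFiber.map a)
  rw [← CategoryTheory.mono_iff_injective]
  infer_instance

theorem surjective_map_of_epi {F G : EtSh X.obj (Type (u + 1))} (a : F ⟶ G) [Epi a] (p : FieldPt X.obj)
    (hp : p.IsGeometric) : Function.Surjective ((stalkEtFunctor (Type (u + 1)) p).map a) := by
  change Function.Surjective ((etPoint X p hp).sheafFiber.map a)
  rw [← CategoryTheory.epi_iff_surjective]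
  infer_instance

theorem mono_of_stalks {F G : EtSh X.obj (Type (u + 1))} (a : F ⟶ G)
    (h : ∀ p : FieldPt X.obj, p.IsGeometric → Function.Injective ((stalkEtFunctor (Type (u + 1)) p).map a)) :
    Mono a :=
  haveI : Sheaf.IsLocallyInjective a :=
    PointDetect.isLocallyInjective (etPoints X) (etPoints_detect X) a.hom fun q => h q.1 q.2
  Sheaf.mono_of_isLocallyInjective a

theorem epi_of_stalks {F G : EtSh X.obj (Type (u + 1))} (a : F ⟶ G)
    (h : ∀ p : FieldPt X.obj, p.IsGeometric → Function.Surjective ((stalkEtFunctor (Type (u + 1)) p).map a)) :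
    Epi a :=
  haveI : Sheaf.IsLocallySurjective a :=
    PointDetect.isLocallySurjective (etPoints X) (etPoints_detect X) a.hom fun q => h q.1 q.2
  inferInstance

theorem isZero_of_stalks (F : AbEt X.obj)
    (h : ∀ p : FieldPt X.obj, p.IsGeometric → IsZero ((stalkEtFunctor AddCommGrpCat.{u + 1} p).obj F)) :
    IsZero F := by
  haveI : Sheaf.IsLocallyInjective (0 : F ⟶ 0) :=
    PointDetect.isLocallyInjective (etPoints X) (etPoints_detect X) (0 : F ⟶ 0).hom fun q a b _ =>
      (AddCommGrpCat.subsingleton_of_isZero (h q.1 q.2)).elim a b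
  haveI := Sheaf.mono_of_isLocallyInjective (0 : F ⟶ 0)
  exact IsZero.of_mono (0 : F ⟶ 0) (isZero_zero _)

/-- A geometric point lifts to an object of the site through every point over its image. -/
theorem exists_liftsTo_of_ofPt_eq {X : Sp S} (p : FieldPt X) (hp : p.IsGeometric) (E : EtOver X) (x : ↥E.obj.left.left)
    (hx : Points.ofPt E.obj.hom x = Points.mk p) :
    ∃ l : (FieldPt.liftsTo p).obj E, l.1.left (IsLocalRing.closedPoint p.K) = x := by
  haveI : IsAlgClosed p.K := hp
  obtain ⟨W, d, c, sq⟩ := exists_isPullback_of_representable E.property.1 p.toHom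
  obtain ⟨d, rfl⟩ := (yon S).map_surjective d
  haveI : Etale c.left := E.property.2 _ _ _ sq
  obtain ⟨w, hw, -⟩ := (ofPt_eq_ofPt_iff sq x (IsLocalRing.closedPoint p.K)).1
    (hx.trans (Points.ofPt_toHom p _).symm)
  obtain ⟨s, hs, hsw⟩ := exists_section_of_etale_algClosed (K := p.K) (str := p.str) c w
  have hlift : (yon S).map (s ≫ d) ≫ E.obj.hom = p.toHom := by
    rw [Functor.map_comp, Category.assoc, sq.w, ← Functor.map_comp_assoc, hs, CategoryTheory.Functor.map_id,
      Category.id_comp]
  exact ⟨⟨s ≫ d, hlift⟩, ((Scheme.Hom.comp_apply _ _ _).trans (congrArg d.left hsw)).trans hw⟩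

theorem ofPt_closedPoint_of_lift {X : Sp S} (p : FieldPt X) {E : EtOver X} (l : (FieldPt.liftsTo p).obj E) :
    Points.ofPt E.obj.hom (l.1.left (IsLocalRing.closedPoint p.K)) = Points.mk p := by
  obtain ⟨m, hm⟩ := l
  have h2 := Points.ofPt_toHom p (IsLocalRing.closedPoint p.K)
  rw [← hm] at h2
  rw [← h2]
  exact (ofPt_map_comp (T := p.pt) m E.obj.hom (IsLocalRing.closedPoint p.K)).symm

/-- The germ of a section vanishes at a lifted geometric point iff the section vanishes on a neighbourhood. -/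
theorem stalkEtι_eq_zero_iff (F : AbEt X.obj) (p : FieldPt X.obj) (hp : p.IsGeometric) (U : EtOver X.obj)
    (l : (FieldPt.liftsTo p).obj U) (σ : ↥(F.obj.obj (op U))) :
    (stalkEtι p F ⟨U, l⟩).hom σ = 0 ↔ ∃ (V : EtOver X.obj) (φ : V ⟶ U),
      (F.obj.map φ.op).hom σ = 0 ∧ l.1.left (IsLocalRing.closedPoint p.K) ∈ Set.range φ.hom.left.left := by
  let Φ := etPoint X p hp
  constructor
  · intro h
    have h' : Φ.toPresheafFiber U l F.obj σ = Φ.toPresheafFiber U l F.obj 0 := h.trans (map_zero _).symm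
    obtain ⟨V, φ, y, hy, hφ⟩ := (Φ.toPresheafFiber_eq_iff' U l σ 0).1 h'
    refine ⟨V, φ, hφ.trans (map_zero _), y.1.left (IsLocalRing.closedPoint p.K), ?_⟩
    rw [← hy]
    rfl
  · rintro ⟨V, φ, hφ, e, he⟩
    obtain ⟨y, hy⟩ := exists_liftsTo_map p hp φ l e he
    subst hy
    change Φ.toPresheafFiber U (Φ.fiber.map φ y) F.obj σ = 0
    rw [← Φ.toPresheafFiber_w_apply φ y]
    exact (congrArg (Φ.toPresheafFiber V y F.obj) hφ).trans (map_zero _)

/-- Germs span the stalk. -/
theorem isZero_stalkEt_iff (F : AbEt X.obj) (p : FieldPt X.obj) (hp : p.IsGeometric) :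
    IsZero (stalkEt p F) ↔ ∀ (U : EtOver X.obj) (l : (FieldPt.liftsTo p).obj U) (σ : ↥(F.obj.obj (op U))),
      (stalkEtι p F ⟨U, l⟩).hom σ = 0 := by
  refine ⟨fun h U l σ => (AddCommGrpCat.subsingleton_of_isZero h).elim _ _, fun h => ?_⟩
  haveI : Subsingleton ↥(stalkEt p F) := ⟨fun a b => by
    have key : ∀ c : ↥(stalkEt p F), c = 0 := fun c => by
      obtain ⟨U, l, σ, rfl⟩ := (etPoint X p hp).toPresheafFiber_jointly_surjective (P := F.obj) c
      exact h U l σ
    rw [key a, key b]⟩
  exact AddCommGrpCat.isZero_of_subsingleton _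

end GrothLib.AlgSp
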