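import Groth.Agent.Lib.AlgSp.QCohCharts
import Groth.Agent.Lib.AlgSp.EtStalk
import Groth.Agent.Lib.AlgSp.GeomNbhd
import Groth.Agent.Lib.AlgSp.OpenSub

/-!
# Vanishing near a geometric point

* `exists_nbhd_zero`: finite modules with vanishing germs vanish on a neighbourhood.
* `exists_open_zero`: the corresponding open subspace.
* `exists_lift_through`: local lifts through a prescribed point.
-/

universe u

open CategoryTheory CategoryTheory.Limits AlgebraicGeometry Opposite TensorProduct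
set_option backward.isDefEq.respectTransparency false

noncomputable section

namespace GrothLib.AlgSp.QCohEt

open _root_.AlgSp

variable {S : Scheme.{u}}

theorem mem_sieve_of_covering {X : Sp S} {E : EtOver X} {T : Sieve E} (hT : T ∈ etTop X E) (x : E.obj.left.left) :
    ∃ (Z : EtOver X) (z : Z ⟶ E) (y : Z.obj.left.left), T.arrows z ∧ z.hom.left.left y = x := by
  obtain ⟨R, hR, hle⟩ := Precoverage.mem_toGrothendieck_iff_of_isStableUnderComposition.1
    (show T ∈ (etPre X).toGrothendieck E from hT)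
  obtain ⟨ι, Y, g, rfl⟩ := Presieve.exists_eq_ofArrows R
  obtain ⟨i, y, hy⟩ := (ofArrows_mem_etPre_iff Y g).1 hR x
  exact ⟨Y i, g i, y, hle _ _ ⟨i⟩, hy⟩

variable {X : Space S}

/-- Vanishing germs vanish on a neighbourhood. -/
theorem exists_nbhd_zero (K : ModEt X.obj) (hK : ∀ E, IsAffine E.obj.left.left → Good (O := OEt X.obj) K (affEt X.obj) E)
    (hfin : ∀ E, IsAffine E.obj.left.left → Module.Finite (Ob (OEt X.obj) E) (Sec (O := OEt X.obj) K E))
    (p : FieldPt X.obj) (hp : p.IsGeometric)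
    (hgerm : ∀ (E : EtOver X.obj) (l : (FieldPt.liftsTo p).obj E) (s : Sec (O := OEt X.obj) K E),
      (stalkEtι p ((toAbEt X.obj).obj K) ⟨E, l⟩).hom s = 0) :
    ∃ W : Set (Points X.obj), IsOpen W ∧ Points.mk p ∈ W ∧
      ∀ (Z : EtOver X.obj), Set.range (Points.ofPt Z.obj.hom) ⊆ W → ∀ x : Sec (O := OEt X.obj) K Z, x = 0 := by
  classical
  obtain ⟨E, hE, u, hu⟩ := exists_affine_chart_at X.property (Points.mk p)
  obtain ⟨l, hl⟩ := exists_liftsTo_of_ofPt_eq p hp E u hu
  haveI := hfin E hE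
  obtain ⟨t, ht⟩ := (Module.Finite.fg_top : (⊤ : Submodule (Ob (OEt X.obj) E) (Sec (O := OEt X.obj) K E)).FG)
  choose V g hg hVu using fun s : ↥t =>
    (stalkEtι_eq_zero_iff X ((toAbEt X.obj).obj K) p hp E l s.1).1 (hgerm E l s.1)
  haveI : ∀ s, Etale (g s).hom.left.left := fun s => EtOver.etale_left _
  have hopen : IsOpen (⋂ s : ↥t, Set.range (g s).hom.left.left) :=
    isOpen_iInter_of_finite fun s => (g s).hom.left.left.isOpenMap.isOpen_range
  obtain ⟨O, hO, huO, hsub⟩ := exists_isAffineOpen_mem_and_subset (x := u)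
    (U := (⟨_, hopen⟩ : E.obj.left.left.Opens)) (Set.mem_iInter.2 fun s => hl ▸ hVu s)
  let E' := opensObj E O
  have hzero : ∀ m : Sec (O := OEt X.obj) K E, mres (O := OEt X.obj) K (opensInc E O) m = 0 := by
    intro m
    have hm : m ∈ Submodule.span (Ob (OEt X.obj) E) (t : Set (Sec (O := OEt X.obj) K E)) := ht ▸ Submodule.mem_top
    induction hm using Submodule.span_induction with
    | mem s hs =>
      have hcov : ∀ x : E'.obj.left.left, ∃ y, (EtOver.pullbackFst (opensInc E O) (g ⟨s, hs⟩)).hom.left.left y = x := by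
        intro x
        obtain ⟨v, hv⟩ := Set.mem_iInter.1 (hsub x.2) ⟨s, hs⟩
        have sq := (IsPullback.of_hasPullback (opensInc E O).hom.left (g ⟨s, hs⟩).hom.left).map (Over.forget S)
        obtain ⟨y, hy, -⟩ := Scheme.Pullback.exists_preimage_pullback (f := (opensInc E O).hom.left.left)
          (g := (g ⟨s, hs⟩).hom.left.left) x v hv.symm
        refine ⟨sq.isoPullback.inv y, ?_⟩
        exact ((Scheme.Hom.comp_apply _ _ _).symm.trans
          (congrArg (fun q : _ ⟶ (E'.obj.left.left : Scheme.{u}) => q.base y) sq.isoPullback_inv_fst)).trans hy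
      refine sec_ext (O := OEt X.obj) K (ofArrows_mem_etTop (fun _ : Unit => EtOver.pullbackObj (opensInc E O) (g ⟨s, hs⟩))
        (fun _ => EtOver.pullbackFst (opensInc E O) (g ⟨s, hs⟩)) fun x => ⟨(), hcov x⟩) fun Z z hz => ?_
      obtain ⟨_, a, _, ⟨i⟩, rfl⟩ := hz
      rw [map_zero, mres_comp, ← mres_comp K (opensInc E O), EtOver.pullback_condition, mres_comp]
      have h0 : mres (O := OEt X.obj) K (g ⟨s, hs⟩) s = 0 := hg ⟨s, hs⟩
      rw [h0, map_zero, map_zero]
    | zero => exact map_zero _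
    | add a b _ _ ha hb => rw [map_add, ha, hb, add_zero]
    | smul c a _ ha => rw [mres_smul, ha, smul_zero]
  refine ⟨Set.range (Points.ofPt E'.obj.hom), (isOpenMap_ofPt_of_etale E'.property).isOpen_range,
    ⟨⟨u, huO⟩, (Points.ofPt_eq_map_ofScheme _ _).trans ?_⟩, fun Z hZ x => ?_⟩
  · show Points.map ((yon S).map (Over.homMk O.ι rfl : Over.mk (O.ι ≫ E.obj.left.hom) ⟶ E.obj.left) ≫ E.obj.hom)
      (Points.ofScheme _ (⟨u, huO⟩ : O)) = Points.mk p
    rw [Points.map_comp]
    exact (congrArg (Points.map E.obj.hom) (map_yon_ofPt _ _)).trans ((Points.ofPt_eq_map_ofScheme _ _).symm.trans hu)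
  · obtain ⟨T, hT, hT'⟩ := covering_of_points X.property (fun _ : Unit => E') Z fun z => by
      obtain ⟨v, hv⟩ := hZ ⟨z, rfl⟩
      exact ⟨(), v, hv⟩
    refine sec_ext (O := OEt X.obj) K hT fun Z' z' hz' => ?_
    obtain ⟨W, a, b, -, h, hW, rfl⟩ := hT' z' hz'
    rw [map_zero, mres_comp]
    obtain ⟨c, hc⟩ := (hK E hE (Over.mk (h ≫ opensInc E O)) hW).2 (mres (O := OEt X.obj) K b x)
    suffices h0 : theta (LinearMap.id : Sec (O := OEt X.obj) K E →ₗ[_] _) (Over.mk (h ≫ opensInc E O)) c = 0 by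
      rw [← hc, h0, map_zero]
    clear hc
    induction c using TensorProduct.induction_on with
    | zero => rw [map_zero]
    | add a b ha hb => rw [map_add, ha, hb, add_zero]
    | tmul r m =>
      rw [theta_tmul, LinearMap.id_apply]
      show (show Ob (OEt X.obj) W from r) • mres (O := OEt X.obj) K (h ≫ opensInc E O) m = 0
      rw [mres_comp, hzero, map_zero, smul_zero]

/-- The open subspace of a neighbourhood. -/
theorem exists_space {W : Set (Points X.obj)} (hW : IsOpen W) :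
    ∃ (X' : Space S) (j : X' ⟶ X), RepWith @IsOpenImmersion j.hom ∧ Set.range (Points.map j.hom) = W :=
  ⟨⟨openSub X.obj W, isAlgSpace_openSub X.property hW⟩, ObjectProperty.homMk (openSubι X.obj W),
    repWith_openSubι hW, range_openSubι⟩

end GrothLib.AlgSp.QCohEt

namespace GrothLib.AlgSp.QCohEt

open _root_.AlgSp CategoryTheory CategoryTheory.Limits Opposite

variable {S : Scheme.{u}} {X : Space S} {M N : ModEt X.obj}

theorem germ_map (p : FieldPt X.obj) (φ : M ⟶ N) (V : EtNbhd p) (s : Sec (O := OEt X.obj) M V.1) :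
    ((stalkEtFunctor AddCommGrpCat.{u + 1} p).map ((toAbEt X.obj).map φ)).hom
        ((stalkEtι p ((toAbEt X.obj).obj M) V).hom s) =
      (stalkEtι p ((toAbEt X.obj).obj N) V).hom (app (O := OEt X.obj) φ V.1 s) :=
  ConcreteCategory.congr_hom (colimit.ι_map (Functor.whiskerLeft (EtNbhd.toEtOver p).op ((toAbEt X.obj).map φ).hom) (op V)) s

/-- An injective stalk map is injective on sections nearby. -/
theorem exists_nbhd_mono (hX : IsLocNoethSp X.obj) [M.IsFinitePresentation] [N.IsFinitePresentation] (φ : M ⟶ N)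
    (p : FieldPt X.obj) (hp : p.IsGeometric)
    (hinj : Mono ((stalkEtFunctor AddCommGrpCat.{u + 1} p).map ((toAbEt X.obj).map φ))) :
    ∃ W : Set (Points X.obj), IsOpen W ∧ Points.mk p ∈ W ∧
      ∀ (Z : EtOver X.obj), Set.range (Points.ofPt Z.obj.hom) ⊆ W → Function.Injective (app (O := OEt X.obj) φ Z) := by
  let T : ShortComplex (ModEt X.obj) := ShortComplex.mk (kernel.ι φ) φ (kernel.condition φ)
  have hT : T.Exact := ShortComplex.exact_of_f_is_kernel _ (kernelIsKernel φ)
  haveI : Mono T.f := inferInstanceAs (Mono (kernel.ι φ))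
  obtain ⟨W, hW, hpW, hzero⟩ := exists_nbhd_zero (kernel φ)
    (fun E hE => good_left (affEt X.obj) hT hE (good_of_isQuasicoherent M hE) (good_of_isQuasicoherent N hE))
    (fun E hE => by
      haveI := isNoetherianRing_ob hX hE
      haveI := finite_sec_of_isFiniteType M hE
      exact Module.Finite.of_injective (app (O := OEt X.obj) (kernel.ι φ) E) (app_injective _ E))
    p hp fun E l s => by
      haveI : Mono ((toAbEt X.obj).map (kernel.ι φ)) := inferInstance
      haveI : Mono ((stalkEtFunctor AddCommGrpCat.{u + 1} p).map ((toAbEt X.obj).map (kernel.ι φ))) := by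
        change Mono ((etPoint X p hp).sheafFiber.map ((toAbEt X.obj).map (kernel.ι φ)))
        infer_instance
      apply (AddCommGrpCat.mono_iff_injective
        ((stalkEtFunctor AddCommGrpCat.{u + 1} p).map ((toAbEt X.obj).map (kernel.ι φ)))).1 inferInstance
      rw [map_zero]
      refine (germ_map p (kernel.ι φ) ⟨E, l⟩ s).trans ?_
      apply (AddCommGrpCat.mono_iff_injective _).1 hinj
      rw [map_zero]
      refine (germ_map p φ ⟨E, l⟩ _).trans ?_
      rw [← app_comp, kernel.condition]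
      exact map_zero _
  refine ⟨W, hW, hpW, fun Z hZ => (injective_iff_map_eq_zero _).2 fun x hx => ?_⟩
  obtain ⟨k, rfl⟩ := exact_kernel φ Z x hx
  rw [hzero Z hZ k, map_zero]

/-- Germs of the cokernel of a map surjective on a stalk vanish. -/
theorem germ_cokernel_zero (φ : M ⟶ N) (p : FieldPt X.obj) (hp : p.IsGeometric)
    (hsurj : Epi ((stalkEtFunctor AddCommGrpCat.{u + 1} p).map ((toAbEt X.obj).map φ)))
    (E : EtOver X.obj) (l : (FieldPt.liftsTo p).obj E) (s : Sec (O := OEt X.obj) (cokernel φ) E) :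
    (stalkEtι p ((toAbEt X.obj).obj (cokernel φ)) ⟨E, l⟩).hom s = 0 := by
  haveI : Epi ((toAbEt X.obj).map (cokernel.π φ)) := GrothLib.QCoh.toSheaf_map_epi _
  have h1 : Function.Surjective ((stalkEtFunctor AddCommGrpCat.{u + 1} p).map ((toAbEt X.obj).map (cokernel.π φ))).hom := by
    rw [← AddCommGrpCat.epi_iff_surjective]
    change Epi ((etPoint X p hp).sheafFiber.map ((toAbEt X.obj).map (cokernel.π φ)))
    infer_instance
  obtain ⟨a, ha⟩ := h1 ((stalkEtι p ((toAbEt X.obj).obj (cokernel φ)) ⟨E, l⟩).hom s)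
  obtain ⟨b, rfl⟩ := (AddCommGrpCat.epi_iff_surjective _).1 hsurj a
  obtain ⟨U, l', σ, rfl⟩ := (etPoint X p hp).toPresheafFiber_jointly_surjective (P := ((toAbEt X.obj).obj M).obj) b
  rw [← ha]
  refine (congrArg _ (germ_map p φ ⟨U, l'⟩ σ)).trans ((germ_map p (cokernel.π φ) ⟨U, l'⟩ _).trans ?_)
  rw [← app_comp, cokernel.condition]
  exact map_zero _

/-- A surjective stalk map is locally surjective on sections nearby. -/
theorem exists_nbhd_epi [M.IsFinitePresentation] [N.IsFinitePresentation] (φ : M ⟶ N)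
    (p : FieldPt X.obj) (hp : p.IsGeometric)
    (hsurj : Epi ((stalkEtFunctor AddCommGrpCat.{u + 1} p).map ((toAbEt X.obj).map φ))) :
    ∃ W : Set (Points X.obj), IsOpen W ∧ Points.mk p ∈ W ∧
      ∀ (Z : EtOver X.obj), Set.range (Points.ofPt Z.obj.hom) ⊆ W → ∀ y : Sec (O := OEt X.obj) N Z,
        ∃ T ∈ etTop X.obj Z, ∀ ⦃Z' : EtOver X.obj⦄ (z : Z' ⟶ Z), T.arrows z →
          ∃ x, app (O := OEt X.obj) φ Z' x = mres (O := OEt X.obj) N z y := by
  let T : ShortComplex (ModEt X.obj) := ShortComplex.mk φ (cokernel.π φ) (cokernel.condition φ)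
  have hT : T.Exact := ShortComplex.exact_of_g_is_cokernel _ (cokernelIsCokernel φ)
  haveI : Epi T.g := inferInstanceAs (Epi (cokernel.π φ))
  have hC : ∀ E : EtOver X.obj, IsAffine E.obj.left.left → Good (O := OEt X.obj) (cokernel φ) (affEt X.obj) E :=
    fun E hE => good_right (affEt X.obj) hT hE (good_of_isQuasicoherent M hE) (good_of_isQuasicoherent N hE)
  obtain ⟨W, hW, hpW, hzero⟩ := exists_nbhd_zero (cokernel φ) hC
    (fun E hE => by
      haveI := finite_sec_of_isFiniteType N hE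
      exact Module.Finite.of_surjective (app (O := OEt X.obj) (cokernel.π φ) E)
        (surjective_app_of_epi (affEt X.obj) _ hE (good_of_isQuasicoherent N hE) (hC E hE)))
    p hp (germ_cokernel_zero φ p hp hsurj)
  refine ⟨W, hW, hpW, fun Z hZ y => ?_⟩
  obtain ⟨k, hk⟩ := exact_kernel (cokernel.π φ) Z y (hzero Z hZ _)
  haveI : Epi (kernel.lift (cokernel.π φ) φ (cokernel.condition φ)) := T.exact_iff_epi_kernel_lift.1 hT
  obtain ⟨U, hU, hlift⟩ := exists_lift_of_epi (O := OEt X.obj) (kernel.lift (cokernel.π φ) φ (cokernel.condition φ)) k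
  refine ⟨U, hU, fun Z' z hz => ?_⟩
  obtain ⟨x, hx⟩ := hlift z hz
  refine ⟨x, ?_⟩
  have e := congrArg (app (O := OEt X.obj) (kernel.ι (cokernel.π φ)) Z') hx
  have e1 : app (O := OEt X.obj) (kernel.lift (cokernel.π φ) φ (cokernel.condition φ) ≫ kernel.ι (cokernel.π φ)) Z' x =
      app (O := OEt X.obj) φ Z' x := by rw [kernel.lift_ι]
  exact e1.symm.trans (e.trans ((app_mres _ z k).trans (congrArg _ hk)))

/-- An injective, locally surjective map of sections is bijective. -/
theorem bijective_app {W : Set (Points X.obj)} (φ : M ⟶ N)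
    (hinj : ∀ (Z : EtOver X.obj), Set.range (Points.ofPt Z.obj.hom) ⊆ W → Function.Injective (app (O := OEt X.obj) φ Z))
    {Z : EtOver X.obj} (hZ : Set.range (Points.ofPt Z.obj.hom) ⊆ W)
    (hloc : ∀ y : Sec (O := OEt X.obj) N Z, ∃ T ∈ etTop X.obj Z, ∀ ⦃Z' : EtOver X.obj⦄ (z : Z' ⟶ Z), T.arrows z →
      ∃ x, app (O := OEt X.obj) φ Z' x = mres (O := OEt X.obj) N z y) :
    Function.Bijective (app (O := OEt X.obj) φ Z) := by
  refine ⟨hinj Z hZ, fun y => ?_⟩
  have hsub : ∀ {Z' : EtOver X.obj} (_ : Z' ⟶ Z), Set.range (Points.ofPt Z'.obj.hom) ⊆ W := by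
    rintro Z' z _ ⟨v, rfl⟩
    refine hZ ⟨z.hom.left.left v, ?_⟩
    rw [Points.ofPt_eq_map_ofScheme, Points.ofPt_eq_map_ofScheme, ← map_yon_ofPt z.hom.left v, ← Points.map_comp]
    exact congrArg (fun k => Points.map k _) (CostructuredArrow.w z.hom)
  obtain ⟨T, hT, hT'⟩ := hloc y
  choose x hx using fun Z' (z : Z' ⟶ Z) (hz : T.arrows z) => hT' z hz
  have hxc : Presieve.FamilyOfElements.Compatible
      (P := M.val.presheaf ⋙ CategoryTheory.forget AddCommGrpCat.{u + 1}) (R := T.arrows) x := by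
    intro Z₁ Z₂ W' g₁ g₂ f₁ f₂ h₁ h₂ e
    apply hinj W' ((Set.Subset.refl _).trans (hsub (g₁ ≫ f₁)))
    show app (O := OEt X.obj) φ W' (mres (O := OEt X.obj) M g₁ (x Z₁ f₁ h₁)) =
      app (O := OEt X.obj) φ W' (mres (O := OEt X.obj) M g₂ (x Z₂ f₂ h₂))
    rw [app_mres, app_mres, hx, hx, ← mres_comp, ← mres_comp, e]
  obtain ⟨s, hs, -⟩ := ((isSheaf_iff_isSheaf_of_type _ _).1
    ((Presheaf.isSheaf_iff_isSheaf_forget (etTop X.obj) M.val.presheaf (CategoryTheory.forget AddCommGrpCat.{u + 1})).1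
      M.isSheaf) _ hT) x hxc
  refine ⟨s, sec_ext (O := OEt X.obj) N hT fun Z' z hz => ?_⟩
  rw [← app_mres]
  exact (congrArg (app (O := OEt X.obj) φ Z') (hs z hz)).trans (hx Z' z hz)

/-- Stalk surjectivity from local surjectivity. -/
theorem epi_stalk {W : Set (Points X.obj)} (φ : M ⟶ N)
    (hloc : ∀ (Z : EtOver X.obj), Set.range (Points.ofPt Z.obj.hom) ⊆ W → ∀ y : Sec (O := OEt X.obj) N Z,
      ∃ T ∈ etTop X.obj Z, ∀ ⦃Z' : EtOver X.obj⦄ (z : Z' ⟶ Z), T.arrows z →
        ∃ x, app (O := OEt X.obj) φ Z' x = mres (O := OEt X.obj) N z y)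
    (hW : IsOpen W) (q : FieldPt X.obj) (hq : q.IsGeometric) (hqW : Points.mk q ∈ W) :
    Epi ((stalkEtFunctor AddCommGrpCat.{u + 1} q).map ((toAbEt X.obj).map φ)) := by
  rw [AddCommGrpCat.epi_iff_surjective]
  intro c
  obtain ⟨U, l, σ, rfl⟩ := (etPoint X q hq).toPresheafFiber_jointly_surjective (P := ((toAbEt X.obj).obj N).obj) c
  let O : U.obj.left.left.Opens := ⟨Points.ofPt U.obj.hom ⁻¹' W, Points.isOpen_iff.1 hW _ _⟩
  have hl0 : l.1.left (IsLocalRing.closedPoint q.K) ∈ O := by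
    show Points.ofPt U.obj.hom _ ∈ W
    rw [ofPt_closedPoint_of_lift q l]
    exact hqW
  have hsub : Set.range (Points.ofPt (opensObj U O).obj.hom) ⊆ W := by
    rintro _ ⟨v, rfl⟩
    rw [Points.ofPt_eq_map_ofScheme]
    show Points.map ((yon S).map (Over.homMk O.ι rfl : Over.mk (O.ι ≫ U.obj.left.hom) ⟶ U.obj.left) ≫ U.obj.hom)
      (Points.ofScheme _ v) ∈ W
    rw [Points.map_comp]
    exact Set.mem_of_eq_of_mem
      ((congrArg (Points.map U.obj.hom) (map_yon_ofPt _ _)).trans (Points.ofPt_eq_map_ofScheme _ _).symm) v.2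
  obtain ⟨T, hT, hT'⟩ := hloc (opensObj U O) hsub (mres (O := OEt X.obj) N (opensInc U O) σ)
  obtain ⟨Z', z, w, hz, hw⟩ := mem_sieve_of_covering hT (⟨_, hl0⟩ : O)
  obtain ⟨m, hm⟩ := exists_liftsTo_map q hq (z ≫ opensInc U O) l w (by
    rw [comp_left_left, Scheme.Hom.comp_apply, hw]
    rfl)
  obtain ⟨x, hx⟩ := hT' z hz
  refine ⟨(stalkEtι q ((toAbEt X.obj).obj M) ⟨Z', m⟩).hom x, (germ_map q φ ⟨Z', m⟩ x).trans ?_⟩
  rw [hx, ← mres_comp]
  refine ((etPoint X q hq).toPresheafFiber_w_apply (z ≫ opensInc U O) m ((toAbEt X.obj).obj N).obj σ).trans ?_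
  exact congrArg (fun l' => (etPoint X q hq).toPresheafFiber U l' ((toAbEt X.obj).obj N).obj σ) hm

end GrothLib.AlgSp.QCohEt
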