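import Groth.Agent.Lib.Altitude.Scheme
import Groth.Agent.Lib.CycBasic.DimFun
import Groth.Agent.Lib.AffDom.Formula

/-!
# The dimension inequality for morphisms locally of finite type

`exists_component_specializes`, `ringKrullDim_stalk_add_trdeg_le`.
-/

universe u

open CategoryTheory CategoryTheory.Limits AlgebraicGeometry

namespace GrothLib.DimFormula

variable {X S : Scheme.{u}}

theorem closure_mem_irreducibleComponents_of_maximal {ξ : X} (h : ∀ η : X, η ⤳ ξ → η = ξ) :
    closure {ξ} ∈ irreducibleComponents ↥X := by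
  refine ⟨isIrreducible_singleton.closure, fun T hT hle => ?_⟩
  obtain ⟨η, hη⟩ := QuasiSober.sober hT.closure isClosed_closure
  have hs : η ⤳ ξ := hη.specializes (subset_closure (hle (subset_closure rfl)))
  obtain rfl := h η hs
  exact subset_closure.trans hη.def.ge

/-- The dimension of a local ring is attained by the branches through the generic points. -/
theorem exists_component_specializes (x : X) (s : LTSeries (PrimeSpectrum (X.presheaf.stalk x))) :
    ∃ (ξ : X) (h : ξ ⤳ x), closure {ξ} ∈ irreducibleComponents ↥X ∧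
      (s.length : WithBot ℕ∞) ≤ ringKrullDim (Cyc.LocQuot x ξ h) := by
  obtain ⟨Q, hQ, hQle⟩ := Ideal.exists_minimalPrimes_le (bot_le : ⊥ ≤ s.head.asIdeal)
  let Q' : PrimeSpectrum (X.presheaf.stalk x) := ⟨Q, hQ.1.1⟩
  let ξ := X.fromSpecStalk x Q'
  have h : ξ ⤳ x := GrothLib.CycBasic.specializes_fromSpecStalk Q'
  have hker : RingHom.ker (Cyc.specMap x ξ h) = Q := by
    rw [GrothLib.CycBasic.ker_specMap h]
    exact congrArg PrimeSpectrum.asIdeal ((X.fromSpecStalk x).isEmbedding.injective
      (GrothLib.CycBasic.fromSpecStalk_comap_closedPoint h))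
  refine ⟨ξ, h, closure_mem_irreducibleComponents_of_maximal fun η hη => ?_, ?_⟩
  · obtain ⟨P, rfl⟩ := GrothLib.CycBasic.exists_fromSpecStalk_eq (hη.trans h)
    have hle : P ≤ Q' := GrothLib.CycBasic.le_iff_specializes.2 hη
    exact congrArg (X.fromSpecStalk x) (le_antisymm (α := PrimeSpectrum (X.presheaf.stalk x)) hle (hQ.2 ⟨P.2, bot_le⟩ hle))
  · rw [ringKrullDim_eq_of_ringEquiv (Ideal.quotEquivOfEq hker)]
    have e : ringKrullDim (X.presheaf.stalk x ⧸ Q) = (Order.coheight Q' : WithBot ℕ∞) :=
      GrothLib.AffDom.ringKrullDim_quotient_eq_coheight Q'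
    rw [e]
    exact WithBot.coe_le_coe.2 (Order.length_le_coheight (x := Q') (p := s) hQle)

/-- The dimension inequality. -/
theorem ringKrullDim_stalk_add_trdeg_le [IsLocallyNoetherian S] (f : X ⟶ S) [LocallyOfFiniteType f] (x : X)
    (n E : ℕ)
    (hn : letI := (f.residueFieldMap x).hom.toAlgebra
      Algebra.trdeg (S.residueField (f.base x)) (X.residueField x) = n)
    (hE : ∀ ξ : X, closure {ξ} ∈ irreducibleComponents ↥X → ξ ⤳ x →
      letI := (f.residueFieldMap ξ).hom.toAlgebra
      Algebra.trdeg (S.residueField (f.base ξ)) (X.residueField ξ) ≤ E) :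
    ringKrullDim (X.presheaf.stalk x) + n ≤ ringKrullDim (S.presheaf.stalk (f.base x)) + E := by
  haveI : IsNoetherianRing (X.presheaf.stalk x) :=
    haveI := LocallyOfFiniteType.isLocallyNoetherian f
    inferInstance
  -- a longest chain
  have hfin : FiniteRingKrullDim (X.presheaf.stalk x) := inferInstance
  obtain ⟨s, hs⟩ : ∃ s : LTSeries (PrimeSpectrum (X.presheaf.stalk x)),
      (s.length : WithBot ℕ∞) = ringKrullDim (X.presheaf.stalk x) :=
    ⟨LTSeries.longestOf _, (Order.krullDim_eq_length_of_finiteDimensionalOrder).symm⟩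
  obtain ⟨ξ, h, hcomp, hle⟩ := exists_component_specializes x s
  obtain ⟨t, m, a, b, ht, hm, ha, hb, hineq, -⟩ := GrothLib.Altitude.dim_locQuot_add_trdeg f h
  have htE : t ≤ E := by
    have h1 : (t : Cardinal.{u}) ≤ E := le_of_eq_of_le ht.symm (hE ξ hcomp h)
    exact_mod_cast h1
  have hmn : m = n := by
    have h1 : (m : Cardinal.{u}) = n := hm.symm.trans hn
    exact_mod_cast h1
  have hb' : (b : WithBot ℕ∞) ≤ ringKrullDim (S.presheaf.stalk (f x)) :=
    hb ▸ ringKrullDim_quotient_le _
  have hla : s.length ≤ a := by rw [ha] at hle; exact_mod_cast hle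
  rw [← hs]
  calc (s.length : WithBot ℕ∞) + n ≤ ((b + E : ℕ) : WithBot ℕ∞) := by
        rw [← Nat.cast_add]; exact_mod_cast (by omega : s.length + n ≤ b + E)
    _ ≤ _ := by push_cast; exact add_le_add hb' le_rfl

end GrothLib.DimFormula
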