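import Groth.Agent.Lib.AlgSp.SchematicCodim
import Groth.Agent.Lib.AlgSp.Dim
import Groth.Agent.Lib.EtFibre.Basic
import Groth.Agent.S9633

/-!
# Zero-dimensional spaces
-/

universe u

open CategoryTheory CategoryTheory.Limits AlgebraicGeometry

namespace GrothLib.AlgSp

open _root_.AlgSp

theorem eq_of_specializes_dim_zero {U : Scheme.{u}} (h : topologicalKrullDim ↥U = 0) {x y : ↥U} (hs : x ⤳ y) :
    x = y := by
  rw [GrothLib.EtFibre.topologicalKrullDim_eq_krullDim] at h
  letI := specializationOrder ↥U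
  have hc : (Order.coheight y : WithBot ℕ∞) ≤ 0 := h ▸ Order.coheight_le_krullDim y
  have hm : IsMax y := Order.coheight_eq_zero.1 (nonpos_iff_eq_zero.1 (WithBot.coe_le_coe.1 hc))
  exact (hs.antisymm (hm (show y ≤ x from hs))).eq

theorem isAffineOpen_diff {U : Scheme.{u}} (h : ∀ {x y : ↥U}, x ⤳ y → x = y) {A W : U.Opens} (hA : IsAffineOpen A)
    (hW : IsCompact (W : Set ↥U)) [QuasiSeparatedSpace ↥U] :
    ∃ B : U.Opens, IsAffineOpen B ∧ (B : Set ↥U) = (A : Set ↥U) \ W := by
  let C : Set ↥(Spec Γ(U, A)) := hA.fromSpec ⁻¹' (W : Set ↥U)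
  have hCc : IsCompact C := by
    rw [hA.fromSpec.isOpenEmbedding.isInducing.isCompact_iff, Set.image_preimage_eq_inter_range, hA.range_fromSpec]
    exact QuasiSeparatedSpace.inter_isCompact (W : Set ↥U) A W.2 hW A.2 hA.isCompact
  have hle : ∀ p q : PrimeSpectrum Γ(U, A), p ≤ q → p = q := fun p q hpq =>
    hA.fromSpec.isOpenEmbedding.injective
      (h (((PrimeSpectrum.le_iff_specializes _ _).1 hpq).map hA.fromSpec.continuous))
  have tfae := Groth.Agent.S9633.result (R := Γ(U, A))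
  have hiff : (∀ p q : PrimeSpectrum Γ(U, A), p ≤ q → p = q) ↔
      ∀ W' : Set (PrimeSpectrum Γ(U, A)), IsOpen W' → IsCompact W' → IsClosed W' := tfae.out 4 3
  have hcl : IsClosed C := hiff.1 hle C (W.2.preimage hA.fromSpec.continuous) hCc
  let B' : (Spec Γ(U, A)).Opens := ⟨Cᶜ, hcl.isOpen_compl⟩
  haveI : IsClosedImmersion B'.ι := IsClosedImmersion.of_isPreimmersion _ (by
    rw [Scheme.Opens.range_ι]; exact (W.2.preimage hA.fromSpec.continuous).isClosed_compl)
  haveI : IsAffine B'.toScheme := isAffine_of_isAffineHom B'.ι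
  refine ⟨hA.fromSpec ''ᵁ B', IsAffineOpen.image_of_isOpenImmersion (show IsAffineOpen B' from ‹_›) _, ?_⟩
  show hA.fromSpec '' (hA.fromSpec ⁻¹' (W : Set ↥U))ᶜ = _
  rw [← Set.preimage_compl, Set.image_preimage_eq_inter_range, hA.range_fromSpec, Set.inter_comm]
  rfl

theorem isAffineOpen_of_isCompact_dim_zero {U : Scheme.{u}} (h : ∀ {x y : ↥U}, x ⤳ y → x = y)
    [QuasiSeparatedSpace ↥U] (V : U.Opens) (hV : IsCompact (V : Set ↥U)) : IsAffineOpen V := by
  classical
  obtain ⟨t, ht⟩ := hV.elim_finite_subcover (fun A : {A : U.affineOpens // A.1 ≤ V} => (A.1.1 : Set ↥U))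
    (fun A => A.1.1.2) fun x hx => by
      obtain ⟨A, hA, hxA, hAV⟩ := exists_isAffineOpen_mem_and_subset (U := V) (x := x) hx
      exact Set.mem_iUnion.2 ⟨⟨⟨A, hA⟩, hAV⟩, hxA⟩
  suffices hs : ∀ s : Finset {A : U.affineOpens // A.1 ≤ V}, ∃ B : U.Opens, IsAffineOpen B ∧
      (B : Set ↥U) = ⋃ A ∈ s, (A.1.1 : Set ↥U) by
    obtain ⟨B, hB, hBt⟩ := hs t
    have : B = V := SetLike.coe_injective (hBt.trans (subset_antisymm (Set.iUnion₂_subset fun A _ => A.2) ht))
    exact this ▸ hB
  intro s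
  induction s using Finset.induction with
  | empty => exact ⟨⊥, isAffineOpen_bot _, by simp⟩
  | insert A s hAs ih =>
    obtain ⟨B, hB, hBs⟩ := ih
    obtain ⟨B', hB', hB'e⟩ := isAffineOpen_diff h A.1.2 hB.isCompact
    refine ⟨B ⊔ B', hB.sup_of_disjoint hB' (disjoint_iff_inf_le.2 fun x hx => ?_), ?_⟩
    · exact ((Set.ext_iff.1 hB'e x).1 hx.2).2 hx.1
    · rw [Finset.set_biUnion_insert, ← hBs, TopologicalSpace.Opens.coe_sup, hB'e, Set.union_sdiff_self, Set.union_comm]

theorem isSeparated_of_dim_zero {U : Scheme.{u}} (h : ∀ {x y : ↥U}, x ⤳ y → x = y) [QuasiSeparatedSpace ↥U] :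
    U.IsSeparated := by
  haveI : QuasiSeparated (terminal.from U) := (quasiSeparatedSpace_iff_quasiSeparated U).1 ‹_›
  refine ⟨IsSeparated.of_valuativeCriterion _ fun T => ⟨fun l₁ l₂ => CommSq.LiftStruct.ext ?_⟩⟩
  let j := Spec.map (CommRingCat.ofHom (algebraMap T.R T.K))
  have h₁ : j ≫ l₁.l = T.i₁ := l₁.fac_left
  have h₂ : j ≫ l₂.l = T.i₁ := l₂.fac_left
  haveI : IsDominant j := ⟨PrimeSpectrum.denseRange_comap_iff_ker_le_nilRadical _ |>.2 (by
    rw [CommRingCat.hom_ofHom, (RingHom.injective_iff_ker_eq_bot _).1 (IsFractionRing.injective T.R T.K)]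
    exact bot_le)⟩
  let z := IsLocalRing.closedPoint T.K
  obtain ⟨A, hA, hzA, -⟩ := exists_isAffineOpen_mem_and_subset (U := (⊤ : U.Opens)) (x := T.i₁ z) trivial
  have hr : ∀ l : Spec (CommRingCat.of T.R) ⟶ U, j ≫ l = T.i₁ → Set.range l ⊆ Set.range A.ι := by
    rintro l hl _ ⟨q, rfl⟩
    rw [Scheme.Opens.range_ι]
    have hgen : j z ⤳ q := by
      have : q ∈ closure (Set.range j) := by rw [j.denseRange.closure_range]; trivial
      rw [show Set.range j = {j z} from Set.eq_singleton_iff_unique_mem.2 ⟨⟨z, rfl⟩, by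
        rintro _ ⟨w, rfl⟩; rw [Subsingleton.elim (α := PrimeSpectrum T.K) w z]⟩] at this
      exact specializes_iff_mem_closure.2 this
    have := h (hgen.map l.continuous)
    rw [← Scheme.Hom.comp_apply, hl] at this
    exact this ▸ hzA
  haveI : IsAffine A.toScheme := hA
  rw [← IsOpenImmersion.lift_fac A.ι l₁.l (hr _ h₁), ← IsOpenImmersion.lift_fac A.ι l₂.l (hr _ h₂)]
  congr 1
  refine ext_of_isDominant j ((cancel_mono A.ι).1 ?_)
  rw [Category.assoc, Category.assoc, IsOpenImmersion.lift_fac, IsOpenImmersion.lift_fac, h₁, h₂]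

variable {S : Scheme.{u}} {X : Sp S}

theorem exists_scheme_of_dim_zero [QuasiSeparatedSpace ↥S] (hX : IsAlgSpace X) (hqs : IsQuasiSeparatedSp X)
    (hdim : _root_.AlgSp.dim X = 0) :
    ∃ (U : Over S) (_ : (yon S).obj U ≅ X), U.left.IsSeparated ∧
      ∀ V : U.left.Opens, IsCompact (V : Set ↥U.left) → IsAffineOpen V := by
  obtain ⟨N, -, -, hr, hcod⟩ := exists_open_subscheme_codim_zero hX (ι := PUnit.{u + 1}) (fun _ => X) (fun _ => 𝟙 X)
    ⟨fun _ => repWith_iso _, fun x => ⟨⟨⟩, x, Points.map_id x⟩⟩ (fun _ => hX) (fun _ => hqs)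
  obtain ⟨U₀, a₀, ha₀, hs₀⟩ := hX.atlas
  have hd₀ := (dim_eq_of_atlas hX ha₀ hs₀).symm.trans hdim
  have hN : N = Set.univ := Set.eq_univ_of_forall fun x => by
    obtain ⟨u, rfl⟩ := surjective_ofPt_of_repWith hs₀ x
    refine hcod _ ⟨U₀, a₀, u, ha₀, rfl, ?_⟩
    show ringKrullDim ↥(U₀.left.presheaf.stalk u) = 0
    rw [ringKrullDim_stalk_eq_coheight]
    exact congrArg _ (Order.coheight_eq_zero.2 fun y hy => by
      rw [eq_of_specializes_dim_zero hd₀ (show y ⤳ u from hy)])
  subst hN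
  haveI := mono_openSubι X (Set.univ : Set (Points X))
  obtain ⟨e, -⟩ := exists_iso_of_range_eq (repWith_openSubι (F := X) (W := Set.univ) isOpen_univ)
    (show RepWith @IsOpenImmersion (𝟙 X) from repWith_iso _) (by
      rw [range_openSubι]; exact (Set.range_eq_univ.2 fun x => ⟨x, Points.map_id x⟩).symm)
  haveI := hr
  let ρ := (Functor.IsRepresentable.has_representation (F := (openSub X (Set.univ : Set (Points X))).obj))
  let i : (yon S).obj ρ.choose ≅ X := isoOfRepresentableBy ρ.choose_spec.some ≪≫ e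
  let U := ρ.choose
  have hi₁ : RepWith @Etale i.hom := repWith_iso _
  have hi₂ : RepWith @Surjective i.hom := repWith_iso _
  have hd := (dim_eq_of_atlas hX hi₁ hi₂).symm.trans hdim
  have sq : IsPullback ((yon S).map (𝟙 U)) ((yon S).map (𝟙 U)) i.hom i.hom := by
    rw [CategoryTheory.Functor.map_id]; exact IsKernelPair.id_of_mono i.hom
  haveI hqc : QuasiCompact (prod.lift (𝟙 U) (𝟙 U)).left := prop_prodLift_of_repWith_diag hqs sq
  haveI : QuasiSeparated U.hom := by
    constructor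
    have e : (prod.lift (𝟙 U) (𝟙 U)).left ≫ (Over.prodLeftIsoPullback U U).hom = pullback.diagonal U.hom := by
      apply pullback.hom_ext
      · rw [Category.assoc, Over.prodLeftIsoPullback_hom_fst, ← Over.comp_left, prod.lift_fst, pullback.diagonal_fst]
        rfl
      · rw [Category.assoc, Over.prodLeftIsoPullback_hom_snd, ← Over.comp_left, prod.lift_snd, pullback.diagonal_snd]
        rfl
    rw [← e]; infer_instance
  haveI := quasiSeparatedSpace_of_quasiSeparated U.hom
  exact ⟨U, i, isSeparated_of_dim_zero (eq_of_specializes_dim_zero hd),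
    isAffineOpen_of_isCompact_dim_zero (eq_of_specializes_dim_zero hd)⟩

theorem isQuasiSeparatedSp_of_lft_field_dim_zero {k : Type u} [Field k] {X : Sp (Spec (CommRingCat.of k))}
    (hX : IsAlgSpace X) {p : X ⟶ (yon (Spec (CommRingCat.of k))).obj (Over.mk (𝟙 _))}
    (hp : LocP @LocallyOfFiniteType p) (hdim : _root_.AlgSp.dim X = 0) : IsQuasiSeparatedSp X := by
  obtain ⟨U, a, ha, hs⟩ := hX.atlas
  haveI : LocallyOfFiniteType U.hom := by
    obtain ⟨h, hh⟩ := (yon (Spec (CommRingCat.of k))).map_surjective (a ≫ p)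
    have h1 := hp a (𝟙 _) h ha (repWith_iso _) (by rw [Category.comp_id, hh])
    have h2 : h.left = U.hom := by rw [← Over.w h]; exact (Category.comp_id _).symm
    exact h2 ▸ h1
  have hd := (dim_eq_of_atlas hX ha hs).symm.trans hdim
  haveI : LocallyQuasiFinite U.hom :=
    (locallyQuasiFinite_field_iff U.hom).2 hd.le
  haveI : IsLocallyArtinian U.left := .of_locallyQuasiFinite U.hom
  obtain ⟨R, t, s, sq⟩ := exists_isPullback_yon hX.diag a a
  haveI : LocallyQuasiFinite (prod.snd : U ⨯ U ⟶ U).left := by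
    rw [← Over.prodLeftIsoPullback_hom_snd]; infer_instance
  haveI : IsLocallyArtinian (U ⨯ U).left := .of_locallyQuasiFinite (prod.snd : U ⨯ U ⟶ U).left
  haveI : Mono (prod.lift t s).left := mono_prodLift_of_isEqvRel (isEqvRel_of_isPullback sq)
  haveI : QuasiCompact (prod.lift t s).left := by
    refine ⟨fun V hV hVc => ?_⟩
    haveI : CompactSpace ↥V := isCompact_iff_compactSpace.1 hVc
    haveI : Finite ↥V := finite_of_compact_of_discrete
    exact ((Set.toFinite V).preimage ((prod.lift t s).left.injective.injOn)).isCompact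
  exact repWith_diag_of_chart fppfDescends_quasiCompact hX.diag ha hs sq ‹_›

end GrothLib.AlgSp
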