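import Groth.Agent.Lib.AlgSp.FlatPoint
import Groth.Agent.Lib.AlgSp.DeformScheme
import Groth.Agent.Lib.AlgSp.EtaleLocallyProps
import Groth.Agent.Lib.FibreFlat.Fibrewise
import Groth.Agent.Lib.FibreFlat.OpenScheme
import Groth.Agent.S0392

/-!
# The fibrewise criterion of flatness for algebraic spaces

Main results: `etale_of_comp_etale`, `etale_chart_baseChange`, `flat_of_fibrewise_noeth`,
`exists_chart_triple`, `flat_fibre_charts`.
-/

universe u

open CategoryTheory CategoryTheory.Limits AlgebraicGeometry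

namespace GrothLib.AlgSp

open _root_.AlgSp

variable {S : Scheme.{u}}

/-- A map from a scheme to an object etale over `Y` is etale if its composite to `Y` is. -/
theorem etale_of_comp_etale {P Y : Sp S} {V : Over S} {v : (yon S).obj V ⟶ P} {p : P ⟶ Y}
    (hp : RepWith @Etale p) (hv : RepWith @Etale (v ≫ p)) : RepWith @Etale v := by
  obtain ⟨Q, q', q, sq⟩ := exists_isPullback_of_representable hp.1 (v ≫ p)
  obtain ⟨s, hs⟩ := (yon S).map_surjective (sq.lift v (𝟙 _) (by rw [Category.id_comp]))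
  have h1 : (yon S).map s ≫ q' = v := by rw [hs]; exact sq.lift_fst _ _ _
  have h2 : s ≫ q = 𝟙 V := (yon S).map_injective (by
    rw [Functor.map_comp, hs, CategoryTheory.Functor.map_id]; exact sq.lift_snd _ _ _)
  have : Etale q.left := hp.2 _ _ _ sq
  have : Etale (s.left ≫ q.left) := by rw [← Over.comp_left, h2, Over.id_left]; infer_instance
  rw [← h1]
  exact repWith_comp ((repWith_yon_map_iff _ _).2 (Etale.of_comp s.left q.left))
    (repWith_of_isPullback sq.flip hv)

/-- Charts of a base change of a morphism. -/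
theorem etale_chart_baseChange {F G : Sp S} {f : F ⟶ G} {V W T : Over S}
    {a : (yon S).obj V ⟶ F} {c : (yon S).obj W ⟶ G} {k : V ⟶ W} (ha : RepWith @Etale a) (hc : RepWith @Etale c)
    (comm : a ≫ f = (yon S).map k ≫ c) (m : T ⟶ W) {P : Sp S} {fst : P ⟶ F} {snd : P ⟶ (yon S).obj T}
    (sq : IsPullback fst snd f ((yon S).map m ≫ c)) :
    ∃ a' : (yon S).obj (pullback k m) ⟶ P, RepWith @Etale a' ∧ a' ≫ snd = (yon S).map (pullback.snd k m) ∧
      a' ≫ fst = (yon S).map (pullback.fst k m) ≫ a := by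
  have sqW := IsPullback.of_hasPullback f c
  let v : (yon S).obj V ⟶ pullback f c := pullback.lift a ((yon S).map k) comm
  have hv1 : v ≫ pullback.fst f c = a := pullback.lift_fst _ _ _
  have hv2 : v ≫ pullback.snd f c = (yon S).map k := pullback.lift_snd _ _ _
  have hv : RepWith @Etale v := etale_of_comp_etale (repWith_of_isPullback sqW.flip hc) (by rw [hv1]; exact ha)
  have hw : fst ≫ f = (snd ≫ (yon S).map m) ≫ c := by rw [Category.assoc]; exact sq.w
  let π : P ⟶ pullback f c := pullback.lift fst (snd ≫ (yon S).map m) hw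
  have hπ1 : π ≫ pullback.fst f c = fst := pullback.lift_fst _ _ _
  have hπ2 : π ≫ pullback.snd f c = snd ≫ (yon S).map m := pullback.lift_snd _ _ _
  have sqπ : IsPullback π snd (pullback.snd f c) ((yon S).map m) := by
    refine IsPullback.of_right ?_ hπ2 sqW
    rw [hπ1]; exact sq
  have hyon := isPullback_yon (IsPullback.of_hasPullback k m)
  have hz : ((yon S).map (pullback.fst k m) ≫ v) ≫ pullback.snd f c =
      (yon S).map (pullback.snd k m) ≫ (yon S).map m := by
    rw [Category.assoc, hv2]; exact hyon.w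
  refine ⟨sqπ.lift _ _ hz, ?_, sqπ.lift_snd _ _ hz, ?_⟩
  · have : IsPullback ((yon S).map (pullback.fst k m)) (sqπ.lift _ _ hz) v π := by
      refine IsPullback.of_bot ?_ (sqπ.lift_fst _ _ hz).symm sqπ
      rw [sqπ.lift_snd, hv2]
      exact hyon
    exact repWith_of_isPullback this hv
  · rw [← hπ1, ← Category.assoc, sqπ.lift_fst, Category.assoc, hv1]

/-- Compatible atlases of a composable pair. -/
theorem exists_chart_triple {X Y Z : Sp S} (hX : IsAlgSpace X) (hY : IsAlgSpace Y) (hZ : IsAlgSpace Z)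
    (f : X ⟶ Y) (g : Y ⟶ Z) :
    ∃ (U V W : Over S) (a : (yon S).obj U ⟶ X) (b : (yon S).obj V ⟶ Y) (c : (yon S).obj W ⟶ Z)
      (h : U ⟶ V) (k : V ⟶ W), RepWith @Etale a ∧ RepWith @Surjective a ∧ RepWith @Etale b ∧
      RepWith @Surjective b ∧ RepWith @Etale c ∧ a ≫ f = (yon S).map h ≫ b ∧ b ≫ g = (yon S).map k ≫ c ∧
      a ≫ f ≫ g = (yon S).map (h ≫ k) ≫ c := by
  obtain ⟨W, c, ce, cs⟩ := hZ.atlas
  obtain ⟨V, b, k, be, e₂, hbs⟩ := exists_chart_over hY hZ g c ce
  obtain ⟨U, a, h, ae, e₁, has⟩ := exists_chart_over hX hY f b be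
  exact ⟨U, V, W, a, b, c, h, k, ae, has (hbs cs), be, hbs cs, ce, e₁, e₂, by
    rw [← Category.assoc, e₁, Category.assoc, e₂, Functor.map_comp, Category.assoc]⟩

/-- The map of fibres of a chart is flat when the map of fibres of the spaces is. -/
theorem flat_fibre_charts {X Y Z : Sp S} {f : X ⟶ Y} {g : Y ⟶ Z}
    (hfib : ∀ (K : Type u) [Field K] (sK : Spec (CommRingCat.of K) ⟶ S)
      (z : (yon S).obj (Over.mk sK) ⟶ Z) (Xz Yz : Sp S)
      (pX : Xz ⟶ X) (qX : Xz ⟶ (yon S).obj (Over.mk sK))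
      (pY : Yz ⟶ Y) (qY : Yz ⟶ (yon S).obj (Over.mk sK)) (fz : Xz ⟶ Yz),
      IsPullback pX qX (f ≫ g) z → IsPullback pY qY g z → fz ≫ pY = pX ≫ f → fz ≫ qY = qX →
      LocP @Flat fz)
    {U V W : Over S} {a : (yon S).obj U ⟶ X} {b : (yon S).obj V ⟶ Y} {c : (yon S).obj W ⟶ Z}
    {h : U ⟶ V} {k : V ⟶ W} (ae : RepWith @Etale a) (be : RepWith @Etale b) (ce : RepWith @Etale c)
    (e₁ : a ≫ f = (yon S).map h ≫ b) (e₂ : b ≫ g = (yon S).map k ≫ c)
    (e : a ≫ f ≫ g = (yon S).map (h ≫ k) ≫ c) (s : ↥W.left) :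
    Flat (MoreMor.fiberMap h.left k.left s) := by
  let m : Over.mk (W.left.fromSpecResidueField s ≫ W.hom) ⟶ W := Over.homMk (W.left.fromSpecResidueField s) rfl
  have sqY := IsPullback.of_hasPullback g ((yon S).map m ≫ c)
  have sqX := IsPullback.of_hasPullback (f ≫ g) ((yon S).map m ≫ c)
  have hw := sqX.w
  rw [← Category.assoc] at hw
  let fz := sqY.lift _ _ hw
  obtain ⟨a', ha', ha's, ha'f⟩ := etale_chart_baseChange ae ce e m sqX
  obtain ⟨b', hb', hb's, hb'f⟩ := etale_chart_baseChange be ce e₂ m sqY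
  have hF := hfib _ _ _ _ _ _ _ _ _ fz sqX sqY (sqY.lift_fst _ _ hw) (sqY.lift_snd _ _ hw)
  have hφw : (pullback.fst (h ≫ k) m ≫ h) ≫ k = pullback.snd (h ≫ k) m ≫ m := by
    rw [Category.assoc]; exact pullback.condition
  let φ : pullback (h ≫ k) m ⟶ pullback k m := pullback.lift _ _ hφw
  have hc : a' ≫ fz = (yon S).map φ ≫ b' := by
    refine sqY.hom_ext ?_ ?_
    · rw [Category.assoc, sqY.lift_fst, ← Category.assoc, ha'f, Category.assoc, e₁, Category.assoc, hb'f,
        ← Category.assoc, ← Category.assoc, ← Functor.map_comp, ← Functor.map_comp, pullback.lift_fst]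
    · rw [Category.assoc, sqY.lift_snd, ha's, Category.assoc, hb's, ← Functor.map_comp, pullback.lift_snd]
  have hφ : Flat φ.left := hF _ _ _ ha' hb' hc
  have s1 := isPullback_left (IsPullback.of_hasPullback (h ≫ k) m)
  have s2 := isPullback_left (IsPullback.of_hasPullback k m)
  have key : s1.isoPullback.hom ≫ MoreMor.fiberMap h.left k.left s = φ.left ≫ s2.isoPullback.hom := by
    apply pullback.hom_ext
    · refine (Category.assoc _ _ _).trans (Eq.trans ?_ (Category.assoc _ _ _).symm)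
      refine (congrArg (fun t => s1.isoPullback.hom ≫ t) (pullback.lift_fst _ _ _)).trans ?_
      refine Eq.trans ?_ (congrArg (fun t => φ.left ≫ t) s2.isoPullback_hom_fst).symm
      refine (Category.assoc _ _ _).symm.trans ((congrArg (fun t => t ≫ h.left) s1.isoPullback_hom_fst).trans ?_)
      exact ((Over.comp_left _ _ _ _ _).symm.trans (congrArg CommaMorphism.left (pullback.lift_fst _ _ hφw).symm)).trans
        (Over.comp_left _ _ _ _ _)
    · refine (Category.assoc _ _ _).trans (Eq.trans ?_ (Category.assoc _ _ _).symm)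
      refine (congrArg (fun t => s1.isoPullback.hom ≫ t) (pullback.lift_snd _ _ _)).trans ?_
      refine Eq.trans ?_ (congrArg (fun t => φ.left ≫ t) s2.isoPullback_hom_snd).symm
      refine s1.isoPullback_hom_snd.trans ?_
      exact (congrArg CommaMorphism.left (pullback.lift_snd _ _ hφw).symm).trans (Over.comp_left _ _ _ _ _)
  refine (MorphismProperty.cancel_left_of_respectsIso @Flat s1.isoPullback.hom _).1 ?_
  rw [key]
  exact MorphismProperty.comp_mem _ _ _ hφ inferInstance

section Scheme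

variable {X Y Z : Scheme.{u}}

/-- The fibrewise criterion for locally Noetherian schemes. -/
theorem flat_of_fibrewise_noeth [IsLocallyNoetherian X] [IsLocallyNoetherian Y] [IsLocallyNoetherian Z]
    (f : X ⟶ Y) (g : Y ⟶ Z) [Flat (f ≫ g)] (x : X)
    (hf : ((MoreMor.fiberMap f g (g (f x))).stalkMap ((f ≫ g).asFiber x)).hom.Flat) :
    (f.stalkMap x).hom.Flat ∧ (g.stalkMap (f x)).hom.Flat := by
  rw [GrothLib.FibreFlat.flat_fiberMap_stalkMap_iff f g (g (f x)) ((f ≫ g).asFiber x) x
    ((f ≫ g).fiberι_asFiber x)] at hf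
  let R := Z.presheaf.stalk (g (f x))
  let A := Y.presheaf.stalk (f x)
  let B := X.presheaf.stalk x
  letI : Algebra R A := (g.stalkMap (f x)).hom.toAlgebra
  letI : Algebra A B := (f.stalkMap x).hom.toAlgebra
  letI : Algebra R B := ((f ≫ g).stalkMap x).hom.toAlgebra
  haveI : IsScalarTower R A B := IsScalarTower.of_algebraMap_eq fun r => by
    show ((f ≫ g).stalkMap x).hom r = (f.stalkMap x).hom ((g.stalkMap (f x)).hom r)
    rw [Scheme.Hom.stalkMap_comp]
    rfl
  haveI : IsLocalHom (algebraMap R A) := inferInstanceAs (IsLocalHom (g.stalkMap (f x)).hom)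
  haveI : IsLocalHom (algebraMap A B) := inferInstanceAs (IsLocalHom (f.stalkMap x).hom)
  haveI : Module.Flat R B := Flat.stalkMap (f ≫ g) x
  let mA := (IsLocalRing.maximalIdeal R).map (algebraMap R A)
  let mB := (IsLocalRing.maximalIdeal R).map (algebraMap R B)
  have hmB : ∀ b, b ∈ mB ↔ b ∈ mA • (⊤ : Submodule A B) := fun b => by
    rw [Ideal.smul_top_eq_map, Submodule.restrictScalars_mem, Ideal.map_map,
      ← IsScalarTower.algebraMap_eq]
  letI : Algebra (A ⧸ mA) (B ⧸ mB) := (GrothLib.FibreFlat.fibreRingMap f g x).toAlgebra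
  let e : (B ⧸ mA • (⊤ : Submodule A B)) ≃ₗ[A ⧸ mA] (B ⧸ mB) :=
    AddEquiv.toLinearEquiv (QuotientAddGroup.quotientAddEquivOfEq
      (M := (mA • (⊤ : Submodule A B)).toAddSubgroup) (N := mB.toAddSubgroup)
      (by ext b; exact (hmB b).symm)) fun a b => by
        obtain ⟨a, rfl⟩ := Ideal.Quotient.mk_surjective a
        obtain ⟨b, rfl⟩ := Submodule.Quotient.mk_surjective _ b
        rfl
  have h2 : Module.Flat (A ⧸ mA) (B ⧸ mB) := hf
  have h3 : Module.Flat (A ⧸ mA) (B ⧸ mA • (⊤ : Submodule A B)) := Module.Flat.of_linearEquiv e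
  have h4 : Module.Flat (A ⧸ mA) (TensorProduct A (A ⧸ mA) B) := Module.Flat.of_linearEquiv
    (LinearEquiv.extendScalarsOfSurjective (S := A ⧸ mA) Ideal.Quotient.mk_surjective
      (TensorProduct.quotTensorEquivQuotSMul B mA))
  obtain ⟨h5, h6⟩ := Groth.Agent.S0392.result (R := R) (S := A) (S' := B) (M := B) h4
  exact ⟨h6, h5⟩

end Scheme

end GrothLib.AlgSp
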