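import Groth.Agent.Lib.AlgSp.LocP
import Groth.Agent.Lib.AlgSp.FlatFibres
import Mathlib.AlgebraicGeometry.Morphisms.QuasiFinite
import Mathlib.AlgebraicGeometry.Morphisms.Finite
import Mathlib.AlgebraicGeometry.Noetherian

/-!
# Charts of discrete spaces over fields are discrete

* `discreteTopology_chart`, `discreteTopology_points_of_chart`.
-/

universe u

open CategoryTheory CategoryTheory.Limits AlgebraicGeometry Topology TopologicalSpace

namespace GrothLib.AlgSp

open _root_.AlgSp

variable {S : Scheme.{u}}

/-- A locally Noetherian scheme with closed points only is discrete. -/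
theorem discreteTopology_of_isClosed_singleton (W : Scheme.{u}) [IsLocallyNoetherian W]
    (h : ∀ x : W, IsClosed ({x} : Set W)) : DiscreteTopology W := by
  rw [discreteTopology_iff_isOpen_singleton]
  intro x
  obtain ⟨O, hO, hxO, -⟩ := exists_isAffineOpen_mem_and_subset (U := (⊤ : W.Opens)) (x := x) trivial
  haveI : IsAffine (O : Scheme.{u}) := hO
  haveI : IsNoetherian (O : Scheme.{u}) := {}
  haveI : T1Space O.toScheme := ⟨fun y => by
    convert (h (O.ι y)).preimage O.ι.continuous using 1
    exact (O.ι.isOpenEmbedding.injective.preimage_image (s := {y})).symm.trans (by rw [Set.image_singleton])⟩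
  have hfin : (Set.univ : Set O.toScheme).Finite := by
    refine ((NoetherianSpace.finite_irreducibleComponents (α := O.toScheme)).biUnion fun C hC => ?_).subset
      (fun y _ => Set.mem_biUnion (t := fun C => C) (irreducibleComponent_mem_irreducibleComponents y)
        mem_irreducibleComponent)
    obtain ⟨g, hg⟩ := QuasiSober.sober hC.1 (isClosed_of_mem_irreducibleComponents C hC)
    rw [← hg.def, closure_singleton]
    exact Set.finite_singleton g
  haveI : Finite O.toScheme := Set.finite_univ_iff.1 hfin
  have := O.ι.isOpenEmbedding.isOpenMap _ (isOpen_discrete ({⟨x, hxO⟩} : Set O.toScheme))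
  rwa [Set.image_singleton] at this

/-- Etale charts over a field of spaces with discrete points are discrete. -/
theorem discreteTopology_chart {P : Sp S} (hP : IsAlgSpace P) [DiscreteTopology (Points P)] {k : Type u}
    [Field k] {W : Over S} (γ : W.left ⟶ Spec (CommRingCat.of k)) [LocallyOfFiniteType γ]
    {p : (yon S).obj W ⟶ P} (hp : RepWith @Etale p) : DiscreteTopology W.left := by
  haveI : IsJacobsonRing k := inferInstance
  haveI : JacobsonSpace W.left := LocallyOfFiniteType.jacobsonSpace γ
  haveI : IsLocallyNoetherian W.left := LocallyOfFiniteType.isLocallyNoetherian γ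
  refine discreteTopology_of_isClosed_singleton _ fun x => ?_
  have hO : IsOpen (Points.ofPt p ⁻¹' {Points.ofPt p x}) := (isOpen_discrete _).preimage (Points.continuous_ofPt p)
  obtain ⟨c, hcO, hc⟩ := nonempty_inter_closedPoints (Z := Points.ofPt p ⁻¹' {Points.ofPt p x})
    ⟨x, Set.mem_singleton _⟩ hO.isLocallyClosed
  obtain ⟨R, t, s, sq⟩ := exists_isPullback_yon hP.diag p p
  haveI : Etale t.left := hp.2 _ _ _ sq.flip
  haveI : Etale s.left := hp.2 _ _ _ sq
  obtain ⟨r, hr₁, hr₂⟩ := (ofPt_eq_ofPt_iff sq c x).1 hcO
  haveI : LocallyQuasiFinite t.left := locallyQuasiFinite_of_unramified _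
  have hr : IsClosed ({r} : Set R.left) := by
    have h1 : IsClosed (t.left ⁻¹' {c}) := IsClosed.preimage t.left.continuous hc
    haveI := (t.left.isDiscrete_preimage_singleton c).to_subtype
    have h2 := h1.isClosedEmbedding_subtypeVal.isClosedMap _
      (isClosed_discrete ({⟨r, hr₁⟩} : Set (t.left ⁻¹' {c})))
    rwa [Set.image_singleton] at h2
  have := s.left.closePoints_subset_preimage_closedPoints hr
  rwa [Set.mem_preimage, mem_closedPoints_iff, hr₂] at this

/-- Spaces with a discrete surjective chart have discrete points. -/
theorem discreteTopology_points_of_chart {P : Sp S} {W : Over S} [DiscreteTopology W.left]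
    {p : (yon S).obj W ⟶ P} (hp : RepWith @Etale p) (hs : RepWith @Surjective p) : DiscreteTopology (Points P) := by
  rw [discreteTopology_iff_isOpen_singleton]
  intro z
  obtain ⟨w, rfl⟩ := surjective_ofPt_of_repWith hs z
  convert isOpenMap_ofPt_of_etale hp _ (isOpen_discrete {w}) using 1
  exact Set.image_singleton.symm

end GrothLib.AlgSp
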