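import Groth.Agent.Lib.AlgSp.AffineDescent
import Groth.Agent.Lib.AlgSp.Space
import Groth.Prelude.Def_Desc

/-!
# Morphisms of sheaves which are schemes after an fppf cover, for properties satisfying descent
-/

set_option backward.isDefEq.respectTransparency false

universe u

open CategoryTheory CategoryTheory.Limits AlgebraicGeometry Opposite

namespace GrothLib.AlgSp

open _root_.AlgSp

variable {S : Scheme.{u}} {G : Sp S} {T T' W : Over S} {a : G ⟶ (yon S).obj T} {c : T' ⟶ T}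
  {pr : (yon S).obj W ⟶ G} {w : W ⟶ T'}

/-- A scheme mapping to `T'`, over `S`. -/
abbrev ptObj (T' : Over S) {Z : Scheme.{u}} (x : Z ⟶ T'.left) : Over S := Over.mk (x ≫ T'.hom)

/-- Two points of `W` with the same image in `G`. -/
def GlueRel (pr : (yon S).obj W ⟶ G) {Z : Scheme.{u}} (v v' : Z ⟶ W.left) : Prop :=
  ∃ e : v' ≫ W.hom = v ≫ W.hom,
    (yon S).map (Over.homMk v rfl : Over.mk (v ≫ W.hom) ⟶ W) ≫ pr =
      (yon S).map (Over.homMk v' e : Over.mk (v ≫ W.hom) ⟶ W) ≫ pr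

theorem glueRel_of_map {O : Over S} (m m' : O ⟶ W) (h : (yon S).map m ≫ pr = (yon S).map m' ≫ pr) :
    GlueRel pr m.left m'.left := by
  have e : m'.left ≫ W.hom = m.left ≫ W.hom := (Over.w m').trans (Over.w m).symm
  refine ⟨e, ?_⟩
  let n : Over.mk (m.left ≫ W.hom) ⟶ O := Over.homMk (𝟙 _) (by simp)
  have h₂ := congrArg ((yon S).map n ≫ ·) h
  simp only [← Functor.map_comp_assoc] at h₂
  convert h₂ using 3 <;> ext <;> simp [n]

theorem glueRel_refl {Z : Scheme.{u}} (v : Z ⟶ W.left) : GlueRel pr v v := ⟨rfl, rfl⟩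

theorem glueRel_symm {Z : Scheme.{u}} {v v' : Z ⟶ W.left} (h : GlueRel pr v v') : GlueRel pr v' v := by
  obtain ⟨e, h⟩ := h
  exact glueRel_of_map _ _ h.symm

theorem glueRel_comp {Z Z' : Scheme.{u}} (k : Z' ⟶ Z) {v v' : Z ⟶ W.left} (h : GlueRel pr v v') :
    GlueRel pr (k ≫ v) (k ≫ v') := by
  obtain ⟨e, h⟩ := h
  let n : Over.mk (k ≫ v ≫ W.hom) ⟶ Over.mk (v ≫ W.hom) := Over.homMk k rfl
  exact glueRel_of_map (n ≫ Over.homMk v rfl) (n ≫ Over.homMk v' e)
    (by rw [Functor.map_comp_assoc, h, ← Functor.map_comp_assoc])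

theorem glueRel_trans {Z : Scheme.{u}} {v v' v'' : Z ⟶ W.left} (h : GlueRel pr v v') (h' : GlueRel pr v' v'') :
    GlueRel pr v v'' := by
  obtain ⟨e, h⟩ := h
  obtain ⟨e', h'⟩ := h'
  refine ⟨e'.trans e, h.trans ?_⟩
  let n : Over.mk (v ≫ W.hom) ⟶ Over.mk (v' ≫ W.hom) := Over.homMk (𝟙 Z) (by simpa using e)
  have h₂ := congrArg ((yon S).map n ≫ ·) h'
  simp only [← Functor.map_comp_assoc] at h₂
  convert h₂ using 3 <;> ext <;> simp [n]

variable (sq : IsPullback pr ((yon S).map w) a ((yon S).map c))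

include sq in
theorem existsUnique_glue {Z : Scheme.{u}} (x₀ x₁ : Z ⟶ T'.left) (h : x₀ ≫ c.left = x₁ ≫ c.left)
    (v : Desc.Lifts (Over.mk w.left) x₀) :
    ∃! v' : Desc.Lifts (Over.mk w.left) x₁, GlueRel pr v.1 v'.1 := by
  have hv : v.1 ≫ w.left = x₀ := v.2
  let O : Over S := Over.mk (v.1 ≫ W.hom)
  let m : O ⟶ W := Over.homMk v.1 rfl
  let n : O ⟶ T' := Over.homMk x₁ (by
    change x₁ ≫ T'.hom = v.1 ≫ W.hom
    calc x₁ ≫ T'.hom = (x₁ ≫ c.left) ≫ T.hom := by rw [Category.assoc, Over.w c]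
      _ = (x₀ ≫ c.left) ≫ T.hom := by rw [h]
      _ = x₀ ≫ T'.hom := by rw [Category.assoc, Over.w c]
      _ = (v.1 ≫ w.left) ≫ T'.hom := congrArg (· ≫ T'.hom) hv.symm
      _ = v.1 ≫ W.hom := (Category.assoc _ _ _).trans (congrArg (v.1 ≫ ·) (Over.w w)))
  have hmn : ((yon S).map m ≫ pr) ≫ a = (yon S).map n ≫ (yon S).map c := by
    rw [Category.assoc, sq.w, ← Functor.map_comp, ← Functor.map_comp, ← Functor.map_comp]
    congr 1
    ext
    simp [m, n, reassoc_of% hv, h]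
  obtain ⟨l, hl⟩ := (yon S).map_surjective (sq.lift _ _ hmn)
  have hl₂ : l ≫ w = n := (yon S).map_injective (by rw [Functor.map_comp, hl, sq.lift_snd])
  refine ⟨⟨l.left, congrArg CommaMorphism.left hl₂⟩,
    glueRel_of_map m l (by rw [hl, sq.lift_fst]), fun v' hv' => ?_⟩
  obtain ⟨e, h'⟩ := hv'
  have key : (Over.homMk v'.1 e : O ⟶ W) = l := by
    apply (yon S).map_injective
    apply sq.hom_ext
    · rw [hl, sq.lift_fst]; exact h'.symm
    · rw [hl, sq.lift_snd, ← Functor.map_comp]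
      congr 1
      ext
      exact v'.2
  exact Subtype.ext (congrArg CommaMorphism.left key)

/-- The descent datum of a sheaf which becomes a scheme. -/
noncomputable def sheafDD : Desc.SchDD c.left where
  obj := Over.mk w.left
  φ Z x₀ x₁ h :=
    { toFun := fun v => (existsUnique_glue sq x₀ x₁ h v).exists.choose
      invFun := fun v => (existsUnique_glue sq x₁ x₀ h.symm v).exists.choose
      left_inv := fun v => (existsUnique_glue sq x₁ x₀ h.symm _).unique
        (existsUnique_glue sq x₁ x₀ h.symm _).exists.choose_spec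
        (glueRel_symm (existsUnique_glue sq x₀ x₁ h v).exists.choose_spec)
      right_inv := fun v => (existsUnique_glue sq x₀ x₁ h _).unique
        (existsUnique_glue sq x₀ x₁ h _).exists.choose_spec
        (glueRel_symm (existsUnique_glue sq x₁ x₀ h.symm v).exists.choose_spec) }
  φ_natural Z Z' k x₀ x₁ h h' v v' hv' := by
    have := glueRel_comp k (existsUnique_glue sq x₀ x₁ h v).exists.choose_spec
    rw [← hv'] at this
    exact congrArg Subtype.val ((existsUnique_glue sq (k ≫ x₀) (k ≫ x₁) h' v').unique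
      (y₂ := ⟨k ≫ (existsUnique_glue sq x₀ x₁ h v).exists.choose.1, by
        rw [Category.assoc, (existsUnique_glue sq x₀ x₁ h v).exists.choose.2]⟩)
      (existsUnique_glue sq (k ≫ x₀) (k ≫ x₁) h' v').exists.choose_spec this)
  φ_self Z x v := (existsUnique_glue sq x x rfl v).unique
    (existsUnique_glue sq x x rfl v).exists.choose_spec (glueRel_refl _)
  φ_comp Z x₀ x₁ x₂ h₀₁ h₁₂ v := by
    refine ((existsUnique_glue sq x₀ x₂ (h₀₁.trans h₁₂) v).unique ?_
      (existsUnique_glue sq x₀ x₂ (h₀₁.trans h₁₂) v).exists.choose_spec)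
    exact glueRel_trans (existsUnique_glue sq x₀ x₁ h₀₁ v).exists.choose_spec
      (existsUnique_glue sq x₁ x₂ h₁₂ _).exists.choose_spec

theorem glueRel_sheafDD {Z : Scheme.{u}} (x₀ x₁ : Z ⟶ T'.left) (h : x₀ ≫ c.left = x₁ ≫ c.left)
    (v : Desc.Lifts (Over.mk w.left) x₀) : GlueRel pr v.1 ((sheafDD sq).φ x₀ x₁ h v).1 :=
  (existsUnique_glue sq x₀ x₁ h v).exists.choose_spec

include sq in
/-- A sheaf over a scheme which becomes a scheme with an effective descent datum is a scheme. -/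
theorem exists_iso_yon_of_effective [Flat c.left] [LocallyOfFinitePresentation c.left] [Surjective c.left]
    (heff : (Desc.toDD c.left).essImage (sheafDD sq)) :
    ∃ (T₀ : Over S) (u₀ : T₀ ⟶ T) (e : W ⟶ T₀) (i : (yon S).obj T₀ ≅ G),
      IsPullback e w u₀ c ∧ i.hom ≫ a = (yon S).map u₀ := by
  obtain ⟨U₀, ⟨i⟩⟩ := heff
  let T₀ : Over S := Over.mk (U₀.hom ≫ T.hom)
  let u₀ : T₀ ⟶ T := Over.homMk U₀.hom rfl
  let ψ : W.left ≅ pullback c.left U₀.hom :=
    { hom := i.inv.hom.left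
      inv := i.hom.hom.left
      hom_inv_id := congrArg (fun m : sheafDD sq ⟶ sheafDD sq => m.hom.left) i.inv_hom_id
      inv_hom_id := congrArg (fun m : (Desc.toDD c.left).obj U₀ ⟶ _ => m.hom.left) i.hom_inv_id }
  have hψ : ψ.hom ≫ pullback.fst c.left U₀.hom = w.left := Over.w i.inv.hom
  have sqS : IsPullback (ψ.hom ≫ pullback.snd c.left U₀.hom) w.left u₀.left c.left :=
    ((IsPullback.of_hasPullback c.left U₀.hom).of_iso ψ.symm (Iso.refl _) (Iso.refl _) (Iso.refl _)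
      (by simp [← hψ]) (by simp) (by simp) (by simp [u₀])).flip
  let e : W ⟶ T₀ := Over.homMk (ψ.hom ≫ pullback.snd c.left U₀.hom) (by
    change (_ ≫ _) ≫ U₀.hom ≫ T.hom = W.hom
    rw [← Category.assoc]
    erw [sqS.w]
    rw [Category.assoc, Over.w c, Over.w w])
  have sq₀ : IsPullback e w u₀ c := IsPullback.of_map (Over.forget S) (Over.OverMorphism.ext sqS.w) sqS
  obtain ⟨Q, p₁, p₂, sqQ⟩ : ∃ (Q : Over S) (p₁ : Q ⟶ W) (p₂ : Q ⟶ T'), IsPullback p₁ p₂ (w ≫ c) c :=
    ⟨_, _, _, IsPullback.of_hasPullback (w ≫ c) c⟩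
  obtain ⟨q, hq⟩ := (yon S).map_surjective (sq.lift ((yon S).map p₁ ≫ pr) ((yon S).map p₂) (by
    rw [Category.assoc, sq.w, ← Functor.map_comp, ← Functor.map_comp, sqQ.w, Functor.map_comp]))
  have hq₁ : (yon S).map q ≫ pr = (yon S).map p₁ ≫ pr := by rw [hq, IsPullback.lift_fst]
  have hq₂ : q ≫ w = p₂ := (yon S).map_injective (by rw [Functor.map_comp, hq, IsPullback.lift_snd])
  have h01 : (p₁.left ≫ w.left) ≫ c.left = p₂.left ≫ c.left := by
    rw [Category.assoc]; exact congrArg CommaMorphism.left sqQ.w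
  let v : Desc.Lifts (Over.mk w.left) (p₁.left ≫ w.left) := ⟨p₁.left, rfl⟩
  have hφ : ((sheafDD sq).φ (p₁.left ≫ w.left) p₂.left h01 v).1 = q.left :=
    congrArg Subtype.val ((existsUnique_glue sq _ _ h01 v).unique (y₂ := ⟨q.left, congrArg CommaMorphism.left hq₂⟩)
      (glueRel_sheafDD sq _ _ h01 v) (glueRel_of_map p₁ q hq₁.symm))
  have hcomm := i.inv.comm _ _ h01 v (i.inv.push v) rfl
  rw [hφ] at hcomm
  have he : q ≫ e = p₁ ≫ e := by
    ext
    have h₂ := congrArg (· ≫ pullback.snd c.left U₀.hom) hcomm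
    change _ = (q.left ≫ ψ.hom) ≫ _ at h₂
    change q.left ≫ ψ.hom ≫ pullback.snd c.left U₀.hom = p₁.left ≫ ψ.hom ≫ pullback.snd c.left U₀.hom
    rw [← Category.assoc, ← h₂]
    exact (pullback.lift_snd _ _ _).trans (Category.assoc _ _ _)
  have := isLocallySurjective_of_base sq
  have := isLocallySurjective_of_base (isPullback_yon sq₀)
  obtain ⟨j, hj⟩ := exists_iso_of_kernelPair ((yon S).map e) pr
    (isPullback_kernelPair (isPullback_yon sq₀) sqQ hq₂ (by rw [← Functor.map_comp, ← Functor.map_comp, he]))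
    (isPullback_kernelPair sq sqQ hq₂ hq₁)
  refine ⟨T₀, u₀, e, j, sq₀, ?_⟩
  rw [← cancel_epi ((yon S).map e), ← Category.assoc, hj, sq.w, ← Functor.map_comp, ← Functor.map_comp, sq₀.w]

end GrothLib.AlgSp
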