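import Groth.Agent.Lib.AlgSp.EtBranches
import Groth.Agent.Lib.AlgSp.ElemEtale
import Groth.Agent.Lib.AlgSp.DecentNbhd
import Groth.Agent.S9237
import Groth.Agent.S10420
import Groth.Agent.S9235

/-!
# Branches at elementary etale neighbourhoods
-/

universe u

set_option backward.isDefEq.respectTransparency false

open CategoryTheory CategoryTheory.Limits AlgebraicGeometry

namespace GrothLib.AlgSp.ElemBranches

open _root_.AlgSp

theorem encard_le_of_flat {A B : Type*} [CommRing A] [CommRing B] [IsLocalRing A] [IsLocalRing B] [Algebra A B]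
    [Module.Flat A B] [IsLocalHom (algebraMap A B)] : (minimalPrimes A).encard ≤ (minimalPrimes B).encard := by
  haveI : Module.FaithfullyFlat A B := Module.FaithfullyFlat.of_flat_of_isLocalHom
  have hsub : minimalPrimes A ⊆ (fun Q : Ideal B => Q.comap (algebraMap A B)) '' minimalPrimes B := fun P hP => by
    haveI := hP.1.1
    obtain ⟨Q, hQ⟩ := PrimeSpectrum.comap_surjective_of_faithfullyFlat (A := A) (B := B) ⟨P, inferInstance⟩
    obtain ⟨Q₀, hQ₀, hle⟩ := Ideal.exists_minimalPrimes_le (I := (⊥ : Ideal B)) (J := Q.asIdeal) bot_le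
    haveI := hQ₀.1.1
    have h1 : Q₀.comap (algebraMap A B) ≤ P := (Ideal.comap_mono hle).trans (congrArg PrimeSpectrum.asIdeal hQ).le
    exact ⟨Q₀, hQ₀, le_antisymm h1 (hP.2 ⟨inferInstance, bot_le⟩ h1)⟩
  exact (Set.encard_mono hsub).trans (Set.encard_image_le _ _)

theorem encard_stalk_le {W V : Scheme.{u}} (f : W ⟶ V) [Flat f] (w : W) :
    (minimalPrimes ↥(V.presheaf.stalk (f w))).encard ≤ (minimalPrimes ↥(W.presheaf.stalk w)).encard := by
  letI := (f.stalkMap w).hom.toAlgebra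
  haveI : Module.Flat ↥(V.presheaf.stalk (f w)) ↥(W.presheaf.stalk w) := Flat.stalkMap f w
  haveI : IsLocalHom (algebraMap ↥(V.presheaf.stalk (f w)) ↥(W.presheaf.stalk w)) := f.toLRSHom.prop w
  exact encard_le_of_flat

theorem encard_le_numBranchesAt {U : Scheme.{u}} (x : U) :
    (minimalPrimes ↥(U.presheaf.stalk x)).encard ≤ Brnch.numBranchesAt U x := by
  rw [BrnchNhd.numBranchesAt_eq, ← encard_components_eq_minimalPrimes]
  refine le_iSup_of_le U (le_iSup_of_le (𝟙 U) (le_iSup_of_le x (le_iSup_of_le ⟨inferInstance, rfl, ?_⟩ le_rfl)))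
  rw [Scheme.residueFieldMap_id]
  exact Function.bijective_id

theorem numBranches_eq_encard (A R : Type u) [CommRing A] [IsLocalRing A] [CommRing R] [IsLocalRing R] [Algebra A R]
    [IsLocalHom (algebraMap A R)] [Hensel.IsHenselization A R] : Brnch.numBranches A = (minimalPrimes R).encard :=
  (Groth.Agent.S9237.result A R).symm.trans (ENat.card_coe_set_eq _)

variable {S : Scheme.{u}} {F : Sp S} {x : Points F}

/-- Morphisms of elementary neighbourhoods are elementary neighbourhoods of schemes. -/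
theorem isEtaleNbhd_of_hom (hF : IsAlgSpace F) {U U₁ : Over S} {a : (yon S).obj U ⟶ F}
    {a₁ : (yon S).obj U₁ ⟶ F} {v : ↥U.left} {u₁ : ↥U₁.left} (h : IsElemEtaleNbhd a v x)
    (h₁ : IsElemEtaleNbhd a₁ u₁ x) (k : U ⟶ U₁) (hk : (yon S).map k ≫ a₁ = a) (hv : k.left v = u₁) :
    Hens2.IsEtaleNbhd k.left v u₁ := by
  subst hv
  have := h.mono
  have := h₁.mono
  have he : Etale k.left := by
    obtain ⟨R, p, q, sq⟩ := exists_isPullback_yon hF.diag a a₁
    obtain ⟨s, hs₁, hs₂⟩ : ∃ s : U ⟶ R, s ≫ p = 𝟙 U ∧ s ≫ q = k := by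
      refine ⟨(yon S).preimage (sq.lift ((yon S).map (𝟙 U)) ((yon S).map k) (by simp [hk])), ?_, ?_⟩ <;>
        apply (yon S).map_injective <;> simp
    haveI : Etale p.left := h₁.etale.2 _ _ _ sq.flip
    haveI : Etale q.left := h.etale.2 _ _ _ sq
    have e : s.left ≫ p.left = 𝟙 U.left := congrArg (fun f : U ⟶ U => f.left) hs₁
    haveI : Etale (s.left ≫ p.left) := by rw [e]; infer_instance
    haveI : Etale s.left := Etale.of_comp s.left p.left
    rw [← show s.left ≫ q.left = k.left from congrArg (fun f : U ⟶ U₁ => f.left) hs₂]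
    infer_instance
  refine ⟨he, rfl, ?_⟩
  let m : (FieldPt.ofPt a v).pt ⟶ (FieldPt.ofPt a₁ (k.left v)).pt :=
    Over.homMk (Spec.map (k.left.residueFieldMap v)) (by
      change Spec.map _ ≫ U₁.left.fromSpecResidueField _ ≫ U₁.hom = U.left.fromSpecResidueField v ≫ U.hom
      rw [Scheme.Hom.SpecMap_residueFieldMap_fromSpecResidueField_assoc, Over.w])
  have hm : (yon S).map m ≫ (FieldPt.ofPt a₁ (k.left v)).toHom = (FieldPt.ofPt a v).toHom := by
    rw [FieldPt.toHom_ofPt, FieldPt.toHom_ofPt, ← hk, ← Functor.map_comp_assoc, ← Functor.map_comp_assoc]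
    congr 2
    exact Over.OverMorphism.ext (k.left.SpecMap_residueFieldMap_fromSpecResidueField v)
  obtain ⟨c, hc⟩ := exists_factor_mono_point hF (FieldPt.ofPt a v) (FieldPt.ofPt a₁ (k.left v))
    (h.ofPt_eq.trans h₁.ofPt_eq.symm)
  have h1 : c ≫ m = 𝟙 _ := (yon S).map_injective ((cancel_mono (FieldPt.ofPt a₁ (k.left v)).toHom).1 (by
    rw [Functor.map_comp, Category.assoc, hm, hc, CategoryTheory.Functor.map_id, Category.id_comp]))
  have h2 : m ≫ c = 𝟙 _ := (yon S).map_injective ((cancel_mono (FieldPt.ofPt a v).toHom).1 (by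
    rw [Functor.map_comp, Category.assoc, hc, hm, CategoryTheory.Functor.map_id, Category.id_comp]))
  haveI : IsIso m := ⟨c, h2, h1⟩
  haveI : IsIso (Spec.map (k.left.residueFieldMap v)) := inferInstanceAs (IsIso ((Over.forget S).map m))
  haveI : IsIso (k.left.residueFieldMap v) := by
    refine ⟨Spec.preimage (inv (Spec.map (k.left.residueFieldMap v))), ?_, ?_⟩ <;> apply Spec.map_injective <;> simp
  exact ConcreteCategory.bijective_of_isIso (k.left.residueFieldMap v)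

theorem isElemEtaleNbhd_comp {U₁ : Over S} {a₁ : (yon S).obj U₁ ⟶ F} {u₁ : ↥U₁.left}
    (h₁ : IsElemEtaleNbhd a₁ u₁ x) {W : Scheme.{u}} {g : W ⟶ U₁.left} {w : W}
    (hw : Hens2.IsEtaleNbhd g w u₁) :
    IsElemEtaleNbhd ((yon S).map (Over.homMk g rfl : Over.mk (g ≫ U₁.hom) ⟶ U₁) ≫ a₁) (w : ↥(Over.mk (g ≫ U₁.hom)).left) x := by
  obtain ⟨hg, rfl, hb⟩ := hw
  have := h₁.mono
  haveI : IsIso ((Over.homMk g rfl : Over.mk (g ≫ U₁.hom) ⟶ U₁).left.residueFieldMap w) :=
    (ConcreteCategory.isIso_iff_bijective (g.residueFieldMap w)).2 hb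
  haveI : Mono (FieldPt.ofPt a₁ ((Over.homMk g rfl : Over.mk (g ≫ U₁.hom) ⟶ U₁).left w)).toHom := h₁.mono
  refine ⟨repWith_comp ((repWith_yon_map_iff _ _).2 hg) h₁.etale, ?_,
    mono_ofPt_of_residueField (Over.homMk g rfl : Over.mk (g ≫ U₁.hom) ⟶ U₁) a₁ w⟩
  rw [ofPt_map_comp]
  exact h₁.ofPt_eq

theorem numBranchesAt_le (hF : IsAlgSpace F) {U₁ U₂ : Over S} {a₁ : (yon S).obj U₁ ⟶ F}
    {a₂ : (yon S).obj U₂ ⟶ F} {u₁ : ↥U₁.left} {u₂ : ↥U₂.left} (h₁ : IsElemEtaleNbhd a₁ u₁ x)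
    (h₂ : IsElemEtaleNbhd a₂ u₂ x) (n : ℕ∞)
    (hn : ∀ (T : Scheme.{u}) (g : T ⟶ U₂.left) (t : T), Hens2.IsEtaleNbhd g t u₂ →
      (minimalPrimes ↥(T.presheaf.stalk t)).encard ≤ n) :
    Brnch.numBranchesAt U₁.left u₁ ≤ n := by
  rw [BrnchNhd.numBranchesAt_eq]
  refine iSup_le fun W => iSup_le fun g => iSup_le fun w => iSup_le fun hw => ?_
  rw [encard_components_eq_minimalPrimes]
  have hW := isElemEtaleNbhd_comp h₁ hw
  obtain ⟨T, a, t, k₁, k₂, hT, e₁, e₂, hk₁, hk₂⟩ := Groth.Agent.S10420.exists_dominating hF hW h₂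
  have n₁ := isEtaleNbhd_of_hom hF hT hW k₁ e₁ hk₁
  have n₂ := isEtaleNbhd_of_hom hF hT h₂ k₂ e₂ hk₂
  haveI : Etale k₁.left := n₁.etale
  refine le_trans ?_ (hn T.left k₂.left t n₂)
  have := encard_stalk_le k₁.left t
  rwa [hk₁] at this

theorem numBranchesAt_eq (hF : IsAlgSpace F) {U₁ U₂ : Over S} {a₁ : (yon S).obj U₁ ⟶ F}
    {a₂ : (yon S).obj U₂ ⟶ F} {u₁ : ↥U₁.left} {u₂ : ↥U₂.left} (h₁ : IsElemEtaleNbhd a₁ u₁ x)
    (h₂ : IsElemEtaleNbhd a₂ u₂ x) : Brnch.numBranchesAt U₁.left u₁ = Brnch.numBranchesAt U₂.left u₂ := by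
  have key : ∀ {U U' : Over S} {a : (yon S).obj U ⟶ F} {a' : (yon S).obj U' ⟶ F} {v : ↥U.left} {v' : ↥U'.left},
      IsElemEtaleNbhd a v x → IsElemEtaleNbhd a' v' x →
        Brnch.numBranchesAt U.left v ≤ Brnch.numBranchesAt U'.left v' := fun h h' =>
    numBranchesAt_le hF h h' _ fun T g t hg => by
      rw [BrnchNhd.numBranchesAt_eq, ← encard_components_eq_minimalPrimes]
      exact le_iSup_of_le T (le_iSup_of_le g (le_iSup_of_le t (le_iSup_of_le hg le_rfl)))
  exact le_antisymm (key h₁ h₂) (key h₂ h₁)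

variable (hF : IsAlgSpace F) {U₀ : Over S} {a₀ : (yon S).obj U₀ ⟶ F} {u₀ : ↥U₀.left}
  (h₀ : IsElemEtaleNbhd a₀ u₀ x)
include hF h₀

theorem numBranchesAt_eq_card {R : Type u} [CommRing R] [IsLocalRing R] [Algebra ↥(U₀.left.presheaf.stalk u₀) R]
    [IsLocalHom (algebraMap ↥(U₀.left.presheaf.stalk u₀) R)]
    [Hensel.IsHenselization ↥(U₀.left.presheaf.stalk u₀) R] {U : Over S} {a : (yon S).obj U ⟶ F} {v : ↥U.left}
    (h : IsElemEtaleNbhd a v x) : Brnch.numBranchesAt U.left v = (minimalPrimes R).encard := by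
  rw [numBranchesAt_eq hF h h₀]
  unfold Brnch.numBranchesAt
  exact numBranches_eq_encard _ _

theorem encard_le {U : Over S} {a : (yon S).obj U ⟶ F} {v : ↥U.left} (h : IsElemEtaleNbhd a v x) :
    (minimalPrimes ↥(U.left.presheaf.stalk v)).encard ≤ Brnch.numBranchesAt U₀.left u₀ :=
  (encard_le_numBranchesAt v).trans (numBranchesAt_eq hF h h₀).le

theorem forall_le_and_attained_iff (n : ℕ) (hn : 1 ≤ n) :
    ((∀ (U : Over S) (a : (yon S).obj U ⟶ F) (v : ↥U.left), IsElemEtaleNbhd a v x →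
        (minimalPrimes ↥(U.left.presheaf.stalk v)).encard ≤ n) ∧
      (∃ (U : Over S) (a : (yon S).obj U ⟶ F) (v : ↥U.left), IsElemEtaleNbhd a v x ∧
        (minimalPrimes ↥(U.left.presheaf.stalk v)).encard = n)) ↔ Brnch.numBranchesAt U₀.left u₀ = n := by
  constructor
  · rintro ⟨hle, U, a, v, h, hv⟩
    refine le_antisymm (numBranchesAt_le hF h₀ h₀ _ fun T g t hg => ?_) (hv.symm.le.trans (encard_le hF h₀ h))
    exact hle (Over.mk (g ≫ U₀.hom)) _ t (isElemEtaleNbhd_comp h₀ hg)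
  · intro e
    refine ⟨fun U a v h => (encard_le hF h₀ h).trans e.le, ?_⟩
    by_contra hc
    push Not at hc
    obtain ⟨m, rfl⟩ : ∃ m, n = m + 1 := ⟨n - 1, by omega⟩
    have h2 : Brnch.numBranchesAt U₀.left u₀ ≤ (m : ℕ∞) := numBranchesAt_le hF h₀ h₀ _ fun T g t hg => by
      have h' := isElemEtaleNbhd_comp h₀ hg
      have hlt : (minimalPrimes ↥(T.presheaf.stalk t)).encard < ((m + 1 : ℕ) : ℕ∞) :=
        lt_of_le_of_ne ((encard_le hF h₀ h').trans e.le) (hc (Over.mk (g ≫ U₀.hom)) _ t h')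
      have : (minimalPrimes ↥(T.presheaf.stalk t)).encard < (m : ℕ∞) + 1 := by exact_mod_cast hlt
      exact (ENat.lt_coe_add_one_iff).1 this
    rw [e] at h2
    exact absurd (ENat.coe_le_coe.1 h2) (by omega)

end GrothLib.AlgSp.ElemBranches
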