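import Groth.Agent.Lib.AlgSp.SymLift
import Groth.Agent.Lib.Hensel.Sections
import Groth.Agent.Lib.Hensel.TensorIntegral

/-!
# Points over henselian local rings lift along etale charts

* `exists_lift_of_residue_lift`: a lift of the closed point extends.
* `exists_lift_quotient_point`: the same for quotients of a henselian local ring.
-/

universe u

open CategoryTheory CategoryTheory.Limits AlgebraicGeometry

namespace GrothLib.AlgSp

open _root_.AlgSp

variable {S : Scheme.{u}} {X : Sp S}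

theorem exists_lift_of_residue_lift (hX : IsAlgSpace X) {M : Over S} {b : (yon S).obj M ⟶ X}
    (hb : RepWith @Etale b) (A : Type u) [CommRing A] [HenselianLocalRing A] {T : Over S}
    (e : T.left = Spec (CommRingCat.of A)) (x : (yon S).obj T ⟶ X) {T₀ : Over S}
    (e₀ : T₀.left = Spec (CommRingCat.of (IsLocalRing.ResidueField A))) (ρ : T₀ ⟶ T)
    (hρ : ρ.left ≫ eqToHom e = eqToHom e₀ ≫ Spec.map (CommRingCat.ofHom (IsLocalRing.residue A)))
    (l : T₀ ⟶ M) (hl : (yon S).map l ≫ b = (yon S).map ρ ≫ x) :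
    ∃ g : T ⟶ M, (yon S).map g ≫ b = x := by
  obtain ⟨Q, p, d, sq⟩ := exists_isPullback_yon hX.diag x b
  haveI : Etale p.left := hb.2 _ _ _ sq.flip
  obtain ⟨u₀, hu₁, -⟩ := exists_lift_yon sq ρ l hl.symm
  obtain ⟨σ, hσ, -⟩ := Hensel.exists_section_extending (p.left ≫ eqToHom e) (eqToHom e₀.symm ≫ u₀.left) (by
    rw [Category.assoc, ← Category.assoc u₀.left, ← Over.comp_left, hu₁, hρ, eqToHom_trans_assoc,
      eqToHom_refl, Category.id_comp])
  have hσp : (eqToHom e ≫ σ) ≫ p.left = 𝟙 T.left := by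
    rw [← cancel_mono (eqToHom e), Category.assoc, Category.assoc, hσ]
    simp
  let s : T ⟶ Q := Over.homMk (eqToHom e ≫ σ) (by
    rw [← Over.w p, ← Category.assoc, hσp, Category.id_comp])
  have hs : s ≫ p = 𝟙 T := Over.OverMorphism.ext hσp
  refine ⟨s ≫ d, ?_⟩
  rw [Functor.map_comp, Category.assoc, ← sq.w, ← Category.assoc, ← Functor.map_comp, hs,
    CategoryTheory.Functor.map_id, Category.id_comp]

theorem exists_map_of_isEmpty {T M : Over S} (b : (yon S).obj M ⟶ X) [IsEmpty ↥T.left]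
    (x : (yon S).obj T ⟶ X) : ∃ g : T ⟶ M, (yon S).map g ≫ b = x := by
  refine ⟨Over.homMk ((isInitialOfIsEmpty (X := T.left)).to M.left) ((isInitialOfIsEmpty (X := T.left)).hom_ext _ _), ?_⟩
  apply (J S).uliftYonedaEquiv.{u + 1}.injective
  exact eq_of_isEmpty _ _

/-- Quotient points of a henselian local ring lift once residual points do. -/
theorem exists_lift_quotient_point (hX : IsAlgSpace X) {M : Over S} {b : (yon S).obj M ⟶ X}
    (hb : RepWith @Etale b) (R : Type u) [CommRing R] [HenselianLocalRing R]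
    (str : Spec (CommRingCat.of R) ⟶ S)
    (hres : ∀ x₀ : (yon S).obj (Over.mk (Spec.map (CommRingCat.ofHom (IsLocalRing.residue R)) ≫ str)) ⟶ X,
      ∃ l, (yon S).map l ≫ b = x₀)
    (a : Ideal R) (x : (yon S).obj (Over.mk (Spec.map (CommRingCat.ofHom (Ideal.Quotient.mk a)) ≫ str)) ⟶ X) :
    ∃ g, (yon S).map g ≫ b = x := by
  rcases eq_or_ne a ⊤ with rfl | ha
  · haveI : IsEmpty ↥(Over.mk (Spec.map (CommRingCat.ofHom (Ideal.Quotient.mk (⊤ : Ideal R))) ≫ str)).left :=
      inferInstanceAs (IsEmpty (PrimeSpectrum (R ⧸ (⊤ : Ideal R))))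
    exact exists_map_of_isEmpty b x
  haveI : Nontrivial (R ⧸ a) := Ideal.Quotient.nontrivial_iff.2 ha
  haveI : IsLocalRing (R ⧸ a) := .of_surjective' (Ideal.Quotient.mk a) Ideal.Quotient.mk_surjective
  haveI : IsLocalHom (Ideal.Quotient.mk a) := .of_surjective _ Ideal.Quotient.mk_surjective
  haveI : IsLocalHom (algebraMap R (R ⧸ a)) := ‹IsLocalHom (Ideal.Quotient.mk a)›
  haveI : HenselianLocalRing (R ⧸ a) := Hensel.henselianLocalRing_of_isIntegral_isLocalHom (R := R)
  let φ := IsLocalRing.ResidueField.map (Ideal.Quotient.mk a)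
  have hφ : Function.Bijective φ := ⟨φ.injective, fun z => by
    obtain ⟨z, rfl⟩ := IsLocalRing.residue_surjective z
    obtain ⟨r, rfl⟩ := Ideal.Quotient.mk_surjective z
    exact ⟨IsLocalRing.residue R r, rfl⟩⟩
  let ψ := (RingEquiv.ofBijective φ hφ).symm.toRingHom
  let T₀ : Over S := Over.mk (Spec.map (CommRingCat.ofHom (IsLocalRing.residue (R ⧸ a))) ≫
    Spec.map (CommRingCat.ofHom (Ideal.Quotient.mk a)) ≫ str)
  let ρ : T₀ ⟶ Over.mk (Spec.map (CommRingCat.ofHom (Ideal.Quotient.mk a)) ≫ str) :=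
    Over.homMk (Spec.map (CommRingCat.ofHom (IsLocalRing.residue (R ⧸ a)))) rfl
  have hψ : CommRingCat.ofHom (IsLocalRing.residue R) ≫ CommRingCat.ofHom φ =
      CommRingCat.ofHom (Ideal.Quotient.mk a) ≫ CommRingCat.ofHom (IsLocalRing.residue (R ⧸ a)) := rfl
  let i : T₀ ⟶ Over.mk (Spec.map (CommRingCat.ofHom (IsLocalRing.residue R)) ≫ str) :=
    Over.homMk (Spec.map (CommRingCat.ofHom φ)) (by
      change Spec.map _ ≫ Spec.map _ ≫ str = Spec.map _ ≫ Spec.map _ ≫ str
      rw [← Spec.map_comp_assoc, hψ, Spec.map_comp_assoc])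
  haveI : IsIso ((Over.forget S).map i) := by
    haveI : IsIso (CommRingCat.ofHom φ) := (ConcreteCategory.isIso_iff_bijective _).2 hφ
    exact inferInstanceAs (IsIso (Spec.map (CommRingCat.ofHom φ)))
  haveI : IsIso i := isIso_of_reflects_iso i (Over.forget S)
  obtain ⟨l, hl⟩ := hres ((yon S).map (inv i ≫ ρ) ≫ x)
  refine exists_lift_of_residue_lift hX hb (R ⧸ a) rfl x (T₀ := T₀) rfl ρ (by simp [ρ]) (i ≫ l) ?_
  rw [Functor.map_comp, Category.assoc, hl, ← Category.assoc, ← Functor.map_comp, IsIso.hom_inv_id_assoc]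

end GrothLib.AlgSp
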