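import Groth.Agent.Lib.AlgSp.LimitDesc
import Groth.Agent.Lib.AlgSp.OpenSub
import Groth.Agent.Lib.AlgSp.ImmersionDescent
import Groth.Agent.Lib.AlgSp.FlatMono
import Groth.Agent.Lib.AlgSp.LocP
import Groth.Agent.Lib.AlgSp.PointsUniv
import Groth.Agent.Lib.AlgSp.AffineMor
import Groth.Agent.Lib.LimDesc.Basic

/-!
# An immersion into a limit is an immersion into a stage

* `exists_isClosedImmersion_into`, `exists_isImmersion_into`: the case of affine schemes;
* `eventually_isImmersion_into`: algebraic spaces.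
-/

universe u

open CategoryTheory CategoryTheory.Limits AlgebraicGeometry TopologicalSpace

namespace GrothLib.AlgSp

open _root_.AlgSp

set_option backward.isDefEq.respectTransparency false

section Scheme

variable {J : Type u} [SmallCategory J] [IsCofiltered J] (F : J ⥤ Scheme.{u}) {cF : Cone F}
  (hF : IsLimit cF) [∀ j, IsAffine (F.obj j)]

include hF

/-- A closed immersion into a limit of affine schemes of finite type over a stage. -/
theorem exists_isClosedImmersion_into {W : Scheme.{u}} [IsAffine W] (ι : W ⟶ cF.pt) [IsClosedImmersion ι] (i : J)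
    [LocallyOfFiniteType (ι ≫ cF.π.app i)] :
    ∃ (k : J) (_ : k ⟶ i), IsClosedImmersion (ι ≫ cF.π.app k) := by
  classical
  haveI := IsCofiltered.isConnected J
  haveI : IsAffine cF.pt := Scheme.isAffine_of_isLimit cF hF
  have hft : (ι ≫ cF.π.app i).appTop.hom.FiniteType :=
    HasRingHomProperty.appTop @LocallyOfFiniteType (ι ≫ cF.π.app i) inferInstance
  algebraize [(ι ≫ cF.π.app i).appTop.hom]
  obtain ⟨s, hs⟩ := hft
  have key : ∀ b : Γ(W, ⊤), ∃ (j : J) (_ : j ⟶ i), b ∈ (ι ≫ cF.π.app j).appTop.hom.range := by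
    intro b
    obtain ⟨α, hα⟩ := (IsClosedImmersion.isAffine_surjective_of_isAffine (f := ι)).2 b
    obtain ⟨j, t, ht⟩ := exists_appTop_π_eq_of_isAffine_of_isLimit F cF hF α
    obtain ⟨m, u, v, -⟩ := IsCofilteredOrEmpty.cone_objs i j
    refine ⟨m, u, (F.map v).appTop t, ?_⟩
    rw [← hα, ← ht, ← cF.w v]
    rfl
  choose jb φb hjb using key
  obtain ⟨k, φk, g, -⟩ := IsCofiltered.wideCospan (I := {b // b ∈ s}) (fun b => φb b.1)
  refine ⟨k, φk, IsClosedImmersion.of_surjective_of_isAffine _ fun b => ?_⟩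
  have hb : b ∈ Algebra.adjoin Γ(F.obj i, ⊤) (s : Set Γ(W, ⊤)) := hs ▸ Algebra.mem_top
  show b ∈ (ι ≫ cF.π.app k).appTop.hom.range
  induction hb using Algebra.adjoin_induction with
  | mem b hb =>
    obtain ⟨y, hy⟩ := hjb b
    refine ⟨(F.map (g ⟨b, hb⟩)).appTop y, Eq.trans ?_ hy⟩
    show ((ι ≫ cF.π.app k) ≫ F.map (g ⟨b, hb⟩)).appTop y = (ι ≫ cF.π.app (jb b)).appTop y
    rw [Category.assoc, cF.w]
  | algebraMap x =>
    refine ⟨(F.map φk).appTop x, ?_⟩
    show _ = (ι ≫ cF.π.app i).appTop x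
    rw [← cF.w φk]
    rfl
  | add x y _ _ hx hy => exact add_mem hx hy
  | mul x y _ _ hx hy => exact mul_mem hx hy

/-- An immersion into a limit of affine schemes of finite type over a stage. -/
theorem exists_isImmersion_into {W : Scheme.{u}} [CompactSpace W] (ι : W ⟶ cF.pt) [IsImmersion ι] (i : J)
    [LocallyOfFiniteType (ι ≫ cF.π.app i)] :
    ∃ (k : J) (_ : k ⟶ i), IsImmersion (ι ≫ cF.π.app k) := by
  classical
  haveI := IsCofiltered.isConnected J
  haveI : IsAffine cF.pt := Scheme.isAffine_of_isLimit cF hF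
  haveI : ∀ (a b : J) (f : a ⟶ b), IsAffineHom (F.map f) := fun a b f => isAffineHom_of_isAffine _
  have hsub : Set.range ι ⊆ ι.coborderRange := subset_coborder
  have hloc : ∀ w : W, ∃ (j : J) (g : Γ(F.obj j, ⊤)), cF.π.app j (ι w) ∈ (F.obj j).basicOpen g ∧
      cF.π.app j ⁻¹ᵁ (F.obj j).basicOpen g ≤ ι.coborderRange := by
    intro w
    obtain ⟨_, ⟨_, ⟨g, rfl⟩, rfl⟩, hw, hle⟩ := (isBasis_basicOpen cF.pt).exists_subset_of_mem_open
      (hsub ⟨w, rfl⟩) ι.coborderRange.2
    obtain ⟨j, t, rfl⟩ := exists_appTop_π_eq_of_isAffine_of_isLimit F cF hF g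
    refine ⟨j, t, ?_, ?_⟩
    · show ι w ∈ cF.π.app j ⁻¹ᵁ (F.obj j).basicOpen t
      rw [Scheme.preimage_basicOpen_top]; exact hw
    · rw [Scheme.preimage_basicOpen_top]; exact hle
  choose jw gw hmem hle using hloc
  obtain ⟨s, hs⟩ := isCompact_univ.elim_finite_subcover
    (fun w => ((ι ≫ cF.π.app (jw w)) ⁻¹ᵁ (F.obj (jw w)).basicOpen (gw w) : Set W)) (fun w => Opens.isOpen _)
    fun w _ => Set.mem_iUnion.mpr ⟨w, hmem w⟩
  have hmin : ∀ n : {w // w ∈ s}, ∃ (m : J) (_ : m ⟶ i), Nonempty (m ⟶ jw n.1) := fun n => by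
    obtain ⟨m, u, v, -⟩ := IsCofilteredOrEmpty.cone_objs i (jw n.1)
    exact ⟨m, u, ⟨v⟩⟩
  choose mn un hvn using hmin
  obtain ⟨k₀, φ₀, g₀, -⟩ := IsCofiltered.wideCospan (I := {w // w ∈ s}) un
  let U : {w // w ∈ s} → (F.obj k₀).Opens := fun n =>
    F.map (g₀ n ≫ (hvn n).some) ⁻¹ᵁ (F.obj (jw n.1)).basicOpen (gw n.1)
  have hUaff : ∀ n, IsAffineOpen (U n) := fun n => ((isAffineOpen_top _).basicOpen _).preimage _
  have hpre : ∀ n, cF.π.app k₀ ⁻¹ᵁ U n = cF.π.app (jw n.1) ⁻¹ᵁ (F.obj (jw n.1)).basicOpen (gw n.1) := fun n => by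
    rw [← cF.w (g₀ n ≫ (hvn n).some)]
    rfl
  have hcl : ∀ n, IsClosedImmersion (ι ∣_ (cF.π.app k₀ ⁻¹ᵁ U n)) := fun n => by
    haveI : IsPreimmersion (ι ∣_ (cF.π.app k₀ ⁻¹ᵁ U n)) := MorphismProperty.of_isPullback
      (isPullback_morphismRestrict ι _).flip (inferInstance : IsPreimmersion ι)
    refine IsClosedImmersion.of_isPreimmersion _ ?_
    have hr : Set.range (ι ∣_ (cF.π.app k₀ ⁻¹ᵁ U n)) = (cF.π.app k₀ ⁻¹ᵁ U n).ι ⁻¹' closure (Set.range ι) := by
      ext y
      constructor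
      · rintro ⟨x, rfl⟩
        refine subset_closure ⟨(ι ⁻¹ᵁ (cF.π.app k₀ ⁻¹ᵁ U n)).ι x, ?_⟩
        exact (congr($(morphismRestrict_ι ι (cF.π.app k₀ ⁻¹ᵁ U n)).base x)).symm
      · intro hy
        have hy' : y.1 ∈ ι.coborderRange := hle n.1 ((hpre n).le y.2)
        obtain ⟨x, hx⟩ := (coborder_inter_closure (s := Set.range ι)).le ⟨hy', hy⟩
        have hxU : x ∈ ι ⁻¹ᵁ (cF.π.app k₀ ⁻¹ᵁ U n) := by
          show ι x ∈ cF.π.app k₀ ⁻¹ᵁ U n
          rw [hx]; exact y.2
        refine ⟨⟨x, hxU⟩, (cF.π.app k₀ ⁻¹ᵁ U n).ι.isOpenEmbedding.injective ?_⟩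
        exact (congr($(morphismRestrict_ι ι (cF.π.app k₀ ⁻¹ᵁ U n)).base ⟨x, hxU⟩)).trans hx
    rw [hr]
    exact isClosed_closure.preimage (Scheme.Hom.continuous _)
  haveI : LocallyOfFiniteType (ι ≫ cF.π.app k₀) := by
    haveI : LocallyOfFiniteType ((ι ≫ cF.π.app k₀) ≫ F.map φ₀) := by
      rw [Category.assoc, cF.w]; infer_instance
    exact locallyOfFiniteType_of_comp _ (F.map φ₀)
  -- the closed immersions over the basic opens
  have hstage : ∀ n, ∃ (l : J) (ψ : l ⟶ k₀), ∀ (k : J) (χ : k ⟶ l),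
      IsClosedImmersion ((ι ≫ cF.π.app k) ∣_ (F.map (χ ≫ ψ) ⁻¹ᵁ U n)) := by
    intro n
    haveI : IsAffine (U n).toScheme := hUaff n
    have sqc : IsPullback (cF.π.app k₀ ∣_ U n) (cF.π.app k₀ ⁻¹ᵁ U n).ι (U n).ι (cF.π.app k₀) :=
      isPullback_morphismRestrict _ _
    let G := LimDesc.diag F k₀ (U n).ι
    let cG := LimDesc.cone F k₀ (U n).ι sqc
    have hG : IsLimit cG := LimDesc.isLimitCone F k₀ (U n).ι sqc hF
    haveI : CategoryTheory.IsConnected (CategoryTheory.Over k₀) := IsCofiltered.isConnected _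
    haveI : ∀ j, IsAffine (G.obj j) := fun j => by
      haveI : IsAffineHom (pullback.fst (U n).ι (F.map j.hom)) :=
        MorphismProperty.pullback_fst _ _ inferInstance
      exact isAffine_of_isAffineHom (pullback.fst (U n).ι (F.map j.hom))
    haveI : IsAffine cG.pt := Scheme.isAffine_of_isLimit cG hG
    let ιn := ι ∣_ (cF.π.app k₀ ⁻¹ᵁ U n)
    haveI : IsClosedImmersion ιn := hcl n
    haveI : IsAffine (ι ⁻¹ᵁ (cF.π.app k₀ ⁻¹ᵁ U n)).toScheme := by
      haveI : IsAffine (cF.π.app k₀ ⁻¹ᵁ U n).toScheme := ‹IsAffine cG.pt›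
      exact isAffine_of_isAffineHom ιn
    let top : CategoryTheory.Over k₀ := CategoryTheory.Over.mk (𝟙 k₀)
    haveI : LocallyOfFiniteType (ιn ≫ cG.π.app top) := by
      haveI : LocallyOfFiniteType ((ιn ≫ cG.π.app top) ≫ pullback.snd (U n).ι (F.map top.hom)) := by
        rw [Category.assoc, LimDesc.π_snd, ← Category.assoc, morphismRestrict_ι, Category.assoc]
        show LocallyOfFiniteType (_ ≫ ι ≫ cF.π.app k₀)
        infer_instance
      exact locallyOfFiniteType_of_comp _ (pullback.snd (U n).ι (F.map top.hom))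
    obtain ⟨l, -, hl⟩ := exists_isClosedImmersion_into G hG ιn top
    refine ⟨l.left, l.hom, fun k χ => ?_⟩
    let kl : CategoryTheory.Over k₀ := CategoryTheory.Over.mk (χ ≫ l.hom)
    let μ : kl ⟶ l := CategoryTheory.Over.homMk χ
    haveI : IsClosedImmersion (ιn ≫ cG.π.app kl) := by
      haveI : IsClosedImmersion ((ιn ≫ cG.π.app kl) ≫ G.map μ) := by
        rw [Category.assoc, cG.w]; exact hl
      haveI : IsAffineHom (G.map μ) := isAffineHom_of_isAffine _
      exact IsClosedImmersion.of_comp _ (G.map μ)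
    -- transport
    let p := ι ≫ cF.π.app k
    let U' := F.map (χ ≫ l.hom) ⁻¹ᵁ U n
    have sq₁ : IsPullback (ιn ≫ cG.π.app kl) (ι ⁻¹ᵁ (cF.π.app k₀ ⁻¹ᵁ U n)).ι
        (pullback.snd (U n).ι (F.map kl.hom)) p := by
      refine IsPullback.of_right ?_ ?_ (IsPullback.of_hasPullback (U n).ι (F.map kl.hom))
      · rw [Category.assoc, LimDesc.π_fst, show p ≫ F.map kl.hom = ι ≫ cF.π.app k₀ by
          simp only [p, Category.assoc]; rw [cF.w]]
        exact (isPullback_morphismRestrict ι _).paste_horiz sqc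
      · rw [Category.assoc, LimDesc.π_snd, ← Category.assoc, morphismRestrict_ι, Category.assoc]
        rfl
    have sq₂ : IsPullback (F.map kl.hom ∣_ U n) U'.ι (U n).ι (F.map kl.hom) := isPullback_morphismRestrict _ _
    let e := sq₂.isoPullback
    have sq₃ : IsPullback ((ιn ≫ cG.π.app kl) ≫ e.inv) (ι ⁻¹ᵁ (cF.π.app k₀ ⁻¹ᵁ U n)).ι U'.ι p :=
      sq₁.of_iso (Iso.refl _) e.symm (Iso.refl _) (Iso.refl _) (by simp) (by simp)
        (by simp [e]) (by simp)
    have sq₄ := sq₃.flip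
    have sq₅ := (isPullback_morphismRestrict p U').flip
    let e' := sq₄.isoIsPullback _ _ sq₅
    have he' : e'.hom ≫ (p ∣_ U') = (ιn ≫ cG.π.app kl) ≫ e.inv := sq₄.isoIsPullback_hom_snd _ _ sq₅
    show IsClosedImmersion (p ∣_ U')
    rw [← MorphismProperty.cancel_left_of_respectsIso @IsClosedImmersion e'.hom, he']
    infer_instance
  choose ln ψn hln using hstage
  obtain ⟨k, φk, χ, hχ⟩ := IsCofiltered.wideCospan (I := {w // w ∈ s}) ψn
  refine ⟨k, φk ≫ φ₀, ?_⟩
  let V : {w // w ∈ s} → (F.obj k).Opens := fun n => F.map φk ⁻¹ᵁ U n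
  have hV : ∀ n, IsClosedImmersion ((ι ≫ cF.π.app k) ∣_ V n) := fun n => by
    have := hln n k (χ n)
    rw [hχ] at this
    exact this
  let O : (F.obj k).Opens := ⨆ n, V n
  let p := ι ≫ cF.π.app k
  have hrange : Set.range p ⊆ Set.range O.ι := by
    rintro _ ⟨w, rfl⟩
    rw [Scheme.Opens.range_ι]
    obtain ⟨n, hn, hw⟩ := Set.mem_iUnion₂.mp (hs (Set.mem_univ w))
    refine Opens.mem_iSup.mpr ⟨⟨n, hn⟩, ?_⟩
    show (ι ≫ cF.π.app k ≫ F.map φk) w ∈ U ⟨n, hn⟩
    rw [cF.w]
    exact (hpre ⟨n, hn⟩).ge hw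
  let p' := IsOpenImmersion.lift O.ι p hrange
  have hfac : p' ≫ O.ι = p := IsOpenImmersion.lift_fac _ _ _
  haveI : IsClosedImmersion p' := by
    refine IsZariskiLocalAtTarget.of_iSup_eq_top (fun n => O.ι ⁻¹ᵁ V n) ?_ fun n => ?_
    · apply Opens.ext
      ext y
      simp only [Opens.coe_iSup, Set.mem_iUnion, Opens.coe_top, Set.mem_univ, iff_true]
      obtain ⟨n, hn⟩ := Opens.mem_iSup.mp (show (y : ↥O.toScheme).1 ∈ ⨆ n, V n from y.2)
      exact ⟨n, hn⟩
    · let f := (O.ι ∣_ V n)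
      have sqO : IsPullback f (O.ι ⁻¹ᵁ V n).ι (V n).ι O.ι := isPullback_morphismRestrict _ _
      have sqp := (isPullback_morphismRestrict p' (O.ι ⁻¹ᵁ V n)).paste_horiz sqO
      rw [hfac] at sqp
      have sq5 := (isPullback_morphismRestrict p (V n)).flip
      let e' := sqp.flip.isoIsPullback _ _ sq5
      have he' : e'.hom ≫ (p ∣_ V n) = (p' ∣_ (O.ι ⁻¹ᵁ V n)) ≫ f := sqp.flip.isoIsPullback_hom_snd _ _ sq5
      haveI := hV n
      haveI : IsClosedImmersion ((p' ∣_ (O.ι ⁻¹ᵁ V n)) ≫ f) := by rw [← he']; infer_instance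
      exact IsClosedImmersion.of_comp _ f
  show IsImmersion p
  rw [← hfac]
  infer_instance

end Scheme

section Space

variable {S : Scheme.{u}} [QuasiSeparatedSpace ↥S] {I : Type u} [SmallCategory I] [IsCofiltered I] {D : I ⥤ Sp S}

omit [QuasiSeparatedSpace ↥S] [IsCofiltered I] in
/-- An affine scheme etale over a space covering the image of a quasi-compact space. -/
theorem exists_affine_chart_covering {X Y : Sp S} (hX : IsAlgSpace X) (hY : IsQuasiCompactSp Y) (y : Y ⟶ X) :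
    ∃ (U : Over S) (a : (yon S).obj U ⟶ X), IsAffine U.left ∧ RepWith @Etale a ∧
      Set.range (Points.map y) ⊆ Set.range (Points.ofPt a) := by
  classical
  obtain ⟨κ, W, r, hW, hre, hcov, -⟩ := exists_affine_charts hX
  haveI := compactSpace_points_of_isQuasiCompactSp hY
  have hopen : ∀ i, IsOpen (Set.range (Points.ofPt (r i))) := fun i =>
    (isOpenMap_ofPt_of_repWith (fun _ _ g (_ : Etale g) => g.isOpenMap) (hre i)).isOpen_range
  obtain ⟨s, hs⟩ := (isCompact_range (Points.continuous_map y)).elim_finite_subcover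
    (fun i => Set.range (Points.ofPt (r i))) hopen
    fun x _ => by obtain ⟨i, w, hw⟩ := hcov x; exact Set.mem_iUnion.mpr ⟨i, w, hw⟩
  haveI : ∀ i, IsAffine (W i).left := hW
  let W' : {i // i ∈ s} → Over S := fun n => W n.1
  obtain ⟨a, ha, -⟩ := exists_hom_of_sigma W' (fun n => r n.1)
  refine ⟨sigmaOver W', a, inferInstanceAs (IsAffine (∐ fun n : {i // i ∈ s} => (W n.1).left)),
    repWith_sigma hX.diag W' (fun n => r n.1) a ha @Etale fun n => hre n.1, fun x hx => ?_⟩
  obtain ⟨i, hi, w, rfl⟩ := Set.mem_iUnion₂.mp (hs hx)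
  exact ⟨(sigmaι W' ⟨i, hi⟩).left w, by rw [← ofPt_map_comp, ha]⟩

/-- An immersion into the limit of a quasi-compact space of finite type over a stage is an immersion into a stage. -/
theorem exists_isImmersion_into_stage (hD : ∀ i, IsAlgSpace (D.obj i))
    (hDa : ∀ (i j : I) (φ : i ⟶ j), IsAffineMor (D.map φ)) {c : Cone D} (hc : IsLimit c)
    (hqs : ∀ i, IsQuasiSeparatedSp (D.obj i)) {Y : Sp S} (hY : IsAlgSpace Y) (hYqc : IsQuasiCompactSp Y)
    (y : Y ⟶ c.pt) (hy : RepWith @IsImmersion y) (i₁ : I) (hl : LocP @LocallyOfFiniteType (y ≫ c.π.app i₁)) :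
    ∃ i₀ : I, ∀ (i : I) (_ : i ⟶ i₀), RepWith @IsImmersion (y ≫ c.π.app i) := by
  haveI := IsCofiltered.isConnected I
  obtain ⟨U, a, hU, ae, hcov⟩ := exists_affine_chart_covering (hD i₁) hYqc (y ≫ c.π.app i₁)
  haveI := hU
  obtain ⟨E, cU, f, w, fst, snd, ⟨hcU⟩, -, hE, hEm, hEπ, sqU⟩ := exists_affine_chart_limit hDa hc i₁ hU a
  obtain ⟨W, fW, wι, sqW⟩ := exists_isPullback_of_representable hy.1 fst
  haveI : IsImmersion ((Over.forget S).map wι) := hy.2 _ _ _ sqW
  have sqWU : IsPullback fW ((yon S).map (wι ≫ snd)) (y ≫ c.π.app i₁) a := by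
    rw [Functor.map_comp]
    exact (sqW.flip.paste_horiz sqU.flip).flip
  have hfWe : RepWith @Etale fW := repWith_of_isPullback sqWU.flip ae
  haveI : CompactSpace ↥W.left := compactSpace_of_isQuasiCompactSp_yon _
    (isQuasiCompactMor_of_repWith (repWith_of_isPullback sqWU.flip (repWith_quasiCompact_chart (hD i₁) (hqs i₁) a))
      hY hYqc (𝟙 _) (𝟙 _) fW (IsPullback.of_horiz_isIso ⟨by simp⟩))
  haveI : CompactSpace ↥((Over.forget S).obj W) := ‹CompactSpace ↥W.left›
  haveI : LocallyOfFiniteType (wι ≫ snd).left := hl fW a (wι ≫ snd) hfWe ae sqWU.w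
  haveI : CategoryTheory.IsConnected (CategoryTheory.Over i₁) := IsCofiltered.isConnected _
  let E' : CategoryTheory.Over i₁ ⥤ Scheme.{u} := E ⋙ Over.forget S
  haveI : ∀ j, IsAffine (E'.obj j) := fun j => (hE j).1
  let top : CategoryTheory.Over i₁ := CategoryTheory.Over.mk (𝟙 i₁)
  haveI : LocallyOfFiniteType ((Over.forget S).map wι ≫ ((Over.forget S).mapCone cU).π.app top) := by
    haveI : LocallyOfFiniteType (((Over.forget S).map wι ≫ (cU.π.app top).left) ≫ (w top).left) := by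
      show LocallyOfFiniteType ((wι.left ≫ (cU.π.app top).left) ≫ (w top).left)
      rw [Category.assoc, ← Over.comp_left, (hEπ top).2]
      exact ‹LocallyOfFiniteType (wι ≫ snd).left›
    exact locallyOfFiniteType_of_comp ((Over.forget S).map wι ≫ (cU.π.app top).left) (w top).left
  obtain ⟨k, -, hk⟩ := exists_isImmersion_into E' (isLimitOfPreserves (Over.forget S) hcU) ((Over.forget S).map wι) top
  haveI : IsImmersion (wι ≫ cU.π.app k).left := hk
  let yk := y ≫ c.π.app k.left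
  have sqk : IsPullback fW ((yon S).map (wι ≫ cU.π.app k)) yk (f k) := by
    refine IsPullback.of_bot (v₂₁ := (yon S).map (w k)) (v₂₂ := D.map k.hom) ?_ ?_ (hE k).2
    · rw [← Functor.map_comp, Category.assoc, (hEπ k).2, show yk ≫ D.map k.hom = y ≫ c.π.app i₁ by
        simp only [yk, Category.assoc]; rw [c.w]]
      exact sqWU
    · rw [Functor.map_comp, Category.assoc, ← (hEπ k).1, ← Category.assoc fW, sqW.w, Category.assoc]
  -- the open image of the chart
  have hfe : RepWith @Etale (f k) := repWith_of_isPullback (hE k).2.flip ae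
  have hopen : IsOpen (Set.range (Points.ofPt (f k))) :=
    (isOpenMap_ofPt_of_repWith (fun _ _ g (_ : Etale g) => g.isOpenMap) hfe).isOpen_range
  let j := openSubι (D.obj k.left) (Set.range (Points.ofPt (f k)))
  have hj : RepWith @IsOpenImmersion j := repWith_openSubι hopen
  haveI : Mono j := mono_of_openImmersion hj
  obtain ⟨f', hf'⟩ := openSub_lift (W := Set.range (Points.ofPt (f k))) (f k) fun t => ⟨t, rfl⟩
  have hf'e : RepWith @Etale f' := by
    refine repWith_of_isPullback (g := j) (g' := 𝟙 _) ?_ hfe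
    refine isPullback_of_yon (by rw [hf', Category.id_comp]) fun T p q hpq => ?_
    refine ⟨p, ⟨Category.comp_id _, (cancel_mono j).1 (by rw [Category.assoc, hf']; exact hpq)⟩, fun z hz => ?_⟩
    rw [← hz.1, Category.comp_id]
  haveI : Sheaf.IsLocallySurjective f' := chart_isLocallySurjective hf'e (repWith_surjective_of_ofPt hf'e.1 fun z => by
    obtain ⟨t, ht⟩ := (range_openSubι (W := Set.range (Points.ofPt (f k)))).le ⟨z, rfl⟩
    refine ⟨t, injective_map_of_repWith (fun _ _ g (hg : IsOpenImmersion g) => haveI := hg; g.isOpenEmbedding.injective) hj ?_⟩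
    rw [Points.map_ofPt, hf', ht])
  have hlift : Function.Surjective (Points.map (pullback.snd j yk)) := fun z => by
    have hz : Points.map yk z ∈ Set.range (Points.ofPt (f k)) := by
      obtain ⟨u, hu⟩ := hcov ⟨z, rfl⟩
      rw [Points.ofPt_eq_map_ofScheme a] at hu
      obtain ⟨p, hp, -⟩ := exists_of_isPullback sqWU (x := z) hu.symm
      obtain ⟨q, rfl⟩ := (Points.schemeHomeo W).surjective p
      refine ⟨((Over.forget S).map (wι ≫ cU.π.app k)) q, ?_⟩
      rw [← hp, ← Points.map_comp, sqk.w]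
      show Points.ofPt (f k) ((wι ≫ cU.π.app k).left q) = _
      rw [← ofPt_map_comp, Points.ofPt_eq_map_ofScheme]
      rfl
    obtain ⟨x, hx⟩ := (range_openSubι (W := Set.range (Points.ofPt (f k)))).ge hz
    obtain ⟨r, -, hr⟩ := exists_of_isPullback (IsPullback.of_hasPullback j yk) hx
    exact ⟨r, hr⟩
  haveI := isIso_of_openImmersion_surjective (repWith_of_isPullback (IsPullback.of_hasPullback j yk) hj) hlift
  obtain ⟨y', hy'⟩ : ∃ y' : Y ⟶ openSub (D.obj k.left) (Set.range (Points.ofPt (f k))), y' ≫ j = yk :=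
    ⟨inv (pullback.snd j yk) ≫ pullback.fst j yk, by
      rw [Category.assoc, pullback.condition, IsIso.inv_hom_id_assoc]⟩
  have sq' : IsPullback fW ((yon S).map (wι ≫ cU.π.app k)) y' f' := by
    refine isPullback_of_yon ((cancel_mono j).1 (by rw [Category.assoc, Category.assoc, hy', hf']; exact sqk.w))
      fun T p q hpq => ?_
    have h : p ≫ yk = q ≫ f k := by rw [← hy']; exact ((reassoc_of% hpq) j).trans (congrArg (q ≫ ·) hf')
    exact ⟨sqk.lift p q h, ⟨sqk.lift_fst _ _ _, sqk.lift_snd _ _ _⟩, fun z hz => sqk.hom_ext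
      (by rw [sqk.lift_fst, hz.1]) (by rw [sqk.lift_snd, hz.2])⟩
  have hy'i : RepWith @IsImmersion y' :=
    repWith_of_base_isImmersion f' sq' le_rfl fppfDescends_isImmersion ((repWith_yon_map_iff _ _).2 hk)
  have hyk : RepWith @IsImmersion yk := by
    rw [← hy']
    exact repWith_comp hy'i (repWith_mono hj fun _ _ g (_ : IsOpenImmersion g) => (inferInstance : IsImmersion g))
  refine ⟨k.left, fun i ψ => ?_⟩
  have hsep := (isSeparatedMor_iff_repWith (isAffineMor_iff.1 (hDa _ _ ψ)).1).2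
    (repWith_mono (isAffineMor_iff.1 (hDa _ _ ψ)) fun _ _ g (_ : IsAffineHom g) => (inferInstance : IsSeparated g))
  refine repWith_of_comp_diagonal (y ≫ c.π.app i) (D.map ψ)
    (repWith_mono hsep fun _ _ g (_ : IsClosedImmersion g) => (inferInstance : IsImmersion g)) ?_
  rw [Category.assoc, c.w]
  exact hyk

end Space

end GrothLib.AlgSp
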