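import Groth.Agent.Lib.AlgSp.MonoPoint
import Groth.Agent.Lib.AlgSp.DecentTop
import Groth.Agent.Lib.AlgSp.Strata
import Groth.Agent.Lib.AlgSp.LimitImmersion
import Mathlib.Topology.Spectral.ConstructibleTopology
import Mathlib.Topology.Constructible

/-!
# The space of points of a quasi-separated algebraic space

* `isCompact_preimage_chart`: affine charts pull compact opens back to compact opens;
* `prespectralSpace_points`, `quasiSeparatedSpace_points`: the topology of the points;
* `isLocallyConstructible_iff_charts`: local constructibility can be tested on etale charts.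
-/

universe u

open CategoryTheory CategoryTheory.Limits AlgebraicGeometry Topology TopologicalSpace
open scoped Set.Notation

namespace GrothLib.AlgSp

open _root_.AlgSp

variable {S : Scheme.{u}} {X : Sp S}

set_option backward.isDefEq.respectTransparency false

/-- Affine opens of etale charts through a given point inside a given open set. -/
theorem exists_affine_piece {U : Over S} {a : (yon S).obj U ⟶ X} (ha : RepWith @Etale a)
    {W : Set (Points X)} (hW : IsOpen W) {u : ↥U.left} (hu : Points.ofPt a u ∈ W) :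
    ∃ (V : Over S) (i : V ⟶ U) (v : ↥V.left), IsAffine V.left ∧ IsOpenImmersion i.left ∧ i.left v = u ∧
      RepWith @Etale ((yon S).map i ≫ a) ∧ Set.range (Points.ofPt ((yon S).map i ≫ a)) ⊆ W := by
  obtain ⟨_, ⟨A, hA, rfl⟩, huA, hAsub⟩ := U.left.isBasis_affineOpens.exists_subset_of_mem_open
    (show u ∈ Points.ofPt a ⁻¹' W from hu) (hW.preimage (Points.continuous_ofPt a))
  let j : Over.mk ((Scheme.Opens.ι A) ≫ U.hom) ⟶ U := Over.homMk (Scheme.Opens.ι A) rfl
  refine ⟨_, j, ⟨u, huA⟩, hA, inferInstanceAs (IsOpenImmersion (Scheme.Opens.ι A)), rfl,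
    repWith_comp ((repWith_yon_map_iff _ _).2 (inferInstanceAs (Etale (Scheme.Opens.ι A)))) ha, ?_⟩
  rintro _ ⟨v, rfl⟩
  rw [ofPt_map_comp]
  exact hAsub v.2

/-- Affine etale charts through a given point inside a given open set. -/
theorem exists_affine_etale_nhd (hX : IsAlgSpace X) {W : Set (Points X)} (hW : IsOpen W) {x : Points X}
    (hx : x ∈ W) :
    ∃ (V : Over S) (a : (yon S).obj V ⟶ X), IsAffine V.left ∧ RepWith @Etale a ∧
      x ∈ Set.range (Points.ofPt a) ∧ Set.range (Points.ofPt a) ⊆ W ∧
      IsCompact (Set.range (Points.ofPt a)) ∧ IsOpen (Set.range (Points.ofPt a)) := by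
  obtain ⟨U, p, pe, ps⟩ := hX.atlas
  obtain ⟨u, rfl⟩ := surjective_ofPt_of_repWith ps x
  obtain ⟨V, i, v, hV, -, rfl, hve, hsub⟩ := exists_affine_piece pe hW hx
  haveI := hV
  exact ⟨V, _, hV, hve, ⟨v, ofPt_map_comp i p v⟩, hsub, isCompact_range (Points.continuous_ofPt _),
    (isOpenMap_ofPt_of_repWith (fun _ _ g (_ : Etale g) => g.isOpenMap) hve).isOpen_range⟩

theorem prespectralSpace_points (hX : IsAlgSpace X) : PrespectralSpace (Points X) := by
  refine ⟨isTopologicalBasis_of_isOpen_of_nhds (fun W hW => hW.1) fun x W hx hW => ?_⟩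
  obtain ⟨V, a, -, -, hxa, hsub, hc, ho⟩ := exists_affine_etale_nhd hX hW hx
  exact ⟨_, ⟨ho, hc⟩, hxa, hsub⟩

variable [QuasiSeparatedSpace ↥S]

/-- Affine charts pull compact opens back to compact opens. -/
theorem isCompact_preimage_chart (hX : IsAlgSpace X) (hqs : IsQuasiSeparatedSp X) {U : Over S} [IsAffine U.left]
    (a : (yon S).obj U ⟶ X) {O : Set (Points X)} (hO : IsOpen O) (hc : IsCompact O) :
    IsCompact (Points.ofPt a ⁻¹' O) := by
  classical
  have hloc : ∀ x : O, ∃ (V : Over S) (b : (yon S).obj V ⟶ X), IsAffine V.left ∧ RepWith @Etale b ∧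
      x.1 ∈ Set.range (Points.ofPt b) ∧ Set.range (Points.ofPt b) ⊆ O ∧ IsOpen (Set.range (Points.ofPt b)) :=
    fun x => by
      obtain ⟨V, b, h1, h2, h3, h4, -, h6⟩ := exists_affine_etale_nhd hX hO x.2
      exact ⟨V, b, h1, h2, h3, h4, h6⟩
  choose V b hV hbe hxb hbO hbo using hloc
  obtain ⟨s, hs⟩ := hc.elim_finite_subcover (fun x => Set.range (Points.ofPt (b x))) hbo
    fun x hx => Set.mem_iUnion.2 ⟨⟨x, hx⟩, hxb ⟨x, hx⟩⟩
  have e : Points.ofPt a ⁻¹' O = ⋃ x ∈ s, Points.ofPt a ⁻¹' Set.range (Points.ofPt (b x)) := by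
    rw [← Set.preimage_iUnion₂]
    exact congrArg _ (Set.Subset.antisymm hs (Set.iUnion₂_subset fun x _ => hbO x))
  rw [e]
  refine s.finite_toSet.isCompact_biUnion fun x _ => ?_
  haveI := hV x
  obtain ⟨P, p, q, sq⟩ := exists_isPullback_of_representable (hbe x).1 a
  obtain ⟨p, rfl⟩ := (yon S).map_surjective p
  haveI : QuasiCompact q.left := (repWith_quasiCompact_chart hX hqs (b x)).2 _ _ _ sq
  haveI : CompactSpace ↥P.left := QuasiCompact.compactSpace_of_compactSpace q.left
  have e2 : Points.ofPt a ⁻¹' Set.range (Points.ofPt (b x)) = Set.range q.left := by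
    ext u
    constructor
    · rintro ⟨v, hv⟩
      rw [Points.ofPt_eq_map_ofScheme, Points.ofPt_eq_map_ofScheme] at hv
      obtain ⟨r, -, hr⟩ := exists_of_isPullback sq hv
      obtain ⟨r', rfl⟩ := (Points.schemeHomeo P).surjective r
      rw [Points.map_yon_map_apply] at hr
      exact ⟨r', (Points.schemeHomeo U).injective hr⟩
    · rintro ⟨r, rfl⟩
      exact ⟨p.left r, by rw [← ofPt_map_comp, ← ofPt_map_comp, sq.w]⟩
  rw [e2]
  exact isCompact_range q.left.continuous

theorem quasiSeparatedSpace_points (hX : IsAlgSpace X) (hqs : IsQuasiSeparatedSp X) :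
    QuasiSeparatedSpace (Points X) := by
  classical
  refine ⟨fun O O' hO hc hO' hc' => ?_⟩
  have hloc : ∀ x : O, ∃ (V : Over S) (b : (yon S).obj V ⟶ X), IsAffine V.left ∧
      x.1 ∈ Set.range (Points.ofPt b) ∧ Set.range (Points.ofPt b) ⊆ O ∧ IsOpen (Set.range (Points.ofPt b)) :=
    fun x => by
      obtain ⟨V, b, h1, -, h3, h4, -, h6⟩ := exists_affine_etale_nhd hX hO x.2
      exact ⟨V, b, h1, h3, h4, h6⟩
  choose V b hV hxb hbO hbo using hloc
  obtain ⟨s, hs⟩ := hc.elim_finite_subcover (fun x => Set.range (Points.ofPt (b x))) hbo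
    fun x hx => Set.mem_iUnion.2 ⟨⟨x, hx⟩, hxb ⟨x, hx⟩⟩
  have e : O ∩ O' = ⋃ x ∈ s, Points.ofPt (b x) '' (Points.ofPt (b x) ⁻¹' O') := by
    ext y
    simp only [Set.mem_inter_iff, Set.mem_iUnion, Set.mem_image, Set.mem_preimage, exists_prop]
    constructor
    · rintro ⟨hy, hy'⟩
      obtain ⟨x, hx, v, rfl⟩ := Set.mem_iUnion₂.1 (hs hy)
      exact ⟨x, hx, v, hy', rfl⟩
    · rintro ⟨x, -, v, hv, rfl⟩
      exact ⟨hbO x ⟨v, rfl⟩, hv⟩
  rw [e]
  refine s.finite_toSet.isCompact_biUnion fun x _ => ?_
  haveI := hV x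
  exact (isCompact_preimage_chart hX hqs (b x) hO' hc').image (Points.continuous_ofPt _)

/-- The constructible topology of the points is separated. -/
theorem t2_constructible (hX : IsAlgSpace X) [T0Space (Points X)] :
    @T2Space (Points X) (constructibleTopology (Points X)) := by
  haveI := prespectralSpace_points hX
  refine @T2Space.mk _ (constructibleTopology (Points X)) fun x y hxy => ?_
  obtain ⟨W, hW, hxW⟩ : ∃ W : Set (Points X), IsOpen W ∧ Xor' (x ∈ W) (y ∈ W) :=
    exists_isOpen_xor'_mem hxy
  rcases hxW with ⟨hx, hy⟩ | ⟨hy, hx⟩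
  · obtain ⟨B, ⟨hBo, hBc⟩, hxB, hBW⟩ := PrespectralSpace.isTopologicalBasis.exists_subset_of_mem_open hx hW
    exact ⟨B, Bᶜ, hBc.isOpen_constructibleTopology_of_isOpen hBo,
      IsCompact.isOpen_constructibleTopology_of_isClosed (by rwa [compl_compl]) hBo.isClosed_compl, hxB,
      fun h => hy (hBW h), disjoint_compl_right⟩
  · obtain ⟨B, ⟨hBo, hBc⟩, hyB, hBW⟩ := PrespectralSpace.isTopologicalBasis.exists_subset_of_mem_open hy hW
    exact ⟨Bᶜ, B, IsCompact.isOpen_constructibleTopology_of_isClosed (by rwa [compl_compl]) hBo.isClosed_compl,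
      hBc.isOpen_constructibleTopology_of_isOpen hBo, fun h => hx (hBW h), hyB, disjoint_compl_left⟩

omit [QuasiSeparatedSpace ↥S] in
/-- Constructible sets are open in the constructible topology. -/
theorem isOpen_constructibleTopology_of_isConstructible {Y : Type*} [TopologicalSpace Y] [CompactSpace Y]
    {s : Set Y} (hs : IsConstructible s) :
    IsOpen[constructibleTopology Y] s ∧ IsOpen[constructibleTopology Y] sᶜ := by
  induction hs using IsConstructible.empty_union_induction with
  | open_retrocompact U hUopen hUcomp =>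
    exact ⟨hUcomp.isCompact.isOpen_constructibleTopology_of_isOpen hUopen,
      IsCompact.isOpen_constructibleTopology_of_isClosed (by rw [compl_compl]; exact hUcomp.isCompact)
        hUopen.isClosed_compl⟩
  | union s hs t ht hs' ht' =>
    refine ⟨@IsOpen.union _ s t (constructibleTopology Y) hs'.1 ht'.1, ?_⟩
    rw [Set.compl_union]
    exact @IsOpen.inter _ (constructibleTopology Y) sᶜ tᶜ hs'.2 ht'.2
  | compl s hs hs' => exact ⟨hs'.2, by rw [compl_compl]; exact hs'.1⟩

omit [QuasiSeparatedSpace ↥S] in
/-- A compact open set of the constructible topology is constructible. -/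
theorem isConstructible_of_patch {Y : Type*} [TopologicalSpace Y] [QuasiSeparatedSpace Y] [PrespectralSpace Y]
    {E : Set Y} (ho : IsOpen[constructibleTopology Y] E) (hc : @IsCompact Y (constructibleTopology Y) E) :
    IsConstructible E := by
  letI τ : TopologicalSpace Y := ‹TopologicalSpace Y›
  have hsub : ∀ t ∈ constructibleTopologySubbasis Y, @IsConstructible Y τ t := by
    rintro t (⟨h1, h2⟩ | ⟨h1, h2⟩)
    · exact h2.isConstructible h1
    · exact (h2.isConstructible h1.isOpen_compl).of_compl
  have hb := @isTopologicalBasis_of_subbasis Y (constructibleTopology Y) _ rfl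
  have hE := @IsTopologicalBasis.exists_subset_of_mem_open Y (constructibleTopology Y) _ hb
  choose f hf hxf hfE using fun x : E => hE x.2 ho
  obtain ⟨s, hs⟩ := @IsCompact.elim_finite_subcover Y (constructibleTopology Y) E _ hc f
    (fun x => @IsTopologicalBasis.isOpen Y (constructibleTopology Y) _ _ hb (hf x))
    fun x hx => Set.mem_iUnion.2 ⟨⟨x, hx⟩, hxf ⟨x, hx⟩⟩
  have e : E = ⋃ x ∈ s, f x := Set.Subset.antisymm hs (Set.iUnion₂_subset fun x _ => hfE x)
  rw [e]
  refine IsConstructible.biUnion s.finite_toSet fun x _ => ?_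
  obtain ⟨F, ⟨hFfin, hFsub⟩, hFe⟩ := hf x
  rw [← hFe]
  exact IsConstructible.sInter hFfin fun t ht => hsub t (hFsub ht)

/-- Local constructibility of a subset of the points can be tested on etale charts. -/
theorem isLocallyConstructible_iff_charts (hX : IsAlgSpace X) (hqs : IsQuasiSeparatedSp X) (E : Set (Points X)) :
    (∀ (U : Over S) (a : (yon S).obj U ⟶ X), RepWith @Etale a → IsLocallyConstructible (Points.ofPt a ⁻¹' E)) ↔
      IsLocallyConstructible E := by
  haveI := prespectralSpace_points hX
  haveI := quasiSeparatedSpace_points hX hqs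
  constructor
  · intro h x
    haveI := t0Space_of_isDecent hX (isDecent_of_isQuasiSeparatedSp hX hqs)
    obtain ⟨V, a, hV, hae, hxa, -, hWc, hWo⟩ := exists_affine_etale_nhd hX isOpen_univ (Set.mem_univ x)
    haveI := hV
    refine ⟨_, hWo.mem_nhds hxa, hWo, ?_⟩
    let W := Set.range (Points.ofPt a)
    have hc : IsConstructible (W ∩ E) := by
      -- the constructible topologies
      haveI : CompactSpace ↥V.left := inferInstance
      have hcont : @Continuous _ _ (constructibleTopology ↥V.left) (constructibleTopology (Points X)) (Points.ofPt a) := by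
        refine continuous_generateFrom_iff.2 ?_
        rintro t (⟨h1, h2⟩ | ⟨h1, h2⟩)
        · exact (isCompact_preimage_chart hX hqs a h1 h2).isOpen_constructibleTopology_of_isOpen
            (h1.preimage (Points.continuous_ofPt a))
        · exact IsCompact.isOpen_constructibleTopology_of_isClosed
            (by rw [← Set.preimage_compl]; exact isCompact_preimage_chart hX hqs a h1.isOpen_compl h2)
            (h1.preimage (Points.continuous_ofPt a))
      haveI hcs : @CompactSpace ↥V.left (constructibleTopology ↥V.left) :=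
        @Function.Surjective.compactSpace _ _ _ (constructibleTopology ↥V.left) WithTopology.ofTopology
          (WithTopology.continuous_ofTopology _) inferInstance (fun v => ⟨WithTopology.toTopology _ v, rfl⟩)
      let G := Points.ofPt a ⁻¹' E
      obtain ⟨hG₁, hG₂⟩ := isOpen_constructibleTopology_of_isConstructible
        ((h V a hae).isConstructible_of_subset_of_isCompact (Set.subset_univ _) isCompact_univ)
      haveI := t2_constructible hX
      have hclosed : ∀ H : Set ↥V.left, IsOpen[(constructibleTopology ↥V.left)] Hᶜ → @IsCompact _ (constructibleTopology (Points X)) (Points.ofPt a '' H) := fun H hH =>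
        @IsCompact.image _ _ (constructibleTopology ↥V.left) (constructibleTopology (Points X)) _ _
          (@IsClosed.isCompact _ (constructibleTopology ↥V.left) _ hcs (@isOpen_compl_iff _ H (constructibleTopology ↥V.left) |>.1 hH)) hcont
      have hWE : W ∩ E = Points.ofPt a '' G := by
        rw [Set.image_preimage_eq_range_inter]
      have hcompl : Points.ofPt a '' G = W ∩ (Points.ofPt a '' Gᶜ)ᶜ := by
        rw [← Set.preimage_compl, Set.image_preimage_eq_range_inter, Set.image_preimage_eq_range_inter]
        ext y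
        simp only [Set.mem_inter_iff, Set.mem_compl_iff, not_and, not_not, W]
        tauto
      rw [hWE]
      refine isConstructible_of_patch ?_ (hclosed G hG₂)
      rw [hcompl]
      refine @IsOpen.inter _ (constructibleTopology (Points X)) _ _ (hWc.isOpen_constructibleTopology_of_isOpen hWo) ?_
      exact @IsClosed.isOpen_compl _ (constructibleTopology (Points X)) _ (@IsCompact.isClosed _ (constructibleTopology (Points X)) inferInstance _
        (hclosed Gᶜ (by rw [compl_compl]; exact hG₁)))
    have e : W ↓∩ E = W ↓∩ (W ∩ E) := by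
      ext y
      simp
    rw [e]
    exact hc.preimage_of_isOpenEmbedding hWo.isOpenEmbedding_subtypeVal
  · intro h U a ha u
    obtain ⟨W, hWn, hWo, hWc⟩ := h (Points.ofPt a u)
    obtain ⟨V, i, v, hV, hi, rfl, hve, hsub⟩ := exists_affine_piece ha hWo (mem_of_mem_nhds hWn)
    haveI := hV
    haveI := hi
    let q : ↥V.left → W := fun v => ⟨Points.ofPt ((yon S).map i ≫ a) v, hsub ⟨v, rfl⟩⟩
    have hq : IsConstructible (q ⁻¹' (W ↓∩ E)) := by
      refine hWc.preimage ((Points.continuous_ofPt _).subtype_mk _) fun s hso hsr => ?_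
      refine IsCompact.isRetrocompact ?_ (hso.preimage ((Points.continuous_ofPt _).subtype_mk _))
      have ho := (isOpenMap_ofPt_of_repWith (fun _ _ g (_ : Etale g) => g.isOpenMap) hve).isOpen_range
      let O : Set W := Subtype.val ⁻¹' Set.range (Points.ofPt ((yon S).map i ≫ a))
      have hOc : IsCompact O := hWo.isOpenEmbedding_subtypeVal.isInducing.isCompact_preimage' 
        (isCompact_range (Points.continuous_ofPt _)) (by rw [Subtype.range_coe]; exact hsub)
      have h1 : IsCompact (s ∩ O) := hsr hOc (ho.preimage continuous_subtype_val)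
      have h2 := isCompact_preimage_chart hX hqs ((yon S).map i ≫ a)
        (hWo.isOpenMap_subtype_val _ (hso.inter (ho.preimage continuous_subtype_val)))
        (h1.image continuous_subtype_val)
      convert h2 using 1
      ext w
      constructor
      · intro hw
        exact ⟨q w, ⟨hw, ⟨w, rfl⟩⟩, rfl⟩
      · rintro ⟨z, ⟨hz, -⟩, hzw⟩
        rwa [Set.mem_preimage, show q w = z from Subtype.ext hzw.symm]
    have he : q ⁻¹' (W ↓∩ E) = i.left ⁻¹' (Points.ofPt a ⁻¹' E) := by
      ext w
      show Points.ofPt ((yon S).map i ≫ a) w ∈ E ↔ _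
      rw [ofPt_map_comp]
      rfl
    rw [he] at hq
    let emb := i.left.isOpenEmbedding
    refine ⟨Set.range i.left, emb.isOpen_range.mem_nhds ⟨v, rfl⟩, emb.isOpen_range, ?_⟩
    let e := emb.isEmbedding.toHomeomorph
    have : Set.range i.left ↓∩ (Points.ofPt a ⁻¹' E) = e.symm ⁻¹' (i.left ⁻¹' (Points.ofPt a ⁻¹' E)) := by
      ext ⟨y, w, rfl⟩
      simp [e]
    rw [this]
    exact hq.preimage_of_isOpenEmbedding e.symm.isOpenEmbedding

end GrothLib.AlgSp
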