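import Groth.Agent.Lib.AlgSp.Strata
import Groth.Agent.Lib.AlgSp.OpenSub
import Groth.Agent.Lib.AlgSp.PointsSpectral
import Groth.Agent.Lib.AlgSp.HenselLift
import Groth.Agent.Lib.AlgSp.Bootstrap
import Groth.Agent.Lib.AlgSp.RedInduced
import Groth.Prelude.Def_AlgSpEt

/-!
# Chains of elementary distinguished squares

* `IsElemStep`: an affine etale chart along which points of the difference of two opens lift uniquely.
* `elemReach_univ`: a quasi-compact quasi-separated space is reached from the empty open by such steps.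
* `elemReach_union`: steps are preserved by adding an open.
* `exists_elemDistSq_of_step`: a step gives an elementary distinguished square.
-/

universe u

open CategoryTheory CategoryTheory.Limits AlgebraicGeometry

namespace GrothLib.AlgSp

open _root_.AlgSp

set_option backward.isDefEq.respectTransparency false

variable {S : Scheme.{u}} {X : Sp S}

/-- An affine etale chart along which the points of `O' \ O` lift uniquely. -/
def IsElemStep (O O' : Set (Points X)) (V : Over S) (f : (yon S).obj V ⟶ X) : Prop :=
  IsAffine V.left ∧ RepWith @Etale f ∧ O' = O ∪ Set.range (Points.ofPt f) ∧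
  ∀ (T : Over S) (γ : (yon S).obj T ⟶ X), (∀ t, Points.ofPt γ t ∈ O' ∧ Points.ofPt γ t ∉ O) →
    ∃! l : T ⟶ V, (yon S).map l ≫ f = γ

/-- One open is obtained from another by an elementary step. -/
def ElemStep (O O' : Set (Points X)) : Prop :=
  IsOpen O ∧ ∃ (V : Over S) (f : (yon S).obj V ⟶ X), IsElemStep O O' V f

theorem ElemStep.isOpen {O O' : Set (Points X)} (h : ElemStep O O') : IsOpen O' := by
  obtain ⟨hO, V, f, -, he, rfl, -⟩ := h
  exact hO.union (isOpenMap_ofPt_of_etale he).isOpen_range

theorem isOpen_of_reach {O O' : Set (Points X)} (h : Relation.ReflTransGen ElemStep O O') (hO : IsOpen O) :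
    IsOpen O' := by
  induction h with
  | refl => exact hO
  | tail _ h _ => exact h.isOpen

theorem isCompact_of_reach {O O' : Set (Points X)} (h : Relation.ReflTransGen ElemStep O O') (hO : IsCompact O) :
    IsCompact O' := by
  induction h with
  | refl => exact hO
  | tail _ h ih =>
    obtain ⟨-, V, f, hV, -, rfl, -⟩ := h
    haveI := hV
    exact ih.union (isCompact_range (Points.continuous_ofPt f))

/-- Steps are preserved by adding an open. -/
theorem elemReach_union {O O' : Set (Points X)} (h : Relation.ReflTransGen ElemStep O O') {W : Set (Points X)}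
    (hW : IsOpen W) : Relation.ReflTransGen ElemStep (O ∪ W) (O' ∪ W) := by
  induction h with
  | refl => exact Relation.ReflTransGen.refl
  | @tail A B _ h ih =>
    obtain ⟨hA, V, f, hV, he, rfl, hl⟩ := h
    refine ih.tail ⟨hA.union hW, V, f, hV, he, Set.union_right_comm _ _ _, fun T γ hγ => hl T γ fun t => ?_⟩
    refine ⟨(hγ t).1.resolve_right fun h => (hγ t).2 (Or.inr h), fun h => (hγ t).2 (Or.inl h)⟩

/-- An open is obtained from itself by the step of the empty chart. -/
theorem elemStep_refl (hX : IsAlgSpace X) {O : Set (Points X)} (hO : IsOpen O) : ElemStep O O := by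
  obtain ⟨U, a, ha, -⟩ := hX.atlas
  let V : Over S := Over.mk (⊥ : S.Opens).ι
  haveI : IsEmpty ↥V.left := ⟨fun v => v.2⟩
  let g : V ⟶ U := Over.homMk ((isInitialOfIsEmpty (X := V.left)).to U.left)
    ((isInitialOfIsEmpty (X := V.left)).hom_ext _ _)
  haveI : IsOpenImmersion g.left := inferInstance
  refine ⟨hO, V, (yon S).map g ≫ a, isAffineOpen_bot S,
    repWith_comp ((repWith_yon_map_iff _ g).2 (inferInstanceAs (Etale g.left))) ha, ?_, fun T γ hγ => ?_⟩
  · rw [Set.range_eq_empty (Points.ofPt _), Set.union_empty]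
  · haveI : IsEmpty ↥T.left := ⟨fun t => (hγ t).2 (hγ t).1⟩
    obtain ⟨l, hl⟩ := exists_map_of_isEmpty ((yon S).map g ≫ a) γ
    exact ⟨l, hl, fun l' _ => Over.OverMorphism.ext ((isInitialOfIsEmpty (X := T.left)).hom_ext _ _)⟩

/-- A quasi-compact quasi-separated space is reached from the empty open by elementary steps. -/
theorem elemReach_univ [QuasiSeparatedSpace ↥S] (hX : IsAlgSpace X) (hqc : IsQuasiCompactSp X)
    (hqs : IsQuasiSeparatedSp X) : Relation.ReflTransGen (ElemStep (X := X)) ∅ Set.univ := by
  classical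
  obtain ⟨U, a, hU, ha, has⟩ := exists_affine_surjective_chart hX hqc
  haveI := hU
  have hq := repWith_quasiCompact_chart hX hqs a
  obtain ⟨n, hn⟩ := exists_degGE_eq_empty hX ha hq
  have main : ∀ j, j ≤ n → Relation.ReflTransGen (ElemStep (X := X)) ∅ (degGE a (n + 1 - j)) := by
    intro j
    induction j with
    | zero => intro _; rw [Nat.sub_zero, hn]
    | succ j ih =>
      intro hj
      obtain ⟨k, hk⟩ : ∃ k, n + 1 - j = k + 2 := ⟨n + 1 - j - 2, by omega⟩
      have hk' : n + 1 - (j + 1) = k + 1 := by omega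
      have ih' := ih (by omega)
      rw [hk] at ih'
      rw [hk']
      obtain ⟨M, b, hbe, -, -, hcM, hr, hlift⟩ := exists_symChart hX ha k
      haveI := hcM hq
      let 𝒰 := M.left.affineCover.finiteSubcover
      have huniq : ∀ (m v : ↥M.left), Points.ofPt b m = Points.ofPt b v → Points.ofPt b m ∉ degGE a (k + 2) →
          m = v := fun m v e hm => by
        rw [Points.ofPt_eq_map_ofScheme b m, Points.ofPt_eq_map_ofScheme b v] at e
        obtain ⟨Ω, _, w, x, y, hxy, hx, hy⟩ := exists_common_field e
        obtain ⟨x, rfl⟩ := (yon S).map_surjective x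
        obtain ⟨y, rfl⟩ := (yon S).map_surjective y
        have hpts : ∀ {z : Over.mk w ⟶ M} {q : ↥M.left},
            Points.ofPt ((yon S).map z) (IsLocalRing.closedPoint Ω) = Points.schemeHomeo M q →
            z.left (IsLocalRing.closedPoint Ω) = q := fun {z q} hz => by
          rw [Points.ofPt_eq_map_ofScheme] at hz
          exact (Points.schemeHomeo M).injective ((Points.map_yon_map_apply z _).symm.trans hz)
        have e₁ := hpts hx
        have e₂ := hpts hy
        obtain ⟨l, -, hu⟩ := hlift (Over.mk w) ((yon S).map x ≫ b) fun t => by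
          rw [Subsingleton.elim (α := PrimeSpectrum Ω) t (IsLocalRing.closedPoint Ω), ofPt_map_comp, e₁]
          exact ⟨hr.subset (Set.mem_range_self m), hm⟩
        have : x = y := (hu x rfl).trans (hu y hxy.symm).symm
        rw [← e₁, this, e₂]
      let V : 𝒰.I₀ → Over S := fun i => Over.mk (𝒰.f i ≫ M.hom)
      let f : ∀ i, (yon S).obj (V i) ⟶ X := fun i => (yon S).map (Over.homMk (𝒰.f i) rfl : V i ⟶ M) ≫ b
      have hfe : ∀ i, RepWith @Etale (f i) := fun i => repWith_comp
        ((repWith_yon_map_iff _ _).2 (inferInstanceAs (Etale (𝒰.f i)))) hbe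
      haveI : Fintype 𝒰.I₀ := Fintype.ofFinite _
      have hs : ∀ s : Finset 𝒰.I₀,
          Relation.ReflTransGen (ElemStep (X := X)) ∅ (degGE a (k + 2) ∪ ⋃ i ∈ s, Set.range (Points.ofPt (f i))) := by
        intro s
        induction s using Finset.induction_on with
        | empty => simpa using ih'
        | @insert i s hi ihs =>
          refine ihs.tail ⟨isOpen_of_reach ihs isOpen_empty, V i, f i, inferInstanceAs (IsAffine (𝒰.X i)), hfe i,
            by rw [Finset.set_biUnion_insert, Set.union_assoc, Set.union_comm (Set.range (Points.ofPt (f i)))],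
            fun T γ hγ => ?_⟩
          have hin : ∀ t, Points.ofPt γ t ∈ Set.range (Points.ofPt (f i)) := fun t => by
            have h := (hγ t).1
            rw [Finset.set_biUnion_insert] at h
            rcases h with h | h | h
            · exact absurd (Or.inl h) (hγ t).2
            · exact h
            · exact absurd (Or.inr h) (hγ t).2
          have hstr : ∀ t, Points.ofPt γ t ∈ degGE a (k + 1) ∧ Points.ofPt γ t ∉ degGE a (k + 2) := fun t => by
            obtain ⟨q, hq'⟩ := hin t
            refine ⟨hr.subset ⟨𝒰.f i q, ?_⟩, fun h => (hγ t).2 (Or.inl h)⟩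
            rw [← hq']
            exact (ofPt_map_comp (Over.homMk (𝒰.f i) rfl : V i ⟶ M) b q).symm
          obtain ⟨l, hl, hu⟩ := hlift T γ hstr
          have hlr : Set.range l.left ⊆ Set.range (𝒰.f i) := by
            rintro _ ⟨t, rfl⟩
            obtain ⟨q, hq'⟩ := hin t
            refine ⟨q, (huniq _ _ ?_ ?_).symm⟩
            · rw [← ofPt_map_comp, hl, ← hq']
              exact ofPt_map_comp (Over.homMk (𝒰.f i) rfl : V i ⟶ M) b q
            · rw [← ofPt_map_comp, hl]
              exact (hstr t).2
          let l' : T ⟶ V i := Over.homMk (IsOpenImmersion.lift (𝒰.f i) l.left hlr) (by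
            change _ ≫ 𝒰.f i ≫ M.hom = _
            rw [IsOpenImmersion.lift_fac_assoc, Over.w])
          have hl' : l' ≫ (Over.homMk (𝒰.f i) rfl : V i ⟶ M) = l :=
            Over.OverMorphism.ext (IsOpenImmersion.lift_fac _ _ _)
          refine ⟨l', (Category.assoc _ _ _).symm.trans (by rw [← Functor.map_comp, hl']; exact hl), fun l'' hl'' => ?_⟩
          have := hu (l'' ≫ (Over.homMk (𝒰.f i) rfl : V i ⟶ M)) (by
            show (yon S).map (l'' ≫ (Over.homMk (𝒰.f i) rfl : V i ⟶ M)) ≫ b = γ
            rw [Functor.map_comp, Category.assoc]; exact hl'')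
          rw [← hl'] at this
          exact Over.OverMorphism.ext ((cancel_mono (𝒰.f i)).1 (congrArg (fun z => z.left) this))
      have := hs Finset.univ
      convert this using 1
      refine Set.Subset.antisymm (fun x hx => ?_) (Set.union_subset (degGE_succ_subset _) ?_)
      · by_cases h : x ∈ degGE a (k + 2)
        · exact Or.inl h
        · obtain ⟨m, rfl⟩ := hr.ge hx
          obtain ⟨i, q, hq'⟩ := 𝒰.exists_eq m
          refine Or.inr (Set.mem_iUnion₂.2 ⟨i, Finset.mem_univ i, q, ?_⟩)
          rw [ofPt_map_comp]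
          exact congrArg _ hq'
      · refine Set.iUnion₂_subset fun i _ => ?_
        rintro _ ⟨q, rfl⟩
        exact hr.subset ⟨𝒰.f i q, (ofPt_map_comp (Over.homMk (𝒰.f i) rfl : V i ⟶ M) b q).symm⟩
  have h := main n le_rfl
  rw [Nat.add_sub_cancel_left, degGE_one, (surjective_ofPt_of_repWith has).range_eq] at h
  exact h

/-- A step gives an elementary distinguished square. -/
theorem exists_elemDistSq_of_step {O O' : Set (Points X)} (hO : IsOpen O) {V : Over S} {f : (yon S).obj V ⟶ X}
    (h : IsElemStep O O' V f) {U₁ U₂ : Sp S} (hU₂ : IsAlgSpace U₂) {k : U₁ ⟶ U₂} {j : U₂ ⟶ X}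
    (hk : RepWith @IsOpenImmersion k) (hj : RepWith @IsOpenImmersion j)
    (hr₂ : Set.range (Points.map j) = O') (hr₁ : Set.range (Points.map (k ≫ j)) = O) :
    ∃ f' : (yon S).obj V ⟶ U₂, f' ≫ j = f ∧ RepWith @Etale f' ∧ IsElemDistSq k f' := by
  haveI := mono_of_openImmersion hj
  obtain ⟨-, he, hO', hl⟩ := h
  obtain ⟨f', hf'⟩ := (exists_factor_iff hj f).2 (by
    rintro _ ⟨z, rfl⟩
    obtain ⟨v, rfl⟩ := (Points.schemeHomeo V).surjective z
    rw [hr₂, hO']
    exact Or.inr ⟨v, Points.ofPt_eq_map_ofScheme _ _⟩)
  have sqf : IsPullback (𝟙 _) f' f j :=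
    isPullback_of_yon ((Category.id_comp _).trans hf'.symm) fun T x y hxy => ⟨x, ⟨Category.comp_id _,
      (cancel_mono j).1 (by rw [Category.assoc, hf', hxy])⟩, fun c hc => (Category.comp_id c).symm.trans hc.1⟩
  have hfe : RepWith @Etale f' := repWith_of_isPullback sqf he
  have hclosed : IsClosed (Set.range (Points.map k))ᶜ := (isOpen_range_openImmersion hk).isClosed_compl
  obtain ⟨Z, i, -, hi⟩ := exists_isRedInduced_sp hU₂ hclosed
  refine ⟨f', hf', hfe, hk, isEtaleMor_of_repWith _ hfe, Z, pullback i f', i, pullback.fst _ _, pullback.snd _ _,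
    hi, IsPullback.of_hasPullback _ _, ?_⟩
  have sq := IsPullback.of_hasPullback i f'
  refine isIso_of_yon fun T β => ?_
  obtain ⟨l, hl', hu⟩ := hl T (β ≫ i ≫ j) fun t => by
    constructor
    · rw [← hr₂, ← Category.assoc, ← Points.map_ofPt]
      exact Set.mem_range_self _
    · intro hmem
      rw [← hr₁, ← Category.assoc, ← Points.map_ofPt] at hmem
      obtain ⟨y, hy⟩ := hmem
      rw [Points.map_comp] at hy
      have hmem' : Points.map k y ∈ (Set.range (Points.map k))ᶜ := by
        rw [injective_map_of_mono j hy, ← hi.2.1, ← Points.map_ofPt]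
        exact Set.mem_range_self _
      exact hmem' (Set.mem_range_self y)
  have hw : β ≫ i = (yon S).map l ≫ f' := by
    rw [← cancel_mono j, Category.assoc, Category.assoc, hf', hl']
  refine ⟨sq.lift β ((yon S).map l) hw, sq.lift_fst _ _ _, fun c hc => sq.hom_ext ?_ ?_⟩
  · rw [sq.lift_fst]; exact hc
  · rw [sq.lift_snd]
    obtain ⟨l₁, hl₁⟩ := (yon S).map_surjective (c ≫ pullback.snd i f')
    rw [← hl₁, hu l₁ ?_]
    change (yon S).map l₁ ≫ f = β ≫ i ≫ j
    rw [hl₁, ← hf', Category.assoc, ← reassoc_of% sq.w, ← Category.assoc, hc]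

end GrothLib.AlgSp

namespace GrothLib.AlgSp

open _root_.AlgSp

set_option backward.isDefEq.respectTransparency false

variable {S : Scheme.{u}} {X : Sp S}

/-- A factorisation of open immersions is an open immersion. -/
theorem repWith_openImmersion_of_comp {U₁ U₂ : Sp S} {k : U₁ ⟶ U₂} {j : U₂ ⟶ X} {l : U₁ ⟶ X}
    (hj : RepWith @IsOpenImmersion j) (hl : RepWith @IsOpenImmersion l) (h : k ≫ j = l) :
    RepWith @IsOpenImmersion k := by
  haveI := mono_of_openImmersion hj
  exact repWith_of_isPullback (isPullback_of_yon (fst := 𝟙 U₁) (snd := k) (f := l) (g := j)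
    ((Category.id_comp _).trans h.symm) fun T x y hxy => ⟨x, ⟨Category.comp_id _,
      (cancel_mono j).1 (by rw [Category.assoc, h, hxy])⟩, fun c hc => (Category.comp_id c).symm.trans hc.1⟩) hl

/-- An open subspace with compact set of points is quasi-compact. -/
theorem isQuasiCompactSp_of_openImmersion {U : Sp S} (hU : IsAlgSpace U) {j : U ⟶ X}
    (hj : RepWith @IsOpenImmersion j) (hc : IsCompact (Set.range (Points.map j))) : IsQuasiCompactSp U := by
  haveI := mono_of_openImmersion hj
  have he : Topology.IsOpenEmbedding (Points.map j) :=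
    .of_continuous_injective_isOpenMap (Points.continuous_map _) (injective_map_of_mono j)
      (isOpenMap_map_of_repWith (fun _ _ h (hh : IsOpenImmersion h) => h.isOpenEmbedding.isOpenMap) hj)
  haveI : CompactSpace (Points U) := ⟨he.isInducing.isCompact_iff.2 (by rwa [Set.image_univ])⟩
  exact isQuasiCompactSp_of_compactSpace_points hU

end GrothLib.AlgSp
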