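import Groth.Agent.Lib.AlgSp.NormZMT
import Groth.Agent.Lib.AlgSp.OpenSub
import Groth.Agent.Lib.AlgSp.LqfScheme
import Groth.Agent.Lib.AlgSp.UnramMono

/-!
# Splitting off a finite part etale locally on the base

* `exists_finite_split`: near a quasi-finite point a separated space over a scheme has, etale locally on the
  base, an open and closed part which is finite.
-/

set_option autoImplicit false
universe u
open CategoryTheory CategoryTheory.Limits AlgebraicGeometry
set_option backward.isDefEq.respectTransparency false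

namespace GrothLib.AlgSp

open _root_.AlgSp

variable {S : Scheme.{u}}

/-- An etale map into a space over a scheme. -/
theorem repWith_etale_lift {X P : Sp S} (hX : IsAlgSpace X) (hP : IsAlgSpace P) {U : Over S} {a : (yon S).obj U ⟶ X}
    (ha : RepWith @Etale a) (π : P ⟶ X) (hπ : RepWith @Etale π) (a' : (yon S).obj U ⟶ P) (h : a' ≫ π = a) :
    RepWith @Etale a' := by
  have hl : LocP @Etale a' := by
    refine EtLocal.locP_cancel EtLocal.etale
      (fun A B C f g h1 h2 => by haveI := h1; haveI := h2; exact Etale.of_comp f g) (IsAlgSpace.yon_obj U) hP hX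
      (g := π) ?_ (EtLocal.locP_of_repWith EtLocal.etale hX hπ)
    rw [h]
    exact EtLocal.locP_of_repWith EtLocal.etale hX ha
  simpa only [Category.id_comp] using isEtaleMor_of_locP hP hl (𝟙 _) (repWith_id _ U)

/-- A monomorphic finite open immersion is a closed immersion. -/
theorem repWith_clopen_of_finite_comp {P : Sp S} {A V : Over S} {k : (yon S).obj A ⟶ P} {q : P ⟶ (yon S).obj V}
    (hko : RepWith @IsOpenImmersion k) (hq : IsSeparatedMor q) (g : A ⟶ V) (hkq : k ≫ q = (yon S).map g)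
    (hg : IsFinite g.left) : RepWith @IsClosedImmersion k := by
  let s : (yon S).obj A ⟶ pullback ((yon S).map g) q :=
    pullback.lift (𝟙 _) k (by rw [Category.id_comp, hkq])
  have hs : RepWith @IsClosedImmersion s := repWith_section (pullback.fst _ _) s (pullback.lift_fst _ _ _)
    (repWith_of_isPullback (isPullback_diagonal_of_isPullback (IsPullback.of_hasPullback ((yon S).map g) q).flip) hq)
  have hsnd : RepWith @IsFinite (pullback.snd ((yon S).map g) q) :=
    repWith_of_isPullback (IsPullback.of_hasPullback _ _) ((repWith_yon_map_iff _ g).2 hg)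
  have hs' : RepWith @IsFinite s := repWith_mono hs fun A B m hm => by
    have : IsClosedImmersion m := hm
    exact inferInstanceAs (IsFinite m)
  have hk : RepWith @IsFinite k := by
    rw [show k = s ≫ pullback.snd _ _ from (pullback.lift_snd _ _ _).symm]
    exact repWith_comp hs' hsnd
  refine repWith_mono (repWith_inf_iff.2 ⟨hk, hko⟩) fun A B m hm => ?_
  have h1 : IsFinite m := hm.1
  have h2 : IsOpenImmersion m := hm.2
  exact (IsClosedImmersion.iff_isProper_and_mono m).2 ⟨inferInstance, inferInstance⟩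

/-- Near a quasi-finite point, etale locally on the base, there is a finite open and closed part. -/
theorem exists_finite_split {P : Sp S} (hP : IsAlgSpace P) {V : Over S} (q : P ⟶ (yon S).obj V)
    (hsep : IsSeparatedMor q) {W : Over S} {a : (yon S).obj W ⟶ P} (ha : RepWith @Etale a) (h : W ⟶ V)
    (hah : a ≫ q = (yon S).map h) (hlqf : LocallyQuasiFinite h.left) (hlft : LocallyOfFiniteType h.left)
    (w : ↥W.left) :
    ∃ (V' A : Over S) (v : V' ⟶ V) (kP : (yon S).obj A ⟶ P) (g : A ⟶ V') (x : ↥A.left),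
      Etale v.left ∧ IsFinite g.left ∧ kP ≫ q = (yon S).map (g ≫ v) ∧ Points.ofPt kP x = Points.ofPt a w ∧
      LocP (@LocallyQuasiFinite ⊓ @LocallyOfFiniteType) (kP ≫ q) ∧ RepWith @Etale kP ∧
      ∀ {P' : Sp S} {c : P' ⟶ P} {q' : P' ⟶ (yon S).obj V'} (_ : IsPullback c q' q ((yon S).map v))
        (k : (yon S).obj A ⟶ P'), k ≫ c = kP → k ≫ q' = (yon S).map g →
        RepWith @IsOpenImmersion k ∧ RepWith @IsClosedImmersion k := by
  -- the open subspace covered by `W`
  let O := Set.range (Points.ofPt a)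
  have hO : IsOpen O := by
    have := isOpenMap_ofPt_of_etale ha _ isOpen_univ
    rwa [Set.image_univ] at this
  have hj : RepWith @IsOpenImmersion (openSubι P O) := repWith_openSubι hO
  haveI := mono_openSubι P O
  have hO' : IsAlgSpace (openSub P O) := isAlgSpace_openSub hP hO
  obtain ⟨a₀, ha₀⟩ := (exists_factor_iff hj a).2 (by
    rw [range_openSubι]
    rintro _ ⟨y, rfl⟩
    obtain ⟨w', rfl⟩ := (Points.schemeEquiv W).surjective y
    exact ⟨w', Points.ofPt_eq_map_ofScheme a w'⟩)
  have hje : RepWith @Etale (openSubι P O) := repWith_mono hj fun A B m hm => by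
    have : IsOpenImmersion m := hm
    exact inferInstanceAs (Etale m)
  have a₀e : RepWith @Etale a₀ := repWith_etale_lift hP hO' ha _ hje a₀ ha₀
  have a₀s : RepWith @Surjective a₀ := repWith_surjective_of_ofPt a₀e.1 fun y => by
    obtain ⟨w', hw'⟩ : Points.map (openSubι P O) y ∈ O := range_openSubι.le ⟨y, rfl⟩
    refine ⟨w', injective_map_of_mono (openSubι P O) ?_⟩
    rw [Points.map_ofPt, ha₀]
    exact hw'
  have hqO : LocP (@LocallyQuasiFinite ⊓ @LocallyOfFiniteType) (openSubι P O ≫ q) :=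
    EtLocal.locP_of_chart (EtLocal.inf EtLocal.lqf EtLocal.lft) a₀e a₀s (repWith_id _ V)
      (h := h) (by rw [Category.comp_id, ← Category.assoc, ha₀, hah]) ⟨hlqf, hlft⟩
  have hsO : IsSeparatedMor (openSubι P O ≫ q) := isSeparatedMor_comp isSeparatedMor_of_mono hsep
  obtain ⟨M, ⟨e⟩⟩ := exists_iso_yon_of_lqf_separated hO' _ hqO hsO
  obtain ⟨g₀, hg₀⟩ := (yon S).map_surjective (e.hom ≫ openSubι P O ≫ q)
  obtain ⟨hq₀, hl₀⟩ : LocallyQuasiFinite g₀.left ∧ LocallyOfFiniteType g₀.left :=
    hqO e.hom (𝟙 _) g₀ (repWith_iso _) (repWith_id _ V) (by rw [hg₀, Category.comp_id])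
  haveI : IsSeparated g₀.left := (repWith_yon_map_iff _ g₀).1 ((isSeparatedMor_iff_repWith (representable_yon_map g₀)).1
    (repWith_of_isPullback (isPullback_diagonal_of_isPullback
      (IsPullback.of_horiz_isIso ⟨by rw [hg₀, Category.comp_id]⟩ :
        IsPullback e.hom ((yon S).map g₀) (openSubι P O ≫ q) (𝟙 _))) hsO))
  obtain ⟨m, hm⟩ : ∃ m : ↥M.left, Points.ofPt (e.hom ≫ openSubι P O) m = Points.ofPt a w := by
    obtain ⟨m, hm⟩ := (Points.schemeEquiv M).surjective (Points.map e.inv (Points.ofPt a₀ w))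
    refine ⟨m, ?_⟩
    rw [Points.ofPt_eq_map_ofScheme, show Points.ofScheme M m = _ from hm, ← Points.map_comp, e.inv_hom_id_assoc,
      Points.map_ofPt, ha₀]
  obtain ⟨V₁, v₁, hv₁, -, A₁, A₂, x, -, hfin, hx⟩ :=
    exists_etale_isCompl_of_quasiFiniteAt g₀.left (x := m) rfl (g₀.left.quasiFiniteAt m)
  let V' : Over S := Over.mk (v₁ ≫ V.hom)
  let v : V' ⟶ V := Over.homMk v₁ rfl
  let Q : Over S := Over.mk (pullback.snd g₀.left v₁ ≫ V'.hom)
  let p₁ : Q ⟶ M := Over.homMk (pullback.fst g₀.left v₁) (by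
    show pullback.fst g₀.left v₁ ≫ M.hom = pullback.snd g₀.left v₁ ≫ v₁ ≫ V.hom
    rw [← Over.w g₀, ← Category.assoc, pullback.condition, Category.assoc])
  let p₂ : Q ⟶ V' := Over.homMk (pullback.snd g₀.left v₁) rfl
  have sqQ : IsPullback p₁ p₂ g₀ v := isPullback_of_left (IsPullback.of_hasPullback g₀.left v₁)
  let A : Over S := Over.mk (A₁.ι ≫ Q.hom)
  let iA : A ⟶ Q := Over.homMk A₁.ι rfl
  have hve : RepWith @Etale ((yon S).map v) := (repWith_yon_map_iff _ v).2 hv₁
  have hkP : ((yon S).map (iA ≫ p₁) ≫ e.hom ≫ openSubι P O) ≫ q = (yon S).map ((iA ≫ p₂) ≫ v) := by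
    rw [Category.assoc, Category.assoc, ← hg₀, ← Functor.map_comp, Category.assoc, sqQ.w, ← Category.assoc]
  have hp₁e : Etale (iA ≫ p₁).left := by
    haveI := hv₁
    exact inferInstanceAs (Etale (A₁.ι ≫ pullback.fst g₀.left v₁))
  refine ⟨V', A, v, (yon S).map (iA ≫ p₁) ≫ e.hom ≫ openSubι P O, iA ≫ p₂, x, hv₁, hfin, hkP, ?_, ?_, ?_, ?_⟩
  · rw [ofPt_map_comp, show (iA ≫ p₁).left x = m from hx, hm]
  · rw [hkP]
    refine EtLocal.locP_of_repWith (EtLocal.inf EtLocal.lqf EtLocal.lft) (IsAlgSpace.yon_obj V) ?_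
    refine (repWith_yon_map_iff _ _).2 ?_
    haveI := hv₁
    haveI := hfin
    haveI : LocallyQuasiFinite v₁ := EtLocal.lqf.of_etale v₁ hv₁
    exact ⟨inferInstanceAs (LocallyQuasiFinite ((A₁.ι ≫ pullback.snd g₀.left v₁) ≫ v₁)),
      inferInstanceAs (LocallyOfFiniteType ((A₁.ι ≫ pullback.snd g₀.left v₁) ≫ v₁))⟩
  · exact repWith_comp ((repWith_yon_map_iff _ _).2 hp₁e) (repWith_comp (repWith_iso _) hje)
  intro P' c q' sq k hk₁ hk₂
  have wj : ((yon S).map p₁ ≫ e.hom ≫ openSubι P O) ≫ q = (yon S).map p₂ ≫ (yon S).map v := by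
    rw [Category.assoc, Category.assoc, ← hg₀, ← Functor.map_comp, ← Functor.map_comp, sqQ.w]
  let j := sq.lift _ _ wj
  have sqj : IsPullback ((yon S).map p₁) j (e.hom ≫ openSubι P O) c := by
    refine IsPullback.of_bot ?_ (sq.lift_fst _ _ wj).symm sq
    rw [show j ≫ q' = (yon S).map p₂ from sq.lift_snd _ _ wj, Category.assoc, ← hg₀]
    exact isPullback_yon sqQ
  have hjo : RepWith @IsOpenImmersion j :=
    repWith_of_isPullback sqj (repWith_comp (repWith_iso _) hj)
  have hk : k = (yon S).map iA ≫ j := sq.hom_ext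
    (by rw [hk₁, Category.assoc, sq.lift_fst, Functor.map_comp, Category.assoc])
    (by rw [hk₂, Category.assoc, sq.lift_snd, Functor.map_comp])
  have hko : RepWith @IsOpenImmersion k := by
    rw [hk]
    exact repWith_comp ((repWith_yon_map_iff _ iA).2 (inferInstanceAs (IsOpenImmersion A₁.ι))) hjo
  exact ⟨hko, repWith_clopen_of_finite_comp hko
    (repWith_of_isPullback (isPullback_diagonal_of_isPullback sq) hsep) _ hk₂ hfin⟩

end GrothLib.AlgSp
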