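import Groth.Agent.Lib.AlgSp.NormGlue
import Groth.Agent.Lib.AlgSp.NormSplit
import Groth.Agent.Lib.AlgSp.FlatMono
import Groth.Agent.Lib.AlgSp.Unramified

/-!
# Elementary distinguished squares

* `repWith_openImmersion_diag_of_etale`: the diagonal of an etale morphism is an open immersion;
* `point_diag_or_open`: points of `V ×_W V` lie on the diagonal or over `U`;
* `existsUnique_hom_of_elemDistSq`: an elementary distinguished square is a pushout.
-/

set_option autoImplicit false
universe u
open CategoryTheory CategoryTheory.Limits AlgebraicGeometry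
set_option backward.isDefEq.respectTransparency false

namespace GrothLib.AlgSp

open _root_.AlgSp

variable {S : Scheme.{u}} {U V W P T : Sp S}

/-- The diagonal of an etale morphism is an open immersion. -/
theorem repWith_openImmersion_diag_of_etale (hV : IsAlgSpace V) (hW : IsAlgSpace W) {f : V ⟶ W}
    (hf : IsEtaleMor f) : RepWith @IsOpenImmersion (pullback.diagonal f) := by
  have sq := IsPullback.of_hasPullback f f
  have hQ := isAlgSpace_pullback' hW hV hV f f
  have h1 : LocP @Etale (pullback.fst f f) :=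
    EtLocal.etale.locP_of_isPullback hV hW hV sq.flip (locP_of_isEtaleMor hW hf)
  have h2 : LocP @Etale (pullback.diagonal f) := EtLocal.locP_cancel EtLocal.etale
    (fun A B C f g h1 h2 => by haveI := h1; haveI := h2; exact Etale.of_comp f g) hV hQ hV
    (by
      rw [pullback.diagonal_fst]
      exact EtLocal.locP_of_repWith .etale hV (repWith_iso (𝟙 V))) h1
  exact repWith_openImmersion_of_etale_univInjective hV hQ (isEtaleMor_of_locP hQ h2)
    (isUnivInjectiveMor_of_mono _)

/-- Points of `V ×_W V` lie on the diagonal or over `U`. -/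
theorem point_diag_or_open {j : U ⟶ W} {f : V ⟶ W} (hsq : IsElemDistSq j f) (z : Points (pullback f f)) :
    z ∈ Set.range (Points.map (pullback.diagonal f)) ∨
      Points.map (pullback.fst f f ≫ f) z ∈ Set.range (Points.map j) := by
  obtain ⟨-, -, T, P, i, p₁, p₂, ⟨-, hi, -⟩, sqP, hp₁⟩ := hsq
  haveI := hp₁
  refine or_iff_not_imp_right.2 fun hz => ?_
  have hzT : Points.map (pullback.fst f f ≫ f) z ∈ Set.range (Points.map i) := by rw [hi]; exact hz
  obtain ⟨t, ht⟩ := hzT
  have sqT := IsPullback.of_hasPullback (pullback.fst f f ≫ f) i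
  obtain ⟨q, hq, -⟩ := exists_of_isPullback sqT ht.symm
  let a := sqP.lift (pullback.snd (pullback.fst f f ≫ f) i) (pullback.fst (pullback.fst f f ≫ f) i ≫ pullback.fst f f)
    (by rw [Category.assoc, sqT.w])
  let b := sqP.lift (pullback.snd (pullback.fst f f ≫ f) i) (pullback.fst (pullback.fst f f ≫ f) i ≫ pullback.snd f f)
    (by rw [← sqT.w, Category.assoc]; exact congrArg (_ ≫ ·) pullback.condition)
  have hab : a = b := (cancel_mono p₁).1 (by simp only [a, b, sqP.lift_fst])
  have h12 : pullback.fst (pullback.fst f f ≫ f) i ≫ pullback.fst f f =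
      pullback.fst (pullback.fst f f ≫ f) i ≫ pullback.snd f f := by
    have := congrArg (· ≫ p₂) hab
    simpa only [a, b, sqP.lift_snd] using this
  have hd : (pullback.fst (pullback.fst f f ≫ f) i ≫ pullback.fst f f) ≫ pullback.diagonal f =
      pullback.fst (pullback.fst f f ≫ f) i := by
    apply pullback.hom_ext
    · rw [Category.assoc, pullback.diagonal_fst, Category.comp_id]
    · rw [Category.assoc, pullback.diagonal_snd, Category.comp_id, h12]
  exact ⟨Points.map (pullback.fst (pullback.fst f f ≫ f) i ≫ pullback.fst f f) q, by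
    rw [← Points.map_comp, hd, hq]⟩

/-- An elementary distinguished square is a pushout. -/
theorem existsUnique_hom_of_elemDistSq (hU : IsAlgSpace U) (hV : IsAlgSpace V) (hW : IsAlgSpace W)
    {j : U ⟶ W} {f : V ⟶ W} (hsq : IsElemDistSq j f) {p : P ⟶ U} {q : P ⟶ V} (hP : IsPullback p q j f)
    (u : U ⟶ T) (v : V ⟶ T) (huv : p ≫ u = q ≫ v) : ∃! w : W ⟶ T, j ≫ w = u ∧ f ≫ w = v := by
  have hj := hsq.1
  have hf := hsq.2.1
  haveI := mono_of_openImmersion hj
  have hje : RepWith @Etale j := repWith_mono hj fun A B m hm => by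
    have : IsOpenImmersion m := hm
    exact inferInstanceAs (Etale m)
  have hΔ := repWith_openImmersion_diag_of_etale hV hW hf
  -- the chart
  obtain ⟨CU, cu, cue, cus⟩ := hU.atlas
  obtain ⟨CV, cv, cve, cvs⟩ := hV.atlas
  let C : ULift.{u} Bool → Over S := fun b => cond b.down CU CV
  let d : ∀ b, (yon S).obj (C b) ⟶ W := fun b => match b with
    | ⟨true⟩ => cu ≫ j
    | ⟨false⟩ => cv ≫ f
  let l : ∀ b, (yon S).obj (C b) ⟶ T := fun b => match b with
    | ⟨true⟩ => cu ≫ u
    | ⟨false⟩ => cv ≫ v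
  obtain ⟨D, hD, -⟩ := exists_hom_of_sigma C d
  obtain ⟨L, hL, -⟩ := exists_hom_of_sigma C l
  have De : RepWith @Etale D := repWith_sigma hW.diag C d D hD @Etale fun b => match b with
    | ⟨true⟩ => repWith_comp cue hje
    | ⟨false⟩ => hf cv cve
  have Ds : RepWith @Surjective D := repWith_surjective_of_ofPt De.1 fun x => by
    by_cases hx : x ∈ Set.range (Points.map j)
    · obtain ⟨y, rfl⟩ := hx
      obtain ⟨c, rfl⟩ := surjective_ofPt_of_repWith cus y
      exact ⟨(sigmaι C ⟨true⟩).left c, by rw [← ofPt_map_comp, hD, Points.map_ofPt]⟩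
    · obtain ⟨-, -, T₀, P₀, i, p₁, p₂, ⟨-, hi, -⟩, sqP, hp₁⟩ := hsq
      haveI := hp₁
      have hx' : x ∈ Set.range (Points.map i) := by rw [hi]; exact hx
      obtain ⟨t, rfl⟩ := hx'
      obtain ⟨c, hc⟩ := surjective_ofPt_of_repWith cvs (Points.map p₂ (Points.map (inv p₁) t))
      refine ⟨(sigmaι C ⟨false⟩).left c, ?_⟩
      rw [← ofPt_map_comp, hD, ← Points.map_ofPt, hc, ← Points.map_comp, ← sqP.w, ← Points.map_comp,
        IsIso.inv_hom_id_assoc]
  haveI := chart_isLocallySurjective De Ds
  haveI : Epi D := (Sheaf.isLocallySurjective_iff_epi _).1 inferInstance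
  -- agreement
  have hUV : ∀ {R : Over S} (a : (yon S).obj R ⟶ U) (b : (yon S).obj R ⟶ V), a ≫ j = b ≫ f → a ≫ u = b ≫ v :=
    fun a b e => by
      rw [← hP.lift_fst a b e, Category.assoc, huv, ← Category.assoc, hP.lift_snd]
  have hVV : ∀ {R : Over S} (a b : (yon S).obj R ⟶ V), a ≫ f = b ≫ f → a ≫ v = b ≫ v := by
    intro R a b e
    obtain ⟨ab, hab₁, hab₂⟩ : ∃ ab, ab ≫ pullback.fst f f = a ∧ ab ≫ pullback.snd f f = b :=
      ⟨pullback.lift a b e, pullback.lift_fst _ _ _, pullback.lift_snd _ _ _⟩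
    let O : ULift.{u} Bool → R.left.Opens := fun c => cond c.down
      ⟨Points.ofPt ab ⁻¹' Set.range (Points.map (pullback.diagonal f)),
        (isOpen_range_openImmersion hΔ).preimage (Points.continuous_ofPt ab)⟩
      ⟨Points.ofPt (a ≫ f) ⁻¹' Set.range (Points.map j),
        (isOpen_range_openImmersion hj).preimage (Points.continuous_ofPt _)⟩
    let RW : ULift.{u} Bool → Over S := fun c => Over.mk ((O c).ι ≫ R.hom)
    let rw' : ∀ c, RW c ⟶ R := fun c => Over.homMk (O c).ι rfl
    obtain ⟨K, -, hKu⟩ := exists_hom_of_openCover RW rw'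
      (fun c => inferInstanceAs (IsOpenImmersion (O c).ι)) (fun z => by
        rcases point_diag_or_open hsq (Points.ofPt ab z) with h | h
        · exact ⟨⟨true⟩, ⟨z, h⟩, rfl⟩
        · refine ⟨⟨false⟩, ⟨z, ?_⟩, rfl⟩
          show Points.ofPt (a ≫ f) z ∈ Set.range (Points.map j)
          rw [← hab₁, Category.assoc, ← Points.map_ofPt]
          exact h)
      (fun c => (yon S).map (rw' c) ≫ a ≫ v) (fun c c' R' g g' hg => by
        rw [← Functor.map_comp_assoc, ← Functor.map_comp_assoc, hg])
    refine (hKu _ fun c => rfl).trans (hKu _ fun c => ?_).symm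
    have hrng : ∀ z : ↥(RW c).left, (rw' c).left z ∈ O c := fun z => z.2
    obtain ⟨_ | _⟩ := c
    · obtain ⟨z, hz⟩ := (exists_factor_iff hj ((yon S).map (rw' ⟨false⟩) ≫ a ≫ f)).2 (by
        rintro _ ⟨y, rfl⟩
        obtain ⟨y, rfl⟩ := (Points.schemeEquiv (RW ⟨false⟩)).surjective y
        rw [show Points.schemeEquiv (RW ⟨false⟩) y = Points.ofScheme _ y from rfl, ← Points.ofPt_eq_map_ofScheme,
          ofPt_map_comp]
        exact hrng y)
      rw [← Category.assoc, ← hUV z ((yon S).map (rw' ⟨false⟩) ≫ b) (by rw [Category.assoc, ← e]; exact hz),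
        hUV z ((yon S).map (rw' ⟨false⟩) ≫ a) (by rw [Category.assoc]; exact hz), Category.assoc]
    · obtain ⟨z, hz⟩ := (exists_factor_iff hΔ ((yon S).map (rw' ⟨true⟩) ≫ ab)).2 (by
        rintro _ ⟨y, rfl⟩
        obtain ⟨y, rfl⟩ := (Points.schemeEquiv (RW ⟨true⟩)).surjective y
        rw [show Points.schemeEquiv (RW ⟨true⟩) y = Points.ofScheme _ y from rfl, ← Points.ofPt_eq_map_ofScheme,
          ofPt_map_comp]
        exact hrng y)
      rw [← hab₁, ← hab₂, ← Category.assoc, ← Category.assoc, ← hz]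
      simp only [Category.assoc, pullback.diagonal_fst_assoc, pullback.diagonal_snd_assoc]
      rw [← Category.assoc, ← Category.assoc, ← hz]
      simp only [Category.assoc, pullback.diagonal_fst_assoc, pullback.diagonal_snd_assoc]
  obtain ⟨R, d₁, d₂, sqR⟩ := exists_isPullback_yon hW.diag D D
  have := IsRegularEpiCategory.regularEpiOfEpi (C := Sp S) D
  obtain ⟨w, hw⟩ := IsRegularEpi.exists_of_isKernelPair D sqR L (eq_of_sigma_pieces C d₁ d₂ L
    (fun i k T' r x y hx hy => by
      have e : (yon S).map (x ≫ sigmaι C i) ≫ D = (yon S).map (y ≫ sigmaι C k) ≫ D := by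
        rw [hx, hy, Functor.map_comp, Functor.map_comp, Category.assoc, Category.assoc, sqR.w]
      simp only [Functor.map_comp, Category.assoc, hD, hL] at e ⊢
      obtain ⟨_ | _⟩ := i <;> obtain ⟨_ | _⟩ := k <;> simp only [d, l, ← Category.assoc] at e ⊢
      · exact hVV _ _ e
      · exact (hUV _ _ e.symm).symm
      · exact hUV _ _ e
      · rw [(cancel_mono j).1 e]))
  have hju : j ≫ w = u := by
    haveI := chart_isLocallySurjective cue cus
    haveI : Epi cu := (Sheaf.isLocallySurjective_iff_epi _).1 inferInstance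
    rw [← cancel_epi cu]
    have h1 := congrArg (· ≫ w) (hD ⟨true⟩)
    simp only [Category.assoc, hw, hL] at h1
    simpa [d, l] using h1.symm
  have hfv : f ≫ w = v := by
    haveI := chart_isLocallySurjective cve cvs
    haveI : Epi cv := (Sheaf.isLocallySurjective_iff_epi _).1 inferInstance
    rw [← cancel_epi cv]
    have h1 := congrArg (· ≫ w) (hD ⟨false⟩)
    simp only [Category.assoc, hw, hL] at h1
    simpa [d, l] using h1.symm
  refine ⟨w, ⟨hju, hfv⟩, fun w' ⟨h₁, h₂⟩ => (cancel_epi D).1 ?_⟩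
  obtain ⟨L', -, hL'⟩ := exists_hom_of_sigma C l
  refine (hL' _ fun b => ?_).trans (hL' _ fun b => ?_).symm
  · rw [reassoc_of% hD b]
    obtain ⟨_ | _⟩ := b <;> simp only [d, l, Category.assoc, h₁, h₂]
  · rw [hw, hL]

end GrothLib.AlgSp
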