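import Groth.Agent.Lib.AlgSp.Coproduct
import Groth.Agent.Lib.AlgSp.FlatMono
import Mathlib.CategoryTheory.Adhesive.Basic
import Mathlib.CategoryTheory.Limits.Types.Pushouts

/-!
# Pushouts of sheaves along monomorphisms

* `exists_pushout_sp`: a pushout of sheaves along a monomorphism, with local descriptions of its points and of
  equalities between images of points of the larger corner.
-/

universe u

set_option autoImplicit false
set_option backward.isDefEq.respectTransparency false

open CategoryTheory CategoryTheory.Limits AlgebraicGeometry Opposite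

namespace GrothLib.AlgSp.ElemPushout

open _root_.AlgSp

variable {S : Scheme.{u}}

theorem inl_eq_inl_iff_of_isPushout {A B C D : Type (u + 1)} {f : A ⟶ B} {g : A ⟶ C} {i : B ⟶ D} {j : C ⟶ D}
    (h : IsPushout f g i j) (hf : Function.Injective f) (x y : B) (e : i x = i y) :
    x = y ∨ ∃ x₀ y₀ : A, g x₀ = g y₀ ∧ f x₀ = x ∧ f y₀ = y := by
  haveI : Mono f := (mono_iff_injective f).2 hf
  let ε := IsColimit.coconePointUniqueUpToIso h.isColimit (Types.Pushout.isColimitCocone f g)
  have hε : i ≫ ε.hom = Types.Pushout.inl f g :=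
    IsColimit.comp_coconePointUniqueUpToIso_hom h.isColimit (Types.Pushout.isColimitCocone f g) WalkingSpan.left
  have e' : Types.Pushout.inl f g x = Types.Pushout.inl f g y := by
    rw [← hε]
    exact congrArg ε.hom e
  rcases (Types.Pushout.inl_rel'_inl_iff f g x y).1 ((Types.Pushout.quot_mk_eq_iff f g _ _).1 e') with
    rfl | ⟨x₀, y₀, hg, hx, hy⟩
  · exact Or.inl rfl
  · exact Or.inr ⟨x₀, y₀, hg, hx.symm, hy.symm⟩

theorem exists_inl_or_inr_of_isPushout {A B C D : Type (u + 1)} {f : A ⟶ B} {g : A ⟶ C} {i : B ⟶ D} {j : C ⟶ D}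
    (h : IsPushout f g i j) (d : D) : (∃ x, i x = d) ∨ ∃ y, j y = d := by
  let ε := IsColimit.coconePointUniqueUpToIso h.isColimit (Types.Pushout.isColimitCocone f g)
  have hε₁ : i ≫ ε.hom = Types.Pushout.inl f g :=
    IsColimit.comp_coconePointUniqueUpToIso_hom h.isColimit (Types.Pushout.isColimitCocone f g) WalkingSpan.left
  have hε₂ : j ≫ ε.hom = Types.Pushout.inr f g :=
    IsColimit.comp_coconePointUniqueUpToIso_hom h.isColimit (Types.Pushout.isColimitCocone f g) WalkingSpan.right
  have hinj : Function.Injective ε.hom := fun a b e => by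
    have := congrArg ε.inv e
    rwa [← ConcreteCategory.comp_apply, ← ConcreteCategory.comp_apply, ε.hom_inv_id] at this
  obtain ⟨q, hq⟩ := Quot.exists_rep (ε.hom d)
  rcases q with x | y
  · exact Or.inl ⟨x, hinj ((congrArg (fun k : B ⟶ _ => k x) hε₁).trans hq)⟩
  · exact Or.inr ⟨y, hinj ((congrArg (fun k : C ⟶ _ => k y) hε₂).trans hq)⟩

theorem exists_pushout_sp {U V V' : Sp S} (jV : V' ⟶ V) [Mono jV] (f' : V' ⟶ U) :
    ∃ (W : Sp S) (f : V ⟶ W) (j : U ⟶ W), IsPushout jV f' f j ∧ IsPullback jV f' f j ∧ Mono j ∧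
      (∀ (T : Over S) (a b : (yon S).obj T ⟶ V), a ≫ f = b ≫ f → ∀ t : ↥T.left,
        ∃ (T' : Over S) (d : T' ⟶ T), Flat d.left ∧ LocallyOfFinitePresentation d.left ∧ t ∈ Set.range d.left ∧
          ((yon S).map d ≫ a = (yon S).map d ≫ b ∨
            ∃ x y : (yon S).obj T' ⟶ V', x ≫ jV = (yon S).map d ≫ a ∧ y ≫ jV = (yon S).map d ≫ b ∧
              x ≫ f' = y ≫ f')) ∧
      (∀ (T : Over S) (g : (yon S).obj T ⟶ W) (t : ↥T.left),
        ∃ (T' : Over S) (d : T' ⟶ T), Flat d.left ∧ LocallyOfFinitePresentation d.left ∧ t ∈ Set.range d.left ∧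
          ((∃ x : (yon S).obj T' ⟶ V, x ≫ f = (yon S).map d ≫ g) ∨
            ∃ y : (yon S).obj T' ⟶ U, y ≫ j = (yon S).map d ≫ g)) := by
  let a := presheafToSheaf (J S) (Type (u + 1))
  let adj := sheafificationAdjunction (J S) (Type (u + 1))
  let Q := pushout jV.hom f'.hom
  have sqQ : IsPushout jV.hom f'.hom (pushout.inl jV.hom f'.hom) (pushout.inr jV.hom f'.hom) :=
    IsPushout.of_hasPushout _ _
  let f : V ⟶ a.obj Q := inv (adj.counit.app V) ≫ a.map (pushout.inl jV.hom f'.hom)
  let j : U ⟶ a.obj Q := inv (adj.counit.app U) ≫ a.map (pushout.inr jV.hom f'.hom)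
  have sq : IsPushout jV f' f j := by
    refine (sqQ.map a).of_iso (asIso (adj.counit.app V')) (asIso (adj.counit.app V)) (asIso (adj.counit.app U))
      (Iso.refl _) (adj.counit.naturality jV) (adj.counit.naturality f') ?_ ?_ <;> simp [f, j]
  haveI : Adhesive (Sp S) := inferInstance
  have hfu : adj.unit.app V.obj ≫ (a.map (pushout.inl jV.hom f'.hom)).hom =
      pushout.inl jV.hom f'.hom ≫ adj.unit.app Q := (adj.unit.naturality (pushout.inl jV.hom f'.hom)).symm
  have hju : adj.unit.app U.obj ≫ (a.map (pushout.inr jV.hom f'.hom)).hom =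
      pushout.inr jV.hom f'.hom ≫ adj.unit.app Q := (adj.unit.naturality (pushout.inr jV.hom f'.hom)).symm
  have hinv : ∀ Z : Sp S, (inv (adj.counit.app Z)).hom = adj.unit.app Z.obj := fun Z => by
    have h1 : adj.unit.app Z.obj ≫ (adj.counit.app Z).hom = 𝟙 Z.obj := adj.right_triangle_components Z
    have h2 : (adj.counit.app Z).hom ≫ (inv (adj.counit.app Z)).hom = 𝟙 _ :=
      congrArg InducedCategory.Hom.hom (IsIso.hom_inv_id (adj.counit.app Z))
    calc (inv (adj.counit.app Z)).hom = (adj.unit.app Z.obj ≫ (adj.counit.app Z).hom) ≫ (inv (adj.counit.app Z)).hom :=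
          ((congrArg (· ≫ (inv (adj.counit.app Z)).hom) h1).trans (Category.id_comp _)).symm
      _ = adj.unit.app Z.obj :=
          (Category.assoc _ _ _).trans ((congrArg (adj.unit.app Z.obj ≫ ·) h2).trans (Category.comp_id _))
  have hf : f.hom = pushout.inl jV.hom f'.hom ≫ adj.unit.app Q := by
    rw [← hfu, ← hinv]
    rfl
  have hj : j.hom = pushout.inr jV.hom f'.hom ≫ adj.unit.app Q := by
    rw [← hju, ← hinv]
    rfl
  have hev : ∀ T : Over S, IsPushout (jV.hom.app (op T)) (f'.hom.app (op T))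
      ((pushout.inl jV.hom f'.hom).app (op T)) ((pushout.inr jV.hom f'.hom).app (op T)) := fun T =>
    sqQ.map ((evaluation (Over S)ᵒᵖ (Type (u + 1))).obj (op T))
  haveI : Mono jV.hom := inferInstanceAs (Mono ((sheafToPresheaf (J S) (Type (u + 1))).map jV))
  have hinj : ∀ T : Over S, Function.Injective (jV.hom.app (op T)) := fun T =>
    (mono_iff_injective _).1 inferInstance
  have hnat : ∀ {T T' : Over S} (d : T' ⟶ T) {Z : Sp S} (g : (yon S).obj T ⟶ Z),
      (J S).uliftYonedaEquiv.{u + 1} ((yon S).map d ≫ g) =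
        Z.obj.map d.op ((J S).uliftYonedaEquiv.{u + 1} g) := fun d Z g =>
    ((J S).uliftYonedaEquiv_naturality g d).symm
  refine ⟨a.obj Q, f, j, sq, Adhesive.isPullback_of_isPushout_of_mono_left sq,
    Adhesive.mono_of_isPushout_of_mono_left sq, fun T x y e t => ?_, fun T g t => ?_⟩
  · let x₀ := (J S).uliftYonedaEquiv.{u + 1} x
    let y₀ := (J S).uliftYonedaEquiv.{u + 1} y
    have h' : (adj.unit.app Q).app (op T) ((pushout.inl jV.hom f'.hom).app (op T) x₀) =
        (adj.unit.app Q).app (op T) ((pushout.inl jV.hom f'.hom).app (op T) y₀) := by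
      have := congrArg ((J S).uliftYonedaEquiv.{u + 1}) e
      rw [GrothendieckTopology.uliftYonedaEquiv_comp, GrothendieckTopology.uliftYonedaEquiv_comp, hf] at this
      exact this
    haveI : Presheaf.IsLocallyInjective (J S) (adj.unit.app Q) :=
      inferInstanceAs (Presheaf.IsLocallyInjective (J S) (toSheafify (J S) Q))
    obtain ⟨T', d, hd, hfl, hfp, ht⟩ := exists_flat_mem_cover' (Presheaf.equalizerSieve_mem (J S) (adj.unit.app Q) _ _ h') t
    refine ⟨T', d, hfl, hfp, ht, ?_⟩
    have hd' : (pushout.inl jV.hom f'.hom).app (op T') (V.obj.map d.op x₀) =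
        (pushout.inl jV.hom f'.hom).app (op T') (V.obj.map d.op y₀) := by
      rw [NatTrans.naturality_apply, NatTrans.naturality_apply]
      exact hd
    rcases inl_eq_inl_iff_of_isPushout (hev T') (hinj T') _ _ hd' with h | ⟨u₀, v₀, hg, hu, hv⟩
    · left
      apply (J S).uliftYonedaEquiv.{u + 1}.injective
      rw [hnat, hnat]
      exact h
    · right
      refine ⟨(J S).uliftYonedaEquiv.{u + 1}.symm u₀, (J S).uliftYonedaEquiv.{u + 1}.symm v₀, ?_, ?_, ?_⟩ <;>
        apply (J S).uliftYonedaEquiv.{u + 1}.injective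
      · rw [GrothendieckTopology.uliftYonedaEquiv_comp, Equiv.apply_symm_apply, hnat]
        exact hu
      · rw [GrothendieckTopology.uliftYonedaEquiv_comp, Equiv.apply_symm_apply, hnat]
        exact hv
      · rw [GrothendieckTopology.uliftYonedaEquiv_comp, GrothendieckTopology.uliftYonedaEquiv_comp,
          Equiv.apply_symm_apply, Equiv.apply_symm_apply]
        exact hg
  · haveI : Presheaf.IsLocallySurjective (J S) (adj.unit.app Q) :=
      inferInstanceAs (Presheaf.IsLocallySurjective (J S) (toSheafify (J S) Q))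
    obtain ⟨T', d, ⟨q, hq⟩, hfl, hfp, ht⟩ := exists_flat_mem_cover'
      (Presheaf.imageSieve_mem (J S) (adj.unit.app Q) (U := op T) ((J S).uliftYonedaEquiv.{u + 1} g)) t
    refine ⟨T', d, hfl, hfp, ht, ?_⟩
    rcases exists_inl_or_inr_of_isPushout (hev T') q with ⟨x, rfl⟩ | ⟨y, rfl⟩
    · left
      refine ⟨(J S).uliftYonedaEquiv.{u + 1}.symm x, ?_⟩
      apply (J S).uliftYonedaEquiv.{u + 1}.injective
      rw [GrothendieckTopology.uliftYonedaEquiv_comp, Equiv.apply_symm_apply, hnat, hf]
      exact hq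
    · right
      refine ⟨(J S).uliftYonedaEquiv.{u + 1}.symm y, ?_⟩
      apply (J S).uliftYonedaEquiv.{u + 1}.injective
      rw [GrothendieckTopology.uliftYonedaEquiv_comp, Equiv.apply_symm_apply, hnat, hj]
      exact hq

end GrothLib.AlgSp.ElemPushout
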