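import Groth.Agent.Lib.AlgSp.OverMapSheaf
import Groth.Agent.Lib.AlgSp.Space

/-!
# Algebraic spaces and change of base scheme
-/

set_option backward.isDefEq.respectTransparency false

universe u

open CategoryTheory CategoryTheory.Limits AlgebraicGeometry Opposite

namespace GrothLib.AlgSp

open _root_.AlgSp

variable {S S' : Scheme.{u}} (g : S ⟶ S') {F G : Sp S}

/-- The tautological lift of an object over `S` viewed over `S'`. -/
abbrev tautLift (T : Over S) : (Over.map g).obj T ⟶ Over.mk g := Over.homMk T.hom rfl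

variable {g}

theorem jMk_congr {T' : Over S'} {φ φ' : T' ⟶ Over.mk g} (h : φ = φ') {x : (yon S).obj (liftObj g φ) ⟶ F}
    {x' : (yon S).obj (liftObj g φ') ⟶ F}
    (hx : x = (yon S).map (Over.homMk (𝟙 _) (by subst h; simp) : liftObj g φ ⟶ liftObj g φ') ≫ x') :
    jMk g φ x = jMk g φ' x' := by
  subst h
  rw [hx]
  congr 1

theorem jMk_eq {T' : Over S'} {φ φ' : T' ⟶ Over.mk g} {x : (yon S).obj (liftObj g φ) ⟶ F}
    {x' : (yon S).obj (liftObj g φ') ⟶ F} (e : jMk g φ x = jMk g φ' x') :
    ∃ h : φ = φ', x = (yon S).map (Over.homMk (𝟙 _) (by subst h; simp) : liftObj g φ ⟶ liftObj g φ') ≫ x' := by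
  have h : φ = φ' := by
    have := congrArg ((J S').uliftYonedaEquiv.{u + 1}) e
    erw [Equiv.apply_symm_apply, Equiv.apply_symm_apply] at this
    exact congrArg Sigma.fst this
  subst h
  refine ⟨rfl, ?_⟩
  rw [show (Over.homMk (𝟙 _) (Category.id_comp _) : liftObj g φ ⟶ liftObj g φ) = 𝟙 _ from Over.OverMorphism.ext rfl]
  rw [jMk_injective g e]
  simp

variable (g)

/-- The extension of a cartesian square over a scheme. -/
theorem isPullback_jMap {f : F ⟶ G} {T' : Over S'} (φ : T' ⟶ Over.mk g) {V : Over S}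
    {x : (yon S).obj (liftObj g φ) ⟶ G} {fst : (yon S).obj V ⟶ F} {snd : V ⟶ liftObj g φ}
    (sq : IsPullback fst ((yon S).map snd) f x) :
    IsPullback (jMk g (tautLift g V) fst)
      ((yon S').map ((Over.map g).map snd ≫ (mapObjIso φ).hom)) (jMap g f) (jMk g φ x) := by
  refine isPullback_of_yon ?_ fun T'' a b hab => ?_
  · rw [jMk_jMap, map_jMk, sq.w]
    refine jMk_congr (Over.OverMorphism.ext (by simpa using (Over.w snd).symm)) ?_
    rw [← Functor.map_comp_assoc]
    congr 2
  · obtain ⟨h, rfl⟩ := (yon S').map_surjective b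
    obtain ⟨ψ, y, rfl⟩ := jMk_surjective g a
    rw [jMk_jMap, map_jMk] at hab
    obtain ⟨rfl, hy⟩ := jMk_eq hab
    rw [← Functor.map_comp_assoc] at hy
    obtain ⟨c₀, hc₀⟩ := (yon S).map_surjective (sq.lift y ((yon S).map _) hy)
    have hs : c₀ ≫ snd = (Over.homMk (𝟙 _) (Category.id_comp _) : liftObj g (h ≫ φ) ⟶ liftObj g (h ≫ φ)) ≫
        (Over.homMk h.left rfl : liftObj g (h ≫ φ) ⟶ liftObj g φ) :=
      (yon S).map_injective (by rw [Functor.map_comp, hc₀, sq.lift_snd])
    have hf : (yon S).map c₀ ≫ fst = y := by rw [hc₀, sq.lift_fst]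
    have hw : c₀.left ≫ V.hom = h.left ≫ φ.left := Over.w c₀
    let c : T'' ⟶ (Over.map g).obj V := Over.homMk c₀.left (by
      change c₀.left ≫ V.hom ≫ g = T''.hom
      rw [reassoc_of% hw, show φ.left ≫ g = T'.hom from Over.w φ, Over.w h])
    refine ⟨(yon S').map c, ⟨?_, ?_⟩, ?_⟩
    · rw [map_jMk]
      refine jMk_congr (Over.OverMorphism.ext hw) ?_
      rw [← hf, ← Functor.map_comp_assoc]
      congr 2
    · rw [← Functor.map_comp]
      congr 1
      ext
      simpa [c] using congrArg CommaMorphism.left hs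
    · rintro c' ⟨hc₁, hc₂⟩
      obtain ⟨c', rfl⟩ := (yon S').map_surjective c'
      rw [map_jMk] at hc₁
      obtain ⟨hψ', hy'⟩ := jMk_eq hc₁.symm
      have hψ := hψ'.symm
      rw [← Functor.map_comp] at hc₂
      have hc₂' := congrArg CommaMorphism.left ((yon S').map_injective hc₂)
      congr 1
      ext
      let c₁ : liftObj g (h ≫ φ) ⟶ V := Over.homMk c'.left (congrArg CommaMorphism.left hψ)
      suffices c₁ = c₀ by simpa [c₁, c] using congrArg CommaMorphism.left this
      apply (yon S).map_injective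
      apply sq.hom_ext
      · rw [hf, hy', ← Functor.map_comp_assoc]
        congr 2
      · rw [← Functor.map_comp, ← Functor.map_comp, hs]
        congr 1
        ext
        simpa [c₁] using hc₂'

/-- A morphism of sheaves over `S` has `P` iff its extension does. -/
theorem repWith_jMap_iff {P : MorphismProperty Scheme.{u}} [P.RespectsIso] (f : F ⟶ G) :
    RepWith P (jMap g f) ↔ RepWith P f := by
  refine ⟨fun hf => repWith_mk fun T x => ?_, fun hf => repWith_mk fun T' σ => ?_⟩
  · obtain ⟨V', fst', snd', sq⟩ := exists_isPullback_of_representable hf.1 (jMk g (tautLift g T) x)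
    have hP : P snd'.left := hf.2 _ _ _ sq
    obtain ⟨ψ, y, rfl⟩ := jMk_surjective g fst'
    have w := sq.w
    rw [jMk_jMap, map_jMk] at w
    obtain ⟨rfl, hw⟩ := jMk_eq w
    refine ⟨_, y, (Over.homMk snd'.left rfl : liftObj g (snd' ≫ tautLift g T) ⟶ T),
      isPullback_of_yon ?_ fun W a b hab => ?_, hP⟩
    · rw [hw, ← Functor.map_comp_assoc]
      congr 2
    · obtain ⟨m, rfl⟩ := (yon S).map_surjective b
      obtain ⟨c', hc'⟩ := (yon S').map_surjective
        (sq.lift (jMk g (tautLift g W) a) ((yon S').map ((Over.map g).map m)) (by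
          rw [jMk_jMap, map_jMk, hab]
          refine jMk_congr (Over.OverMorphism.ext (Over.w m).symm) ?_
          rw [← Functor.map_comp_assoc]
          congr 2))
      have h₁ : c' ≫ snd' = (Over.map g).map m := (yon S').map_injective (by rw [Functor.map_comp, hc', sq.lift_snd])
      have h₂ := sq.lift_fst (jMk g (tautLift g W) a) _ _ |>.symm.trans (congrArg (· ≫ jMk g _ y) hc'.symm)
      rw [map_jMk] at h₂
      obtain ⟨hψ, ha⟩ := jMk_eq h₂
      have hl : c'.left ≫ snd'.left ≫ T.hom = W.hom := (congrArg CommaMorphism.left hψ).symm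
      refine ⟨(yon S).map (Over.homMk c'.left hl), ⟨?_, ?_⟩, ?_⟩
      · rw [ha, ← Functor.map_comp_assoc]
        congr 2
      · rw [← Functor.map_comp]
        congr 1
        ext
        exact (congrArg CommaMorphism.left h₁ :)
      · rintro d ⟨hd₁, hd₂⟩
        obtain ⟨d, rfl⟩ := (yon S).map_surjective d
        let d' : (Over.map g).obj W ⟶ V' := Over.homMk d.left (by
          have e₁ : d.left ≫ snd'.left = m.left := by
            rw [← Functor.map_comp] at hd₂
            exact congrArg CommaMorphism.left ((yon S).map_injective hd₂)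
          have : snd'.left ≫ T.hom ≫ g = V'.hom := Over.w snd'
          rw [← this, reassoc_of% e₁]
          exact (Category.assoc _ _ _).symm.trans (congrArg (· ≫ g) (Over.w m)))
        suffices d' = c' by
          congr 1
          ext
          exact (congrArg CommaMorphism.left this :)
        apply (yon S').map_injective
        apply sq.hom_ext
        · rw [hc', sq.lift_fst, map_jMk]
          refine jMk_congr (Over.OverMorphism.ext (Over.w d)) ?_
          rw [← hd₁, ← Functor.map_comp_assoc]
          congr 2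
        · rw [hc', sq.lift_snd, ← Functor.map_comp]
          congr 1
          ext
          rw [← Functor.map_comp] at hd₂
          exact (congrArg CommaMorphism.left ((yon S).map_injective hd₂) :)
  · obtain ⟨φ, x, rfl⟩ := jMk_surjective g σ
    obtain ⟨V, fst, snd, sq⟩ := exists_isPullback_of_representable hf.1 x
    refine ⟨_, _, _, isPullback_jMap g φ sq, ?_⟩
    have : ((Over.map g).map snd ≫ (mapObjIso φ).hom).left = snd.left := Category.comp_id _
    rw [this]
    exact hf.2 _ _ _ sq

theorem isIso_jMk_id (X : Over S) :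
    IsIso (jMk g (tautLift g X) (𝟙 ((yon S).obj X))) := by
  refine isIso_of_yon fun T' b => ?_
  obtain ⟨ψ, y, rfl⟩ := jMk_surjective g b
  obtain ⟨c, rfl⟩ := (yon S).map_surjective y
  let a : T' ⟶ (Over.map g).obj X := Over.homMk c.left (by
    have : ψ.left ≫ g = T'.hom := Over.w ψ
    rw [← this]
    exact (Category.assoc _ _ _).symm.trans (congrArg (· ≫ g) (Over.w c)))
  refine ⟨(yon S').map a, ?_, fun a' ha' => ?_⟩
  · change (yon S').map a ≫ _ = _
    rw [map_jMk]
    refine jMk_congr (Over.OverMorphism.ext (Over.w c)) ?_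
    refine (Category.comp_id _).trans ?_
    rw [← Functor.map_comp]
    congr 1
  · obtain ⟨a', rfl⟩ := (yon S').map_surjective a'
    rw [map_jMk] at ha'
    obtain ⟨h, hy⟩ := jMk_eq ha'
    replace hy := ((Category.comp_id _).symm.trans hy).trans ((yon S).map_comp _ _).symm
    congr 1
    ext
    simpa [a] using congrArg CommaMorphism.left ((yon S).map_injective hy)

theorem jMk_eq_comp_jMap {T' : Over S'} (φ : T' ⟶ Over.mk g) (x : (yon S).obj (liftObj g φ) ⟶ F) :
    jMk g φ x = (yon S').map (mapObjIso φ).inv ≫ jMk g (tautLift g (liftObj g φ)) (𝟙 ((yon S).obj (liftObj g φ))) ≫ jMap g x := by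
  rw [jMk_jMap]
  refine Eq.trans ?_ (congrArg (fun z => (yon S').map (mapObjIso φ).inv ≫ jMk g (tautLift g (liftObj g φ)) z)
    (Category.id_comp x).symm)
  rw [map_jMk]
  refine jMk_congr (Over.OverMorphism.ext (Category.id_comp _).symm) ?_
  rw [← Functor.map_comp_assoc]
  conv_lhs => rw [← Category.id_comp x, ← (yon S).map_id]
  congr 2

theorem representable_comp {A B C : Sp S'} {a : A ⟶ B} {b : B ⟶ C} (ha : Representable a) (hb : Representable b) :
    Representable (a ≫ b) :=
  repWith_top_iff.1 (repWith_comp (repWith_top_iff.2 ha) (repWith_top_iff.2 hb))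

/-- A sheaf over `S` is an algebraic space iff its extension to `S'` is one. -/
theorem isAlgSpace_jSh_iff : IsAlgSpace (jSh g F) ↔ IsAlgSpace F := by
  refine ⟨fun h => ⟨representable_diag_iff.2 fun T x => ?_, ?_⟩,
    fun h => ⟨representable_diag_iff.2 fun T' σ => ?_, ?_⟩⟩
  · have := isIso_jMk_id g T
    have e : jMap g x = inv (jMk g (tautLift g T) (𝟙 ((yon S).obj T))) ≫ jMk g (tautLift g T) x := by
      rw [IsIso.eq_inv_comp, jMk_jMap]
      exact congrArg (jMk g _) (Category.id_comp x)
    refine repWith_top_iff.1 ((repWith_jMap_iff g x).1 (repWith_top_iff.2 ?_))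
    rw [e]
    exact representable_comp (Functor.relativelyRepresentable.of_isIso _ _) (representable_diag_iff.1 h.diag _)
  · obtain ⟨U', σ, he, hs⟩ := h.atlas
    obtain ⟨φ, x, rfl⟩ := jMk_surjective g σ
    have := isIso_jMk_id g (liftObj g φ)
    have e : jMap g x = inv (jMk g (tautLift g (liftObj g φ)) (𝟙 ((yon S).obj (liftObj g φ)))) ≫ (yon S').map (mapObjIso φ).hom ≫
        jMk g φ x := by
      rw [IsIso.eq_inv_comp, jMk_eq_comp_jMap g φ x, ← Functor.map_comp_assoc, Iso.hom_inv_id,
        CategoryTheory.Functor.map_id, Category.id_comp]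
    refine ⟨_, x, (repWith_jMap_iff g x).1 ?_, (repWith_jMap_iff g x).1 ?_⟩
    · rw [e]; exact repWith_comp (repWith_iso _) (repWith_comp (repWith_iso _) he)
    · rw [e]; exact repWith_comp (repWith_iso _) (repWith_comp (repWith_iso _) hs)
  · obtain ⟨φ, x, rfl⟩ := jMk_surjective g σ
    have := isIso_jMk_id g (liftObj g φ)
    rw [jMk_eq_comp_jMap]
    exact representable_comp (Functor.relativelyRepresentable.of_isIso _ _)
      (representable_comp (Functor.relativelyRepresentable.of_isIso _ _)
        ((repWith_jMap_iff g x).2 (repWith_top_iff.2 (representable_diag_iff.1 h.diag x))).1)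
  · obtain ⟨U, p, he, hs⟩ := h.atlas
    have := isIso_jMk_id g U
    refine ⟨(Over.map g).obj U, jMk g (tautLift g U) (𝟙 ((yon S).obj U)) ≫ jMap g p,
      repWith_comp (repWith_iso _) ((repWith_jMap_iff g p).2 he),
      repWith_comp (repWith_iso _) ((repWith_jMap_iff g p).2 hs)⟩

end GrothLib.AlgSp

namespace GrothLib.AlgSp

open _root_.AlgSp

variable {S S' : Scheme.{u}} (g : S ⟶ S')

theorem isAlgSpace_of_iso {F G : Sp S} (e : F ≅ G) (h : IsAlgSpace G) : IsAlgSpace F :=
  isAlgSpace_of_representable h (Functor.relativelyRepresentable.of_isIso (yon S) e.hom)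

theorem jCounit_comp {G : Sp S'} {T' : Over S'} (φ : T' ⟶ Over.mk g)
    (x : (yon S).obj (liftObj g φ) ⟶ (Scheme.fppfTopology.overMapPullback (Type (u + 1)) g).obj G) :
    (J S').uliftYonedaEquiv.{u + 1} (jMk g φ x ≫ jCounit g G) =
      G.obj.map (mapObjIso φ).inv.op ((J S).uliftYonedaEquiv.{u + 1} x) := by
  rw [GrothendieckTopology.uliftYonedaEquiv_comp, jMk, Equiv.apply_symm_apply]
  rfl

theorem jMk_jStr {F : Sp S} {T' : Over S'} (φ : T' ⟶ Over.mk g) (x : (yon S).obj (liftObj g φ) ⟶ F) :
    jMk g φ x ≫ jStr g F = (yon S').map φ := by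
  apply (J S').uliftYonedaEquiv.{u + 1}.injective
  rw [GrothendieckTopology.uliftYonedaEquiv_comp, jMk, Equiv.apply_symm_apply]
  conv_rhs => rw [← Category.comp_id ((yon S').map φ), ← GrothendieckTopology.uliftYonedaEquiv_naturality]
  rfl

/-- Extension after restriction is the product with `h_S`. -/
theorem isIso_jProd (G : Sp S') :
    IsIso (prod.lift (jStr g ((Scheme.fppfTopology.overMapPullback (Type (u + 1)) g).obj G)) (jCounit g G)) := by
  refine isIso_of_yon fun T' b => ?_
  obtain ⟨φ, hφ⟩ := (yon S').map_surjective (b ≫ prod.fst)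
  let y := (J S').uliftYonedaEquiv.{u + 1} (b ≫ prod.snd)
  let x : (yon S).obj (liftObj g φ) ⟶ (Scheme.fppfTopology.overMapPullback (Type (u + 1)) g).obj G :=
    (J S).uliftYonedaEquiv.{u + 1}.symm (G.obj.map (mapObjIso φ).hom.op y)
  refine ⟨jMk g φ x, ?_, fun a ha => ?_⟩
  · apply Limits.prod.hom_ext
    · rw [Category.assoc, prod.lift_fst, jMk_jStr, hφ]
    · rw [Category.assoc, prod.lift_snd]
      apply (J S').uliftYonedaEquiv.{u + 1}.injective
      rw [jCounit_comp]
      erw [Equiv.apply_symm_apply]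
      rw [← Functor.map_comp_apply, ← op_comp, Iso.inv_hom_id, op_id, G.obj.map_id]
      rfl
  · obtain ⟨ψ, x', rfl⟩ := jMk_surjective g a
    have h1 := congrArg (fun z => z ≫ prod.fst) ha
    simp only [Category.assoc, prod.lift_fst, jMk_jStr] at h1
    obtain rfl : ψ = φ := (yon S').map_injective (h1.trans hφ.symm)
    have h2 := congrArg (fun z => (J S').uliftYonedaEquiv.{u + 1} (z ≫ prod.snd)) ha
    simp only [Category.assoc, prod.lift_snd, jCounit_comp] at h2
    congr 1
    apply (J S).uliftYonedaEquiv.{u + 1}.injective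
    refine Eq.trans ?_ (Equiv.apply_symm_apply _ _).symm
    change _ = G.obj.map (mapObjIso ψ).hom.op y
    rw [show y = _ from h2.symm, ← Functor.map_comp_apply, ← op_comp, Iso.hom_inv_id, op_id, G.obj.map_id]
    rfl

/-- Restriction gives an algebraic space iff the product with `h_S` is one. -/
theorem isAlgSpace_overMapPullback_iff (G : Sp S') :
    IsAlgSpace ((Scheme.fppfTopology.overMapPullback (Type (u + 1)) g).obj G) ↔
      IsAlgSpace ((yon S').obj (Over.mk g) ⨯ G) := by
  have := isIso_jProd g G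
  rw [← isAlgSpace_jSh_iff g]
  let e := asIso (prod.lift (jStr g ((Scheme.fppfTopology.overMapPullback (Type (u + 1)) g).obj G)) (jCounit g G))
  exact ⟨isAlgSpace_of_iso e.symm, isAlgSpace_of_iso e⟩

end GrothLib.AlgSp
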