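import Groth.Agent.Lib.AlgSp.Coproduct
import Groth.Agent.Lib.AlgSp.SourceLocal
import Groth.Agent.Lib.AlgSp.BootstrapFamily

/-!
# Sheaves covered by families with etale fibre products

* `eq_of_local`: points agreeing fppf locally are equal;
* `isAlgSpace_of_pullback_family`: a family of maps from algebraic spaces with algebraic fibre products and
  etale projections, covering locally, gives an algebraic space and etale maps.
-/

universe u

set_option autoImplicit false
set_option backward.isDefEq.respectTransparency false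

open CategoryTheory CategoryTheory.Limits AlgebraicGeometry Opposite

namespace GrothLib.AlgSp

open _root_.AlgSp

variable {S : Scheme.{u}} {F : Sp S}

/-- Points agreeing fppf locally are equal. -/
theorem eq_of_local {T : Over S} (a b : (yon S).obj T ⟶ F)
    (h : ∀ t : ↥T.left, ∃ (T' : Over S) (d : T' ⟶ T), Flat d.left ∧ LocallyOfFinitePresentation d.left ∧
      t ∈ Set.range d.left ∧ (yon S).map d ≫ a = (yon S).map d ≫ b) : a = b := by
  choose T' d hf hp ht he using h
  apply (J S).uliftYonedaEquiv.{u + 1}.injective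
  refine ((isSheaf_iff_isSheaf_of_type _ _).1 F.property _
    (ofArrows_mem T' d hf hp fun t => ⟨t, ht t⟩)).isSeparatedFor.ext ?_
  rintro Z g ⟨_, k, _, ⟨t⟩, rfl⟩
  have := congrArg (fun x => (J S).uliftYonedaEquiv.{u + 1} ((yon S).map k ≫ x)) (he t)
  rw [← Functor.map_comp_assoc, ← Functor.map_comp_assoc, ← GrothendieckTopology.uliftYonedaEquiv_naturality,
    ← GrothendieckTopology.uliftYonedaEquiv_naturality] at this
  exact this

/-- The composite of a chart with a map to a sheaf covered by a family of charts is etale. -/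
theorem repWith_etale_of_sigma {ι : Type u} (U : ι → Over S) (d : ∀ i, (yon S).obj (U i) ⟶ F)
    (hF : IsAlgSpace F) (hR : ∀ i j, ∃ (R : Over S) (t : R ⟶ U i) (s : R ⟶ U j),
      IsPullback ((yon S).map t) ((yon S).map s) (d i) (d j) ∧ Etale s.left)
    (hl : ∀ (T : Over S) (g : (yon S).obj T ⟶ F) (t : ↥T.left), ∃ (i : ι) (V : Over S) (c : V ⟶ T)
      (l : (yon S).obj V ⟶ (yon S).obj (U i)), Flat c.left ∧ LocallyOfFinitePresentation c.left ∧
      t ∈ Set.range c.left ∧ l ≫ d i = (yon S).map c ≫ g) (i : ι) : RepWith @Etale (d i) := by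
  obtain ⟨P, hP, -⟩ := exists_hom_of_sigma U d
  have : Sheaf.IsLocallySurjective P := isLocallySurjective_of_point_lifts fun T g t => by
    obtain ⟨i, V, c, l, h₁, h₂, h₃, h₄⟩ := hl T g t
    exact ⟨V, c, l ≫ (yon S).map (sigmaι U i), h₁, h₂, h₃, by rw [Category.assoc, hP i, h₄]⟩
  have hrep := representable_of_source_scheme hF (d i)
  obtain ⟨Q, q, s', sqQ⟩ := exists_isPullback_of_representable hrep P
  refine repWith_of_base hrep P sqQ fppfDescends_etale ((repWith_yon_map_iff _ _).2 ?_)
  rw [IsZariskiLocalAtTarget.iff_of_openCover (P := @Etale) (sigmaOpenCover _)]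
  intro j
  obtain ⟨R, t, s, sq, hs⟩ := hR i j
  let m : R ⟶ Q := (yon S).preimage (sqQ.lift ((yon S).map t) ((yon S).map (s ≫ sigmaι U j))
    (by rw [sq.w, Functor.map_comp, Category.assoc, hP j]))
  have sqm : IsPullback m s s' (sigmaι U j) := by
    apply isPullback_of_isPullback_yon
    refine IsPullback.of_right (h₁₂ := q) (h₂₂ := P) (v₁₃ := d i) ?_ ?_ sqQ
    · rw [hP j, Functor.map_preimage, sqQ.lift_fst]
      exact sq
    · rw [Functor.map_preimage, sqQ.lift_snd, Functor.map_comp]
  exact (MorphismProperty.arrow_mk_iso_iff @Etale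
    (Arrow.isoMk (isPullback_left sqm).isoPullback (Iso.refl _)
      ((IsPullback.isoPullback_hom_snd _).trans (Category.comp_id _).symm))).1 hs

/-- A family of maps from algebraic spaces with algebraic fibre products and etale projections, covering
locally, gives an algebraic space and etale maps. -/
theorem isAlgSpace_of_pullback_family {ι : Type u} (X : ι → Sp S) (hX : ∀ i, IsAlgSpace (X i))
    (f : ∀ i, X i ⟶ F) (hP : ∀ i j, IsAlgSpace (pullback (f i) (f j)))
    (hQ : ∀ i j, LocP @Etale (pullback.snd (f i) (f j)))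
    (hl : ∀ (T : Over S) (g : (yon S).obj T ⟶ F) (t : ↥T.left), ∃ (i : ι) (V : Over S) (c : V ⟶ T)
      (l : (yon S).obj V ⟶ X i), Flat c.left ∧ LocallyOfFinitePresentation c.left ∧ t ∈ Set.range c.left ∧
      l ≫ f i = (yon S).map c ≫ g) :
    IsAlgSpace F ∧ ∀ i, IsEtaleMor (f i) := by
  choose U a ae as using fun i => (hX i).atlas
  have hR : ∀ i j, ∃ (R : Over S) (t : R ⟶ U i) (s : R ⟶ U j),
      IsPullback ((yon S).map t) ((yon S).map s) (a i ≫ f i) (a j ≫ f j) ∧ Etale s.left := fun i j => by
    have hu : ∀ k, IsAlgSpace ((yon S).obj (U k)) := fun k => IsAlgSpace.yon_obj _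
    have hA := isAlgSpace_pullback' (hX i) (hu i) (hP i j) (a i) (pullback.fst (f i) (f j))
    let A := pullback (a i) (pullback.fst (f i) (f j))
    let A₂ : A ⟶ X j := pullback.snd (a i) (pullback.fst (f i) (f j)) ≫ pullback.snd (f i) (f j)
    have sqA : IsPullback (pullback.fst (a i) (pullback.fst (f i) (f j))) A₂ (a i ≫ f i) (f j) :=
      ((IsPullback.of_hasPullback (a i) (pullback.fst (f i) (f j))).flip.paste_horiz
        (IsPullback.of_hasPullback (f i) (f j)).flip).flip
    have hA₂ : LocP @Etale A₂ := EtLocal.etale.locP_comp hA (hP i j) (hX j)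
      (EtLocal.etale.locP_of_isPullback (hu i) (hX i) (hP i j) (IsPullback.of_hasPullback _ _)
        (EtLocal.locP_of_repWith .etale (hX i) (ae i))) (hQ i j)
    have hB := isAlgSpace_pullback' (hX j) hA (hu j) A₂ (a j)
    have sqB := (IsPullback.of_hasPullback A₂ (a j)).paste_horiz sqA
    have hB₂ : LocP @Etale (pullback.snd A₂ (a j)) :=
      EtLocal.etale.locP_of_isPullback hA (hX j) (hu j) (IsPullback.of_hasPullback A₂ (a j)) hA₂
    have : Mono (prod.lift (pullback.fst A₂ (a j) ≫ pullback.fst (a i) (pullback.fst (f i) (f j)))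
        (pullback.snd A₂ (a j))) :=
      ⟨fun x y h => sqB.hom_ext (by simpa only [Category.assoc, prod.lift_fst] using h =≫ prod.fst)
        (by simpa only [Category.assoc, prod.lift_snd] using h =≫ prod.snd)⟩
    obtain ⟨R, e, -⟩ := exists_scheme_of_mono_prod hB
      (pullback.fst A₂ (a j) ≫ pullback.fst (a i) (pullback.fst (f i) (f j))) (pullback.snd A₂ (a j))
      (locP_mono (fun _ _ g hg => by have : Etale g := hg; infer_instance) hB₂)
    let t : R ⟶ U i := (yon S).preimage
      (e.hom ≫ pullback.fst A₂ (a j) ≫ pullback.fst (a i) (pullback.fst (f i) (f j)))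
    let s : R ⟶ U j := (yon S).preimage (e.hom ≫ pullback.snd A₂ (a j))
    refine ⟨R, t, s, ?_, hB₂ e.hom (𝟙 _) s (repWith_iso _) (repWith_id _ _)
      (by rw [Category.comp_id, Functor.map_preimage])⟩
    refine sqB.of_iso e.symm (Iso.refl _) (Iso.refl _) (Iso.refl _) ?_ ?_ ?_ ?_ <;> simp [t, s]
  have hl' : ∀ (T : Over S) (g : (yon S).obj T ⟶ F) (t : ↥T.left), ∃ (i : ι) (V : Over S) (c : V ⟶ T)
      (l : (yon S).obj V ⟶ (yon S).obj (U i)), Flat c.left ∧ LocallyOfFinitePresentation c.left ∧
      t ∈ Set.range c.left ∧ l ≫ a i ≫ f i = (yon S).map c ≫ g := fun T g t => by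
    obtain ⟨i, V, d, l, hf, hp, ⟨v, hv⟩, hl₀⟩ := hl T g t
    obtain ⟨V', fst, e, sq⟩ := exists_isPullback_of_representable (ae i).1 l
    obtain ⟨fst, rfl⟩ := (yon S).map_surjective fst
    have : Etale e.left := (ae i).2 _ _ _ sq
    have : Surjective e.left := (as i).2 _ _ _ sq
    obtain ⟨v', rfl⟩ := e.left.surjective v
    refine ⟨i, V', e ≫ d, (yon S).map fst, inferInstanceAs (Flat (e.left ≫ d.left)),
      inferInstanceAs (LocallyOfFinitePresentation (e.left ≫ d.left)), ⟨v', ?_⟩, ?_⟩
    · rw [Over.comp_left, Scheme.Hom.comp_apply, hv]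
    · rw [← Category.assoc, sq.w, Category.assoc, hl₀, Functor.map_comp, Category.assoc]
  have hF : IsAlgSpace F := isAlgSpace_of_scheme_family U (fun i => a i ≫ f i) (fun i j => by
    obtain ⟨R, t, s, sq, hs⟩ := hR i j
    exact ⟨R, t, s, sq, inferInstance, inferInstance⟩) hl'
  refine ⟨hF, fun i => isEtaleMor_of_locP hF ?_⟩
  refine locP_of_surjective_source (C := @Etale) EtLocal.etale (fun _ _ _ h => h) EtLocal.etale ?_
    (IsAlgSpace.yon_obj (U i)) (hX i) hF (EtLocal.locP_of_repWith .etale (hX i) (ae i))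
    (fun x => by
      obtain ⟨u, hu⟩ := surjective_ofPt_of_repWith (as i) x
      exact ⟨Points.ofScheme (U i) u, by rw [← Points.ofPt_eq_map_ofScheme, hu]⟩)
    (EtLocal.locP_of_repWith .etale hF (repWith_etale_of_sigma U _ hF hR hl' i))
  exact srcDescends_mono (fun _ _ c hc => by have : Etale c := hc; exact ⟨inferInstance, inferInstance⟩)
    srcDescends_fppf_etale

end GrothLib.AlgSp
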