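import Groth.Agent.Lib.AlgSp.ElemPushoutSheaf
import Groth.Agent.Lib.AlgSp.PullbackFamily
import Groth.Agent.Lib.AlgSp.ElemDistSquare
import Groth.Agent.Lib.AlgSp.OverMapSpace
import Groth.Agent.Lib.AlgSp.RedInduced

/-!
# Pushouts of algebraic spaces along open immersions and etale morphisms

* `exists_elemDistSq_pushout`: the sheaf pushout of an open immersion and an etale morphism is an algebraic
  space, and gives an elementary distinguished square.
-/

universe u

set_option autoImplicit false
set_option backward.isDefEq.respectTransparency false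

open CategoryTheory CategoryTheory.Limits AlgebraicGeometry Opposite

namespace GrothLib.AlgSp.ElemPushout

open _root_.AlgSp

variable {S : Scheme.{u}} {U V V' W : Sp S} {jV : V' ⟶ V} {f' : V' ⟶ U} {f : V ⟶ W} {j : U ⟶ W}

/-- Equality of two points of `V` over `W` fppf locally is forced on the diagonal or on `V' ×_U V'`. -/
def LocEq (jV : V' ⟶ V) (f' : V' ⟶ U) (f : V ⟶ W) : Prop :=
  ∀ (T : Over S) (a b : (yon S).obj T ⟶ V), a ≫ f = b ≫ f → ∀ t : ↥T.left,
    ∃ (T' : Over S) (d : T' ⟶ T), Flat d.left ∧ LocallyOfFinitePresentation d.left ∧ t ∈ Set.range d.left ∧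
      ((yon S).map d ≫ a = (yon S).map d ≫ b ∨
        ∃ x y : (yon S).obj T' ⟶ V', x ≫ jV = (yon S).map d ≫ a ∧ y ≫ jV = (yon S).map d ≫ b ∧
          x ≫ f' = y ≫ f')

/-- The diagonal of `f` is an open immersion. -/
theorem repWith_diag (hV' : IsAlgSpace V') (hU : IsAlgSpace U) [Mono jV] (het : IsEtaleMor f')
    (h1 : LocEq jV f' f) : RepWith @IsOpenImmersion (pullback.diagonal f) := by
  refine repWith_mk fun T g => ?_
  let a := g ≫ pullback.fst f f
  let b := g ≫ pullback.snd f f
  let O : T.left.Opens := ⟨{t | ∃ (T' : Over S) (d : T' ⟶ T), Flat d.left ∧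
      LocallyOfFinitePresentation d.left ∧ t ∈ Set.range d.left ∧ (yon S).map d ≫ a = (yon S).map d ≫ b}, by
    refine isOpen_iff_forall_mem_open.2 ?_
    rintro t ⟨T', d, hf, hp, ht, he⟩
    exact ⟨Set.range d.left, fun t' ht' => ⟨T', d, hf, hp, ht', he⟩, d.left.isOpenMap.isOpen_range, ht⟩⟩
  let o : Over.mk (O.ι ≫ T.hom) ⟶ T := Over.homMk O.ι rfl
  have : Mono o.left := inferInstanceAs (Mono O.ι)
  have hmo : Mono o := (Over.forget S).mono_of_mono_map this
  -- `a = b` on `O`
  have hab : (yon S).map o ≫ a = (yon S).map o ≫ b := eq_of_local _ _ fun w => by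
    obtain ⟨T', d, hf, hp, ⟨v, hv⟩, he⟩ : o.left w ∈ O := w.2
    have sq := IsPullback.of_hasPullback d o
    obtain ⟨z, -, hz⟩ := Scheme.exists_preimage_of_isPullback (sq.map (Over.forget S)) v w hv
    refine ⟨pullback d o, pullback.snd d o, MorphismProperty.of_isPullback (sq.map (Over.forget S)) hf,
      MorphismProperty.of_isPullback (sq.map (Over.forget S)) hp, ⟨z, hz⟩, ?_⟩
    simp only [← Functor.map_comp_assoc, ← sq.w]
    simp only [Functor.map_comp, Category.assoc, he]
  have hl : ((yon S).map o ≫ a) ≫ pullback.diagonal f = (yon S).map o ≫ g := by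
    apply pullback.hom_ext
    · simp [a]
    · rw [Category.assoc, pullback.diagonal_snd, Category.comp_id, Category.assoc, hab]
  refine ⟨_, (yon S).map o ≫ a, o, isPullback_of_yon hl fun T₁ a₁ b₁ hw => ?_,
    inferInstanceAs (IsOpenImmersion O.ι)⟩
  obtain ⟨b₁, rfl⟩ := (yon S).map_surjective b₁
  have ha₁ : a₁ = (yon S).map b₁ ≫ a := by simpa [a] using hw =≫ pullback.fst f f
  have hb₁ : a₁ = (yon S).map b₁ ≫ b := by simpa [b] using hw =≫ pullback.snd f f
  have hrange : Set.range b₁.left ⊆ Set.range O.ι := by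
    rintro _ ⟨w, rfl⟩
    rw [Scheme.Opens.range_ι]
    have hgf : a ≫ f = b ≫ f := by simp only [a, b, Category.assoc, pullback.condition]
    obtain ⟨T', d, hf, hp, ⟨v, hv⟩, he | ⟨x, y, hx, hy, hxy⟩⟩ := h1 T a b hgf (b₁.left w)
    · exact ⟨T', d, hf, hp, ⟨v, hv⟩, he⟩
    · have hD := repWith_openImmersion_diag_of_etale hV' hU het
      obtain ⟨E, e₀, e, sqE⟩ := exists_isPullback_of_representable hD.1 (pullback.lift x y hxy)
      have : IsOpenImmersion e.left := hD.2 _ _ _ sqE
      have hx₀ : (yon S).map e ≫ x = e₀ := by simpa using (sqE.w =≫ pullback.fst f' f').symm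
      have hy₀ : (yon S).map e ≫ y = e₀ := by simpa using (sqE.w =≫ pullback.snd f' f').symm
      have sq := IsPullback.of_hasPullback d b₁
      obtain ⟨z, hz, -⟩ := Scheme.exists_preimage_of_isPullback (sq.map (Over.forget S)) v w hv
      have hp₁ : (yon S).map (pullback.fst d b₁) ≫ x = (yon S).map (pullback.fst d b₁) ≫ y := by
        rw [← cancel_mono jV, Category.assoc, Category.assoc, hx, hy, ← Functor.map_comp_assoc, sq.w,
          ← Functor.map_comp_assoc, sq.w, Functor.map_comp_assoc, Functor.map_comp_assoc, ← ha₁, ← hb₁]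
      obtain ⟨k, hk⟩ := (yon S).map_surjective (sqE.lift ((yon S).map (pullback.fst d b₁) ≫ x)
        ((yon S).map (pullback.fst d b₁)) (by apply pullback.hom_ext <;> simp [hp₁]))
      have hke : k ≫ e = pullback.fst d b₁ := (yon S).map_injective (by
        rw [Functor.map_comp, hk, sqE.lift_snd])
      refine ⟨E, e ≫ d, inferInstanceAs (Flat (e.left ≫ d.left)),
        inferInstanceAs (LocallyOfFinitePresentation (e.left ≫ d.left)), ⟨k.left z, ?_⟩, ?_⟩
      · rw [← Scheme.Hom.comp_apply, ← Over.comp_left, ← Category.assoc, hke, Over.comp_left,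
          Scheme.Hom.comp_apply]
        exact (congrArg d.left hz).trans hv
      · rw [Functor.map_comp, Category.assoc, Category.assoc, ← hx, ← hy, ← Category.assoc, ← Category.assoc,
          hx₀, hy₀]
  let k : T₁ ⟶ Over.mk (O.ι ≫ T.hom) := Over.homMk (IsOpenImmersion.lift O.ι b₁.left hrange) (by
    change IsOpenImmersion.lift O.ι b₁.left hrange ≫ O.ι ≫ T.hom = T₁.hom
    rw [← Category.assoc, IsOpenImmersion.lift_fac]
    exact Over.w b₁)
  have hk : k ≫ o = b₁ := Over.OverMorphism.ext (IsOpenImmersion.lift_fac _ _ _)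
  refine ⟨(yon S).map k, ⟨?_, by rw [← Functor.map_comp, hk]⟩, ?_⟩
  · rw [← Category.assoc, ← Functor.map_comp, hk, ha₁]
  · rintro k' ⟨-, hk'⟩
    obtain ⟨k', rfl⟩ := (yon S).map_surjective k'
    congr 1
    rw [← cancel_mono o, hk]
    exact (yon S).map_injective (by rw [Functor.map_comp]; exact hk')

/-- `V' ×_U V' ⟶ V ×_W V`. -/
noncomputable def pairMap (sq : IsPullback jV f' f j) : pullback f' f' ⟶ pullback f f :=
  pullback.lift (pullback.fst f' f' ≫ jV) (pullback.snd f' f' ≫ jV) (by
    rw [Category.assoc, Category.assoc, sq.w, pullback.condition_assoc])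

theorem repWith_pairMap (sq : IsPullback jV f' f j) [Mono j] (hj : RepWith @IsOpenImmersion jV) :
    RepWith @IsOpenImmersion (pairMap sq) := by
  let A₂ : pullback jV (pullback.fst f f) ⟶ V := pullback.snd jV (pullback.fst f f) ≫ pullback.snd f f
  have sqA : IsPullback (pullback.fst jV (pullback.fst f f)) A₂ (jV ≫ f) f :=
    ((IsPullback.of_hasPullback jV (pullback.fst f f)).flip.paste_horiz
      (IsPullback.of_hasPullback f f).flip).flip
  have sqB := (IsPullback.of_hasPullback A₂ jV).paste_horiz sqA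
  have sqK : IsPullback (pullback.fst f' f') (pullback.snd f' f') (jV ≫ f) (jV ≫ f) := by
    rw [sq.w]
    exact IsPullback.of_isLimit (PullbackCone.isLimitOfCompMono f' f' j _ (pullbackIsPullback f' f'))
  let e := sqK.isoIsPullback _ _ sqB
  have he : pairMap sq = e.hom ≫ pullback.fst A₂ jV ≫ pullback.snd jV (pullback.fst f f) := by
    apply pullback.hom_ext
    · simp only [pairMap, pullback.lift_fst, Category.assoc, ← pullback.condition]
      rw [reassoc_of% (sqK.isoIsPullback_hom_fst _ _ sqB)]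
    · simp only [pairMap, pullback.lift_snd, Category.assoc]
      rw [show pullback.fst A₂ jV ≫ pullback.snd jV (pullback.fst f f) ≫ pullback.snd f f =
        pullback.snd A₂ jV ≫ jV from pullback.condition, reassoc_of% (sqK.isoIsPullback_hom_snd _ _ sqB)]
  rw [he]
  exact repWith_comp (repWith_iso _) (repWith_comp
    (repWith_of_isPullback (IsPullback.of_hasPullback A₂ jV).flip hj)
    (repWith_of_isPullback (IsPullback.of_hasPullback jV (pullback.fst f f)) hj))

/-- The fibre square of `f` is an algebraic space with etale projection. -/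
theorem pullback_self (hV : IsAlgSpace V) (hV' : IsAlgSpace V') (hU : IsAlgSpace U) [Mono jV] [Mono j]
    (hj : RepWith @IsOpenImmersion jV) (het : IsEtaleMor f') (sq : IsPullback jV f' f j)
    (h1 : LocEq jV f' f) : IsAlgSpace (pullback f f) ∧ LocP @Etale (pullback.snd f f) := by
  let X : ULift.{u} Bool → Sp S := fun i => Bool.rec (motive := fun _ => Sp S) (pullback f' f') V i.down
  let φ : ∀ i, X i ⟶ pullback f f := fun ⟨i⟩ => match i with
    | false => pairMap sq
    | true => pullback.diagonal f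
  have hX : ∀ i, IsAlgSpace (X i) := fun ⟨i⟩ => match i with
    | false => isAlgSpace_pullback' hU hV' hV' f' f'
    | true => hV
  have hφ : ∀ i, RepWith @IsOpenImmersion (φ i) := fun ⟨i⟩ => match i with
    | false => repWith_pairMap sq hj
    | true => repWith_diag hV' hU het h1
  have hcov : ∀ (T : Over S) (g : (yon S).obj T ⟶ pullback f f) (t : ↥T.left),
      ∃ (i : ULift.{u} Bool) (T' : Over S) (d : T' ⟶ T) (l : (yon S).obj T' ⟶ X i), Flat d.left ∧
        LocallyOfFinitePresentation d.left ∧ t ∈ Set.range d.left ∧ l ≫ φ i = (yon S).map d ≫ g := by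
    intro T g t
    obtain ⟨T', d, hf, hp, ht, he | ⟨x, y, hx, hy, hxy⟩⟩ := h1 T (g ≫ pullback.fst f f) (g ≫ pullback.snd f f)
      (by simp only [Category.assoc, pullback.condition]) t
    · refine ⟨⟨true⟩, T', d, (yon S).map d ≫ g ≫ pullback.fst f f, hf, hp, ht, pullback.hom_ext ?_ ?_⟩
      · simp only [φ, Category.assoc, pullback.diagonal_fst, Category.comp_id]
      · simp only [φ, Category.assoc, pullback.diagonal_snd, Category.comp_id]
        exact he
    · refine ⟨⟨false⟩, T', d, pullback.lift x y hxy, hf, hp, ht, pullback.hom_ext ?_ ?_⟩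
      · simp only [φ, pairMap, Category.assoc, pullback.lift_fst, pullback.lift_fst_assoc, hx]
      · simp only [φ, pairMap, Category.assoc, pullback.lift_snd, pullback.lift_snd_assoc, hy]
  have hR : IsAlgSpace (pullback f f) := isAlgSpace_of_rep_family φ hX
    (fun i => repWith_mono (hφ i) fun _ _ m hm => by
      have : IsOpenImmersion m := hm
      exact ⟨inferInstance, inferInstance⟩) hcov
  have he : ∀ i, LocP @Etale (φ i) := fun i => EtLocal.locP_of_repWith .etale hR
    (repWith_mono (hφ i) fun _ _ m hm => by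
      have : IsOpenImmersion m := hm
      exact inferInstanceAs (Etale m))
  refine ⟨hR, locP_of_cover_source (C := @Etale) EtLocal.etale (fun _ _ _ h => h) EtLocal.etale
    (srcDescends_mono (fun _ _ c hc => by have : Etale c := hc; exact ⟨inferInstance, inferInstance⟩)
      srcDescends_fppf_etale) hR hV hX he (fun z => ?_) fun ⟨i⟩ => ?_⟩
  · obtain ⟨K, _, str, g, rfl⟩ := exists_ofPt z
    obtain ⟨i, T', d, l, -, -, ⟨t', ht'⟩, hl⟩ := hcov _ g (IsLocalRing.closedPoint K)
    exact ⟨i, Points.ofPt l t', by rw [Points.map_ofPt, hl, ofPt_map_comp, ht']⟩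
  · match i with
    | false =>
      change LocP @Etale (pairMap sq ≫ pullback.snd f f)
      rw [show pairMap sq ≫ pullback.snd f f = pullback.snd f' f' ≫ jV from pullback.lift_snd _ _ _]
      exact EtLocal.etale.locP_comp (hX ⟨false⟩) hV' hV
        (EtLocal.etale.locP_of_isPullback hV' hU hV' (IsPullback.of_hasPullback f' f')
          (locP_of_isEtaleMor hU het))
        (EtLocal.locP_of_repWith .etale hV (repWith_mono hj fun _ _ m hm => by
          have : IsOpenImmersion m := hm
          exact inferInstanceAs (Etale m)))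
    | true =>
      change LocP @Etale (pullback.diagonal f ≫ pullback.snd f f)
      rw [pullback.diagonal_snd]
      exact EtLocal.locP_of_repWith .etale hV (repWith_iso _)

/-- A point of `V` over the complement of `U` is not in `V'`. -/
theorem false_of_compl {Z : Sp S} {i : Z ⟶ W} (hi : Set.range (Points.map i) = (Set.range (Points.map j))ᶜ)
    {Y : Over S} (g : (yon S).obj Y ⟶ Z) (y : (yon S).obj Y ⟶ U) (h : y ≫ j = g ≫ i) (t : ↥Y.left) : False := by
  have h1 : Points.ofPt (y ≫ j) t ∈ Set.range (Points.map j) := ⟨Points.ofPt y t, Points.map_ofPt _ _ _⟩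
  have h2 : Points.ofPt (g ≫ i) t ∈ (Set.range (Points.map j))ᶜ :=
    hi ▸ ⟨Points.ofPt g t, Points.map_ofPt _ _ _⟩
  exact h2 (h ▸ h1)

/-- The pushout of an open immersion and an etale morphism gives an elementary distinguished square. -/
theorem exists_elemDistSq_pushout (hU : IsAlgSpace U) (hV : IsAlgSpace V) (hV' : IsAlgSpace V')
    (jV : V' ⟶ V) (hjV : RepWith @IsOpenImmersion jV) (f' : V' ⟶ U) (het : IsEtaleMor f') :
    ∃ (W : Sp S) (f : V ⟶ W) (j : U ⟶ W), IsAlgSpace W ∧ IsPushout jV f' f j ∧ IsPullback jV f' f j ∧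
      IsElemDistSq j f := by
  have := mono_of_openImmersion hjV
  obtain ⟨W, f, j, spo, sq, hjm, h1, h2⟩ := exists_pushout_sp jV f'
  have := hjm
  obtain ⟨hR, hR₂⟩ := pullback_self hV hV' hU hjV het sq h1
  have hje : RepWith @Etale jV := repWith_mono hjV fun _ _ m hm => by
    have : IsOpenImmersion m := hm
    exact inferInstanceAs (Etale m)
  let X : ULift.{u} Bool → Sp S := fun i => Bool.rec (motive := fun _ => Sp S) V U i.down
  let φ : ∀ i : ULift.{u} Bool, X i ⟶ W := fun i => Bool.rec (motive := fun b => X ⟨b⟩ ⟶ W) f j i.down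
  have hX : ∀ i, IsAlgSpace (X i) := fun ⟨i⟩ => match i with
    | false => hV
    | true => hU
  have hid : ∀ {A B : Sp S} (e : A ≅ B) {C : Sp S} (_ : IsAlgSpace A) (_ : IsAlgSpace C) {q : B ⟶ C}
      {p : A ⟶ C} (_ : LocP @Etale p) (_ : e.inv ≫ p = q), IsAlgSpace B ∧ LocP @Etale q :=
    fun e _ hA hC _ _ hp hq => by
      subst hq
      exact ⟨isAlgSpace_of_iso e.symm hA, EtLocal.etale.locP_comp (isAlgSpace_of_iso e.symm hA) hA hC
        (EtLocal.locP_of_repWith .etale hA (repWith_iso _)) hp⟩
  have key : ∀ i k : ULift.{u} Bool, @IsAlgSpace S (pullback (φ i) (φ k)) ∧ LocP @Etale (pullback.snd (φ i) (φ k)) := by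
    rintro ⟨i⟩ ⟨k⟩
    match i, k with
    | false, false => exact ⟨hR, hR₂⟩
    | false, true =>
      exact hid sq.isoPullback hV' hU (locP_of_isEtaleMor hU het) (sq.isoPullback_inv_snd)
    | true, false =>
      exact hid sq.flip.isoPullback hV' hV (EtLocal.locP_of_repWith .etale hV hje) sq.flip.isoPullback_inv_snd
    | true, true =>
      have : IsIso (pullback.snd j j) := inferInstance
      exact hid (asIso (pullback.snd j j)).symm hU hU (EtLocal.locP_of_repWith .etale hU (repWith_iso (𝟙 U)))
        (Category.comp_id _)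
  obtain ⟨hW, hφ⟩ := isAlgSpace_of_pullback_family X hX φ (fun i k => (key i k).1) (fun i k => (key i k).2)
    fun T g t => by
      obtain ⟨T', d, hf, hp, ht, ⟨x, hx⟩ | ⟨y, hy⟩⟩ := h2 T g t
      · exact ⟨⟨false⟩, T', d, x, hf, hp, ht, hx⟩
      · exact ⟨⟨true⟩, T', d, y, hf, hp, ht, hy⟩
  have hj : RepWith @IsOpenImmersion j :=
    repWith_openImmersion_of_etale_univInjective hU hW (hφ ⟨true⟩) (isUnivInjectiveMor_of_mono _)
  obtain ⟨Z, i, hZ, hZi⟩ := exists_isRedInduced_sp hW
    (isOpen_range_openImmersion hj).isClosed_compl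
  refine ⟨W, f, j, hW, spo, sq, hj, hφ ⟨false⟩, Z, pullback i f, i, pullback.fst i f, pullback.snd i f, hZi,
    IsPullback.of_hasPullback i f, ?_⟩
  have : Mono (pullback.fst i f) := mono_of_yon fun T x y e => pullback.hom_ext e <| eq_of_local _ _ fun t => by
    obtain ⟨T', d, hf, hp, ⟨v, hv⟩, he | ⟨p, q, hp₁, -, -⟩⟩ := h1 T (x ≫ pullback.snd i f) (y ≫ pullback.snd i f)
      (by simp only [Category.assoc, ← pullback.condition, reassoc_of% e]) t
    · exact ⟨T', d, hf, hp, ⟨v, hv⟩, he⟩
    · exact (false_of_compl hZi.2.1 ((yon S).map d ≫ x ≫ pullback.fst i f) (p ≫ f')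
        (by simp only [Category.assoc, pullback.condition, ← sq.w, reassoc_of% hp₁]) v).elim
  have : Sheaf.IsLocallySurjective (pullback.fst i f) := isLocallySurjective_of_point_lifts fun T g t => by
    obtain ⟨T', d, hf, hp, ⟨v, hv⟩, ⟨x, hx⟩ | ⟨y, hy⟩⟩ := h2 T (g ≫ i) t
    · exact ⟨T', d, pullback.lift ((yon S).map d ≫ g) x (by rw [Category.assoc, hx]), hf, hp, ⟨v, hv⟩,
        pullback.lift_fst _ _ _⟩
    · exact (false_of_compl hZi.2.1 ((yon S).map d ≫ g) y (by rw [Category.assoc, hy]) v).elim
  have : Epi (pullback.fst i f) := Sheaf.epi_of_isLocallySurjective _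
  exact isIso_of_mono_of_epi _

end GrothLib.AlgSp.ElemPushout
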