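import Mathlib.RingTheory.Etale.Basic
import Mathlib.RingTheory.RingHom.Etale
import Mathlib.RingTheory.Etale.Descent
import Mathlib.RingTheory.Spectrum.Prime.Topology
import Mathlib.RingTheory.Spectrum.Prime.Chevalley
import Mathlib.RingTheory.Flat.Localization
import Mathlib.RingTheory.Finiteness.ModuleFinitePresentation
import Groth.Prelude.Def_AlgSp2
import Groth.Agent.Lib.GrpdQuot.Free

/-!
# Etale equivalence relations of affine schemes, algebraically

* `EqvAlg A C D`: an etale equivalence relation `Spec D ⇉ Spec C` over `A` which is closed in the square.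
* `EqvAlg.etale_inv`, `EqvAlg.exists_of_agree_inv`: the quotient when `C` is finite over `A`.
* `EqvAlg.local_core`: the invariant integral elements see a clopen part which is finite over `A`.
-/

universe u

open TensorProduct

namespace GrothLib.AlgSp

/-- An etale equivalence relation on `Spec C` over `A` with arrows `Spec D`, closed in `Spec (C ⊗ C)`. -/
structure EqvAlg (A C D : Type u) [CommRing A] [CommRing C] [CommRing D] [Algebra A C] [Algebra A D] where
  σ : C →ₐ[A] D
  τ : C →ₐ[A] D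
  surj : Function.Surjective (Algebra.TensorProduct.productMap σ τ)
  etale : σ.toRingHom.Etale
  eqv : ∀ (K : Type u) [CommRing K] [Algebra A K],
    Equivalence (fun u v : C →ₐ[A] K => ∃ r : D →ₐ[A] K, r.comp σ = u ∧ r.comp τ = v)

/-- A flat algebra kills only elements supported away from the image of its spectrum. -/
theorem smul_eq_zero_of_tmul_eq_zero {C W M : Type u} [CommRing C] [CommRing W] [Algebra C W]
    [Module.Flat C W] [AddCommGroup M] [Module C M] {g : C} (hg : IsIdempotentElem g)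
    (h : (PrimeSpectrum.basicOpen g : Set (PrimeSpectrum C)) ⊆
      Set.range (PrimeSpectrum.comap (algebraMap C W)))
    {x : M} (hx : (1 : W) ⊗ₜ[C] x = 0) : g • x = 0 := by
  let I : Ideal C := LinearMap.ker (LinearMap.toSpanSingleton C M x)
  let f : C ⧸ I →ₗ[C] M := Submodule.liftQ I (LinearMap.toSpanSingleton C M x) le_rfl
  have hf : Function.Injective f := LinearMap.ker_eq_bot.1 (Submodule.ker_liftQ_eq_bot _ _ _ le_rfl)
  have h1 : (1 : W) ⊗ₜ[C] (Ideal.Quotient.mk I (1 : C)) = 0 :=
    Module.Flat.lTensor_preserves_injective_linearMap (M := W) f hf (by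
      rw [map_zero, LinearMap.lTensor_tmul]
      change (1 : W) ⊗ₜ[C] ((LinearMap.toSpanSingleton C M x) 1) = 0
      rwa [LinearMap.toSpanSingleton_apply, one_smul])
  have h2 : Ideal.map (algebraMap C W) I = ⊤ := by
    rw [Ideal.eq_top_iff_one, ← Ideal.Quotient.eq_zero_iff_mem, map_one]
    apply (Algebra.TensorProduct.quotIdealMapEquivTensorQuot W I).injective
    simpa [Algebra.TensorProduct.one_def] using h1
  have h3 : g ∈ I.radical := by
    rw [Ideal.radical_eq_sInf]
    refine Submodule.mem_sInf.2 ?_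
    rintro P ⟨hIP, hP⟩
    by_contra hgP
    obtain ⟨Q, hQ⟩ := h (show (⟨P, hP⟩ : PrimeSpectrum C) ∈ PrimeSpectrum.basicOpen g from hgP)
    refine Q.isPrime.ne_top (top_le_iff.1 (h2 ▸ Ideal.map_le_iff_le_comap.2 (hIP.trans ?_)))
    rw [show P = (PrimeSpectrum.comap (algebraMap C W) Q).asIdeal by rw [hQ]]
    rfl
  obtain ⟨n, hn⟩ := h3
  have : g ∈ I := by
    rcases n with _ | n
    · rw [pow_zero] at hn
      simpa using I.mul_mem_left g hn
    · rwa [IsIdempotentElem.pow_succ_eq n hg] at hn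
  exact LinearMap.mem_ker.1 this

/-- Ring maps out of a tensor product. -/
theorem exists_ringHom_tensor {R S T X : Type*} [CommRing R] [CommRing S] [CommRing T] [CommRing X]
    [Algebra R S] [Algebra R T] (f : S →+* X) (g : T →+* X)
    (h : ∀ r, f (algebraMap R S r) = g (algebraMap R T r)) :
    ∃ F : S ⊗[R] T →+* X, ∀ s t, F (s ⊗ₜ t) = f s * g t := by
  let _ : Algebra R X := (f.comp (algebraMap R S)).toAlgebra
  exact ⟨(Algebra.TensorProduct.productMap (⟨f, fun _ => rfl⟩ : S →ₐ[R] X)
    (⟨g, fun r => (h r).symm⟩ : T →ₐ[R] X)).toRingHom,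
    fun s t => Algebra.TensorProduct.productMap_apply_tmul _ _ s t⟩

/-- An idempotent away from which a map kills is inverted by it to one. -/
theorem map_idempotent_eq_one {C K : Type*} [CommRing C] [CommRing K] (f : C →+* K) {e : C}
    (he : IsIdempotentElem e) (h : IsUnit (f e)) : f e = 1 :=
  h.mul_left_cancel (by rw [mul_one, ← map_mul, he.eq])

namespace EqvAlg

variable {A C D : Type u} [CommRing A] [CommRing C] [CommRing D] [Algebra A C] [Algebra A D]
  (E : EqvAlg A C D)

theorem ext_hom {K : Type u} [CommRing K] [Algebra A K] {r r' : D →ₐ[A] K}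
    (h₁ : r.comp E.σ = r'.comp E.σ) (h₂ : r.comp E.τ = r'.comp E.τ) : r = r' := by
  refine AlgHom.ext fun d => ?_
  obtain ⟨x, rfl⟩ := E.surj d
  induction x with
  | zero => simp
  | tmul a b =>
    simp only [Algebra.TensorProduct.productMap_apply_tmul, map_mul]
    rw [← AlgHom.comp_apply r E.σ, ← AlgHom.comp_apply r E.τ, h₁, h₂]
    rfl
  | add x y hx hy => simp [hx, hy]

theorem exists_refl : ∃ ρ : D →ₐ[A] C, ρ.comp E.σ = AlgHom.id A C ∧ ρ.comp E.τ = AlgHom.id A C :=
  (E.eqv C).refl _

theorem exists_swap : ∃ δ : D ≃ₐ[A] D, δ.toAlgHom.comp E.σ = E.τ ∧ δ.toAlgHom.comp E.τ = E.σ := by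
  obtain ⟨δ, h₁, h₂⟩ := (E.eqv D).symm (x := E.σ) (y := E.τ) ⟨AlgHom.id A D, rfl, rfl⟩
  have : δ.comp δ = AlgHom.id A D := E.ext_hom
    (by rw [AlgHom.comp_assoc, h₁, h₂, AlgHom.id_comp]) (by rw [AlgHom.comp_assoc, h₂, h₁, AlgHom.id_comp])
  exact ⟨AlgEquiv.ofAlgHom δ δ this this, h₁, h₂⟩

theorem etale_τ : E.τ.toRingHom.Etale := by
  obtain ⟨δ, hδ, -⟩ := E.exists_swap
  rw [← hδ]
  exact RingHom.Etale.respectsIso.1 _ δ.toRingEquiv E.etale

/-- A pair of arrows with equal targets and sources composes. -/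
theorem exists_comp {K : Type u} [CommRing K] [Algebra A K] (r r' : D →ₐ[A] K)
    (h : r.comp E.τ = r'.comp E.σ) : ∃ r'' : D →ₐ[A] K, r''.comp E.σ = r.comp E.σ ∧ r''.comp E.τ = r'.comp E.τ :=
  (E.eqv K).trans (y := r.comp E.τ) ⟨r, rfl, rfl⟩ ⟨r', h.symm, rfl⟩

section Finite

variable [Module.Finite A C]

theorem finite_σ : letI := E.σ.toRingHom.toAlgebra; Module.Finite C D := by
  letI := E.σ.toRingHom.toAlgebra
  exact Module.Finite.of_surjective
    ({ toFun := Algebra.TensorProduct.productMap E.σ E.τ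
       map_add' := map_add _
       map_smul' := fun c x => by
        induction x with
        | zero => simp
        | tmul a b =>
          rw [TensorProduct.smul_tmul', RingHom.id_apply, smul_eq_mul, Algebra.smul_def (R := C) (A := D),
            Algebra.TensorProduct.productMap_apply_tmul, Algebra.TensorProduct.productMap_apply_tmul, map_mul,
            mul_assoc]
          rfl
        | add x y hx hy => rw [smul_add, map_add, hx, hy, map_add, smul_add] } :
      C ⊗[A] C →ₗ[C] D)
    E.surj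

theorem projective_σ : letI := E.σ.toRingHom.toAlgebra; Module.Projective C D := by
  letI := E.σ.toRingHom.toAlgebra
  haveI := E.finite_σ
  have he : Algebra.Etale C D := RingHom.etale_algebraMap.1 E.etale
  haveI : Module.FinitePresentation C D := Module.FinitePresentation.of_finite_of_finitePresentation _ _
  exact Module.Flat.projective_of_finitePresentation

theorem quotient_core :
    letI : Algebra (AlgHom.equalizer E.σ E.τ) D :=
      (E.τ.comp (AlgHom.equalizer E.σ E.τ).val).toRingHom.toAlgebra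
    (Module.Finite (AlgHom.equalizer E.σ E.τ) C ∧ Module.Projective (AlgHom.equalizer E.σ E.τ) C) ∧
      Function.Bijective (Algebra.TensorProduct.productMap
        ({ E.τ.toRingHom with commutes' := fun _ => rfl } : C →ₐ[AlgHom.equalizer E.σ E.τ] D)
        ({ E.σ.toRingHom with commutes' := fun c => c.2 } : C →ₐ[AlgHom.equalizer E.σ E.τ] D)) := by
  letI : Algebra C D := E.σ.toRingHom.toAlgebra
  haveI : IsScalarTower A C D := IsScalarTower.of_algebraMap_eq fun a => (E.σ.commutes a).symm
  let p : D →ₐ[A] D ⊗[C] D := (Algebra.TensorProduct.includeLeft : D →ₐ[C] D ⊗[C] D).restrictScalars A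
  let q : D →ₐ[A] D ⊗[C] D := (Algebra.TensorProduct.includeRight : D →ₐ[C] D ⊗[C] D).restrictScalars A
  have hpq : p.comp E.σ = q.comp E.σ := AlgHom.ext fun c =>
    ((Algebra.TensorProduct.includeLeft : D →ₐ[C] D ⊗[C] D).commutes c).trans
      ((Algebra.TensorProduct.includeRight : D →ₐ[C] D ⊗[C] D).commutes c).symm
  obtain ⟨p', hp'₁, hp'₂⟩ := (E.eqv (D ⊗[C] D)).symm (x := p.comp E.σ) (y := p.comp E.τ) ⟨p, rfl, rfl⟩
  obtain ⟨w, hw₁, hw₂⟩ := E.exists_comp p' q (hp'₂.trans hpq)
  rw [hp'₁] at hw₁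
  obtain ⟨ρ, hρ₁, hρ₂⟩ := E.exists_refl
  obtain ⟨δ, hδ, hδ'⟩ := E.exists_swap
  have hδδ : ∀ x, δ (δ x) = x := fun x => AlgHom.congr_fun (E.ext_hom
    (r := δ.toAlgHom.comp δ.toAlgHom) (r' := AlgHom.id A D)
    (by rw [AlgHom.comp_assoc, hδ, hδ', AlgHom.id_comp]) (by rw [AlgHom.comp_assoc, hδ', hδ, AlgHom.id_comp])) x
  -- the involution `(r, r') ↦ (r⁻¹, r' r⁻¹)`
  obtain ⟨F₀, hF₀⟩ := exists_ringHom_tensor (R := C) (p.comp δ.toAlgHom).toRingHom w.toRingHom fun c =>
    ((AlgHom.congr_fun hw₁ c).trans (congrArg p (AlgHom.congr_fun hδ c)).symm).symm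
  have hFp : ∀ x, F₀ (p x) = p (δ x) := fun x => (hF₀ x 1).trans (by simp)
  have hFq : ∀ x, F₀ (q x) = w x := fun x => (hF₀ 1 x).trans (by simp)
  let F : D ⊗[C] D →ₐ[A] D ⊗[C] D := AlgHom.mk F₀ fun a => by
    change F₀ (algebraMap A (D ⊗[C] D) a) = _
    rw [← p.commutes a, hFp, δ.commutes, p.commutes]
  replace hFp : ∀ x, F (p x) = p (δ x) := hFp
  replace hFq : ∀ x, F (q x) = w x := hFq
  have hFw : F.comp w = q := E.ext_hom
    (by rw [AlgHom.comp_assoc, hw₁, ← hpq]
        exact AlgHom.ext fun c => (hFp _).trans (congrArg p (AlgHom.congr_fun hδ' c)))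
    (by rw [AlgHom.comp_assoc, ← hw₂]
        exact AlgHom.ext fun c => (congrArg F (AlgHom.congr_fun hw₂ c)).trans (hFq _))
  have hFF : ∀ z, F (F z) = z := fun z => by
    induction z with
    | zero => rw [map_zero, map_zero]
    | tmul a b =>
      rw [show (a ⊗ₜ b : D ⊗[C] D) = p a * q b by simp [p, q], map_mul, map_mul, hFp, hFp, hδδ, hFq]
      exact congrArg (p a * ·) (AlgHom.congr_fun hFw b)
    | add x y hx hy => rw [map_add, map_add, hx, hy]
  have pos : GrpdQuot.IsPO E.σ.toRingHom E.σ.toRingHom p.toRingHom q.toRingHom :=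
    GrpdQuot.IsPO.of_algHom (RingHom.ext fun c => AlgHom.congr_fun hpq c) fun Φ hΦ => by
      have : ∀ z, Φ z = z := by
        intro z
        induction z with
        | zero => exact map_zero _
        | tmul a b => rw [hΦ]; simp [p, q]
        | add x y hx hy => rw [map_add, hx, hy]
      exact (funext this : (Φ : _ → _) = id) ▸ Function.bijective_id
  have pot : GrpdQuot.IsPO E.τ.toRingHom E.σ.toRingHom p.toRingHom w.toRingHom := by
    refine ⟨RingHom.ext fun c => (AlgHom.congr_fun hw₁ c).symm, fun y => ?_, fun φ hφ => ?_⟩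
    · rw [← hFF y]
      generalize F y = z
      induction z with
      | zero => rw [map_zero]; exact zero_mem _
      | tmul a b =>
        rw [show (a ⊗ₜ b : D ⊗[C] D) = p a * q b by simp [p, q], map_mul, hFp, hFq]
        exact AddSubgroup.subset_closure ⟨δ a, b, rfl⟩
      | add x y hx hy => rw [map_add]; exact add_mem hx hy
    · obtain ⟨ψ₀, hψ₀⟩ := pos.dual φ hφ
      refine ⟨δ.toAlgHom.toLinearMap.toAddMonoidHom.comp (ψ₀.comp F.toLinearMap.toAddMonoidHom), fun r x => ?_⟩
      change δ (ψ₀ (F (p r * w x))) = _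
      rw [map_mul, hFp, show F (w x) = q x from AlgHom.congr_fun hFw x]
      refine (congrArg δ (hψ₀ (δ r) x)).trans ?_
      rw [map_mul, hδδ]
      exact congrArg (r * ·) (AlgHom.congr_fun hδ _)
  let G : GrpdQuot.GData C D (D ⊗[C] D) :=
    { s := E.σ.toRingHom
      t := E.τ.toRingHom
      e := ρ.toRingHom
      p := p.toRingHom
      q := q.toRingHom
      w := w.toRingHom
      e_s := RingHom.ext fun c => AlgHom.congr_fun hρ₁ c
      e_t := RingHom.ext fun c => AlgHom.congr_fun hρ₂ c
      pos := pos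
      pot := pot
      qt := RingHom.ext fun c => (AlgHom.congr_fun hw₂ c).symm }
  haveI : letI := G.s.toAlgebra; Module.Finite C D := E.finite_σ
  haveI : letI := G.s.toAlgebra; Module.Projective C D := E.projective_σ
  have hsp : G.Spanned := fun y => by
    obtain ⟨x, rfl⟩ := E.surj y
    induction x with
    | zero => simp
    | tmul a b => exact AddSubgroup.subset_closure ⟨a, b, by simp [G]⟩
    | add x y hx hy => rw [map_add]; exact add_mem hx hy
  letI : Algebra (AlgHom.equalizer E.σ E.τ) D :=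
    (E.τ.comp (AlgHom.equalizer E.σ E.τ).val).toRingHom.toAlgebra
  obtain ⟨h, hb⟩ := G.finite_projective_and_bijective hsp
  exact ⟨h, hb _ fun a a' => Algebra.TensorProduct.productMap_apply_tmul _ _ a a'⟩

/-- The quotient of a finite etale equivalence relation is finite etale. -/
theorem etale_inv : (algebraMap (AlgHom.equalizer E.σ E.τ) C).Etale := by
  obtain ⟨⟨hfin, hproj⟩, hb⟩ := E.quotient_core
  haveI := hfin
  haveI := hproj
  let C₀ := AlgHom.equalizer E.σ E.τ
  letI : Algebra C₀ D := (E.τ.comp C₀.val).toRingHom.toAlgebra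
  let e := AlgEquiv.ofBijective _ hb
  have hff : (algebraMap C₀ C).FaithfullyFlat := by
    rw [RingHom.FaithfullyFlat.iff_flat_and_comap_surjective]
    refine ⟨RingHom.flat_algebraMap_iff.2 inferInstance, ?_⟩
    haveI : Algebra.IsIntegral C₀ C := Algebra.IsIntegral.of_finite _ _
    intro P
    haveI := P.isPrime
    obtain ⟨Q, -, hQ, hQP⟩ := Ideal.exists_ideal_over_prime_of_isIntegral (S := C) P.asIdeal (⊥ : Ideal C)
      (fun y hy => by rw [show y = 0 from Subtype.ext hy]; exact zero_mem _)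
    exact ⟨⟨Q, hQ⟩, PrimeSpectrum.ext hQP⟩
  refine RingHom.Etale.codescendsAlong_faithfullyFlat.algebraMap_tensorProduct (R := C₀) (S := C) (T := C)
    _ hff ?_
  have : algebraMap C (C ⊗[C₀] C) = e.symm.toRingEquiv.toRingHom.comp E.τ.toRingHom := by
    refine RingHom.ext fun c => ?_
    apply e.injective
    simp only [RingHom.comp_apply]
    erw [e.apply_symm_apply]
    change Algebra.TensorProduct.productMap _ _ (c ⊗ₜ 1) = _
    rw [Algebra.TensorProduct.productMap_apply_tmul, map_one, mul_one]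
    rfl
  rw [this]
  exact RingHom.Etale.respectsIso.1 _ e.symm.toRingEquiv E.etale_τ

/-- Two points with the same image in the quotient of a finite etale equivalence relation are related. -/
theorem exists_of_agree_inv {K : Type u} [CommRing K] [Algebra A K] (u v : C →ₐ[A] K)
    (h : ∀ x, E.σ x = E.τ x → u x = v x) :
    ∃ r : D →ₐ[A] K, r.comp E.σ = u ∧ r.comp E.τ = v := by
  obtain ⟨-, hb⟩ := E.quotient_core
  let C₀ := AlgHom.equalizer E.σ E.τ
  letI : Algebra C₀ D := (E.τ.comp C₀.val).toRingHom.toAlgebra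
  obtain ⟨Ψ, hΨ⟩ := exists_ringHom_tensor (R := C₀) v.toRingHom u.toRingHom fun c => (h c.1 c.2).symm
  let e := AlgEquiv.ofBijective _ hb
  have hσ : ∀ c, e ((1 : C) ⊗ₜ c) = E.σ c := fun c =>
    (Algebra.TensorProduct.productMap_apply_tmul _ _ (1 : C) c).trans (by rw [map_one, one_mul]; rfl)
  have hτ : ∀ c, e (c ⊗ₜ (1 : C)) = E.τ c := fun c =>
    (Algebra.TensorProduct.productMap_apply_tmul _ _ c (1 : C)).trans (by rw [map_one, mul_one]; rfl)
  let r₀ : D →+* K := Ψ.comp e.symm.toAlgHom.toRingHom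
  have hrσ : ∀ c, r₀ (E.σ c) = u c := fun c => by
    change Ψ (e.symm (E.σ c)) = u c
    rw [← hσ, e.symm_apply_apply, hΨ]
    simp
  have hrτ : ∀ c, r₀ (E.τ c) = v c := fun c => by
    change Ψ (e.symm (E.τ c)) = v c
    rw [← hτ, e.symm_apply_apply, hΨ]
    simp
  let r : D →ₐ[A] K := AlgHom.mk r₀ fun a => by
    change r₀ (algebraMap A D a) = _
    rw [← E.σ.commutes, hrσ, u.commutes]
  exact ⟨r, AlgHom.ext hrσ, AlgHom.ext hrτ⟩

end Finite

end EqvAlg

end GrothLib.AlgSp
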