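import Groth.Agent.Lib.AlgSp.EqvAlg
import Mathlib.RingTheory.Localization.Away.Basic

/-!
# The finite part of an etale equivalence relation of affine schemes

* `EqvAlg.inv`: the invariant elements integral over the base.
* `EqvAlg.local_core`: if an idempotent `e` cuts out a part of `Spec C` which is finite over the base, then the
  invariant integral elements see it: `inv → C[1/e]` is etale and separates the orbits meeting `D(e)`.
-/

universe u

open TensorProduct

namespace GrothLib.AlgSp

/-- Two field valued points with the same kernel agree in a common extension. -/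
theorem exists_common_field_of_ker {C K K' : Type u} [CommRing C] [Field K] [Field K'] (u : C →+* K) (u' : C →+* K')
    (h : RingHom.ker u = RingHom.ker u') :
    ∃ (L : Type u) (_ : Field L) (a : K →+* L) (b : K' →+* L), a.comp u = b.comp u' := by
  haveI := RingHom.ker_isPrime u
  let φ := Ideal.ResidueField.lift (RingHom.ker u) u le_rfl fun x hx =>
    isUnit_iff_ne_zero.2 fun h0 => hx (RingHom.mem_ker.2 h0)
  let φ' := Ideal.ResidueField.lift (RingHom.ker u) u' h.le fun x hx =>
    isUnit_iff_ne_zero.2 fun h0 => hx (h ▸ RingHom.mem_ker.2 h0)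
  obtain ⟨L, _, a, b, hab⟩ := _root_.AlgSp.FieldPt.exists_amalgamation φ φ'
  refine ⟨L, inferInstance, a, b, RingHom.ext fun c => ?_⟩
  have := RingHom.congr_fun hab (algebraMap C _ c)
  rw [RingHom.comp_apply, RingHom.comp_apply, Ideal.ResidueField.lift_algebraMap,
    Ideal.ResidueField.lift_algebraMap] at this
  exact this

section Away

variable {A C : Type u} [CommRing A] [CommRing C] [Algebra A C]

/-- The map to the localization at an element, over the base. -/
noncomputable def awayι (A : Type u) [CommRing A] [Algebra A C] (e : C) : C →ₐ[A] Localization.Away e :=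
  IsScalarTower.toAlgHom A C _

theorem awayι_apply (e : C) (c : C) : awayι A e c = algebraMap C (Localization.Away e) c := rfl

variable {e : C}

theorem awayι_self (he : IsIdempotentElem e) : awayι A e e = 1 :=
  map_idempotent_eq_one _ he (IsLocalization.Away.algebraMap_isUnit e)

theorem awayι_surjective (he : IsIdempotentElem e) : Function.Surjective (awayι A e) :=
  IsLocalization.Away.algebraMap_surjective_of_isIdempotentElem e he

theorem awayι_eq_zero (he : IsIdempotentElem e) {x : C} (h : awayι A e x = 0) : e * x = 0 := by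
  obtain ⟨⟨_, n, rfl⟩, hn⟩ := (IsLocalization.map_eq_zero_iff (Submonoid.powers e) _ x).1 h
  rcases n with _ | n
  · simp only [pow_zero, one_mul] at hn
    rw [hn, mul_zero]
  · simp only [IsIdempotentElem.pow_succ_eq n he] at hn
    exact hn

theorem exists_away_lift {K : Type u} [CommRing K] [Algebra A K] (f : C →ₐ[A] K) (h : IsUnit (f e)) :
    ∃ f' : Localization.Away e →ₐ[A] K, f'.comp (awayι A e) = f := by
  have hy : ∀ y : Submonoid.powers e, IsUnit (f y) := by
    rintro ⟨_, n, rfl⟩
    rw [map_pow]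
    exact h.pow n
  exact ⟨IsLocalization.liftAlgHom hy, AlgHom.ext fun c => IsLocalization.lift_eq hy c⟩

theorem away_hom_ext {K : Type u} [CommRing K] [Algebra A K] {f g : Localization.Away e →ₐ[A] K}
    (h : f.comp (awayι A e) = g.comp (awayι A e)) : f = g :=
  AlgHom.coe_ringHom_injective
    (IsLocalization.ringHom_ext (Submonoid.powers e) (RingHom.ext fun c => AlgHom.congr_fun h c))

end Away

namespace EqvAlg

variable {A C D : Type u} [CommRing A] [CommRing C] [CommRing D] [Algebra A C] [Algebra A D]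
  (E : EqvAlg A C D)

/-- The invariant elements which are integral over the base. -/
def inv : Subalgebra A C := AlgHom.equalizer E.σ E.τ ⊓ integralClosure A C

theorem mem_inv {x : C} : x ∈ E.inv ↔ E.σ x = E.τ x ∧ IsIntegral A x := Iff.rfl

/-- The restriction to the part where an idempotent is one. -/
theorem exists_restrict {e : C} (he : IsIdempotentElem e) :
    ∃ E' : EqvAlg A (Localization.Away e) (Localization.Away (E.σ e * E.τ e)),
      E'.σ.comp (awayι A e) = (awayι A (E.σ e * E.τ e)).comp E.σ ∧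
      E'.τ.comp (awayι A e) = (awayι A (E.σ e * E.τ e)).comp E.τ ∧
      ∀ (K : Type u) [CommRing K] [Algebra A K] (u v : Localization.Away e →ₐ[A] K),
        (∃ r : D →ₐ[A] K, r.comp E.σ = u.comp (awayι A e) ∧ r.comp E.τ = v.comp (awayι A e)) →
        ∃ r : Localization.Away (E.σ e * E.τ e) →ₐ[A] K, r.comp E'.σ = u ∧ r.comp E'.τ = v := by
  have hστ : IsIdempotentElem (E.σ e * E.τ e) := (he.map E.σ).mul (he.map E.τ)
  have h1 := awayι_self (A := A) hστ
  rw [map_mul] at h1
  obtain ⟨σ', hσ'⟩ := exists_away_lift ((awayι A (E.σ e * E.τ e)).comp E.σ) (e := e)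
    (IsUnit.of_mul_eq_one _ h1)
  obtain ⟨τ', hτ'⟩ := exists_away_lift ((awayι A (E.σ e * E.τ e)).comp E.τ) (e := e)
    (IsUnit.of_mul_eq_one _ ((mul_comm _ _).trans h1))
  have key : ∀ (K : Type u) [CommRing K] [Algebra A K] (u v : Localization.Away e →ₐ[A] K),
      (∃ r : D →ₐ[A] K, r.comp E.σ = u.comp (awayι A e) ∧ r.comp E.τ = v.comp (awayι A e)) ↔
      ∃ r : Localization.Away (E.σ e * E.τ e) →ₐ[A] K, r.comp σ' = u ∧ r.comp τ' = v := by
    intro K _ _ u v
    constructor
    · rintro ⟨r, h₁, h₂⟩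
      obtain ⟨r', hr'⟩ := exists_away_lift r (e := E.σ e * E.τ e) (by
        rw [map_mul, ← AlgHom.comp_apply r E.σ, ← AlgHom.comp_apply r E.τ, h₁, h₂, AlgHom.comp_apply,
          AlgHom.comp_apply, awayι_self he, map_one, map_one, mul_one]
        exact isUnit_one)
      exact ⟨r', away_hom_ext (by rw [AlgHom.comp_assoc, hσ', ← AlgHom.comp_assoc, hr', h₁]),
        away_hom_ext (by rw [AlgHom.comp_assoc, hτ', ← AlgHom.comp_assoc, hr', h₂])⟩
    · rintro ⟨r, rfl, rfl⟩
      exact ⟨r.comp (awayι A _), by rw [AlgHom.comp_assoc, ← hσ', AlgHom.comp_assoc],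
        by rw [AlgHom.comp_assoc, ← hτ', AlgHom.comp_assoc]⟩
  refine ⟨⟨σ', τ', fun x => ?_, ?_, fun K _ _ => ?_⟩, hσ', hτ', fun K _ _ u v => (key K u v).1⟩
  · obtain ⟨d, rfl⟩ := awayι_surjective (A := A) hστ x
    obtain ⟨z, rfl⟩ := E.surj d
    refine ⟨Algebra.TensorProduct.map (awayι A e) (awayι A e) z, ?_⟩
    induction z with
    | zero => simp
    | tmul a b =>
      simp only [Algebra.TensorProduct.map_tmul, Algebra.TensorProduct.productMap_apply_tmul, map_mul,
        ← AlgHom.comp_apply σ', ← AlgHom.comp_apply τ', hσ', hτ']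
      rfl
    | add x y hx hy => simp only [map_add, hx, hy]
  · letI : Algebra C D := E.σ.toRingHom.toAlgebra
    haveI : Algebra.Etale C D := RingHom.etale_algebraMap.1 E.etale
    let De := Localization.Away (E.σ e * E.τ e)
    haveI : IsScalarTower C D De := OreLocalization.instIsScalarTower
    haveI : Algebra.Etale D De := Algebra.Etale.of_isLocalizationAway (E.σ e * E.τ e)
    haveI : Algebra.Etale C De := Algebra.Etale.comp C D De
    haveI : Algebra.Etale C (Localization.Away e) := Algebra.Etale.of_isLocalizationAway e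
    letI : Algebra (Localization.Away e) De := σ'.toRingHom.toAlgebra
    haveI : IsScalarTower C (Localization.Away e) De :=
      IsScalarTower.of_algebraMap_eq fun c => (AlgHom.congr_fun hσ' c).symm
    exact RingHom.etale_algebraMap.2 (Algebra.Etale.of_restrictScalars C _ _)
  · have hE := E.eqv K
    exact
      { refl := fun u => (key K u u).1 (hE.refl _)
        symm := fun {u v} h => (key K v u).1 (hE.symm ((key K u v).2 h))
        trans := fun {u v w} h h' => (key K u w).1 (hE.trans ((key K u v).2 h) ((key K v w).2 h')) }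

/-- The invariant integral elements see a part which is finite over the base. -/
theorem local_core {e : C} (he : IsIdempotentElem e) [Module.Finite A (Localization.Away e)] :
    (((awayι A e).comp E.inv.val).toRingHom).Etale ∧
      ∀ (K : Type u) [Field K] [Algebra A K] (u v : C →ₐ[A] K), u e = 1 → (∀ x ∈ E.inv, u x = v x) →
        ∃ (L : Type u) (_ : Field L) (_ : Algebra A L) (a : K →ₐ[A] L) (r : D →ₐ[A] L),
          r.comp E.σ = a.comp u ∧ r.comp E.τ = a.comp v := by
  obtain ⟨E', hσ', hτ', hE'⟩ := E.exists_restrict he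
  obtain ⟨ρ, hρ₁, hρ₂⟩ := E.exists_refl
  obtain ⟨δ, hδ, hδ'⟩ := E.exists_swap
  let Ce := Localization.Away e
  let ι : C →ₐ[A] Ce := awayι A e
  letI : Algebra C D := E.σ.toRingHom.toAlgebra
  haveI : IsScalarTower A C D := IsScalarTower.of_algebraMap_eq fun a => (E.σ.commutes a).symm
  haveI : Algebra.Etale C D := RingHom.etale_algebraMap.1 E.etale
  let W := Localization.Away (E.τ e)
  haveI : IsScalarTower C D W := OreLocalization.instIsScalarTower
  haveI : IsScalarTower A C W := IsScalarTower.of_algebraMap_eq fun a => by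
    rw [IsScalarTower.algebraMap_apply A D W, IsScalarTower.algebraMap_apply C D W,
      IsScalarTower.algebraMap_apply A C D]
  haveI : Algebra.Etale D W := Algebra.Etale.of_isLocalizationAway (E.τ e)
  haveI : Algebra.Etale C W := Algebra.Etale.comp C D W
  let ιW : D →ₐ[A] W := awayι A (E.τ e)
  have hιW : ∀ c, algebraMap C W c = ιW (E.σ c) := fun c => IsScalarTower.algebraMap_apply C D W c
  obtain ⟨τW, hτW⟩ := exists_away_lift (ιW.comp E.τ) (e := e)
    (IsLocalization.Away.algebraMap_isUnit (E.τ e))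
  -- `W` is finite over `C`
  haveI hfin : Module.Finite C W := by
    let Φ : C ⊗[A] Ce →ₐ[C] W := Algebra.TensorProduct.lift (Algebra.ofId C W) τW fun _ _ => Commute.all _ _
    refine Module.Finite.of_surjective Φ.toLinearMap fun x => ?_
    obtain ⟨d, rfl⟩ := awayι_surjective (A := A) (he.map E.τ) x
    obtain ⟨z, rfl⟩ := E.surj d
    refine ⟨Algebra.TensorProduct.map (AlgHom.id A C) ι z, ?_⟩
    change Φ _ = _
    induction z with
    | zero => simp
    | tmul a b =>
      rw [Algebra.TensorProduct.map_tmul, Algebra.TensorProduct.productMap_apply_tmul, map_mul]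
      change algebraMap C W a * τW (ι b) = ιW (E.σ a) * ιW (E.τ b)
      rw [hιW, ← AlgHom.comp_apply τW ι, hτW]
      rfl
    | add x y hx hy => simp only [map_add, hx, hy]
  -- its image is clopen
  obtain ⟨g, hg, hgi⟩ : ∃ g : C, IsIdempotentElem g ∧
      Set.range (PrimeSpectrum.comap (algebraMap C W)) = PrimeSpectrum.basicOpen g := by
    refine PrimeSpectrum.exists_idempotent_basicOpen_eq_of_isClopen ⟨?_, ?_⟩
    · exact (PrimeSpectrum.isClosedMap_comap_of_isIntegral _
        (algebraMap_isIntegral_iff.2 (Algebra.IsIntegral.of_finite C W))).isClosed_range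
    · exact PrimeSpectrum.isOpenMap_comap_of_hasGoingDown_of_finitePresentation.isOpen_range
  have hgW : algebraMap C W g = 1 := by
    refine map_idempotent_eq_one _ hg (not_not.1 fun h => ?_)
    obtain ⟨m, hm, hgm⟩ := exists_max_ideal_of_mem_nonunits h
    exact (hgi.le ⟨⟨m, hm.isPrime⟩, rfl⟩) hgm
  have hker : ∀ {M : Type u} [AddCommGroup M] [Module C M] {x : M}, (1 : W) ⊗ₜ[C] x = 0 → g • x = 0 :=
    fun h => smul_eq_zero_of_tmul_eq_zero hg hgi.ge h
  -- the points of the saturation
  have hP₁ : ∀ (K : Type u) [Field K] [Algebra A K] (u : C →ₐ[A] K), u g = 1 →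
      ∃ (L : Type u) (_ : Field L) (_ : Algebra A L) (a : K →ₐ[A] L) (r : D →ₐ[A] L),
        r.comp E.σ = a.comp u ∧ r (E.τ e) = 1 := by
    intro K _ _ u hu
    haveI := RingHom.ker_isPrime u.toRingHom
    obtain ⟨Q, hQ⟩ := hgi.ge (show (⟨RingHom.ker u.toRingHom, inferInstance⟩ : PrimeSpectrum C) ∈
      PrimeSpectrum.basicOpen g from fun h => one_ne_zero (hu.symm.trans (RingHom.mem_ker.1 h)))
    let κ := Q.asIdeal.ResidueField
    let w : W →+* κ := algebraMap W κ
    obtain ⟨L, _, a, b, hab⟩ := exists_common_field_of_ker u.toRingHom (w.comp (algebraMap C W)) (by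
      rw [← RingHom.comap_ker, Ideal.ker_algebraMap_residueField]
      exact (congrArg PrimeSpectrum.asIdeal hQ).symm)
    letI : Algebra A L := (a.comp (algebraMap A K)).toAlgebra
    have hr : ∀ x : A, b (w (ιW (algebraMap A D x))) = algebraMap A L x := fun x => by
      rw [IsScalarTower.algebraMap_apply A C D]
      change b (w (ιW (E.σ (algebraMap A C x)))) = a (algebraMap A K x)
      rw [← hιW, ← u.commutes]
      exact (RingHom.congr_fun hab _).symm
    refine ⟨L, inferInstance, inferInstance, AlgHom.mk a fun _ => rfl,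
      AlgHom.mk ((b.comp w).comp ιW.toRingHom) hr, AlgHom.ext fun c => ?_, ?_⟩
    · change b (w (ιW (E.σ c))) = a (u c)
      rw [← hιW]
      exact (RingHom.congr_fun hab c).symm
    · change b (w (ιW (E.τ e))) = 1
      rw [show ιW (E.τ e) = 1 from awayι_self (he.map E.τ), map_one, map_one]
  have hP₂ : ∀ (K : Type u) [Field K] [Algebra A K] (r : D →ₐ[A] K), r (E.τ e) = 1 → r (E.σ g) = 1 := by
    intro K _ _ r hr
    obtain ⟨r', hr'⟩ := exists_away_lift r (e := E.τ e) (hr ▸ isUnit_one)
    rw [← AlgHom.congr_fun hr' (E.σ g), AlgHom.comp_apply]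
    change r' (ιW (E.σ g)) = 1
    rw [← hιW, hgW, map_one]
  have hστg : E.σ g = E.τ g := by
    have half : ∀ (K : Type u) [Field K] [Algebra A K] (q : D →ₐ[A] K),
        q (E.σ g) = 1 → q (E.τ g) = 1 := by
      intro K _ _ q hq
      obtain ⟨L, _, _, a, r, hr, hre⟩ := hP₁ K (q.comp E.σ) hq
      obtain ⟨r'', h₁, h₂⟩ := E.exists_comp ((a.comp q).comp δ.toAlgHom) r (by
        rw [AlgHom.comp_assoc, hδ', hr, AlgHom.comp_assoc])
      have := hP₂ L r'' (by rw [← AlgHom.comp_apply, h₂, AlgHom.comp_apply, hre])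
      rw [← AlgHom.comp_apply, h₁, AlgHom.comp_assoc, hδ] at this
      exact a.injective (this.trans (map_one a).symm)
    refine PrimeSpectrum.basicOpen_injOn_isIdempotentElem (hg.map E.σ) (hg.map E.τ) ?_
    ext Q
    let κ := Q.asIdeal.ResidueField
    letI : Algebra A κ := ((algebraMap D κ).comp (algebraMap A D)).toAlgebra
    let q : D →ₐ[A] κ := AlgHom.mk (algebraMap D κ) fun _ => rfl
    have hQ : ∀ x, IsIdempotentElem x → (Q ∈ PrimeSpectrum.basicOpen x ↔ q x = 1) := fun x hx => by
      rw [PrimeSpectrum.mem_basicOpen, ← Ideal.algebraMap_residueField_eq_zero]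
      exact ⟨fun h => map_idempotent_eq_one _ hx (isUnit_iff_ne_zero.2 h),
        fun h => ne_of_eq_of_ne h one_ne_zero⟩
    change Q ∈ PrimeSpectrum.basicOpen (E.σ g) ↔ Q ∈ PrimeSpectrum.basicOpen (E.τ g)
    rw [hQ _ (hg.map E.σ), hQ _ (hg.map E.τ)]
    refine ⟨half κ q, fun h => ?_⟩
    have hd := half κ (q.comp δ.toAlgHom) (by
      rw [AlgHom.comp_apply, ← AlgHom.comp_apply (δ.toAlgHom) E.σ, hδ]; exact h)
    rwa [AlgHom.comp_apply, ← AlgHom.comp_apply (δ.toAlgHom) E.τ, hδ'] at hd
  have hge : ι g = 1 := by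
    refine map_idempotent_eq_one ι.toRingHom hg (not_not.1 fun h => ?_)
    obtain ⟨m, hm, hgm⟩ := exists_max_ideal_of_mem_nonunits h
    let κ := m.ResidueField
    letI : Algebra A κ := ((algebraMap Ce κ).comp (algebraMap A Ce)).toAlgebra
    let q : Ce →ₐ[A] κ := AlgHom.mk (algebraMap Ce κ) fun _ => rfl
    have := hP₂ κ ((q.comp ι).comp ρ) (by
      rw [AlgHom.comp_apply, ← AlgHom.comp_apply ρ E.τ, hρ₂, AlgHom.comp_apply, AlgHom.id_apply,
        awayι_self he, map_one])
    rw [AlgHom.comp_apply, ← AlgHom.comp_apply ρ E.σ, hρ₁, AlgHom.id_apply, AlgHom.comp_apply] at this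
    exact one_ne_zero (this.symm.trans (Ideal.algebraMap_residueField_eq_zero.2 hgm))
  -- invariant elements of `C[1/e]` extend
  let C₀ := AlgHom.equalizer E'.σ E'.τ
  have hext : ∀ h ∈ C₀, ∃ a ∈ E.inv, ι a = h := by
    intro h hh
    let K := W ⊗[C] W
    let p : W →ₐ[A] K := (Algebra.TensorProduct.includeLeft : W →ₐ[C] K).restrictScalars A
    let q : W →ₐ[A] K := (Algebra.TensorProduct.includeRight : W →ₐ[C] K).restrictScalars A
    have hpq : (p.comp ιW).comp E.σ = (q.comp ιW).comp E.σ := AlgHom.ext fun c => by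
      change p (ιW (E.σ c)) = q (ιW (E.σ c))
      rw [← hιW]
      exact ((Algebra.TensorProduct.includeLeft : W →ₐ[C] K).commutes c).trans
        ((Algebra.TensorProduct.includeRight : W →ₐ[C] K).commutes c).symm
    obtain ⟨w, hw₁, hw₂⟩ := E.exists_comp ((p.comp ιW).comp δ.toAlgHom) (q.comp ιW) (by
      rw [AlgHom.comp_assoc, hδ', hpq])
    obtain ⟨w', hw'₁, hw'₂⟩ := hE' K (p.comp τW) (q.comp τW) ⟨w,
      by rw [hw₁, AlgHom.comp_assoc, hδ, AlgHom.comp_assoc, AlgHom.comp_assoc p, hτW],
      by rw [hw₂, AlgHom.comp_assoc, AlgHom.comp_assoc q, hτW]⟩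
    have hy : p (τW h) = q (τW h) := by
      rw [← AlgHom.comp_apply, ← hw'₁, ← AlgHom.comp_apply q, ← hw'₂, AlgHom.comp_apply,
        AlgHom.comp_apply, show E'.σ h = E'.τ h from hh]
    -- descend along `C → W`
    obtain ⟨a, ha⟩ : ∃ a, algebraMap C W a = τW h := by
      let R := LinearMap.range (Algebra.linearMap C W)
      have h0 : (1 : W) ⊗ₜ[C] (R.mkQ (τW h)) = 0 := by
        have := congrArg (LinearMap.lTensor W R.mkQ) hy.symm
        refine this.trans ?_
        change LinearMap.lTensor W R.mkQ (τW h ⊗ₜ (1 : W)) = 0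
        rw [LinearMap.lTensor_tmul, show R.mkQ (1 : W) = 0 from
          (Submodule.Quotient.mk_eq_zero _).2 ⟨1, map_one (algebraMap C W)⟩, TensorProduct.tmul_zero]
      have := hker h0
      rw [← map_smul, Submodule.mkQ_apply, Submodule.Quotient.mk_eq_zero, Algebra.smul_def, hgW,
        one_mul] at this
      exact this
    have hga : algebraMap C W (g * a) = τW h := by rw [map_mul, hgW, one_mul, ha]
    refine ⟨g * a, ⟨?_, ?_⟩, ?_⟩
    · -- invariance
      let K' := W ⊗[C] D
      let p' : W →ₐ[A] K' := (Algebra.TensorProduct.includeLeft : W →ₐ[C] K').restrictScalars A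
      let q' : D →ₐ[A] K' := (Algebra.TensorProduct.includeRight : D →ₐ[C] K').restrictScalars A
      have hpq' : ∀ c, p' (algebraMap C W c) = q' (E.σ c) := fun c =>
        ((Algebra.TensorProduct.includeLeft : W →ₐ[C] K').commutes c).trans
          ((Algebra.TensorProduct.includeRight : D →ₐ[C] K').commutes c).symm
      obtain ⟨w, hw₁, hw₂⟩ := E.exists_comp (q'.comp δ.toAlgHom) (p'.comp ιW) (by
        rw [AlgHom.comp_assoc, hδ']
        exact AlgHom.ext fun c => (hpq' c).symm.trans (congrArg p' (hιW c)))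
      rw [AlgHom.comp_assoc, hδ] at hw₁
      obtain ⟨wbar, hwbar⟩ := exists_away_lift w (e := E.τ e) (by
        rw [← AlgHom.comp_apply, hw₂]
        exact (IsLocalization.Away.algebraMap_isUnit (E.τ e)).map p')
      have hwτ : wbar.comp τW = p'.comp τW := away_hom_ext (by
        rw [AlgHom.comp_assoc, AlgHom.comp_assoc, hτW, ← AlgHom.comp_assoc, hwbar, hw₂, AlgHom.comp_assoc])
      have : q' (E.τ a) = q' (E.σ a) := by
        rw [← hpq', ha, ← AlgHom.comp_apply p' τW, ← hwτ, AlgHom.comp_apply, ← ha, hιW,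
          ← AlgHom.comp_apply wbar ιW, hwbar, ← AlgHom.comp_apply w E.σ, hw₁]
        rfl
      have h0 := hker (M := D) (x := E.σ a - E.τ a)
        (by rw [TensorProduct.tmul_sub, sub_eq_zero]; exact this.symm)
      rw [Algebra.smul_def, mul_sub, sub_eq_zero] at h0
      change E.σ (g * a) = E.τ (g * a)
      rw [map_mul, map_mul, ← hστg]
      exact h0
    · -- integrality
      obtain ⟨P, hP, hPh⟩ := Algebra.IsIntegral.isIntegral (R := A) h
      have hPa : g * Polynomial.aeval (g * a) P = 0 := by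
        refine hker (M := C) ((TensorProduct.rid C W).injective ?_)
        rw [map_zero, TensorProduct.rid_tmul, Algebra.smul_def, mul_one, ← Polynomial.aeval_algebraMap_apply,
          hga, Polynomial.aeval_algHom_apply]
        rw [show Polynomial.aeval h P = 0 from hPh, map_zero]
      refine ⟨Polynomial.X * P, Polynomial.monic_X.mul hP, ?_⟩
      change Polynomial.aeval (g * a) (Polynomial.X * P) = 0
      rw [map_mul, Polynomial.aeval_X, mul_comm g a, mul_assoc, mul_comm a g, hPa, mul_zero]
    · obtain ⟨ρW, hρW⟩ := exists_away_lift (ι.comp ρ) (e := E.τ e) (by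
        rw [AlgHom.comp_apply, ← AlgHom.comp_apply ρ E.τ, hρ₂]
        exact IsLocalization.Away.algebraMap_isUnit e)
      have h1 : ρW.comp τW = AlgHom.id A Ce := away_hom_ext (by
        rw [AlgHom.comp_assoc, hτW, ← AlgHom.comp_assoc, hρW, AlgHom.comp_assoc, hρ₂]
        rfl)
      have h2 : ∀ c, ρW (algebraMap C W c) = ι c := fun c => by
        rw [hιW, ← AlgHom.comp_apply ρW ιW, hρW, AlgHom.comp_apply, ← AlgHom.comp_apply ρ E.σ, hρ₁]
        rfl
      rw [← h2, hga]
      exact AlgHom.congr_fun h1 h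
  have hmem : ∀ x : E.inv, ι x ∈ C₀ := fun x => by
    change E'.σ (ι x) = E'.τ (ι x)
    rw [← AlgHom.comp_apply, hσ', ← AlgHom.comp_apply E'.τ, hτ', AlgHom.comp_apply, AlgHom.comp_apply,
      x.2.1]
  refine ⟨?_, fun K _ _ u v hu huv => ?_⟩
  · let θ : E.inv →ₐ[A] C₀ := (ι.comp E.inv.val).codRestrict C₀ hmem
    let g' : E.inv := ⟨g, hστg, ⟨Polynomial.X ^ 2 - Polynomial.X,
      Polynomial.monic_X_pow_sub (Polynomial.degree_X_le.trans_lt (by exact_mod_cast Nat.one_lt_two)), by rw [← Polynomial.aeval_def]; simp [pow_two, hg.eq]⟩⟩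
    have hg' : IsIdempotentElem g' := Subtype.ext hg.eq
    letI : Algebra E.inv C₀ := θ.toRingHom.toAlgebra
    haveI : IsLocalization.Away g' C₀ := by
      refine IsLocalization.away_of_isIdempotentElem hg' (le_antisymm (fun x hx => ?_) ?_) ?_
      · have hx0 : ι x = 0 := congrArg Subtype.val hx
        have hgx : g * (x : C) = 0 := by
          refine hker (M := C) ((TensorProduct.rid C W).injective ?_)
          rw [map_zero, TensorProduct.rid_tmul, Algebra.smul_def, mul_one, hιW, x.2.1,
            ← AlgHom.comp_apply ιW E.τ, ← hτW, AlgHom.comp_apply]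
          exact (congrArg τW hx0).trans (map_zero τW)
        refine Ideal.mem_span_singleton.2 ⟨x, Subtype.ext ?_⟩
        change (x : C) = (1 - g) * x
        rw [sub_mul, one_mul, hgx, sub_zero]
      · rw [Ideal.span_le, Set.singleton_subset_iff]
        refine Subtype.ext ?_
        change ι (1 - g) = 0
        rw [map_sub, map_one, hge, sub_self]
      · rintro ⟨y, hy⟩
        obtain ⟨a, ha, rfl⟩ := hext y hy
        exact ⟨⟨a, ha⟩, rfl⟩
    have h1 : (algebraMap E.inv C₀).Etale :=
      RingHom.etale_algebraMap.2 (Algebra.Etale.of_isLocalizationAway g')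
    exact RingHom.Etale.stableUnderComposition θ.toRingHom (algebraMap C₀ Ce) h1 E'.etale_inv
  · have hvg : v g = 1 := by
      rw [← huv g ⟨hστg, ⟨Polynomial.X ^ 2 - Polynomial.X, Polynomial.monic_X_pow_sub (Polynomial.degree_X_le.trans_lt (by exact_mod_cast Nat.one_lt_two)),
        by rw [← Polynomial.aeval_def]; simp [pow_two, hg.eq]⟩⟩]
      obtain ⟨u', hu'⟩ := exists_away_lift u (e := e) (hu ▸ isUnit_one)
      rw [← hu', AlgHom.comp_apply]
      exact (congrArg u' hge).trans (map_one u')
    obtain ⟨L, _, _, a, r, hr, hre⟩ := hP₁ K v hvg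
    obtain ⟨u', hu'⟩ := exists_away_lift (a.comp u) (e := e) (by
      rw [AlgHom.comp_apply, hu, map_one]; exact isUnit_one)
    obtain ⟨v', hv'⟩ := exists_away_lift (r.comp E.τ) (e := e) (by
      rw [AlgHom.comp_apply, hre]; exact isUnit_one)
    obtain ⟨r', h₁, h₂⟩ := E'.exists_of_agree_inv u' v' fun x hx => by
      obtain ⟨b, hb, rfl⟩ := hext x hx
      rw [← AlgHom.comp_apply u', hu', ← AlgHom.comp_apply v', hv', AlgHom.comp_apply, huv b hb,
        AlgHom.comp_apply, ← hb.1, ← AlgHom.comp_apply r E.σ, hr, AlgHom.comp_apply]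
    let r₁ : D →ₐ[A] L := r'.comp (awayι A (E.σ e * E.τ e))
    have hr₁ : r₁.comp E.σ = a.comp u ∧ r₁.comp E.τ = r.comp E.τ :=
      ⟨by rw [← hu', ← h₁, AlgHom.comp_assoc, AlgHom.comp_assoc, hσ'],
        by rw [← hv', ← h₂, AlgHom.comp_assoc, AlgHom.comp_assoc, hτ']⟩
    obtain ⟨r₂, k₁, k₂⟩ := E.exists_comp r₁ (r.comp δ.toAlgHom) (by
      rw [hr₁.2, AlgHom.comp_assoc, hδ])
    exact ⟨L, inferInstance, inferInstance, a, r₂, k₁.trans hr₁.1,
      by rw [k₂, AlgHom.comp_assoc, hδ', hr]⟩

end EqvAlg

end GrothLib.AlgSp
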