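import Groth.Agent.Lib.AlgSp.EtLocalRing
import Groth.Agent.Lib.BrnchNhd.Main
import Groth.Agent.Lib.Hensel.CompletionHens
import Groth.Agent.Lib.Hensel.Unibranch

/-!
# Branches of algebraic spaces at points

* `encard_minimalPrimes_OEtStalk`: minimal primes of the etale local ring = geometric branches of any chart.
* `encard_minimalPrimes_le_numGeomBranches`, `exists_chart_encard_eq`.
-/

universe u

set_option backward.isDefEq.respectTransparency false

open CategoryTheory CategoryTheory.Limits AlgebraicGeometry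

namespace GrothLib.AlgSp

open _root_.AlgSp

theorem encard_minimalPrimes_ringEquiv {A B : Type*} [CommRing A] [CommRing B] (e : A ≃+* B) :
    (minimalPrimes A).encard = (minimalPrimes B).encard := by
  refine BrnchNhd.encard_eq_of_bijOn (f := fun P => P.map e) ⟨fun P hP => ?_, ?_, ?_⟩
  · haveI := hP.1.1
    refine ⟨⟨Ideal.map_isPrime_of_equiv e, bot_le⟩, fun Q hQ hle => ?_⟩
    haveI := hQ.1
    have h : Q.comap e ≤ P := (Ideal.comap_mono hle).trans (le_of_eq (Ideal.comap_map_of_bijective e e.bijective))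
    have h' : P ≤ Q.comap e := hP.2 ⟨Ideal.IsPrime.comap e, bot_le⟩ h
    exact Ideal.map_le_iff_le_comap.2 h'
  · intro P _ Q _ h
    have := congrArg (Ideal.comap e) h
    simpa only [Ideal.comap_map_of_bijective e e.bijective] using this
  · intro Q hQ
    haveI := hQ.1.1
    refine ⟨Q.comap e, ⟨⟨Ideal.IsPrime.comap e, bot_le⟩, fun P hP hle => ?_⟩, Ideal.map_comap_of_surjective e e.surjective Q⟩
    haveI := hP.1
    have h : P.map e ≤ Q := Ideal.map_le_iff_le_comap.2 hle
    have h' : Q ≤ P.map e := hQ.2 ⟨Ideal.map_isPrime_of_equiv e, bot_le⟩ h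
    exact (Ideal.comap_mono h').trans (le_of_eq (Ideal.comap_map_of_bijective e e.bijective))

theorem encard_components_eq_minimalPrimes {U : Scheme.{u}} (x : U) :
    {Z : Set U | Z ∈ irreducibleComponents U ∧ x ∈ Z}.encard = (minimalPrimes ↥(U.presheaf.stalk x)).encard := by
  rw [BrnchNhd.encard_components_eq]
  let j := U.fromSpecStalk x
  let c : Spec (U.presheaf.stalk x) := IsLocalRing.closedPoint (U.presheaf.stalk x)
  have hc : j c = x := Scheme.fromSpecStalk_closedPoint
  have h1 : (BrnchNhd.maxGen c).encard = (BrnchNhd.maxGen x).encard := by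
    refine BrnchNhd.encard_eq_of_bijOn (f := j) ⟨fun ζ hζ => ?_, j.isEmbedding.injective.injOn, ?_⟩
    · have hζ1 : j ζ ⤳ x := (hζ.1.map j.continuous).trans (specializes_of_eq hc)
      refine ⟨hζ1, fun z hz => ?_⟩
      obtain ⟨z, rfl⟩ : z ∈ Set.range j := by
        rw [Scheme.range_fromSpecStalk]
        exact hz.trans hζ1
      rw [hζ.2 z (j.isEmbedding.isInducing.specializes_iff.mp hz)]
    · rintro z ⟨hz, hzm⟩
      obtain ⟨ζ, rfl⟩ : z ∈ Set.range j := by
        rw [Scheme.range_fromSpecStalk]; exact hz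
      replace hz := hz.trans (specializes_of_eq hc.symm)
      exact ⟨ζ, ⟨j.isEmbedding.isInducing.specializes_iff.mp hz,
        fun z' hz' => j.isEmbedding.injective (hzm _ (hz'.map j.continuous))⟩, rfl⟩
  rw [← h1, BrnchNhd.encard_maxGen_spec]
  congr 1
  ext P
  exact ⟨fun h => h.1, fun h => ⟨h, IsLocalRing.le_maximalIdeal h.1.1.ne_top⟩⟩

theorem one_le_encard_minimalPrimes (A : Type*) [CommRing A] [Nontrivial A] : 1 ≤ (minimalPrimes A).encard := by
  obtain ⟨m, hm⟩ := Ideal.exists_maximal A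
  obtain ⟨P, hP, -⟩ := Ideal.exists_minimalPrimes_le (I := (⊥ : Ideal A)) (J := m) bot_le
  exact Set.one_le_encard_iff_nonempty.2 ⟨P, hP⟩

variable {S : Scheme.{u}} (X : Space S)

theorem encard_minimalPrimes_OEtStalk (p : FieldPt X.obj) (hp : p.IsGeometric) {U : Over S}
    (a : (yon S).obj U ⟶ X.obj) (ha : RepWith @Etale a) (x : ↥U.left) (hx : Points.ofPt a x = Points.mk p) :
    (minimalPrimes ↥(OEtStalk p)).encard = Brnch.numGeomBranchesAt U.left x := by
  obtain ⟨e⟩ := exists_ringEquiv_strictHens_of_chart X p hp a ha x hx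
  rw [encard_minimalPrimes_ringEquiv e]
  exact Hensel.IsStrictHenselization.card_minimalPrimes (A := ↥(U.left.presheaf.stalk x)) (S := Hensel.StrictHens ↥(U.left.presheaf.stalk x))

theorem numGeomBranchesAt_eq_of_ofPt_eq {U U' : Over S} (a : (yon S).obj U ⟶ X.obj) (ha : RepWith @Etale a) (x : ↥U.left)
    (a' : (yon S).obj U' ⟶ X.obj) (ha' : RepWith @Etale a') (x' : ↥U'.left)
    (h : Points.ofPt a x = Points.ofPt a' x') :
    Brnch.numGeomBranchesAt U.left x = Brnch.numGeomBranchesAt U'.left x' := by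
  obtain ⟨p, hp, -, -, hpx⟩ := exists_geometric_liftsTo (EtOver.mk a ha) x
  rw [← encard_minimalPrimes_OEtStalk X p hp a ha x hpx.symm,
    encard_minimalPrimes_OEtStalk X p hp a' ha' x' (h.symm.trans hpx.symm)]

theorem encard_minimalPrimes_le_numGeomBranchesAt {U : Scheme.{u}} (x : U) :
    (minimalPrimes ↥(U.presheaf.stalk x)).encard ≤ Brnch.numGeomBranchesAt U x := by
  rw [BrnchNhd.numGeomBranchesAt_eq, ← encard_components_eq_minimalPrimes]
  exact le_iSup_of_le U (le_iSup_of_le (𝟙 U) (le_iSup_of_le x (le_iSup_of_le ⟨inferInstance, rfl⟩ le_rfl)))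

/-- A bound on the minimal primes of all charts bounds the geometric branches. -/
theorem numGeomBranchesAt_le {U : Over S} (a : (yon S).obj U ⟶ X.obj) (ha : RepWith @Etale a) (x : ↥U.left) (n : ℕ∞)
    (h : ∀ (U' : Over S) (a' : (yon S).obj U' ⟶ X.obj) (x' : ↥U'.left), RepWith @Etale a' →
      Points.ofPt a' x' = Points.ofPt a x → (minimalPrimes ↥(U'.left.presheaf.stalk x')).encard ≤ n) :
    Brnch.numGeomBranchesAt U.left x ≤ n := by
  rw [BrnchNhd.numGeomBranchesAt_eq]
  refine iSup_le fun W => iSup_le fun g => iSup_le fun w => iSup_le fun hw => ?_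
  rw [encard_components_eq_minimalPrimes]
  obtain ⟨hg, hgw⟩ := hw
  let g' : Over.mk (g ≫ U.hom) ⟶ U := Over.homMk g rfl
  refine h (Over.mk (g ≫ U.hom)) ((yon S).map g' ≫ a) w (repWith_comp ((repWith_yon_map_iff _ _).2 hg) ha) ?_
  rw [ofPt_map_comp]
  exact congrArg (Points.ofPt a) hgw

/-- The number of geometric branches is attained on some chart. -/
theorem exists_chart_encard_eq {U : Over S} (a : (yon S).obj U ⟶ X.obj) (ha : RepWith @Etale a) (x : ↥U.left) (n : ℕ)
    (hn : 1 ≤ n) (h : Brnch.numGeomBranchesAt U.left x = n) :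
    ∃ (U' : Over S) (a' : (yon S).obj U' ⟶ X.obj) (x' : ↥U'.left), RepWith @Etale a' ∧
      Points.ofPt a' x' = Points.ofPt a x ∧ (minimalPrimes ↥(U'.left.presheaf.stalk x')).encard = n := by
  by_contra hc
  push Not at hc
  obtain ⟨m, rfl⟩ : ∃ m, n = m + 1 := ⟨n - 1, by omega⟩
  have h2 : Brnch.numGeomBranchesAt U.left x ≤ (m : ℕ∞) := numGeomBranchesAt_le X a ha x _ fun U' a' x' ha' hx' => by
    have hle : (minimalPrimes ↥(U'.left.presheaf.stalk x')).encard ≤ ((m + 1 : ℕ) : ℕ∞) := by
      rw [← h, ← numGeomBranchesAt_eq_of_ofPt_eq X a' ha' x' a ha x hx']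
      exact encard_minimalPrimes_le_numGeomBranchesAt x'
    have hlt : (minimalPrimes ↥(U'.left.presheaf.stalk x')).encard < (m : ℕ∞) + 1 := by
      have := lt_of_le_of_ne hle (hc U' a' x' ha' hx')
      exact_mod_cast this
    exact (ENat.lt_coe_add_one_iff).1 hlt
  rw [h] at h2
  exact absurd (ENat.coe_le_coe.1 h2) (by omega)

end GrothLib.AlgSp
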