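import Groth.Agent.Lib.AlgSp.EtQsClass
import Groth.Agent.Lib.FibPow.Atlas
import Groth.Agent.Lib.ColimCoh.Abstract
import Groth.Agent.Lib.AlgSp.LimitDesc

/-!
# Cohomology of quasi-compact quasi-separated spaces commutes with filtered colimits

* `prodPow`; `exists_atlas_pow`; `gen_and_kill_et`; `preservesColimitsOfShape_hEtF`.
-/

universe u

open CategoryTheory CategoryTheory.Limits CategoryTheory.Abelian AlgebraicGeometry Opposite
set_option backward.isDefEq.respectTransparency false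

noncomputable section

namespace GrothLib.AlgSp.QCohEt

open _root_.AlgSp
open GrothLib GrothLib.AlgSp

variable {S : Scheme.{u}} {X : Sp S}

/-- Iterated products. -/
def powData (E₀ : EtOver X) : ∀ n : ℕ, Σ P : EtOver X, Fin (n + 1) → (P ⟶ E₀)
  | 0 => ⟨E₀, fun _ => 𝟙 E₀⟩
  | n + 1 => ⟨EtOver.prodObj (powData E₀ n).1 E₀,
      Fin.cases (EtOver.prodSnd _ _) fun i => EtOver.prodFst _ _ ≫ (powData E₀ n).2 i⟩

theorem powData_lift (E₀ : EtOver X) : ∀ (n : ℕ) {W : EtOver X} (a : Fin (n + 1) → (W ⟶ E₀)),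
    ∃ l : W ⟶ (powData E₀ n).1, ∀ i, l ≫ (powData E₀ n).2 i = a i := by
  intro n
  induction n with
  | zero => exact fun a => ⟨a 0, fun i => (Category.comp_id _).trans (congrArg a (Fin.fin_one_eq_zero i).symm)⟩
  | succ n ih =>
    intro W a
    obtain ⟨g, hg⟩ := ih fun i => a i.succ
    obtain ⟨l, h1, h2⟩ := BinaryFan.IsLimit.lift' (EtOver.prodIsLimit (powData E₀ n).1 E₀) g (a 0)
    change (l : W ⟶ EtOver.prodObj (powData E₀ n).1 E₀) ≫ EtOver.prodFst _ _ = g at h1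
    change (l : W ⟶ EtOver.prodObj (powData E₀ n).1 E₀) ≫ EtOver.prodSnd _ _ = a 0 at h2
    refine ⟨l, fun i => ?_⟩
    cases i using Fin.cases with
    | zero => exact h2
    | succ i =>
      show (l : W ⟶ EtOver.prodObj (powData E₀ n).1 E₀) ≫ EtOver.prodFst _ _ ≫ (powData E₀ n).2 i = a i.succ
      rw [← Category.assoc, h1, hg]

theorem powData_hom_ext (E₀ : EtOver X) : ∀ (n : ℕ) {W : EtOver X} (l l' : W ⟶ (powData E₀ n).1),
    (∀ i, l ≫ (powData E₀ n).2 i = l' ≫ (powData E₀ n).2 i) → l = l' := by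
  intro n
  induction n with
  | zero => exact fun l l' h => (Category.comp_id l).symm.trans ((h 0).trans (Category.comp_id l'))
  | succ n ih =>
    intro W l l' h
    refine BinaryFan.IsLimit.hom_ext (EtOver.prodIsLimit (powData E₀ n).1 E₀) ?_ (h 0)
    exact ih _ _ fun i => (Category.assoc _ _ _).trans ((h i.succ).trans (Category.assoc _ _ _).symm)

/-- The powers of an object. -/
def prodPow (E₀ : EtOver X) : ProdPow E₀ where
  P n := (powData E₀ n).1
  π n := (powData E₀ n).2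
  exists_lift n a := powData_lift E₀ n a
  hom_ext n l l' h := powData_hom_ext E₀ n l l' h

theorem isQcqsObj_prodPow [QuasiSeparatedSpace ↥S] (hqs : IsQuasiSeparatedSp X) (E₀ : EtOver X)
    (h₀ : IsQcqsObj E₀) : ∀ n, IsQcqsObj ((prodPow E₀).P n) := by
  intro n
  induction n with
  | zero => exact h₀
  | succ n ih => exact isQcqsObj_prod hqs ih h₀

theorem exists_atlas_pow [QuasiSeparatedSpace ↥S] (hX : IsAlgSpace X) (hqc : IsQuasiCompactSp X)
    (hqs : IsQuasiSeparatedSp X) :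
    ∃ E₀ : EtOver X, (∀ n, (qsCover X).B ((prodPow E₀).P n)) ∧ ∀ W : EtOver X, ∃ (W' : EtOver X) (c : W' ⟶ W),
      Nonempty (W' ⟶ E₀) ∧ Sieve.generate (Presieve.singleton c) ∈ etTop X W := by
  obtain ⟨U, a, hU, ae, as⟩ := exists_affine_atlas_of_qc hqc
  let E₀ : EtOver X := EtOver.mk a ae
  haveI : IsAffine E₀.obj.left.left := hU
  refine ⟨E₀, isQcqsObj_prodPow hqs E₀ (isQcqsObj_of_isAffine E₀), fun W => ?_⟩
  obtain ⟨R, c, d, -, hc⟩ := exists_prod_obj hX W E₀ as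
  refine ⟨R, c, ⟨d⟩, ?_⟩
  have : Sieve.ofArrows (fun _ : PUnit.{u + 1} => R) (fun _ => c) ∈ etTop X W :=
    ofArrows_mem_etTop _ _ fun y => ⟨⟨⟩, hc.surj y⟩
  rwa [Sieve.ofArrows, Presieve.ofArrows_pUnit] at this

section Colim

variable {I : Type (u + 1)} [SmallCategory I] [IsFiltered I] [QuasiSeparatedSpace ↥S]

theorem sections_qcqs (D : I ⥤ AbEt X) {E : EtOver X} (hE : IsQcqsObj E) :
    (∀ t : (colimit D).obj.obj (op E), ∃ (i : I) (x : (D.obj i).obj.obj (op E)),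
      (colimit.ι D i).hom.app (op E) x = t) ∧
    (∀ (i : I) (x : (D.obj i).obj.obj (op E)), (colimit.ι D i).hom.app (op E) x = 0 →
      ∃ (j : I) (f : i ⟶ j), (D.map f).hom.app (op E) x = 0) := by
  haveI := hE.1
  haveI := hE.2
  exact GrothLib.AlgSp.EtColim.sections_colimit_et (colimit.isColimit D) E

theorem vanishes_colimit (D : I ⥤ AbEt X) {P : ℕ → EtOver X} (hP : ∀ n, IsQcqsObj (P n))
    (d : ∀ (G : (EtOver X)ᵒᵖ ⥤ AddCommGrpCat.{u + 1}) (n : ℕ), G.obj (op (P n)) ⟶ G.obj (op (P (n + 1))))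
    (hnat : ∀ {G G' : (EtOver X)ᵒᵖ ⥤ AddCommGrpCat.{u + 1}} (φ : G ⟶ G') (n : ℕ) (x : G.obj (op (P n))),
      φ.app (op (P (n + 1))) (d G n x) = d G' n (φ.app (op (P n)) x))
    (hinj : ∀ (i : I) (n : ℕ) (c : (D.obj i).obj.obj (op (P (n + 1)))), d (D.obj i).obj (n + 1) c = 0 →
      ∃ b, d (D.obj i).obj n b = c)
    (n : ℕ) (c : (colimit D).obj.obj (op (P (n + 1)))) (hc : d (colimit D).obj (n + 1) c = 0) :
    ∃ b, d (colimit D).obj n b = c := by
  obtain ⟨i, x, hx⟩ := (sections_qcqs D (hP (n + 1))).1 c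
  obtain ⟨j, f, hf⟩ := (sections_qcqs D (hP (n + 2))).2 i (d (D.obj i).obj (n + 1) x) (by rw [hnat, hx, hc])
  obtain ⟨b, hb⟩ := hinj j n ((D.map f).hom.app (op (P (n + 1))) x) (by rw [← hnat, hf])
  refine ⟨(colimit.ι D j).hom.app (op (P n)) b, ?_⟩
  rw [← hnat, hb, ← hx]
  exact ConcreteCategory.congr_hom (congrArg (fun q : D.obj i ⟶ colimit D => q.hom.app (op (P (n + 1))))
    (colimit.w D f)) x

theorem atlasAcyclic_colimit (E₀ : EtOver X) (hB : ∀ n, (qsCover X).B ((prodPow E₀).P n)) (D : I ⥤ AbEt X)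
    (hD : ∀ i, Injective (D.obj i)) :
    FibPow.AtlasAcyclic (qsCover X) (prodPow E₀) (colimit D) := by
  refine ⟨fun T Y f E hf => ?_, ?_⟩
  · refine vanishes_colimit D ((qsCover X).mem f E hf) (fun G n => E.d G n) (fun φ n x => E.d_naturality _ φ n x) fun i => ?_
    haveI := hD i
    exact (qsCover X).acyclic_of_injective (D.obj i) f E hf
  · refine vanishes_colimit D hB (fun G n => (prodPow E₀).d G n) (fun φ n x => (prodPow E₀).d_naturality _ φ n x)
      fun i => ?_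
    haveI := hD i
    exact (FibPow.atlasAcyclic_of_injective (qsCover X) (prodPow E₀) (D.obj i)).2

/-- The constant sheaf of integers. -/
abbrev Zc (X : Sp S) : AbEt X :=
  (constantSheaf (etTop X) AddCommGrpCat.{u + 1}).obj (AddCommGrpCat.of (ULift.{u + 1} ℤ))

theorem sections_gen_kill (E₀ : EtOver X) (hB : ∀ n, (qsCover X).B ((prodPow E₀).P n))
    (hcov : ∀ W : EtOver X, ∃ (W' : EtOver X) (c : W' ⟶ W),
      Nonempty (W' ⟶ E₀) ∧ Sieve.generate (Presieve.singleton c) ∈ etTop X W)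
    (D : I ⥤ AbEt X) : ColimCoh.Gen (Zc X) 0 D ∧ ColimCoh.Kill (Zc X) 0 D := by
  refine ⟨fun x => ?_, fun i y hy => ?_⟩
  · obtain ⟨φ, rfl⟩ := (Ext.mk₀_bijective (Zc X) (colimit D)).2 x
    obtain ⟨i, r, hr⟩ := (sections_qcqs D (hB 0)).1 (FibPow.evAtlas.{u + 1} (prodPow E₀) φ)
    obtain ⟨j, f, hf⟩ := (sections_qcqs D (hB 1)).2 i ((prodPow E₀).d (D.obj i).obj 0 r) (by
      rw [(prodPow E₀).d_naturality, hr, FibPow.d_evAtlas.{u + 1}])
    obtain ⟨ψ, hψ⟩ := FibPow.exists_evAtlas_eq.{u + 1} (prodPow E₀) hcov ((D.map f).hom.app (op ((prodPow E₀).P 0)) r)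
      (by rw [← (prodPow E₀).d_naturality, hf])
    refine ⟨j, Ext.mk₀ ψ, (Ext.mk₀_comp_mk₀ ψ _).trans (congrArg Ext.mk₀ ?_)⟩
    refine FibPow.evAtlas_injective.{u + 1} (prodPow E₀) hcov _ ?_
    rw [FibPow.evAtlas_comp.{u + 1}, hψ, ← hr]
    exact ConcreteCategory.congr_hom (congrArg (fun q : D.obj i ⟶ colimit D => q.hom.app (op ((prodPow E₀).P 0)))
      (colimit.w D f)) r
  · obtain ⟨y, rfl⟩ := (Ext.mk₀_bijective (Zc X) (D.obj i)).2 y
    rw [Ext.mk₀_comp_mk₀, Ext.mk₀_eq_zero_iff] at hy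
    have h0 : ∀ G : AbEt X, FibPow.evAtlas.{u + 1} (prodPow E₀) (0 : Zc X ⟶ G) = 0 := fun G => by
      have h := FibPow.evAtlas_comp.{u + 1} (prodPow E₀) (0 : Zc X ⟶ G) (0 : G ⟶ G)
      rw [zero_comp] at h
      exact h
    obtain ⟨j, f, hf⟩ := (sections_qcqs D (hB 0)).2 i (FibPow.evAtlas.{u + 1} (prodPow E₀) y) (by
      rw [← FibPow.evAtlas_comp.{u + 1}, hy, h0])
    refine ⟨j, f, ?_⟩
    rw [Ext.mk₀_comp_mk₀, Ext.mk₀_eq_zero_iff]
    refine FibPow.evAtlas_injective.{u + 1} (prodPow E₀) hcov _ ?_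
    rw [FibPow.evAtlas_comp.{u + 1}, hf, h0]

/-- Cohomology of a quasi-compact quasi-separated space commutes with filtered colimits, in concrete form. -/
theorem gen_and_kill_et (hX : IsAlgSpace X) (hqc : IsQuasiCompactSp X) (hqs : IsQuasiSeparatedSp X)
    (D : I ⥤ AbEt X) (p : ℕ) : ColimCoh.Gen (Zc X) p D ∧ ColimCoh.Kill (Zc X) p D := by
  obtain ⟨E₀, hB, hcov⟩ := exists_atlas_pow hX hqc hqs
  exact ColimCoh.gen_and_kill (A := AbEt X) (Zc X) (fun F => sections_gen_kill E₀ hB hcov F)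
    (fun F hF q => FibPow.subsingleton_H_of_atlas (qsCover X) (prodPow E₀) hB hcov q (colimit F)
      (atlasAcyclic_colimit E₀ hB F hF)) p D

/-- Cohomology of a quasi-compact quasi-separated space commutes with filtered colimits. -/
theorem preservesColimitsOfShape_hEtF (hX : IsAlgSpace X) (hqc : IsQuasiCompactSp X)
    (hqs : IsQuasiSeparatedSp X) (n : ℕ) : PreservesColimitsOfShape I (HEtF X n) := by
  refine ⟨fun {D} => preservesColimit_of_preserves_colimit_cocone (colimit.isColimit D) ?_⟩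
  obtain ⟨hg, hk⟩ := gen_and_kill_et hX hqc hqs D n
  let Φ := HEtF X n
  have : ReflectsColimit (D ⋙ Φ) (forget AddCommGrpCat.{u + 1}) :=
    reflectsColimit_of_reflectsIsomorphisms _ _
  apply isColimitOfReflects (forget AddCommGrpCat.{u + 1})
  refine Types.FilteredColimit.isColimitOf _ _ (fun x => ?_) (fun i j xi xj h => ?_)
  · obtain ⟨i, y, hy⟩ := hg x
    exact ⟨i, y, hy.symm⟩
  · let k := IsFiltered.max i j
    let a : i ⟶ k := IsFiltered.leftToMax i j
    let b : j ⟶ k := IsFiltered.rightToMax i j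
    let d : Φ.obj (D.obj k) := (Φ.map (D.map a)).hom xi - (Φ.map (D.map b)).hom xj
    have hd : (Φ.map (colimit.ι D k)).hom d = 0 := by
      rw [map_sub, ← ConcreteCategory.comp_apply, ← ConcreteCategory.comp_apply, ← Φ.map_comp,
        ← Φ.map_comp, colimit.w, colimit.w, sub_eq_zero]
      exact h
    obtain ⟨l, g, hl⟩ := hk k d hd
    refine ⟨l, a ≫ g, b ≫ g, ?_⟩
    have h0 : (Φ.map (D.map g)).hom d = 0 := hl
    rw [map_sub, sub_eq_zero, ← ConcreteCategory.comp_apply, ← ConcreteCategory.comp_apply,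
      ← Φ.map_comp, ← Φ.map_comp, ← D.map_comp, ← D.map_comp] at h0
    exact h0

end Colim

end GrothLib.AlgSp.QCohEt
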