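import Groth.Agent.Lib.AlgSp.EtStalk
import Groth.Agent.Lib.EtDer.EtLocalHens
import Groth.Agent.Lib.GeomFact.Transport
import Mathlib.Algebra.Category.Ring.FilteredColimits
import Groth.Agent.Lib.Hensel.Dim
import Groth.Agent.Lib.Hensel.Reduced
import Groth.Agent.Lib.Hensel.Regular
import Groth.Agent.Lib.Hensel.Noetherian

/-!
# Etale local rings of algebraic spaces

* `exists_ringEquiv_etaleLocalRing`: the etale local ring at a geometric point is the scheme-theoretic one of any chart
  through which the point lifts.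
* `exists_isStrictHenselization_stalk`: it is a strict henselization of the local ring of the chart at the lifted point.
-/

universe u

set_option backward.isDefEq.respectTransparency false

open CategoryTheory CategoryTheory.Limits AlgebraicGeometry Opposite

noncomputable section

namespace GrothLib.AlgSp

open _root_.AlgSp

instance hasColimitsOfSize_commRingCat_succ : HasColimitsOfSize.{u, u} CommRingCat.{u + 1} :=
  hasColimitsOfSizeShrink.{u, u, u + 1, u + 1} _

instance preservesFiltered_forget_commRingCat_succ :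
    PreservesFilteredColimitsOfSize.{u, u} (forget CommRingCat.{u + 1}) := by
  haveI : PreservesFilteredColimitsOfSize.{u + 1, u + 1} (forget CommRingCat.{u + 1}) := inferInstance
  exact preservesFilteredColimitsOfSize_of_univLE.{u + 1, u + 1, u, u} (forget CommRingCat.{u + 1})

variable {S : Scheme.{u}}

namespace StalkCompare

variable (X : Space S) (p : FieldPt X.obj) (hp : p.IsGeometric) [IsSepClosed p.K] (E : EtOver X.obj)
  (l : (FieldPt.liftsTo p).obj E)

/-- The geometric point of the chart. -/
abbrev chartPt : Spec (CommRingCat.of p.K) ⟶ E.obj.left.left := l.1.left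

/-- A neighbourhood pulled back to the chart. -/
def pull (U : EtOver X.obj) : E.obj.left.left.Etale :=
  haveI : Etale (EtOver.prodFst E U).hom.left.left := EtOver.etale_left _
  Scheme.Etale.mk (EtOver.prodFst E U).hom.left.left

/-- The lift of the point to a pulled back neighbourhood. -/
def pullLift (U : EtOver X.obj) (u : (FieldPt.liftsTo p).obj U) : p.pt ⟶ (EtOver.prodObj E U).obj.left :=
  U.property.1.lift' u.1 l.1 (u.2.trans l.2.symm)

theorem pullLift_fst (U : EtOver X.obj) (u : (FieldPt.liftsTo p).obj U) :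
    pullLift X p E l U u ≫ (EtOver.prodFst E U).hom.left = l.1 :=
  Functor.relativelyRepresentable.lift'_snd _ _ _ _

theorem pullLift_snd (U : EtOver X.obj) (u : (FieldPt.liftsTo p).obj U) :
    pullLift X p E l U u ≫ (EtOver.prodSnd E U).hom.left = u.1 :=
  Functor.relativelyRepresentable.lift'_fst _ _ _ _

theorem pullLift_unique (U : EtOver X.obj) (u : (FieldPt.liftsTo p).obj U) (m : p.pt ⟶ (EtOver.prodObj E U).obj.left)
    (h₁ : m ≫ (EtOver.prodFst E U).hom.left = l.1) (h₂ : m ≫ (EtOver.prodSnd E U).hom.left = u.1) :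
    m = pullLift X p E l U u :=
  Functor.relativelyRepresentable.hom_ext' _ (h₂.trans (pullLift_snd X p E l U u).symm)
    (h₁.trans (pullLift_fst X p E l U u).symm)

/-- The point of the pulled back neighbourhood. -/
def pullPt (U : EtOver X.obj) (u : (FieldPt.liftsTo p).obj U) :
    (Scheme.pointSmallEtale (chartPt X p E l)).fiber.obj (pull X E U) :=
  EtSite.fib (chartPt X p E l) (U := pull X E U) (pullLift X p E l U u).left
    (congrArg CommaMorphism.left (pullLift_fst X p E l U u))

/-- The comparison on one neighbourhood. -/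
def compHom (U : EtOver X.obj) (u : (FieldPt.liftsTo p).obj U) :
    ↥((OEt X.obj).obj.obj (op U)) →+* ↥(EtBase.etaleLocalRing (chartPt X p E l)) :=
  (EtDer.EtLocal.grm (chartPt X p E l) (pull X E U) (pullPt X p E l U u)).comp
    ((EtOver.prodSnd E U).hom.left.left.appTop.hom.comp (ULift.ringEquiv (R := Γ(U.obj.left.left, ⊤))).toRingHom)

theorem compHom_map {U V : EtOver X.obj} (g : U ⟶ V) (u : (FieldPt.liftsTo p).obj U)
    (s : ↥((OEt X.obj).obj.obj (op V))) :
    compHom X p E l U u ((OEt X.obj).obj.map g.op s) =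
      compHom X p E l V ((FieldPt.liftsTo p).map g u) s := by
  let h : EtOver.prodObj E U ⟶ EtOver.prodObj E V :=
    (EtOver.prodIsLimit E V).lift (BinaryFan.mk (EtOver.prodFst E U) (EtOver.prodSnd E U ≫ g))
  have h₁ : h ≫ EtOver.prodFst E V = EtOver.prodFst E U :=
    (EtOver.prodIsLimit E V).fac _ ⟨WalkingPair.left⟩
  have h₂ : h ≫ EtOver.prodSnd E V = EtOver.prodSnd E U ≫ g :=
    (EtOver.prodIsLimit E V).fac _ ⟨WalkingPair.right⟩
  have h₁' : h.hom.left ≫ (EtOver.prodFst E V).hom.left = (EtOver.prodFst E U).hom.left :=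
    congrArg (fun k => k.hom.left) h₁
  have h₂' : h.hom.left ≫ (EtOver.prodSnd E V).hom.left = (EtOver.prodSnd E U).hom.left ≫ g.hom.left :=
    congrArg (fun k => k.hom.left) h₂
  let hW : pull X E U ⟶ pull X E V := MorphismProperty.Over.homMk h.hom.left.left
    (congrArg CommaMorphism.left h₁')
  have e : pullLift X p E l U u ≫ h.hom.left = pullLift X p E l V ((FieldPt.liftsTo p).map g u) := by
    refine pullLift_unique X p E l V _ _ ?_ ?_
    · rw [Category.assoc, h₁']
      exact pullLift_fst X p E l U u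
    · rw [Category.assoc, h₂', ← Category.assoc, pullLift_snd]
      rfl
  have ht : (Scheme.pointSmallEtale (chartPt X p E l)).fiber.map hW (pullPt X p E l U u) =
      pullPt X p E l V ((FieldPt.liftsTo p).map g u) :=
    Over.OverMorphism.ext (congrArg CommaMorphism.left e :)
  have e2 : (EtOver.prodSnd E U).hom.left.left.appTop.hom (g.hom.left.left.appTop.hom s.down) =
      hW.left.appTop.hom ((EtOver.prodSnd E V).hom.left.left.appTop.hom s.down) := by
    show (g.hom.left.left.appTop ≫ (EtOver.prodSnd E U).hom.left.left.appTop).hom s.down =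
      ((EtOver.prodSnd E V).hom.left.left.appTop ≫ h.hom.left.left.appTop).hom s.down
    rw [← Scheme.Hom.comp_appTop, ← Scheme.Hom.comp_appTop]
    exact congrArg (fun k => (Scheme.Hom.appTop k).hom s.down) (congrArg CommaMorphism.left h₂').symm
  show EtDer.EtLocal.grm _ (pull X E U) _ ((EtOver.prodSnd E U).hom.left.left.appTop.hom (g.hom.left.left.appTop.hom s.down)) =
    EtDer.EtLocal.grm _ (pull X E V) _ ((EtOver.prodSnd E V).hom.left.left.appTop.hom s.down)
  rw [e2, ← ht, ← EtDer.EtLocal.grm_map _ hW]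
  rfl

/-- Lifting one universe. -/
def upHom : ↥(EtBase.etaleLocalRing (chartPt X p E l)) →+* ULift.{u + 1} ↥(EtBase.etaleLocalRing (chartPt X p E l)) :=
  (ULift.ringEquiv.{u, u + 1} (R := ↥(EtBase.etaleLocalRing (chartPt X p E l)))).symm.toRingHom

/-- The comparison map of etale local rings. -/
def cmp : OEtStalk p ⟶ CommRingCat.of (ULift.{u + 1} ↥(EtBase.etaleLocalRing (chartPt X p E l))) :=
  (etPoint X p hp).presheafFiberDesc
    (fun U u => CommRingCat.ofHom ((upHom X p E l).comp (compHom X p E l U u)))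
    (fun U V g u => CommRingCat.hom_ext (RingHom.ext fun s => congrArg (upHom X p E l) (compHom_map X p E l g u s)))

theorem cmp_germ (U : EtOver X.obj) (u : (FieldPt.liftsTo p).obj U) (s : ↥((OEt X.obj).obj.obj (op U))) :
    ((cmp X p hp E l).hom ((etPoint X p hp).toPresheafFiber U u (OEt X.obj).obj s)).down =
      compHom X p E l U u s := by
  have h := ConcreteCategory.congr_hom ((etPoint X p hp).toPresheafFiber_presheafFiberDesc
    (fun U u => CommRingCat.ofHom ((upHom X p E l).comp (compHom X p E l U u)))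
    (fun U V g u => CommRingCat.hom_ext (RingHom.ext fun s => congrArg (upHom X p E l) (compHom_map X p E l g u s))) U u) s
  exact congrArg ULift.down h

/-- An etale scheme over the chart maps to a neighbourhood it refines. -/
theorem exists_hom (U : EtOver X.obj) (u : (FieldPt.liftsTo p).obj U) (V : E.obj.left.left.Etale)
    (f : V ⟶ pull X E U) (y : (Scheme.pointSmallEtale (chartPt X p E l)).fiber.obj V)
    (hy : (Scheme.pointSmallEtale (chartPt X p E l)).fiber.map f y = pullPt X p E l U u) :
    ∃ (v : (FieldPt.liftsTo p).obj ((EtOver.ofChart E.obj.hom E.property).obj V))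
      (μ : (EtOver.ofChart E.obj.hom E.property).obj V ⟶ U),
      (FieldPt.liftsTo p).map μ v = u ∧ μ.hom.left.left = f.left ≫ (EtOver.prodSnd E U).hom.left.left := by
  have hw₀ : f.left ≫ (EtOver.prodObj E U).obj.left.hom = (EtOver.overOfEtale (U := E.obj.left) V).hom := by
    show _ = V.hom ≫ E.obj.left.hom
    rw [← MorphismProperty.Over.w f]
    show f.left ≫ _ = (f.left ≫ (EtOver.prodFst E U).hom.left.left) ≫ E.obj.left.hom
    rw [Category.assoc, Over.w (EtOver.prodFst E U).hom.left]
  let ν₀ : EtOver.overOfEtale (U := E.obj.left) V ⟶ (EtOver.prodObj E U).obj.left := Over.homMk f.left hw₀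
  have hν : ν₀ ≫ (EtOver.prodFst E U).hom.left = EtOver.homOfEtale V :=
    Over.OverMorphism.ext (MorphismProperty.Over.w f)
  have hμ : (yon S).map (ν₀ ≫ (EtOver.prodSnd E U).hom.left) ≫ U.obj.hom =
      (yon S).map (EtOver.homOfEtale V) ≫ E.obj.hom := by
    rw [Functor.map_comp, Category.assoc, EtOver.w (EtOver.prodSnd E U), ← EtOver.w (EtOver.prodFst E U),
      ← Functor.map_comp_assoc, hν]
  have hy' : y.left ≫ V.hom = chartPt X p E l := Over.w y
  let yv : p.pt ⟶ EtOver.overOfEtale (U := E.obj.left) V := Over.homMk y.left (by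
    show y.left ≫ V.hom ≫ E.obj.left.hom = p.str
    rw [← Category.assoc, hy']
    exact Over.w l.1)
  have hyν : yv ≫ ν₀ = pullLift X p E l U u :=
    Over.OverMorphism.ext ((congrArg CommaMorphism.left hy :) : y.left ≫ f.left = (pullLift X p E l U u).left)
  have hyV : yv ≫ EtOver.homOfEtale V = l.1 := Over.OverMorphism.ext hy'
  have hv : (yon S).map yv ≫ (yon S).map (EtOver.homOfEtale V) ≫ E.obj.hom = p.toHom := by
    rw [← Functor.map_comp_assoc, hyV]
    exact l.2
  refine ⟨⟨yv, hv⟩, EtOver.homMk (ν₀ ≫ (EtOver.prodSnd E U).hom.left) hμ, Subtype.ext ?_, rfl⟩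
  show yv ≫ ν₀ ≫ (EtOver.prodSnd E U).hom.left = u.1
  rw [← Category.assoc, hyν]
  exact pullLift_snd X p E l U u

theorem cmp_injective : Function.Injective (cmp X p hp E l).hom := by
  rw [injective_iff_map_eq_zero]
  intro a ha
  obtain ⟨U, u, s, rfl⟩ := (etPoint X p hp).toPresheafFiber_jointly_surjective (P := (OEt X.obj).obj) a
  have h0 : EtDer.EtLocal.grm (chartPt X p E l) (pull X E U) (pullPt X p E l U u)
      ((EtOver.prodSnd E U).hom.left.left.appTop.hom s.down) = 0 :=
    (cmp_germ X p hp E l U u s).symm.trans (congrArg ULift.down ha)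
  obtain ⟨V, f, y, hy, hf⟩ := ((Scheme.pointSmallEtale (chartPt X p E l)).toPresheafFiber_eq_iff'
    (P := EtBase.OO E.obj.left.left) (pull X E U) (pullPt X p E l U u) _ 0).1 (h0.trans (map_zero _).symm)
  obtain ⟨v, μ, hv, hμ⟩ := exists_hom X p E l U u V f y hy
  have hz : (OEt X.obj).obj.map μ.op s = 0 := by
    refine ULift.ext _ _ ?_
    show μ.hom.left.left.appTop.hom s.down = 0
    rw [hμ, Scheme.Hom.comp_appTop]
    exact hf.trans (map_zero _)
  rw [← hv]
  refine ((etPoint X p hp).toPresheafFiber_w_apply μ v (OEt X.obj).obj s).symm.trans ?_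
  rw [hz, map_zero]

theorem cmp_surjective : Function.Surjective (cmp X p hp E l).hom := by
  rintro ⟨b⟩
  obtain ⟨W, t, s, rfl⟩ := EtDer.EtLocal.exists_grm (chartPt X p E l) b
  let U := (EtOver.ofChart E.obj.hom E.property).obj W
  have ht' : t.left ≫ W.hom = chartPt X p E l := Over.w t
  let tu : p.pt ⟶ U.obj.left := Over.homMk t.left (by
    show t.left ≫ W.hom ≫ E.obj.left.hom = p.str
    rw [← Category.assoc, ht']
    exact Over.w l.1)
  have htu : tu ≫ EtOver.homOfEtale W = l.1 := Over.OverMorphism.ext ht'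
  have hu : (yon S).map tu ≫ U.obj.hom = p.toHom := by
    show (yon S).map tu ≫ (yon S).map (EtOver.homOfEtale W) ≫ E.obj.hom = p.toHom
    rw [← Functor.map_comp_assoc, htu]
    exact l.2
  let u : (FieldPt.liftsTo p).obj U := ⟨tu, hu⟩
  let q : U ⟶ E := EtOver.homMk (EtOver.homOfEtale W) rfl
  let d : U ⟶ EtOver.prodObj E U := (EtOver.prodIsLimit E U).lift (BinaryFan.mk q (𝟙 U))
  have hd₁ : d.hom.left ≫ (EtOver.prodFst E U).hom.left = EtOver.homOfEtale W :=
    congrArg (fun k => k.hom.left) ((EtOver.prodIsLimit E U).fac (BinaryFan.mk q (𝟙 U)) ⟨WalkingPair.left⟩)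
  have hd₂ : d.hom.left ≫ (EtOver.prodSnd E U).hom.left = 𝟙 U.obj.left :=
    congrArg (fun k => k.hom.left) ((EtOver.prodIsLimit E U).fac (BinaryFan.mk q (𝟙 U)) ⟨WalkingPair.right⟩)
  let dW : W ⟶ pull X E U := MorphismProperty.Over.homMk d.hom.left.left (congrArg CommaMorphism.left hd₁)
  have e : tu ≫ d.hom.left = pullLift X p E l U u := by
    refine pullLift_unique X p E l U u _ ?_ ?_
    · rw [Category.assoc, hd₁, htu]
    · rw [Category.assoc, hd₂, Category.comp_id]
  have hd : (Scheme.pointSmallEtale (chartPt X p E l)).fiber.map dW t = pullPt X p E l U u :=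
    Over.OverMorphism.ext (congrArg CommaMorphism.left e :)
  refine ⟨(etPoint X p hp).toPresheafFiber U u (OEt X.obj).obj (ULift.up s),
    ULift.ext _ _ ((cmp_germ X p hp E l U u _).trans ?_)⟩
  show EtDer.EtLocal.grm _ (pull X E U) _ ((EtOver.prodSnd E U).hom.left.left.appTop.hom s) = EtDer.EtLocal.grm _ W t s
  rw [← hd, ← EtDer.EtLocal.grm_map _ dW t]
  refine congrArg (EtDer.EtLocal.grm (chartPt X p E l) W t) ?_
  show ((EtOver.prodSnd E U).hom.left.left.appTop ≫ d.hom.left.left.appTop).hom s = s
  rw [← Scheme.Hom.comp_appTop, ← Over.comp_left, hd₂, Over.id_left, Scheme.Hom.id_appTop]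
  rfl

end StalkCompare

/-- The etale local ring at a geometric point is the etale local ring of a chart at the lifted point. -/
theorem exists_ringEquiv_etaleLocalRing (X : Space S) (p : FieldPt X.obj) (hp : p.IsGeometric)
    [IsSepClosed p.K] (E : EtOver X.obj) (l : (FieldPt.liftsTo p).obj E) :
    Nonempty (↥(OEtStalk p) ≃+* EtBase.etaleLocalRing (StalkCompare.chartPt X p E l)) :=
  ⟨(RingEquiv.ofBijective (StalkCompare.cmp X p hp E l).hom
    ⟨StalkCompare.cmp_injective X p hp E l, StalkCompare.cmp_surjective X p hp E l⟩).trans ULift.ringEquiv⟩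

/-- Strict henselizations of isomorphic local rings are isomorphic. -/
theorem nonempty_strictHens_congr {A B : Type u} [CommRing A] [IsLocalRing A] [CommRing B] [IsLocalRing B] (e : A ≃+* B) :
    Nonempty (Hensel.StrictHens A ≃+* Hensel.StrictHens B) := by
  letI : Algebra A (Hensel.StrictHens B) := ((algebraMap B (Hensel.StrictHens B)).comp e.toRingHom).toAlgebra
  haveI : IsLocalHom (algebraMap A (Hensel.StrictHens B)) := GeomFact.isLocalHom_compEquiv e
  haveI : _root_.Hensel.IsStrictHenselization A (Hensel.StrictHens B) := GeomFact.isStrictHenselization_compEquiv e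
  exact ⟨(Hensel.IsStrictHenselization.nonempty_strictHens_algEquiv (R := A) (S := Hensel.StrictHens B)).some.toRingEquiv⟩

/-- The etale local ring at a geometric point is a strict henselization of the local ring of a chart at the lifted point. -/
theorem exists_ringEquiv_strictHens_stalk (X : Space S) (p : FieldPt X.obj) (hp : p.IsGeometric) (E : EtOver X.obj)
    (l : (FieldPt.liftsTo p).obj E) :
    Nonempty (↥(OEtStalk p) ≃+*
      Hensel.StrictHens ↥(E.obj.left.left.presheaf.stalk (l.1.left (IsLocalRing.closedPoint p.K)))) := by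
  haveI : IsAlgClosed p.K := hp
  haveI : IsSepClosed p.K := inferInstance
  obtain ⟨B, j, hj, t', ht'⟩ := EtSite.exists_affine_fac (Ω := p.K) (U := E.obj.left.left) l.1.left
  obtain ⟨φ₀, rfl⟩ := Spec.map_surjective t'
  haveI := hj
  let q : Over.mk (j ≫ E.obj.left.hom) ⟶ E.obj.left := Over.homMk j rfl
  let E' : EtOver X.obj := EtOver.mk ((yon S).map q ≫ E.obj.hom)
    (repWith_comp ((repWith_yon_map_iff _ _).2 (show Etale j from inferInstance)) E.property)
  let l' : p.pt ⟶ Over.mk (j ≫ E.obj.left.hom) := Over.homMk (Spec.map φ₀) (by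
    show Spec.map φ₀ ≫ j ≫ E.obj.left.hom = p.str
    rw [← Category.assoc, ht']
    exact Over.w l.1)
  have hl'q : l' ≫ q = l.1 := Over.OverMorphism.ext ht'
  have hl' : (yon S).map l' ≫ E'.obj.hom = p.toHom := by
    show (yon S).map l' ≫ (yon S).map q ≫ E.obj.hom = p.toHom
    rw [← Functor.map_comp_assoc, hl'q]
    exact l.2
  obtain ⟨e₁⟩ := exists_ringEquiv_etaleLocalRing X p hp E' ⟨l', hl'⟩
  obtain ⟨e₂⟩ := EtDer.EtLocal.exists_ringEquiv_strictHens (Ω := p.K) φ₀.hom
  let y : ↥(Spec B) := (Spec.map φ₀) (IsLocalRing.closedPoint p.K)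
  have hy : y.asIdeal = RingHom.ker φ₀.hom :=
    congrArg (Ideal.comap φ₀.hom) (Ideal.eq_bot_of_prime _)
  have hx : j y = l.1.left (IsLocalRing.closedPoint p.K) := by
    show (Spec.map φ₀ ≫ j) (IsLocalRing.closedPoint p.K) = _
    rw [ht']
    rfl
  have e₃ : Nonempty (Localization.AtPrime (RingHom.ker φ₀.hom) ≃+* ↥(E.obj.left.left.presheaf.stalk (j y))) := by
    have key : ∀ (P : Ideal B) [P.IsPrime], P = y.asIdeal →
        Nonempty (Localization.AtPrime P ≃+* ↥((Spec B).presheaf.stalk y)) := by
      intro P _ hP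
      subst hP
      exact ⟨(StructureSheaf.stalkIso B y).toRingEquiv⟩
    exact ⟨(key _ hy.symm).some.trans (asIso (j.stalkMap y)).commRingCatIsoToRingEquiv.symm⟩
  rw [hx] at e₃
  obtain ⟨e₃⟩ := e₃
  obtain ⟨e₄⟩ := nonempty_strictHens_congr e₃
  exact ⟨(e₁.trans e₂).trans e₄⟩

/-- The same for any chart and any point over the geometric point. -/
theorem exists_ringEquiv_strictHens_of_chart (X : Space S) (p : FieldPt X.obj) (hp : p.IsGeometric) {U : Over S}
    (a : (yon S).obj U ⟶ X.obj) (ha : RepWith @Etale a) (x : ↥U.left) (hx : Points.ofPt a x = Points.mk p) :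
    Nonempty (↥(OEtStalk p) ≃+* Hensel.StrictHens ↥(U.left.presheaf.stalk x)) := by
  obtain ⟨l, hl⟩ := exists_liftsTo_of_ofPt_eq p hp (EtOver.mk a ha) x hx
  subst hl
  exact exists_ringEquiv_strictHens_stalk X p hp (EtOver.mk a ha) l

/-- Henselian local rings are stable under isomorphism across universes. -/
theorem henselianLocalRing_ringEquiv {A : Type*} {B : Type*} [CommRing A] [CommRing B] [HenselianLocalRing B]
    (e : A ≃+* B) : HenselianLocalRing A := by
  haveI : IsLocalRing A := e.symm.isLocalRing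
  refine ⟨fun f hf a₀ h0 h1 => ?_⟩
  haveI : IsLocalHom e.toRingHom := ⟨fun a ha => (MulEquiv.isUnit_map e).1 ha⟩
  have hmax : ∀ a, a ∈ IsLocalRing.maximalIdeal A ↔ e a ∈ IsLocalRing.maximalIdeal B := fun a =>
    not_congr (MulEquiv.isUnit_map e).symm
  obtain ⟨b, hb, hb0⟩ := HenselianLocalRing.is_henselian (f.map e.toRingHom) (hf.map _) (e a₀)
    (by show (f.map e.toRingHom).eval (e.toRingHom a₀) ∈ _; rw [Polynomial.eval_map_apply]; exact (hmax _).1 h0)
    (by show IsUnit ((f.map e.toRingHom).derivative.eval (e.toRingHom a₀)); rw [Polynomial.derivative_map, Polynomial.eval_map_apply]; exact (MulEquiv.isUnit_map e).2 h1)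
  refine ⟨e.symm b, e.injective ?_, (hmax _).2 (by rw [map_sub, e.apply_symm_apply]; exact hb0)⟩
  rw [map_zero]
  show e.toRingHom (f.eval (e.symm b)) = 0
  rw [← Polynomial.eval_map_apply]
  show (f.map e.toRingHom).eval (e (e.symm b)) = 0
  rw [e.apply_symm_apply]
  exact hb

/-- Separably closed fields are stable under isomorphism across universes. -/
theorem isSepClosed_ringEquiv {K : Type*} {L : Type*} [Field K] [Field L] [IsSepClosed L] (e : K ≃+* L) :
    IsSepClosed K := by
  refine IsSepClosed.of_exists_root _ fun p hm hi hs => ?_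
  obtain ⟨y, hy⟩ := IsSepClosed.exists_eval₂_eq_zero e.toRingHom p hi.degree_pos.ne' hs
  refine ⟨e.symm y, e.injective ?_⟩
  rw [map_zero]
  show e.toRingHom (p.eval (e.symm y)) = 0
  rw [← Polynomial.eval₂_at_apply]
  show p.eval₂ e.toRingHom (e (e.symm y)) = 0
  rw [e.apply_symm_apply]
  exact hy

section Props

variable (X : Space S) (p : FieldPt X.obj) (hp : p.IsGeometric)

include hp in
theorem exists_chart_strictHens : ∃ (U : Over S) (a : (yon S).obj U ⟶ X.obj) (x : ↥U.left),
    RepWith @Etale a ∧ Points.ofPt a x = Points.mk p ∧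
      Nonempty (↥(OEtStalk p) ≃+* Hensel.StrictHens ↥(U.left.presheaf.stalk x)) := by
  obtain ⟨E, ⟨l⟩⟩ := nonempty_liftsTo p X.property hp
  exact ⟨E.obj.left, E.obj.hom, _, E.property, ofPt_closedPoint_of_lift p l,
    exists_ringEquiv_strictHens_stalk X p hp E l⟩

include hp in
theorem isStrictlyHenselian_OEtStalk : EtCoh.IsStrictlyHenselianLocalRing ↥(OEtStalk p) := by
  obtain ⟨U, a, x, -, -, ⟨e⟩⟩ := exists_chart_strictHens X p hp
  let R := ↥(U.left.presheaf.stalk x)
  haveI : HenselianLocalRing (Hensel.StrictHens R) :=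
    (inferInstance : _root_.Hensel.IsStrictHenselization R (Hensel.StrictHens R)).henselian
  haveI : IsSepClosure (IsLocalRing.ResidueField R) (IsLocalRing.ResidueField (Hensel.StrictHens R)) :=
    (inferInstance : _root_.Hensel.IsStrictHenselization R (Hensel.StrictHens R)).isSepClosure
  haveI : IsSepClosed (IsLocalRing.ResidueField (Hensel.StrictHens R)) :=
    IsSepClosure.sep_closed (IsLocalRing.ResidueField R)
  haveI := henselianLocalRing_ringEquiv e
  exact ⟨inferInstance, isSepClosed_ringEquiv (IsLocalRing.ResidueField.mapEquiv e)⟩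

include hp in
theorem ringKrullDim_OEtStalk {U : Over S} (a : (yon S).obj U ⟶ X.obj) (ha : RepWith @Etale a) (x : ↥U.left)
    (hx : Points.ofPt a x = Points.mk p) : ringKrullDim ↥(OEtStalk p) = ringKrullDim ↥(U.left.presheaf.stalk x) := by
  obtain ⟨e⟩ := exists_ringEquiv_strictHens_of_chart X p hp a ha x hx
  exact (ringKrullDim_eq_of_ringEquiv e).trans Hensel.IsStrictHenselization.ringKrullDim_eq

include hp in
theorem isReduced_OEtStalk_iff {U : Over S} (a : (yon S).obj U ⟶ X.obj) (ha : RepWith @Etale a) (x : ↥U.left)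
    (hx : Points.ofPt a x = Points.mk p) :
    _root_.IsReduced ↥(OEtStalk p) ↔ _root_.IsReduced ↥(U.left.presheaf.stalk x) := by
  obtain ⟨e⟩ := exists_ringEquiv_strictHens_of_chart X p hp a ha x hx
  rw [Hensel.IsStrictHenselization.isReduced_iff (R := ↥(U.left.presheaf.stalk x))
    (S := Hensel.StrictHens ↥(U.left.presheaf.stalk x))]
  exact ⟨fun h => isReduced_of_injective e.symm.toRingHom e.symm.injective,
    fun h => isReduced_of_injective e.toRingHom e.injective⟩

include hp in
theorem isNoetherianRing_OEtStalk_iff {U : Over S} (a : (yon S).obj U ⟶ X.obj) (ha : RepWith @Etale a) (x : ↥U.left)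
    (hx : Points.ofPt a x = Points.mk p) :
    IsNoetherianRing ↥(OEtStalk p) ↔ IsNoetherianRing ↥(U.left.presheaf.stalk x) := by
  obtain ⟨e⟩ := exists_ringEquiv_strictHens_of_chart X p hp a ha x hx
  rw [Hensel.IsStrictHenselization.isNoetherianRing_iff (R := ↥(U.left.presheaf.stalk x))
    (S := Hensel.StrictHens ↥(U.left.presheaf.stalk x))]
  exact ⟨fun h => isNoetherianRing_of_ringEquiv _ e, fun h => isNoetherianRing_of_ringEquiv _ e.symm⟩

include hp in
theorem isRegularLocalRing_OEtStalk_iff {U : Over S} (a : (yon S).obj U ⟶ X.obj) (ha : RepWith @Etale a) (x : ↥U.left)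
    (hx : Points.ofPt a x = Points.mk p) :
    IsRegularLocalRing ↥(OEtStalk p) ↔ IsRegularLocalRing ↥(U.left.presheaf.stalk x) := by
  obtain ⟨e⟩ := exists_ringEquiv_strictHens_of_chart X p hp a ha x hx
  constructor
  · intro h
    have h' : IsRegularLocalRing (Hensel.StrictHens ↥(U.left.presheaf.stalk x)) := IsRegularLocalRing.of_ringEquiv e
    haveI : IsNoetherianRing (Hensel.StrictHens ↥(U.left.presheaf.stalk x)) := @inferInstance _ (by haveI := h'; infer_instance)
    haveI := (Hensel.IsStrictHenselization.isNoetherianRing_iff (R := ↥(U.left.presheaf.stalk x))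
      (S := Hensel.StrictHens ↥(U.left.presheaf.stalk x))).2 inferInstance
    exact Hensel.IsStrictHenselization.isRegularLocalRing_iff.2 h'
  · intro h
    haveI : IsNoetherianRing ↥(U.left.presheaf.stalk x) := by haveI := h; infer_instance
    haveI : IsRegularLocalRing (Hensel.StrictHens ↥(U.left.presheaf.stalk x)) :=
      Hensel.IsStrictHenselization.isRegularLocalRing_iff.1 h
    exact IsRegularLocalRing.of_ringEquiv e.symm

end Props

end GrothLib.AlgSp
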