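import Groth.Agent.Lib.AlgSp.EtColimSections
import Groth.Agent.Lib.KInj.SiteMod
import Groth.Prelude.Def_AlgSpOX2
import Mathlib.Algebra.Category.ModuleCat.Sheaf.PushforwardContinuous
import Mathlib.Algebra.Category.ModuleCat.Sheaf.Limits
import Mathlib.CategoryTheory.Adjunction.AdjointFunctorTheorems
import Mathlib.CategoryTheory.Abelian.GrothendieckCategory.EnoughInjectives
import Mathlib.CategoryTheory.Abelian.GrothendieckCategory.Coseparator
import Mathlib.CategoryTheory.Abelian.Injective.Resolution

/-!
# Modules on the small étale site of a space form a Grothendieck abelian category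

* `modEtEquiv`, `isGrothendieckAbelian_modEt`, `enoughInjectives_modEt`, `isRightAdjoint_pushModEt`.
-/

set_option autoImplicit false
set_option backward.isDefEq.respectTransparency false
universe u

open CategoryTheory CategoryTheory.Limits AlgebraicGeometry Opposite

noncomputable section

namespace GrothLib.AlgSp.EtColim

open _root_.AlgSp

variable {S : Scheme.{u}} {X : Sp S}

/-- The structure sheaf on the small model. -/
abbrev ringS (X : Sp S) : Sheaf (JS X) RingCat.{u + 1} :=
  ((eS X).inverse.sheafPushforwardContinuous RingCat.{u + 1} (JS X) (etTop X)).obj (OEtRing X)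

/-- Modules on the small model agree with modules on the small étale site. -/
def modEtEquiv (X : Sp S) : SheafOfModules.{u + 1} (ringS X) ≌ ModEt X :=
  SheafOfModules.pushforwardPushforwardEquivalence (J := etTop X) (K := JS X) (eS X) (S := OEtRing X) (R := ringS X)
    (ObjectProperty.homMk
      { app := fun U => 𝟙 _
        naturality := fun U V g => by
          refine (Category.comp_id _).trans (Eq.trans ?_ (Category.id_comp _).symm)
          rfl })
    (𝟙 _)
    (by
      ext U : 2
      refine Eq.trans ?_ (Category.comp_id _).symm
      exact (OEtRing X).obj.map_id _)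
    (by
      ext U : 2
      show 𝟙 _ ≫ 𝟙 _ ≫ (OEtRing X).obj.map (𝟙 _) = 𝟙 _
      rw [Category.id_comp, Category.id_comp]
      exact (OEtRing X).obj.map_id _)

instance isGrothendieckAbelian_modEt (X : Sp S) : IsGrothendieckAbelian.{u + 1} (ModEt X) := by
  haveI := GrothLib.KInj.isGrothendieckAbelian_sheafOfModules (ringS X)
  exact IsGrothendieckAbelian.of_equivalence (modEtEquiv X)

instance enoughInjectives_modEt (X : Sp S) : EnoughInjectives (ModEt X) := inferInstance

variable {Y : Sp S} {f : X ⟶ Y} (hf : Representable f)

/-- Direct images of modules have left adjoints. -/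
theorem isRightAdjoint_pushModEt : (pushModEt hf).IsRightAdjoint := by
  haveI : HasLimitsOfSize.{u + 1, u + 1} (ModEt X) := inferInstance
  haveI : PreservesLimitsOfSize.{u + 1, u + 1} (pushModEt hf ⋙ SheafOfModules.forget _) := by
    show PreservesLimitsOfSize.{u + 1, u + 1}
      (SheafOfModules.forget.{u + 1} (OEtRing X) ⋙ PresheafOfModules.pushforward.{u + 1} (bcRingHom hf).hom)
    haveI : PreservesLimitsOfSize.{u + 1, u + 1} (PresheafOfModules.pushforward.{u + 1} (bcRingHom hf).hom) := by
      refine ⟨fun {J} _ => ?_⟩
      refine ⟨fun {K} => ?_⟩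
      refine ⟨fun {c} hc => ⟨PresheafOfModules.evaluationJointlyReflectsLimits _ _ fun E => ?_⟩⟩
      exact isLimitOfPreserves (ModuleCat.restrictScalars ((bcRingHom hf).hom.app E).hom)
        (isLimitOfPreserves (PresheafOfModules.evaluation _ (op ((EtOver.bc hf).obj E.unop))) hc)
    infer_instance
  haveI : PreservesLimitsOfSize.{u + 1, u + 1} (pushModEt hf) :=
    preservesLimits_of_reflects_of_preserves (pushModEt hf) (SheafOfModules.forget.{u + 1} (OEtRing Y))
  exact isRightAdjoint_of_preservesLimits_of_isCoseparating (isCoseparator_coseparator (ModEt X)) (pushModEt hf)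

end GrothLib.AlgSp.EtColim
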