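import Groth.Agent.Lib.AlgSp.GeomNbhd
import Groth.Agent.Lib.AlgSp.FlatFibres
import Groth.Agent.S10217
import Mathlib.AlgebraicGeometry.Sites.AffineEtale
import Mathlib.CategoryTheory.Sites.Point.Skyscraper
import Mathlib.CategoryTheory.Abelian.GrothendieckAxioms.Types
import Mathlib.CategoryTheory.Abelian.GrothendieckAxioms.Colim
import Mathlib.FieldTheory.IsAlgClosed.AlgebraicClosure
import Mathlib.Algebra.Category.Grp.AB

/-!
# Geometric points as points of the small etale site of an algebraic space

* `initiallySmall_etNbhd`: the category of etale neighbourhoods of a geometric point is initially small.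
* `etPoint`: the point with fibre `FieldPt.liftsTo p`.
* `exists_geometric_liftsTo`: every point of an object of the site is hit by a lifted geometric point.
* `mem_etTop_of_points`: the geometric points detect coverings.
-/

universe u

set_option backward.isDefEq.respectTransparency false

open CategoryTheory CategoryTheory.Limits AlgebraicGeometry Opposite

namespace GrothLib.AlgSp

open _root_.AlgSp

variable {S : Scheme.{u}}

/-- The etale neighbourhoods of a geometric point have a small initial family (affine schemes etale over one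
fixed neighbourhood). -/
theorem initiallySmall_etNbhd (X : Space S) (p : FieldPt X.obj) (hp : p.IsGeometric) :
    InitiallySmall.{u} (EtNbhd p) := by
  haveI := Groth.Agent.S10217.result X p hp
  obtain ⟨E₀, ⟨l₀⟩⟩ := nonempty_liftsTo p X.property hp
  let G : E₀.obj.left.left.AffineEtale ⥤ EtOver X.obj :=
    Scheme.AffineEtale.Spec E₀.obj.left.left ⋙ EtOver.ofChart E₀.obj.hom E₀.property
  let e := equivSmallModel.{u} E₀.obj.left.left.AffineEtale
  let F : (Σ i : SmallModel.{u} E₀.obj.left.left.AffineEtale,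
      (FieldPt.liftsTo p).obj (G.obj (e.inverse.obj i))) → EtNbhd p :=
    fun x => ⟨G.obj (e.inverse.obj x.1), x.2⟩
  refine initiallySmall_of_small_weakly_initial_set (Set.range F) fun N => ?_
  obtain ⟨R, t, s, sq⟩ := exists_isPullback_yon X.property.diag E₀.obj.hom N.1.obj.hom
  have ht : Etale t.left := N.1.property.2 _ _ _ sq.flip
  obtain ⟨l, hl⟩ := (yon S).map_surjective (sq.lift ((yon S).map l₀.1) ((yon S).map N.2.1)
    (l₀.2.trans N.2.2.symm))
  have h₁ : l ≫ t = l₀.1 := (yon S).map_injective (by rw [Functor.map_comp, hl, sq.lift_fst])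
  have h₂ : l ≫ s = N.2.1 := (yon S).map_injective (by rw [Functor.map_comp, hl, sq.lift_snd])
  -- the common refinement, as an object of the site
  let E₁ : EtOver X.obj := EtOver.mk ((yon S).map t ≫ E₀.obj.hom)
    (repWith_comp ((repWith_yon_map_iff _ _).2 ht) E₀.property)
  have hu₁ : (yon S).map l ≫ E₁.obj.hom = p.toHom := by
    change (yon S).map l ≫ (yon S).map t ≫ E₀.obj.hom = p.toHom
    rw [← Functor.map_comp_assoc, h₁]
    exact l₀.2
  let g : E₁ ⟶ N.1 := EtOver.homMk s sq.w.symm
  -- an affine open around the image of the point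
  obtain ⟨V, hV, hlV, -⟩ :=
    exists_isAffineOpen_mem_and_subset (x := l.left (IsLocalRing.closedPoint p.K)) (U := (⊤ : R.left.Opens)) trivial
  haveI : Etale (hV.fromSpec ≫ t.left) := by haveI := ht; infer_instance
  let Z : E₀.obj.left.left.AffineEtale := Scheme.AffineEtale.mk (hV.fromSpec ≫ t.left)
  have hwq : hV.fromSpec ≫ R.hom = (G.obj Z).obj.left.hom := by
    change hV.fromSpec ≫ R.hom = (hV.fromSpec ≫ t.left) ≫ E₀.obj.left.hom
    rw [Category.assoc, Over.w t]
  let q : (G.obj Z).obj.left ⟶ R := Over.homMk hV.fromSpec hwq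
  have hq : (yon S).map q ≫ E₁.obj.hom = (G.obj Z).obj.hom := by
    have e' : q ≫ t = EtOver.homOfEtale ((Scheme.AffineEtale.Spec E₀.obj.left.left).obj Z) := by
      apply Over.OverMorphism.ext
      rfl
    change (yon S).map q ≫ (yon S).map t ≫ E₀.obj.hom = (yon S).map _ ≫ E₀.obj.hom
    rw [← Functor.map_comp_assoc, e']
  let gq : G.obj Z ⟶ E₁ := EtOver.homMk q hq
  obtain ⟨z, hz⟩ : l.left (IsLocalRing.closedPoint p.K) ∈ Set.range hV.fromSpec := by
    rw [hV.range_fromSpec]; exact hlV
  obtain ⟨v, hv⟩ := exists_liftsTo_map p hp gq ⟨l, hu₁⟩ z hz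
  let η := e.unitIso.app Z
  let v' : (FieldPt.liftsTo p).obj (G.obj (e.inverse.obj (e.functor.obj Z))) :=
    (FieldPt.liftsTo p).map (G.map η.hom) v
  refine ⟨F ⟨e.functor.obj Z, v'⟩, ⟨_, rfl⟩, ⟨CategoryOfElements.homMk _ _ (G.map η.inv ≫ gq ≫ g) ?_⟩⟩
  change (FieldPt.liftsTo p).map (G.map η.inv ≫ gq ≫ g) v' = N.2
  simp only [v', ← Functor.map_comp_apply, ← Functor.map_comp_assoc, Iso.hom_inv_id,
    CategoryTheory.Functor.map_id, Category.id_comp]
  rw [Functor.map_comp_apply]
  exact (congrArg ((FieldPt.liftsTo p).map g) hv).trans (Subtype.ext h₂)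

variable (X : Space S) (p : FieldPt X.obj) (hp : p.IsGeometric)

/-- The point of the small etale site given by a geometric point. -/
noncomputable def etPoint : GrothendieckTopology.Point.{u} (etTop X.obj) where
  fiber := FieldPt.liftsTo p
  isCofiltered := Groth.Agent.S10217.result X p hp
  initiallySmall := initiallySmall_etNbhd X p hp
  jointly_surjective {E} Q hQ x := by
    obtain ⟨Q₀, hQ₀, hle⟩ := (Precoverage.mem_toGrothendieck_iff_of_isStableUnderComposition).1 hQ
    obtain ⟨ι, Y, f, rfl⟩ := Q₀.exists_eq_ofArrows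
    obtain ⟨i, e, he⟩ := (ofArrows_mem_etPre_iff Y f).1 hQ₀ (x.1.left (IsLocalRing.closedPoint p.K))
    exact ⟨Y i, f i, hle _ _ ⟨i⟩, exists_liftsTo_map p hp (f i) x e he⟩

theorem etPoint_fiber : (etPoint X p hp).fiber = FieldPt.liftsTo p := rfl

/-- Every point of an object of the site is hit by a lifted geometric point. -/
theorem exists_geometric_liftsTo {X : Sp S} (E : EtOver X) (x : ↥E.obj.left.left) :
    ∃ (p : FieldPt X) (_ : p.IsGeometric) (l : (FieldPt.liftsTo p).obj E),
      l.1.left (IsLocalRing.closedPoint p.K) = x ∧ Points.mk p = Points.ofPt E.obj.hom x := by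
  let K := AlgebraicClosure (E.obj.left.left.residueField x)
  let m : Spec (CommRingCat.of K) ⟶ E.obj.left.left :=
    Spec.map (CommRingCat.ofHom (algebraMap (E.obj.left.left.residueField x) K)) ≫
      E.obj.left.left.fromSpecResidueField x
  let m' : Over.mk (m ≫ E.obj.left.hom) ⟶ E.obj.left := Over.homMk m rfl
  let p : FieldPt X := ⟨K, m ≫ E.obj.left.hom, (J S).uliftYonedaEquiv ((yon S).map m' ≫ E.obj.hom)⟩
  have hl : (yon S).map m' ≫ E.obj.hom = p.toHom := ((J S).uliftYonedaEquiv.symm_apply_apply _).symm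
  have hm : m (IsLocalRing.closedPoint K) = x :=
    (Scheme.Hom.comp_apply _ _ _).trans (Scheme.fromSpecResidueField_apply _ _)
  refine ⟨p, AlgebraicClosure.isAlgClosed _, ⟨m', hl⟩, hm, ?_⟩
  rw [← Points.ofPt_toHom p (IsLocalRing.closedPoint K), ← hl, ofPt_map_comp]
  exact congrArg (Points.ofPt E.obj.hom) hm

/-- A sieve is covering as soon as every geometric point lifts into it. -/
theorem mem_etTop_of_points {E : EtOver X.obj} (Q : Sieve E)
    (h : ∀ (p : FieldPt X.obj) (_ : p.IsGeometric) (l : (FieldPt.liftsTo p).obj E),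
      ∃ (E' : EtOver X.obj) (f : E' ⟶ E) (_ : Q f) (l' : (FieldPt.liftsTo p).obj E'),
        (FieldPt.liftsTo p).map f l' = l) :
    Q ∈ etTop X.obj E := by
  have key : ∀ x : ↥E.obj.left.left, ∃ (E' : EtOver X.obj) (f : E' ⟶ E),
      Q f ∧ x ∈ Set.range f.hom.left.left := by
    intro x
    obtain ⟨p, hp, l, hl, -⟩ := exists_geometric_liftsTo E x
    obtain ⟨E', f, hf, l', hl'⟩ := h p hp l
    refine ⟨E', f, hf, l'.1.left (IsLocalRing.closedPoint p.K), ?_⟩
    rw [← hl, ← hl']
    rfl
  choose E' f hf hx using key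
  refine GrothendieckTopology.superset_covering _ ?_ (ofArrows_mem_etTop E' f fun x => ⟨x, hx x⟩)
  rw [Sieve.generate_le_iff]
  rintro _ _ ⟨x⟩
  exact hf x

end GrothLib.AlgSp
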