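import Mathlib.AlgebraicGeometry.AffineSpace
import Mathlib.AlgebraicGeometry.Morphisms.Etale
import Mathlib.AlgebraicGeometry.Morphisms.Separated
import Mathlib.RingTheory.Unramified.LocalStructure
import Mathlib.Combinatorics.Nullstellensatz
import Mathlib.RingTheory.RootsOfUnity.AlgebraicallyClosed
import Mathlib.FieldTheory.IsAlgClosed.AlgebraicClosure

/-!
# Properties of morphisms of schemes local for etale maps at the source and smooth maps at the base

If such a property is stable under postcomposition with open immersions then it is stable under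
postcomposition with etale morphisms, and it descends from `U → V` to a neighbourhood in `X`
whenever `U → X ×_Y V` is etale and `V → Y` is smooth.
-/

universe u

open CategoryTheory CategoryTheory.Limits AlgebraicGeometry

namespace GrothLib.AlgSp.EtSm

/-- A property of morphisms of schemes over `S`, etale local on the source, smooth local on the base,
stable under postcomposition with open immersions. -/
structure Data (S : Scheme.{u}) where
  Q : ∀ {U V : Scheme.{u}}, (V ⟶ S) → (U ⟶ V) → Prop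
  src : ∀ {ι : Type u} {U V : Scheme.{u}} (sV : V ⟶ S) (h : U ⟶ V) (Ui : ι → Scheme.{u})
    (g : ∀ i, Ui i ⟶ U), (∀ i, Etale (g i)) → (∀ x : ↥U, ∃ i, x ∈ Set.range (g i)) →
    (Q sV h ↔ ∀ i, Q sV (g i ≫ h))
  bc : ∀ {U V U' V' : Scheme.{u}} {sV : V ⟶ S} {g' : U' ⟶ U} {h' : U' ⟶ V'} {h : U ⟶ V} {c : V' ⟶ V},
    IsPullback g' h' h c → Smooth c → Q sV h → Q (c ≫ sV) h'
  base : ∀ {U V U' V' : Scheme.{u}} {sV : V ⟶ S} {g' : U' ⟶ U} {h' : U' ⟶ V'} {h : U ⟶ V} {c : V' ⟶ V},
    IsPullback g' h' h c → Smooth c → Surjective c → Q (c ≫ sV) h' → Q sV h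
  post : ∀ {U V W : Scheme.{u}} {sW : W ⟶ S} {h : U ⟶ V} {j : V ⟶ W},
    IsOpenImmersion j → Q (j ≫ sW) h → Q sW (h ≫ j)

variable {S : Scheme.{u}} (D : Data S)

lemma Data.single {U U' V : Scheme.{u}} (sV : V ⟶ S) (h : U ⟶ V) (g : U' ⟶ U) [Etale g] [Surjective g] :
    D.Q sV h ↔ D.Q sV (g ≫ h) :=
  (D.src (ι := PUnit) sV h (fun _ => U') (fun _ => g) (fun _ => inferInstance)
    (fun x => ⟨⟨⟩, g.surjective x⟩)).trans ⟨fun H => H ⟨⟩, fun H _ => H⟩

lemma Data.precomp {U U' V : Scheme.{u}} {sV : V ⟶ S} {h : U ⟶ V} (g : U' ⟶ U) [Etale g]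
    (H : D.Q sV h) : D.Q sV (g ≫ h) :=
  (D.src (ι := ULift.{u} Bool) sV h (fun i => match i with | ⟨true⟩ => U' | ⟨false⟩ => U)
    (fun i => match i with | ⟨true⟩ => g | ⟨false⟩ => 𝟙 U)
    (fun i => by rcases i with ⟨_ | _⟩ <;> dsimp <;> infer_instance)
    (fun x => ⟨⟨false⟩, x, rfl⟩)).1 H ⟨true⟩

lemma Data.factor {U V W : Scheme.{u}} {sW : W ⟶ S} {h : U ⟶ W} (h₀ : U ⟶ V) (j : V ⟶ W) [IsOpenImmersion j]
    (e : h₀ ≫ j = h) (H : D.Q sW h) : D.Q (j ≫ sW) h₀ := by
  refine D.bc (g' := 𝟙 U) (h := h) ⟨⟨by simp [e]⟩, ⟨?_⟩⟩ inferInstance H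
  refine PullbackCone.IsLimit.mk _ (fun s => s.fst) (fun s => Category.comp_id _) (fun s => ?_) (fun s m h1 _ => by simpa using h1)
  rw [← cancel_mono j, Category.assoc, e]
  exact s.condition

lemma Data.of_isEmpty {U V : Scheme.{u}} [IsEmpty ↥U] (sV : V ⟶ S) (h : U ⟶ V) : D.Q sV h :=
  (D.src (ι := PEmpty.{u + 1}) sV h PEmpty.elim (fun i => i.elim) (fun i => i.elim)
    (fun x => isEmptyElim x)).2 fun i => i.elim

/-- At most `n` geometric points in each geometric fibre. -/
def Bdd (n : ℕ) {V Y : Scheme.{u}} (b : V ⟶ Y) : Prop :=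
  ∀ (K : Type u) [Field K] [IsAlgClosed K] (v : Fin (n + 1) → (Spec (.of K) ⟶ V)),
    (∀ i j, v i ≫ b = v j ≫ b) → ¬ Function.Injective v

lemma exists_geomPoint {V : Scheme.{u}} (v : ↥V) :
    ∃ (K : Type u) (_ : Field K) (_ : IsAlgClosed K) (p : Spec (.of K) ⟶ V), Set.range p = {v} := by
  refine ⟨AlgebraicClosure (V.residueField v), inferInstance, inferInstance,
    Spec.map (CommRingCat.ofHom (algebraMap (V.residueField v) (AlgebraicClosure (V.residueField v)))) ≫
      V.fromSpecResidueField v, ?_⟩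
  ext w
  simp only [Set.mem_range, Scheme.Hom.comp_apply, Set.mem_singleton_iff]
  constructor
  · rintro ⟨q, rfl⟩; exact Scheme.fromSpecResidueField_apply _ _
  · rintro rfl; exact ⟨default, Scheme.fromSpecResidueField_apply _ _⟩

theorem Data.postBdd (n : ℕ) : ∀ {U V Y : Scheme.{u}} {sY : Y ⟶ S} {h : U ⟶ V} (b : V ⟶ Y)
    [Etale b] [IsSeparated b], Bdd n b → D.Q (b ≫ sY) h → D.Q sY (h ≫ b) := by
  induction n with
  | zero =>
    intro U V Y sY h b _ _ hb _
    have : IsEmpty ↥U := ⟨fun x => by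
      obtain ⟨K, _, _, p, -⟩ := exists_geomPoint (h x)
      exact hb K (fun _ => p) (fun _ _ => rfl) (fun i j _ => Subsingleton.elim (α := Fin 1) i j)⟩
    exact D.of_isEmpty _ _
  | succ n ih =>
    intro U V Y sY h b _ _ hb H
    let Y₁ : Y.Opens := ⟨Set.range b, b.isOpenMap.isOpen_range⟩
    let b₁ : V ⟶ Y₁.toScheme := IsOpenImmersion.lift Y₁.ι b (by simp [Y₁])
    have hb₁ : b₁ ≫ Y₁.ι = b := IsOpenImmersion.lift_fac _ _ _
    have : Etale b₁ := by
      have : Etale (b₁ ≫ Y₁.ι) := by rw [hb₁]; infer_instance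
      exact Etale.of_comp b₁ Y₁.ι
    have : IsSeparated b₁ := by
      have : IsSeparated (b₁ ≫ Y₁.ι) := by rw [hb₁]; infer_instance
      exact IsSeparated.of_comp b₁ Y₁.ι
    have : Surjective b₁ := ⟨fun y => by
      obtain ⟨v, hv⟩ := (y.2 : y.1 ∈ Set.range b)
      refine ⟨v, Subtype.ext ?_⟩
      rw [← hv, ← hb₁]
      rfl⟩
    rw [show h ≫ b = (h ≫ b₁) ≫ Y₁.ι by rw [Category.assoc, hb₁]]
    refine D.post inferInstance ?_
    refine D.base (IsPullback.of_hasPullback (h ≫ b₁) b₁) inferInstance inferInstance ?_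
    rw [← Category.assoc, hb₁]
    let m : pullback (h ≫ b₁) b₁ ⟶ pullback b₁ b₁ :=
      pullback.lift (pullback.fst _ _ ≫ h) (pullback.snd _ _) (by rw [Category.assoc]; exact pullback.condition)
    have sq : IsPullback (pullback.fst (h ≫ b₁) b₁) m h (pullback.fst b₁ b₁) := by
      refine IsPullback.of_bot ?_ (pullback.lift_fst _ _ _).symm (IsPullback.of_hasPullback b₁ b₁)
      rw [show m ≫ pullback.snd b₁ b₁ = pullback.snd _ _ from pullback.lift_snd _ _ _]
      exact IsPullback.of_hasPullback (h ≫ b₁) b₁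
    have Hm : D.Q (pullback.snd b₁ b₁ ≫ b ≫ sY) m := by
      have := D.bc sq inferInstance H
      rwa [← hb₁, Category.assoc, pullback.condition_assoc, ← Category.assoc b₁, hb₁] at this
    rw [show pullback.snd (h ≫ b₁) b₁ = m ≫ pullback.snd b₁ b₁ from (pullback.lift_snd _ _ _).symm]
    let C : (pullback b₁ b₁).Opens := ⟨(Set.range (pullback.diagonal b₁))ᶜ,
      (pullback.diagonal b₁).isClosedMap.isClosed_range.isOpen_compl⟩
    refine (D.src (ι := ULift.{u} Bool) (b ≫ sY) (m ≫ pullback.snd b₁ b₁)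
      (fun i => match i with | ⟨true⟩ => pullback m (pullback.diagonal b₁) | ⟨false⟩ => pullback m C.ι)
      (fun i => match i with | ⟨true⟩ => pullback.fst _ _ | ⟨false⟩ => pullback.fst _ _)
      (fun i => by rcases i with ⟨_ | _⟩ <;> dsimp <;> infer_instance) (fun x => ?_)).2 ?_
    · by_cases hx : m x ∈ Set.range (pullback.diagonal b₁)
      · obtain ⟨d, hd⟩ := hx
        obtain ⟨z, hz, -⟩ := Scheme.Pullback.exists_preimage_pullback x d hd.symm
        exact ⟨⟨true⟩, z, hz⟩
      · obtain ⟨z, hz, -⟩ := Scheme.Pullback.exists_preimage_pullback (f := m) (g := C.ι) x ⟨m x, hx⟩ rfl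
        exact ⟨⟨false⟩, z, hz⟩
    rintro ⟨_ | _⟩
    · dsimp only
      rw [pullback.condition_assoc]
      have : IsSeparated (C.ι ≫ pullback.snd b₁ b₁) := inferInstance
      refine ih (C.ι ≫ pullback.snd b₁ b₁) ?_ ?_
      · intro K _ _ v hv hinj
        refine hb K (Fin.cases (v 0 ≫ C.ι ≫ pullback.snd b₁ b₁) (fun i => v i ≫ C.ι ≫ pullback.fst b₁ b₁)) ?_ ?_
        · suffices ∀ i : Fin (n + 1 + 1), (Fin.cases (motive := fun _ => Spec (.of K) ⟶ V)
              (v 0 ≫ C.ι ≫ pullback.snd b₁ b₁) (fun i => v i ≫ C.ι ≫ pullback.fst b₁ b₁) i) ≫ b =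
              (v 0 ≫ C.ι ≫ pullback.snd b₁ b₁) ≫ b from fun i j => (this i).trans (this j).symm
          intro i
          induction i using Fin.cases with
          | zero => rfl
          | succ i =>
            simp only [Fin.cases_succ]
            rw [← hb₁]
            calc (v i ≫ C.ι ≫ pullback.fst b₁ b₁) ≫ b₁ ≫ Y₁.ι = ((v i ≫ C.ι ≫ pullback.snd b₁ b₁) ≫ b₁) ≫ Y₁.ι := by
                  simp [pullback.condition_assoc]
              _ = _ := by rw [hv i 0]; simp
        · have key : ∀ i, v i ≫ C.ι ≫ pullback.fst b₁ b₁ ≠ v 0 ≫ C.ι ≫ pullback.snd b₁ b₁ := by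
            intro i hi
            have : v i ≫ C.ι = (v 0 ≫ C.ι ≫ pullback.snd b₁ b₁) ≫ pullback.diagonal b₁ := by
              refine pullback.hom_ext ?_ ?_
              · simpa using hi
              · simpa using hv i 0
            have h2 : C.ι (v i default) ∈ Set.range (pullback.diagonal b₁) := by
              rw [← Scheme.Hom.comp_apply, this, Scheme.Hom.comp_apply]
              exact ⟨_, rfl⟩
            exact (v i default).2 h2
          intro i j hij
          induction i using Fin.cases with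
          | zero =>
            induction j using Fin.cases with
            | zero => rfl
            | succ j => exact absurd hij.symm (key j)
          | succ i =>
            induction j using Fin.cases with
            | zero => exact absurd hij (key i)
            | succ j =>
              refine congrArg Fin.succ (hinj ?_)
              rw [← cancel_mono C.ι]
              refine pullback.hom_ext ?_ ?_
              · simpa using hij
              · simpa using hv i j
      · rw [Category.assoc]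
        exact D.bc (IsPullback.of_hasPullback m C.ι) inferInstance Hm
    · dsimp only
      rw [pullback.condition_assoc, pullback.diagonal_snd, Category.comp_id]
      have := D.bc (IsPullback.of_hasPullback m (pullback.diagonal b₁)) inferInstance Hm
      rwa [pullback.diagonal_snd_assoc] at this

lemma bdd_standardEtale {A B : Type u} [CommRing A] [CommRing B] [Algebra A B] [Algebra.IsStandardEtale A B] :
    ∃ n, Bdd n (Spec.map (CommRingCat.ofHom (algebraMap A B))) := by
  obtain ⟨P⟩ := Algebra.IsStandardEtale.nonempty_standardEtalePresentation (R := A) (S := B)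
  refine ⟨P.P.f.natDegree, fun K _ _ v hv hinj => ?_⟩
  let φ : Fin (P.P.f.natDegree + 1) → (B →+* K) := fun i => (Spec.preimage (v i)).hom
  have hφ : ∀ i, (φ i).comp (algebraMap A B) = (φ 0).comp (algebraMap A B) := fun i => by
    have h := hv i 0
    rw [← Spec.map_preimage (v i), ← Spec.map_preimage (v 0), ← Spec.map_comp, ← Spec.map_comp] at h
    exact congrArg CommRingCat.Hom.hom (Spec.map_injective h)
  algebraize [(φ 0).comp (algebraMap A B)]
  let ψ : Fin (P.P.f.natDegree + 1) → (B →ₐ[A] K) := fun i => ⟨φ i, fun a => DFunLike.congr_fun (hφ i) a⟩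
  have hψ : Function.Injective fun i => ψ i P.x := fun i j hij => hinj (by
    have : φ i = φ j := congrArg AlgHom.toRingHom (P.hom_ext hij)
    rw [← Spec.map_preimage (v i), ← Spec.map_preimage (v j)]
    exact congrArg Spec.map (CommRingCat.hom_ext this))
  have h0 : P.P.f.map (algebraMap A K) ≠ 0 := (P.P.monic_f.map _).ne_zero
  classical
  have hc := Finset.card_le_card (s := Finset.univ.image fun i => ψ i P.x)
    (t := (P.P.f.map (algebraMap A K)).roots.toFinset) (fun r hr => by
    obtain ⟨i, -, rfl⟩ := Finset.mem_image.1 hr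
    rw [Multiset.mem_toFinset, Polynomial.mem_roots h0, Polynomial.IsRoot, Polynomial.eval_map,
      ← Polynomial.aeval_def, Polynomial.aeval_algHom_apply, P.hasMap.1, map_zero])
  rw [Finset.card_image_of_injective _ hψ, Finset.card_univ, Fintype.card_fin] at hc
  have := (Multiset.toFinset_card_le _).trans (Polynomial.card_roots' (P.P.f.map (algebraMap A K)))
  have := P.P.f.natDegree_map_le (f := algebraMap A K)
  omega

/-- Smooth morphisms are, locally, standard etale over affine spaces. -/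
lemma exists_chart {V Y : Scheme.{u}} (b : V ⟶ Y) [Smooth b] (v : ↥V) :
    ∃ (A : CommRingCat.{u}) (B : CommRingCat.{u}) (n : ℕ) (φ : MvPolynomial (Fin n) A →+* B)
      (jy : Spec A ⟶ Y) (jv : Spec B ⟶ V), IsOpenImmersion jy ∧ IsOpenImmersion jv ∧
      (@Algebra.IsStandardEtale (MvPolynomial (Fin n) A) B _ _ φ.toAlgebra) ∧
      v ∈ Set.range jv ∧
      jv ≫ b = Spec.map (CommRingCat.ofHom φ) ≫ Spec.map (CommRingCat.ofHom MvPolynomial.C) ≫ jy := by
  obtain ⟨_, ⟨Y₀, hY₀, rfl⟩, hvY, -⟩ :=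
    Y.isBasis_affineOpens.exists_subset_of_mem_open (Set.mem_univ (b v)) isOpen_univ
  obtain ⟨_, ⟨V₀, hV₀, rfl⟩, hvV, hle⟩ :=
    V.isBasis_affineOpens.exists_subset_of_mem_open (show v ∈ b ⁻¹ᵁ Y₀ from hvY) (b ⁻¹ᵁ Y₀).isOpen
  let ψ := b.appLE Y₀ V₀ hle
  have hs : ψ.hom.Smooth := HasRingHomProperty.appLE @Smooth b inferInstance ⟨Y₀, hY₀⟩ ⟨V₀, hV₀⟩ hle
  algebraize [ψ.hom]
  let p := (hV₀.primeIdealOf ⟨v, hvV⟩).asIdeal
  obtain ⟨f, hf, n, alg, tow, std⟩ := Algebra.IsSmoothAt.exists_isStandardEtale_mvPolynomial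
    (R := Γ(Y, Y₀)) (S := Γ(V, V₀)) (p := p)
  refine ⟨Γ(Y, Y₀), .of (Localization.Away f), n, algebraMap _ _, hY₀.fromSpec,
    Spec.map (CommRingCat.ofHom (algebraMap Γ(V, V₀) (Localization.Away f))) ≫ hV₀.fromSpec,
    inferInstance, ?_, ?_, ?_, ?_⟩
  · have : IsOpenImmersion (Spec.map (CommRingCat.ofHom (algebraMap Γ(V, V₀) (Localization.Away f)))) :=
      IsOpenImmersion.of_isLocalization f
    infer_instance
  · convert! std
    exact Algebra.algebra_ext _ _ fun _ => rfl
  · have hr : hV₀.primeIdealOf ⟨v, hvV⟩ ∈ Set.range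
        (PrimeSpectrum.comap (algebraMap Γ(V, V₀) (Localization.Away f))) := by
      rw [PrimeSpectrum.localization_away_comap_range (Localization.Away f) f]
      exact hf
    obtain ⟨q, hq⟩ := hr
    refine ⟨q, ?_⟩
    rw [Scheme.Hom.comp_apply]
    exact (congrArg hV₀.fromSpec hq).trans (hV₀.fromSpec_primeIdealOf ⟨v, hvV⟩)
  · rw [Category.assoc, ← IsAffineOpen.SpecMap_appLE_fromSpec b hY₀ hV₀ hle, ← Spec.map_comp_assoc,
      ← Spec.map_comp_assoc]
    congr 2
    ext a
    change algebraMap Γ(V, V₀) (Localization.Away f) (ψ a) = algebraMap (MvPolynomial (Fin n) Γ(Y, Y₀)) _ (MvPolynomial.C a)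
    rw [← MvPolynomial.algebraMap_eq, ← IsScalarTower.algebraMap_apply]
    exact (IsScalarTower.algebraMap_apply Γ(Y, Y₀) Γ(V, V₀) (Localization.Away f) a).symm

end GrothLib.AlgSp.EtSm
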