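import Groth.Agent.Lib.AlgSp.EtSmCore

/-!
# Descent along smooth morphisms of a property etale local at the source and smooth local at the base

The key point: the largest open `L` of `𝔸ⁿ_X` on which the property holds commutes with etale base
change and is stable under translations by sections of the base; translating by roots of unity
shows that `L` contains every fibre which it meets.
-/

universe u

open CategoryTheory CategoryTheory.Limits AlgebraicGeometry

namespace GrothLib.AlgSp.EtSm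

variable {S : Scheme.{u}} (D : Data S)

/-- Stability under postcomposition with etale morphisms. -/
theorem Data.postEtale {U V Y : Scheme.{u}} {sY : Y ⟶ S} {h : U ⟶ V} (b : V ⟶ Y) [Etale b]
    (H : D.Q (b ≫ sY) h) : D.Q sY (h ≫ b) := by
  choose jY hjY W hW hx bY hbY hs using fun x : ↥U => exists_affine_sep b (h x)
  refine (D.src (ι := ↥U) sY (h ≫ b) (fun x => pullback h (W x).ι) (fun x => pullback.fst _ _)
    (fun x => inferInstance) (fun x => ?_)).2 fun x => ?_
  · obtain ⟨z, hz, -⟩ := Scheme.Pullback.exists_preimage_pullback (f := h) (g := (W x).ι) x ⟨h x, hx x⟩ rfl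
    exact ⟨x, z, hz⟩
  · rw [pullback.condition_assoc, ← hbY x, ← Category.assoc]
    have := hjY x
    refine D.post inferInstance ?_
    have := (hs x).1
    have := (hs x).2.1
    obtain ⟨n, hn⟩ := (hs x).2.2
    refine D.postBdd n (bY x) hn ?_
    rw [← Category.assoc, hbY x, Category.assoc]
    exact D.bc (IsPullback.of_hasPullback h (W x).ι) inferInstance H
where
  exists_affine_sep {V Y : Scheme.{u}} (b : V ⟶ Y) [Etale b] (v : ↥V) :
      ∃ (Y' : Y.Opens) (_ : IsOpenImmersion Y'.ι) (W : V.Opens) (_ : IsAffineOpen W) (_ : v ∈ W)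
        (b' : W.toScheme ⟶ Y'.toScheme), b' ≫ Y'.ι = W.ι ≫ b ∧ Etale b' ∧ IsSeparated b' ∧ ∃ n, Bdd n b' := by
    obtain ⟨_, ⟨Y₀, hY₀, rfl⟩, hvY, -⟩ :=
      Y.isBasis_affineOpens.exists_subset_of_mem_open (Set.mem_univ (b v)) isOpen_univ
    obtain ⟨_, ⟨V₀, hV₀, rfl⟩, hvV, hle⟩ :=
      V.isBasis_affineOpens.exists_subset_of_mem_open (show v ∈ b ⁻¹ᵁ Y₀ from hvY) (b ⁻¹ᵁ Y₀).isOpen
    have hs : (b.appLE Y₀ V₀ hle).hom.Etale := b.etale_appLE hY₀ hV₀ hle
    algebraize [(b.appLE Y₀ V₀ hle).hom]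
    let p := (hV₀.primeIdealOf ⟨v, hvV⟩).asIdeal
    obtain ⟨f, hf, std⟩ := Algebra.IsEtaleAt.exists_isStandardEtale (R := Γ(Y, Y₀)) (S := Γ(V, V₀)) p
    let j : Spec (.of (Localization.Away f)) ⟶ V :=
      Spec.map (CommRingCat.ofHom (algebraMap Γ(V, V₀) (Localization.Away f))) ≫ hV₀.fromSpec
    have : IsOpenImmersion (Spec.map (CommRingCat.ofHom (algebraMap Γ(V, V₀) (Localization.Away f)))) :=
      IsOpenImmersion.of_isLocalization f
    have : IsOpenImmersion j := inferInstanceAs (IsOpenImmersion (_ ≫ _))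
    have hj : j ≫ b = Spec.map (CommRingCat.ofHom (algebraMap Γ(Y, Y₀) (Localization.Away f))) ≫ hY₀.fromSpec := by
      rw [Category.assoc, ← IsAffineOpen.SpecMap_appLE_fromSpec b hY₀ hV₀ hle, ← Spec.map_comp_assoc]
      congr 2
    have hle' : j.opensRange ≤ b ⁻¹ᵁ Y₀ := by
      rintro _ ⟨q, rfl⟩
      change b (j q) ∈ Y₀
      rw [← Scheme.Hom.comp_apply, hj, Scheme.Hom.comp_apply]
      exact hY₀.range_fromSpec.subset ⟨_, rfl⟩
    refine ⟨Y₀, inferInstance, j.opensRange, isAffineOpen_opensRange j, ?_, b.resLE Y₀ j.opensRange hle',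
      Scheme.Hom.resLE_comp_ι _ _, inferInstance, ?_, ?_⟩
    · have hr : hV₀.primeIdealOf ⟨v, hvV⟩ ∈ Set.range
          (PrimeSpectrum.comap (algebraMap Γ(V, V₀) (Localization.Away f))) := by
        rw [PrimeSpectrum.localization_away_comap_range (Localization.Away f) f]
        exact hf
      obtain ⟨q, hq⟩ := hr
      exact ⟨q, (congrArg hV₀.fromSpec hq).trans (hV₀.fromSpec_primeIdealOf ⟨v, hvV⟩)⟩
    · have : IsAffine j.opensRange.toScheme := isAffineOpen_opensRange j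
      have : IsAffine Y₀ := hY₀
      infer_instance
    · obtain ⟨n, hn⟩ := bdd_standardEtale (A := Γ(Y, Y₀)) (B := Localization.Away f)
      refine ⟨n, fun K _ _ w hw hinj => ?_⟩
      refine hn K (fun i => w i ≫ j.isoOpensRange.inv) (fun i k => ?_) fun i k hik => hinj ((cancel_mono _).1 hik)
      rw [← cancel_mono hY₀.fromSpec]
      simp only [Category.assoc]
      rw [← hj, Scheme.Hom.isoOpensRange_inv_comp_assoc, ← Scheme.Hom.resLE_comp_ι b hle',
        ← Category.assoc, hw i k, Category.assoc]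

variable {n : Type u}

/-- The largest open of `𝔸ⁿ_X` on which `Q` holds over `𝔸ⁿ_Y`. -/
noncomputable def Data.locus {X Y : Scheme.{u}} (n : Type u) (sY : Y ⟶ S) (f : X ⟶ Y) : (𝔸(n; X)).Opens :=
  ⨆ O : { O : (𝔸(n; X)).Opens // D.Q ((𝔸(n; Y) ↘ Y) ≫ sY) (O.ι ≫ AffineSpace.map n f) }, O.1

lemma Data.le_locus {X Y : Scheme.{u}} {sY : Y ⟶ S} {f : X ⟶ Y} {O : (𝔸(n; X)).Opens}
    (h : D.Q ((𝔸(n; Y) ↘ Y) ≫ sY) (O.ι ≫ AffineSpace.map n f)) : O ≤ D.locus n sY f :=
  le_iSup (fun O : { O : (𝔸(n; X)).Opens // D.Q ((𝔸(n; Y) ↘ Y) ≫ sY) (O.ι ≫ AffineSpace.map n f) } => O.1)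
    ⟨O, h⟩

lemma Data.Q_locus {X Y : Scheme.{u}} (sY : Y ⟶ S) (f : X ⟶ Y) :
    D.Q ((𝔸(n; Y) ↘ Y) ≫ sY) ((D.locus n sY f).ι ≫ AffineSpace.map n f) := by
  refine (D.src (ι := { O : (𝔸(n; X)).Opens // D.Q ((𝔸(n; Y) ↘ Y) ≫ sY) (O.ι ≫ AffineSpace.map n f) })
    _ _ (fun O => O.1.toScheme) (fun O => (𝔸(n; X)).homOfLE (D.le_locus O.2)) (fun O => inferInstance)
    (fun x => ?_)).2 fun O => ?_
  · obtain ⟨O, hO⟩ := TopologicalSpace.Opens.mem_iSup.1 x.2
    exact ⟨O, ⟨x.1, hO⟩, Subtype.ext (by rw [← Scheme.Opens.ι_apply, ← Scheme.Hom.comp_apply, Scheme.homOfLE_ι]; rfl)⟩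
  · rw [Scheme.homOfLE_ι_assoc]
    exact O.2

/-- Base change of the affine space square. -/
lemma isPullback_map_map {X Y X' Y' : Scheme.{u}} {g' : X' ⟶ X} {f' : X' ⟶ Y'} {f : X ⟶ Y} {c : Y' ⟶ Y}
    (sq : IsPullback g' f' f c) :
    IsPullback (AffineSpace.map n g') (AffineSpace.map n f') (AffineSpace.map n f) (AffineSpace.map n c) := by
  refine IsPullback.of_bot ?_ (by rw [← AffineSpace.map_comp, ← AffineSpace.map_comp, sq.w])
    (AffineSpace.isPullback_map c)
  rw [AffineSpace.map_over, AffineSpace.map_over]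
  exact (AffineSpace.isPullback_map g').paste_vert sq

theorem Data.mem_locus_iff {X Y X' Y' : Scheme.{u}} {g' : X' ⟶ X} {f' : X' ⟶ Y'} {f : X ⟶ Y} {c : Y' ⟶ Y}
    (sq : IsPullback g' f' f c) [Etale c] (sY : Y ⟶ S) (z : ↥𝔸(n; X')) :
    z ∈ D.locus n (c ≫ sY) f' ↔ AffineSpace.map n g' z ∈ D.locus n sY f := by
  have sq' := isPullback_map_map (n := n) sq
  have hc : Etale (AffineSpace.map n c) :=
    MorphismProperty.of_isPullback (P := @Etale) (AffineSpace.isPullback_map c).flip inferInstance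
  have hg : Etale (AffineSpace.map n g') := MorphismProperty.of_isPullback (P := @Etale) sq'.flip hc
  constructor
  · intro hz
    let q₀ := (D.locus n (c ≫ sY) f').ι ≫ AffineSpace.map n g'
    let O₂ : (𝔸(n; X)).Opens := ⟨Set.range q₀, q₀.isOpenMap.isOpen_range⟩
    suffices O₂ ≤ D.locus n sY f from this ⟨⟨z, hz⟩, rfl⟩
    refine D.le_locus ?_
    let q := IsOpenImmersion.lift O₂.ι q₀ (by simp [O₂])
    have hq : q ≫ O₂.ι = q₀ := IsOpenImmersion.lift_fac _ _ _
    have : Etale q := by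
      have : Etale (q ≫ O₂.ι) := by rw [hq]; infer_instance
      exact Etale.of_comp q O₂.ι
    have : Surjective q := ⟨fun y => by
      obtain ⟨v, hv⟩ := (y.2 : y.1 ∈ Set.range q₀)
      refine ⟨v, Subtype.ext ?_⟩
      rw [← hv, ← hq]
      rfl⟩
    rw [D.single _ _ q, ← Category.assoc, hq, Category.assoc, sq'.w, ← Category.assoc]
    refine D.postEtale (AffineSpace.map n c) ?_
    rw [AffineSpace.map_over_assoc]
    exact D.Q_locus (c ≫ sY) f'
  · intro hz
    refine D.le_locus (O := AffineSpace.map n g' ⁻¹ᵁ D.locus n sY f) ?_ hz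
    have h1 := (isPullback_morphismRestrict (AffineSpace.map n g') (D.locus n sY f)).paste_vert sq'
    have := D.bc h1 inferInstance (D.Q_locus sY f)
    rwa [AffineSpace.map_over_assoc] at this

/-- Translation of affine space by a vector of functions on the base. -/
noncomputable def tr {Z : Scheme.{u}} (a : n → Γ(Z, ⊤)) : 𝔸(n; Z) ⟶ 𝔸(n; Z) :=
  AffineSpace.homOfVector (𝔸(n; Z) ↘ Z) fun i => AffineSpace.coord Z i + (𝔸(n; Z) ↘ Z).appTop (a i)

lemma comp_tr {T Z : Scheme.{u}} (a : n → Γ(Z, ⊤)) (p : T ⟶ Z) (v : n → Γ(T, ⊤)) :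
    AffineSpace.homOfVector p v ≫ tr a = AffineSpace.homOfVector p fun i => v i + p.appTop (a i) := by
  refine AffineSpace.hom_ext (by simp [tr]) fun i => ?_
  rw [Scheme.Hom.comp_appTop, CommRingCat.comp_apply, tr, AffineSpace.homOfVector_appTop_coord, map_add,
    AffineSpace.homOfVector_appTop_coord, AffineSpace.homOfVector_appTop_coord, ← CommRingCat.comp_apply,
    ← Scheme.Hom.comp_appTop, AffineSpace.homOfVector_over]

lemma eq_homOfVector {T Z : Scheme.{u}} (g : T ⟶ 𝔸(n; Z)) :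
    g = AffineSpace.homOfVector (g ≫ 𝔸(n; Z) ↘ Z) fun i => g.appTop (AffineSpace.coord Z i) :=
  AffineSpace.hom_ext (by simp) fun i => by simp

lemma homOfVector_map {T X Y : Scheme.{u}} (p : T ⟶ X) (v : n → Γ(T, ⊤)) (f : X ⟶ Y) :
    AffineSpace.homOfVector p v ≫ AffineSpace.map n f = AffineSpace.homOfVector (p ≫ f) v := by
  refine AffineSpace.hom_ext (by simp) fun i => ?_
  rw [Scheme.Hom.comp_appTop, CommRingCat.comp_apply, AffineSpace.map_appTop_coord]
  simp

lemma tr_tr {Z : Scheme.{u}} (a b : n → Γ(Z, ⊤)) (h : ∀ i, a i + b i = 0) : tr a ≫ tr b = 𝟙 _ := by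
  conv_lhs => rw [tr]
  rw [comp_tr]
  refine AffineSpace.hom_ext (by simp) fun i => ?_
  rw [AffineSpace.homOfVector_appTop_coord, add_assoc, ← map_add, h i, map_zero, add_zero]
  simp

instance {Z : Scheme.{u}} (a : n → Γ(Z, ⊤)) : IsIso (tr a) :=
  ⟨⟨tr fun i => - a i, tr_tr _ _ fun i => add_neg_cancel _, tr_tr _ _ fun i => neg_add_cancel _⟩⟩

lemma map_tr {X Y : Scheme.{u}} (f : X ⟶ Y) (a : n → Γ(Y, ⊤)) :
    tr (fun i => f.appTop (a i)) ≫ AffineSpace.map n f = AffineSpace.map n f ≫ tr a := by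
  conv_lhs => rw [tr]
  rw [homOfVector_map]
  conv_rhs => rw [eq_homOfVector (AffineSpace.map n f)]
  rw [comp_tr, AffineSpace.map_over]
  congr 1
  funext i
  rw [AffineSpace.map_appTop_coord, Scheme.Hom.comp_appTop, CommRingCat.comp_apply]

theorem Data.mem_locus_of_tr {X Y : Scheme.{u}} (sY : Y ⟶ S) (f : X ⟶ Y) (a : n → Γ(Y, ⊤)) (z : ↥𝔸(n; X))
    (hz : tr (fun i => f.appTop (a i)) z ∈ D.locus n sY f) : z ∈ D.locus n sY f := by
  refine D.le_locus (O := tr (fun i => f.appTop (a i)) ⁻¹ᵁ D.locus n sY f) ?_ hz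
  have h0 : IsPullback (tr fun i => f.appTop (a i)) (AffineSpace.map n f) (AffineSpace.map n f) (tr a) :=
    IsPullback.of_horiz_isIso ⟨map_tr f a⟩
  have h1 := (isPullback_morphismRestrict (tr fun i => f.appTop (a i)) (D.locus n sY f)).paste_vert h0
  have := D.bc h1 inferInstance (D.Q_locus sY f)
  rwa [← Category.assoc, show tr a ≫ 𝔸(n; Y) ↘ Y = 𝔸(n; Y) ↘ Y by simp [tr]] at this

end GrothLib.AlgSp.EtSm
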