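import Groth.Agent.Lib.AlgSp.EtSmDescend

/-!
# The locus of a property etale local at the source and smooth local at the base fills the fibres
-/

universe u

open CategoryTheory CategoryTheory.Limits AlgebraicGeometry

namespace GrothLib.AlgSp.EtSm

variable {S : Scheme.{u}} (D : Data S) {n : Type u}

/-- `(ℤ[X]/(X^N - 1))[1/N]`. -/
noncomputable def rootPair (N : ℕ) (hN : 0 < N) : StandardEtalePair (ULift.{u} ℤ) where
  f := Polynomial.X ^ N - 1
  monic_f := by simpa using Polynomial.monic_X_pow_sub_C (1 : ULift.{u} ℤ) hN.ne'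
  g := (N : Polynomial (ULift.{u} ℤ))
  cond := ⟨Polynomial.X, -(N : Polynomial (ULift.{u} ℤ)), 1, by
    obtain ⟨m, rfl⟩ : ∃ m, N = m + 1 := ⟨N - 1, by omega⟩
    simp only [Polynomial.derivative_sub, Polynomial.derivative_X_pow, Polynomial.derivative_one, sub_zero,
      add_tsub_cancel_right, Polynomial.C_eq_natCast, pow_one]
    push_cast
    ring⟩

lemma exists_root_translate {K : Type u} [Field K] [IsAlgClosed K] [Finite n] (F : MvPolynomial n K) (hF : F ≠ 0)
    (ζ : n → K) : ∃ (N : ℕ) (_ : 0 < N) (ω : K) (e : n → ℕ),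
      (N : K) ≠ 0 ∧ ω ^ N = 1 ∧ MvPolynomial.eval (fun i => ζ i + ω ^ e i) F ≠ 0 := by
  classical
  obtain ⟨p, hp⟩ := CharP.exists K
  obtain ⟨N, hle, hNp⟩ := Nat.exists_infinite_primes (p + F.totalDegree + 2)
  have hN : (N : K) ≠ 0 := by
    intro h
    rw [CharP.cast_eq_zero_iff K p] at h
    rcases (Nat.dvd_prime hNp).1 h with rfl | rfl
    · exact CharP.char_ne_one K 1 rfl
    · omega
  have : NeZero (N : K) := ⟨hN⟩
  obtain ⟨ω, hω⟩ := HasEnoughRootsOfUnity.exists_primitiveRoot K N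
  refine ⟨N, hNp.pos, ω, ?_⟩
  by_contra! hall
  refine hF (MvPolynomial.eq_zero_of_eval_zero_at_prod_finset F
    (fun i => (Finset.range N).image fun e => ζ i + ω ^ e) (fun i => ?_) (fun x hx => ?_))
  · rw [Finset.card_image_of_injOn, Finset.card_range]
    · have := MvPolynomial.degreeOf_le_totalDegree F i
      omega
    · intro a ha b hb hab
      exact hω.pow_inj (by simpa using ha) (by simpa using hb) (add_left_cancel hab)
  · choose e _ he using fun i => Finset.mem_image.1 (hx i)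
    rw [← funext he]
    exact hall e hN hω.pow_eq_one

lemma appTop_ΓSpecIso_inv {R R' : CommRingCat.{u}} (φ : R ⟶ R') (r : R) :
    (Spec.map φ).appTop ((Scheme.ΓSpecIso R).inv r) = (Scheme.ΓSpecIso R').inv (φ r) := by
  rw [← CommRingCat.comp_apply, ← Scheme.ΓSpecIso_inv_naturality, CommRingCat.comp_apply]

/-- Polynomials over `K` as functions of a point `xK`. -/
noncomputable def polyMap {X : Scheme.{u}} {K : Type u} [Field K] (xK : Spec (.of K) ⟶ X) :
    Spec (.of (MvPolynomial n K)) ⟶ 𝔸(n; X) :=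
  AffineSpace.homOfVector (Spec.map (CommRingCat.ofHom MvPolynomial.C) ≫ xK)
    fun i => (Scheme.ΓSpecIso _).inv (MvPolynomial.X i)

lemma eval_polyMap {X : Scheme.{u}} {K L : Type u} [Field K] [Field L] (xK : Spec (.of K) ⟶ X) (φ : K →+* L)
    (β : n → L) :
    Spec.map (CommRingCat.ofHom (MvPolynomial.eval₂Hom φ β)) ≫ polyMap xK =
      AffineSpace.homOfVector (Spec.map (CommRingCat.ofHom φ) ≫ xK) fun i => (Scheme.ΓSpecIso _).inv (β i) := by
  rw [polyMap, AffineSpace.comp_homOfVector, ← Spec.map_comp_assoc, ← CommRingCat.ofHom_comp,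
    show (MvPolynomial.eval₂Hom φ β).comp MvPolynomial.C = φ from RingHom.ext fun _ => MvPolynomial.eval₂Hom_C _ _ _]
  congr 1
  funext i
  rw [Function.comp_apply, appTop_ΓSpecIso_inv]
  simp

/-- The locus contains every fibre of `𝔸ⁿ_X → X` it meets. -/
theorem Data.fibre_le_locus [Finite n] {X Y : Scheme.{u}} (sY : Y ⟶ S) (f : X ⟶ Y) (z w : ↥𝔸(n; X))
    (hw : w ∈ D.locus n sY f) (hzw : (𝔸(n; X) ↘ X) z = (𝔸(n; X) ↘ X) w) : z ∈ D.locus n sY f := by
  classical
  obtain ⟨K, _, _, pt, hpt⟩ := exists_geomPoint z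
  have hz0 : pt default = z := hpt.subset ⟨default, rfl⟩
  let xK := pt ≫ 𝔸(n; X) ↘ X
  let e := Scheme.ΓSpecIso (CommRingCat.of K)
  let ζ : n → K := fun i => e.hom (pt.appTop (AffineSpace.coord X i))
  have hζ : ∀ i, e.inv (ζ i) = pt.appTop (AffineSpace.coord X i) := fun i => by simp [ζ]
  have hptv : pt = AffineSpace.homOfVector xK fun i => e.inv (ζ i) := by
    simp only [hζ]; exact eq_homOfVector pt
  -- the preimage of the locus in `𝔸ⁿ_K` is nonempty
  have hne : ∃ 𝔮, polyMap (n := n) xK 𝔮 ∈ D.locus n sY f := by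
    have hx : (𝔸(n; X) ↘ X) w = xK default := by
      rw [Scheme.Hom.comp_apply, hz0, hzw]
    obtain ⟨P, hP1, -⟩ := Scheme.Pullback.exists_preimage_pullback w default hx
    let T := pullback (𝔸(n; X) ↘ X) xK
    let wL : Spec (T.residueField P) ⟶ 𝔸(n; X) := T.fromSpecResidueField P ≫ pullback.fst _ _
    let φ : K →+* T.residueField P := (Spec.preimage (T.fromSpecResidueField P ≫ pullback.snd _ _)).hom
    let γ : n → T.residueField P := fun i =>
      (Scheme.ΓSpecIso (T.residueField P)).hom (wL.appTop (AffineSpace.coord X i))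
    refine ⟨(Spec.map (CommRingCat.ofHom (MvPolynomial.eval₂Hom φ γ))) default, ?_⟩
    rw [← Scheme.Hom.comp_apply, eval_polyMap]
    suffices h : AffineSpace.homOfVector (Spec.map (CommRingCat.ofHom φ) ≫ xK)
        (fun i => (Scheme.ΓSpecIso (T.residueField P)).inv (γ i)) = wL by
      erw [h]
      rw [Scheme.Hom.comp_apply, Scheme.fromSpecResidueField_apply, hP1]
      exact hw
    refine AffineSpace.hom_ext ?_ fun i => ?_
    · rw [AffineSpace.homOfVector_over]
      simp only [φ, wL, CommRingCat.ofHom_hom, Spec.map_preimage, Category.assoc, pullback.condition]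
    · rw [AffineSpace.homOfVector_appTop_coord]
      simp [γ]
  obtain ⟨𝔮, hq⟩ := hne
  obtain ⟨_, ⟨F, rfl⟩, hFq, hFle⟩ := PrimeSpectrum.isTopologicalBasis_basic_opens.exists_subset_of_mem_open
    (show 𝔮 ∈ (polyMap (n := n) xK) ⁻¹ᵁ D.locus n sY f from hq) ((polyMap (n := n) xK) ⁻¹ᵁ D.locus n sY f).isOpen
  have hF : F ≠ 0 := fun h => hFq (h ▸ Ideal.zero_mem _)
  obtain ⟨N, hN0, ω, ee, hNK, hωN, heval⟩ := exists_root_translate F hF ζ
  let R := rootPair.{u} N hN0
  let algK : Algebra (ULift.{u} ℤ) K := ((Int.castRingHom K).comp ULift.ringEquiv.toRingHom).toAlgebra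
  have hmap : R.HasMap ω := ⟨by simp [R, rootPair, hωN], by simp [R, rootPair, hNK]⟩
  let χ : CommRingCat.of R.Ring ⟶ CommRingCat.of K := CommRingCat.ofHom (R.lift ω hmap).toRingHom
  let t := Spec.map (CommRingCat.ofHom (algebraMap (ULift.{u} ℤ) R.Ring))
  have : Etale t := (HasRingHomProperty.Spec_iff (P := @Etale)).2 (RingHom.etale_algebraMap.2 inferInstance)
  let c := pullback.fst (specULiftZIsTerminal.from Y) t
  let a : n → Γ(pullback (specULiftZIsTerminal.from Y) t, ⊤) := fun i =>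
    (pullback.snd (specULiftZIsTerminal.from Y) t).appTop ((Scheme.ΓSpecIso (.of R.Ring)).inv (R.X ^ ee i))
  let y : Spec (.of K) ⟶ pullback (specULiftZIsTerminal.from Y) t :=
    pullback.lift (xK ≫ f) (Spec.map χ) (specULiftZIsTerminal.hom_ext _ _)
  let x' : Spec (.of K) ⟶ pullback f c := pullback.lift xK y (pullback.lift_fst _ _ _).symm
  let pt' := AffineSpace.homOfVector x' fun i => e.inv (ζ i)
  have hpt' : pt' ≫ AffineSpace.map n (pullback.fst f c) = pt := by
    rw [homOfVector_map, pullback.lift_fst]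
    exact hptv.symm
  rw [← hz0, ← hpt', Scheme.Hom.comp_apply, ← D.mem_locus_iff (IsPullback.of_hasPullback f c) sY]
  refine D.mem_locus_of_tr (c ≫ sY) _ a _ ?_
  rw [D.mem_locus_iff (IsPullback.of_hasPullback f c) sY, ← Scheme.Hom.comp_apply, ← Scheme.Hom.comp_apply,
    ← Category.assoc, comp_tr, homOfVector_map, pullback.lift_fst]
  have hval : ∀ i, x'.appTop ((pullback.snd f c).appTop (a i)) = e.inv (ω ^ ee i) := fun i => by
    rw [← CommRingCat.comp_apply, ← Scheme.Hom.comp_appTop, pullback.lift_snd, ← CommRingCat.comp_apply,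
      ← Scheme.Hom.comp_appTop, pullback.lift_snd, appTop_ΓSpecIso_inv]
    change e.inv ((R.lift ω hmap) (R.X ^ ee i)) = _
    rw [map_pow, StandardEtalePair.lift_X]
  simp only [hval, ← map_add]
  let ev := Spec.map (CommRingCat.ofHom (MvPolynomial.eval₂Hom (RingHom.id K) fun i => ζ i + ω ^ ee i))
  have h := eval_polyMap xK (RingHom.id K) fun i => ζ i + ω ^ ee i
  rw [show CommRingCat.ofHom (RingHom.id K) = 𝟙 _ from rfl, Spec.map_id, Category.id_comp] at h
  rw [← h, Scheme.Hom.comp_apply]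
  refine hFle (show F ∉ _ from fun hm => ?_)
  have hm' : (MvPolynomial.eval₂Hom (RingHom.id K) fun i => ζ i + ω ^ ee i) F ∈
    (default : ↥(Spec (CommRingCat.of K))).asIdeal := hm
  refine heval ?_
  by_contra hne
  exact (default : ↥(Spec (CommRingCat.of K))).isPrime.ne_top (Ideal.eq_top_of_isUnit_mem _ hm' (Ne.isUnit hne))

set_option backward.isDefEq.respectTransparency.types false in
lemma smooth_affineSpace [Finite n] (Y : Scheme.{u}) : Smooth (𝔸(n; Y) ↘ Y) :=
  MorphismProperty.pullback_fst (P := @Smooth) _ _ <| by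
  have := isIso_of_isTerminal specULiftZIsTerminal.{u} terminalIsTerminal (terminal.from _)
  rw [← terminal.comp_from (Spec.map (CommRingCat.ofHom MvPolynomial.C)),
    MorphismProperty.cancel_right_of_respectsIso (P := @Smooth),
    HasRingHomProperty.Spec_iff (P := @Smooth), RingHom.Smooth]
  convert! (inferInstance : Algebra.Smooth (ULift ℤ) (MvPolynomial n (ULift.{u} ℤ)))
  all_goals first | exact Algebra.algebra_ext _ _ fun _ ↦ rfl | exact ⟨inferInstance, inferInstance⟩

/-- Descent along `𝔸ⁿ_Y → Y`. -/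
theorem Data.of_affineSpace [Finite n] {X Y : Scheme.{u}} (sY : Y ⟶ S) (f : X ⟶ Y) (O : (𝔸(n; X)).Opens)
    (hO : D.Q ((𝔸(n; Y) ↘ Y) ≫ sY) (O.ι ≫ AffineSpace.map n f)) :
    ∃ X₀ : X.Opens, (X₀ : Set X) = (𝔸(n; X) ↘ X) '' O ∧ D.Q sY (X₀.ι ≫ f) := by
  let π := 𝔸(n; X) ↘ X
  let X₀ : X.Opens := ⟨π '' O, AffineSpace.isOpenMap_over (n := n) X _ O.isOpen⟩
  refine ⟨X₀, rfl, ?_⟩
  have hsm : Smooth (𝔸(n; Y) ↘ Y) := smooth_affineSpace Y
  have hle : π ⁻¹ᵁ X₀ ≤ D.locus n sY f := by
    rintro z ⟨w, hw, hwz⟩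
    exact D.fibre_le_locus sY f z w (D.le_locus hO hw) hwz.symm
  have h1 := (isPullback_morphismRestrict π X₀).paste_vert (AffineSpace.isPullback_map (n := n) f).flip
  refine D.base h1 hsm inferInstance ?_
  rw [← Scheme.homOfLE_ι_assoc (X := 𝔸(n; X)) hle]
  exact D.precomp _ (D.Q_locus sY f)

end GrothLib.AlgSp.EtSm
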