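import Groth.Agent.Lib.AlgSp.EtSmSpace

/-!
# The locality axiom of etale-smooth local properties
-/

universe u

open CategoryTheory CategoryTheory.Limits AlgebraicGeometry

namespace GrothLib.AlgSp

open _root_.AlgSp

variable {S : Scheme.{u}} {P : MorphismProperty (Sp S)}

theorem isEtaleMor_pullback_map {X X' Y Y' : Sp S} (hX : IsAlgSpace X) (hY : IsAlgSpace Y) (hY' : IsAlgSpace Y')
    {f : X ⟶ Y} {g : Y' ⟶ Y} {fst : X' ⟶ X} {f' : X' ⟶ Y'} (sq : IsPullback fst f' f g) (hf : IsEtaleMor f) :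
    IsEtaleMor f' :=
  isEtaleMor_of_locP hY' (EtLocal.etale.locP_of_isPullback hX hY hY' sq (locP_of_isEtaleMor hY hf))

theorem exists_nhd_onSch (h1 : IsLocalOnSource (IsEtCover (S := S)) P) (h2 : IsLocalOnBase (IsSmCover (S := S)) P)
    (h3 : ∀ ⦃X Y Z : Space S⦄ (f : X ⟶ Y) (j : Y ⟶ Z), P f.hom → RepWith @IsOpenImmersion j.hom → P (f ≫ j).hom)
    {X Y : Sp S} (hX : IsAlgSpace X) (hY : IsAlgSpace Y) (f : X ⟶ Y)
    {Y₁ X₂ : Over S} (b₁ : (yon S).obj Y₁ ⟶ Y) (hb₁ : RepWith @Etale b₁)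
    (a : (yon S).obj X₂ ⟶ pullback f b₁) (ha : RepWith @Etale a) (φ : X₂ ⟶ Y₁)
    (hφ : (yon S).map φ = a ≫ pullback.snd f b₁) (x₂ : ↥X₂.left)
    {V W U : Sp S} (hV : IsAlgSpace V) (hW : IsAlgSpace W) (hU : IsAlgSpace U) {b : V ⟶ Y} {p : W ⟶ X} {q : W ⟶ V}
    (hb : LocP @Smooth b) (sq : IsPullback p q f b) (e : U ⟶ W) (he : IsEtaleMor e) (v : Points U)
    (hv : Points.map (e ≫ p) v = Points.map (pullback.fst f b₁) (Points.ofPt a x₂)) (hP : P (e ≫ q)) :
    ∃ X₀ : X₂.left.Opens, x₂ ∈ X₀ ∧ onSch P Y₁.hom (X₀.ι ≫ φ.left) := by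
  have hY₁ := IsAlgSpace.yon_obj Y₁
  have hX₁ := isAlgSpace_pullback' hY hX hY₁ f b₁
  have hV₁ := isAlgSpace_pullback' hY hV hY₁ b b₁
  obtain ⟨V₂, c, ce, cs⟩ := hV₁.atlas
  let cV := c ≫ pullback.fst b b₁
  obtain ⟨β, hβ⟩ := (yon S).map_surjective (c ≫ pullback.snd b b₁)
  have hcV : LocP @Smooth cV :=
    EtLocal.smooth.locP_comp (IsAlgSpace.yon_obj _) hV₁ hV
      (EtLocal.smooth.locP_of_repWith hV₁ (repWith_mono ce fun _ _ g (_ : Etale g) => inferInstance))
      (EtLocal.smooth.locP_of_isPullback hY₁ hY hV (IsPullback.of_hasPullback b b₁).flip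
        (EtLocal.smooth.locP_of_repWith hY (repWith_mono hb₁ fun _ _ g (_ : Etale g) => inferInstance)))
  have hβs : Smooth β.left := by
    refine locP_yon_map (P := @Smooth) ?_
    rw [hβ]
    exact EtLocal.smooth.locP_comp (IsAlgSpace.yon_obj _) hV₁ hY₁
      (EtLocal.smooth.locP_of_repWith hV₁ (repWith_mono ce fun _ _ g (_ : Etale g) => inferInstance))
      (EtLocal.smooth.locP_of_isPullback hV hY hY₁ (IsPullback.of_hasPullback b b₁) hb)
  have hcVb : cV ≫ b = (yon S).map β ≫ b₁ := by rw [hβ, Category.assoc, Category.assoc, pullback.condition]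
  -- `L = W ×_X X₁ = W ×_V V₁`
  let toV₁ : pullback p (pullback.fst f b₁) ⟶ pullback b b₁ :=
    pullback.lift (pullback.fst _ _ ≫ q) (pullback.snd _ _ ≫ pullback.snd f b₁) (by
      rw [Category.assoc, ← sq.w, pullback.condition_assoc, pullback.condition, Category.assoc])
  have sqL : IsPullback (pullback.fst p (pullback.fst f b₁)) toV₁ q (pullback.fst b b₁) := by
    refine IsPullback.of_bot ?_ (pullback.lift_fst _ _ _).symm (IsPullback.of_hasPullback b b₁)
    rw [show toV₁ ≫ pullback.snd b b₁ = pullback.snd _ _ ≫ pullback.snd f b₁ from pullback.lift_snd _ _ _, ← sq.w]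
    exact (IsPullback.of_hasPullback p (pullback.fst f b₁)).paste_vert (IsPullback.of_hasPullback f b₁)
  let M := pullback q cV
  have hM : IsAlgSpace M := isAlgSpace_pullback' hV hW (IsAlgSpace.yon_obj _) q cV
  let μL : M ⟶ pullback p (pullback.fst f b₁) :=
    sqL.lift (pullback.fst q cV) (pullback.snd q cV ≫ c) (by rw [pullback.condition, Category.assoc])
  have sqμL : IsPullback μL (pullback.snd q cV) toV₁ c := by
    refine IsPullback.of_right ?_ (sqL.lift_snd _ _ _) sqL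
    rw [show μL ≫ pullback.fst p (pullback.fst f b₁) = _ from sqL.lift_fst _ _ _]
    exact IsPullback.of_hasPullback q cV
  let m₁ : M ⟶ pullback f b₁ := μL ≫ pullback.snd _ _
  have sqM : IsPullback (pullback.snd q cV) m₁ ((yon S).map β) (pullback.snd f b₁) := by
    have hbig : IsPullback (pullback.snd q cV) (pullback.fst q cV ≫ p) ((yon S).map β ≫ b₁) f := by
      rw [← hcVb]
      exact (IsPullback.of_hasPullback q cV).flip.paste_vert sq.flip
    refine IsPullback.of_bot ?_ ?_ (IsPullback.of_hasPullback f b₁).flip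
    · rw [show m₁ ≫ pullback.fst f b₁ = pullback.fst q cV ≫ p by
        rw [Category.assoc, ← pullback.condition, ← Category.assoc]
        exact congrArg (· ≫ p) (sqL.lift_fst _ _ _)]
      exact hbig
    · rw [Category.assoc, hβ,
        ← show toV₁ ≫ pullback.snd b b₁ = pullback.snd _ _ ≫ pullback.snd f b₁ from pullback.lift_snd _ _ _,
        ← Category.assoc, ← Category.assoc]
      exact (congrArg (· ≫ pullback.snd b b₁) sqμL.w).symm
  let R := pullback φ β
  let μ : (yon S).obj R ⟶ M := sqM.lift ((yon S).map (pullback.snd φ β)) ((yon S).map (pullback.fst φ β) ≫ a)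
    (by rw [Category.assoc, ← hφ, ← Functor.map_comp, ← Functor.map_comp, pullback.condition])
  have sqμ : IsPullback μ ((yon S).map (pullback.fst φ β)) m₁ a := by
    refine IsPullback.of_right ?_ (sqM.lift_snd _ _ _) sqM
    rw [show μ ≫ pullback.snd q cV = _ from sqM.lift_fst _ _ _, ← hφ]
    exact (isPullback_yon (IsPullback.of_hasPullback φ β)).flip
  have hμ : IsEtaleMor μ := isEtaleMor_of_locP hM
    (EtLocal.etale.locP_of_isPullback (IsAlgSpace.yon_obj _) hX₁ hM sqμ.flip (EtLocal.etale.locP_of_repWith hX₁ ha))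
  let K := pullback e (pullback.fst q cV)
  have hK : IsAlgSpace K := isAlgSpace_pullback' hW hU hM e (pullback.fst q cV)
  have hκ : IsEtaleMor (pullback.snd e (pullback.fst q cV)) :=
    isEtaleMor_pullback_map hU hW hM (IsPullback.of_hasPullback _ _) he
  have hPK : P (pullback.snd e (pullback.fst q cV) ≫ pullback.snd q cV) :=
    etSm_baseChange h2 hU hV hK (IsAlgSpace.yon_obj _) (e ≫ q) cV _ _
      ((IsPullback.of_hasPullback e (pullback.fst q cV)).paste_vert (IsPullback.of_hasPullback q cV)) hcV hP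
  let K' := pullback (pullback.snd e (pullback.fst q cV)) μ
  have hK' : IsAlgSpace K' := isAlgSpace_pullback' hM hK (IsAlgSpace.yon_obj _) _ μ
  obtain ⟨U₂, d, de, ds⟩ := hK'.atlas
  obtain ⟨ε, hε⟩ := (yon S).map_surjective (d ≫ pullback.snd _ μ)
  have hd : LocP @Etale d := EtLocal.etale.locP_of_repWith hK' de
  have hεe : Etale ε.left := by
    refine locP_yon_map (P := @Etale) ?_
    rw [hε]
    exact EtLocal.etale.locP_comp (IsAlgSpace.yon_obj _) hK' (IsAlgSpace.yon_obj _) hd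
      (EtLocal.etale.locP_of_isPullback hK hM (IsAlgSpace.yon_obj _) (IsPullback.of_hasPullback _ μ)
        (locP_of_isEtaleMor hM hκ))
  have hdK : IsEtaleMor (d ≫ pullback.fst _ μ) := isEtaleMor_of_locP hK
    (EtLocal.etale.locP_comp (IsAlgSpace.yon_obj _) hK' hK hd
      (EtLocal.etale.locP_of_isPullback (IsAlgSpace.yon_obj _) hM hK (IsPullback.of_hasPullback _ μ).flip
        (locP_of_isEtaleMor hM hμ)))
  have hP2 : onSch P (β.left ≫ Y₁.hom) (ε.left ≫ (pullback.snd φ β).left) := by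
    rw [Over.w β]
    refine (onSch_iff (ε ≫ pullback.snd φ β)).2 ?_
    rw [Functor.map_comp, hε, Category.assoc,
      ← show μ ≫ pullback.snd q cV = (yon S).map (pullback.snd φ β) from sqM.lift_fst _ _ _,
      ← pullback.condition_assoc, ← Category.assoc]
    exact etSm_precomp h1 (IsAlgSpace.yon_obj _) hK (IsAlgSpace.yon_obj _) _ _ hdK hPK
  -- the point
  rw [← Function.comp_apply (f := Points.map (pullback.fst f b₁))] at hv
  obtain ⟨l, hl1, hl2⟩ := exists_of_isPullback (IsPullback.of_hasPullback p (pullback.fst f b₁))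
    (x := Points.map e v) (y := Points.ofPt a x₂) ((Points.map_comp e p v).symm.trans hv)
  obtain ⟨m, hm⟩ := surjective_map_of_isPullback sqμL.flip (surjective_map_of_repWith cs) l
  have hm1 : Points.map (pullback.fst q cV) m = Points.map e v := by
    rw [← hl1, ← hm, ← Points.map_comp, sqL.lift_fst]
  have hm2 : Points.map m₁ m = Points.map a (Points.ofPt (𝟙 _) x₂) := by
    rw [Points.map_comp, hm, hl2, Points.map_ofPt, Category.id_comp]
  obtain ⟨r, hr1, hr2⟩ := exists_of_isPullback sqμ hm2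
  obtain ⟨k, -, hk⟩ := exists_of_isPullback (IsPullback.of_hasPullback e (pullback.fst q cV)) hm1.symm
  obtain ⟨k', -, hk'⟩ := exists_of_isPullback (IsPullback.of_hasPullback _ μ) (hk.trans hr1.symm)
  obtain ⟨u₂, hu₂⟩ := surjective_ofPt_of_repWith ds k'
  have hsq : IsPullback (pullback.fst φ β).left (pullback.snd φ β).left φ.left β.left :=
    isPullback_left (IsPullback.of_hasPullback φ β)
  obtain ⟨X₀, hmem, hX₀⟩ := (etSmData h1 h2 h3).descend hsq ε.left hP2 u₂
  refine ⟨X₀, ?_, hX₀⟩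
  convert hmem using 1
  apply (Points.schemeHomeo X₂).injective
  rw [← hu₂] at hk'
  rw [Points.map_ofPt] at hk'
  have h5 : Points.map ((yon S).map (pullback.fst φ β)) (Points.map (d ≫ pullback.snd _ μ) (Points.ofPt (𝟙 _) u₂)) =
      Points.ofPt (𝟙 _) x₂ := by
    rw [Points.map_ofPt, Category.id_comp, hk', hr2]
  rw [← hε, Points.map_ofPt, Points.map_ofPt, Category.id_comp] at h5
  rw [← Functor.map_comp] at h5
  refine h5.symm.trans ?_
  exact (by simpa using ofPt_map_comp (ε ≫ pullback.fst φ β) (𝟙 _) u₂ :)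

theorem etSm_locality (h1 : IsLocalOnSource (IsEtCover (S := S)) P) (h2 : IsLocalOnBase (IsSmCover (S := S)) P)
    (h3 : ∀ ⦃X Y Z : Space S⦄ (f : X ⟶ Y) (j : Y ⟶ Z), P f.hom → RepWith @IsOpenImmersion j.hom → P (f ≫ j).hom)
    {X Y : Sp S} (hX : IsAlgSpace X) (hY : IsAlgSpace Y) (f : X ⟶ Y)
    (H : ∀ x : Points X, ∃ (V W U : Sp S) (b : V ⟶ Y) (p : W ⟶ X) (q : W ⟶ V) (e : U ⟶ W) (v : Points U),
      IsAlgSpace V ∧ IsAlgSpace W ∧ IsAlgSpace U ∧ LocP @Smooth b ∧ IsPullback p q f b ∧ IsEtaleMor e ∧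
      Points.map (e ≫ p) v = x ∧ P (e ≫ q)) : P f := by
  obtain ⟨Y₁, b₁, be, bs⟩ := hY.atlas
  have hX₁ := isAlgSpace_pullback' hY hX (IsAlgSpace.yon_obj Y₁) f b₁
  refine (h2 (ι := PUnit) (fun _ => (yon S).obj Y₁) (fun _ => b₁) hY (fun _ => IsAlgSpace.yon_obj _)
    ⟨fun _ => EtLocal.smooth.locP_of_repWith hY (repWith_mono be fun _ _ g (_ : Etale g) => inferInstance),
      fun y => ⟨⟨⟩, surjective_map_of_repWith bs y⟩⟩ f hX (fun _ => pullback f b₁) (fun _ => pullback.snd _ _)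
      (fun _ => pullback.fst _ _) (fun _ => hX₁) fun _ => IsPullback.of_hasPullback _ _).2 fun _ => ?_
  obtain ⟨X₂, a, ae, as⟩ := hX₁.atlas
  refine (h1 (ι := PUnit) (fun _ => (yon S).obj X₂) (fun _ => a) hX₁ (fun _ => IsAlgSpace.yon_obj _)
    ⟨fun _ => isEtaleMor_of_locP hX₁ (EtLocal.etale.locP_of_repWith hX₁ ae),
      fun x => ⟨⟨⟩, surjective_map_of_repWith as x⟩⟩ _ (IsAlgSpace.yon_obj _)).2 fun _ => ?_
  obtain ⟨φ, hφ⟩ := (yon S).map_surjective (a ≫ pullback.snd f b₁)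
  rw [← hφ]
  refine (onSch_iff φ).1 ?_
  have key : ∀ x₂ : ↥X₂.left, ∃ X₀ : X₂.left.Opens, x₂ ∈ X₀ ∧ onSch P Y₁.hom (X₀.ι ≫ φ.left) := fun x₂ => by
    obtain ⟨V, W, U, b, p, q, e, v, hV, hW, hU, hb, sq, he, hv, hP⟩ :=
      H (Points.map (pullback.fst f b₁) (Points.ofPt a x₂))
    exact exists_nhd_onSch h1 h2 h3 hX hY f b₁ be a ae φ hφ x₂ hV hW hU hb sq e he v hv hP
  choose X₀ hmem hX₀ using key
  exact ((etSmData h1 h2 h3).src _ _ (fun x₂ => (X₀ x₂).toScheme) (fun x₂ => (X₀ x₂).ι) (fun _ => inferInstance)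
    fun x => ⟨x, ⟨x, hmem x⟩, rfl⟩).2 hX₀

end GrothLib.AlgSp
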