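import Groth.Agent.Lib.AlgSp.EtSmFull

/-!
# Descent along smooth morphisms: the scheme case
-/

universe u

open CategoryTheory CategoryTheory.Limits AlgebraicGeometry

namespace GrothLib.AlgSp.EtSm

variable {S : Scheme.{u}} (D : Data S)

theorem Data.descend_chart {n : Type u} [Finite n] {X Y V W U Y₀ V₁ : Scheme.{u}} {sY : Y ⟶ S} {f : X ⟶ Y} {b : V ⟶ Y}
    {p : W ⟶ X} {q : W ⟶ V}
    (sq : IsPullback p q f b) (e : U ⟶ W) [Etale e] (H : D.Q (b ≫ sY) (e ≫ q)) (u : ↥U)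
    (jy : Y₀ ⟶ Y) (hjy : IsOpenImmersion jy) (jv : V₁ ⟶ V) (hjv : IsOpenImmersion jv) (g₁ : V₁ ⟶ 𝔸(n; Y₀))
    (hg₁ : Etale g₁) (hg₁b : g₁ ≫ (𝔸(n; Y₀) ↘ Y₀) ≫ jy = jv ≫ b) (v₁ : ↥V₁) (hv₁ : jv v₁ = q (e u)) :
    ∃ X₀ : X.Opens, p (e u) ∈ X₀ ∧ D.Q sY (X₀.ι ≫ f) := by
  -- everything over `Y₀`
  let fX := pullback.fst f jy
  let f₁ := pullback.snd f jy
  let g₀ := g₁ ≫ (𝔸(n; Y₀) ↘ Y₀)
  let W₁ := pullback f₁ g₀
  let r : W₁ ⟶ W := sq.lift (pullback.fst f₁ g₀ ≫ fX) (pullback.snd f₁ g₀ ≫ jv) (by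
    simp only [Category.assoc, fX, f₁, g₀, ← hg₁b, pullback.condition]
    rw [← Category.assoc, pullback.condition]
    simp)
  have sqW : IsPullback r (pullback.snd f₁ g₀) q jv := by
    refine IsPullback.of_right ?_ (sq.lift_snd _ _ _) sq
    rw [sq.lift_fst, ← hg₁b, ← Category.assoc]
    exact (IsPullback.of_hasPullback f₁ g₀).paste_horiz (IsPullback.of_hasPullback f jy)
  have : IsOpenImmersion r := MorphismProperty.of_isPullback (P := @IsOpenImmersion) sqW.flip hjv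
  let e₁ := pullback.snd e r
  have H₁ : D.Q ((jv ≫ b) ≫ sY) (e₁ ≫ pullback.snd f₁ g₀) := by
    rw [Category.assoc]
    exact D.bc ((IsPullback.of_hasPullback e r).paste_vert sqW) inferInstance H
  let k : W₁ ⟶ 𝔸(n; pullback f jy) :=
    AffineSpace.homOfVector (pullback.fst f₁ g₀)
      fun i => (pullback.snd f₁ g₀ ≫ g₁).appTop (AffineSpace.coord _ i)
  have hk : k ≫ AffineSpace.map n f₁ = pullback.snd f₁ g₀ ≫ g₁ := by
    rw [homOfVector_map]
    refine AffineSpace.hom_ext ?_ fun i => AffineSpace.homOfVector_appTop_coord _ _ i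
    rw [AffineSpace.homOfVector_over, Category.assoc]
    exact pullback.condition
  have sqk : IsPullback k (pullback.snd f₁ g₀) (AffineSpace.map n f₁) g₁ := by
    refine IsPullback.of_right ?_ hk (AffineSpace.isPullback_map (n := n) f₁).flip
    rw [AffineSpace.homOfVector_over]
    exact IsPullback.of_hasPullback f₁ g₀
  have : Etale k := MorphismProperty.of_isPullback (P := @Etale) sqk.flip hg₁
  let g := e₁ ≫ k
  have H₂ : D.Q ((𝔸(n; Y₀) ↘ Y₀) ≫ jy ≫ sY) (g ≫ AffineSpace.map n f₁) := by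
    rw [Category.assoc e₁, hk, ← Category.assoc e₁]
    refine D.postEtale g₁ ?_
    rwa [← hg₁b, Category.assoc, Category.assoc] at H₁
  let O : (𝔸(n; pullback f jy)).Opens := ⟨Set.range g, g.isOpenMap.isOpen_range⟩
  let g' := IsOpenImmersion.lift O.ι g (by simp [O])
  have hg' : g' ≫ O.ι = g := IsOpenImmersion.lift_fac _ _ _
  have : Etale g' := by
    have : Etale (g' ≫ O.ι) := by rw [hg']; infer_instance
    exact Etale.of_comp g' O.ι
  have : Surjective g' := ⟨fun y => by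
    obtain ⟨z, hz⟩ := (y.2 : y.1 ∈ Set.range g)
    refine ⟨z, Subtype.ext ?_⟩
    rw [← hz, ← hg']
    rfl⟩
  have H₃ : D.Q ((𝔸(n; Y₀) ↘ Y₀) ≫ jy ≫ sY) (O.ι ≫ AffineSpace.map n f₁) := by
    rw [D.single _ _ g', ← Category.assoc g', hg']
    exact H₂
  obtain ⟨X₁, hX₁, HX⟩ := D.of_affineSpace (jy ≫ sY) f₁ O H₃
  let i := X₁.ι ≫ fX
  have hi : i ≫ f = (X₁.ι ≫ f₁) ≫ jy := by simp [i, fX, f₁, pullback.condition]
  refine ⟨i.opensRange, ?_, ?_⟩
  · obtain ⟨w₁, hw₁, -⟩ := Scheme.exists_preimage_of_isPullback sqW (e u) v₁ hv₁.symm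
    obtain ⟨u₁, hu₁, hu₂⟩ := Scheme.Pullback.exists_preimage_pullback (f := e) (g := r) u w₁ hw₁.symm
    have hmem : pullback.fst f₁ g₀ (e₁ u₁) ∈ X₁ := by
      rw [← SetLike.mem_coe, hX₁]
      refine ⟨g u₁, ⟨u₁, rfl⟩, ?_⟩
      rw [← Scheme.Hom.comp_apply, ← Scheme.Hom.comp_apply, Category.assoc, AffineSpace.homOfVector_over]
    refine ⟨⟨_, hmem⟩, ?_⟩
    rw [← hw₁, ← Scheme.Hom.comp_apply r p, sq.lift_fst, Scheme.Hom.comp_apply, Scheme.Opens.ι_apply,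
      Scheme.Hom.comp_apply]
    exact congrArg (fun t => fX (pullback.fst f₁ g₀ t)) hu₂
  · rw [D.single _ _ i.isoOpensRange.hom, ← Category.assoc i.isoOpensRange.hom, show i.isoOpensRange.hom ≫ i.opensRange.ι = i from by simp [Scheme.Hom.isoOpensRange], hi]
    exact D.post hjy HX

/-- If `U → V` has the property, `U → X ×_Y V` is etale and `V → Y` is smooth, then `X → Y` has it
near the image of `U`. -/
theorem Data.descend {X Y V W U : Scheme.{u}} {sY : Y ⟶ S} {f : X ⟶ Y} {b : V ⟶ Y} {p : W ⟶ X} {q : W ⟶ V}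
    (sq : IsPullback p q f b) (e : U ⟶ W) [Smooth b] [Etale e] (H : D.Q (b ≫ sY) (e ≫ q)) (u : ↥U) :
    ∃ X₀ : X.Opens, p (e u) ∈ X₀ ∧ D.Q sY (X₀.ι ≫ f) := by
  obtain ⟨A, B, m, φ, jy, jv, hjy, hjv, hstd, hv, hjb⟩ := exists_chart b (q (e u))
  obtain ⟨v₁, hv₁⟩ := hv
  algebraize [φ]
  let n := ULift.{u} (Fin m)
  let ε : MvPolynomial n A ≃ₐ[A] MvPolynomial (Fin m) A := MvPolynomial.renameEquiv A Equiv.ulift
  let ψ : MvPolynomial n A →+* B := φ.comp ε.toRingEquiv.toRingHom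
  let g₁ : Spec B ⟶ 𝔸(n; Spec A) := Spec.map (CommRingCat.ofHom ψ) ≫ (AffineSpace.SpecIso n A).inv
  have hg₁ : Etale g₁ := by
    have h1 : ψ.Etale := RingHom.Etale.stableUnderComposition _ _
      (RingHom.Etale.of_bijective ε.bijective) (RingHom.etale_algebraMap.2 (inferInstance : Algebra.Etale _ B))
    have : Etale (Spec.map (CommRingCat.ofHom ψ)) := (HasRingHomProperty.Spec_iff (P := @Etale)).2 h1
    exact MorphismProperty.comp_mem @Etale _ _ this inferInstance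
  have hg₁b : g₁ ≫ (𝔸(n; Spec A) ↘ Spec A) ≫ jy = jv ≫ b := by
    rw [hjb]
    simp only [g₁, Category.assoc, AffineSpace.SpecIso_inv_over_assoc, ← Spec.map_comp_assoc]
    congr 2
    ext a
    simp [ψ, ε]
  exact D.descend_chart sq e H u jy hjy jv hjv g₁ hg₁ hg₁b v₁ hv₁

end GrothLib.AlgSp.EtSm
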