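import Groth.Prelude.Def_AlgSpCov
import Groth.Agent.Lib.AlgSp.LocP
import Groth.Agent.Lib.AlgSp.Points
import Groth.Agent.Lib.AlgSp.SourceLocal

/-!
# Formal properties of smooth local and etale-smooth local properties of morphisms
-/

universe u

open CategoryTheory CategoryTheory.Limits AlgebraicGeometry

namespace GrothLib.AlgSp

open _root_.AlgSp

variable {S : Scheme.{u}} {P : MorphismProperty (Sp S)}

theorem locP_id {C : MorphismProperty Scheme.{u}} (hC : EtLocal C)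
    (hCet : ∀ ⦃A B : Scheme.{u}⦄ (c : A ⟶ B), Etale c → C c) {X : Sp S} (hX : IsAlgSpace X) : LocP C (𝟙 X) :=
  hC.locP_of_repWith hX (repWith_mono (repWith_iso (P := @Etale) (𝟙 X)) hCet)

theorem locP_smooth_id {X : Sp S} (hX : IsAlgSpace X) : LocP @Smooth (𝟙 X) :=
  locP_id (C := @Smooth) EtLocal.smooth (fun _ _ c (_ : Etale c) => inferInstance) hX

theorem isEtaleMor_id {X : Sp S} (hX : IsAlgSpace X) : IsEtaleMor (𝟙 X) :=
  isEtaleMor_of_locP hX (locP_id EtLocal.etale (fun _ _ _ h => h) hX)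

theorem locP_smooth_of_isEtaleMor {X Y : Sp S} (hY : IsAlgSpace Y) {f : X ⟶ Y} (hf : IsEtaleMor f) :
    LocP @Smooth f :=
  locP_mono (P := @Etale) (Q := @Smooth) (fun _ _ c (_ : Etale c) => inferInstance) (locP_of_isEtaleMor hY hf)

theorem smoothLocal_source (hP : IsSmoothLocalST P) : IsLocalOnSource (IsSmCover (S := S)) P := by
  intro ι X Xi g hX hXi hc Y f hY
  refine ⟨fun h i => hP.precomp (hXi i) hX hY (g i) f (hc.1 i) h, fun h => (hP.locality hX hY f).2 fun x => ?_⟩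
  obtain ⟨i, v, hv⟩ := hc.2 x
  exact ⟨Xi i, Y, g i, 𝟙 Y, g i ≫ f, v, hXi i, hY, hc.1 i, locP_smooth_id hY, by rw [Category.comp_id], hv, h i⟩

theorem smoothLocal_base (hP : IsSmoothLocalST P) : IsLocalOnBase (IsSmCover (S := S)) P := by
  intro ι Y Yi g hY hYi hc X f hX Xi p q hXi sq
  refine ⟨fun h i => hP.baseChange hX hY (hXi i) (hYi i) f (g i) (p i) (q i) (sq i) (hc.1 i) h,
    fun h => (hP.locality hX hY f).2 fun x => ?_⟩
  obtain ⟨i, y, hy⟩ := hc.2 (Points.map f x)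
  obtain ⟨v, hv, -⟩ := exists_of_isPullback (sq i) hy.symm
  exact ⟨Xi i, Yi i, q i, g i, p i, v, hXi i, hYi i,
    EtLocal.smooth.locP_of_isPullback (hYi i) hY hX (sq i).flip (hc.1 i), hc.1 i, (sq i).w, hv, h i⟩

theorem smoothLocal_postcomp (hP : IsSmoothLocalST P) {X Y Z : Sp S} (hX : IsAlgSpace X) (hY : IsAlgSpace Y)
    (hZ : IsAlgSpace Z) {f : X ⟶ Y} {g : Y ⟶ Z} (hf : P f) (hg : LocP @Smooth g) : P (f ≫ g) :=
  (hP.locality hX hZ _).2 fun x =>
    ⟨X, Y, 𝟙 X, g, f, x, hX, hY, locP_smooth_id hX, hg, Category.id_comp _, Points.map_id x, hf⟩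

theorem etaleSmoothLocal_source (hP : IsEtaleSmoothLocalST P) : IsLocalOnSource (IsEtCover (S := S)) P := by
  intro ι X Xi g hX hXi hc Y f hY
  refine ⟨fun h i => hP.precomp (hXi i) hX hY (g i) f (hc.1 i) h, fun h => (hP.locality hX hY f).2 fun x => ?_⟩
  obtain ⟨i, v, hv⟩ := hc.2 x
  exact ⟨Y, X, Xi i, 𝟙 Y, 𝟙 X, f, g i, v, hY, hX, hXi i, locP_smooth_id hY, IsPullback.of_id_fst, hc.1 i,
    by rw [Category.comp_id]; exact hv, h i⟩

theorem etaleSmoothLocal_base (hP : IsEtaleSmoothLocalST P) : IsLocalOnBase (IsSmCover (S := S)) P := by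
  intro ι Y Yi g hY hYi hc X f hX Xi p q hXi sq
  refine ⟨fun h i => hP.baseChange hX hY (hXi i) (hYi i) f (g i) (p i) (q i) (sq i) (hc.1 i) h,
    fun h => (hP.locality hX hY f).2 fun x => ?_⟩
  obtain ⟨i, y, hy⟩ := hc.2 (Points.map f x)
  obtain ⟨v, hv, -⟩ := exists_of_isPullback (sq i) hy.symm
  exact ⟨Yi i, Xi i, Xi i, g i, q i, p i, 𝟙 _, v, hYi i, hXi i, hXi i, hc.1 i, sq i, isEtaleMor_id (hXi i),
    by rw [Category.id_comp]; exact hv, by rw [Category.id_comp]; exact h i⟩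

theorem etaleSmoothLocal_postcomp (hP : IsEtaleSmoothLocalST P) {X Y Z : Sp S} (hX : IsAlgSpace X)
    (hY : IsAlgSpace Y) (hZ : IsAlgSpace Z) {f : X ⟶ Y} {g : Y ⟶ Z} (hf : P f) (hg : IsEtaleMor g) :
    P (f ≫ g) := by
  refine (hP.locality hX hZ _).2 fun x => ?_
  have sq := IsPullback.of_hasPullback (f ≫ g) g
  have hW := isAlgSpace_pullback' hZ hX hY (f ≫ g) g
  let e := sq.lift (𝟙 X) f (Category.id_comp _)
  have he : IsEtaleMor e := by
    refine isEtaleMor_of_locP hW (EtLocal.locP_cancel EtLocal.etale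
      (fun A B C a b hab hb => by
        have : Etale (a ≫ b) := hab
        have : Etale b := hb
        exact Etale.of_comp a b) hX hW hX (g := pullback.fst (f ≫ g) g) ?_
      (EtLocal.etale.locP_of_isPullback hY hZ hX sq.flip (locP_of_isEtaleMor hZ hg)))
    rw [sq.lift_fst]
    exact locP_id EtLocal.etale (fun _ _ _ h => h) hX
  exact ⟨Y, pullback (f ≫ g) g, X, g, pullback.fst _ _, pullback.snd _ _, e, x, hY, hW, hX,
    locP_smooth_of_isEtaleMor hZ hg, sq, he, by rw [sq.lift_fst, Points.map_id], by rw [sq.lift_snd]; exact hf⟩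

end GrothLib.AlgSp
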