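import Groth.Agent.Lib.AlgSp.EtSmScheme
import Groth.Agent.Lib.AlgSp.SmoothLocalFormal
import Groth.Agent.Lib.AlgSp.Space

/-!
# From properties of morphisms of algebraic spaces to properties of morphisms of schemes
-/

universe u

open CategoryTheory CategoryTheory.Limits AlgebraicGeometry

namespace GrothLib.AlgSp

open _root_.AlgSp

variable {S : Scheme.{u}} {P : MorphismProperty (Sp S)}

theorem locP_smooth_yon {U V : Over S} (k : U ⟶ V) [Smooth k.left] : LocP @Smooth ((yon S).map k) :=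
  EtLocal.smooth.locP_of_chart (repWith_id _ U) (repWith_id _ U) (repWith_id _ V)
    (by rw [Category.id_comp, Category.comp_id]) inferInstance

theorem surjective_map_yon {U V : Over S} (k : U ⟶ V) [Surjective k.left] :
    Function.Surjective (Points.map ((yon S).map k)) := fun y => by
  obtain ⟨v, rfl⟩ := surjective_ofPt_of_repWith (repWith_id _ V) y
  obtain ⟨w, rfl⟩ := k.left.surjective v
  refine ⟨Points.ofPt (𝟙 _) w, ?_⟩
  rw [Points.map_ofPt, Category.id_comp]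
  simpa using ofPt_map_comp k (𝟙 _) w

/-- `P` on morphisms of schemes over `S`. -/
def onSch (P : MorphismProperty (Sp S)) {U V : Scheme.{u}} (sV : V ⟶ S) (h : U ⟶ V) : Prop :=
  ∀ (s : U ⟶ S) (w : h ≫ sV = s), P ((yon S).map (Over.homMk h w : Over.mk s ⟶ Over.mk sV))

theorem onSch_iff {A B : Over S} (φ : A ⟶ B) : onSch P B.hom φ.left ↔ P ((yon S).map φ) := by
  refine ⟨fun h => ?_, fun h s w => ?_⟩
  · exact h A.hom (Over.w φ)
  · obtain rfl : A.hom = s := (Over.w φ).symm.trans w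
    exact h

/-- The data on schemes attached to `P`. -/
noncomputable def etSmData (h1 : IsLocalOnSource (IsEtCover (S := S)) P) (h2 : IsLocalOnBase (IsSmCover (S := S)) P)
    (h3 : ∀ ⦃X Y Z : Space S⦄ (f : X ⟶ Y) (j : Y ⟶ Z), P f.hom → RepWith @IsOpenImmersion j.hom → P (f ≫ j).hom) :
    EtSm.Data S where
  Q := @onSch _ P
  src {ι U V} sV h Ui g hg hsurj := by
    let φ : Over.mk (h ≫ sV) ⟶ Over.mk sV := Over.homMk h rfl
    let ψ : ∀ i, Over.mk (g i ≫ h ≫ sV) ⟶ Over.mk (h ≫ sV) := fun i => Over.homMk (g i) rfl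
    have := h1 (fun i => (yon S).obj (Over.mk (g i ≫ h ≫ sV))) (fun i => (yon S).map (ψ i))
      (IsAlgSpace.yon_obj _) (fun i => IsAlgSpace.yon_obj _) ⟨fun i => (isEtaleMor_yon_map_iff _).2 (hg i), fun x => ?_⟩
      ((yon S).map φ) (IsAlgSpace.yon_obj _)
    · rw [show onSch P sV h ↔ P ((yon S).map φ) from onSch_iff φ, this]
      refine forall_congr' fun i => ?_
      rw [← Functor.map_comp]
      exact (onSch_iff (ψ i ≫ φ)).symm
    · obtain ⟨u, rfl⟩ := surjective_ofPt_of_repWith (repWith_id _ (Over.mk (h ≫ sV))) x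
      obtain ⟨i, v, hv⟩ := hsurj u
      subst hv
      refine ⟨i, Points.ofPt (𝟙 _) v, ?_⟩
      rw [Points.map_ofPt, Category.id_comp]
      exact (by simpa using ofPt_map_comp (ψ i) (𝟙 _) v :)
  bc {U V U' V' sV g' h' h c} sq hc H := by
    let φ : Over.mk (h ≫ sV) ⟶ Over.mk sV := Over.homMk h rfl
    let γ : Over.mk (c ≫ sV) ⟶ Over.mk sV := Over.homMk c rfl
    let φ' : Over.mk (h' ≫ c ≫ sV) ⟶ Over.mk (c ≫ sV) := Over.homMk h' rfl
    let γ' : Over.mk (h' ≫ c ≫ sV) ⟶ Over.mk (h ≫ sV) := Over.homMk g' (by simp [sq.w_assoc])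
    have sq' : IsPullback γ' φ' φ γ := isPullback_of_left sq
    have : Smooth γ.left := hc
    refine (onSch_iff φ').2 ((h2 (ι := ULift.{u} Bool)
      (fun i => (yon S).obj (match i with | ⟨true⟩ => Over.mk (c ≫ sV) | ⟨false⟩ => Over.mk sV))
      (fun i => match i with | ⟨true⟩ => (yon S).map γ | ⟨false⟩ => 𝟙 _) (IsAlgSpace.yon_obj _)
      (fun i => IsAlgSpace.yon_obj _) ⟨?_, fun y => ⟨⟨false⟩, y, Points.map_id y⟩⟩ ((yon S).map φ)
      (IsAlgSpace.yon_obj _)
      (fun i => (yon S).obj (match i with | ⟨true⟩ => Over.mk (h' ≫ c ≫ sV) | ⟨false⟩ => Over.mk (h ≫ sV)))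
      (fun i => match i with | ⟨true⟩ => (yon S).map φ' | ⟨false⟩ => (yon S).map φ)
      (fun i => match i with | ⟨true⟩ => (yon S).map γ' | ⟨false⟩ => 𝟙 _)
      (fun i => IsAlgSpace.yon_obj _) ?_).1 ((onSch_iff φ).1 H) ⟨true⟩)
    · rintro ⟨_ | _⟩
      · exact locP_smooth_id (IsAlgSpace.yon_obj _)
      · exact locP_smooth_yon γ
    · rintro ⟨_ | _⟩
      · exact IsPullback.of_id_fst
      · exact isPullback_yon sq'
  base {U V U' V' sV g' h' h c} sq hc hs H := by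
    let φ : Over.mk (h ≫ sV) ⟶ Over.mk sV := Over.homMk h rfl
    let γ : Over.mk (c ≫ sV) ⟶ Over.mk sV := Over.homMk c rfl
    let φ' : Over.mk (h' ≫ c ≫ sV) ⟶ Over.mk (c ≫ sV) := Over.homMk h' rfl
    let γ' : Over.mk (h' ≫ c ≫ sV) ⟶ Over.mk (h ≫ sV) := Over.homMk g' (by simp [sq.w_assoc])
    have sq' : IsPullback γ' φ' φ γ := isPullback_of_left sq
    have : Smooth γ.left := hc
    have : Surjective γ.left := hs
    refine (onSch_iff φ).2 ((h2 (ι := PUnit) (fun _ => (yon S).obj (Over.mk (c ≫ sV))) (fun _ => (yon S).map γ)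
      (IsAlgSpace.yon_obj _) (fun _ => IsAlgSpace.yon_obj _)
      ⟨fun _ => locP_smooth_yon γ, fun y => ⟨⟨⟩, surjective_map_yon γ y⟩⟩ ((yon S).map φ) (IsAlgSpace.yon_obj _)
      (fun _ => (yon S).obj (Over.mk (h' ≫ c ≫ sV))) (fun _ => (yon S).map φ') (fun _ => (yon S).map γ')
      (fun _ => IsAlgSpace.yon_obj _) fun _ => isPullback_yon sq').2 fun _ => (onSch_iff φ').1 H)
  post {U V W sW h j} hj H := by
    let φ : Over.mk (h ≫ j ≫ sW) ⟶ Over.mk (j ≫ sW) := Over.homMk h rfl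
    let γ : Over.mk (j ≫ sW) ⟶ Over.mk sW := Over.homMk j rfl
    have : IsOpenImmersion γ.left := hj
    have := h3 (X := ⟨_, IsAlgSpace.yon_obj _⟩) (Y := ⟨_, IsAlgSpace.yon_obj _⟩) (Z := ⟨_, IsAlgSpace.yon_obj _⟩)
      (ObjectProperty.homMk ((yon S).map φ)) (ObjectProperty.homMk ((yon S).map γ)) ((onSch_iff φ).1 H)
      ((repWith_yon_map_iff @IsOpenImmersion γ).2 inferInstance)
    refine (onSch_iff (φ ≫ γ)).2 ?_
    rw [Functor.map_comp]
    exact this

theorem etSm_precomp (h1 : IsLocalOnSource (IsEtCover (S := S)) P) {X Y Z : Sp S} (hX : IsAlgSpace X)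
    (hY : IsAlgSpace Y) (hZ : IsAlgSpace Z) (f : X ⟶ Y) (g : Y ⟶ Z) (hf : IsEtaleMor f) (hg : P g) : P (f ≫ g) := by
  refine (h1 (ι := ULift.{u} Bool) (fun i => if i.down then X else Y)
    (fun ⟨i⟩ => match i with | true => f | false => 𝟙 Y) hY ?_ ⟨?_, fun y => ⟨⟨false⟩, y, Points.map_id y⟩⟩ g hZ).1 hg
    ⟨true⟩
  · rintro ⟨_ | _⟩
    · exact hY
    · exact hX
  · rintro ⟨_ | _⟩
    · exact isEtaleMor_id hY
    · exact hf

theorem etSm_baseChange (h2 : IsLocalOnBase (IsSmCover (S := S)) P) {X Y X' Y' : Sp S} (hX : IsAlgSpace X)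
    (hY : IsAlgSpace Y) (hX' : IsAlgSpace X') (hY' : IsAlgSpace Y') (f : X ⟶ Y) (g : Y' ⟶ Y) (f' : X' ⟶ Y')
    (g' : X' ⟶ X) (sq : IsPullback g' f' f g) (hg : LocP @Smooth g) (hf : P f) : P f' := by
  refine (h2 (ι := ULift.{u} Bool) (fun i => if i.down then Y' else Y)
    (fun ⟨i⟩ => match i with | true => g | false => 𝟙 Y) hY ?_ ⟨?_, fun y => ⟨⟨false⟩, y, Points.map_id y⟩⟩
    f hX (fun i => if i.down then X' else X) (fun ⟨i⟩ => match i with | true => f' | false => f)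
    (fun ⟨i⟩ => match i with | true => g' | false => 𝟙 X) ?_ ?_).1 hf ⟨true⟩
  · rintro ⟨_ | _⟩
    · exact hY
    · exact hY'
  · rintro ⟨_ | _⟩
    · exact locP_smooth_id hY
    · exact hg
  · rintro ⟨_ | _⟩
    · exact hX
    · exact hX'
  · rintro ⟨_ | _⟩
    · exact IsPullback.of_id_fst
    · exact sq

end GrothLib.AlgSp
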