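import Groth.Agent.Lib.AlgSp.EtPoints
import Groth.Agent.Lib.ProEtS.GeomPoint
import Groth.Agent.S0656
import Mathlib.CategoryTheory.Sites.Point.Category

/-!
# Every point of the small etale site of an algebraic space is geometric

Given an element `ξ` of the fibre at a chart `E`, the elements over `ξ` form a point of the small etale
site of the scheme of `E`; that point is geometric, and products with `E` carry the comparison back.
-/

universe u

set_option autoImplicit false
set_option backward.isDefEq.respectTransparency false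
set_option backward.isDefEq.respectTransparency.types false

open CategoryTheory CategoryTheory.Limits AlgebraicGeometry Opposite

noncomputable section

namespace GrothLib.AlgSp.EtTopPoints

open _root_.AlgSp

/-- A point over an extension field, in a scheme etale over `T`, descends to a separably closed field. -/
theorem exists_descend {Ω K : Type u} [Field Ω] [IsSepClosed Ω] [Field K]
    (j : Spec (CommRingCat.of K) ⟶ Spec (CommRingCat.of Ω)) {R T : Scheme.{u}} (f : R ⟶ T) [Etale f]
    (s : Spec (CommRingCat.of Ω) ⟶ T) (b : Spec (CommRingCat.of K) ⟶ R) (h : b ≫ f = j ≫ s) :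
    ∃ a : Spec (CommRingCat.of Ω) ⟶ R, a ≫ f = s ∧ j ≫ a = b := by
  let b' : Spec (CommRingCat.of K) ⟶ pullback f s := pullback.lift b j h
  let q : pullback f s ⟶ Spec (CommRingCat.of Ω) := pullback.snd f s
  haveI : Etale q := inferInstanceAs (Etale (pullback.snd f s))
  let z := b' (IsLocalRing.closedPoint K)
  obtain ⟨φ, hφ⟩ := Spec.map_surjective ((pullback f s).fromSpecStalk z ≫ q)
  letI := φ.hom.toAlgebra
  haveI : Algebra.WeaklyEtale Ω ((pullback f s).presheaf.stalk z) :=
    (WeakEtale.weaklyEtale_specMap_iff φ).1 (hφ ▸ inferInstance)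
  haveI : IsIso φ := (ConcreteCategory.isIso_iff_bijective φ).2
    (GrothLib.ProEtS.bijective_algebraMap_of_weaklyEtale (k := Ω) (L := (pullback f s).presheaf.stalk z))
  refine ⟨Spec.map (inv φ) ≫ (pullback f s).fromSpecStalk z ≫ pullback.fst f s, ?_, ?_⟩
  · rw [Category.assoc, Category.assoc, pullback.condition]
    have e : Spec.map (inv φ) ≫ (pullback f s).fromSpecStalk z ≫ q = 𝟙 _ := by
      rw [← hφ, ← Spec.map_comp, IsIso.hom_inv_id, Spec.map_id]
    exact (reassoc_of% e) s
  · have hb : Spec.map (Scheme.stalkClosedPointTo b') ≫ (pullback f s).fromSpecStalk z = b' :=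
      Scheme.Spec_stalkClosedPointTo_fromSpecStalk b'
    have hj : Spec.map (Scheme.stalkClosedPointTo b') ≫ Spec.map φ = j := by
      rw [hφ, reassoc_of% hb]
      exact pullback.lift_snd _ _ _
    rw [← hj, Category.assoc, ← Spec.map_comp_assoc (inv φ) φ, IsIso.inv_hom_id, Spec.map_id, Category.id_comp,
      reassoc_of% hb]
    exact pullback.lift_fst _ _ _

variable {S : Scheme.{u}} {X : Sp S} (P : GrothendieckTopology.Point.{u} (etTop X))

theorem exists_refine {F₁ F₂ : EtOver X} (a : P.fiber.obj F₁) (b : P.fiber.obj F₂) :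
    ∃ (H : EtOver X) (z : P.fiber.obj H) (g₁ : H ⟶ F₁) (g₂ : H ⟶ F₂),
      P.fiber.map g₁ z = a ∧ P.fiber.map g₂ z = b := by
  haveI := P.isCofiltered
  obtain ⟨⟨H, z⟩, f, g, -⟩ :=
    IsCofilteredOrEmpty.cone_objs (P.fiber.elementsMk F₁ a) (P.fiber.elementsMk F₂ b)
  exact ⟨H, z, f.1, g.1, f.2, g.2⟩

theorem exists_equalize {H F : EtOver X} (g₁ g₂ : H ⟶ F) (z : P.fiber.obj H)
    (h : P.fiber.map g₁ z = P.fiber.map g₂ z) :
    ∃ (H' : EtOver X) (z' : P.fiber.obj H') (k : H' ⟶ H), P.fiber.map k z' = z ∧ k ≫ g₁ = k ≫ g₂ := by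
  haveI := P.isCofiltered
  obtain ⟨⟨H', z'⟩, k, hk⟩ := IsCofilteredOrEmpty.cone_maps
    (CategoryOfElements.homMk (P.fiber.elementsMk H z) (P.fiber.elementsMk F (P.fiber.map g₁ z)) g₁ rfl)
    (CategoryOfElements.homMk (P.fiber.elementsMk H z) (P.fiber.elementsMk F (P.fiber.map g₁ z)) g₂ h.symm)
  exact ⟨H', z', k.1, k.2, congrArg (·.1) hk⟩

section chart

variable {E : EtOver X}

variable (E) in
/-- The small etale site of the chart, as etale objects over `X`. -/
abbrev G : E.obj.left.left.Etale ⥤ EtOver X := EtOver.ofChart E.obj.hom E.property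

/-- The structure map. -/
def toE (W : E.obj.left.left.Etale) : (G E).obj W ⟶ E := EtOver.homMk (EtOver.homOfEtale W) rfl

theorem map_toE {W W' : E.obj.left.left.Etale} (φ : W ⟶ W') : (G E).map φ ≫ toE W' = toE W :=
  EtOver.hom_ext _ _ (Over.OverMorphism.ext (MorphismProperty.Over.w φ))

/-- An object over the chart, as an etale scheme over it. -/
def etOf {H : EtOver X} (k : H ⟶ E) : E.obj.left.left.Etale :=
  haveI := EtOver.etale_left k
  Scheme.Etale.mk k.hom.left.left

/-- An object over the chart is its etale scheme. -/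
def ofW {H : EtOver X} (k : H ⟶ E) : (G E).obj (etOf k) ⟶ H :=
  EtOver.homMk (Over.homMk (𝟙 H.obj.left.left) ((Category.id_comp _).trans (Over.w k.hom.left).symm)) (by
    rw [← EtOver.w k]
    change _ = (yon S).map (EtOver.homOfEtale (etOf k)) ≫ E.obj.hom
    rw [← Functor.map_comp_assoc]
    congr 2)

/-- The inverse map. -/
def toW {H : EtOver X} (k : H ⟶ E) : H ⟶ (G E).obj (etOf k) :=
  EtOver.homMk (Over.homMk (𝟙 H.obj.left.left) ((Category.id_comp _).trans (Over.w k.hom.left))) (by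
    rw [← EtOver.w k]
    change (yon S).map _ ≫ (yon S).map (EtOver.homOfEtale (etOf k)) ≫ E.obj.hom = _
    rw [← Functor.map_comp_assoc]
    congr 2)

theorem toW_ofW {H : EtOver X} (k : H ⟶ E) : toW k ≫ ofW k = 𝟙 H :=
  EtOver.hom_ext _ _ (Over.OverMorphism.ext (Category.id_comp _))

theorem ofW_toW {H : EtOver X} (k : H ⟶ E) : ofW k ≫ toW k = 𝟙 _ :=
  EtOver.hom_ext _ _ (Over.OverMorphism.ext (Category.id_comp _))

theorem toW_toE {H : EtOver X} (k : H ⟶ E) : toW k ≫ toE (etOf k) = k :=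
  EtOver.hom_ext _ _ (Over.OverMorphism.ext (Category.id_comp _))

theorem ofW_comp {H : EtOver X} (k : H ⟶ E) : ofW k ≫ k = toE (etOf k) :=
  EtOver.hom_ext _ _ (Over.OverMorphism.ext (Category.id_comp _))

/-- A map over the chart, as a map of etale schemes over it. -/
def liftHom {H : EtOver X} {W : E.obj.left.left.Etale} (k : H ⟶ E) (g : H ⟶ (G E).obj W)
    (hg : g ≫ toE W = k) : etOf k ⟶ W :=
  MorphismProperty.Over.homMk g.hom.left.left (congrArg (fun t => t.hom.left.left) hg)

theorem map_liftHom {H : EtOver X} {W : E.obj.left.left.Etale} (k : H ⟶ E) (g : H ⟶ (G E).obj W)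
    (hg : g ≫ toE W = k) : (G E).map (liftHom k g hg) = ofW k ≫ g :=
  EtOver.hom_ext _ _ (Over.OverMorphism.ext (Category.id_comp _).symm)

variable (ξ : P.fiber.obj E)

/-- The elements over `ξ`. -/
def fib : E.obj.left.left.Etale ⥤ Type u where
  obj W := {η : P.fiber.obj ((G E).obj W) // P.fiber.map (toE W) η = ξ}
  map {W W'} φ := ↾fun η => ⟨P.fiber.map ((G E).map φ) η.1, by
    rw [← Functor.map_comp_apply, map_toE]
    exact η.2⟩
  map_id W := by
    ext η
    simp
  map_comp φ ψ := by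
    ext η
    simp

theorem fib_map_coe {W W' : E.obj.left.left.Etale} (φ : W ⟶ W') (η : (fib P ξ).obj W) :
    ((fib P ξ).map φ η).1 = P.fiber.map ((G E).map φ) η.1 := rfl

/-- The element of a refinement. -/
def elt {H : EtOver X} (k : H ⟶ E) (z : P.fiber.obj H) (hz : P.fiber.map k z = ξ) : (fib P ξ).obj (etOf k) :=
  ⟨P.fiber.map (toW k) z, by rw [← Functor.map_comp_apply, toW_toE]; exact hz⟩

theorem map_elt {H : EtOver X} {W : E.obj.left.left.Etale} (k : H ⟶ E) (z : P.fiber.obj H)
    (hz : P.fiber.map k z = ξ) (g : H ⟶ (G E).obj W) (hg : g ≫ toE W = k) (η : (fib P ξ).obj W)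
    (hη : P.fiber.map g z = η.1) : (fib P ξ).map (liftHom k g hg) (elt P ξ k z hz) = η := by
  apply Subtype.ext
  rw [fib_map_coe, map_liftHom]
  change P.fiber.map (ofW k ≫ g) (P.fiber.map (toW k) z) = η.1
  rw [← Functor.map_comp_apply, ← Category.assoc, toW_ofW, Category.id_comp, hη]

theorem isCofiltered_fib : IsCofiltered (fib P ξ).Elements := by
  haveI : IsCofilteredOrEmpty (fib P ξ).Elements :=
    { cone_objs := by
        rintro ⟨W₁, η₁⟩ ⟨W₂, η₂⟩
        obtain ⟨H, z, g₁, g₂, h₁, h₂⟩ := exists_refine P η₁.1 η₂.1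
        have e₁ : P.fiber.map (g₁ ≫ toE W₁) z = ξ := by rw [Functor.map_comp_apply, h₁]; exact η₁.2
        have e₂ : P.fiber.map (g₂ ≫ toE W₂) z = ξ := by rw [Functor.map_comp_apply, h₂]; exact η₂.2
        obtain ⟨H', z', h, hz', hh⟩ := exists_equalize P _ _ z (e₁.trans e₂.symm)
        have hk : P.fiber.map (h ≫ g₁ ≫ toE W₁) z' = ξ := by rw [Functor.map_comp_apply, hz', e₁]
        refine ⟨⟨_, elt P ξ _ z' hk⟩,
          CategoryOfElements.homMk _ _ (liftHom _ (h ≫ g₁) (Category.assoc _ _ _))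
            (map_elt P ξ _ z' hk _ _ η₁ (by rw [Functor.map_comp_apply, hz', h₁])),
          CategoryOfElements.homMk _ _ (liftHom _ (h ≫ g₂) ((Category.assoc _ _ _).trans hh.symm))
            (map_elt P ξ _ z' hk _ _ η₂ (by rw [Functor.map_comp_apply, hz', h₂])), trivial⟩
      cone_maps := by
        rintro ⟨W₁, η₁⟩ ⟨W₂, η₂⟩ φ ψ
        have e : P.fiber.map ((G E).map φ.1) η₁.1 = P.fiber.map ((G E).map ψ.1) η₁.1 :=
          (congrArg Subtype.val φ.2).trans (congrArg Subtype.val ψ.2).symm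
        obtain ⟨H', z', h, hz', hh⟩ := exists_equalize P _ _ η₁.1 e
        have hk : P.fiber.map (h ≫ toE W₁) z' = ξ := by rw [Functor.map_comp_apply, hz']; exact η₁.2
        refine ⟨⟨_, elt P ξ _ z' hk⟩, CategoryOfElements.homMk _ _ (liftHom _ h rfl)
          (map_elt P ξ _ z' hk _ _ η₁ hz'), Subtype.ext ?_⟩
        apply (G E).map_injective
        change (G E).map (liftHom _ h rfl ≫ φ.1) = (G E).map (liftHom _ h rfl ≫ ψ.1)
        rw [Functor.map_comp, Functor.map_comp, map_liftHom, Category.assoc, Category.assoc, hh] }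
  haveI : Nonempty (fib P ξ).Elements := ⟨⟨_, elt P ξ (𝟙 E) ξ (by simp)⟩⟩
  exact ⟨⟩

theorem exists_fib_of_cover {W : E.obj.left.left.Etale} (η : (fib P ξ).obj W) {ι : Type*}
    (Z : ι → E.obj.left.left.Etale) (f : ∀ i, Z i ⟶ W)
    (h : Sieve.ofArrows Z f ∈ E.obj.left.left.smallEtaleTopology W) :
    ∃ (i : ι) (y : (fib P ξ).obj (Z i)), (fib P ξ).map (f i) y = η := by
  obtain ⟨Y, g, ⟨Y', a, b, ⟨i⟩, hab⟩, y, hy⟩ :=
    P.jointly_surjective _ (EtOver.ofChart_sieve_mem E.obj.hom E.property Z f h) η.1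
  subst hab
  rw [Functor.map_comp_apply] at hy
  refine ⟨i, ⟨P.fiber.map a y, ?_⟩, Subtype.ext hy⟩
  rw [← map_toE (f i), Functor.map_comp_apply]
  exact (congrArg (P.fiber.map (toE W)) hy).trans η.2

theorem initiallySmall_fib : InitiallySmall.{u} (fib P ξ).Elements := by
  haveI := isCofiltered_fib P ξ
  let T := E.obj.left.left
  let e := equivSmallModel.{u} T.AffineEtale
  let F : (Σ i : SmallModel.{u} T.AffineEtale,
      (fib P ξ).obj ((Scheme.AffineEtale.Spec T).obj (e.inverse.obj i))) → (fib P ξ).Elements :=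
    fun x => (fib P ξ).elementsMk _ x.2
  refine initiallySmall_of_small_weakly_initial_set (Set.range F) fun N => ?_
  obtain ⟨W, η⟩ := N
  haveI : Etale W.hom := W.prop
  let 𝒰 := W.left.affineCover
  have hf : ∀ i, Etale (𝒰.f i ≫ W.hom) := fun i => inferInstance
  let Z : 𝒰.I₀ → T.AffineEtale := fun i => haveI := hf i; Scheme.AffineEtale.mk (𝒰.f i ≫ W.hom)
  let f : ∀ i, (Scheme.AffineEtale.Spec T).obj (Z i) ⟶ W := fun i =>
    MorphismProperty.Over.homMk (𝒰.f i) rfl
  obtain ⟨i, y, hy⟩ := exists_fib_of_cover P ξ η _ f (by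
    rw [Scheme.ofArrows_mem_smallEtaleTopology_iff]
    exact Set.eq_univ_of_forall fun x => Set.mem_iUnion.2 (by
      obtain ⟨i, z, hz⟩ := 𝒰.exists_eq x
      exact ⟨i, z, hz⟩))
  let ν := e.unitIso.app (Z i)
  refine ⟨F ⟨e.functor.obj (Z i), (fib P ξ).map ((Scheme.AffineEtale.Spec T).map ν.hom) y⟩, ⟨_, rfl⟩,
    ⟨CategoryOfElements.homMk _ _ ((Scheme.AffineEtale.Spec T).map ν.inv ≫ f i) ?_⟩⟩
  change (fib P ξ).map ((Scheme.AffineEtale.Spec T).map ν.inv ≫ f i)
    ((fib P ξ).map ((Scheme.AffineEtale.Spec T).map ν.hom) y) = η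
  simp only [← Functor.map_comp_apply, ← Functor.map_comp_assoc, Iso.hom_inv_id,
    CategoryTheory.Functor.map_id, Category.id_comp]
  exact hy

/-- The point of the small etale site of the chart. -/
def chartPoint : GrothendieckTopology.Point.{u} E.obj.left.left.smallEtaleTopology where
  fiber := fib P ξ
  isCofiltered := isCofiltered_fib P ξ
  initiallySmall := initiallySmall_fib P ξ
  jointly_surjective {W} R hR η := by
    obtain ⟨ι, Z, f, rfl⟩ := R.exists_eq_ofArrows
    obtain ⟨i, y, hy⟩ := exists_fib_of_cover P ξ η Z f hR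
    exact ⟨Z i, f i, Sieve.ofArrows_mk Z f i, y, hy⟩

variable (E) in
/-- The product with the chart, over the chart. -/
abbrev W (F : EtOver X) : E.obj.left.left.Etale := etOf (EtOver.prodFst E F)

/-- Forgetting the chart component. -/
def proj (F : EtOver X) (η : (fib P ξ).obj (W E F)) : P.fiber.obj F :=
  P.fiber.map (ofW (EtOver.prodFst E F) ≫ EtOver.prodSnd E F) η.1

theorem proj_bijective (F : EtOver X) : Function.Bijective (proj P ξ F) := by
  constructor
  · intro η η' h
    let o := ofW (EtOver.prodFst E F)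
    have key : ∀ η : (fib P ξ).obj (W E F), P.fiber.map (EtOver.prodFst E F) (P.fiber.map o η.1) = ξ := by
      intro η
      rw [← Functor.map_comp_apply, ofW_comp]
      exact η.2
    obtain ⟨H, z, g, g', hg, hg'⟩ := exists_refine P (P.fiber.map o η.1) (P.fiber.map o η'.1)
    obtain ⟨H₁, z₁, h₁, hz₁, e₁⟩ := exists_equalize P (g ≫ EtOver.prodFst E F) (g' ≫ EtOver.prodFst E F) z
      (by rw [Functor.map_comp_apply, Functor.map_comp_apply, hg, hg', key, key])
    obtain ⟨H₂, z₂, h₂, hz₂, e₂⟩ := exists_equalize P (h₁ ≫ g ≫ EtOver.prodSnd E F)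
      (h₁ ≫ g' ≫ EtOver.prodSnd E F) z₁ (by
        simp only [Functor.map_comp_apply, hz₁, hg, hg']
        rw [← Functor.map_comp_apply, ← Functor.map_comp_apply]
        exact h)
    have e₁' : (h₂ ≫ h₁ ≫ g) ≫ EtOver.prodFst E F = (h₂ ≫ h₁ ≫ g') ≫ EtOver.prodFst E F := by
      simp only [Category.assoc]
      rw [e₁]
    have e₂' : (h₂ ≫ h₁ ≫ g) ≫ EtOver.prodSnd E F = (h₂ ≫ h₁ ≫ g') ≫ EtOver.prodSnd E F := by
      simp only [Category.assoc]
      exact e₂
    have e : h₂ ≫ h₁ ≫ g = h₂ ≫ h₁ ≫ g' := BinaryFan.IsLimit.hom_ext (EtOver.prodIsLimit E F) e₁' e₂'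
    have e' : P.fiber.map o η.1 = P.fiber.map o η'.1 := by
      have := congrArg (fun t => P.fiber.map t z₂) e
      simpa only [Functor.map_comp_apply, hz₂, hz₁, hg, hg'] using this
    apply Subtype.ext
    have := congrArg (P.fiber.map (toW (EtOver.prodFst E F))) e'
    simpa only [o, ← Functor.map_comp_apply, ofW_toW, CategoryTheory.Functor.map_id,
      ConcreteCategory.id_apply] using this
  · intro η
    obtain ⟨H, z, k, g, hk, hg⟩ := exists_refine P ξ η
    obtain ⟨l, hl₁, hl₂⟩ := BinaryFan.IsLimit.lift' (EtOver.prodIsLimit E F) k g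
    refine ⟨⟨P.fiber.map (l ≫ toW (EtOver.prodFst E F)) z, ?_⟩, ?_⟩
    · rw [← Functor.map_comp_apply, Category.assoc, toW_toE]
      exact (congrArg (fun t => P.fiber.map t z) hl₁).trans hk
    · change P.fiber.map _ (P.fiber.map _ z) = η
      rw [← Functor.map_comp_apply, Category.assoc, reassoc_of% toW_ofW]
      exact (congrArg (fun t => P.fiber.map t z) hl₂).trans hg

variable (E) in
/-- Functoriality of the product with the chart. -/
def Wmap {F F' : EtOver X} (g : F ⟶ F') : W E F ⟶ W E F' :=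
  liftHom (EtOver.prodFst E F)
    ((BinaryFan.IsLimit.lift' (EtOver.prodIsLimit E F') (EtOver.prodFst E F) (EtOver.prodSnd E F ≫ g)).1 ≫
      toW (EtOver.prodFst E F'))
    (by
      rw [Category.assoc, toW_toE]
      exact (BinaryFan.IsLimit.lift' (EtOver.prodIsLimit E F') (EtOver.prodFst E F)
        (EtOver.prodSnd E F ≫ g)).2.1)

theorem proj_nat {F F' : EtOver X} (g : F ⟶ F') (η : (fib P ξ).obj (W E F)) :
    proj P ξ F' ((fib P ξ).map (Wmap E g) η) = P.fiber.map g (proj P ξ F η) := by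
  change P.fiber.map _ ((fib P ξ).map (Wmap E g) η).1 = P.fiber.map g (P.fiber.map _ η.1)
  rw [fib_map_coe, ← Functor.map_comp_apply, ← Functor.map_comp_apply, Wmap, map_liftHom,
    Category.assoc, Category.assoc, Category.assoc, reassoc_of% toW_ofW]
  have h := (BinaryFan.IsLimit.lift' (EtOver.prodIsLimit E F') (EtOver.prodFst E F)
    (EtOver.prodSnd E F ≫ g)).2.2
  exact congrArg (fun t => P.fiber.map (ofW (EtOver.prodFst E F) ≫ t) η.1) h

section geom

variable {Ω K : Type u} [Field Ω] [Field K] (ξb : Spec (CommRingCat.of Ω) ⟶ E.obj.left.left)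
  (j : Spec (CommRingCat.of K) ⟶ Spec (CommRingCat.of Ω))

/-- The point of the chart over the bigger field. -/
abbrev chartMor : Over.mk ((j ≫ ξb) ≫ E.obj.left.hom) ⟶ E.obj.left := Over.homMk (j ≫ ξb) rfl

/-- Its image in `X`. -/
def basePt : FieldPt X :=
  ⟨K, (j ≫ ξb) ≫ E.obj.left.hom, (J S).uliftYonedaEquiv ((yon S).map (chartMor ξb j) ≫ E.obj.hom)⟩

theorem toHom_basePt : (yon S).map (chartMor ξb j) ≫ E.obj.hom = (basePt ξb j).toHom :=
  ((J S).uliftYonedaEquiv.symm_apply_apply _).symm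

/-- A lift to the product, as a map over the base. -/
def toProd (F : EtOver X) (a : Over.mk ξb ⟶ (Scheme.Etale.forget E.obj.left.left).obj (W E F)) :
    Over.mk ((j ≫ ξb) ≫ E.obj.left.hom) ⟶ (EtOver.prodObj E F).obj.left :=
  Over.homMk (j ≫ a.left) (by
    have ha : a.left ≫ (EtOver.prodFst E F).hom.left.left = ξb := Over.w a
    change (j ≫ a.left) ≫ (EtOver.prodObj E F).obj.left.hom = (j ≫ ξb) ≫ E.obj.left.hom
    rw [← Over.w (EtOver.prodFst E F).hom.left, Category.assoc, reassoc_of% ha, Category.assoc])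

theorem toProd_fst (F : EtOver X) (a : Over.mk ξb ⟶ (Scheme.Etale.forget E.obj.left.left).obj (W E F)) :
    toProd ξb j F a ≫ (EtOver.prodFst E F).hom.left = chartMor ξb j := by
  have ha : a.left ≫ (EtOver.prodFst E F).hom.left.left = ξb := Over.w a
  ext
  change (j ≫ a.left) ≫ (EtOver.prodFst E F).hom.left.left = j ≫ ξb
  rw [Category.assoc, ha]

/-- A lift to the product gives a lift to the factor. -/
def push (F : EtOver X) (a : Over.mk ξb ⟶ (Scheme.Etale.forget E.obj.left.left).obj (W E F)) :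
    (FieldPt.liftsTo (basePt ξb j)).obj F :=
  ⟨toProd ξb j F a ≫ (EtOver.prodSnd E F).hom.left, by
    rw [← toHom_basePt, ← toProd_fst ξb j F a, Functor.map_comp, Functor.map_comp, Category.assoc,
      Category.assoc, EtOver.w, EtOver.w]⟩

theorem push_bijective [IsSepClosed Ω] (F : EtOver X) : Function.Bijective (push ξb j F) := by
  haveI : Flat j := by
    obtain ⟨φ, rfl⟩ := Spec.map_surjective j
    letI := φ.hom.toAlgebra
    rw [HasRingHomProperty.Spec_iff (P := @Flat)]
    exact (inferInstance : Module.Flat Ω K)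
  haveI : Surjective j := ⟨fun y => ⟨IsLocalRing.closedPoint K, Subsingleton.elim _ _⟩⟩
  haveI : Epi j := Flat.epi_of_flat_of_surjective j
  constructor
  · intro a a' h
    have h₁ : toProd ξb j F a = toProd ξb j F a' :=
      Functor.relativelyRepresentable.hom_ext' _ (congrArg Subtype.val h)
        ((toProd_fst ξb j F a).trans (toProd_fst ξb j F a').symm)
    exact Over.OverMorphism.ext ((cancel_epi j).1 (congrArg CommaMorphism.left h₁))
  · rintro ⟨u, hu⟩
    let b := F.property.1.lift' u (chartMor ξb j) (hu.trans (toHom_basePt ξb j).symm)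
    have hb : b ≫ (EtOver.prodFst E F).hom.left = chartMor ξb j :=
      Functor.relativelyRepresentable.lift'_snd _ _ _ _
    haveI := EtOver.etale_left (EtOver.prodFst E F)
    obtain ⟨a, ha₁, ha₂⟩ := exists_descend j (EtOver.prodFst E F).hom.left.left ξb b.left
      (congrArg CommaMorphism.left hb)
    refine ⟨Over.homMk a ha₁, Subtype.ext ?_⟩
    have : toProd ξb j F (Over.homMk a ha₁) = b := Over.OverMorphism.ext ha₂
    change toProd ξb j F (Over.homMk a ha₁) ≫ _ = u
    rw [this]
    exact Functor.relativelyRepresentable.lift'_fst _ _ _ _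

theorem push_nat {F F' : EtOver X} (g : F ⟶ F')
    (a : Over.mk ξb ⟶ (Scheme.Etale.forget E.obj.left.left).obj (W E F)) :
    push ξb j F' (a ≫ (Scheme.Etale.forget E.obj.left.left).map (Wmap E g)) =
      (FieldPt.liftsTo (basePt ξb j)).map g (push ξb j F a) := by
  have h := (BinaryFan.IsLimit.lift' (EtOver.prodIsLimit E F') (EtOver.prodFst E F)
    (EtOver.prodSnd E F ≫ g)).2.2
  have h' := congrArg (fun t => t.hom.left.left) h
  refine Subtype.ext (Over.OverMorphism.ext ?_)
  change (j ≫ (a.left ≫ (_ ≫ 𝟙 _))) ≫ (EtOver.prodSnd E F').hom.left.left =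
    ((j ≫ a.left) ≫ (EtOver.prodSnd E F).hom.left.left) ≫ g.hom.left.left
  simp only [Category.assoc, Category.id_comp]
  exact congrArg (fun t => j ≫ a.left ≫ t) h'

end geom

end chart

theorem exists_geometric_iso :
    ∃ p : FieldPt X, p.IsGeometric ∧ Nonempty (P.fiber ≅ FieldPt.liftsTo p) := by
  haveI := P.isCofiltered
  obtain ⟨E, ξ⟩ := (IsCofiltered.nonempty : Nonempty P.fiber.Elements).some
  obtain ⟨Ω, _, _, ξb, ⟨e⟩⟩ := Groth.Agent.S0656.result E.obj.left.left (chartPoint P ξ)
  let j : Spec (CommRingCat.of (AlgebraicClosure Ω)) ⟶ Spec (CommRingCat.of Ω) :=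
    Spec.map (CommRingCat.ofHom (algebraMap Ω (AlgebraicClosure Ω)))
  refine ⟨basePt ξb j, AlgebraicClosure.isAlgClosed Ω, ⟨NatIso.ofComponents (fun F =>
    (Equiv.ofBijective _ (proj_bijective P ξ F)).symm.toIso ≪≫ e.app (W E F) ≪≫
      (Equiv.ofBijective _ (push_bijective ξb j F)).toIso) fun {F F'} g => ?_⟩⟩
  ext η
  obtain ⟨z, rfl⟩ := (proj_bijective P ξ F).2 η
  change push ξb j F' (e.hom.app (W E F')
      ((Equiv.ofBijective _ (proj_bijective P ξ F')).symm (P.fiber.map g (proj P ξ F z)))) =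
    (FieldPt.liftsTo (basePt ξb j)).map g
      (push ξb j F (e.hom.app (W E F) ((Equiv.ofBijective _ (proj_bijective P ξ F)).symm (proj P ξ F z))))
  rw [Equiv.ofBijective_symm_apply_apply, ← proj_nat, Equiv.ofBijective_symm_apply_apply, ← push_nat]
  exact congrArg (push ξb j F') (ConcreteCategory.congr_hom (e.hom.naturality (Wmap E g)) z)

theorem exists_geometric_sheafFiber {X : Space S} (P : GrothendieckTopology.Point.{u} (etTop X.obj)) :
    ∃ p : FieldPt X.obj, p.IsGeometric ∧
      Nonempty (P.sheafFiber (A := Type (u + 1)) ≅ stalkEtFunctor (Type (u + 1)) p) := by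
  obtain ⟨p, hp, ⟨i⟩⟩ := exists_geometric_iso P
  let Q := etPoint X p hp
  let f : P ⟶ Q := ⟨i.inv⟩
  let g : Q ⟶ P := ⟨i.hom⟩
  have hfg : f ≫ g = 𝟙 P := GrothendieckTopology.Point.hom_ext i.hom_inv_id
  have hgf : g ≫ f = 𝟙 Q := GrothendieckTopology.Point.hom_ext i.inv_hom_id
  exact ⟨p, hp, ⟨{
    hom := g.sheafFiber
    inv := f.sheafFiber
    hom_inv_id := by
      rw [← GrothendieckTopology.Point.Hom.sheafFiber_comp, hfg, GrothendieckTopology.Point.Hom.sheafFiber_id]
    inv_hom_id := by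
      rw [← GrothendieckTopology.Point.Hom.sheafFiber_comp, hgf, GrothendieckTopology.Point.Hom.sheafFiber_id]
      rfl }⟩⟩

end GrothLib.AlgSp.EtTopPoints
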