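import Groth.Agent.Lib.AlgSp.LimitDesc
import Groth.Agent.Lib.LimDescend.FgSub
import Mathlib.RingTheory.Smooth.NoetherianDescent

/-!
# Models of étale covers of affine schemes over finitely generated rings

* `exists_model_etale_surjective`: an étale surjection of affine schemes is the base change of one whose
  target is affine and of finite presentation over `Spec ℤ`.
-/

universe u

open CategoryTheory CategoryTheory.Limits AlgebraicGeometry TensorProduct

namespace GrothLib.AlgSp

set_option backward.isDefEq.respectTransparency false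

/-- An étale surjection of affine schemes descends to a finitely presented base. -/
theorem exists_model_etale_surjective {W T : Scheme.{u}} [IsAffine W] [IsAffine T] (ψ : W ⟶ T) [Etale ψ]
    [Surjective ψ] :
    ∃ (T₀ U₀ : Scheme.{u}) (π₀ : U₀ ⟶ T₀) (τ : T ⟶ T₀) (υ : W ⟶ U₀), IsAffine T₀ ∧ IsAffine U₀ ∧
      LocallyOfFinitePresentation (terminal.from T₀) ∧ Etale π₀ ∧ Surjective π₀ ∧ IsPullback υ ψ π₀ τ := by
  classical
  let A : CommRingCat.{u} := Γ(T, ⊤)
  let B : CommRingCat.{u} := Γ(W, ⊤)
  have het : ψ.appTop.hom.Etale := HasRingHomProperty.appTop @Etale ψ inferInstance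
  letI : Algebra A B := ψ.appTop.hom.toAlgebra
  haveI : Algebra.Etale A B := het
  obtain ⟨A₀, B₀, iB₀, iAlg, hfg, hetale, ⟨e⟩⟩ := Algebra.Etale.exists_subalgebra_fg ℤ A B
  let D := LimDescend.fgDiagram (A : Type u)
  let c := LimDescend.fgCone (A : Type u)
  have hc : IsLimit c := LimDescend.isLimitFgCone (A : Type u)
  let j₀ : (LimDescend.FgSub (A : Type u))ᵒᵖ := Opposite.op ⟨A₀, hfg⟩
  let ρ : CommRingCat.of ↥A₀ ⟶ CommRingCat.of B₀ := CommRingCat.ofHom (algebraMap ↥A₀ B₀)
  let a : Spec (CommRingCat.of B₀) ⟶ D.obj j₀ := Spec.map ρ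
  haveI : Etale a := by
    refine (HasRingHomProperty.Spec_iff (P := @Etale)).2 ?_
    show (algebraMap ↥A₀ B₀).Etale
    rw [RingHom.etale_algebraMap]
    exact hetale
  -- the pullback of the model
  let P : CommRingCat.{u} := CommRingCat.of ((A : Type u) ⊗[↥A₀] B₀)
  let inl : A ⟶ P := CommRingCat.ofHom (Algebra.TensorProduct.includeLeftRingHom)
  let inr : CommRingCat.of B₀ ⟶ P :=
    CommRingCat.ofHom (Algebra.TensorProduct.includeRight : B₀ →ₐ[↥A₀] (A : Type u) ⊗[↥A₀] B₀).toRingHom
  have hpo : IsPushout (CommRingCat.ofHom (algebraMap ↥A₀ (A : Type u))) ρ inl inr :=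
    CommRingCat.isPushout_tensorProduct ↥A₀ (A : Type u) B₀
  have sq : IsPullback (Spec.map inr) (Spec.map inl) a (c.π.app j₀) :=
    (isPullback_SpecMap_of_isPushout _ _ _ _ hpo).flip
  let ι : P ≅ B := e.symm.toRingEquiv.toCommRingCatIso
  have hι : inl ≫ ι.hom = ψ.appTop := by
    ext x
    show e.symm ((x : A) ⊗ₜ[↥A₀] (1 : B₀)) = _
    exact e.symm.commutes x
  let φ : W ≅ Spec P := W.isoSpec ≪≫ Scheme.Spec.mapIso ι.op
  have hφ : φ.hom ≫ Spec.map inl = ψ ≫ T.isoSpec.hom := by
    simp only [φ, Iso.trans_hom, Category.assoc, Functor.mapIso_hom, Iso.op_hom, Scheme.Spec_map,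
      Quiver.Hom.unop_op, ← Spec.map_comp, hι]
    exact Scheme.isoSpec_hom_naturality ψ
  haveI : Surjective (Spec.map inl) := by
    have : Surjective (φ.hom ≫ Spec.map inl) := by rw [hφ]; infer_instance
    exact Surjective.of_comp φ.hom _
  haveI : LocallyOfFinitePresentation a := inferInstance
  obtain ⟨k, hk⟩ := affineCase_surjective D c hc j₀ a sq ‹Surjective (Spec.map inl)›
  -- the stage
  let Ak : CommRingCat.{u} := CommRingCat.of ↥k.left.unop.1
  let U₀ := pullback a (D.map k.hom)
  let π₀ : U₀ ⟶ D.obj k.left := pullback.snd a (D.map k.hom)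
  haveI : IsAffine (D.obj j₀) := inferInstanceAs (IsAffine (Spec _))
  haveI : IsAffine (D.obj k.left) := inferInstanceAs (IsAffine (Spec _))
  haveI : IsAffine U₀ := inferInstance
  let υ : Spec P ⟶ U₀ := pullback.lift (Spec.map inr) (Spec.map inl ≫ c.π.app k.left)
    (by rw [Category.assoc, c.w, sq.w])
  have sqk : IsPullback υ (Spec.map inl) π₀ (c.π.app k.left) := by
    refine IsPullback.of_right ?_ (pullback.lift_snd _ _ _) (IsPullback.of_hasPullback a (D.map k.hom))
    rw [pullback.lift_fst, c.w]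
    exact sq
  refine ⟨D.obj k.left, U₀, π₀, T.isoSpec.hom ≫ c.π.app k.left, φ.hom ≫ υ, inferInstance, inferInstance,
    ?_, MorphismProperty.pullback_snd a (D.map k.hom) ‹Etale a›, hk, ?_⟩
  · haveI : Algebra.FiniteType ℤ ↥k.left.unop.1 := (Subalgebra.fg_iff_finiteType _).mp k.left.unop.2
    haveI : Algebra.FinitePresentation ℤ ↥k.left.unop.1 := Algebra.FinitePresentation.of_finiteType.1 ‹_›
    let z : Spec (CommRingCat.of (ULift.{u} ℤ)) ⟶ ⊤_ Scheme.{u} := terminal.from _
    haveI : IsIso z := (specULiftZIsTerminal.uniqueUpToIso terminalIsTerminal).isIso_hom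
    haveI : LocallyOfFinitePresentation
        (Spec.map (CommRingCat.ofHom ((algebraMap ℤ ↥k.left.unop.1).comp ULift.ringEquiv.toRingHom))) := by
      refine (HasRingHomProperty.Spec_iff (P := @LocallyOfFinitePresentation)).2 ?_
      exact RingHom.FinitePresentation.comp (RingHom.finitePresentation_algebraMap.2 ‹_›)
        (RingHom.FinitePresentation.of_bijective ULift.ringEquiv.bijective)
    have e' : terminal.from (D.obj k.left) =
        Spec.map (CommRingCat.ofHom ((algebraMap ℤ ↥k.left.unop.1).comp ULift.ringEquiv.toRingHom)) ≫ z :=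
      Subsingleton.elim _ _
    rw [e']
    infer_instance
  · exact sqk.of_iso φ.symm (Iso.refl _) T.isoSpec.symm (Iso.refl _) (by simp)
      (by rw [Iso.symm_hom, Iso.symm_hom, ← cancel_mono T.isoSpec.hom, Category.assoc, Category.assoc,
            Iso.inv_hom_id, Category.comp_id, ← hφ, Iso.inv_hom_id_assoc])
      (by simp) (by simp)

end GrothLib.AlgSp
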