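import Groth.Agent.Lib.AlgSp.BootstrapQuot
import Groth.Agent.Lib.Torsor21.SmoothSection

/-!
# Algebraic spaces defined with the etale topology

An etale sheaf with a smooth surjective cover by a space, representable by spaces, is an algebraic space.
-/

universe u

open CategoryTheory CategoryTheory.Limits AlgebraicGeometry Opposite

namespace GrothLib.AlgSp

open _root_.AlgSp

variable {S : Scheme.{u}}

/-- The big etale topology over `S`. -/
abbrev Jet (S : Scheme.{u}) : GrothendieckTopology (Over S) := QuotSh.J Scheme.etalePrecoverage S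

theorem jet_le : Jet S ≤ J S := fun U R hR => by
  refine Precoverage.toGrothendieck_mono ?_ _ (show Sieve.overEquiv U R ∈ _ from hR)
  exact Scheme.precoverage_mono fun _ _ f hf => by
    have : Etale f := hf
    exact ⟨inferInstance, inferInstance⟩

theorem isSheaf_jet (F : Sp S) : Presheaf.IsSheaf (Jet S) F.obj := fun X =>
  Presieve.isSheaf_of_le _ jet_le (F.property X)

theorem ofArrows_mem_jet {U : Over S} {ι : Type u} (V : ι → Over S) (c : ∀ i, V i ⟶ U)
    (he : ∀ i, Etale (c i).left) (hs : ∀ x : ↥U.left, ∃ i y, (c i).left y = x) :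
    Sieve.ofArrows V c ∈ Jet S U := by
  change Sieve.overEquiv U (Sieve.ofArrows V c) ∈ (Scheme.precoverage @Etale).toGrothendieck U.left
  refine Precoverage.mem_toGrothendieck_iff_of_isStableUnderComposition.2
    ⟨Presieve.ofArrows (fun i => (V i).left) (fun i => (c i).left), ?_, ?_⟩
  · exact (Scheme.Cover.mkOfCovers (P := @Etale) ι (fun i => (V i).left) (fun i => (c i).left) hs he).mem₀
  · rintro Y g ⟨i⟩
    refine (Sieve.overEquiv_iff _ _).2 ⟨V i, Over.homMk (𝟙 _) (by simp), c i, ⟨i⟩, ?_⟩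
    exact Over.OverMorphism.ext (Category.id_comp _)

/-- Lifts along smooth surjections give etale local surjectivity. -/
theorem isLocallySurjective_jet {X G : PSp S} {a : X ⟶ G}
    (h : ∀ (T : Over S) (g : (pyon S).obj T ⟶ G), ∃ (V : Over S) (c : V ⟶ T) (l : (pyon S).obj V ⟶ X),
      Smooth c.left ∧ Surjective c.left ∧ l ≫ a = (pyon S).map c ≫ g) :
    Presheaf.IsLocallySurjective (Jet S) a where
  imageSieve_mem {T} x := by
    obtain ⟨V, c, l, hc, hs, hl⟩ := h T (uliftYonedaEquiv.{u + 1}.symm x)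
    obtain ⟨W, p, hW⟩ := GrothLib.Torsor21.exists_etale_sections c.left
    rw [Scheme.etalePrecoverage, Scheme.ofArrows_mem_precoverage_iff] at hW
    let W' : ↥T.left → Over S := fun s => Over.mk ((p s ≫ c.left) ≫ T.hom)
    let c' : ∀ s, W' s ⟶ T := fun s => Over.homMk (p s ≫ c.left) rfl
    let p' : ∀ s, W' s ⟶ V := fun s => Over.homMk (p s) (by
      change p s ≫ V.hom = (p s ≫ c.left) ≫ T.hom
      rw [Category.assoc, Over.w c])
    have hp' : ∀ s, p' s ≫ c = c' s := fun s => Over.OverMorphism.ext rfl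
    refine GrothendieckTopology.superset_covering _ ?_ (ofArrows_mem_jet W' c' (fun s => hW.2 s) fun y => hW.1 y)
    rintro Z g ⟨_, k, _, ⟨s⟩, rfl⟩
    refine ⟨uliftYonedaEquiv.{u + 1} ((pyon S).map (k ≫ p' s) ≫ l), ?_⟩
    rw [← uliftYonedaEquiv_comp, Category.assoc, hl, ← Functor.map_comp_assoc, Category.assoc, hp']
    erw [← uliftYonedaEquiv_naturality]

theorem isEqvRel_of_isPullback_pyon {F : PSp S} {R U : Over S} {s t : R ⟶ U} {p : (pyon S).obj U ⟶ F}
    (sq : IsPullback ((pyon S).map t) ((pyon S).map s) p p) : IsEqvRel s t := by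
  have key : ∀ (T : Over S) (a b : T ⟶ U),
      (∃ r : T ⟶ R, r ≫ t = a ∧ r ≫ s = b) ↔ (pyon S).map a ≫ p = (pyon S).map b ≫ p := by
    intro T a b
    constructor
    · rintro ⟨r, rfl, rfl⟩
      rw [Functor.map_comp, Functor.map_comp, Category.assoc, Category.assoc, sq.w]
    · intro h
      obtain ⟨r, hr⟩ := (pyon S).map_surjective (sq.lift _ _ h)
      exact ⟨r, (pyon S).map_injective (by rw [Functor.map_comp, hr, sq.lift_fst]),
        (pyon S).map_injective (by rw [Functor.map_comp, hr, sq.lift_snd])⟩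
  refine ⟨fun T r r' h₁ h₂ => (pyon S).map_injective (sq.hom_ext ?_ ?_), fun T => ?_⟩
  · rw [← Functor.map_comp, ← Functor.map_comp, h₁]
  · rw [← Functor.map_comp, ← Functor.map_comp, h₂]
  · exact ⟨fun a => (key T a a).2 rfl, fun h => (key T _ _).2 ((key T _ _).1 h).symm,
      fun h h' => (key T _ _).2 (((key T _ _).1 h).trans ((key T _ _).1 h'))⟩

/-- An etale sheaf which is etale locally the quotient of a scheme by a smooth equivalence relation is an
algebraic space. -/
theorem isAlgSpaceP_of_smooth_kernelPair {F : PSp S} (h1 : Presheaf.IsSheaf (Jet S) F) {R W : Over S}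
    {t s : R ⟶ W} {π : (pyon S).obj W ⟶ F} (sq : IsPullback ((pyon S).map t) ((pyon S).map s) π π)
    [Smooth s.left] [Presheaf.IsLocallySurjective (Jet S) π] : IsAlgSpaceP F := by
  have heq := isEqvRel_of_isPullback_pyon sq
  have hQ := isAlgSpace_quot heq
  let Q := QuotSh.quot Scheme.fppfPrecoverage s t
  let q : (yon S).obj W ⟶ Q := yonQuotπ s t
  have hls := isLocallySurjective_yonQuotπ s t
  have sqQ := isPullback_yonQuotπ heq
  obtain ⟨hd, h₁, h₂, h₃⟩ := fppf_chart_of_kernelPair sqQ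
  have h₄ : RepWith @Smooth q :=
    repWith_of_base h₁.1 q sqQ fppfDescends_smooth ((repWith_yon_map_iff _ _).2 ‹Smooth s.left›)
  have hq : Presheaf.IsLocallySurjective (Jet S) q.hom := isLocallySurjective_jet fun T g => by
    obtain ⟨V, fst, snd, sV⟩ :=
      exists_isPullback_of_representable h₁.1 (ObjectProperty.homMk g : (yon S).obj T ⟶ Q)
    exact ⟨V, snd, fst.hom, h₄.2 _ _ _ sV, h₃.2 _ _ _ sV, congrArg (fun k => k.hom) sV.w⟩
  let F₁ : Sheaf (Jet S) (Type (u + 1)) := ⟨F, h1⟩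
  let F₂ : Sheaf (Jet S) (Type (u + 1)) := ⟨Q.obj, isSheaf_jet Q⟩
  let X : Sheaf (Jet S) (Type (u + 1)) := ⟨(pyon S).obj W, isSheaf_jet ((yon S).obj W)⟩
  let X' : Sheaf (Jet S) (Type (u + 1)) := ⟨(pyon S).obj R, isSheaf_jet ((yon S).obj R)⟩
  let p₁ : X ⟶ F₁ := ObjectProperty.homMk π
  let p₂ : X ⟶ F₂ := ObjectProperty.homMk q.hom
  let t' : X' ⟶ X := ObjectProperty.homMk ((pyon S).map t)
  let s' : X' ⟶ X := ObjectProperty.homMk ((pyon S).map s)
  have e₁ : IsPullback t' s' p₁ p₁ :=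
    IsPullback.of_map_of_faithful (sheafToPresheaf (Jet S) (Type (u + 1))) sq
  have e₂ : IsPullback t' s' p₂ p₂ :=
    IsPullback.of_map_of_faithful (sheafToPresheaf (Jet S) (Type (u + 1))) (sqQ.map (sheafToPresheaf (J S) (Type (u + 1))))
  have : Sheaf.IsLocallySurjective p₁ := ‹Presheaf.IsLocallySurjective (Jet S) π›
  have : Sheaf.IsLocallySurjective p₂ := hq
  have : Epi p₁ := (Sheaf.isLocallySurjective_iff_epi p₁).1 inferInstance
  have : Epi p₂ := (Sheaf.isLocallySurjective_iff_epi p₂).1 inferInstance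
  have := IsRegularEpiCategory.regularEpiOfEpi p₁
  have := IsRegularEpiCategory.regularEpiOfEpi p₂
  obtain ⟨v, hv⟩ := IsRegularEpi.exists_of_isKernelPair p₁ e₁ p₂ e₂.w
  obtain ⟨v', hv'⟩ := IsRegularEpi.exists_of_isKernelPair p₂ e₂ p₁ e₁.w
  let e : F₁ ≅ F₂ := ⟨v, v', by rw [← cancel_epi p₁, reassoc_of% hv, hv', Category.comp_id],
    by rw [← cancel_epi p₂, reassoc_of% hv', hv, Category.comp_id]⟩
  exact IsAlgSpaceP.of_iso ((isAlgSpaceP_obj_iff Q).2 hQ) ((sheafToPresheaf (Jet S) (Type (u + 1))).mapIso e).symm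

/-- An etale sheaf with a smooth surjective map from a space, representable by spaces, is an algebraic space. -/
theorem isAlgSpaceP_of_smooth_cover {F : PSp S} (h1 : Presheaf.IsSheaf (Jet S) F) {U : Sp S} (hU : IsAlgSpace U)
    {p : U.obj ⟶ F} (hp : RepBySpWith (IsSurjectiveMor ⊓ LocP @Smooth) p) : IsAlgSpaceP F := by
  obtain ⟨W, a, ae, as⟩ := hU.atlas
  let π : (pyon S).obj W ⟶ F := a.hom ≫ p
  have key : ∀ (T : Over S) (g : (pyon S).obj T ⟶ F), ∃ (K : Sp S) (k₁ : K ⟶ (yon S).obj W)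
      (k₂ : K ⟶ (yon S).obj T), IsPullback k₁.hom k₂.hom π g ∧ IsAlgSpace K ∧ LocP @Smooth k₂ ∧
        IsSurjectiveMor k₂ := by
    intro T g
    obtain ⟨hP, hA, hsu, hsm⟩ := hp g _ _ (IsPullback.of_hasPullback p g)
    let P : Sp S := ⟨pullback p g, hP⟩
    let fst : P ⟶ U := ObjectProperty.homMk (pullback.fst p g)
    let snd : P ⟶ (yon S).obj T := ObjectProperty.homMk (pullback.snd p g)
    have sK := IsPullback.of_hasPullback a fst
    have he : RepWith @Etale (pullback.snd a fst) := repWith_of_isPullback sK ae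
    have hes : RepWith @Surjective (pullback.snd a fst) := repWith_of_isPullback sK as
    have hK : IsAlgSpace (pullback a fst) := isAlgSpace_pullback' hU (IsAlgSpace.yon_obj W) hA a fst
    refine ⟨pullback a fst, pullback.fst a fst, pullback.snd a fst ≫ snd,
      (sK.map (sheafToPresheaf (J S) (Type (u + 1)))).paste_vert (IsPullback.of_hasPullback p g), hK,
      EtLocal.smooth.locP_comp hK hA (IsAlgSpace.yon_obj T) (EtLocal.smooth.locP_of_repWith hA
        (repWith_mono he fun _ _ f (_ : Etale f) => inferInstance)) hsm, fun y => ?_⟩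
    obtain ⟨x, rfl⟩ := hsu y
    obtain ⟨z, rfl⟩ := surjective_map_of_repWith hes x
    exact ⟨z, Points.map_comp _ _ _⟩
  have : Presheaf.IsLocallySurjective (Jet S) π := isLocallySurjective_jet fun T g => by
    obtain ⟨K, k₁, k₂, sK, hK, hsm, hsu⟩ := key T g
    obtain ⟨V, b, be, bs⟩ := hK.atlas
    obtain ⟨c, hc⟩ := (yon S).map_surjective (b ≫ k₂)
    have hc' : b ≫ k₂ = (yon S).map c ≫ 𝟙 _ := by rw [Category.comp_id, hc]
    refine ⟨V, c, b.hom ≫ k₁.hom, hsm b (𝟙 _) c be (repWith_id _ _) hc', ⟨fun y => ?_⟩, ?_⟩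
    · obtain ⟨z, hz⟩ := hsu (Points.ofScheme T y)
      obtain ⟨w, rfl⟩ := surjective_ofPt_of_repWith bs z
      rw [Points.map_ofPt, ← hc, Points.ofPt_eq_map_ofScheme, map_yon_ofPt] at hz
      exact ⟨w, (Points.schemeEquiv T).injective hz⟩
    · refine (Category.assoc _ _ _).trans ((congrArg (b.hom ≫ ·) sK.w).trans ?_)
      refine (Category.assoc _ _ _).symm.trans ?_
      exact congrArg (fun k => k.hom ≫ g) hc.symm
  obtain ⟨K, k₁, k₂, sK, hK, hsm, -⟩ := key W π
  have : Mono (prod.lift k₁ k₂) := ⟨fun x y h => ObjectProperty.hom_ext _ (sK.hom_ext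
    (congrArg (fun k => k.hom) (show x ≫ k₁ = y ≫ k₁ by
      simpa only [Category.assoc, prod.lift_fst] using h =≫ prod.fst))
    (congrArg (fun k => k.hom) (show x ≫ k₂ = y ≫ k₂ by
      simpa only [Category.assoc, prod.lift_snd] using h =≫ prod.snd)))⟩
  obtain ⟨R, e, -⟩ := exists_scheme_of_mono_prod hK k₁ k₂
    (locP_mono (fun _ _ f hf => by have : Smooth f := hf; infer_instance) hsm)
  let t : R ⟶ W := (yon S).preimage (e.hom ≫ k₁)
  let s : R ⟶ W := (yon S).preimage (e.hom ≫ k₂)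
  have : Smooth s.left := hsm e.hom (𝟙 _) s (repWith_iso _) (repWith_id _ _)
    (by rw [Category.comp_id, Functor.map_preimage])
  refine isAlgSpaceP_of_smooth_kernelPair h1 (t := t) (s := s) (π := π) ?_
  refine sK.of_iso ((sheafToPresheaf (J S) (Type (u + 1))).mapIso e).symm (Iso.refl _) (Iso.refl _) (Iso.refl _)
    ?_ ?_ ?_ ?_
  · rw [← yon_map_hom, Functor.map_preimage]
    change k₁.hom ≫ 𝟙 _ = e.inv.hom ≫ e.hom.hom ≫ k₁.hom
    rw [Category.comp_id, ← Category.assoc, ← ObjectProperty.FullSubcategory.comp_hom, Iso.inv_hom_id]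
    exact (Category.id_comp _).symm
  · rw [← yon_map_hom, Functor.map_preimage]
    change k₂.hom ≫ 𝟙 _ = e.inv.hom ≫ e.hom.hom ≫ k₂.hom
    rw [Category.comp_id, ← Category.assoc, ← ObjectProperty.FullSubcategory.comp_hom, Iso.inv_hom_id]
    exact (Category.id_comp _).symm
  · exact (Category.comp_id _).trans (Category.id_comp _).symm
  · exact (Category.comp_id _).trans (Category.id_comp _).symm

end GrothLib.AlgSp
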