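import Groth.Agent.Lib.AlgSp.SingletonSpace
import Groth.Agent.Lib.AlgSp.BootstrapFamily

/-!
# Maps from reduced spaces into a fibre of a Noetherian chart

* `exists_lift_of_range_subset`: reduced schemes lift through preimmersions with closed image.
* `exists_nhd_eq`: maps into a specialization free subset of a locally Noetherian scheme are locally constant.
* `exists_factor_of_reduced`: factorization through a monomorphic one point space.
-/

universe u

open CategoryTheory CategoryTheory.Limits AlgebraicGeometry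

namespace GrothLib.AlgSp

open _root_.AlgSp

variable {S : Scheme.{u}}

theorem exists_lift_of_range_subset {V U C : Scheme.{u}} [IsReduced V] (h : V ⟶ U) (i : C ⟶ U) [IsPreimmersion i]
    (hr : Set.range h ⊆ Set.range i) : ∃ m : V ⟶ C, m ≫ i = h := by
  haveI : Surjective (pullback.snd i h) := ⟨fun y => by
    obtain ⟨w, hw⟩ := hr ⟨y, rfl⟩
    obtain ⟨z, -, hz⟩ := Scheme.Pullback.exists_preimage_pullback w y hw
    exact ⟨z, hz⟩⟩
  haveI : IsClosedImmersion (pullback.snd i h) :=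
    .of_isPreimmersion _ (by rw [Set.range_eq_univ.2 (Scheme.Hom.surjective _)]; exact isClosed_univ)
  haveI := isIso_of_isClosedImmersion_of_surjective (pullback.snd i h)
  exact ⟨inv (pullback.snd i h) ≫ pullback.fst i h, by rw [Category.assoc, pullback.condition, IsIso.inv_hom_id_assoc]⟩

theorem exists_notMem_forall_mem {B : Type u} [CommRing B] (p : Ideal B) [p.IsPrime] (g : B)
    (h : ∀ q : Ideal B, q.IsPrime → q ≤ p → g ∈ q) :
    ∃ s ∉ p, ∀ q : Ideal B, q.IsPrime → s ∉ q → g ∈ q := by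
  by_contra hne
  push Not at hne
  let M := p.primeCompl ⊔ Submonoid.powers g
  have hd : Disjoint ((⊥ : Ideal B) : Set B) M := Set.disjoint_left.2 fun z hz hzM => by
    obtain ⟨s, hs, _, ⟨n, rfl⟩, rfl⟩ := Submonoid.mem_sup.1 hzM
    obtain ⟨q, hq, hsq, hgq⟩ := hne s hs
    refine (hq.mem_or_mem ((show s * g ^ n = 0 from hz) ▸ q.zero_mem)).elim hsq fun h' => hgq (hq.mem_of_pow_mem _ h')
  obtain ⟨q, hq, -, hqM⟩ := Ideal.exists_le_prime_disjoint ⊥ M hd
  have hgM : g ∈ M := Submonoid.mem_sup_right (Submonoid.mem_powers g)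
  exact Set.disjoint_left.1 hqM (h q hq fun x hx => by
    by_contra hxp
    exact Set.disjoint_left.1 hqM hx (Submonoid.mem_sup_left hxp)) hgM

theorem exists_nhd_eq {V U : Scheme.{u}} [IsLocallyNoetherian U] (h : V ⟶ U) (F : Set U) (hh : ∀ w, h w ∈ F)
    (hF : ∀ y ∈ F, ∀ y' ∈ F, y ⤳ y' → y = y') (v : V) :
    ∃ O : V.Opens, v ∈ O ∧ ∀ w ∈ O, h w = h v := by
  obtain ⟨A, hA, huA, -⟩ := exists_isAffineOpen_mem_and_subset (U := (⊤ : U.Opens)) (x := h v) trivial
  obtain ⟨W, hW, hvW, hWA⟩ := exists_isAffineOpen_mem_and_subset (U := h ⁻¹ᵁ A) (x := v) huA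
  haveI : IsNoetherianRing Γ(U, A) := IsLocallyNoetherian.component_noetherian ⟨A, hA⟩
  let φ := h.appLE A W hWA
  have hφ : ∀ q, h (hW.fromSpec q) = hA.fromSpec (Spec.map φ q) := fun q => by
    rw [← Scheme.Hom.comp_apply, ← Scheme.Hom.comp_apply, IsAffineOpen.SpecMap_appLE_fromSpec]
  let pv := hW.primeIdealOf ⟨v, hvW⟩
  let pu := hA.primeIdealOf ⟨h v, huA⟩
  have hpu : hA.fromSpec pu = h v := hA.fromSpec_primeIdealOf _
  have hpv : hW.fromSpec pv = v := hW.fromSpec_primeIdealOf _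
  obtain ⟨T, hT⟩ := IsNoetherian.noetherian pu.asIdeal
  have hle : ∀ a ∈ pu.asIdeal, ∀ q : Ideal Γ(V, W), q.IsPrime → q ≤ pv.asIdeal → φ a ∈ q := by
    intro a ha q hq hqle
    have hs : hW.fromSpec ⟨q, hq⟩ ⤳ v := by
      rw [← hpv]
      exact ((PrimeSpectrum.le_iff_specializes (⟨q, hq⟩ : PrimeSpectrum _) pv).1 hqle).map hW.fromSpec.continuous
    have he := hF _ (hh (hW.fromSpec ⟨q, hq⟩)) _ (hh v) (hs.map h.continuous)
    rw [hφ, ← hpu] at he
    rw [← hA.fromSpec.isOpenEmbedding.injective he] at ha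
    exact ha
  choose s hs hsq using fun a : T =>
    exists_notMem_forall_mem pv.asIdeal (φ a.1) (hle a.1 (hT ▸ Ideal.subset_span a.2))
  let t := ∏ a, s a
  have ht : t ∉ pv.asIdeal := fun hmem => by
    obtain ⟨a, -, ha⟩ := pv.2.prod_mem_iff.1 hmem
    exact hs a ha
  refine ⟨⟨hW.fromSpec '' (PrimeSpectrum.basicOpen t : Set (PrimeSpectrum Γ(V, W))),
    hW.fromSpec.isOpenEmbedding.isOpenMap _ (PrimeSpectrum.basicOpen t).isOpen⟩, ⟨pv, ht, hpv⟩, ?_⟩
  rintro _ ⟨q, hq, rfl⟩
  have hle' : pu.asIdeal ≤ (Spec.map φ q).asIdeal := by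
    rw [← hT]
    refine Ideal.span_le.2 fun a ha => hsq ⟨a, ha⟩ q.asIdeal q.2 fun hm => hq ?_
    exact Ideal.mem_of_dvd _ (Finset.dvd_prod_of_mem s (Finset.mem_univ (⟨a, ha⟩ : T))) hm
  refine (hF _ (hh v) _ (hh _) ?_).symm
  rw [hφ, ← hpu]
  exact ((PrimeSpectrum.le_iff_specializes pu (Spec.map φ q)).1 hle').map hA.fromSpec.continuous

/-- A map from a reduced space to a locally Noetherian space with image a point `x` factors through every
monomorphism from a space with image `x`. -/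
theorem exists_factor_of_reduced {X Y Z : Sp S} (hX : IsAlgSpace X) (hY : IsAlgSpace Y) (hZ : IsAlgSpace Z)
    (hN : IsLocNoethSp X) (hr : EtaleLocally (fun U => IsReduced U) Y) (f : Y ⟶ X) (x : Points X)
    (hf : ∀ y, Points.map f y = x) (i : Z ⟶ X) [Mono i] (hi : x ∈ Set.range (Points.map i)) :
    ∃ g : Y ⟶ Z, g ≫ i = f := by
  obtain ⟨V, a, ae, as, hV⟩ := hN
  haveI := hV
  obtain ⟨W, b, α, be, hα, bs⟩ := exists_chart_over hY hX f a ae
  have bs := bs as
  haveI : IsReduced W.left := etaleLocally_chart (Q := fun U => IsReduced U)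
    (fun _ _ k h₁ h₂ => isReduced_of_etale k h₁ h₂) (fun _ _ k h₁ h₂ h₃ => isReduced_desc k h₁ h₂ h₃) hr b be
  have hF : ∀ w, α.left w ∈ Points.ofPt a ⁻¹' {x} := fun w => by
    rw [Set.mem_preimage, ← ofPt_map_comp, ← hα, ← Points.map_ofPt]
    exact hf _
  choose O hwO hO using exists_nhd_eq α.left _ hF fun y hy y' hy' hs =>
    (eq_of_specializes_of_isLocNoeth hX ae ((Set.mem_singleton_iff.1 hy').trans (Set.mem_singleton_iff.1 hy).symm) hs).symm
  -- the lifts on the pieces
  have hlift : ∀ w, ∃ l : (yon S).obj (Over.mk ((O w).ι ≫ W.hom)) ⟶ Z,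
      l ≫ i = (yon S).map (Over.homMk (O w).ι rfl : Over.mk ((O w).ι ≫ W.hom) ⟶ W) ≫ b ≫ f := by
    intro w
    let u := α.left w
    haveI : IsReduced (O w : Scheme.{u}) := isReduced_of_isOpenImmersion (O w).ι
    obtain ⟨m, hm⟩ := exists_lift_of_range_subset ((O w).ι ≫ α.left) (V.left.fromSpecResidueField u) (by
      rintro _ ⟨y, rfl⟩
      exact ⟨IsLocalRing.closedPoint _, (Scheme.fromSpecResidueField_apply _ _).trans (hO w y.1 y.2).symm⟩)
    let q := FieldPt.ofPt a u
    let c : q.pt ⟶ V := Over.homMk (V.left.fromSpecResidueField u) rfl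
    let m' : Over.mk ((O w).ι ≫ W.hom) ⟶ q.pt := Over.homMk m (by
      show m ≫ V.left.fromSpecResidueField u ≫ V.hom = (O w).ι ≫ W.hom
      rw [← Category.assoc, hm, Category.assoc, Over.w α])
    have hP := isAlgSpace_pullback' hX hZ (IsAlgSpace.yon_obj q.pt) i q.toHom
    haveI : Nonempty (Points (pullback i q.toHom)) := by
      obtain ⟨z, hz⟩ := hi
      obtain ⟨p, -, -⟩ := exists_of_isPullback (IsPullback.of_hasPullback i q.toHom) (x := z)
        (y := Points.ofScheme q.pt (IsLocalRing.closedPoint q.K)) (by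
          rw [← Points.ofPt_eq_map_ofScheme, Points.ofPt_toHom, hz]
          exact (Set.mem_singleton_iff.1 (hF w)).symm)
      exact ⟨p⟩
    haveI := isIso_of_mono_to_field_space hP (pullback.snd i q.toHom)
    refine ⟨(yon S).map m' ≫ inv (pullback.snd i q.toHom) ≫ pullback.fst i q.toHom, ?_⟩
    rw [Category.assoc, Category.assoc, pullback.condition, IsIso.inv_hom_id_assoc, hα, ← Category.assoc,
      ← Functor.map_comp, FieldPt.toHom_ofPt, ← Category.assoc, ← Functor.map_comp]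
    congr 2
    exact Over.OverMorphism.ext hm
  choose l hl using hlift
  haveI : Sheaf.IsLocallySurjective (pullback.snd i f) := by
    refine isLocallySurjective_of_point_lifts fun T g t => ?_
    obtain ⟨w, hw⟩ := surjective_ofPt_of_repWith bs (Points.ofPt g t)
    let j : Over.mk ((O w).ι ≫ W.hom) ⟶ W := Over.homMk (O w).ι rfl
    obtain ⟨V', e, c, sq⟩ := exists_isPullback_yon hY.diag ((yon S).map j ≫ b) g
    haveI : Etale c.left := (repWith_comp ((repWith_yon_map_iff _ _).2 (inferInstanceAs (Etale (O w).ι))) be).2 _ _ _ sq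
    obtain ⟨z, -, hz⟩ := (ofPt_eq_ofPt_iff sq ⟨w, hwO w⟩ t).1 (by rw [ofPt_map_comp]; exact hw)
    refine ⟨V', c, pullback.lift ((yon S).map e ≫ l w) ((yon S).map c ≫ g) ?_, inferInstance, inferInstance, ⟨z, hz⟩,
      pullback.lift_snd _ _ _⟩
    rw [Category.assoc, hl, ← sq.w]
    simp only [Category.assoc]
    rfl
  haveI : Epi (pullback.snd i f) := Sheaf.epi_of_isLocallySurjective _
  haveI := isIso_of_mono_of_epi (pullback.snd i f)
  exact ⟨inv (pullback.snd i f) ≫ pullback.fst i f, by rw [Category.assoc, pullback.condition, IsIso.inv_hom_id_assoc]⟩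

end GrothLib.AlgSp
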