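import Groth.Agent.Lib.AlgSp.FibreDimBC
import Groth.Agent.Lib.AlgSp.DecentTop
import Groth.Agent.Lib.AlgSp.Dim
import Groth.Agent.Lib.CurvePoints.Basic

/-!
# The dimension of a fibre over a field point

`topologicalKrullDim_le_iff_localDim`, `fibreDimAt_eq_localDim_of_subsingleton`, `dim_fieldFibre_le_iff`,
`dim_fieldFibre_eq_bot_iff`.
-/

universe u

open CategoryTheory CategoryTheory.Limits AlgebraicGeometry TopologicalSpace

namespace GrothLib.AlgSp

open _root_.AlgSp

theorem topologicalKrullDim_eq_iSup_stalk (Z : Scheme.{u}) :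
    topologicalKrullDim ↥Z = ⨆ z : Z, ringKrullDim (Z.presheaf.stalk z) := by
  rw [← CurvePoints.krullDim_points_eq Z]
  exact (Order.krullDim_eq_iSup_coheight (α := Z)).trans
    (iSup_congr fun z => (ringKrullDim_stalk_eq_coheight z).symm)

theorem ringKrullDim_stalk_le_localDim {Z : Scheme.{u}} (z : Z) :
    ringKrullDim (Z.presheaf.stalk z) ≤ FlatMor.localDim ↥Z z := by
  refine le_iInf fun W => ?_
  obtain ⟨W, hW⟩ := W
  have e : ringKrullDim (Z.presheaf.stalk z) = ringKrullDim (((W : Z.Opens) : Scheme.{u}).presheaf.stalk ⟨z, hW⟩) :=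
    (ringKrullDim_eq_of_ringEquiv (Scheme.Opens.stalkIso (X := Z) W ⟨z, hW⟩).commRingCatIsoToRingEquiv).symm
  rw [e]
  show _ ≤ topologicalKrullDim ((W : Z.Opens) : Scheme.{u})
  rw [topologicalKrullDim_eq_iSup_stalk]
  exact le_iSup (fun y : ((W : Z.Opens) : Scheme.{u}) => ringKrullDim (((W : Z.Opens) : Scheme.{u}).presheaf.stalk y)) _

theorem localDim_le_topologicalKrullDim {Z : Type*} [TopologicalSpace Z] (z : Z) :
    FlatMor.localDim Z z ≤ topologicalKrullDim Z := by
  refine iInf_le_of_le ⟨⊤, trivial⟩ ?_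
  exact Topology.IsInducing.topologicalKrullDim_le ⟨rfl⟩

theorem topologicalKrullDim_le_iff_localDim {Z : Scheme.{u}} (d : WithBot ℕ∞) :
    topologicalKrullDim ↥Z ≤ d ↔ ∀ z : Z, FlatMor.localDim ↥Z z ≤ d := by
  refine ⟨fun h z => (localDim_le_topologicalKrullDim z).trans h, fun h => ?_⟩
  rw [topologicalKrullDim_eq_iSup_stalk]
  exact iSup_le fun z => (ringKrullDim_stalk_le_localDim z).trans (h z)

/-- Over a one-point base the fibre dimension is the local dimension. -/
theorem fibreDimAt_eq_localDim_of_subsingleton {U T : Scheme.{u}} [Subsingleton T] (h : U ⟶ T) (u : U) :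
    FlatMor.fibreDimAt h u = FlatMor.localDim ↥U u := by
  have hsurj : Function.Surjective (h.fiberι (h u)) := fun z => by
    have : z ∈ Set.range (h.fiberι (h u)) := by
      rw [Scheme.Hom.range_fiberι]; exact Subsingleton.elim _ _
    exact this
  have hhomeo : IsHomeomorph (h.fiberι (h u)) :=
    isHomeomorph_iff_isEmbedding_surjective.2 ⟨(h.fiberι (h u)).isEmbedding, hsurj⟩
  have key := GrothLib.AlgSp.TopDim.localDim_eq_of_isOpenMap (f := h.fiberι (h u)) hhomeo.continuous hhomeo.isOpenMap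
    (fun a y hy => by
      obtain ⟨b, rfl⟩ := hsurj y
      exact ⟨b, ((h.fiberι (h u)).isEmbedding.isInducing.specializes_iff).1 hy, rfl⟩)
    (fun a b _ e => hhomeo.injective e) (h.asFiber u)
  rw [Scheme.Hom.fiberι_asFiber] at key
  exact key.symm

variable {S : Scheme.{u}} {X Y : Sp S} {f : X ⟶ Y}

/-- Points of a field fibre read the fibre dimension of the morphism. -/
theorem fibreDim_fieldFibre_iff (hX : IsAlgSpace X) (hY : IsAlgSpace Y) (hf : LocP @LocallyOfFiniteType f)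
    (k : FieldPt Y) {Xk : Sp S} {fst : Xk ⟶ X} {snd : Xk ⟶ (yon S).obj k.pt}
    (sq : IsPullback fst snd f k.toHom) {U : Over S} {a : (yon S).obj U ⟶ Xk} (ha : RepWith @Etale a)
    (u : ↥U.left) (Q : WithBot ℕ∞ → Prop) :
    HasAtMor (fun _ _ h u => Q (FlatMor.fibreDimAt h u)) f (Points.map fst (Points.ofPt a u)) ↔
      Q (FlatMor.localDim ↥U.left u) := by
  have hXk : IsAlgSpace Xk := isAlgSpace_pullback hY.diag hX (IsAlgSpace.yon_obj _) sq
  obtain ⟨c, hc⟩ := (yon S).map_surjective (a ≫ snd)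
  haveI : Subsingleton ↥k.pt.left := inferInstanceAs (Subsingleton ↥(Spec (CommRingCat.of k.K)))
  have key : ∀ Q : WithBot ℕ∞ → Prop, HasAtMor (fun _ _ h u => Q (FlatMor.fibreDimAt h u)) snd (Points.ofPt a u) ↔
      Q (FlatMor.localDim ↥U.left u) := fun Q => by
    rw [hasAtMor_fibreDim_iff hXk (IsAlgSpace.yon_obj _) ha (repWith_iso (𝟙 _)) (by rw [hc, Category.comp_id]) u Q,
      fibreDimAt_eq_localDim_of_subsingleton]
  rw [← key Q]
  obtain ⟨U₁, V₁, U', V', a₁, b, a', b', h, h', p, q, u', h₁, hb, ha', hb', c₁, c', cg, hsq, e⟩ :=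
    exists_bc_charts hX hY (IsAlgSpace.yon_obj _) sq (Points.ofPt a u)
  haveI : LocallyOfFiniteType h.left := hf a₁ b h h₁ hb c₁
  rw [← e, Points.map_ofPt, cg, ofPt_map_comp,
    hasAtMor_fibreDim_iff hXk (IsAlgSpace.yon_obj _) ha' hb' c' u' Q,
    hasAtMor_fibreDim_iff hX hY h₁ hb c₁ _ Q, fibreDimAt_of_isPullback hsq u']

theorem dim_fieldFibre_le_iff (hX : IsAlgSpace X) (hY : IsAlgSpace Y) (hf : LocP @LocallyOfFiniteType f)
    (k : FieldPt Y) {Xk : Sp S} {fst : Xk ⟶ X} {snd : Xk ⟶ (yon S).obj k.pt}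
    (sq : IsPullback fst snd f k.toHom) (d : WithBot ℕ∞) :
    _root_.AlgSp.dim Xk ≤ d ↔ ∀ x : Points X, Points.map f x = Points.mk k →
      HasAtMor (fun _ _ h u => FlatMor.fibreDimAt h u ≤ d) f x := by
  have hXk : IsAlgSpace Xk := isAlgSpace_pullback hY.diag hX (IsAlgSpace.yon_obj _) sq
  obtain ⟨U, a, ha, hs⟩ := hXk.atlas
  rw [dim_eq_of_atlas hXk ha hs, topologicalKrullDim_le_iff_localDim]
  constructor
  · intro h x hx
    obtain ⟨z, rfl, -⟩ := exists_of_isPullback sq (x := x) (y := Points.ofScheme k.pt (IsLocalRing.closedPoint k.K))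
      (by rw [hx, ← Points.ofPt_eq_map_ofScheme, Points.ofPt_toHom])
    obtain ⟨u, rfl⟩ := surjective_ofPt_of_repWith hs z
    exact (fibreDim_fieldFibre_iff hX hY hf k sq ha u (fun e => e ≤ d)).2 (h u)
  · intro h u
    refine (fibreDim_fieldFibre_iff hX hY hf k sq ha u (fun e => e ≤ d)).1 (h _ ?_)
    rw [← Points.map_comp, sq.w, Points.map_comp]
    obtain ⟨t, ht⟩ := (Points.schemeEquiv k.pt).surjective (Points.map snd (Points.ofPt a u))
    haveI : Subsingleton ↥k.pt.left := inferInstanceAs (Subsingleton ↥(Spec (CommRingCat.of k.K)))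
    rw [← ht, show t = IsLocalRing.closedPoint k.K from Subsingleton.elim _ _]
    exact (Points.ofPt_eq_map_ofScheme k.toHom _).symm.trans (Points.ofPt_toHom k _)

theorem dim_fieldFibre_eq_bot_iff (hX : IsAlgSpace X) (hY : IsAlgSpace Y) (hf : LocP @LocallyOfFiniteType f)
    (k : FieldPt Y) {Xk : Sp S} {fst : Xk ⟶ X} {snd : Xk ⟶ (yon S).obj k.pt}
    (sq : IsPullback fst snd f k.toHom) :
    _root_.AlgSp.dim Xk = ⊥ ↔ Points.mk k ∉ Set.range (Points.map f) := by
  rw [← le_bot_iff, dim_fieldFibre_le_iff hX hY hf k sq]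
  constructor
  · rintro h ⟨x, hx⟩
    obtain ⟨U, V, a, b, g, u, ha, hb, c, rfl, hu⟩ := h x hx
    have hne : Nonempty ↥(g.left.fiber (g.left u)) := ⟨g.left.asFiber u⟩
    have h0 : (0 : WithBot ℕ∞) ≤ FlatMor.fibreDimAt g.left u := by
      refine le_trans ?_ (ringKrullDim_stalk_le_localDim (g.left.asFiber u))
      exact ringKrullDim_nonneg_of_nontrivial
    exact absurd (h0.trans hu) (by simp)
  · exact fun h x hx => absurd ⟨x, hx⟩ h

end GrothLib.AlgSp
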