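import Groth.Agent.Lib.AlgSp.LqfPoint
import Groth.Agent.Lib.AlgSp.FieldFibreDim
import Groth.Agent.Lib.AlgSp.PointProps
import Groth.Agent.Lib.AlgSp.DecentTop
import Groth.Agent.Lib.AlgSp.DimFormulaSpace
import Groth.Agent.Lib.AlgSp.ClosedSub
import Groth.Agent.Lib.AlgSp.LocP
import Groth.Agent.S10390
import Mathlib.Topology.KrullDimension

/-!
# Isolated points of fibres
-/

set_option backward.isDefEq.respectTransparency false

universe u

open CategoryTheory CategoryTheory.Limits AlgebraicGeometry TopologicalSpace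

namespace GrothLib.AlgSp.FibreIsolated

open _root_.AlgSp

/-- A point of stalk dimension zero has no proper generization. -/
theorem eq_of_specializes_of_dim_zero {W : Scheme.{u}} {w g : W} (h : ringKrullDim (W.presheaf.stalk w) = 0)
    (hg : g ⤳ w) : g = w := by
  rw [ringKrullDim_stalk_eq_coheight, show (0 : WithBot ℕ∞) = ((0 : ℕ∞) : WithBot ℕ∞) from rfl,
    WithBot.coe_inj, Order.coheight_eq_zero] at h
  exact (hg.antisymm (Scheme.le_iff_specializes.1 (h (Scheme.le_iff_specializes.2 hg)))).eq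

theorem isOpen_singleton_of_isClosed {W : Scheme.{u}} [IsLocallyNoetherian W] {w : W} (hc : IsClosed ({w} : Set W))
    (h : ringKrullDim (W.presheaf.stalk w) = 0) : IsOpen ({w} : Set W) := by
  obtain ⟨O, hO, hwO, -⟩ := exists_isAffineOpen_mem_and_subset (U := (⊤ : W.Opens)) (x := w) trivial
  haveI : IsAffine (O : Scheme.{u}) := hO
  haveI : IsNoetherian (O : Scheme.{u}) := {}
  let w' : O.toScheme := ⟨w, hwO⟩
  let N : Set O.toScheme := ⋃ C ∈ {C ∈ irreducibleComponents O.toScheme | w' ∉ C}, C
  have hN : IsClosed N :=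
    (NoetherianSpace.finite_irreducibleComponents.subset fun C hC => hC.1).isClosed_biUnion
      fun C hC => isClosed_of_mem_irreducibleComponents C hC.1
  have e : Nᶜ = {w'} := by
    refine Set.ext fun y => ⟨fun hy => ?_, ?_⟩
    · have hC := irreducibleComponent_mem_irreducibleComponents y
      have hwC : w' ∈ irreducibleComponent y := by
        by_contra hne
        exact hy (Set.mem_biUnion (show irreducibleComponent y ∈ {C ∈ irreducibleComponents O.toScheme | w' ∉ C}
          from ⟨hC, hne⟩) mem_irreducibleComponent)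
      obtain ⟨g, hg⟩ := QuasiSober.sober hC.1 (isClosed_of_mem_irreducibleComponents _ hC)
      have h1 : g = w' := Subtype.ext (eq_of_specializes_of_dim_zero h
        (hg.specializes hwC |>.map continuous_subtype_val))
      have h2 : g.1 ⤳ y.1 := (hg.specializes mem_irreducibleComponent).map continuous_subtype_val
      have h3 : y.1 ∈ closure {g.1} := specializes_iff_mem_closure.1 h2
      rw [h1, hc.closure_eq] at h3
      exact Subtype.ext h3
    · rintro rfl
      simp only [N, Set.mem_compl_iff, Set.mem_iUnion, not_exists]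
      exact fun C hC => hC.2
  have := O.2.isOpenMap_subtype_val _ (e ▸ hN.isOpen_compl)
  rwa [Set.image_singleton] at this

variable {S : Scheme.{u}} {P : Sp S} {k : Type u} [Field k] {str : Spec (CommRingCat.of k) ⟶ S}

theorem exists_chart (hP : IsAlgSpace P) {f : P ⟶ (yon S).obj (Over.mk str)}
    (hf : LocP @LocallyOfFiniteType f) :
    ∃ (W : Over S) (a : (yon S).obj W ⟶ P), RepWith @Etale a ∧ RepWith @Surjective a ∧
      IsLocallyNoetherian W.left ∧ JacobsonSpace W.left := by
  obtain ⟨W, a, ha, has⟩ := hP.atlas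
  obtain ⟨h, hh⟩ := (yon S).map_surjective (a ≫ f)
  let g : W.left ⟶ Spec (CommRingCat.of k) := h.left
  haveI : LocallyOfFiniteType g := hf a (𝟙 _) h ha (repWith_id _ _) (by rw [Category.comp_id, hh])
  haveI : IsLocallyNoetherian W.left := LocallyOfFiniteType.isLocallyNoetherian g
  exact ⟨W, a, ha, has, inferInstance, LocallyOfFiniteType.jacobsonSpace g⟩

variable (hP : IsAlgSpace P) {W : Over S} {a : (yon S).obj W ⟶ P} (ha : RepWith @Etale a)
include hP ha

theorem dim_stalk_iff (w : ↥W.left) (d : WithBot ℕ∞) :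
    HasAt (fun U u => ringKrullDim ↥(U.presheaf.stalk u) = d) P (Points.ofPt a w) ↔
      ringKrullDim ↥(W.left.presheaf.stalk w) = d :=
  hasAt_iff hP (fun A B e he b => by
    haveI : Etale e := he
    rw [ringKrullDim_stalk_eq_of_etale e b]) ha w

/-- A point all of whose generizations in the chart have the same image has stalk dimension zero. -/
theorem dim_zero_of_gen (w : ↥W.left) (h : ∀ g, g ⤳ w → Points.ofPt a g = Points.ofPt a w) :
    ringKrullDim ↥(W.left.presheaf.stalk w) = 0 := by
  have hC := irreducibleComponent_mem_irreducibleComponents w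
  obtain ⟨g, hg⟩ := QuasiSober.sober hC.1 (isClosed_of_mem_irreducibleComponents _ hC)
  have hg0 : ringKrullDim ↥(W.left.presheaf.stalk g) = 0 := ringKrullDim_stalk_eq_zero_of_component (hg.def.symm ▸ hC)
  have := (dim_stalk_iff hP ha g 0).2 hg0
  rw [h g (hg.specializes mem_irreducibleComponent)] at this
  exact (dim_stalk_iff hP ha w 0).1 this

theorem isolated_of_isOpen [JacobsonSpace W.left] [IsLocallyNoetherian W.left] (w : ↥W.left)
    (h : IsOpen ({Points.ofPt a w} : Set (Points P))) :
    IsClosed ({w} : Set W.left) ∧ IsOpen ({w} : Set W.left) := by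
  let O : Set W.left := Points.ofPt a ⁻¹' {Points.ofPt a w}
  have hO : IsOpen O := h.preimage (Points.continuous_ofPt a)
  have h0 : ∀ y ∈ O, ringKrullDim ↥(W.left.presheaf.stalk y) = 0 := fun y hy =>
    dim_zero_of_gen hP ha y fun g hg =>
      (show Points.ofPt a g = Points.ofPt a w from hg.mem_open hO hy).trans
        (show Points.ofPt a y = Points.ofPt a w from hy).symm
  have e : ({w} : Set W.left) = O ∩ closure {w} := by
    refine Set.ext fun y => ⟨?_, fun ⟨hy, hy'⟩ => ?_⟩
    · rintro rfl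
      exact ⟨rfl, subset_closure rfl⟩
    · exact (eq_of_specializes_of_dim_zero (h0 y hy) (specializes_iff_mem_closure.2 hy')).symm
  have hl : IsLocallyClosed ({w} : Set W.left) := by
    rw [e]
    exact ⟨O, closure {w}, hO, isClosed_closure, rfl⟩
  obtain ⟨c, hc, hcc⟩ := nonempty_inter_closedPoints (Z := ({w} : Set W.left)) ⟨w, rfl⟩ hl
  have hwc : IsClosed ({w} : Set W.left) := by
    rw [Set.mem_singleton_iff] at hc
    subst hc
    exact hcc
  exact ⟨hwc, isOpen_singleton_of_isClosed hwc (h0 w rfl)⟩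

theorem isOpen_of_isolated (w : ↥W.left) (h : IsOpen ({w} : Set W.left)) :
    IsOpen ({Points.ofPt a w} : Set (Points P)) := by
  have := isOpenMap_ofPt_of_etale ha _ h
  rwa [Set.image_singleton] at this

theorem isClosed_of_isOpen [JacobsonSpace W.left] [IsLocallyNoetherian W.left]
    (has : RepWith @Surjective a) (w : ↥W.left)
    (h : IsOpen ({Points.ofPt a w} : Set (Points P))) : IsClosed ({Points.ofPt a w} : Set (Points P)) := by
  rw [← isOpen_compl_iff]
  let O : Set W.left := Points.ofPt a ⁻¹' {Points.ofPt a w}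
  suffices hO : IsOpen Oᶜ by
    have := isOpenMap_ofPt_of_etale ha _ hO
    rwa [show Oᶜ = Points.ofPt a ⁻¹' {Points.ofPt a w}ᶜ from rfl,
      Set.image_preimage_eq _ (surjective_ofPt_of_repWith has)] at this
  refine isOpen_iff_forall_mem_open.2 fun y hy => ?_
  obtain ⟨V, hV, hyV, -⟩ := exists_isAffineOpen_mem_and_subset (U := (⊤ : W.left.Opens)) (x := y) trivial
  haveI : IsAffine (V : Scheme.{u}) := hV
  haveI : IsNoetherian (V : Scheme.{u}) := {}
  have hz : ∀ z ∈ O, IsClosed ({z} : Set W.left) ∧ IsOpen ({z} : Set W.left) := fun z hz =>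
    isolated_of_isOpen hP ha z (by rw [show Points.ofPt a z = Points.ofPt a w from hz]; exact h)
  have hfin : (Subtype.val ⁻¹' O : Set V.toScheme).Finite := by
    haveI : NoetherianSpace (Subtype.val ⁻¹' O : Set V.toScheme) := inferInstance
    haveI : DiscreteTopology (Subtype.val ⁻¹' O : Set V.toScheme) := discreteTopology_iff_isOpen_singleton.2 fun z => by
      have := ((hz z.1.1 z.2).2.preimage (continuous_subtype_val (p := fun x => x ∈ (V : Set W.left)))).preimage
        (continuous_subtype_val (p := fun x => x ∈ (Subtype.val ⁻¹' O : Set V.toScheme)))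
      convert this using 1
      ext z'
      simp only [Set.mem_singleton_iff, Set.mem_preimage]
      exact ⟨fun e => e ▸ rfl, fun e => Subtype.ext (Subtype.ext e)⟩
    exact Set.finite_coe_iff.1 (finite_of_compact_of_discrete)
  have hcl : IsClosed (Subtype.val '' (Subtype.val ⁻¹' O : Set V.toScheme) : Set W.left) := by
    rw [← Set.biUnion_of_singleton (Subtype.val '' (Subtype.val ⁻¹' O : Set V.toScheme))]
    refine (hfin.image _).isClosed_biUnion ?_
    rintro _ ⟨z, hzO, rfl⟩
    exact (hz _ hzO).1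
  refine ⟨(V : Set W.left) ∩ (Subtype.val '' (Subtype.val ⁻¹' O : Set V.toScheme))ᶜ, ?_,
    V.2.inter hcl.isOpen_compl, hyV, ?_⟩
  · rintro z ⟨hzV, hzO⟩ hz'
    exact hzO ⟨⟨z, hzV⟩, hz', rfl⟩
  · rintro ⟨z, hzO, rfl⟩
    exact hy hzO

theorem isOpen_of_isClosed [IsLocallyNoetherian W.left] (w : ↥W.left)
    (hc : IsClosed ({Points.ofPt a w} : Set (Points P)))
    (hg : ∀ x : Points P, x ⤳ Points.ofPt a w → x = Points.ofPt a w) :
    IsOpen ({Points.ofPt a w} : Set (Points P)) := by
  refine isOpen_of_isolated hP ha w (isOpen_singleton_of_isClosed ?_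
    (dim_zero_of_gen hP ha w fun g hgw => hg _ (hgw.map (Points.continuous_ofPt a))))
  refine isClosed_of_closure_subset fun y hy => ?_
  have hsp : w ⤳ y := specializes_iff_mem_closure.2 hy
  have e : Points.ofPt a y = Points.ofPt a w :=
    (hsp.map (Points.continuous_ofPt a)).mem_closed hc rfl
  exact (eq_of_specializes_of_dim_zero (dim_zero_of_gen hP ha y fun g hgy =>
    (hg _ (e ▸ hgy.map (Points.continuous_ofPt a))).trans e.symm) hsp).symm

omit hP ha in
theorem isOpen_iff_closed_generic (hP : IsAlgSpace P) {f : P ⟶ (yon S).obj (Over.mk str)}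
    (hf : LocP @LocallyOfFiniteType f) (x : Points P) :
    IsOpen ({x} : Set (Points P)) ↔ IsClosed ({x} : Set (Points P)) ∧ ∀ x', x' ⤳ x → x' = x := by
  obtain ⟨W, a, ha, has, _, _⟩ := exists_chart hP hf
  obtain ⟨w, rfl⟩ := surjective_ofPt_of_repWith has x
  exact ⟨fun h => ⟨isClosed_of_isOpen hP ha has w h, fun x' hx' => hx'.mem_open h rfl⟩,
    fun h => isOpen_of_isClosed hP ha w h.1 h.2⟩

omit hP ha in
theorem isOpen_iff_localDim (hP : IsAlgSpace P) {f : P ⟶ (yon S).obj (Over.mk str)}
    (hf : LocP @LocallyOfFiniteType f) (x : Points P) :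
    IsOpen ({x} : Set (Points P)) ↔ HasAt (fun U u => FlatMor.localDim ↥U u = 0) P x := by
  constructor
  · intro h
    obtain ⟨W, a, ha, has, _, _⟩ := exists_chart hP hf
    obtain ⟨w, rfl⟩ := surjective_ofPt_of_repWith has x
    exact ⟨W, a, w, ha, rfl, le_antisymm
      ((isOpen_singleton_iff_localDim w).1 (isolated_of_isOpen hP ha w h).2) (localDim_nonneg w)⟩
  · rintro ⟨U, a, u, ha, rfl, hu⟩
    obtain ⟨h, hh⟩ := (yon S).map_surjective (a ≫ f)
    let g : U.left ⟶ Spec (CommRingCat.of k) := h.left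
    haveI : LocallyOfFiniteType g := hf a (𝟙 _) h ha (repWith_id _ _) (by rw [Category.comp_id, hh])
    haveI : IsLocallyNoetherian U.left := LocallyOfFiniteType.isLocallyNoetherian g
    exact isOpen_of_isolated hP ha u ((isOpen_singleton_iff_localDim u).2 hu.le)

omit hP ha in
theorem localDim_points_iff (hP : IsAlgSpace P) (hd : IsDecent P) {f : P ⟶ (yon S).obj (Over.mk str)}
    (hf : LocP @LocallyOfFiniteType f) (x : Points P) :
    FlatMor.localDim (Points P) x = 0 ↔ IsOpen ({x} : Set (Points P)) := by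
  obtain ⟨W, a, ha, has, _, _⟩ := exists_chart hP hf
  obtain ⟨w, rfl⟩ := surjective_ofPt_of_repWith has x
  rw [← localDim_chart hP hd ha w]
  refine ⟨fun h => isOpen_of_isolated hP ha w ((isOpen_singleton_iff_localDim w).2 h.le), fun h => ?_⟩
  exact le_antisymm ((isOpen_singleton_iff_localDim w).1 (isolated_of_isOpen hP ha w h).2) (localDim_nonneg w)

section Fibres

variable {X Y Xk : Space S} {f : X ⟶ Y} {r : FieldPt Y.obj} {fst : Xk ⟶ X} {snd : Xk.obj ⟶ (yon S).obj r.pt}
  (hf : LocP @LocallyOfFiniteType f.hom) (hsq : IsPullback fst.hom snd f.hom r.toHom)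

omit hP ha

include hf hsq in
theorem lft_snd : LocP @LocallyOfFiniteType snd :=
  EtLocal.lft.locP_of_isPullback X.property Y.property (IsAlgSpace.yon_obj _) hsq hf

include hf hsq in
theorem localDim_iff_lqf (xt : Points Xk.obj) :
    HasAt (fun U u => FlatMor.localDim ↥U u = 0) Xk.obj xt ↔
      HasAtMor (fun U _ h u => ∃ W : U.Opens, u ∈ W ∧ LocallyQuasiFinite (W.ι ≫ h) ∧ LocallyOfFiniteType (W.ι ≫ h))
        f.hom (Points.map fst.hom xt) := by
  constructor
  · rintro ⟨U, a, u, ha, rfl, hu⟩
    exact (hasAtMor_lqf_iff X.property Y.property hf _).2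
      ((fibreDim_fieldFibre_iff X.property Y.property hf r hsq ha u (fun d => d ≤ 0)).2 hu.le)
  · intro h
    obtain ⟨U, a, ha, has⟩ := Xk.property.atlas
    obtain ⟨u, rfl⟩ := surjective_ofPt_of_repWith has xt
    exact ⟨U, a, u, ha, rfl, le_antisymm
      ((fibreDim_fieldFibre_iff X.property Y.property hf r hsq ha u (fun d => d ≤ 0)).1
        ((hasAtMor_lqf_iff X.property Y.property hf _).1 h)) (localDim_nonneg u)⟩

include hf hsq in
theorem isOpen_iff_lqf (xt : Points Xk.obj) :
    IsOpen ({xt} : Set (Points Xk.obj)) ↔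
      HasAtMor (fun U _ h u => ∃ W : U.Opens, u ∈ W ∧ LocallyQuasiFinite (W.ι ≫ h) ∧ LocallyOfFiniteType (W.ι ≫ h))
        f.hom (Points.map fst.hom xt) :=
  (isOpen_iff_localDim Xk.property (lft_snd hf hsq) xt).trans (localDim_iff_lqf hf hsq xt)

/-- Over a point of a decent space the fibre is the space of points of the fibre at a monomorphism. -/
theorem exists_mono_fibre (hd : IsDecent Y.obj) (f : X ⟶ Y) (y : Points Y.obj) :
    ∃ (q : FieldPt Y.obj) (Xq : Space S) (fq : Xq ⟶ X) (sq : Xq.obj ⟶ (yon S).obj q.pt)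
      (h : Points Xq.obj ≃ₜ ↥(Points.map f.hom ⁻¹' {y})),
      Points.mk q = y ∧ IsPullback fq.hom sq f.hom q.toHom ∧ (∀ z, (h z).1 = Points.map fq.hom z) ∧
        (IsDecent X.obj → IsDecent Xq.obj) := by
  obtain ⟨q, rfl, hm, hq⟩ := hd y
  let Xq : Space S := ⟨pullback f.hom q.toHom, isAlgSpace_pullback' Y.property X.property (IsAlgSpace.yon_obj _) _ _⟩
  let fq : Xq ⟶ X := ObjectProperty.homMk (pullback.fst f.hom q.toHom)
  have hsq : IsPullback fq.hom (pullback.snd f.hom q.toHom) f.hom q.toHom := IsPullback.of_hasPullback _ _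
  obtain ⟨he, hr⟩ := Groth.Agent.S10390.result f q hm hq Xq fq _ hsq
  exact ⟨q, Xq, fq, _, he.toHomeomorph.trans (Homeomorph.setCongr hr), rfl, hsq, fun z => rfl,
    fun hX => isDecent_of_representable (repWith_of_isPullback hsq.flip hq).1 hX⟩

include hf hsq in
theorem isOpen_fibre_iff (hd : IsDecent Y.obj) (x : ↥(Points.map f.hom ⁻¹' {Points.mk r})) (xt : Points Xk.obj)
    (e : Points.map fst.hom xt = x.1) :
    IsOpen ({x} : Set ↥(Points.map f.hom ⁻¹' {Points.mk r})) ↔ IsOpen ({xt} : Set (Points Xk.obj)) := by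
  obtain ⟨q, Xq, fq, sq, h, hq, hsq', hh, -⟩ := exists_mono_fibre hd f (Points.mk r)
  rw [isOpen_iff_lqf hf hsq xt, e, ← h.apply_symm_apply x, hh, ← isOpen_iff_lqf hf hsq',
    ← Set.image_singleton (f := h), h.isOpen_image]

theorem localDim_homeomorph {A B : Type*} [TopologicalSpace A] [TopologicalSpace B] [QuasiSober A] [T0Space A]
    (h : A ≃ₜ B) (a : A) : FlatMor.localDim B (h a) = FlatMor.localDim A a := by
  haveI : QuasiSober B := h.symm.isClosedEmbedding.quasiSober
  haveI : T0Space B := h.symm.isEmbedding.t0Space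
  exact TopDim.localDim_eq_of_isOpenMap h.continuous h.isOpenMap
    (fun x y hy => ⟨h.symm y, by simpa using hy.map h.symm.continuous, h.apply_symm_apply y⟩)
    (fun x y _ e => h.injective e) a

include hf in
theorem localDim_fibre_iff (hd : IsDecent Y.obj) (hdX : IsDecent X.obj) (y : Points Y.obj)
    (x : ↥(Points.map f.hom ⁻¹' {y})) :
    FlatMor.localDim ↥(Points.map f.hom ⁻¹' {y}) x = 0 ↔ IsOpen ({x} : Set ↥(Points.map f.hom ⁻¹' {y})) := by
  obtain ⟨q, Xq, fq, sq, h, hq, hsq', hh, hdec⟩ := exists_mono_fibre hd f y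
  haveI := quasiSober_of_isDecent Xq.property (hdec hdX)
  haveI := t0Space_of_isDecent Xq.property (hdec hdX)
  rw [← h.apply_symm_apply x, localDim_homeomorph h, localDim_points_iff Xq.property (hdec hdX) (lft_snd hf hsq'),
    ← Set.image_singleton (f := h), h.isOpen_image]

include hf hsq in
theorem discrete_iff_forall :
    DiscreteTopology (Points Xk.obj) ↔ ∀ x, Points.map f.hom x = Points.mk r →
      HasAtMor (fun U _ h u => ∃ W : U.Opens, u ∈ W ∧ LocallyQuasiFinite (W.ι ≫ h) ∧ LocallyOfFiniteType (W.ι ≫ h))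
        f.hom x := by
  rw [discreteTopology_iff_isOpen_singleton]
  constructor
  · intro h x hx
    obtain ⟨z, rfl, -⟩ := exists_of_isPullback hsq (x := x) (y := Points.ofScheme r.pt (IsLocalRing.closedPoint r.K))
      (by rw [hx, ← Points.ofPt_eq_map_ofScheme, Points.ofPt_toHom])
    exact (isOpen_iff_lqf hf hsq z).1 (h z)
  · intro h z
    refine (isOpen_iff_lqf hf hsq z).2 (h _ ?_)
    rw [← Points.map_comp, hsq.w, Points.map_comp]
    obtain ⟨t, ht⟩ := (Points.schemeEquiv r.pt).surjective (Points.map snd z)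
    haveI : Subsingleton ↥r.pt.left := inferInstanceAs (Subsingleton ↥(Spec (CommRingCat.of r.K)))
    rw [← ht, show t = IsLocalRing.closedPoint r.K from Subsingleton.elim _ _]
    exact (Points.ofPt_eq_map_ofScheme r.toHom _).symm.trans (Points.ofPt_toHom r _)

include hf hsq in
theorem dim_eq_zero_iff (hy : Points.mk r ∈ Set.range (Points.map f.hom)) :
    _root_.AlgSp.dim Xk.obj = 0 ↔ ∀ x, Points.map f.hom x = Points.mk r →
      HasAtMor (fun U _ h u => ∃ W : U.Opens, u ∈ W ∧ LocallyQuasiFinite (W.ι ≫ h) ∧ LocallyOfFiniteType (W.ι ≫ h))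
        f.hom x := by
  have hne : _root_.AlgSp.dim Xk.obj ≠ ⊥ := fun h =>
    (dim_fieldFibre_eq_bot_iff X.property Y.property hf r hsq).1 h hy
  have h0 : (0 : WithBot ℕ∞) ≤ _root_.AlgSp.dim Xk.obj := by
    obtain ⟨d, hd⟩ := WithBot.ne_bot_iff_exists.1 hne
    rw [← hd]
    exact WithBot.coe_le_coe.2 zero_le
  rw [le_antisymm_iff, and_iff_left h0, dim_fieldFibre_le_iff X.property Y.property hf r hsq]
  exact forall₂_congr fun x _ => (hasAtMor_lqf_iff X.property Y.property hf x).symm

end Fibres

omit hP ha in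
theorem discrete_of_finite (hP : IsAlgSpace P) (hd : IsDecent P) {f : P ⟶ (yon S).obj (Over.mk str)}
    (hf : LocP @LocallyOfFiniteType f) [Finite (Points P)] : DiscreteTopology (Points P) := by
  rw [discreteTopology_iff_isOpen_singleton]
  intro x
  obtain ⟨U, a, ha, has⟩ := hP.atlas
  obtain ⟨u, rfl⟩ := surjective_ofPt_of_repWith has x
  obtain ⟨O, huO, hO, b, hb, hv⟩ := exists_affine_subchart ha u
  let V : Over _ := Over.mk (O.ι ≫ U.hom)
  have hV : IsAffine V.left := hO
  let v : ↥V.left := (⟨u, huO⟩ : O.toScheme)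
  rw [show Points.ofPt a u = Points.ofPt b v from (hv ⟨u, huO⟩).symm]
  haveI : Finite ↥V.left := by
    refine Set.finite_univ_iff.1 (((Set.finite_univ (α := Points P)).biUnion fun z _ =>
      finiteFibres_of_isDecent hP hd z V b hV hb).subset fun w _ => ?_)
    exact Set.mem_biUnion (Set.mem_univ (Points.ofPt b w)) (Set.mem_singleton _)
  obtain ⟨h, hh⟩ := (yon S).map_surjective (b ≫ f)
  let g : V.left ⟶ Spec (CommRingCat.of k) := h.left
  haveI : LocallyOfFiniteType g := hf b (𝟙 _) h hb (repWith_id _ _) (by rw [Category.comp_id, hh])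
  haveI : JacobsonSpace V.left := LocallyOfFiniteType.jacobsonSpace g
  exact isOpen_of_isolated hP hb v (isOpen_discrete _)

end GrothLib.AlgSp.FibreIsolated
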