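import Groth.Prelude.Def_AlgSpDec
import Groth.Agent.Lib.AlgSp.SingletonSpace
import Groth.Agent.Lib.AlgSp.EtaleLocallyProps
import Groth.Agent.Lib.AlgSp.ValDVRCriteria
import Groth.Agent.Lib.AlgSp.CartierDescent
import Groth.Agent.Lib.Hensel.Noetherian

/-!
# Locally noetherian fibres and field extensions
-/

universe u

open CategoryTheory CategoryTheory.Limits AlgebraicGeometry

namespace GrothLib.AlgSp

open _root_.AlgSp

variable {S : Scheme.{u}}

theorem isLocallyNoetherian_of_affine_ff {A B : Scheme.{u}} (k : A ⟶ B) [IsAffineHom k] [Flat k] [Surjective k]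
    (hA : IsLocallyNoetherian A) : IsLocallyNoetherian B := by
  refine ⟨fun V => ?_⟩
  haveI : IsAffine (V.1 : Scheme.{u}) := V.2
  haveI : IsAffine (k ⁻¹ᵁ V.1 : Scheme.{u}) := V.2.preimage k
  haveI : Surjective (k ∣_ V.1) := IsZariskiLocalAtTarget.restrict ‹Surjective k› _
  haveI : IsLocallyNoetherian (k ⁻¹ᵁ V.1).toScheme := inferInstance
  haveI : IsNoetherianRing Γ((k ⁻¹ᵁ V.1).toScheme, ⊤) :=
    IsLocallyNoetherian.component_noetherian ⟨⊤, isAffineOpen_top _⟩
  have h := faithfullyFlat_appTop (k ∣_ V.1)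
  algebraize [(k ∣_ V.1).appTop.hom]
  haveI : Module.FaithfullyFlat Γ(V.1, ⊤) Γ((k ⁻¹ᵁ V.1).toScheme, ⊤) := h
  haveI := GrothLib.Hensel.isNoetherianRing_of_faithfullyFlat Γ(V.1, ⊤) Γ((k ⁻¹ᵁ V.1).toScheme, ⊤)
  exact isNoetherianRing_of_ringEquiv _ V.1.topIso.commRingCatIsoToRingEquiv

/-- Being locally noetherian descends along an affine faithfully flat change of the base scheme. -/
theorem isLocNoethSp_of_affine_ff_base {Q : Sp S} (hQ : IsAlgSpace Q) {A B : Over S} (qsnd : Q ⟶ (yon S).obj B)
    (m : A ⟶ B) [IsAffineHom m.left] [Flat m.left] [Surjective m.left] {P : Sp S} {fst : P ⟶ Q}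
    {snd : P ⟶ (yon S).obj A} (sq : IsPullback fst snd qsnd ((yon S).map m)) (h : IsLocNoethSp P) :
    IsLocNoethSp Q := by
  obtain ⟨U, a, ae, as⟩ := hQ.atlas
  obtain ⟨α, hα⟩ := (yon S).map_surjective (a ≫ qsnd)
  have sqW : IsPullback ((yon S).map (pullback.fst α m)) ((yon S).map (pullback.snd α m)) (a ≫ qsnd) ((yon S).map m) := by
    rw [← hα]
    exact (IsPullback.of_hasPullback α m).map (yon S)
  let l : (yon S).obj (pullback α m) ⟶ P := sq.lift ((yon S).map (pullback.fst α m) ≫ a)
    ((yon S).map (pullback.snd α m)) (by rw [Category.assoc, sqW.w])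
  have sq' : IsPullback ((yon S).map (pullback.fst α m)) l a fst := by
    refine IsPullback.of_bot ?_ (sq.lift_fst _ _ _).symm sq
    rw [sq.lift_snd]
    exact sqW
  have hle : RepWith @Etale l := repWith_of_isPullback sq' ae
  have hW : IsLocallyNoetherian (pullback α m).left :=
    etaleLocally_chart (fun _ _ k => isLocallyNoetherian_of_etale k) (fun _ _ k => isLocallyNoetherian_desc k) h l hle
  have sqL := isPullback_left (IsPullback.of_hasPullback α m)
  haveI : Flat (pullback.fst α m).left := MorphismProperty.of_isPullback sqL.flip ‹Flat m.left›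
  haveI : Surjective (pullback.fst α m).left := MorphismProperty.of_isPullback sqL.flip ‹Surjective m.left›
  haveI : IsAffineHom (pullback.fst α m).left := MorphismProperty.of_isPullback sqL.flip ‹IsAffineHom m.left›
  exact ⟨U, a, ae, as, isLocallyNoetherian_of_affine_ff (pullback.fst α m).left hW⟩

/-- A locally noetherian fibre over a field descends to a subfield. -/
theorem isLocNoethSp_fibre_of_hom {X Y : Sp S} (hX : IsAlgSpace X) (hY : IsAlgSpace Y) (f : X ⟶ Y)
    (p q : FieldPt Y) (m : p.pt ⟶ q.pt) (hm : (yon S).map m ≫ q.toHom = p.toHom)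
    (hP : IsLocNoethSp (pullback f p.toHom))
    {Q : Sp S} {qfst : Q ⟶ X} {qsnd : Q ⟶ (yon S).obj q.pt} (sq : IsPullback qfst qsnd f q.toHom) :
    IsLocNoethSp Q := by
  have hQ : IsAlgSpace Q := (isAlgSpace_pullback' hY hX (IsAlgSpace.yon_obj q.pt) f q.toHom).of_iso sq.isoPullback.symm
  let l : pullback f p.toHom ⟶ Q := sq.lift (pullback.fst _ _) (pullback.snd _ _ ≫ (yon S).map m)
    (by rw [Category.assoc, hm, pullback.condition])
  have sq' : IsPullback l (pullback.snd f p.toHom) qsnd ((yon S).map m) := by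
    refine IsPullback.of_right ?_ (sq.lift_snd _ _ _) sq
    rw [sq.lift_fst, hm]
    exact IsPullback.of_hasPullback _ _
  haveI : Subsingleton ↥q.pt.left := inferInstanceAs (Subsingleton (PrimeSpectrum q.K))
  haveI : Nonempty ↥p.pt.left := inferInstanceAs (Nonempty (PrimeSpectrum p.K))
  haveI : IsAffine p.pt.left := inferInstanceAs (IsAffine (Spec (CommRingCat.of p.K)))
  haveI : IsAffine q.pt.left := inferInstanceAs (IsAffine (Spec (CommRingCat.of q.K)))
  haveI : Flat m.left := flat_to_field m.left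
  haveI : Surjective m.left := ⟨fun y => ⟨Classical.arbitrary _, Subsingleton.elim _ _⟩⟩
  haveI : IsAffineHom m.left := inferInstance
  exact isLocNoethSp_of_affine_ff_base hQ qsnd m sq' hP

/-- A field point factors through a field point given by a monomorphism representing the same point. -/
theorem exists_hom_to_mono_fieldPt {Y : Sp S} (hY : IsAlgSpace Y) (p q : FieldPt Y)
    (h : Points.mk p = Points.mk q) [Mono q.toHom] :
    ∃ m : p.pt ⟶ q.pt, (yon S).map m ≫ q.toHom = p.toHom := by
  have hP := isAlgSpace_pullback' hY (IsAlgSpace.yon_obj p.pt) (IsAlgSpace.yon_obj q.pt) p.toHom q.toHom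
  haveI : Nonempty (Points (pullback p.toHom q.toHom)) := by
    obtain ⟨z, -, -⟩ := exists_of_isPullback (IsPullback.of_hasPullback p.toHom q.toHom)
      (x := Points.ofScheme p.pt (IsLocalRing.closedPoint p.K))
      (y := Points.ofScheme q.pt (IsLocalRing.closedPoint q.K)) (by
        rw [← Points.ofPt_eq_map_ofScheme, ← Points.ofPt_eq_map_ofScheme, Points.ofPt_toHom, Points.ofPt_toHom, h])
    exact ⟨z⟩
  haveI := isIso_of_mono_to_field_space hP (pullback.fst p.toHom q.toHom)
  obtain ⟨m, hm⟩ := (yon S).map_surjective (inv (pullback.fst p.toHom q.toHom) ≫ pullback.snd p.toHom q.toHom)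
  exact ⟨m, by rw [hm, Category.assoc, ← pullback.condition, IsIso.inv_hom_id_assoc]⟩

theorem lft_fromSpecResidueField_comp_of_etale {W : Scheme.{u}} {K : Type u} [Field K]
    (α : W ⟶ Spec (CommRingCat.of K)) [Etale α] (w : W) :
    LocallyOfFiniteType (W.fromSpecResidueField w ≫ α) := by
  haveI : Subsingleton ↥(Spec (CommRingCat.of K)) := inferInstanceAs (Subsingleton (PrimeSpectrum K))
  have huniv : α ⁻¹' {α w} = Set.univ := Set.eq_univ_of_forall fun x => Subsingleton.elim (α x) (α w)
  haveI : LocallyQuasiFinite α := locallyQuasiFinite_of_unramified α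
  have hd := α.isDiscrete_preimage_singleton (α w)
  rw [huniv, isDiscrete_univ_iff] at hd
  haveI := hd
  haveI := isClosed_singleton_iff_isClosedImmersion.1 (isClosed_discrete ({w} : Set W))
  infer_instance

/-- A locally noetherian fibre over a field point gives locally noetherian fibres over the points of an
étale chart lying over the same point. -/
theorem isLocNoethSp_fibre_etale_chart {X Y : Sp S} (hX : IsAlgSpace X) (hY : IsAlgSpace Y) (f : X ⟶ Y)
    (p : FieldPt Y) (hP : IsLocNoethSp (pullback f p.toHom))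
    {V : Over S} (b : (yon S).obj V ⟶ Y) (hb : RepWith @Etale b) (v : ↥V.left)
    (hv : Points.ofPt b v = Points.mk p)
    {Q : Sp S} {qfst : Q ⟶ X} {qsnd : Q ⟶ (yon S).obj (FieldPt.ofPt b v).pt}
    (sq : IsPullback qfst qsnd f (FieldPt.ofPt b v).toHom) : IsLocNoethSp Q := by
  obtain ⟨W, fst, snd, sqW⟩ := exists_isPullback_of_representable hb.1 p.toHom
  obtain ⟨fst, rfl⟩ := (yon S).map_surjective fst
  haveI : Etale snd.left := hb.2 _ _ _ sqW
  obtain ⟨w, hw, -⟩ := (ofPt_eq_ofPt_iff sqW v (IsLocalRing.closedPoint p.K)).1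
    (hv.trans (Points.ofPt_toHom p _).symm)
  subst hw
  let r : FieldPt Y := FieldPt.ofPt ((yon S).map fst ≫ b) w
  let j : r.pt ⟶ p.pt := Over.homMk (W.left.fromSpecResidueField w ≫ snd.left)
    ((Category.assoc _ _ _).trans (congrArg (W.left.fromSpecResidueField w ≫ ·) (Over.w snd)))
  have hj : (yon S).map j ≫ p.toHom = r.toHom := by
    rw [FieldPt.toHom_ofPt, sqW.w, ← Category.assoc, ← Functor.map_comp]
    congr 2
  haveI : LocallyOfFiniteType j.left := lft_fromSpecResidueField_comp_of_etale snd.left w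
  have hPr : IsLocNoethSp (pullback f r.toHom) := by
    let l : pullback f r.toHom ⟶ pullback f p.toHom := pullback.lift (pullback.fst _ _)
      (pullback.snd _ _ ≫ (yon S).map j) (by rw [Category.assoc, hj, pullback.condition])
    have sqj : IsPullback l (pullback.snd f r.toHom) (pullback.snd f p.toHom) ((yon S).map j) := by
      refine IsPullback.of_right ?_ (pullback.lift_snd _ _ _) (IsPullback.of_hasPullback f p.toHom)
      rw [pullback.lift_fst, hj]
      exact IsPullback.of_hasPullback _ _
    have hl : RepWith @LocallyOfFiniteType l :=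
      repWith_of_isPullback sqj.flip ((repWith_yon_map_iff _ j).2 ‹_›)
    have hP' := isAlgSpace_pullback' hY hX (IsAlgSpace.yon_obj p.pt) f p.toHom
    exact isLocNoethSp_of_lft (isAlgSpace_pullback' hY hX (IsAlgSpace.yon_obj r.pt) f r.toHom) hP' hP
      (EtLocal.locP_of_repWith EtLocal.lft hP' hl)
  let m : r.pt ⟶ (FieldPt.ofPt b (fst.left w)).pt := Over.homMk (Spec.map (fst.left.residueFieldMap w)) (by
    show Spec.map (fst.left.residueFieldMap w) ≫ V.left.fromSpecResidueField _ ≫ V.hom =
      W.left.fromSpecResidueField w ≫ W.hom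
    rw [Scheme.Hom.SpecMap_residueFieldMap_fromSpecResidueField_assoc, Over.w fst])
  refine isLocNoethSp_fibre_of_hom hX hY f r _ m ?_ hPr sq
  rw [FieldPt.toHom_ofPt, FieldPt.toHom_ofPt, ← Category.assoc, ← Functor.map_comp, ← Category.assoc,
    ← Functor.map_comp]
  congr 2
  exact Over.OverMorphism.ext (Scheme.Hom.SpecMap_residueFieldMap_fromSpecResidueField _ _)

end GrothLib.AlgSp
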