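import Groth.Agent.Lib.AlgSp.EtaleLocallyProps
import Groth.Agent.Lib.AlgSp.Points
import Groth.Agent.Lib.AlgSp.Space
import Groth.Agent.Lib.FBase7.Points

/-!
# Reducedness of fibres under extensions of the field

* `reduced_of_baseExt`: reducedness descends along flat surjective base extensions;
* `geomReduced_of_common_point`: geometric reducedness of a fibre only depends on the point.
-/

set_option autoImplicit false
universe u
open CategoryTheory CategoryTheory.Limits AlgebraicGeometry
set_option backward.isDefEq.respectTransparency false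

namespace GrothLib.AlgSp

open _root_.AlgSp

variable {S : Scheme.{u}}

theorem isReduced_of_flat_surjective {A B : Scheme.{u}} (q : A ⟶ B) [Flat q] [Surjective q] [IsReduced A] :
    IsReduced B := by
  haveI : ∀ y, _root_.IsReduced (B.presheaf.stalk y) := fun y => by
    obtain ⟨x, hx⟩ := q.surjective y
    exact GrothLib.FBase7.isReduced_stalk_of_flat q x hx inferInstance
  exact isReduced_of_isReduced_stalk _

/-- Reducedness descends along a flat surjective base extension. -/
theorem reduced_of_baseExt {X Y : Sp S} (hX : IsAlgSpace X) (hY : IsAlgSpace Y) {f : X ⟶ Y} {T T' : Over S}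
    (g : (yon S).obj T ⟶ Y) (c : T' ⟶ T) [Flat c.left] [Surjective c.left] {P P' : Sp S} {p : P ⟶ X}
    {q : P ⟶ (yon S).obj T} (sq : IsPullback p q f g) {p' : P' ⟶ X} {q' : P' ⟶ (yon S).obj T'}
    (sq' : IsPullback p' q' f ((yon S).map c ≫ g))
    (h : EtaleLocally (fun U => IsReduced U) P') : EtaleLocally (fun U => IsReduced U) P := by
  obtain ⟨W, a, ha, hs⟩ := (isAlgSpace_pullback' hY hX (IsAlgSpace.yon_obj T) f g).atlas
  let e := sq.isoPullback
  let a' : (yon S).obj W ⟶ P := a ≫ e.inv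
  have ha' : RepWith @Etale a' := repWith_comp ha (repWith_iso _)
  have hs' : RepWith @Surjective a' := repWith_comp hs (repWith_iso _)
  obtain ⟨η, hη⟩ := (yon S).map_surjective (a' ≫ q)
  obtain ⟨d, hd₁, hd₂⟩ : ∃ d : P' ⟶ P, d ≫ p = p' ∧ d ≫ q = q' ≫ (yon S).map c :=
    ⟨sq.lift p' (q' ≫ (yon S).map c) (by rw [Category.assoc]; exact sq'.w), sq.lift_fst _ _ _, sq.lift_snd _ _ _⟩
  have sd : IsPullback d q' q ((yon S).map c) := IsPullback.of_right (by rw [hd₁]; exact sq') hd₂ sq
  let W' : Over S := Over.mk (pullback.fst η.left c.left ≫ W.hom)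
  let p₁ : W' ⟶ W := Over.homMk (pullback.fst η.left c.left) rfl
  let p₂ : W' ⟶ T' := Over.homMk (pullback.snd η.left c.left) (by
    show pullback.snd η.left c.left ≫ T'.hom = pullback.fst η.left c.left ≫ W.hom
    rw [← Over.w η, ← Over.w c, ← Category.assoc, ← pullback.condition, Category.assoc])
  have sqW : IsPullback p₁ p₂ η c :=
    IsPullback.of_map_of_faithful (Over.forget S) (IsPullback.of_hasPullback η.left c.left)
  obtain ⟨aW, hw₁, hw₂⟩ : ∃ aW, aW ≫ d = (yon S).map p₁ ≫ a' ∧ aW ≫ q' = (yon S).map p₂ :=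
    ⟨sd.lift _ _ (by rw [Category.assoc, ← hη, ← Functor.map_comp, sqW.w, Functor.map_comp]),
      sd.lift_fst _ _ _, sd.lift_snd _ _ _⟩
  have sa : IsPullback ((yon S).map p₁) aW a' d :=
    IsPullback.of_bot (by rw [hw₂, ← hη]; exact isPullback_yon sqW) hw₁.symm sd
  haveI : IsReduced W'.left :=
    etaleLocally_chart (fun _ _ => isReduced_of_etale) (fun _ _ => isReduced_desc) h aW (repWith_of_isPullback sa ha')
  haveI : Flat (pullback.fst η.left c.left) := inferInstance
  haveI : Surjective (pullback.fst η.left c.left) := MorphismProperty.pullback_fst _ _ inferInstance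
  haveI : IsReduced (pullback η.left c.left) := ‹IsReduced W'.left›
  exact ⟨W, a', ha', hs', isReduced_of_flat_surjective (pullback.fst η.left c.left)⟩

theorem flat_surjective_to_field {K : Type u} [Field K] {str : Spec (CommRingCat.of K) ⟶ S} {T : Over S}
    [Nonempty ↥T.left] (c : T ⟶ Over.mk str) : Flat c.left ∧ Surjective c.left := by
  haveI : Subsingleton ↥(Over.mk str).left := inferInstanceAs (Subsingleton (PrimeSpectrum K))
  haveI : IsIntegral (Over.mk str).left := inferInstanceAs (IsIntegral (Spec (CommRingCat.of K)))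
  exact ⟨inferInstance, ⟨fun y => ⟨Classical.arbitrary _, Subsingleton.elim _ _⟩⟩⟩

/-- If all extensions of one fibre are reduced, so is every fibre over the same point. -/
theorem geomReduced_of_common_point {X Y : Sp S} (hX : IsAlgSpace X) (hY : IsAlgSpace Y) {f : X ⟶ Y}
    {K₀ : Type u} [Field K₀] {str₀ : Spec (CommRingCat.of K₀) ⟶ S} (g₀ : (yon S).obj (Over.mk str₀) ⟶ Y)
    (h₀ : ∀ (k' : Type u) [Field k'] (φ : K₀ →+* k') (P : Sp S) (a : P ⟶ X)
      (b : P ⟶ (yon S).obj (Over.mk (Spec.map (CommRingCat.ofHom φ) ≫ str₀))),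
      IsPullback a b f ((yon S).map (Over.homMk (Spec.map (CommRingCat.ofHom φ)) rfl :
        Over.mk (Spec.map (CommRingCat.ofHom φ) ≫ str₀) ⟶ Over.mk str₀) ≫ g₀) →
      EtaleLocally (fun U => IsReduced U) P)
    {K : Type u} [Field K] {str : Spec (CommRingCat.of K) ⟶ S} (g : (yon S).obj (Over.mk str) ⟶ Y)
    (he : Points.ofPt g₀ (IsLocalRing.closedPoint K₀) = Points.ofPt g (IsLocalRing.closedPoint K))
    {P : Sp S} {p : P ⟶ X} {q : P ⟶ (yon S).obj (Over.mk str)} (sq : IsPullback p q f g) :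
    EtaleLocally (fun U => IsReduced U) P := by
  rw [Points.ofPt_eq_map_ofScheme, Points.ofPt_eq_map_ofScheme] at he
  obtain ⟨Ω, _, w, σ₀, σ, hσ, -, -⟩ := exists_common_field he
  obtain ⟨s₀, rfl⟩ := (yon S).map_surjective σ₀
  obtain ⟨s, rfl⟩ := (yon S).map_surjective σ
  obtain ⟨φ, hφ⟩ := Spec.map_surjective s₀.left
  let T' : Over S := Over.mk (Spec.map (CommRingCat.ofHom φ.hom) ≫ str₀)
  let ε : T' ⟶ Over.mk w := Over.homMk (𝟙 _) (by
    refine (Category.id_comp _).trans ?_
    show w = Spec.map φ ≫ str₀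
    rw [hφ]; exact (Over.w s₀).symm)
  let i : T' ⟶ Over.mk str₀ := Over.homMk (Spec.map (CommRingCat.ofHom φ.hom)) rfl
  have hi : i = ε ≫ s₀ := Over.OverMorphism.ext (by
    show Spec.map φ = 𝟙 _ ≫ s₀.left
    rw [Category.id_comp, hφ])
  have he' : (yon S).map i ≫ g₀ = (yon S).map (ε ≫ s) ≫ g := by
    rw [hi, Functor.map_comp, Functor.map_comp, Category.assoc, Category.assoc, hσ]
  haveI : Nonempty ↥T'.left := inferInstanceAs (Nonempty (PrimeSpectrum Ω))
  obtain ⟨hf, hs⟩ := flat_surjective_to_field (ε ≫ s)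
  have sq' := IsPullback.of_hasPullback f ((yon S).map (ε ≫ s) ≫ g)
  exact reduced_of_baseExt hX hY g (ε ≫ s) sq sq'
    (h₀ Ω φ.hom _ _ _ (show IsPullback _ _ f ((yon S).map i ≫ g₀) by rw [he']; exact sq'))

end GrothLib.AlgSp
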