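import Groth.Agent.Lib.AlgSp.LocP
import Groth.Agent.Lib.AlgSp.DecentPoints
import Groth.Agent.Lib.AlgSp.FlatMono
import Groth.Agent.Lib.EtBasicB.FtPoints

/-!
# Finite type points of algebraic spaces
-/

universe u

open CategoryTheory CategoryTheory.Limits AlgebraicGeometry

namespace GrothLib.AlgSp

open _root_.AlgSp

variable {S : Scheme.{u}} {X : Sp S}

/-- `x` is represented by a morphism locally of finite type from the spectrum of a field. -/
def IsFtPoint (x : Points X) : Prop :=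
  ∃ (k : Type u) (_ : Field k) (str : Spec (CommRingCat.of k) ⟶ S) (ξ : (yon S).obj (Over.mk str) ⟶ X),
    LocP @LocallyOfFiniteType ξ ∧ Points.ofPt ξ (IsLocalRing.closedPoint k) = x

theorem isFtPoint_ofPt (hX : IsAlgSpace X) {U : Over S} {a : (yon S).obj U ⟶ X} (ha : RepWith @Etale a)
    {u : ↥U.left} (hu : LocallyOfFiniteType (U.left.fromSpecResidueField u)) : IsFtPoint (Points.ofPt a u) := by
  let i : Over.mk (U.left.fromSpecResidueField u ≫ U.hom) ⟶ U := Over.homMk (U.left.fromSpecResidueField u) rfl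
  refine ⟨U.left.residueField u, inferInstance, _, (yon S).map i ≫ a, EtLocal.locP_of_repWith .lft hX
    (repWith_comp ((repWith_yon_map_iff _ _).2 hu) (repWith_mono ha fun _ _ g _ => inferInstance)), ?_⟩
  rw [ofPt_map_comp]
  exact congrArg (Points.ofPt a) (Scheme.fromSpecResidueField_apply _ _)

theorem isFtPoint_ofPt_of_isClosed (hX : IsAlgSpace X) {U : Over S} {a : (yon S).obj U ⟶ X}
    (ha : RepWith @Etale a) {u : ↥U.left} (hu : IsClosed ({u} : Set ↥U.left)) : IsFtPoint (Points.ofPt a u) :=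
  isFtPoint_ofPt hX ha (by haveI := isClosed_singleton_iff_isClosedImmersion.mp hu; infer_instance)

theorem ftPoint_of_isFtPoint (hX : IsAlgSpace X) {U : Over S} {a : (yon S).obj U ⟶ X} (ha : RepWith @Etale a)
    {v : ↥U.left} (hx : IsFtPoint (Points.ofPt a v)) : LocallyOfFiniteType (U.left.fromSpecResidueField v) := by
  obtain ⟨k, _, str, ξ, hξ, hpt⟩ := hx
  obtain ⟨T, p, d, sq⟩ := exists_isPullback_yon hX.diag ξ a
  haveI : Etale p.left := ha.2 _ _ _ sq.flip
  haveI : LocallyOfFiniteType d.left :=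
    (EtLocal.repWith_of_locP .lft hX (representable_of_source_scheme hX ξ) hξ).2 _ _ _ sq
  obtain ⟨t, -, rfl⟩ := (ofPt_eq_ofPt_iff sq (IsLocalRing.closedPoint k) v).1 hpt
  haveI : LocallyQuasiFinite p.left := locallyQuasiFinite_of_unramified _
  haveI : IsLocallyArtinian (Over.mk str).left := inferInstanceAs (IsLocallyArtinian (Spec (CommRingCat.of k)))
  haveI : IsLocallyArtinian T.left := .of_locallyQuasiFinite p.left
  haveI := isClosed_singleton_iff_isClosedImmersion.mp (isClosed_discrete ({t} : Set ↥T.left))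
  have hl : LocallyOfFiniteType (T.left.fromSpecResidueField t ≫ d.left) :=
    MorphismProperty.comp_mem _ _ _ inferInstance inferInstance
  obtain ⟨A, hA, hmem, hcl, -⟩ := (GrothLib.EtBasicB.locallyOfFiniteType_from_field_iff U.left _
    (T.left.fromSpecResidueField t ≫ d.left)).1 hl
  have e : (T.left.fromSpecResidueField t ≫ d.left).base (IsLocalRing.closedPoint (T.left.residueField t)) = d.left t :=
    congrArg d.left (Scheme.fromSpecResidueField_apply t _)
  exact (GrothLib.EtBasicB.mem_iff_exists_affineOpen_isClosed U.left (d.left t)).2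
    (GrothLib.EtBasicB.exists_isClosed_congr e ⟨A, hA, hmem, hcl⟩)

theorem exists_ftPoint_chart (hX : IsAlgSpace X) {U : Over S} {a : (yon S).obj U ⟶ X} (ha : RepWith @Etale a)
    (hs : RepWith @Surjective a) {x : Points X} (hx : IsFtPoint x) :
    ∃ u : ↥U.left, LocallyOfFiniteType (U.left.fromSpecResidueField u) ∧ Points.ofPt a u = x := by
  obtain ⟨v, rfl⟩ := surjective_ofPt_of_repWith hs x
  exact ⟨v, ftPoint_of_isFtPoint hX ha hx, rfl⟩

theorem isFtPoint_iff (hX : IsAlgSpace X) (x : Points X) :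
    IsFtPoint x ↔ ∃ (U : Over S) (φ : (yon S).obj U ⟶ X) (u : ↥U.left), RepWith @Etale φ ∧
      IsClosed ({u} : Set ↥U.left) ∧ Points.ofPt φ u = x := by
  refine ⟨fun hx => ?_, fun ⟨U, φ, u, hφ, hu, he⟩ => he ▸ isFtPoint_ofPt_of_isClosed hX hφ hu⟩
  obtain ⟨U, a, ha, hs⟩ := hX.atlas
  obtain ⟨u, hu, rfl⟩ := exists_ftPoint_chart hX ha hs hx
  obtain ⟨A, -, huA, hcl⟩ := (GrothLib.EtBasicB.mem_iff_exists_affineOpen_isClosed U.left u).1 hu
  let i : Over.mk (A.ι ≫ U.hom) ⟶ U := Over.homMk A.ι rfl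
  exact ⟨_, (yon S).map i ≫ a, ⟨u, huA⟩,
    repWith_comp ((repWith_yon_map_iff _ _).2 (inferInstanceAs (Etale A.ι))) ha, hcl, by rw [ofPt_map_comp]; rfl⟩

theorem exists_ftPoint_of_isLocallyClosed (hX : IsAlgSpace X) {T : Set (Points X)} (hT : IsLocallyClosed T)
    (hne : T.Nonempty) : ∃ x ∈ T, IsFtPoint x := by
  obtain ⟨U, a, ha, hs⟩ := hX.atlas
  obtain ⟨x, hx⟩ := hne
  obtain ⟨v, rfl⟩ := surjective_ofPt_of_repWith hs x
  obtain ⟨u, huT, hu⟩ := (GrothLib.EtBasicB.nonempty_inter_and_dense U.left).1 _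
    (hT.preimage (Points.continuous_ofPt a)) ⟨v, hx⟩
  exact ⟨_, huT, isFtPoint_ofPt hX ha hu⟩

theorem exists_ftPoint_lift {Y : Sp S} (hX : IsAlgSpace X) (hY : IsAlgSpace Y) {f : X ⟶ Y}
    (hf : LocP @LocallyOfFiniteType f) (hs : IsSurjectiveMor f) {y : Points Y} (hy : IsFtPoint y) :
    ∃ x : Points X, Points.map f x = y ∧ IsFtPoint x := by
  obtain ⟨V, q, qe, qs⟩ := hY.atlas
  obtain ⟨v, hv, rfl⟩ := exists_ftPoint_chart hY qe qs hy
  have sq := IsPullback.of_hasPullback f q
  have hP := isAlgSpace_pullback' hY hX (IsAlgSpace.yon_obj V) f q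
  obtain ⟨W, b, be, bs⟩ := hP.atlas
  obtain ⟨h, hh⟩ := (yon S).map_surjective (b ≫ pullback.snd f q)
  have hfe : RepWith @Etale (pullback.fst f q) := repWith_of_isPullback sq.flip qe
  haveI : LocallyOfFiniteType h.left := by
    have h1 := EtLocal.locP_of_isPullback .lft hX hY (IsAlgSpace.yon_obj V) sq hf
    exact h1 b (𝟙 _) h be (repWith_id _ V) (by rw [Category.comp_id, hh])
  haveI : Surjective h.left := ⟨fun v' => by
    obtain ⟨x', hx'⟩ := hs (Points.ofPt q v')
    obtain ⟨z, -, hz⟩ := exists_of_isPullback sq (x := x') (y := Points.ofScheme V v') (by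
      rw [hx', Points.ofPt_eq_map_ofScheme])
    obtain ⟨w, rfl⟩ := surjective_ofPt_of_repWith bs z
    refine ⟨w, (Points.schemeEquiv V).injective ?_⟩
    rw [Points.map_ofPt, ← hh, Points.ofPt_eq_map_ofScheme, map_yon_ofPt] at hz
    exact hz⟩
  obtain ⟨w, hw, hwv⟩ : v ∈ h.left '' {t | LocallyOfFiniteType (W.left.fromSpecResidueField t)} := by
    rw [GrothLib.EtBasicB.image_eq h.left]; exact hv
  refine ⟨Points.ofPt (b ≫ pullback.fst f q) w, ?_, isFtPoint_ofPt hX (repWith_comp be hfe) hw⟩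
  rw [Points.map_ofPt, Category.assoc, sq.w, ← Category.assoc, ← hh, ofPt_map_comp, hwv]

/-- Finite type points of Jacobson schemes are closed. -/
theorem isClosed_of_ftPoint {U : Scheme.{u}} [JacobsonSpace ↥U] {u : ↥U}
    (h : LocallyOfFiniteType (U.fromSpecResidueField u)) : IsClosed ({u} : Set ↥U) := by
  obtain ⟨A, -, hu, hcl⟩ := (GrothLib.EtBasicB.mem_iff_exists_affineOpen_isClosed U u).1 h
  refine isClosed_singleton_of_isLocallyClosed_singleton ?_
  rw [show ({u} : Set ↥U) = (Subtype.val : A → ↥U) '' {⟨u, hu⟩} from by ext; simp]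
  exact hcl.isLocallyClosed.image A.2.isOpenEmbedding_subtypeVal.isInducing
    A.2.isOpenEmbedding_subtypeVal.isOpen_range.isLocallyClosed

/-- Schemes with an etale cover by a Jacobson scheme are Jacobson. -/
theorem jacobsonSpace_of_etale_surjective {U W : Scheme.{u}} (h : U ⟶ W) [Etale h] [Surjective h] [JacobsonSpace ↥U] :
    JacobsonSpace ↥W := by
  rw [jacobsonSpace_iff_locallyClosed]
  intro Z hne hZ
  obtain ⟨w, hwZ, hw⟩ := GrothLib.EtBasicB.nonempty_inter_ftPoints Z hZ hne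
  refine ⟨w, hwZ, isClosed_of_closure_subset fun w' hw' => ?_⟩
  obtain ⟨u', rfl⟩ := h.surjective w'
  obtain ⟨u, hu, rfl⟩ := Flat.generalizingMap h (show w ⤳ h u' from specializes_iff_mem_closure.2 hw')
  obtain ⟨A, -, hA, hcl⟩ := (GrothLib.EtBasicB.mem_iff_exists_affineOpen_isClosed W (h u)).1 hw
  haveI : LocallyQuasiFinite h := locallyQuasiFinite_of_unramified h
  haveI : DiscreteTopology ↥(h ⁻¹' {h u}) := (h.isDiscrete_preimage_singleton (h u)).to_subtype
  have hw'' : IsLocallyClosed ({h u} : Set ↥W) := by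
    rw [show ({h u} : Set ↥W) = (Subtype.val : A → ↥W) '' {⟨h u, hA⟩} from by ext; simp]
    exact hcl.isLocallyClosed.image A.2.isOpenEmbedding_subtypeVal.isInducing
      A.2.isOpenEmbedding_subtypeVal.isOpen_range.isLocallyClosed
  have hsingle : h ⁻¹' {h u} ∩ closure {u} = {u} := subset_antisymm (fun z ⟨hz, hzu⟩ =>
    (congrArg Subtype.val ((subtype_specializes_iff (⟨u, rfl⟩ : ↥(h ⁻¹' {h u})) ⟨z, hz⟩).2
      (specializes_iff_mem_closure.2 hzu)).eq).symm) (Set.singleton_subset_iff.2 ⟨rfl, subset_closure rfl⟩)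
  have hclu : IsClosed ({u} : Set ↥U) := isClosed_singleton_of_isLocallyClosed_singleton
    (hsingle ▸ (hw''.preimage h.continuous).inter isClosed_closure.isLocallyClosed)
  exact Set.mem_singleton_iff.2 (congrArg h (Set.mem_singleton_iff.1 (hclu.closure_subset
    (specializes_iff_mem_closure.1 hu))))

theorem exists_closedPoint_over_ftPoint (hX : IsAlgSpace X) (hJ : EtaleLocally (fun U => JacobsonSpace ↥U) X)
    {x : Points X} (hx : IsFtPoint x) {W : Over S} {g : (yon S).obj W ⟶ X} (hg : LocP @LocallyOfFiniteType g)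
    (hxW : x ∈ Set.range (Points.ofPt g)) :
    ∃ w : ↥W.left, IsClosed ({w} : Set ↥W.left) ∧ Points.ofPt g w = x := by
  obtain ⟨V, q, qe, qs, hV⟩ := hJ
  haveI : JacobsonSpace ↥V.left := hV
  obtain ⟨U, b, h, sq⟩ := exists_isPullback_yon hX.diag g q
  haveI : Etale b.left := qe.2 _ _ _ sq.flip
  haveI : Surjective b.left := qs.2 _ _ _ sq.flip
  haveI : LocallyOfFiniteType h.left :=
    (EtLocal.repWith_of_locP .lft hX (representable_of_source_scheme hX g) hg).2 _ _ _ sq
  haveI : JacobsonSpace ↥U.left := LocallyOfFiniteType.jacobsonSpace h.left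
  haveI : JacobsonSpace ↥W.left := jacobsonSpace_of_etale_surjective b.left
  obtain ⟨k, _, str, ξ, hξ, rfl⟩ := hx
  obtain ⟨T, p, d, sqT⟩ := exists_isPullback_yon hX.diag ξ g
  haveI : LocallyOfFiniteType d.left :=
    (EtLocal.repWith_of_locP .lft hX (representable_of_source_scheme hX ξ) hξ).2 _ _ _ sqT
  haveI : LocallyOfFiniteType p.left :=
    (EtLocal.repWith_of_locP .lft hX (representable_of_source_scheme hX g) hg).2 _ _ _ sqT.flip
  haveI : JacobsonSpace ↥T.left := by
    haveI : JacobsonSpace ↥(Over.mk str).left := inferInstanceAs (JacobsonSpace (Spec (CommRingCat.of k)))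
    exact LocallyOfFiniteType.jacobsonSpace p.left
  obtain ⟨w₀, hw₀⟩ := hxW
  obtain ⟨t₀, -, -⟩ := (ofPt_eq_ofPt_iff sqT (IsLocalRing.closedPoint k) w₀).1 hw₀.symm
  obtain ⟨t, -, ht⟩ := (jacobsonSpace_iff_locallyClosed.1 ‹JacobsonSpace ↥T.left›) Set.univ ⟨t₀, trivial⟩
    isClosed_univ.isLocallyClosed
  refine ⟨d.left t, isClosed_of_ftPoint ?_, ?_⟩
  · rw [show LocallyOfFiniteType (W.left.fromSpecResidueField (d.left t)) ↔
      (d.left t) ∈ {s : ↥W.left | LocallyOfFiniteType (W.left.fromSpecResidueField s)} from Iff.rfl]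
    haveI := isClosed_singleton_iff_isClosedImmersion.mp (show IsClosed ({t} : Set ↥T.left) from ht)
    exact GrothLib.EtBasicB.image_subset d.left ⟨t, (inferInstance : LocallyOfFiniteType (T.left.fromSpecResidueField t)), rfl⟩
  · rw [← ofPt_map_comp, ← sqT.w, ofPt_map_comp]
    exact congrArg (Points.ofPt ξ) (Subsingleton.elim (α := PrimeSpectrum k) _ _)

theorem isClosed_of_ftPoint_of_isDecent (hX : IsAlgSpace X) (hd : IsDecent X)
    (hJ : EtaleLocally (fun U => JacobsonSpace ↥U) X) {x : Points X} (hx : IsFtPoint x) :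
    IsClosed ({x} : Set (Points X)) := by
  obtain ⟨U, a, ha, hs, hU⟩ := hJ
  haveI : JacobsonSpace ↥U.left := hU
  refine isClosed_of_closure_subset fun x' hx' => ?_
  obtain ⟨u', rfl⟩ := surjective_ofPt_of_repWith hs x'
  obtain ⟨u, hu, rfl⟩ := exists_specializes_of_finite_fibres (specializes_iff_mem_closure.2 hx')
    (finiteFibres_of_isDecent hX hd x) ha rfl
  have hcl := isClosed_of_ftPoint (ftPoint_of_isFtPoint hX ha hx)
  exact Set.mem_singleton_iff.2 (congrArg (Points.ofPt a) (Set.mem_singleton_iff.1 (hcl.closure_subset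
    (specializes_iff_mem_closure.1 hu))))

theorem ftPoint_iff_isClosed (hX : IsAlgSpace X) (hd : IsDecent X)
    (hJ : EtaleLocally (fun U => JacobsonSpace ↥U) X) (x : Points X) :
    IsFtPoint x ↔ IsClosed ({x} : Set (Points X)) := by
  refine ⟨isClosed_of_ftPoint_of_isDecent hX hd hJ, fun h => ?_⟩
  obtain ⟨y, rfl, hy⟩ := exists_ftPoint_of_isLocallyClosed hX h.isLocallyClosed ⟨x, rfl⟩
  exact hy

theorem jacobson_iff (hX : IsAlgSpace X) (hd : IsDecent X) :
    EtaleLocally (fun U => JacobsonSpace ↥U) X ↔ JacobsonSpace (Points X) := by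
  constructor
  · intro hJ
    rw [jacobsonSpace_iff_locallyClosed]
    intro Z hne hZ
    obtain ⟨x, hx, hft⟩ := exists_ftPoint_of_isLocallyClosed hX hZ hne
    exact ⟨x, hx, isClosed_of_ftPoint_of_isDecent hX hd hJ hft⟩
  · intro hJ
    obtain ⟨U, a, ha, hs⟩ := hX.atlas
    refine ⟨U, a, ha, hs, ?_⟩
    show JacobsonSpace ↥U.left
    rw [jacobsonSpace_iff_locallyClosed]
    intro Z hne hZ
    obtain ⟨u, huZ, hu⟩ := GrothLib.EtBasicB.nonempty_inter_ftPoints Z hZ hne
    refine ⟨u, huZ, ?_⟩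
    obtain ⟨A, hA, huA, hcl⟩ := (GrothLib.EtBasicB.mem_iff_exists_affineOpen_isClosed U.left u).1 hu
    let i : Over.mk (A.ι ≫ U.hom) ⟶ U := Over.homMk A.ι rfl
    have hb : RepWith @Etale ((yon S).map i ≫ a) :=
      repWith_comp ((repWith_yon_map_iff _ _).2 (inferInstanceAs (Etale A.ι))) ha
    let x := Points.ofPt a u
    have hF : ({v | v ∈ A ∧ Points.ofPt a v = x ∧ v ≠ u} : Set ↥U.left).Finite :=
      ((finiteFibres_of_isDecent hX hd x (Over.mk (A.ι ≫ U.hom)) _ (show IsAffine A.toScheme from hA) hb).image A.ι).subset fun v ⟨hv, hvx, _⟩ =>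
        ⟨⟨v, hv⟩, (ofPt_map_comp i a ⟨v, hv⟩).trans hvx, rfl⟩
    let O : Set ↥U.left := (A : Set ↥U.left) \ ⋃ v ∈ {v | v ∈ A ∧ Points.ofPt a v = x ∧ v ≠ u}, closure {v}
    have hO : IsOpen O := A.2.sdiff (hF.isClosed_biUnion fun _ _ => isClosed_closure)
    have hnospec : ∀ {v w : ↥U.left}, v ⤳ w → Points.ofPt a v = x → Points.ofPt a w = x → w = v :=
      fun h hv hw => eq_of_specializes_of_finite_fibres hX (finiteFibres_of_isDecent hX hd x) ha hw hv h
    have huO : u ∈ O := ⟨huA, fun hm => by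
      obtain ⟨v, ⟨-, hvx, hvu⟩, hv⟩ := Set.mem_iUnion₂.1 hm
      exact hvu (hnospec (specializes_iff_mem_closure.2 hv) hvx rfl).symm⟩
    have hxO : ({x} : Set (Points X)) = Points.ofPt a '' O ∩ closure {x} := by
      refine subset_antisymm (Set.singleton_subset_iff.2 ⟨⟨u, huO, rfl⟩, subset_closure rfl⟩) ?_
      rintro _ ⟨⟨u', hu', rfl⟩, hc⟩
      obtain ⟨v, hv, hvx⟩ := exists_specializes_of_finite_fibres (specializes_iff_mem_closure.2 hc)
        (finiteFibres_of_isDecent hX hd x) ha rfl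
      have hvO : v ∈ O := hv.mem_open hO hu'
      have hvu : v = u := by
        by_contra hne'
        exact hvO.2 (Set.mem_iUnion₂.2 ⟨v, ⟨hvO.1, hvx, hne'⟩, subset_closure rfl⟩)
      have h3 : (⟨u', hu'.1⟩ : ↥A) ∈ closure ({⟨u, huA⟩} : Set ↥A) := specializes_iff_mem_closure.1
        ((subtype_specializes_iff (⟨u, huA⟩ : ↥A) ⟨u', hu'.1⟩).2 (hvu ▸ hv))
      have h3 := Set.mem_singleton_iff.1 (hcl.closure_subset h3)
      exact Set.mem_singleton_iff.2 (congrArg (Points.ofPt a) (congrArg Subtype.val h3))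
    have hxc : IsClosed ({x} : Set (Points X)) := isClosed_singleton_of_isLocallyClosed_singleton
      (hxO ▸ (isOpenMap_ofPt_of_etale ha _ hO).isLocallyClosed.inter isClosed_closure.isLocallyClosed)
    refine isClosed_of_closure_subset fun w hw => ?_
    have hwx : Points.ofPt a w = x := Set.mem_singleton_iff.1 (hxc.closure_subset
      (((specializes_iff_mem_closure.2 hw).map (Points.continuous_ofPt a)).mem_closure))
    exact Set.mem_singleton_iff.2 (hnospec (specializes_iff_mem_closure.2 hw) rfl hwx)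

end GrothLib.AlgSp
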