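import Groth.Agent.Lib.AlgSp.DecentTop
import Groth.Agent.Lib.AlgSp.Dim
import Groth.Agent.Lib.AlgSp.FibreDimZero
import Groth.Agent.Lib.FacDiv.Principal
import Groth.Agent.Lib.EtFibre.Basic

/-!
# Points of spaces locally of finite type over a field
-/

universe u

open CategoryTheory CategoryTheory.Limits AlgebraicGeometry TopologicalSpace

namespace GrothLib.AlgSp

open _root_.AlgSp

variable {k : Type u} [Field k] {X : Sp (Spec (CommRingCat.of k))} {U : Over (Spec (CommRingCat.of k))}
  {a : (yon (Spec (CommRingCat.of k))).obj U ⟶ X}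
  {p : X ⟶ (yon (Spec (CommRingCat.of k))).obj (Over.mk (𝟙 _))}

theorem lft_chart_hom (hp : LocP @LocallyOfFiniteType p) (ha : RepWith @Etale a) : LocallyOfFiniteType U.hom := by
  obtain ⟨h, hh⟩ := (yon (Spec (CommRingCat.of k))).map_surjective (a ≫ p)
  have h1 := hp a (𝟙 _) h ha (repWith_iso _) (by rw [Category.comp_id, hh])
  have h2 : h.left = U.hom := by rw [← Over.w h]; exact (Category.comp_id _).symm
  exact h2 ▸ h1

theorem isOpen_point_iff (hX : IsAlgSpace X) (hp : LocP @LocallyOfFiniteType p) (ha : RepWith @Etale a)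
    (hs : RepWith @Surjective a) (x : Points X) :
    IsOpen ({x} : Set (Points X)) ↔ ∀ v : ↥U.left, Points.ofPt a v = x → IsOpen ({v} : Set ↥U.left) := by
  haveI := lft_chart_hom hp ha
  haveI : IsLocallyNoetherian U.left := LocallyOfFiniteType.isLocallyNoetherian U.hom
  refine ⟨fun h v hv => ?_, fun h => ?_⟩
  · haveI : JacobsonSpace ↥U.left := LocallyOfFiniteType.jacobsonSpace U.hom
    let F : Set ↥U.left := Points.ofPt a ⁻¹' {x}
    have hF : IsOpen F := h.preimage (Points.continuous_ofPt a)
    have hsingle : F ∩ closure {v} = {v} := subset_antisymm (fun z ⟨hz, hzv⟩ =>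
      eq_of_specializes_of_isLocNoeth hX ha ((Set.mem_singleton_iff.1 hz).trans hv.symm) (specializes_iff_mem_closure.2 hzv))
      (Set.singleton_subset_iff.2 ⟨hv, subset_closure rfl⟩)
    have hcl : IsClosed ({v} : Set ↥U.left) := isClosed_singleton_of_isLocallyClosed_singleton
      (hsingle ▸ hF.isLocallyClosed.inter isClosed_closure.isLocallyClosed)
    refine GrothLib.FacDiv.isOpen_singleton_of_isolated (fun z hz => ?_)
      fun z hz => Set.mem_singleton_iff.1 (hcl.closure_subset (specializes_iff_mem_closure.1 hz))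
    have hzx : Points.ofPt a z ∈ ({x} : Set (Points X)) :=
      (hz.map (Points.continuous_ofPt a)).mem_open h hv
    exact (eq_of_specializes_of_isLocNoeth hX ha (hv.trans (Set.mem_singleton_iff.1 hzx).symm) hz).symm
  · obtain ⟨v, rfl⟩ := surjective_ofPt_of_repWith hs x
    have := isOpenMap_ofPt_of_etale ha _ (h v rfl)
    rwa [Set.image_singleton] at this

theorem isOpen_point_iff_closed_no_generization (hX : IsAlgSpace X) (hp : LocP @LocallyOfFiniteType p)
    (x : Points X) :
    IsOpen ({x} : Set (Points X)) ↔ IsClosed ({x} : Set (Points X)) ∧ ∀ x', x' ⤳ x → x' = x := by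
  obtain ⟨U, a, ha, hs⟩ := hX.atlas
  haveI := lft_chart_hom hp ha
  haveI : IsLocallyNoetherian U.left := LocallyOfFiniteType.isLocallyNoetherian U.hom
  haveI : JacobsonSpace ↥U.left := LocallyOfFiniteType.jacobsonSpace U.hom
  refine ⟨fun h => ⟨?_, fun x' hx' => hx'.mem_open h rfl⟩, fun ⟨hc, hg⟩ => ?_⟩
  · have h1 := (isOpen_point_iff hX hp ha hs x).1 h
    have hcl : ∀ v, Points.ofPt a v = x → IsClosed ({v} : Set ↥U.left) := fun v hv =>
      isClosed_singleton_of_isLocallyClosed_singleton (h1 v hv).isLocallyClosed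
    rw [← isOpen_compl_iff, ← (isOpenQuotientMap_ofPt ha hs).isQuotientMap.isOpen_preimage, Set.preimage_compl]
    refine isOpen_iff_mem_nhds.2 fun u hu => ?_
    obtain ⟨W, hW, huW, -⟩ := exists_isAffineOpen_mem_and_subset (U := (⊤ : U.left.Opens)) (x := u) trivial
    have := IsLocallyNoetherian.component_noetherian (X := U.left) ⟨W, hW⟩
    haveI : NoetherianSpace (W : Set ↥U.left) := noetherianSpace_of_isAffineOpen W hW
    let G : Set (W : Set ↥U.left) := Subtype.val ⁻¹' (Points.ofPt a ⁻¹' {x})
    haveI : DiscreteTopology ↥G := discreteTopology_iff_isOpen_singleton.2 fun g => by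
      have e : ({g} : Set ↥G) = (fun z : ↥G => z.1.1) ⁻¹' {g.1.1} :=
        Set.ext fun z => ⟨fun h => Set.mem_singleton_iff.2 (by rw [Set.mem_singleton_iff.1 h]),
          fun h => Set.mem_singleton_iff.2 (Subtype.ext (Subtype.ext (Set.mem_singleton_iff.1 h)))⟩
      rw [e]; exact (h1 _ g.2).preimage (continuous_subtype_val.comp continuous_subtype_val)
    haveI : CompactSpace ↥G := isCompact_iff_compactSpace.1 (NoetherianSpace.isCompact G)
    haveI : Finite ↥G := finite_of_compact_of_discrete
    have hGf : (Subtype.val '' G).Finite := (Set.toFinite G).image _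
    refine Filter.mem_of_superset ((W.2.sdiff (hGf.isClosed_biUnion (f := fun z => ({z} : Set ↥U.left))
      fun z hz => by obtain ⟨z, hz', rfl⟩ := hz; exact hcl _ hz')).mem_nhds ⟨huW, fun hmem => ?_⟩) ?_
    · obtain ⟨z, ⟨z, hz, rfl⟩, rfl⟩ := Set.mem_iUnion₂.1 hmem
      exact hu hz
    · rintro z ⟨hzW, hz⟩ hzx
      exact hz (Set.mem_iUnion₂.2 ⟨z, ⟨⟨z, hzW⟩, hzx, rfl⟩, rfl⟩)
  · refine (isOpen_point_iff hX hp ha hs x).2 fun v hv => ?_
    refine GrothLib.FacDiv.isOpen_singleton_of_isolated (fun z hz => ?_) fun z hz => ?_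
    · exact (eq_of_specializes_of_isLocNoeth hX ha
        (hv.trans (hg _ (hv ▸ hz.map (Points.continuous_ofPt a))).symm) hz).symm
    · have hzx : Points.ofPt a z = x :=
        Set.mem_singleton_iff.1 (hc.closure_subset (hv ▸ (hz.map (Points.continuous_ofPt a)).mem_closure))
      exact eq_of_specializes_of_isLocNoeth hX ha (hzx.trans hv.symm) hz

theorem isOpen_point_iff_localDim (hX : IsAlgSpace X) (hp : LocP @LocallyOfFiniteType p) (x : Points X) :
    IsOpen ({x} : Set (Points X)) ↔ HasAt (fun U u => FlatMor.localDim ↥U u = 0) X x := by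
  have hQ : ∀ ⦃A B : Scheme.{u}⦄ (e : A ⟶ B), Etale e → ∀ a, (FlatMor.localDim ↥A a = 0 ↔ FlatMor.localDim ↥B (e a) = 0) :=
    fun A B e he w => by haveI := he; rw [GrothLib.EtFibre.localDim_eq_of_etale e w]
  obtain ⟨U, a, ha, hs⟩ := hX.atlas
  haveI := lft_chart_hom hp ha
  haveI : IsLocallyNoetherian U.left := LocallyOfFiniteType.isLocallyNoetherian U.hom
  have h0 : ∀ v : ↥U.left, IsOpen ({v} : Set ↥U.left) ↔ FlatMor.localDim ↥U.left v = 0 := fun v =>
    (isOpen_singleton_iff_localDim v).trans ⟨fun h => le_antisymm h (localDim_nonneg v), fun h => h.le⟩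
  rw [isOpen_point_iff hX hp ha hs]
  obtain ⟨v, rfl⟩ := surjective_ofPt_of_repWith hs x
  refine ⟨fun h => (hasAt_iff hX hQ ha v).2 ((h0 v).1 (h v rfl)), fun h w hw => (h0 w).2 ?_⟩
  exact (hasAt_iff hX hQ ha w).1 (hw ▸ h)

theorem localDim_points_eq_zero_iff (hX : IsAlgSpace X) (hp : LocP @LocallyOfFiniteType p) (hd : IsDecent X)
    (x : Points X) : FlatMor.localDim (Points X) x = 0 ↔ IsOpen ({x} : Set (Points X)) := by
  rw [isOpen_point_iff_localDim hX hp]
  obtain ⟨U, a, ha, hs⟩ := hX.atlas
  obtain ⟨v, rfl⟩ := surjective_ofPt_of_repWith hs x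
  rw [← localDim_chart hX hd ha v]
  exact (hasAt_iff (Q := fun U u => FlatMor.localDim ↥U u = 0) hX
    (fun A B e he w => by haveI := he; simp only [GrothLib.EtFibre.localDim_eq_of_etale e w]) ha v).symm

theorem space_conditions (hX : IsAlgSpace X) (hp : LocP @LocallyOfFiniteType p) [Nonempty (Points X)] :
    (DiscreteTopology (Points X) ↔ _root_.AlgSp.dim X = 0) ∧
      (DiscreteTopology (Points X) → topologicalKrullDim (Points X) = 0) ∧
      (IsDecent X → topologicalKrullDim (Points X) = 0 → DiscreteTopology (Points X)) ∧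
      (IsDecent X → Finite (Points X) → _root_.AlgSp.dim X = 0) := by
  obtain ⟨U, a, ha, hs⟩ := hX.atlas
  haveI := lft_chart_hom hp ha
  haveI : IsLocallyNoetherian U.left := LocallyOfFiniteType.isLocallyNoetherian U.hom
  haveI : JacobsonSpace ↥U.left := LocallyOfFiniteType.jacobsonSpace U.hom
  have hne : Nonempty ↥U.left := by
    obtain ⟨v, -⟩ := surjective_ofPt_of_repWith hs (Classical.arbitrary (Points X)); exact ⟨v⟩
  have hdim := dim_eq_of_atlas hX ha hs
  have hzero : ∀ {T : Type u} [TopologicalSpace T] [DiscreteTopology T] [Nonempty T], topologicalKrullDim T = 0 :=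
    fun {T} _ _ hT => le_antisymm (topologicalKrullDim_zero_of_discreteTopology T) (Order.krullDim_nonneg_iff.2
      ⟨⟨closure {Classical.arbitrary T}, isIrreducible_singleton.closure, isClosed_closure⟩⟩)
  have hU : DiscreteTopology (Points X) ↔ DiscreteTopology ↥U.left := by
    refine ⟨fun h => discreteTopology_iff_isOpen_singleton.2 fun v =>
      (isOpen_point_iff hX hp ha hs _).1 (isOpen_discrete _) v rfl,
      fun h => discreteTopology_iff_isOpen_singleton.2 fun x => (isOpen_point_iff hX hp ha hs x).2 fun v _ => isOpen_discrete _⟩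
  have hU' : DiscreteTopology ↥U.left ↔ topologicalKrullDim ↥U.left = 0 := by
    refine ⟨fun h => hzero, fun h => ?_⟩
    refine discreteTopology_iff_isOpen_singleton.2 fun v => (isOpen_singleton_iff_localDim v).2 ?_
    exact (iInf_le _ ⟨⊤, trivial⟩).trans ((Topology.IsInducing.subtypeVal.topologicalKrullDim_le).trans h.le)
  have h12 : DiscreteTopology (Points X) ↔ _root_.AlgSp.dim X = 0 := by rw [hdim, hU, hU']
  refine ⟨h12, fun h => ?_, fun hd h => h12.2 ((topologicalKrullDim_points hX hd).symm.trans h), fun hd hfin => ?_⟩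
  · refine le_antisymm (topologicalKrullDim_zero_of_discreteTopology _) (Order.krullDim_nonneg_iff.2
      ⟨⟨closure {Classical.arbitrary _}, isIrreducible_singleton.closure, isClosed_closure⟩⟩)
  · refine h12.1 (hU.2 (discreteTopology_iff_isOpen_singleton.2 fun v => ?_))
    obtain ⟨O, hv, hO, b, hb, hbw⟩ := exists_affine_subchart ha v
    haveI : IsAffine (Over.mk (O.ι ≫ U.hom)).left := hO
    haveI : Finite ↥O.toScheme := Set.finite_univ_iff.1 <| by
      rw [← Set.preimage_univ (f := Points.ofPt b), ← Set.biUnion_of_singleton (Set.univ : Set (Points X)),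
        Set.preimage_iUnion₂]
      exact Set.finite_univ.biUnion fun x _ => finiteFibres_of_isDecent hX hd x _ b inferInstance hb
    haveI : JacobsonSpace ↥O.toScheme := JacobsonSpace.of_isOpenEmbedding O.ι.isOpenEmbedding
    haveI : DiscreteTopology ↥O.toScheme := inferInstance
    have := O.ι.isOpenEmbedding.isOpenMap _ (isOpen_discrete ({⟨v, hv⟩} : Set ↥O.toScheme))
    rwa [Set.image_singleton] at this

end GrothLib.AlgSp
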