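import Groth.Agent.Lib.AlgSp.FpqcAffine
import Groth.Agent.Lib.AlgSp.OpenSub
import Groth.Agent.Lib.AlgSp.FieldBase
import Groth.Agent.Lib.AlgSp.PointsUniv
import Groth.Agent.Lib.AlgSp.Immersion
import Groth.Agent.Lib.AlgSp.ClosedSub
import Groth.Agent.Lib.AlgSp.PointsOverField
import Groth.Agent.Lib.AlgSp.FtPoints
import Groth.Agent.Lib.AlgSp.MonoPoint
import Groth.Agent.Lib.AlgSp.Glue
import Mathlib.AlgebraicGeometry.AlgClosed.Basic

/-!
# Schematic locus and algebraic field extensions

* `exists_open_scheme_of_fibre`: a point of an algebraic space over a field whose fibre in the base change to an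
  algebraic extension is contained in an affine open subscheme lies in an open subspace which is a scheme.
* `finite_rational_fibre`: fibres over finite type points of spaces locally of finite type in the base change to
  an algebraically closed extension consist of finitely many rational points.
-/

universe u

set_option backward.isDefEq.respectTransparency false

open CategoryTheory CategoryTheory.Limits AlgebraicGeometry

namespace GrothLib.AlgSp

open _root_.AlgSp

variable {k K : Type u} [Field k] [Field K] [Algebra k K]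

theorem exists_open_scheme_of_fibre [Algebra.IsIntegral k K] (X : Space (Spec (CommRingCat.of k)))
    (T : Over (Spec (CommRingCat.of k)))
    (iT : (yon (Spec (CommRingCat.of k))).obj T ≅
      X.obj ⨯ (yon (Spec (CommRingCat.of k))).obj (Over.mk (Spec.map (CommRingCat.ofHom (algebraMap k K)))))
    (V₀ : T.left.Opens) (hV₀ : IsAffineOpen V₀) (x : Points X.obj)
    (hfib : ∀ t : ↥T.left, Points.map prod.fst (Points.map iT.hom (Points.schemeEquiv T t)) = x → t ∈ V₀) :
    ∃ (W : Over (Spec (CommRingCat.of k))) (f : (yon (Spec (CommRingCat.of k))).obj W ⟶ X.obj),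
      RepWith @IsOpenImmersion f ∧ x ∈ Set.range (Points.map f) := by
  let B : Scheme.{u} := Spec (CommRingCat.of k)
  let c : Over.mk (Spec.map (CommRingCat.ofHom (algebraMap k K))) ⟶ Over.mk (𝟙 B) :=
    Over.homMk (Spec.map (CommRingCat.ofHom (algebraMap k K))) (Category.comp_id _)
  let F' := (yon B).obj (Over.mk (Spec.map (CommRingCat.ofHom (algebraMap k K))))
  have hT : IsTerminal ((yon B).obj (Over.mk (𝟙 B))) := IsTerminal.isTerminalObj (yon B) _ Over.mkIdTerminal
  have sqX : IsPullback (prod.fst : X.obj ⨯ F' ⟶ X.obj) prod.snd (hT.from X.obj) ((yon B).map c) := by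
    rw [hT.hom_ext ((yon B).map c) (hT.from F')]
    exact IsPullback.of_is_product' (prodIsProd X.obj F') hT
  haveI : Flat c.left := flat_to_field (Spec.map (CommRingCat.ofHom (algebraMap k K)))
  haveI : IsIntegralHom c.left :=
    IsIntegralHom.SpecMap_iff.2 (algebraMap_isIntegral_iff.2 inferInstance)
  haveI : Subsingleton ↥(Over.mk (𝟙 B)).left := inferInstanceAs (Subsingleton (PrimeSpectrum k))
  haveI : Nonempty ↥(Over.mk (Spec.map (CommRingCat.ofHom (algebraMap k K)))).left :=
    inferInstanceAs (Nonempty (PrimeSpectrum K))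
  haveI : Surjective c.left := ⟨fun x => ⟨Classical.arbitrary _, Subsingleton.elim _ _⟩⟩
  haveI : IsAffine (Over.mk (Spec.map (CommRingCat.ofHom (algebraMap k K)))).left :=
    inferInstanceAs (IsAffine (Spec (CommRingCat.of K)))
  have hclosed : IsClosedMap (Points.map (prod.fst : X.obj ⨯ F' ⟶ X.obj)) :=
    isClosedMap_map_of_repWith (fun _ _ f (hf : UniversallyClosed f) => f.isClosedMap)
      (repWith_of_isPullback sqX.flip ((repWith_yon_map_iff _ _).2 (inferInstance : UniversallyClosed c.left)))
  let i₀ : Over.mk (V₀.ι ≫ T.hom) ⟶ T := Over.homMk V₀.ι rfl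
  have hg₀ : RepWith @IsOpenImmersion ((yon B).map i₀ ≫ iT.hom) :=
    repWith_comp ((repWith_yon_map_iff _ _).2 (inferInstanceAs (IsOpenImmersion V₀.ι))) (repWith_iso _)
  -- shrink to an affine chart around `x`
  let Z := (Set.range (Points.map ((yon B).map i₀ ≫ iT.hom)))ᶜ
  have hW₀ : IsOpen (Points.map (prod.fst : X.obj ⨯ F' ⟶ X.obj) '' Z)ᶜ :=
    (hclosed _ (isOpen_range_openImmersion hg₀).isClosed_compl).isOpen_compl
  have hx₀ : x ∈ (Points.map (prod.fst : X.obj ⨯ F' ⟶ X.obj) '' Z)ᶜ := by
    rintro ⟨z, hz, hzx⟩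
    obtain ⟨p, rfl⟩ : ∃ p, Points.map iT.hom p = z :=
      ⟨Points.map iT.inv z, by rw [← Points.map_comp, iT.inv_hom_id]; exact Points.map_id _⟩
    obtain ⟨t, rfl⟩ := (Points.schemeEquiv T).surjective p
    refine hz ⟨Points.schemeEquiv _ ⟨t, hfib t hzx⟩, ?_⟩
    rw [Points.map_comp]
    congr 1
    exact map_yon_ofPt i₀ _
  obtain ⟨U, π, hU, hπ, hxπ, hπW, -⟩ := exists_affine_chart_mem X.property hW₀ hx₀ (fun _ => True)
    (fun _ => ⟨⊤, trivial, trivial⟩)
  let O := Set.range (Points.ofPt π)
  have hO : IsOpen O := (isOpenMap_ofPt_of_etale hπ).isOpen_range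
  -- the preimage of `O` in `T`
  let O' : T.left.Opens :=
    ⟨{t | Points.map prod.fst (Points.map iT.hom (Points.schemeEquiv T t)) ∈ O}, by
      refine ((hO.preimage (Points.continuous_map prod.fst)).preimage (Points.continuous_map iT.hom)).preimage ?_
      exact (Points.schemeHomeo T).continuous⟩
  have hO'V : O' ≤ V₀ := by
    intro t ht
    by_contra htV
    refine hπW ht ⟨_, ?_, rfl⟩
    rintro ⟨w, hw⟩
    obtain ⟨w, rfl⟩ := (Points.schemeEquiv _).surjective w
    rw [Points.map_comp] at hw
    have hinj := Function.LeftInverse.injective (f := Points.map iT.hom) (g := Points.map iT.inv) fun z => by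
      rw [← Points.map_comp, iT.hom_inv_id]; exact Points.map_id _
    have h' := hinj hw
    rw [show Points.map ((yon B).map i₀) (Points.schemeEquiv _ w) = Points.schemeEquiv T (i₀.left w) from
      map_yon_ofPt i₀ w] at h'
    exact htV ((Points.schemeEquiv T).injective h' ▸ w.2)
  -- it is quasi-compact
  let P := pullback c (Over.mkIdTerminal.from U)
  haveI : IsAffine U.left := hU
  haveI : IsAffine P.left := by
    haveI : IsAffineHom (pullback.snd c (Over.mkIdTerminal.from U)).left :=
      MorphismProperty.of_isPullback (isPullback_left (IsPullback.of_hasPullback c (Over.mkIdTerminal.from U)))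
        (inferInstance : IsAffineHom c.left)
    exact isAffine_of_isAffineHom (pullback.snd c (Over.mkIdTerminal.from U)).left
  have sqP := (IsPullback.of_hasPullback c (Over.mkIdTerminal.from U)).flip.map (yon B)
  let n₀ : (yon B).obj P ⟶ X.obj ⨯ F' :=
    sqX.lift ((yon B).map (pullback.snd c (Over.mkIdTerminal.from U)) ≫ π) ((yon B).map (pullback.fst c _))
      (hT.hom_ext _ _)
  have sqn : IsPullback ((yon B).map (pullback.snd c (Over.mkIdTerminal.from U))) n₀ π prod.fst := by
    refine IsPullback.of_bot ?_ (sqX.lift_fst _ _ _).symm sqX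
    rw [sqX.lift_snd, hT.hom_ext (π ≫ hT.from X.obj) ((yon B).map (Over.mkIdTerminal.from U))]
    exact sqP
  obtain ⟨n, hn⟩ := (yon B).map_surjective (n₀ ≫ iT.inv)
  have hO'c : IsCompact (O' : Set T.left) := by
    have : (O' : Set T.left) = Set.range n.left := by
      ext t
      constructor
      · rintro ⟨u, hu⟩
        obtain ⟨z, -, hz⟩ := exists_of_isPullback sqn (x := Points.schemeEquiv U u)
          (y := Points.map iT.hom (Points.schemeEquiv T t)) ((Points.ofPt_eq_map_ofScheme π u).symm.trans hu)
        obtain ⟨z, rfl⟩ := (Points.schemeEquiv P).surjective z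
        refine ⟨z, (Points.schemeEquiv T).injective ?_⟩
        rw [show Points.schemeEquiv T (n.left z) = Points.map ((yon B).map n) (Points.schemeEquiv P z) from
          (map_yon_ofPt n z).symm, hn, Points.map_comp, hz, ← Points.map_comp, iT.hom_inv_id]
        exact Points.map_id _
      · rintro ⟨z, rfl⟩
        refine ⟨(pullback.snd c (Over.mkIdTerminal.from U)).left z, ?_⟩
        rw [show Points.schemeEquiv T (n.left z) = Points.map ((yon B).map n) (Points.schemeEquiv P z) from
          (map_yon_ofPt n z).symm, hn, ← Points.map_comp, ← Points.map_comp, Category.assoc,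
          Iso.inv_hom_id_assoc, ← sqn.w, Points.map_comp, Points.ofPt_eq_map_ofScheme]
        congr 1
        exact (map_yon_ofPt (pullback.snd c (Over.mkIdTerminal.from U)) z).symm
    rw [this]
    exact isCompact_range n.left.continuous
  let V' : Over B := Over.mk (O'.ι ≫ T.hom)
  let j : V' ⟶ Over.mk (V₀.ι ≫ T.hom) := Over.homMk (T.left.homOfLE hO'V) (by simp [V'])
  haveI : IsOpenImmersion j.left := inferInstanceAs (IsOpenImmersion (T.left.homOfLE hO'V))
  haveI : CompactSpace ↥V'.left := isCompact_iff_compactSpace.1 hO'c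
  haveI : IsAffine (Over.mk (V₀.ι ≫ T.hom)).left := hV₀
  let i : V' ⟶ T := Over.homMk O'.ι rfl
  let g : (yon B).obj V' ⟶ X.obj ⨯ F' := (yon B).map i ≫ iT.hom
  have hg : RepWith @IsOpenImmersion g :=
    repWith_comp ((repWith_yon_map_iff _ _).2 (inferInstanceAs (IsOpenImmersion O'.ι))) (repWith_iso _)
  let sqW := IsPullback.of_hasPullback (openSubι X.obj O) (prod.fst : X.obj ⨯ F' ⟶ X.obj)
  have hW' : RepWith @IsOpenImmersion (pullback.snd (openSubι X.obj O) (prod.fst : X.obj ⨯ F' ⟶ X.obj)) :=
    repWith_of_isPullback sqW (repWith_openSubι hO)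
  have hrange : Set.range (Points.map g) =
      Set.range (Points.map (pullback.snd (openSubι X.obj O) (prod.fst : X.obj ⨯ F' ⟶ X.obj))) := by
    ext z
    constructor
    · rintro ⟨v, rfl⟩
      obtain ⟨v, rfl⟩ := (Points.schemeEquiv V').surjective v
      have hv : Points.map prod.fst (Points.map g (Points.schemeEquiv V' v)) ∈ O := by
        rw [Points.map_comp, show Points.map ((yon B).map i) (Points.schemeEquiv V' v) =
          Points.schemeEquiv T (i.left v) from map_yon_ofPt i v]
        exact v.2
      obtain ⟨w, hw⟩ : Points.map prod.fst (Points.map g (Points.schemeEquiv V' v)) ∈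
          Set.range (Points.map (openSubι X.obj O)) := by
        rw [range_openSubι]; exact hv
      obtain ⟨y, -, hy⟩ := exists_of_isPullback sqW hw
      exact ⟨y, hy⟩
    · rintro ⟨y, rfl⟩
      have : Points.map (openSubι X.obj O) (Points.map (pullback.fst _ _) y) ∈ O :=
        (range_openSubι (F := X.obj) (W := O)).subset ⟨_, rfl⟩
      rw [← Points.map_comp, sqW.w, Points.map_comp] at this
      obtain ⟨p, hp⟩ : ∃ p, Points.map iT.hom p = Points.map (pullback.snd (openSubι X.obj O) prod.fst) y :=
        ⟨Points.map iT.inv (Points.map (pullback.snd (openSubι X.obj O) prod.fst) y),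
          by rw [← Points.map_comp iT.inv, iT.inv_hom_id]; exact Points.map_id _⟩
      obtain ⟨t, rfl⟩ := (Points.schemeEquiv T).surjective p
      rw [← hp] at this ⊢
      refine ⟨Points.schemeEquiv V' ⟨t, this⟩, ?_⟩
      rw [Points.map_comp]
      congr 1
      exact map_yon_ofPt i _
  obtain ⟨eV, heV⟩ := exists_iso_of_range_eq hg hW' hrange
  have sqWX : IsPullback (pullback.fst (openSubι X.obj O) prod.fst)
      (pullback.snd (openSubι X.obj O) (prod.fst : X.obj ⨯ F' ⟶ X.obj) ≫ prod.snd)
      (openSubι X.obj O ≫ hT.from X.obj) ((yon B).map c) := sqW.paste_vert sqX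
  have sqV : IsPullback (eV.hom ≫ pullback.fst (openSubι X.obj O) prod.fst) (g ≫ prod.snd)
      (openSubι X.obj O ≫ hT.from X.obj) ((yon B).map c) := by
    refine sqWX.of_iso eV.symm (Iso.refl _) (Iso.refl _) (Iso.refl _) ?_ ?_ ?_ ?_ <;> simp [← heV]
  obtain ⟨l, hl⟩ := (yon B).map_surjective (g ≫ prod.snd)
  obtain ⟨lV, hlV⟩ := (yon B).map_surjective (((yon B).map i₀ ≫ iT.hom) ≫ prod.snd)
  have hlj : l = j ≫ lV := (yon B).map_injective (by
    rw [Functor.map_comp, hl, hlV, ← Category.assoc, ← Category.assoc, ← Functor.map_comp]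
    have e : i = j ≫ i₀ := Over.OverMorphism.ext (T.left.homOfLE_ι hO'V).symm
    simp only [g, e, Category.assoc, Functor.map_comp]
    rfl)
  have hOs : IsAlgSpace (openSub X.obj O) := isAlgSpace_openSub X.property hO
  have hl' : IsQuasiAffineMor ((yon B).map l) := by
    intro Z hZ m
    obtain ⟨m, rfl⟩ := (yon B).map_surjective m
    subst hlj
    haveI : IsAffine (pullback lV m).left := by
      haveI : IsAffineHom lV.left := inferInstance
      haveI : IsAffineHom (pullback.snd lV m).left :=
        MorphismProperty.of_isPullback (isPullback_left (IsPullback.of_hasPullback lV m)) ‹IsAffineHom lV.left›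
      exact isAffine_of_isAffineHom (pullback.snd lV m).left
    let sqA := IsPullback.of_hasPullback lV m
    let r : pullback (j ≫ lV) m ⟶ pullback lV m :=
      sqA.lift (pullback.fst (j ≫ lV) m ≫ j) (pullback.snd (j ≫ lV) m) (by rw [Category.assoc, pullback.condition])
    have sqr : IsPullback (pullback.fst (j ≫ lV) m) r j (pullback.fst lV m) := by
      refine IsPullback.of_bot ?_ (sqA.lift_fst _ _ _).symm sqA
      rw [sqA.lift_snd]
      exact IsPullback.of_hasPullback (j ≫ lV) m
    haveI : IsOpenImmersion r.left :=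
      MorphismProperty.of_isPullback (isPullback_left sqr) ‹IsOpenImmersion j.left›
    haveI : CompactSpace ↥(pullback (j ≫ lV) m).left := by
      haveI : QuasiCompact (j ≫ lV).left := by
        rw [quasiCompact_iff_compactSpace]; infer_instance
      haveI : QuasiCompact (pullback.snd (j ≫ lV) m).left :=
        MorphismProperty.of_isPullback (isPullback_left (IsPullback.of_hasPullback (j ≫ lV) m)) ‹_›
      exact QuasiCompact.compactSpace_of_compactSpace (pullback.snd (j ≫ lV) m).left
    exact ⟨_, pullback.snd (j ≫ lV) m, _, (IsPullback.of_hasPullback (j ≫ lV) m).map (yon B),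
      Scheme.IsQuasiAffine.of_isImmersion r.left⟩
  have hrep : Representable (openSubι X.obj O ≫ hT.from X.obj) := by
    refine representable_of_fpqcLoc_quasiAffine hOs (IsAlgSpace.yon_obj _) fun Z hZ m => ?_
    obtain ⟨m, rfl⟩ := (yon B).map_surjective m
    let W₀ := pullback c m
    have sq₀ := isPullback_left (IsPullback.of_hasPullback c m)
    haveI : Flat (pullback.snd c m).left := MorphismProperty.of_isPullback sq₀ ‹Flat c.left›
    haveI : Surjective (pullback.snd c m).left := MorphismProperty.of_isPullback sq₀ ‹Surjective c.left›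
    haveI : IsAffine W₀.left := by
      haveI : IsAffineHom (pullback.snd c m).left :=
        MorphismProperty.of_isPullback sq₀ (inferInstance : IsAffineHom c.left)
      exact isAffine_of_isAffineHom (pullback.snd c m).left
    refine ⟨1, fun _ => W₀, fun _ => pullback.snd c m, fun _ => ‹_›, fun _ => ‹_›,
      fun z => ⟨0, (pullback.snd c m).left.surjective z⟩, fun _ P p₁ p₂ sqP => ?_⟩
    rw [← Functor.map_comp, ← pullback.condition, Functor.map_comp] at sqP
    rw [← hl] at sqV
    obtain ⟨r, hr₁, hr₂⟩ : ∃ r : P ⟶ (yon B).obj V', r ≫ (eV.hom ≫ pullback.fst (openSubι X.obj O) prod.fst) = p₁ ∧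
        r ≫ (yon B).map l = p₂ ≫ (yon B).map (pullback.fst c m) :=
      ⟨sqV.lift p₁ (p₂ ≫ (yon B).map (pullback.fst c m)) (by rw [sqP.w, Category.assoc]), sqV.lift_fst _ _ _,
        sqV.lift_snd _ _ _⟩
    exact baseChanges_quasiAffine (IsAlgSpace.yon_obj _) (IsAlgSpace.yon_obj _)
      (isAlgSpace_pullback (IsAlgSpace.yon_obj _).diag hOs (IsAlgSpace.yon_obj _) sqP) (IsAlgSpace.yon_obj _)
      (IsPullback.of_right (hr₁.symm ▸ sqP) hr₂ sqV) hl'
  obtain ⟨W, fst, snd, sqF⟩ := exists_isPullback_of_representable hrep (𝟙 ((yon B).obj (Over.mk (𝟙 B))))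
  haveI : IsIso fst := sqF.isIso_fst_of_isIso
  refine ⟨W, fst ≫ openSubι X.obj O, repWith_comp (repWith_iso _) (repWith_openSubι hO), ?_⟩
  obtain ⟨w, hw⟩ : x ∈ Set.range (Points.map (openSubι X.obj O)) := by
    rw [range_openSubι]; exact hxπ
  exact ⟨Points.map (inv fst) w, by rw [← Points.map_comp, IsIso.inv_hom_id_assoc, hw]⟩

theorem finite_rational_fibre [IsAlgClosed K] (X : Space (Spec (CommRingCat.of k)))
    {p : X.obj ⟶ (yon (Spec (CommRingCat.of k))).obj (Over.mk (𝟙 _))} (hp : LocP @LocallyOfFiniteType p)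
    (T : Over (Spec (CommRingCat.of k)))
    (iT : (yon (Spec (CommRingCat.of k))).obj T ≅
      X.obj ⨯ (yon (Spec (CommRingCat.of k))).obj (Over.mk (Spec.map (CommRingCat.ofHom (algebraMap k K)))))
    (q : T ⟶ Over.mk (Spec.map (CommRingCat.ofHom (algebraMap k K))))
    (hq : (yon (Spec (CommRingCat.of k))).map q = iT.hom ≫ prod.snd) {x : Points X.obj} (hx : IsFtPoint x) :
    ∃ s : Finset ↥T.left,
      (∀ t, Points.map prod.fst (Points.map iT.hom (Points.schemeEquiv T t)) = x → t ∈ s) ∧
      ∀ t ∈ s, ∃ σ : Spec (CommRingCat.of K) ⟶ T.left, σ ≫ q.left = 𝟙 _ ∧ σ (IsLocalRing.closedPoint K) = t := by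
  classical
  let B : Scheme.{u} := Spec (CommRingCat.of k)
  obtain ⟨U, φ, u, hφ, hu, rfl⟩ := (isFtPoint_iff X.property x).1 hx
  haveI : LocallyOfFiniteType U.hom := lft_chart_hom hp hφ
  let Fu : Over B := (FieldPt.ofPt φ u).pt
  let c : Over.mk (Spec.map (CommRingCat.ofHom (algebraMap k K))) ⟶ Over.mk (𝟙 B) :=
    Over.homMk (Spec.map (CommRingCat.ofHom (algebraMap k K))) (Category.comp_id _)
  let fu : Fu ⟶ Over.mk (𝟙 B) := Over.mkIdTerminal.from Fu
  let φu : (yon B).obj Fu ⟶ X.obj := (FieldPt.ofPt φ u).toHom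
  haveI : IsClosedImmersion (U.left.fromSpecResidueField u) := isClosed_singleton_iff_isClosedImmersion.mp hu
  haveI : Finite ↥Fu.left := inferInstanceAs (Finite (PrimeSpectrum (U.left.residueField u)))
  haveI : LocallyOfFiniteType fu.left := by
    have e : fu.left = U.left.fromSpecResidueField u ≫ U.hom := by
      have := Over.w fu
      exact (Category.comp_id _).symm.trans this
    rw [e]; infer_instance
  haveI : IsFinite fu.left := (finite_of_finite_points fu.left).1
  let Q := pullback fu c
  let π₂ := pullback.snd fu c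
  haveI : IsFinite π₂.left :=
    MorphismProperty.of_isPullback (isPullback_left (IsPullback.of_hasPullback fu c)) ‹IsFinite fu.left›
  haveI : Finite ↥Q.left := Set.finite_univ_iff.1
    (π₂.left.finite_preimage (Set.finite_univ (α := PrimeSpectrum K)))
  obtain ⟨n, hn⟩ := (yon B).map_surjective
    (prod.lift ((yon B).map (pullback.fst fu c) ≫ φu) ((yon B).map π₂) ≫ iT.inv)
  have hnq : n ≫ q = π₂ := (yon B).map_injective (by
    rw [Functor.map_comp, hn, hq, Category.assoc, Iso.inv_hom_id_assoc, prod.lift_snd])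
  haveI := Fintype.ofFinite ↥Q.left
  refine ⟨Finset.univ.image n.left, fun t ht => ?_, fun t ht => ?_⟩
  · have hT : IsTerminal ((yon B).obj (Over.mk (𝟙 B))) := IsTerminal.isTerminalObj (yon B) _ Over.mkIdTerminal
    have sqX : IsPullback (prod.fst : X.obj ⨯ (yon B).obj (Over.mk (Spec.map (CommRingCat.ofHom (algebraMap k K))))
        ⟶ X.obj) prod.snd (hT.from X.obj) ((yon B).map c) := by
      rw [hT.hom_ext ((yon B).map c) (hT.from _)]
      exact IsPullback.of_is_product' (prodIsProd X.obj _) hT
    have sqQ : IsPullback ((yon B).map (pullback.fst fu c)) ((yon B).map n ≫ iT.hom) φu prod.fst := by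
      refine IsPullback.of_bot ?_ ?_ sqX
      · rw [Category.assoc, ← hq, ← Functor.map_comp, hnq, hT.hom_ext (φu ≫ hT.from X.obj) ((yon B).map fu)]
        exact (IsPullback.of_hasPullback fu c).map (yon B)
      · rw [hn, Category.assoc, Category.assoc, Iso.inv_hom_id_assoc, prod.lift_fst]
    have h0 : Points.map φu (Points.schemeEquiv Fu (IsLocalRing.closedPoint (U.left.residueField u))) =
        Points.ofPt φ u := by
      exact (Points.ofPt_eq_map_ofScheme φu _).symm.trans (Points.ofPt_toHom _ _)
    obtain ⟨z, -, hz⟩ := exists_of_isPullback sqQ (h0.trans ht.symm)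
    obtain ⟨z, rfl⟩ := (Points.schemeEquiv Q).surjective z
    refine Finset.mem_image.2 ⟨z, Finset.mem_univ _, ?_⟩
    rw [Points.map_comp] at hz
    have hinj := Function.LeftInverse.injective (f := Points.map iT.hom) (g := Points.map iT.inv) fun z => by
      rw [← Points.map_comp, iT.hom_inv_id]; exact Points.map_id _
    apply (Points.schemeEquiv T).injective
    exact (map_yon_ofPt n z).symm.trans (hinj hz)
  · obtain ⟨z, -, rfl⟩ := Finset.mem_image.1 ht
    let f : Q.left ⟶ Spec (CommRingCat.of K) := π₂.left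
    haveI : LocallyOfFiniteType f := inferInstanceAs (LocallyOfFiniteType π₂.left)
    haveI : DiscreteTopology ↥Q.left := by
      haveI : LocallyQuasiFinite f := inferInstanceAs (LocallyQuasiFinite π₂.left)
      haveI : IsLocallyArtinian Q.left := .of_locallyQuasiFinite f
      infer_instance
    refine ⟨pointOfClosedPoint f z (isClosed_discrete _) ≫ n.left, ?_, ?_⟩
    · rw [Category.assoc, show n.left ≫ q.left = f from congrArg (fun m : Q ⟶ _ => m.left) hnq]
      exact pointOfClosedPoint_comp f z _
    · rw [Scheme.Hom.comp_apply, pointOfClosedPoint_apply]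

end GrothLib.AlgSp
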