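import Groth.Agent.Lib.AlgSp.FppfDescent
import Groth.Agent.Lib.AlgSp.AffineDescent
import Mathlib.AlgebraicGeometry.Morphisms.QuasiFinite
import Mathlib.AlgebraicGeometry.Morphisms.UniversallyInjective

/-!
# Open and closed parts of a scheme over `T` which are finite over `T`

* `FinPart q Z`: `Z` is a clopen subset of the source of `q`, finite over the target;
* base change, fppf descent, finite unions, and the locus where two parts agree.
-/

universe u

open CategoryTheory CategoryTheory.Limits AlgebraicGeometry Topology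

namespace GrothLib.AlgSp

variable {P T P' T' : Scheme.{u}}

/-- A clopen subset of the source of `q` which is finite over the target. -/
structure FinPart (q : P ⟶ T) (Z : Set P) : Prop where
  isOpen : IsOpen Z
  isClosed : IsClosed Z
  finite : IsFinite (Scheme.Opens.ι (⟨Z, isOpen⟩ : P.Opens) ≫ q)

/-- A property which descends along fppf covers and is local on the target can be checked after
base change along jointly surjective flat morphisms of finite presentation. -/
theorem of_forall_fppf_nbhd {Q : MorphismProperty Scheme.{u}} [Q.IsStableUnderBaseChange]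
    [IsZariskiLocalAtTarget Q] (hQ : FppfDescends Q) {q : P ⟶ T}
    (h : ∀ t : T, ∃ (V : Scheme.{u}) (c : V ⟶ T), Flat c ∧ LocallyOfFinitePresentation c ∧
      t ∈ Set.range c ∧ Q (pullback.snd q c)) : Q q := by
  choose V c hf hp ht hq using h
  let O : T → T.Opens := fun t => ⟨Set.range (c t), by
    have := hf t; have := hp t; exact (c t).isOpenMap.isOpen_range⟩
  refine IsZariskiLocalAtTarget.of_iSup_eq_top O ?_ fun t => ?_
  · rw [eq_top_iff]
    intro t _
    exact TopologicalSpace.Opens.mem_iSup.2 ⟨t, ht t⟩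
  have := hf t; have := hp t
  let c' : V t ⟶ (O t).toScheme := IsOpenImmersion.lift (O t).ι (c t) (by rw [Scheme.Opens.range_ι]; rfl)
  have hc' : c' ≫ (O t).ι = c t := IsOpenImmersion.lift_fac _ _ _
  have : Flat c' := by
    have : Flat (c' ≫ (O t).ι) := hc' ▸ hf t
    exact MorphismProperty.of_postcomp (W' := @IsOpenImmersion) @Flat c' (O t).ι inferInstance this
  have : LocallyOfFinitePresentation c' := by
    have : LocallyOfFinitePresentation (c' ≫ (O t).ι) := hc' ▸ hp t
    exact MorphismProperty.of_postcomp (W' := @IsOpenImmersion) @LocallyOfFinitePresentation c' (O t).ι inferInstance this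
  have hs : Surjective c' := ⟨fun o => by
    obtain ⟨v, hv⟩ : (O t).ι o ∈ Set.range (c t) := o.2
    exact ⟨v, (O t).ι.isOpenEmbedding.injective (by rw [← Scheme.Hom.comp_apply, hc', hv])⟩⟩
  have sqO : IsPullback ((q ⁻¹ᵁ O t).ι) (q ∣_ O t) q (O t).ι := (isPullback_morphismRestrict q (O t)).flip
  let m : pullback q (c t) ⟶ (q ⁻¹ᵁ O t).toScheme :=
    sqO.lift (pullback.fst _ _) (pullback.snd _ _ ≫ c') (by rw [Category.assoc, hc', pullback.condition])
  have sq : IsPullback m (pullback.snd q (c t)) (q ∣_ O t) c' :=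
    IsPullback.of_right (h₁₂ := (q ⁻¹ᵁ O t).ι) (h₂₂ := (O t).ι) (v₁₃ := q)
      (by simpa only [m, IsPullback.lift_fst, hc'] using IsPullback.of_hasPullback q (c t))
      (by simp only [m, IsPullback.lift_snd]) sqO
  exact hQ _ _ _ _ sq ‹_› ‹_› hs (hq t)

namespace FinPart

variable {q : P ⟶ T} {Z Z₁ Z₂ : Set P}

theorem baseChange (h : FinPart q Z) {m : P' ⟶ P} {q' : P' ⟶ T'} {c : T' ⟶ T}
    (sq : IsPullback m q' q c) : FinPart q' (m ⁻¹' Z) := by
  refine ⟨h.isOpen.preimage m.continuous, h.isClosed.preimage m.continuous, ?_⟩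
  have := h.finite
  let O : P.Opens := ⟨Z, h.isOpen⟩
  exact MorphismProperty.of_isPullback ((isPullback_morphismRestrict m O).paste_vert sq)
    (by exact h.finite)

/-- The points over `t` of a finite part form a finite set. -/
theorem finite_fibre (h : FinPart q Z) (t : T) : (Z ∩ q ⁻¹' {t}).Finite := by
  have := h.finite
  let O : P.Opens := ⟨Z, h.isOpen⟩
  refine (((O.ι ≫ q).finite_preimage_singleton t).image O.ι).subset ?_
  rintro z ⟨hz, hzt⟩
  exact ⟨⟨z, hz⟩, hzt, rfl⟩

/-- Parts can be recognised after jointly surjective flat base changes of finite presentation. -/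
theorem of_cover (Z : Set P) (h : ∀ t : T, ∃ (P' T' : Scheme.{u}) (m : P' ⟶ P) (q' : P' ⟶ T')
      (c : T' ⟶ T), IsPullback m q' q c ∧ Flat c ∧ LocallyOfFinitePresentation c ∧
      t ∈ Set.range c ∧ FinPart q' (m ⁻¹' Z)) : FinPart q Z := by
  have key : ∀ W : Set P, (∀ t : T, ∃ (P' T' : Scheme.{u}) (m : P' ⟶ P) (q' : P' ⟶ T')
      (c : T' ⟶ T), IsPullback m q' q c ∧ Flat c ∧ LocallyOfFinitePresentation c ∧
      t ∈ Set.range c ∧ IsOpen (m ⁻¹' W)) → IsOpen W := by
    intro W hW
    refine isOpen_iff_forall_mem_open.2 fun z hz => ?_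
    obtain ⟨P', T', m, q', c, sq, hf, hp, ⟨v, hv⟩, ho⟩ := hW (q z)
    have : Flat m := MorphismProperty.of_isPullback sq.flip hf
    have : LocallyOfFinitePresentation m := MorphismProperty.of_isPullback sq.flip hp
    obtain ⟨z', hz', -⟩ := Scheme.exists_preimage_of_isPullback sq z v hv.symm
    exact ⟨m '' (m ⁻¹' W), Set.image_preimage_subset _ _, m.isOpenMap _ ho, z',
      show m z' ∈ W by rwa [show m z' = z from hz'], hz'⟩
  have ho : IsOpen Z := key Z fun t => by
    obtain ⟨P', T', m, q', c, sq, hf, hp, ht, hP⟩ := h t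
    exact ⟨P', T', m, q', c, sq, hf, hp, ht, hP.isOpen⟩
  have hc : IsClosed Z := ⟨key Zᶜ fun t => by
    obtain ⟨P', T', m, q', c, sq, hf, hp, ht, hP⟩ := h t
    exact ⟨P', T', m, q', c, sq, hf, hp, ht, hP.isClosed.isOpen_compl⟩⟩
  refine ⟨ho, hc, of_forall_fppf_nbhd fppfDescends_isFinite fun t => ?_⟩
  obtain ⟨P', T', m, q', c, sq, hf, hp, ht, hP⟩ := h t
  refine ⟨T', c, hf, hp, ht, ?_⟩
  have sq' := (isPullback_morphismRestrict m ⟨Z, ho⟩).paste_vert sq
  rw [← sq'.isoPullback_inv_snd]
  have := hP.finite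
  exact MorphismProperty.RespectsIso.precomp (P := @IsFinite) _ _ hP.finite

theorem empty (q : P ⟶ T) : FinPart q ∅ := by
  refine ⟨isOpen_empty, isClosed_empty, ?_⟩
  let O : P.Opens := ⟨∅, isOpen_empty⟩
  have : IsEmpty ↥O.toScheme := ⟨fun x => x.2⟩
  exact (inferInstance : IsFinite (O.ι ≫ q))

theorem union [IsSeparated q] [LocallyOfFiniteType q] (h₁ : FinPart q Z₁) (h₂ : FinPart q Z₂) :
    FinPart q (Z₁ ∪ Z₂) := by
  have := h₁.finite; have := h₂.finite
  refine ⟨h₁.isOpen.union h₂.isOpen, h₁.isClosed.union h₂.isClosed, ?_⟩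
  let O : P.Opens := ⟨Z₁ ∪ Z₂, h₁.isOpen.union h₂.isOpen⟩
  let O₁ : P.Opens := ⟨Z₁, h₁.isOpen⟩
  let O₂ : P.Opens := ⟨Z₂, h₂.isOpen⟩
  have le₁ : O₁ ≤ O := Set.subset_union_left
  have le₂ : O₂ ≤ O := Set.subset_union_right
  let j : O₁.toScheme ⨿ O₂.toScheme ⟶ O.toScheme := coprod.desc (P.homOfLE le₁) (P.homOfLE le₂)
  have : Surjective j := ⟨fun z => by
    rcases z.2 with hz | hz
    · refine ⟨(coprod.inl : O₁.toScheme ⟶ O₁.toScheme ⨿ O₂.toScheme) ⟨z.1, hz⟩, ?_⟩
      rw [← Scheme.Hom.comp_apply, coprod.inl_desc]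
      exact O.ι.isOpenEmbedding.injective (by rw [← Scheme.Hom.comp_apply, Scheme.homOfLE_ι]; rfl)
    · refine ⟨(coprod.inr : O₂.toScheme ⟶ O₁.toScheme ⨿ O₂.toScheme) ⟨z.1, hz⟩, ?_⟩
      rw [← Scheme.Hom.comp_apply, coprod.inr_desc]
      exact O.ι.isOpenEmbedding.injective (by rw [← Scheme.Hom.comp_apply, Scheme.homOfLE_ι]; rfl)⟩
  have hj : j ≫ O.ι ≫ q = coprod.desc (O₁.ι ≫ q) (O₂.ι ≫ q) := by
    apply coprod.hom_ext <;> simp [j]
  have : UniversallyClosed (O.ι ≫ q) := by
    have : UniversallyClosed (j ≫ O.ι ≫ q) := hj ▸ inferInstance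
    exact .of_comp_surjective j _
  have : LocallyQuasiFinite (O.ι ≫ q) := .of_finite_preimage_singleton _ fun t => by
    refine (((h₁.finite_fibre t).union (h₂.finite_fibre t)).preimage
      O.ι.isOpenEmbedding.injective.injOn).subset fun z hz => ?_
    rcases z.2 with hz' | hz'
    · exact .inl ⟨hz', hz⟩
    · exact .inr ⟨hz', hz⟩
  rw [IsFinite.iff_isProper_and_locallyQuasiFinite]
  exact ⟨⟨⟩, inferInstance⟩

theorem biUnion [IsSeparated q] [LocallyOfFiniteType q] {ι : Type*} {I : Set ι} (hI : I.Finite)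
    (W : ι → Set P) (h : ∀ i ∈ I, FinPart q (W i)) : FinPart q (⋃ i ∈ I, W i) := by
  induction I, hI using Set.Finite.induction_on with
  | empty => simpa using empty q
  | @insert a s _ _ ih =>
    rw [Set.biUnion_insert]
    exact (h a (Set.mem_insert _ _)).union (ih fun i hi => h i (Set.mem_insert_of_mem _ hi))

/-- The set of points over which two parts agree. -/
def eqLocus (q : P ⟶ T) (Z₁ Z₂ : Set P) : Set T :=
  {t | ∀ z, q z = t → (z ∈ Z₁ ↔ z ∈ Z₂)}

theorem isClopen_eqLocus [Flat q] [LocallyOfFinitePresentation q] (h₁ : FinPart q Z₁) (h₂ : FinPart q Z₂) :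
    IsClopen (eqLocus q Z₁ Z₂) := by
  have key : ∀ {A B : Set P}, FinPart q A → FinPart q B → IsClopen (q '' (A \ B)) := by
    intro A B hA hB
    refine ⟨?_, q.isOpenMap _ (hA.isOpen.sdiff hB.isClosed)⟩
    have := hA.finite
    let O : P.Opens := ⟨A, hA.isOpen⟩
    have e : q '' (A \ B) = (O.ι ≫ q) '' (O.ι ⁻¹' Bᶜ) := by
      ext t
      constructor
      · rintro ⟨z, ⟨hz, hzB⟩, rfl⟩
        exact ⟨⟨z, hz⟩, hzB, rfl⟩
      · rintro ⟨z, hz, rfl⟩
        exact ⟨O.ι z, ⟨z.2, hz⟩, rfl⟩
    rw [e]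
    exact (O.ι ≫ q).isClosedMap _ (hB.isOpen.isClosed_compl.preimage O.ι.continuous)
  have e : eqLocus q Z₁ Z₂ = (q '' (Z₁ \ Z₂) ∪ q '' (Z₂ \ Z₁))ᶜ := by
    ext t
    simp only [eqLocus, Set.mem_setOf_eq, Set.mem_compl_iff, Set.mem_union, Set.mem_image, Set.mem_sdiff]
    grind
  rw [e]
  exact ((key h₁ h₂).union (key h₂ h₁)).compl

/-- The locus of agreement is compatible with base change. -/
theorem mem_eqLocus_iff {m : P' ⟶ P} {q' : P' ⟶ T'} {c : T' ⟶ T} (sq : IsPullback m q' q c) (t' : T') :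
    c t' ∈ eqLocus q Z₁ Z₂ ↔ t' ∈ eqLocus q' (m ⁻¹' Z₁) (m ⁻¹' Z₂) := by
  constructor
  · intro h z hz
    exact h (m z) (by rw [← hz, ← Scheme.Hom.comp_apply, sq.w]; rfl)
  · intro h z hz
    obtain ⟨z', rfl, hz'⟩ := Scheme.exists_preimage_of_isPullback sq z t' hz
    exact h z' hz'

end FinPart

/-- Two points with the same image in the base change and over the same point of the base agree if
the residue extension is purely inseparable. -/
theorem eq_of_purelyInseparable {Y U : Scheme.{u}} {p : Y ⟶ U} {g : T ⟶ U} {m : P ⟶ Y} {q : P ⟶ T}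
    (sq : IsPullback m q p g) (w w' : P) (hm : m w = m w') (hq : q w = q w')
    (hins : (p.residueFieldMap (m w)).hom.IsPurelyInseparable) : w = w' := by
  let v := m w
  let i := Y.fromSpecResidueField v
  have e : i ≫ p = Spec.map (p.residueFieldMap v) ≫ U.fromSpecResidueField (p v) :=
    (p.SpecMap_residueFieldMap_fromSpecResidueField v).symm
  have hS : UniversallyInjective (Spec.map (p.residueFieldMap v)) := by
    refine ((tfae_universallyInjective _).out 0 1).2 ?_
    intro K instK g₁ g₂ hg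
    obtain ⟨φ₁, rfl⟩ := Spec.map_surjective g₁
    obtain ⟨φ₂, rfl⟩ := Spec.map_surjective g₂
    simp only [← Spec.map_comp] at hg
    have h := congrArg CommRingCat.Hom.hom (Spec.map_injective hg)
    algebraize [(p.residueFieldMap v).hom]
    exact congrArg Spec.map (CommRingCat.hom_ext (IsPurelyInseparable.injective_comp_algebraMap
      (U.residueField (p v)) (Y.residueField v) K h))
  have : UniversallyInjective (U.fromSpecResidueField (p v)) := inferInstance
  have : UniversallyInjective (i ≫ p) := e ▸ MorphismProperty.comp_mem @UniversallyInjective _ _ hS this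
  let Q := pullback (i ≫ p) g
  let n : Q ⟶ P := sq.lift (pullback.fst _ _ ≫ i) (pullback.snd _ _)
    (by rw [Category.assoc, pullback.condition])
  have sq' : IsPullback (pullback.fst (i ≫ p) g) n i m :=
    IsPullback.of_bot (v₂₁ := q) (h₃₁ := g) (v₂₂ := p)
      (by simpa only [n, IsPullback.lift_snd] using IsPullback.of_hasPullback (i ≫ p) g)
      (by simp only [n, IsPullback.lift_fst]) sq
  have hv : i (IsLocalRing.closedPoint _) = v := Y.fromSpecResidueField_apply v _
  obtain ⟨a, -, ha⟩ := Scheme.exists_preimage_of_isPullback sq' (IsLocalRing.closedPoint _) w hv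
  obtain ⟨b, -, hb⟩ := Scheme.exists_preimage_of_isPullback sq' (IsLocalRing.closedPoint _) w'
    (hv.trans hm)
  have hn : n ≫ q = pullback.snd (i ≫ p) g := sq.lift_snd _ _ _
  rw [← ha, ← hb, ← Scheme.Hom.comp_apply, ← Scheme.Hom.comp_apply, hn] at hq
  have : UniversallyInjective (pullback.snd (i ≫ p) g) := MorphismProperty.pullback_snd _ _ ‹_›
  rw [← ha, ← hb, (pullback.snd (i ≫ p) g).injective hq]

end GrothLib.AlgSp
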