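import Groth.Agent.Lib.AlgSp.FinPartSet
import Groth.Agent.Lib.AlgSp.LqfScheme
import Groth.Agent.Lib.AlgSp.OpenSub
import Groth.Agent.Lib.Weight.Radicial

/-!
# The space of open and closed finite parts of a separated, flat, locally quasi-finite morphism

For `f : X ⟶ B` the sheaf `partSheaf f` sends `T` to pairs of a map `b : T ⟶ B` and a clopen subset of
`X ×_B T` finite over `T`; if `f` is separated, flat, locally of finite presentation and locally
quasi-finite it is represented by a scheme, etale and separated over `B`.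
-/

universe u

open CategoryTheory CategoryTheory.Limits AlgebraicGeometry Opposite Topology

namespace GrothLib.AlgSp

open _root_.AlgSp

/-- A covering sieve of the fppf site contains jointly surjective flat morphisms of finite presentation. -/
theorem exists_flat_mem_cover {S : Scheme.{u}} {U : Over S} {Sv : Sieve U} (h : Sv ∈ J S U) (x : ↥U.left) :
    ∃ (V : Over S) (c : V ⟶ U) (y : ↥V.left), Sv.arrows c ∧ c.left y = x ∧
      Flat c.left ∧ LocallyOfFinitePresentation c.left := by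
  obtain ⟨R, hR, hle⟩ := Precoverage.mem_toGrothendieck_iff_of_isStableUnderComposition.1
    (show Sieve.overEquiv U Sv ∈ Scheme.fppfTopology U.left from h)
  obtain ⟨Y, f, hf, y, hy⟩ := Scheme.JointlySurjective.exists_eq
    (K := Scheme.precoverage (@Flat ⊓ @LocallyOfFinitePresentation)) R hR x
  have hp : (@Flat ⊓ @LocallyOfFinitePresentation : MorphismProperty Scheme.{u}) f := hR.2 hf
  exact ⟨Over.mk (f ≫ U.hom), Over.homMk f rfl, y, (Sieve.overEquiv_iff _ f).1 (hle _ _ hf), hy, hp.1, hp.2⟩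

variable {S : Scheme.{u}} {X B : Over S} (f : X ⟶ B) {T T' T'' : Over S}

/-- The change of base map of `X ×_B T`. -/
noncomputable def pbMap (φ : T' ⟶ T) {b : T ⟶ B} {b' : T' ⟶ B} (h : φ ≫ b = b') :
    pullback f.left b'.left ⟶ pullback f.left b.left :=
  pullback.lift (pullback.fst _ _) (pullback.snd _ _ ≫ φ.left)
    (by subst h; rw [pullback.condition, Over.comp_left, Category.assoc])

@[reassoc (attr := simp)]
theorem pbMap_fst (φ : T' ⟶ T) {b : T ⟶ B} {b' : T' ⟶ B} (h : φ ≫ b = b') :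
    pbMap f φ h ≫ pullback.fst _ _ = pullback.fst _ _ := pullback.lift_fst _ _ _

@[reassoc (attr := simp)]
theorem pbMap_snd (φ : T' ⟶ T) {b : T ⟶ B} {b' : T' ⟶ B} (h : φ ≫ b = b') :
    pbMap f φ h ≫ pullback.snd _ _ = pullback.snd _ _ ≫ φ.left := pullback.lift_snd _ _ _

theorem isPullback_pbMap (φ : T' ⟶ T) {b : T ⟶ B} {b' : T' ⟶ B} (h : φ ≫ b = b') :
    IsPullback (pbMap f φ h) (pullback.snd f.left b'.left) (pullback.snd f.left b.left) φ.left := by
  refine IsPullback.of_right (h₁₂ := pullback.fst f.left b.left) (h₂₂ := b.left) ?_ (pbMap_snd f φ h)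
    (IsPullback.of_hasPullback _ _)
  rw [pbMap_fst, show φ.left ≫ b.left = b'.left from congrArg CommaMorphism.left h]
  exact IsPullback.of_hasPullback _ _

theorem pbMap_id (b : T ⟶ B) (h : 𝟙 T ≫ b = b) : pbMap f (𝟙 T) h = 𝟙 _ := by
  apply pullback.hom_ext <;> simp

theorem pbMap_comp (φ' : T'' ⟶ T') (φ : T' ⟶ T) {b : T ⟶ B} {b' : T' ⟶ B} {b'' : T'' ⟶ B}
    (h : φ ≫ b = b') (h' : φ' ≫ b' = b'') (h'' : (φ' ≫ φ) ≫ b = b'') :
    pbMap f φ' h' ≫ pbMap f φ h = pbMap f (φ' ≫ φ) h'' := by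
  apply pullback.hom_ext <;> simp

theorem preimage_pbMap (φ' : T'' ⟶ T') (φ : T' ⟶ T) {ψ : T'' ⟶ T} (hψ : φ' ≫ φ = ψ) {b : T ⟶ B}
    {b' : T' ⟶ B} {b'' : T'' ⟶ B} (h : φ ≫ b = b') (h' : φ' ≫ b' = b'') (h'' : ψ ≫ b = b'')
    (Z : Set ↥(pullback f.left b.left)) :
    pbMap f φ' h' ⁻¹' (pbMap f φ h ⁻¹' Z) = pbMap f ψ h'' ⁻¹' Z := by
  subst hψ
  rw [← pbMap_comp f φ' φ h h' h'']
  rfl

/-- A map to `B` and a clopen finite part of the pulled back `X`. -/
structure Part (T : Over S) where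
  b : T ⟶ B
  Z : Set ↥(pullback f.left b.left)
  prop : FinPart (pullback.snd f.left b.left) Z

variable {f}

noncomputable def Part.restr (φ : T' ⟶ T) (a : Part f T) : Part f T' :=
  ⟨φ ≫ a.b, pbMap f φ rfl ⁻¹' a.Z, a.prop.baseChange (isPullback_pbMap f φ rfl)⟩

theorem Part.eq_iff (a a' : Part f T) : a = a' ↔ ∃ h : 𝟙 T ≫ a.b = a'.b, a'.Z = pbMap f (𝟙 T) h ⁻¹' a.Z := by
  constructor
  · rintro rfl
    exact ⟨Category.id_comp _, by rw [pbMap_id]; rfl⟩
  · obtain ⟨b, Z, hZ⟩ := a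
    obtain ⟨b', Z', hZ'⟩ := a'
    rintro ⟨h, e⟩
    change 𝟙 T ≫ b = b' at h
    obtain rfl : b = b' := by rw [← h, Category.id_comp]
    change Z' = pbMap f (𝟙 T) h ⁻¹' Z at e
    rw [pbMap_id] at e
    subst e
    rfl

theorem Part.restr_eq_iff (φ : T' ⟶ T) (a : Part f T) (a' : Part f T') :
    a.restr φ = a' ↔ ∃ h : φ ≫ a.b = a'.b, a'.Z = pbMap f φ h ⁻¹' a.Z := by
  rw [Part.eq_iff]
  constructor
  · rintro ⟨h, e⟩
    have h' : φ ≫ a.b = a'.b := by rwa [Category.id_comp] at h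
    exact ⟨h', e.trans (preimage_pbMap f (𝟙 T') φ (Category.id_comp φ) rfl h h' a.Z)⟩
  · rintro ⟨h, e⟩
    exact ⟨(Category.id_comp _).trans h,
      e.trans (preimage_pbMap f (𝟙 T') φ (Category.id_comp φ) rfl ((Category.id_comp _).trans h) h a.Z).symm⟩

theorem Part.restr_id (a : Part f T) : a.restr (𝟙 T) = a :=
  (Part.restr_eq_iff _ _ _).2 ⟨Category.id_comp _, by rw [pbMap_id]; rfl⟩

theorem Part.restr_comp (φ' : T'' ⟶ T') (φ : T' ⟶ T) (a : Part f T) :
    a.restr (φ' ≫ φ) = (a.restr φ).restr φ' := by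
  refine (Part.restr_eq_iff _ _ _).2 ⟨Category.assoc _ _ _,
    preimage_pbMap f φ' φ rfl rfl rfl (Category.assoc _ _ _) a.Z⟩

variable (f) in
/-- The presheaf of clopen finite parts. -/
noncomputable def partPsh : (Over S)ᵒᵖ ⥤ Type (u + 1) where
  obj T := ULift.{u + 1} (Part f T.unop)
  map φ := ↾fun a => ⟨a.down.restr φ.unop⟩
  map_id T := by ext a; exact a.down.restr_id
  map_comp φ ψ := by ext a; exact a.down.restr_comp ψ.unop φ.unop

theorem mem_iff_of_restr_eq {T₁ T₂ T₁₂ : Over S} {c₁ : T₁ ⟶ T} {c₂ : T₂ ⟶ T} {g₁ : T₁₂ ⟶ T₁}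
    {g₂ : T₁₂ ⟶ T₂} (sq : IsPullback g₁ g₂ c₁ c₂) {b : T ⟶ B} {a₁ : Part f T₁} {a₂ : Part f T₂}
    (h₁ : c₁ ≫ b = a₁.b) (h₂ : c₂ ≫ b = a₂.b) (he : a₁.restr g₁ = a₂.restr g₂)
    (z₁ : ↥(pullback f.left a₁.b.left)) (z₂ : ↥(pullback f.left a₂.b.left))
    (hz : pbMap f c₁ h₁ z₁ = pbMap f c₂ h₂ z₂) : z₁ ∈ a₁.Z ↔ z₂ ∈ a₂.Z := by
  obtain ⟨hb, hZ⟩ := (Part.restr_eq_iff _ _ _).1 he
  change g₁ ≫ a₁.b = g₂ ≫ a₂.b at hb
  change pbMap f g₂ rfl ⁻¹' a₂.Z = pbMap f g₁ hb ⁻¹' a₁.Z at hZ
  have sqP : IsPullback (pbMap f g₁ hb) (pbMap f g₂ (rfl : g₂ ≫ a₂.b = g₂ ≫ a₂.b)) (pbMap f c₁ h₁) (pbMap f c₂ h₂) := by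
    refine IsPullback.of_bot (v₂₁ := pullback.snd _ _) (v₂₂ := pullback.snd _ _) (h₃₁ := c₂.left) ?_ ?_
      (isPullback_pbMap f c₂ h₂)
    · rw [pbMap_snd, pbMap_snd]
      exact (isPullback_pbMap f g₁ hb).paste_vert (sq.map (Over.forget S))
    · apply pullback.hom_ext
      · simp
      · simp only [Category.assoc, pbMap_snd, pbMap_snd_assoc, ← Over.comp_left, sq.w]
  obtain ⟨w, rfl, rfl⟩ := Scheme.exists_preimage_of_isPullback sqP z₁ z₂ hz
  exact (Set.ext_iff.1 hZ w).symm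

theorem isSheaf_partPsh : Presheaf.IsSheaf (J S) (partPsh f) := by
  rw [isSheaf_iff_isSheaf_of_type]
  intro T Sv hSv x hx
  have hB := (isSheaf_iff_isSheaf_of_type _ _).1 ((yon S).obj B).property Sv hSv
  let xb : Presieve.FamilyOfElements ((yon S).obj B).obj Sv.arrows := fun V c hc => ⟨(x c hc).down.b⟩
  have hxb : xb.Compatible := fun Y₁ Y₂ Z g₁ g₂ c₁ c₂ h₁ h₂ e => congrArg
    (fun a : (partPsh f).obj (op Z) => (ULift.up a.down.b : ULift.{u + 1} (Z ⟶ B))) (hx g₁ g₂ h₁ h₂ e)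
  obtain ⟨b, hb, hbu⟩ := hB xb hxb
  have hb' : ∀ ⦃V : Over S⦄ (c : V ⟶ T) (hc : Sv.arrows c), c ≫ b.down = (x c hc).down.b :=
    fun V c hc => congrArg ULift.down (hb c hc)
  have hmem : ∀ ⦃V₁ V₂ : Over S⦄ (c₁ : V₁ ⟶ T) (c₂ : V₂ ⟶ T) (h₁ : Sv.arrows c₁) (h₂ : Sv.arrows c₂) z₁ z₂,
      pbMap f c₁ (hb' c₁ h₁) z₁ = pbMap f c₂ (hb' c₂ h₂) z₂ →
      (z₁ ∈ (x c₁ h₁).down.Z ↔ z₂ ∈ (x c₂ h₂).down.Z) := fun V₁ V₂ c₁ c₂ h₁ h₂ z₁ z₂ hz =>
    mem_iff_of_restr_eq (IsPullback.of_hasPullback c₁ c₂) (hb' c₁ h₁) (hb' c₂ h₂)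
      (congrArg ULift.down (hx _ _ h₁ h₂ pullback.condition)) z₁ z₂ hz
  let Z : Set ↥(pullback f.left b.down.left) :=
    {z | ∃ (V : Over S) (c : V ⟶ T) (hc : Sv.arrows c) (z' : _), z' ∈ (x c hc).down.Z ∧ pbMap f c (hb' c hc) z' = z}
  have hpre : ∀ ⦃V : Over S⦄ (c : V ⟶ T) (hc : Sv.arrows c), pbMap f c (hb' c hc) ⁻¹' Z = (x c hc).down.Z := by
    intro V c hc
    ext z
    constructor
    · rintro ⟨V', c', hc', z', hz', e⟩
      exact (hmem c c' hc hc' z z' e.symm).2 hz'
    · exact fun hz => ⟨V, c, hc, z, hz, rfl⟩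
  have hP : FinPart (pullback.snd f.left b.down.left) Z := by
    refine FinPart.of_cover Z fun t => ?_
    obtain ⟨V, c, y, hc, hy, hfl, hfp⟩ := exists_flat_mem_cover hSv t
    exact ⟨_, _, _, _, _, isPullback_pbMap f c (hb' c hc), hfl, hfp, ⟨y, hy⟩, by
      rw [hpre c hc]; exact (x c hc).down.prop⟩
  refine ⟨⟨⟨b.down, Z, hP⟩⟩, fun V c hc => ?_, fun a ha => ?_⟩
  · exact congrArg ULift.up ((Part.restr_eq_iff c ⟨b.down, Z, hP⟩ _).2 ⟨hb' c hc, (hpre c hc).symm⟩)
  · obtain ⟨a⟩ := a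
    have hab : (ULift.up a.b : ULift.{u + 1} (T ⟶ B)) = b := hbu _ fun V c hc =>
      congrArg (fun a : (partPsh f).obj (op V) => (ULift.up a.down.b : ULift.{u + 1} (V ⟶ B))) (ha c hc)
    obtain ⟨ab, aZ, aP⟩ := a
    obtain rfl : ab = b.down := congrArg ULift.down hab
    suffices e : aZ = Z by subst e; rfl
    ext z
    obtain ⟨V, c, y, hc, hy, -, -⟩ := exists_flat_mem_cover hSv (pullback.snd f.left b.down.left z)
    obtain ⟨_, hZ⟩ := (Part.restr_eq_iff _ _ _).1 (congrArg ULift.down (ha c hc))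
    obtain ⟨z', rfl, -⟩ := Scheme.exists_preimage_of_isPullback (isPullback_pbMap f c (hb' c hc)) z y hy.symm
    exact (Set.ext_iff.1 hZ z').symm.trans (Set.ext_iff.1 (hpre c hc) z').symm

variable (f) in
/-- The sheaf of clopen finite parts. -/
noncomputable def partSheaf : Sp S := ⟨partPsh f, isSheaf_partPsh⟩

/-- Maps from schemes to the sheaf of parts. -/
noncomputable def partEquiv (T : Over S) : ((yon S).obj T ⟶ partSheaf f) ≃ Part f T :=
  ((J S).uliftYonedaEquiv.{u + 1}).trans Equiv.ulift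

theorem partEquiv_comp (φ : T' ⟶ T) (p : (yon S).obj T ⟶ partSheaf f) :
    partEquiv T' ((yon S).map φ ≫ p) = (partEquiv T p).restr φ := by
  change ((J S).uliftYonedaEquiv.{u + 1} ((yon S).map φ ≫ p)).down = _
  rw [← GrothendieckTopology.uliftYonedaEquiv_naturality]
  rfl

variable (f) in
/-- The structure map to `B`. -/
noncomputable def partπ : partSheaf f ⟶ (yon S).obj B :=
  ObjectProperty.homMk { app := fun T => ↾fun a => (⟨a.down.b⟩ : ULift.{u + 1} (T.unop ⟶ B)) }

theorem comp_partπ (p : (yon S).obj T ⟶ partSheaf f) : p ≫ partπ f = (yon S).map (partEquiv T p).b := by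
  apply (J S).uliftYonedaEquiv.{u + 1}.injective
  rw [GrothendieckTopology.uliftYonedaEquiv_comp]
  exact congrArg ULift.up (Category.id_comp (partEquiv T p).b).symm

theorem partEquiv_comp_eq_iff (φ : T' ⟶ T) (p : (yon S).obj T ⟶ partSheaf f) (p' : (yon S).obj T' ⟶ partSheaf f) :
    (yon S).map φ ≫ p = p' ↔ (partEquiv T p).restr φ = partEquiv T' p' := by
  rw [← partEquiv_comp]
  exact ⟨congrArg _, fun h => (partEquiv T').injective h⟩

/-- The open locus where two parts over the same map to `B` agree. -/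
def Part.eqSet (a : Part f T) (a' : Part f T) (h : 𝟙 T ≫ a.b = a'.b) : Set ↥T.left :=
  FinPart.eqLocus (pullback.snd f.left a'.b.left) (pbMap f (𝟙 T) h ⁻¹' a.Z) a'.Z

variable [Flat f.left] [LocallyOfFinitePresentation f.left]

theorem Part.isClopen_eqSet (a a' : Part f T) (h : 𝟙 T ≫ a.b = a'.b) : IsClopen (a.eqSet a' h) :=
  FinPart.isClopen_eqLocus (a.prop.baseChange (isPullback_pbMap f _ _)) a'.prop

theorem Part.restr_eq_restr_iff (a a' : Part f T) (h : 𝟙 T ≫ a.b = a'.b) (φ : T' ⟶ T) :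
    a.restr φ = a'.restr φ ↔ Set.range φ.left ⊆ a.eqSet a' h := by
  have hb : a.b = a'.b := (Category.id_comp _).symm.trans h
  rw [Part.restr_eq_iff]
  constructor
  · rintro ⟨h', e⟩ _ ⟨t, rfl⟩
    refine (FinPart.mem_eqLocus_iff (isPullback_pbMap f φ (rfl : φ ≫ a'.b = φ ≫ a'.b)) t).2 fun z _ => ?_
    rw [preimage_pbMap f φ (𝟙 T) (Category.comp_id φ) h rfl h']
    exact (Set.ext_iff.1 e z).symm
  · intro hr
    refine ⟨by change φ ≫ a.b = φ ≫ a'.b; rw [hb], Set.ext fun z => ?_⟩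
    have := (FinPart.mem_eqLocus_iff (isPullback_pbMap f φ (rfl : φ ≫ a'.b = φ ≫ a'.b)) _).1
      (hr ⟨pullback.snd f.left (φ ≫ a'.b).left z, rfl⟩) z rfl
    rw [preimage_pbMap f φ (𝟙 T) (Category.comp_id φ) h rfl (by rw [hb])] at this
    exact this.symm

/-- Two maps from schemes to the sheaf of parts have as fibre product a clopen subscheme of the fibre
product over `B`. -/
theorem exists_isPullback_partSheaf (p : (yon S).obj T ⟶ partSheaf f) (p' : (yon S).obj T' ⟶ partSheaf f)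
    {P : Over S} {π₁ : P ⟶ T} {π₂ : P ⟶ T'}
    (sq : IsPullback π₁ π₂ (partEquiv T p).b (partEquiv T' p').b) :
    ∃ (W : Over S) (j : W ⟶ P) (h : 𝟙 P ≫ ((partEquiv T p).restr π₁).b = ((partEquiv T' p').restr π₂).b),
      IsOpenImmersion j.left ∧ IsClosedImmersion j.left ∧
      Set.range j.left = ((partEquiv T p).restr π₁).eqSet ((partEquiv T' p').restr π₂) h ∧
      IsPullback ((yon S).map (j ≫ π₁)) ((yon S).map (j ≫ π₂)) p p' := by
  have h : 𝟙 P ≫ ((partEquiv T p).restr π₁).b = ((partEquiv T' p').restr π₂).b :=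
    (Category.id_comp _).trans sq.w
  let E : P.left.Opens := ⟨_, (Part.isClopen_eqSet _ _ h).isOpen⟩
  let j : Over.mk (E.ι ≫ P.hom) ⟶ P := Over.homMk E.ι rfl
  have hj : Set.range j.left = E := Scheme.Opens.range_ι E
  haveI : IsOpenImmersion j.left := inferInstanceAs (IsOpenImmersion E.ι)
  have hcl : IsClosedImmersion j.left := .of_isPreimmersion _ (by
    rw [hj]; exact (Part.isClopen_eqSet _ _ h).isClosed)
  refine ⟨_, j, h, inferInstanceAs (IsOpenImmersion E.ι), hcl, hj, isPullback_of_yon ?_ fun V u v huv => ?_⟩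
  · rw [(yon S).map_comp, (yon S).map_comp, Category.assoc, Category.assoc]
    apply (partEquiv _).injective
    rw [partEquiv_comp, partEquiv_comp, partEquiv_comp, partEquiv_comp,
      Part.restr_eq_restr_iff _ _ h, hj]
    rfl
  · obtain ⟨u, rfl⟩ := (yon S).map_surjective u
    obtain ⟨v, rfl⟩ := (yon S).map_surjective v
    have he := congrArg (partEquiv V) huv
    rw [partEquiv_comp, partEquiv_comp] at he
    let l : V ⟶ P := sq.lift u v (congrArg Part.b he)
    have hl : Set.range l.left ⊆ Set.range E.ι := by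
      rw [Scheme.Opens.range_ι]
      refine (Part.restr_eq_restr_iff _ _ h l).1 ?_
      rw [← Part.restr_comp, ← Part.restr_comp, sq.lift_fst, sq.lift_snd]
      exact he
    let l' : V ⟶ Over.mk (E.ι ≫ P.hom) := Over.homMk (IsOpenImmersion.lift E.ι l.left hl) (by
      change IsOpenImmersion.lift E.ι l.left hl ≫ E.ι ≫ P.hom = V.hom
      rw [IsOpenImmersion.lift_fac_assoc]; exact Over.w l)
    have hl' : l' ≫ j = l := Over.OverMorphism.ext (IsOpenImmersion.lift_fac _ _ _)
    refine ⟨(yon S).map l', ⟨?_, ?_⟩, ?_⟩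
    · rw [← Functor.map_comp, ← Category.assoc, hl', sq.lift_fst]
    · rw [← Functor.map_comp, ← Category.assoc, hl', sq.lift_snd]
    · rintro w ⟨hw₁, hw₂⟩
      obtain ⟨w, rfl⟩ := (yon S).map_surjective w
      rw [← Functor.map_comp, ← Category.assoc] at hw₁ hw₂
      congr 1
      have : Mono j.left := inferInstanceAs (Mono E.ι)
      have : Mono j := (Over.forget S).mono_of_mono_map this
      rw [← cancel_mono j, hl']
      exact sq.hom_ext (((yon S).map_injective hw₁).trans (sq.lift_fst _ _ _).symm)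
        (((yon S).map_injective hw₂).trans (sq.lift_snd _ _ _).symm)

theorem representable_diag_partSheaf : Representable (Limits.diag (partSheaf f)) := by
  rw [representable_diag_iff]
  intro T p T' p'
  obtain ⟨W, j, h, -, -, -, sq⟩ := exists_isPullback_partSheaf p p'
    (IsPullback.of_hasPullback (partEquiv T p).b (partEquiv T' p').b)
  exact ⟨_, _, _, sq⟩

omit [Flat f.left] [LocallyOfFinitePresentation f.left] in
/-- Clopen finite parts exist etale locally, with all possible fibres at a given finite set of points. -/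
theorem exists_part_chart [LocallyOfFiniteType f.left] [LocallyQuasiFinite f.left] [IsSeparated f.left]
    (b₀ : B.left) (xs : Finset X.left) (hxs : ∀ x ∈ xs, f.left x = b₀) :
    ∃ (V : Over S) (g : V ⟶ B) (u : V.left) (ι : Type) (a : Set ι → Part f V) (hb : ∀ s, (a s).b = g)
      (v : ι → ↥(pullback f.left g.left)),
      Etale g.left ∧ g.left u = b₀ ∧
      (∀ s, ∀ w, pullback.snd f.left g.left w = u →
        (pbMap f (𝟙 V) (by rw [hb, Category.id_comp] : 𝟙 V ≫ (a s).b = g) w ∈ (a s).Z ↔ ∃ i ∈ s, v i = w)) ∧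
      (∀ i, pullback.snd f.left g.left (v i) = u) ∧
      (∀ i, ((pullback.snd f.left g.left).residueFieldMap (v i)).hom.IsPurelyInseparable) ∧
      (∀ w, pullback.snd f.left g.left w = u → pullback.fst f.left g.left w ∈ xs → ∃ i, v i = w) := by
  let e := xs.equivFin
  obtain ⟨U, g, u, hg, hgu, J', hJ, Vp, v, hv, -, hall⟩ := GrothLib.Weight.exists_radicial_parts f.left b₀
    (fun i : Fin xs.card => (e.symm i : X.left)) (Subtype.val_injective.comp e.symm.injective)
    (fun i => hxs _ (e.symm i).2) (fun i => f.left.quasiFiniteAt _)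
  let V : Over S := Over.mk (g ≫ B.hom)
  let gV : V ⟶ B := Over.homMk g rfl
  let Q : (Σ i, J' i) → Set ↥(pullback f.left gV.left) := fun k => (Vp k.1 k.2).1
  have hQ : ∀ k, FinPart (pullback.snd f.left gV.left) (Q k) := fun k => by
    refine ⟨(Vp k.1 k.2).2, ?_, (hv k.1 k.2).2.1⟩
    have := (hv k.1 k.2).2.1
    have : IsFinite (Vp k.1 k.2).ι := IsFinite.of_comp _ (pullback.snd f.left g)
    have h := (Vp k.1 k.2).ι.isClosedMap.isClosed_range
    rwa [Scheme.Opens.range_ι] at h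
  let A : Set (Σ i, J' i) → Part f V := fun s => ⟨gV, ⋃ k ∈ s, Q k,
    FinPart.biUnion s.toFinite Q fun k _ => hQ k⟩
  refine ⟨V, gV, u, (Σ i, J' i), A, fun _ => rfl, fun k => v k.1 k.2, hg, hgu, fun s w hw => ?_,
    fun k => (hv k.1 k.2).2.2.1, fun k => ?_, fun w hw hwx => ?_⟩
  · rw [pbMap_id]
    change w ∈ ⋃ k ∈ s, Q k ↔ _
    simp only [Set.mem_iUnion, exists_prop]
    constructor
    · rintro ⟨k, hk, hwk⟩
      exact ⟨k, hk, ((hv k.1 k.2).2.2.2.1 w hwk hw).symm⟩
    · rintro ⟨k, hk, rfl⟩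
      exact ⟨k, hk, (hv k.1 k.2).1⟩
  · exact (hv k.1 k.2).2.2.2.2.1.2
  · obtain ⟨j, hj⟩ := hall w (e ⟨_, hwx⟩) hw (by simp; rfl)
    exact ⟨⟨_, j⟩, hj.symm⟩

/-- The sheaf of parts of a separated, flat, locally quasi-finite morphism of finite presentation is
represented by a scheme which is etale and separated over the base. -/
theorem exists_iso_partSheaf [LocallyQuasiFinite f.left] [IsSeparated f.left] :
    ∃ (W : Over S) (e : (yon S).obj W ≅ partSheaf f) (π : W ⟶ B),
      (yon S).map π = e.hom ≫ partπ f ∧ Etale π.left ∧ IsSeparated π.left := by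
  let I := Σ b : B.left, {xs : Finset X.left // ∀ x ∈ xs, f.left x = b}
  have key : ∀ k : I, _ := fun k => exists_part_chart (f := f) k.1 k.2.1 k.2.2
  choose V g u ι a hb v hg hu hmem hvu hins hall using key
  let I' : Type u := Σ k : I, Set (ι k)
  let c : (k : I') → (yon S).obj (V k.1) ⟶ partSheaf f := fun k => (partEquiv _).symm (a k.1 k.2)
  obtain ⟨p₀, hp₀, -⟩ := exists_hom_of_sigma (fun k : I' => V k.1) c
  let U₀ := sigmaOver fun k : I' => V k.1
  have hbc : ∀ k : I', sigmaι (fun k : I' => V k.1) k ≫ (partEquiv U₀ p₀).b = g k.1 := fun k => by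
    have := congrArg (partEquiv _) (hp₀ k)
    rw [partEquiv_comp, Equiv.apply_symm_apply] at this
    exact (congrArg Part.b this).trans (hb _ _)
  have hEt : Etale (partEquiv U₀ p₀).b.left := by
    refine (IsZariskiLocalAtSource.iff_of_openCover (P := @Etale) (sigmaOpenCover fun k : I' => (V k.1).left)).2
      fun k => ?_
    change Etale ((sigmaι (fun k : I' => V k.1) k).left ≫ _)
    rw [← Over.comp_left, hbc]
    exact hg _
  have hpe : RepWith @Etale p₀ := repWith_mk fun T p => by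
    have sq := IsPullback.of_hasPullback (partEquiv U₀ p₀).b (partEquiv T p).b
    obtain ⟨W, j, h, hj, -, -, sqW⟩ := exists_isPullback_partSheaf p₀ p sq
    refine ⟨W, _, _, sqW, ?_⟩
    have : Etale (pullback.snd (partEquiv U₀ p₀).b (partEquiv T p).b).left :=
      MorphismProperty.of_isPullback (sq.map (Over.forget S)) hEt
    exact MorphismProperty.comp_mem @Etale _ _ (inferInstance : Etale j.left) this
  have hps : RepWith @Surjective p₀ := repWith_mk fun T p => by
    have sq := IsPullback.of_hasPullback (partEquiv U₀ p₀).b (partEquiv T p).b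
    obtain ⟨W, j, h, -, -, hr, sqW⟩ := exists_isPullback_partSheaf p₀ p sq
    refine ⟨W, _, _, sqW, ⟨fun t => ?_⟩⟩
    let α := partEquiv T p
    have hfin : (pullback.fst f.left α.b.left '' (α.Z ∩ pullback.snd f.left α.b.left ⁻¹' {t})).Finite :=
      (α.prop.finite_fibre t).image _
    let k : I := ⟨α.b.left t, hfin.toFinset, fun x hx => by
      obtain ⟨z, ⟨-, hzt⟩, rfl⟩ := hfin.mem_toFinset.1 hx
      rw [← hzt, ← Scheme.Hom.comp_apply, ← Scheme.Hom.comp_apply, pullback.condition]⟩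
    -- the chart at the point
    have sqk := IsPullback.of_hasPullback (g k) α.b
    obtain ⟨y, hy₁, hy₂⟩ := Scheme.exists_preimage_of_isPullback (sqk.map (Over.forget S)) (u k) t (hu k)
    let P := pullback (g k) α.b
    let m₁ := pbMap f (pullback.fst (g k) α.b) (rfl : _ ≫ g k = pullback.fst (g k) α.b ≫ g k)
    let m₂ := pbMap f (pullback.snd (g k) α.b) (pullback.condition (f := g k) (g := α.b)).symm
    let s : Set (ι k) := {i | ∃ w, pullback.snd f.left (pullback.fst (g k) α.b ≫ g k).left w = y ∧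
      m₂ w ∈ α.Z ∧ m₁ w = v k i}
    have key : ∀ w, pullback.snd f.left (pullback.fst (g k) α.b ≫ g k).left w = y →
        ((∃ i ∈ s, v k i = m₁ w) ↔ m₂ w ∈ α.Z) := by
      intro w hw
      have h₁ : pullback.snd f.left (g k).left (m₁ w) = u k := by
        rw [← Scheme.Hom.comp_apply, pbMap_snd, Scheme.Hom.comp_apply, hw]; exact hy₁
      have h₂ : pullback.snd f.left α.b.left (m₂ w) = t := by
        rw [← Scheme.Hom.comp_apply, pbMap_snd, Scheme.Hom.comp_apply, hw]; exact hy₂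
      constructor
      · rintro ⟨i, ⟨w', hw', hZ', hv'⟩, hi⟩
        have : w' = w := eq_of_purelyInseparable (isPullback_pbMap f _ _) w' w (hv'.trans hi)
          (hw'.trans hw.symm) (by rw [hv']; exact hins k i)
        rwa [← this]
      · intro hZ
        obtain ⟨i, hi⟩ := hall k (m₁ w) h₁ (hfin.mem_toFinset.2 ⟨m₂ w, ⟨hZ, h₂⟩, by
          simp only [m₁, m₂, ← Scheme.Hom.comp_apply, pbMap_fst]⟩)
        exact ⟨i, ⟨w, hw, hZ, hi.symm⟩, hi⟩
    let k' : I' := ⟨k, s⟩
    let μ : P ⟶ pullback (partEquiv U₀ p₀).b α.b :=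
      pullback.map _ _ _ _ (sigmaι (fun k : I' => V k.1) k') (𝟙 T) (𝟙 B)
        (by rw [Category.comp_id, hbc]) (by rw [Category.comp_id, Category.id_comp])
    suffices hmem : μ.left y ∈ Set.range j.left by
      obtain ⟨w, hw⟩ := hmem
      refine ⟨w, ?_⟩
      rw [Over.comp_left, Scheme.Hom.comp_apply, hw, ← Scheme.Hom.comp_apply, ← Over.comp_left,
        pullback.lift_snd, Category.comp_id]
      exact hy₂
    rw [hr]
    let A₁ := (partEquiv U₀ p₀).restr (pullback.fst (partEquiv U₀ p₀).b α.b)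
    let A₂ := α.restr (pullback.snd (partEquiv U₀ p₀).b α.b)
    have e₁ : A₁.restr μ = (a k s).restr (pullback.fst (g k) α.b) := by
      rw [← Part.restr_comp, pullback.lift_fst, Part.restr_comp]
      congr 1
      rw [← partEquiv_comp, hp₀, Equiv.apply_symm_apply]
    have e₂ : A₂.restr μ = α.restr (pullback.snd (g k) α.b) := by
      rw [← Part.restr_comp, pullback.lift_snd, Category.comp_id]
    obtain ⟨hb₁, hZ₁⟩ := (Part.restr_eq_iff _ _ _).1 e₁
    obtain ⟨hb₂, hZ₂⟩ := (Part.restr_eq_iff _ _ _).1 e₂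
    have hβ₂ : μ ≫ A₂.b = pullback.fst (g k) α.b ≫ g k := hb₂.trans pullback.condition.symm
    refine (FinPart.mem_eqLocus_iff (isPullback_pbMap f μ hβ₂) y).2 fun w hw => ?_
    have hβ₁ : μ ≫ A₁.b = pullback.fst (g k) α.b ≫ g k := hb₁.trans (congrArg (pullback.fst (g k) α.b ≫ ·) (hb k s))
    have q₁ := preimage_pbMap f μ (𝟙 _) (Category.comp_id μ) h hβ₂ hβ₁ A₁.Z
    rw [Set.ext_iff.1 q₁ w]
    have q₃ := preimage_pbMap f (𝟙 P) μ (Category.id_comp μ) hb₁
      (by rw [Category.id_comp]; exact congrArg (pullback.fst (g k) α.b ≫ ·) (hb k s)) hβ₁ A₁.Z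
    have q₄ := preimage_pbMap f (𝟙 P) μ (Category.id_comp μ) hb₂
      (by rw [Category.id_comp]; exact pullback.condition.symm) hβ₂ A₂.Z
    rw [← Set.ext_iff.1 q₃ w, ← Set.ext_iff.1 q₄ w, ← hZ₁, ← hZ₂]
    change pbMap f (𝟙 P) _ w ∈ pbMap f (pullback.fst (g k) α.b) rfl ⁻¹' (a k s).Z ↔
      pbMap f (𝟙 P) _ w ∈ pbMap f (pullback.snd (g k) α.b) rfl ⁻¹' α.Z
    rw [← Set.mem_preimage, preimage_pbMap f (𝟙 P) _ (Category.id_comp _) rfl _
        (congrArg (pullback.fst (g k) α.b ≫ ·) (hb k s) : _ = pullback.fst (g k) α.b ≫ g k),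
      ← preimage_pbMap f (pullback.fst (g k) α.b) (𝟙 _) (Category.comp_id _) (by rw [hb k s, Category.id_comp] : _ = g k) rfl,
      ← Set.mem_preimage, preimage_pbMap f (𝟙 P) _ (Category.id_comp _) rfl _ pullback.condition.symm]
    rw [Set.mem_preimage, Set.mem_preimage, Set.mem_preimage, ← key w hw]
    exact hmem k s _ (by rw [← Scheme.Hom.comp_apply, pbMap_snd, Scheme.Hom.comp_apply, hw]; exact hy₁)
  have hA : IsAlgSpace (partSheaf f) := ⟨representable_diag_partSheaf, _, _, hpe, hps⟩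
  have hlqf : LocP (@LocallyQuasiFinite ⊓ @LocallyOfFiniteType) (partπ f) :=
    EtLocal.locP_of_chart (EtLocal.inf EtLocal.lqf EtLocal.lft) hpe hps (repWith_id _ B)
      (by rw [Category.comp_id]; exact comp_partπ p₀)
      ⟨locallyQuasiFinite_of_unramified _, inferInstance⟩
  have hsep : IsSeparatedMor (partπ f) := by
    refine repWith_mk fun T g => ?_
    let p := g ≫ pullback.fst (partπ f) (partπ f)
    let p' := g ≫ pullback.snd (partπ f) (partπ f)
    have hbb : (partEquiv T p).b = (partEquiv T p').b := (yon S).map_injective (by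
      rw [← comp_partπ, ← comp_partπ, Category.assoc, Category.assoc, pullback.condition])
    have hh : 𝟙 T ≫ (partEquiv T p).b = (partEquiv T p').b := by rw [Category.id_comp, hbb]
    let E : T.left.Opens := ⟨_, (Part.isClopen_eqSet _ _ hh).isOpen⟩
    let j : Over.mk (E.ι ≫ T.hom) ⟶ T := Over.homMk E.ι rfl
    have hj : Set.range j.left = E := Scheme.Opens.range_ι E
    haveI : IsOpenImmersion j.left := inferInstanceAs (IsOpenImmersion E.ι)
    have hcl : IsClosedImmersion j.left := .of_isPreimmersion _ (by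
      rw [hj]; exact (Part.isClopen_eqSet _ _ hh).isClosed)
    have hjp : (yon S).map j ≫ p = (yon S).map j ≫ p' := (partEquiv _).injective (by
      rw [partEquiv_comp, partEquiv_comp, Part.restr_eq_restr_iff _ _ hh, hj]; rfl)
    refine ⟨_, (yon S).map j ≫ p, j, isPullback_of_yon ?_ fun V u v huv => ?_, hcl⟩
    · apply pullback.hom_ext <;> simp only [Category.assoc, pullback.diagonal_fst, pullback.diagonal_snd,
        Category.comp_id] <;> first | rfl | exact hjp
    · obtain ⟨v, rfl⟩ := (yon S).map_surjective v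
      have h1 : u = (yon S).map v ≫ p := by
        simpa [p] using congrArg (· ≫ pullback.fst (partπ f) (partπ f)) huv
      have h2 : u = (yon S).map v ≫ p' := by
        simpa [p'] using congrArg (· ≫ pullback.snd (partπ f) (partπ f)) huv
      have he := congrArg (partEquiv V) (h1.symm.trans h2)
      rw [partEquiv_comp, partEquiv_comp, Part.restr_eq_restr_iff _ _ hh] at he
      have hv' : Set.range v.left ⊆ Set.range E.ι := by rw [Scheme.Opens.range_ι]; exact he
      let l' : V ⟶ Over.mk (E.ι ≫ T.hom) := Over.homMk (IsOpenImmersion.lift E.ι v.left hv') (by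
        change IsOpenImmersion.lift E.ι v.left hv' ≫ E.ι ≫ T.hom = V.hom
        rw [IsOpenImmersion.lift_fac_assoc]; exact Over.w v)
      have hl' : l' ≫ j = v := Over.OverMorphism.ext (IsOpenImmersion.lift_fac _ _ _)
      refine ⟨(yon S).map l', ⟨by rw [← Functor.map_comp_assoc, hl', h1], by rw [← Functor.map_comp, hl']⟩, ?_⟩
      rintro w ⟨-, hw⟩
      obtain ⟨w, rfl⟩ := (yon S).map_surjective w
      rw [← Functor.map_comp] at hw
      congr 1
      have : Mono j.left := inferInstanceAs (Mono E.ι)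
      have : Mono j := (Over.forget S).mono_of_mono_map this
      rw [← cancel_mono j, hl']
      exact (yon S).map_injective hw
  obtain ⟨W, ⟨e⟩⟩ := exists_iso_yon_of_lqf_separated hA (partπ f) hlqf hsep
  have hlet : LocP @Etale (partπ f) :=
    EtLocal.locP_of_chart EtLocal.etale hpe hps (repWith_id _ B)
      (by rw [Category.comp_id]; exact comp_partπ p₀) hEt
  have hrep : Representable (partπ f) := representable_of_lqf_separated hA (IsAlgSpace.yon_obj B) hlqf hsep
  have he : (yon S).map ((yon S).preimage (e.hom ≫ partπ f)) = e.hom ≫ partπ f := Functor.map_preimage _ _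
  refine ⟨W, e, _, he, ?_, ?_⟩
  · rw [← repWith_yon_map_iff @Etale, he]
    exact repWith_comp (repWith_iso _) ((EtLocal.locP_iff_repWith EtLocal.etale (IsAlgSpace.yon_obj B) hrep).1 hlet)
  · rw [← repWith_yon_map_iff @IsSeparated, he]
    exact repWith_comp (repWith_iso _) ((isSeparatedMor_iff_repWith hrep).1 hsep)

end GrothLib.AlgSp
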