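import Groth.Agent.Lib.AlgSp.SchematicDense
import Groth.Agent.Lib.AlgSp.DecentBridge
import Groth.Agent.Lib.AlgSp.Decent

/-!
# A space with a finite surjective chart is decent
-/

universe u

open CategoryTheory CategoryTheory.Limits AlgebraicGeometry

namespace GrothLib.AlgSp

open _root_.AlgSp

variable {S : Scheme.{u}} {X : Sp S}

theorem isDecent_of_finite_chart (hX : IsAlgSpace X) {U : Over S} {a : (yon S).obj U ⟶ X}
    (hf : RepWith @IsFinite a) (hs : RepWith @Surjective a) : IsDecent X := by
  intro x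
  obtain ⟨K, _, str, g, rfl⟩ := exists_ofPt x
  let q : FieldPt X := FieldPt.ofPt g (IsLocalRing.closedPoint K)
  show ∃ p : FieldPt X, Points.mk p = Points.mk q ∧ _
  refine exists_mono_qc_of_compact hX q fun U' φ hU' hφ W c d sq => ?_
  obtain ⟨T, e, f, sqT⟩ := exists_isPullback_yon hX.diag a q.toHom
  haveI : IsFinite f.left := hf.2 _ _ _ sqT
  haveI : Surjective f.left := hs.2 _ _ _ sqT
  obtain ⟨A, k, l, sqA⟩ := exists_isPullback_yon hX.diag a φ
  haveI : IsFinite l.left := hf.2 _ _ _ sqA
  haveI : CompactSpace ↥A.left := QuasiCompact.compactSpace_of_compactSpace l.left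
  haveI : Finite ↥q.pt.left := finite_spec_field q.K
  haveI : Finite ↥T.left := Set.finite_univ_iff.1 (f.left.finite_preimage (Set.finite_univ (α := ↥q.pt.left)))
  haveI : QuasiCompact e.left := quasiCompact_of_finite _
  haveI : QuasiCompact (pullback.snd e.left k.left) := inferInstance
  haveI : CompactSpace ↥(pullback e.left k.left) := QuasiCompact.compactSpace_of_compactSpace (pullback.snd e.left k.left)
  let Z : Over S := Over.mk (pullback.fst e.left k.left ≫ T.hom)
  let z₁ : Z ⟶ T := Over.homMk (pullback.fst e.left k.left) rfl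
  let z₂ : Z ⟶ A := Over.homMk (pullback.snd e.left k.left) (by
    show pullback.snd e.left k.left ≫ A.hom = pullback.fst e.left k.left ≫ T.hom
    rw [← Over.w k, ← pullback.condition_assoc, Over.w e])
  have hz : z₁ ≫ e = z₂ ≫ k := Over.OverMorphism.ext pullback.condition
  obtain ⟨m, hm⟩ := (yon S).map_surjective (sq.lift ((yon S).map (z₁ ≫ f)) ((yon S).map (z₂ ≫ l)) (by
    rw [Functor.map_comp, Category.assoc, ← sqT.w, Functor.map_comp, Category.assoc, ← sqA.w,
      ← Functor.map_comp_assoc, ← Functor.map_comp_assoc, hz]))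
  have hm₁ : m ≫ c = z₁ ≫ f := (yon S).map_injective (by rw [Functor.map_comp, hm, sq.lift_fst])
  have hm₂ : m ≫ d = z₂ ≫ l := (yon S).map_injective (by rw [Functor.map_comp, hm, sq.lift_snd])
  -- `m` is surjective
  have hms : Function.Surjective m.left := by
    intro w
    haveI : Nonempty ↥T.left := ⟨(f.left.surjective (IsLocalRing.closedPoint q.K)).choose⟩
    let i : Over.mk (W.left.fromSpecResidueField w ≫ W.hom) ⟶ W := Over.homMk (W.left.fromSpecResidueField w) rfl
    obtain ⟨Q, q₁, q₂, sqQ⟩ := exists_isPullback_yon (IsAlgSpace.yon_obj q.pt).diag ((yon S).map f) ((yon S).map (i ≫ c))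
    haveI : Surjective q₂.left := ((repWith_yon_map_iff (@Surjective) f).2 ‹Surjective f.left›).2 _ _ _ sqQ
    obtain ⟨y, -⟩ := q₂.left.surjective (IsLocalRing.closedPoint (W.left.residueField w))
    obtain ⟨r, hr⟩ := (yon S).map_surjective (sqA.lift ((yon S).map (q₁ ≫ e)) ((yon S).map (q₂ ≫ i ≫ d)) (by
      rw [Functor.map_comp, Category.assoc, sqT.w, reassoc_of% sqQ.w, Functor.map_comp, Category.assoc, sq.w]
      simp only [Functor.map_comp, Category.assoc]))
    have hr₁ : r ≫ k = q₁ ≫ e := (yon S).map_injective (by rw [Functor.map_comp, hr, sqA.lift_fst])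
    have hr₂ : r ≫ l = q₂ ≫ i ≫ d := (yon S).map_injective (by rw [Functor.map_comp, hr, sqA.lift_snd])
    let n : Q ⟶ Z := Over.homMk (pullback.lift q₁.left r.left
      (by rw [← Over.comp_left, ← Over.comp_left, hr₁])) (by
      show _ ≫ pullback.fst e.left k.left ≫ T.hom = _
      rw [pullback.lift_fst_assoc, Over.w q₁])
    have hn₁ : n ≫ z₁ = q₁ := Over.OverMorphism.ext (pullback.lift_fst _ _ _)
    have hn₂ : n ≫ z₂ = r := Over.OverMorphism.ext (pullback.lift_snd _ _ _)
    have hnm : n ≫ m = q₂ ≫ i := by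
      refine (yon S).map_injective (sq.hom_ext ?_ ?_)
      · rw [← Functor.map_comp, ← Functor.map_comp, Category.assoc, hm₁, reassoc_of% hn₁, Category.assoc,
          Functor.map_comp, sqQ.w, ← Functor.map_comp]
      · rw [← Functor.map_comp, ← Functor.map_comp, Category.assoc, hm₂, reassoc_of% hn₂, hr₂, Category.assoc]
    refine ⟨n.left y, ?_⟩
    rw [← Scheme.Hom.comp_apply, ← Over.comp_left, hnm, Over.comp_left, Scheme.Hom.comp_apply]
    exact Scheme.fromSpecResidueField_apply _ _
  haveI : CompactSpace ↥Z.left := inferInstanceAs (CompactSpace ↥(pullback e.left k.left))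
  exact hms.compactSpace m.left.continuous

end GrothLib.AlgSp
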