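import Groth.Agent.Lib.AlgSp.UnivClosed
import Groth.Agent.Lib.AlgSp.UnramMono
import Groth.Agent.Lib.AlgSp.RedInduced

/-!
# Closed subspaces proper over a base

* `isProperMor_of_isPullback`.
* `isProperMor_of_range_subset`: closed subspaces inside the image of a proper one are proper.
* `exists_closed_image`: images of closed subspaces proper over the base.
-/

universe u

open CategoryTheory CategoryTheory.Limits AlgebraicGeometry

namespace GrothLib.AlgSp

open _root_.AlgSp

variable {S : Scheme.{u}}

/-- Proper morphisms are stable under base change. -/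
theorem isProperMor_of_isPullback {X Y X' Y' : Sp S} {f : X ⟶ Y} {g : Y' ⟶ Y} {fst : X' ⟶ X} {f' : X' ⟶ Y'}
    (hX : IsAlgSpace X) (hY : IsAlgSpace Y) (hY' : IsAlgSpace Y') (sq : IsPullback fst f' f g)
    (h : IsProperMor f) : IsProperMor f' := by
  have hX' := isAlgSpace_pullback hY.diag hX hY' sq
  refine ⟨?_, ⟨EtLocal.locP_of_isPullback EtLocal.lft hX hY hY' sq h.2.1.1, ?_⟩, univSp_of_isPullback sq h.2.2⟩
  · exact repWith_of_isPullback (isPullback_diagonal_of_isPullback sq) h.1
  · exact isQuasiCompactMor_of_isUnivClosedMor hX' hY' (univSp_of_isPullback sq h.2.2)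

theorem isUnivClosedMor_of_closedImmersion {X Y : Sp S} {i : X ⟶ Y} (hi : RepWith @IsClosedImmersion i) :
    IsUnivClosedMor i :=
  isUnivClosedMor_of_repWith (repWith_mono hi fun _ _ g (hg : IsClosedImmersion g) => inferInstance)

/-- A closed subspace inside the image of a universally closed `g` with proper composite is proper. -/
theorem isProperMor_of_range_subset {Z Z' Y B : Sp S} (hZ : IsAlgSpace Z) (hY : IsAlgSpace Y) (hB : IsAlgSpace B)
    {g : Z ⟶ Y} {i' : Z' ⟶ Y} {b : Y ⟶ B} (hi' : RepWith @IsClosedImmersion i')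
    (hg : IsUnivClosedMor g) (hp : IsProperMor (g ≫ b)) (hb : LocP @LocallyOfFiniteType b)
    (hr : Set.range (Points.map i') ⊆ Set.range (Points.map g)) : IsProperMor (i' ≫ b) := by
  have hZ' : IsAlgSpace Z' := isAlgSpace_of_representable hY hi'.1
  have sq := IsPullback.of_hasPullback g i'
  have hP := isAlgSpace_pullback' hY hZ hZ' g i'
  have hq : IsSurjectiveMor (pullback.snd g i') := fun z => by
    obtain ⟨x, hx⟩ := hr ⟨z, rfl⟩
    obtain ⟨p, -, hp⟩ := exists_of_isPullback sq hx
    exact ⟨p, hp⟩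
  have hqc := univSp_of_isPullback sq hg
  have hc : IsProperMor (pullback.snd g i' ≫ i' ≫ b) := by
    rw [← Category.assoc, ← pullback.condition, Category.assoc]
    exact isProperMor_comp hP hZ hB
      (isProperMor_of_repWith_isClosedImmersion hZ (repWith_of_isPullback sq.flip hi')) hp
  have huc : IsUnivClosedMor (i' ≫ b) := isUnivClosedMor_of_surjective_comp hq hc.2.2
  exact ⟨(separation_of_surjective_univClosed hP hZ' hB hq hqc).2 hc.1,
    ⟨EtLocal.locP_comp EtLocal.lft hZ' hY hB (isProperMor_of_repWith_isClosedImmersion hY hi').2.1.1 hb,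
      isQuasiCompactMor_of_isUnivClosedMor hZ' hB huc⟩, huc⟩

/-- Images of subspaces proper over the base. -/
theorem exists_closed_image {Z Y B : Sp S} (hZ : IsAlgSpace Z) (hY : IsAlgSpace Y) (hB : IsAlgSpace B)
    {g : Z ⟶ Y} {b : Y ⟶ B} (hg : IsUnivClosedMor g) (hp : IsProperMor (g ≫ b))
    (hb : LocP @LocallyOfFiniteType b) :
    IsClosed (Set.range (Points.map g)) ∧ ∃ (Z' : Sp S) (i' : Z' ⟶ Y), IsAlgSpace Z' ∧
      RepWith @IsClosedImmersion i' ∧ Set.range (Points.map i') = Set.range (Points.map g) ∧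
      IsProperMor (i' ≫ b) := by
  have hc := isClosed_range_of_isUnivClosedMor hY hg
  obtain ⟨Z', i', hZ', hi', hr, -⟩ := exists_isRedInduced_sp hY hc
  exact ⟨hc, Z', i', hZ', hi', hr, isProperMor_of_range_subset hZ hY hB hi' hg hp hb hr.le⟩

theorem range_map_comp {X Y Z : Sp S} (f : X ⟶ Y) (g : Y ⟶ Z) :
    Set.range (Points.map (f ≫ g)) = Points.map g '' Set.range (Points.map f) := by
  rw [show Points.map (f ≫ g) = Points.map g ∘ Points.map f from funext (Points.map_comp f g), Set.range_comp]

end GrothLib.AlgSp
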