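import Groth.Agent.Lib.AlgSp.LocP
import Groth.Agent.Lib.AlgSp.Points
import Groth.Agent.Lib.AlgSp.FormalLiftSpace
import Groth.Agent.Lib.FSchSys.Ker
import Groth.Agent.Lib.UnivThick.FOT
import Groth.Agent.S7408
import Groth.Prelude.Def_AlgSpDec

/-!
# Cartesian squares of thickenings on charts

Main results:
* `exists_thick_charts`: atlases reducing a cartesian square over a thickening to schemes;
* `locP_thick_iff`, `forall_hasAtMor_fibreDim_iff`, `fibreDimAt_thick`.
-/

universe u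

open CategoryTheory CategoryTheory.Limits AlgebraicGeometry Opposite TopologicalSpace

namespace GrothLib.AlgSp

open _root_.AlgSp

variable {S : Scheme.{u}} {X X' Y Y' : Sp S}

/-- Atlases turning a cartesian square over a thickening into one of schemes. -/
structure ThickCharts (i : X ⟶ X') (j : Y ⟶ Y') (f : X ⟶ Y) (f' : X' ⟶ Y') where
  U : Over S
  U' : Over S
  V : Over S
  V' : Over S
  a : (yon S).obj U ⟶ X
  a' : (yon S).obj U' ⟶ X'
  b : (yon S).obj V ⟶ Y
  b' : (yon S).obj V' ⟶ Y'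
  h : U ⟶ V
  h' : U' ⟶ V'
  iU : U ⟶ U'
  jV : V ⟶ V'
  ae : RepWith @Etale a
  as : RepWith @Surjective a
  ae' : RepWith @Etale a'
  as' : RepWith @Surjective a'
  be : RepWith @Etale b
  bs : RepWith @Surjective b
  be' : RepWith @Etale b'
  bs' : RepWith @Surjective b'
  comm : a ≫ f = (yon S).map h ≫ b
  comm' : a' ≫ f' = (yon S).map h' ≫ b'
  sq : IsPullback iU.left h.left h'.left jV.left
  sqV : IsPullback b ((yon S).map jV) j b'
  sqU : IsPullback a ((yon S).map iU) i a'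
  thickV : MoreMor.IsThickening jV.left

theorem exists_thick_charts_of {i : X ⟶ X'} {j : Y ⟶ Y'} {f : X ⟶ Y} {f' : X' ⟶ Y'} (hX' : IsAlgSpace X')
    (hY' : IsAlgSpace Y') (hj : IsThickMor j) (hc : IsPullback i f f' j) {V' V : Over S}
    {b' : (yon S).obj V' ⟶ Y'} (be' : RepWith @Etale b') (bs' : RepWith @Surjective b')
    {b : (yon S).obj V ⟶ Y} {jV : V ⟶ V'} (sqV : IsPullback b ((yon S).map jV) j b') :
    ∃ (U U' : Over S) (a : (yon S).obj U ⟶ X) (a' : (yon S).obj U' ⟶ X') (h : U ⟶ V) (h' : U' ⟶ V') (iU : U ⟶ U'),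
      RepWith @Etale a ∧ RepWith @Surjective a ∧ RepWith @Etale a' ∧ RepWith @Surjective a' ∧
      a ≫ f = (yon S).map h ≫ b ∧ a' ≫ f' = (yon S).map h' ≫ b' ∧
      IsPullback iU.left h.left h'.left jV.left ∧ IsPullback a ((yon S).map iU) i a' := by
  obtain ⟨U', a', h', ae', comm', hs⟩ := exists_chart_over hX' hY' f' b' be'
  have hi : Representable i := (repWith_of_isPullback hc.flip hj).1
  obtain ⟨U, a, iU, sqU⟩ := exists_isPullback_of_representable hi a'
  have hw : (a ≫ f) ≫ j = (yon S).map (iU ≫ h') ≫ b' := by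
    rw [Functor.map_comp, Category.assoc, Category.assoc, ← hc.w, ← Category.assoc, sqU.w, Category.assoc, comm']
  obtain ⟨h, hh⟩ := (yon S).map_surjective (sqV.lift (a ≫ f) ((yon S).map (iU ≫ h')) hw)
  have h1 : (yon S).map h ≫ b = a ≫ f := by rw [hh]; exact sqV.lift_fst _ _ _
  have h2 : h ≫ jV = iU ≫ h' := (yon S).map_injective (by
    rw [Functor.map_comp, hh]; exact sqV.lift_snd _ _ _)
  have sqh : IsPullback ((yon S).map h) ((yon S).map iU) ((yon S).map jV) ((yon S).map h') := by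
    refine IsPullback.of_right ?_ (by rw [← Functor.map_comp, h2, Functor.map_comp]) sqV
    rw [h1, ← comm']
    exact sqU.paste_horiz hc.flip
  exact ⟨U, U', a, a', h, h', iU, repWith_of_isPullback sqU.flip ae', repWith_of_isPullback sqU.flip (hs bs'),
    ae', hs bs', h1.symm, comm', isPullback_left (isPullback_of_isPullback_yon sqh).flip, sqU⟩

theorem exists_thick_charts {i : X ⟶ X'} {j : Y ⟶ Y'} {f : X ⟶ Y} {f' : X' ⟶ Y'} (hX' : IsAlgSpace X')
    (hY' : IsAlgSpace Y') (hj : IsThickMor j) (hc : IsPullback i f f' j) :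
    Nonempty (ThickCharts i j f f') := by
  obtain ⟨V', b', be', bs'⟩ := hY'.atlas
  obtain ⟨V, b, jV, sqV⟩ := exists_isPullback_of_representable hj.1 b'
  obtain ⟨U, U', a, a', h, h', iU, ae, as, ae', as', comm, comm', sq, sqU⟩ :=
    exists_thick_charts_of hX' hY' hj hc be' bs' sqV
  exact ⟨⟨U, U', V, V', a, a', b, b', h, h', iU, jV, ae, as, ae', as', repWith_of_isPullback sqV.flip be',
    repWith_of_isPullback sqV.flip bs', be', bs', comm, comm', sq, sqV, sqU, hj.2 _ _ _ sqV⟩⟩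

/-- Compatible charts for a deformation `X' ⟶ Y' ⟶ B'` over a thickening. -/
theorem exists_deform_charts {B B' : Sp S} {iX : X ⟶ X'} {iY : Y ⟶ Y'} {iB : B ⟶ B'} {f : X ⟶ Y} {f' : X' ⟶ Y'}
    {g : Y ⟶ B} {g' : Y' ⟶ B'} (hX' : IsAlgSpace X') (hY' : IsAlgSpace Y') (hB' : IsAlgSpace B')
    (hB : IsThickMor iB) (hcX : IsPullback iX (f ≫ g) (f' ≫ g') iB) (hcY : IsPullback iY g g' iB)
    (w : iX ≫ f' = f ≫ iY) :
    ∃ (c : ThickCharts iX iY f f') (c₁ : ThickCharts iY iB g g') (k : c.V ⟶ c₁.V) (k' : c.V' ⟶ c₁.V'),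
      IsPullback c.jV.left k.left k'.left c₁.jV.left ∧
      IsPullback c.iU.left (c.h ≫ k).left (c.h' ≫ k').left c₁.jV.left ∧
      c.a' ≫ f' ≫ g' = (yon S).map (c.h' ≫ k') ≫ c₁.b' ∧ c.b' ≫ g' = (yon S).map k' ≫ c₁.b' := by
  obtain ⟨c₁⟩ := exists_thick_charts hY' hB' hB hcY
  have hY : IsThickMor iY := repWith_of_isPullback hcY.flip hB
  obtain ⟨U, U', a, a', h, h', iU, ae, as, ae', as', comm, comm', sq, sqU⟩ :=
    exists_thick_charts_of hX' hY' hY (IsPullback.of_bot hcX w hcY) c₁.ae' c₁.as' c₁.sqU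
  refine ⟨⟨U, U', c₁.U, c₁.U', a, a', c₁.a, c₁.a', h, h', iU, c₁.iU, ae, as, ae', as', c₁.ae, c₁.as, c₁.ae',
    c₁.as', comm, comm', sq, c₁.sqU, sqU, hY.2 _ _ _ c₁.sqU⟩, c₁, c₁.h, c₁.h', c₁.sq, ?_, ?_, c₁.comm'⟩
  · rw [Over.comp_left, Over.comp_left]; exact sq.paste_vert c₁.sq
  · change a' ≫ f' ≫ g' = (yon S).map (h' ≫ c₁.h') ≫ c₁.b'
    rw [Functor.map_comp, Category.assoc, ← c₁.comm', ← Category.assoc, comm', Category.assoc]

/-- On a scheme chart, the ideal of a finite order thickening is nilpotent. -/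
theorem ker_pow_eq_bot_of_powZero {F G : Sp S} {k : F ⟶ G} (hk : IsThickMor k) {n : ℕ} (hn : AffLocT (powZero n) k)
    {A A' : Over S} {c : (yon S).obj A' ⟶ G} (hc : RepWith @Etale c) {fst : (yon S).obj A ⟶ F} {snd : A ⟶ A'}
    (sq : IsPullback fst ((yon S).map snd) k c) : snd.left.ker ^ (n + 1) = ⊥ := by
  have : IsClosedImmersion snd.left := (hk.2 _ _ _ sq).1
  refine GrothLib.UnivThick.eq_bot_of_comap_eq_bot _ fun x => ?_
  obtain ⟨ι, Vi, e, hV, he, hs⟩ := exists_affine_cover A'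
  obtain ⟨l, y, hy⟩ := hs x
  have sq' := IsPullback.of_hasPullback snd (e l)
  have hb : RepWith @Etale ((yon S).map (e l) ≫ c) :=
    repWith_comp ((repWith_yon_map_iff _ _).2 (have := he l; inferInstance)) hc
  refine ⟨_, (e l).left, he l, ⟨y, hy⟩, ?_⟩
  rw [GrothLib.FSchSys.comap_pow, ← GrothLib.UnivThick.ker_of_isPullback (isPullback_left sq')]
  exact hn _ _ _ (hV l) hb (isPullback_stack sq sq')

theorem ThickCharts.isNilpotent {i : X ⟶ X'} {j : Y ⟶ Y'} {f : X ⟶ Y} {f' : X' ⟶ Y'}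
    (c : ThickCharts i j f f') (hj : IsFinThickMor j) : MoreMor.IsFiniteOrderThickening c.jV.left := by
  obtain ⟨n, hj', hn⟩ := hj
  exact ⟨c.thickV, n + 1, ker_pow_eq_bot_of_powZero hj' hn c.be' c.sqV⟩

/-- If the pullback of the ideal of a thickening is nilpotent, the cartesian square factors through a finite order
thickening. -/
theorem exists_finiteOrder_factor {U U' V V' : Scheme.{u}} {iU : U ⟶ U'} {h : U ⟶ V} {h' : U' ⟶ V'} {jV : V ⟶ V'}
    (sq : IsPullback iU h h' jV) (hj : MoreMor.IsThickening jV) (n : ℕ) (hn : iU.ker ^ (n + 1) = ⊥) :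
    ∃ (W : Scheme.{u}) (k : W ⟶ V') (jW : V ⟶ W) (h'' : U' ⟶ W), IsClosedImmersion k ∧ h'' ≫ k = h' ∧
      IsPullback iU h h'' jW ∧ MoreMor.IsFiniteOrderThickening jW := by
  have : IsClosedImmersion jV := hj.1
  have : Surjective jV := hj.2
  let J := jV.ker
  let k := (J ^ (n + 1)).subschemeι
  have hle1 : k.ker ≤ jV.ker := by
    rw [Scheme.IdealSheafData.ker_subschemeι, ← Scheme.IdealSheafData.map_bot jV,
      Scheme.IdealSheafData.le_map_iff_comap_le, GrothLib.FSchSys.comap_pow,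
      show J.comap jV = ⊥ from le_bot_iff.1 (Scheme.IdealSheafData.le_map_iff_comap_le.1
        (le_of_eq (Scheme.IdealSheafData.map_bot jV).symm))]
    simp [← Scheme.IdealSheafData.zero_eq_bot]
  have hle2 : k.ker ≤ h'.ker := by
    rw [Scheme.IdealSheafData.ker_subschemeι, ← Scheme.IdealSheafData.map_bot h',
      Scheme.IdealSheafData.le_map_iff_comap_le, GrothLib.FSchSys.comap_pow,
      ← GrothLib.UnivThick.ker_of_isPullback sq.flip, hn]
  let jW := IsClosedImmersion.lift k jV hle1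
  let h'' := IsClosedImmersion.lift k h' hle2
  have e1 : jW ≫ k = jV := IsClosedImmersion.lift_fac _ _ _
  have e2 : h'' ≫ k = h' := IsClosedImmersion.lift_fac _ _ _
  have : IsClosedImmersion (jW ≫ k) := by rw [e1]; infer_instance
  have hW : IsClosedImmersion jW := IsClosedImmersion.of_comp jW k
  have hWs : Surjective jW := ⟨fun w => by
    obtain ⟨v, hv⟩ := jV.surjective (k w)
    exact ⟨v, k.isEmbedding.injective (by rw [← Scheme.Hom.comp_apply, e1, hv])⟩⟩
  refine ⟨_, k, jW, h'', inferInstance, e2, ?_, ⟨hW, hWs⟩, n + 1, ?_⟩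
  · have hw : iU ≫ h'' = h ≫ jW := (cancel_mono k).1 (by rw [Category.assoc, e2, Category.assoc, e1, sq.w])
    exact ⟨⟨hw⟩, ⟨PullbackCone.IsLimit.mk _
      (fun s => sq.lift s.fst s.snd (by rw [← e2, ← e1, ← Category.assoc, s.condition, Category.assoc]))
      (fun s => sq.lift_fst _ _ _) (fun s => sq.lift_snd _ _ _)
      fun s m h₁ h₂ => sq.hom_ext (by rw [sq.lift_fst]; exact h₁) (by rw [sq.lift_snd]; exact h₂)⟩⟩
  · have hk : jW.ker = jV.ker.comap k := by
      refine GrothLib.UnivThick.ker_of_isPullback (k := 𝟙 V) ?_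
      refine ⟨⟨by simp [e1]⟩, ⟨PullbackCone.IsLimit.mk _ (fun s => s.fst) (fun s => Category.comp_id _)
        (fun s => (cancel_mono k).1 (by rw [Category.assoc, e1]; exact s.condition))
        fun s m h₁ _ => by rw [← h₁, Category.comp_id]⟩⟩
    have hb : (J ^ (n + 1)).comap k = ⊥ := le_bot_iff.1 (Scheme.IdealSheafData.le_map_iff_comap_le.1
      (le_of_eq (by rw [Scheme.IdealSheafData.map_bot, Scheme.IdealSheafData.ker_subschemeι])))
    rw [hk, ← GrothLib.FSchSys.comap_pow, hb]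
    rfl

/-- Transfer of a local property through a cartesian square over a thickening. -/
theorem locP_thick_iff {P : MorphismProperty Scheme.{u}} (hP : EtLocal P) {i : X ⟶ X'} {j : Y ⟶ Y'}
    {f : X ⟶ Y} {f' : X' ⟶ Y'} (c : ThickCharts i j f f') (H : P c.h.left ↔ P c.h'.left) :
    LocP P f ↔ LocP P f' :=
  ⟨fun h => EtLocal.locP_of_chart hP c.ae' c.as' c.be' c.comm' (H.1 (h _ _ _ c.ae c.be c.comm)),
    fun h => EtLocal.locP_of_chart hP c.ae c.as c.be c.comm (H.2 (h _ _ _ c.ae' c.be' c.comm'))⟩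

section FibreDim

/-- Fibre dimensions are unchanged by passing to a closed subscheme of the target. -/
theorem fibreDimAt_thick {U U' V V' : Scheme.{u}} {iU : U ⟶ U'} {h : U ⟶ V} {h' : U' ⟶ V'} {jV : V ⟶ V'}
    (sq : IsPullback iU h h' jV) [IsClosedImmersion jV] (x : U) :
    FlatMor.fibreDimAt h' (iU x) = FlatMor.fibreDimAt h x := by
  have : IsClosedImmersion iU := MorphismProperty.of_isPullback sq.flip inferInstance
  have hv : h' (iU x) = jV (h x) := by rw [← Scheme.Hom.comp_apply, sq.w, Scheme.Hom.comp_apply]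
  let g : h ⁻¹' {h x} → h' ⁻¹' {h' (iU x)} := fun p => ⟨iU p.1, by
    have hp : h p.1 = h x := p.2
    change h' (iU p.1) = h' (iU x)
    rw [hv, ← Scheme.Hom.comp_apply, sq.w, Scheme.Hom.comp_apply, hp]⟩
  have hg : Topology.IsEmbedding g :=
    Topology.IsEmbedding.of_comp (by fun_prop) continuous_subtype_val
      (iU.isEmbedding.comp Topology.IsEmbedding.subtypeVal)
  have hgs : Function.Surjective g := by
    rintro ⟨q, hq⟩
    have hq' : h' q = jV (h x) := hv ▸ hq
    obtain ⟨p, hp, hp'⟩ := Scheme.Pullback.exists_preimage_pullback q (h x) hq'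
    refine ⟨⟨sq.isoPullback.inv p, ?_⟩, Subtype.ext ?_⟩
    · change h (sq.isoPullback.inv p) = h x
      rw [← Scheme.Hom.comp_apply, sq.isoPullback_inv_snd]; exact hp'
    · change iU (sq.isoPullback.inv p) = q
      rw [← Scheme.Hom.comp_apply, sq.isoPullback_inv_fst]; exact hp
  let e := (h.fiberHomeo (h x)).trans ((hg.toHomeomorphOfSurjective hgs).trans (h'.fiberHomeo (h' (iU x))).symm)
  have he : e (h.asFiber x) = h'.asFiber (iU x) := by
    simp only [e, Homeomorph.trans_apply, Scheme.Hom.asFiber, Homeomorph.apply_symm_apply]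
    rfl
  unfold FlatMor.fibreDimAt
  rw [← he]
  exact GrothLib.EtFibre.localDim_eq_of_isOpenMap e.continuous e.isOpenMap
    (fun a b hb => ⟨e.symm b, by simpa using hb.map e.symm.continuous, e.apply_symm_apply b⟩)
    (fun a b _ hab => e.injective hab) _

/-- A fibre-dimension condition at all points can be read on one atlas. -/
theorem forall_hasAtMor_fibreDim_iff {F G : Sp S} {f : F ⟶ G} {U V : Over S} {a : (yon S).obj U ⟶ F}
    {b : (yon S).obj V ⟶ G} {h : U ⟶ V} (ha : RepWith @Etale a)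
    (has : RepWith @Surjective a) (hb : RepWith @Etale b) (comm : a ≫ f = (yon S).map h ≫ b) (d : WithBot ℕ∞) :
    (∀ x, HasAtMor (fun _ _ h u => FlatMor.fibreDimAt h u = d) f x) ↔
      ∀ u : ↥U.left, FlatMor.fibreDimAt h.left u = d := by
  constructor
  · intro H u
    obtain ⟨U', V', a', b', h', u', ha', hb', comm', hu', hd⟩ := H (Points.ofPt a u)
    obtain ⟨W, w₁, w₂, sqW⟩ := exists_isPullback_of_representable ha.1 a'
    obtain ⟨w₁, rfl⟩ := (yon S).map_surjective w₁
    obtain ⟨Q, q₁, q₂, sqQ⟩ := exists_isPullback_of_representable hb.1 b'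
    obtain ⟨q₁, rfl⟩ := (yon S).map_surjective q₁
    have : Etale w₂.left := ha.2 _ _ _ sqW
    have : Etale w₁.left := ha'.2 _ _ _ sqW.flip
    have : Etale q₂.left := hb.2 _ _ _ sqQ
    have : Etale q₁.left := hb'.2 _ _ _ sqQ.flip
    have e : (yon S).map (w₁ ≫ h) ≫ b = (yon S).map (w₂ ≫ h') ≫ b' := by
      rw [Functor.map_comp, Functor.map_comp, Category.assoc, Category.assoc, ← comm, ← comm',
        ← Category.assoc, sqW.w, Category.assoc]
    let m : W ⟶ Q := (yon S).preimage (sqQ.lift _ _ e)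
    have m₁ : m ≫ q₁ = w₁ ≫ h := (yon S).map_injective (by simp [m])
    have m₂ : m ≫ q₂ = w₂ ≫ h' := (yon S).map_injective (by simp [m])
    obtain ⟨w, hw₁, hw₂⟩ := (ofPt_eq_ofPt_iff sqW u u').1 hu'.symm
    rw [← hw₁, Groth.Agent.S7408.result h.left m.left w₁.left q₁.left (congrArg CommaMorphism.left m₁) w,
      ← Groth.Agent.S7408.result h'.left m.left w₂.left q₂.left (congrArg CommaMorphism.left m₂) w, hw₂]
    exact hd
  · intro H x
    obtain ⟨u, rfl⟩ := surjective_ofPt_of_repWith has x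
    exact ⟨U, V, a, b, h, u, ha, hb, comm, rfl, H u⟩

theorem fibreDim_thick_iff {i : X ⟶ X'} {j : Y ⟶ Y'} {f : X ⟶ Y} {f' : X' ⟶ Y'}
    (c : ThickCharts i j f f') (d : WithBot ℕ∞) :
    (∀ x, HasAtMor (fun _ _ h u => FlatMor.fibreDimAt h u = d) f x) ↔
      ∀ x, HasAtMor (fun _ _ h u => FlatMor.fibreDimAt h u = d) f' x := by
  have : IsClosedImmersion c.jV.left := c.thickV.1
  have : Surjective c.iU.left := MorphismProperty.of_isPullback c.sq.flip c.thickV.2
  rw [forall_hasAtMor_fibreDim_iff c.ae c.as c.be c.comm, forall_hasAtMor_fibreDim_iff c.ae' c.as' c.be' c.comm']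
  constructor
  · intro H u'
    obtain ⟨u, rfl⟩ := c.iU.left.surjective u'
    rw [fibreDimAt_thick c.sq]; exact H u
  · intro H u
    rw [← fibreDimAt_thick c.sq]; exact H _

end FibreDim

end GrothLib.AlgSp
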