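import Groth.Agent.Lib.AlgSp.ThickTop
import Groth.Agent.Lib.AlgSp.ThickChart
import Groth.Agent.Lib.AlgSp.DeformScheme
import Groth.Agent.Lib.AlgSp.UnramMono
import Groth.Agent.S1309
import Groth.Agent.S1310
import Groth.Agent.S1312
import Groth.Agent.S1314
import Groth.Agent.S1316
import Mathlib.AlgebraicGeometry.ZariskisMainTheorem

/-!
# Global properties in cartesian squares over thickenings

Main results: `closedImmersion_thick_iff`, `immersion_thick_iff`, `proper_thick_iff`, `finite_thick_iff`,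
`openImmersion_thick_iff`, `isIso_thick_iff`, `finLocFree_thick_iff`, `isEtaleMor_deform`, `mono_deform`.
-/

universe u

open CategoryTheory CategoryTheory.Limits AlgebraicGeometry TopologicalSpace

namespace GrothLib.AlgSp

open _root_.AlgSp

variable {S : Scheme.{u}} {X X' Y Y' : Sp S} {i : X ⟶ X'} {j : Y ⟶ Y'} {f : X ⟶ Y} {f' : X' ⟶ Y'}

/-- A representable morphism over a scheme, seen through a cartesian square over a thickening. -/
theorem exists_test_square (hj : IsThickMor j) (hc : IsPullback i f f' j) {T U' : Over S} {g : (yon S).obj T ⟶ Y'}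
    {a' : (yon S).obj U' ⟶ X'} {h' : U' ⟶ T} (sq' : IsPullback a' ((yon S).map h') f' g) :
    ∃ (U W : Over S) (a : (yon S).obj U ⟶ X) (b : (yon S).obj W ⟶ Y) (h : U ⟶ W) (iU : U ⟶ U') (jW : W ⟶ T),
      IsPullback a ((yon S).map h) f b ∧ MoreMor.IsThickening jW.left ∧
      IsPullback iU.left h.left h'.left jW.left := by
  obtain ⟨W, b, jW, sqW⟩ := exists_isPullback_of_representable hj.1 g
  have hw : ((yon S).map (pullback.fst h' jW) ≫ a') ≫ f' = ((yon S).map (pullback.snd h' jW) ≫ b) ≫ j := by
    rw [Category.assoc, sq'.w, ← Category.assoc, ← Functor.map_comp, pullback.condition, Functor.map_comp,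
      Category.assoc, ← sqW.w, Category.assoc]
  refine ⟨pullback h' jW, W, hc.lift _ _ hw, b, pullback.snd h' jW, pullback.fst h' jW, jW, ?_, hj.2 _ _ _ sqW,
    isPullback_left (IsPullback.of_hasPullback h' jW)⟩
  refine IsPullback.of_right ?_ (hc.lift_snd _ _ hw) hc
  rw [hc.lift_fst, sqW.w]
  exact (isPullback_yon (IsPullback.of_hasPullback h' jW)).paste_horiz sq'

theorem lqf_thick (hX' : IsAlgSpace X') (hY' : IsAlgSpace Y') (hj : IsThickMor j) (hc : IsPullback i f f' j)
    (hft' : LocP @LocallyOfFiniteType f') (h : LocP (@LocallyQuasiFinite ⊓ @LocallyOfFiniteType) f) :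
    LocP (@LocallyQuasiFinite ⊓ @LocallyOfFiniteType) f' := by
  obtain ⟨c⟩ := exists_thick_charts hX' hY' hj hc
  obtain ⟨h1, h2⟩ := h _ _ _ c.ae c.be c.comm
  have : LocallyOfFiniteType c.h.left := h2
  have : LocallyOfFiniteType c.h'.left := hft' _ _ _ c.ae' c.be' c.comm'
  exact EtLocal.locP_of_chart (EtLocal.lqf.inf EtLocal.lft) c.ae' c.as' c.be' c.comm'
    ⟨(Groth.Agent.S1312.result _ _ _ _ c.thickV c.sq).1 h1, this⟩

theorem unramified_thick (hX' : IsAlgSpace X') (hY' : IsAlgSpace Y') (hj : IsThickMor j) (hc : IsPullback i f f' j)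
    (hft' : LocP @LocallyOfFiniteType f') (h : LocP (@LocallyOfFiniteType ⊓ @FormallyUnramified) f) :
    LocP (@LocallyOfFiniteType ⊓ @FormallyUnramified) f' := by
  obtain ⟨c⟩ := exists_thick_charts hX' hY' hj hc
  obtain ⟨h1, h2⟩ := h _ _ _ c.ae c.be c.comm
  have : LocallyOfFiniteType c.h.left := h1
  have : LocallyOfFiniteType c.h'.left := hft' _ _ _ c.ae' c.be' c.comm'
  exact EtLocal.locP_of_chart (EtLocal.lft.inf EtLocal.formallyUnramified) c.ae' c.as' c.be' c.comm'
    ⟨this, (Groth.Agent.S1314.result _ _ _ _ c.thickV c.sq).1 h2⟩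

theorem thick_source (hj : IsThickMor j) (hc : IsPullback i f f' j) : IsThickMor i :=
  repWith_of_isPullback hc.flip hj

theorem mono_thick (hX' : IsAlgSpace X') (hY' : IsAlgSpace Y') (hj : IsThickMor j) (hc : IsPullback i f f' j)
    (hft : LocP @LocallyOfFiniteType f) (hft' : LocP @LocallyOfFiniteType f') (hm : Mono f) : Mono f' :=
  mono_of_unramified_univInjective hX' hY' (unramified_thick hX' hY' hj hc hft' (unramified_of_mono hft))
    ((univInjective_thick_iff hX' hY' (thick_source hj hc) hj hc.w).1 (isUnivInjectiveMor_of_mono f))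

theorem isAlgSpace_thick (hX' : IsAlgSpace X') (hj : IsThickMor j) (hc : IsPullback i f f' j) : IsAlgSpace X :=
  isAlgSpace_of_representable hX' (thick_source hj hc).1

theorem closedImmersion_thick_iff (hX' : IsAlgSpace X') (hY' : IsAlgSpace Y') (hj : IsThickMor j)
    (hc : IsPullback i f f' j) (hl : LocP @LocallyOfFiniteType f → LocP @LocallyOfFiniteType f') :
    RepWith @IsClosedImmersion f ↔ RepWith @IsClosedImmersion f' := by
  refine ⟨fun h => ?_, fun h => repWith_of_isPullback hc h⟩
  have hY := isAlgSpace_of_representable hY' hj.1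
  obtain ⟨h1, h2, h3⟩ := (isClosedImmersion_iff (isAlgSpace_thick hX' hj hc) hY).1 h
  exact (isClosedImmersion_iff hX' hY').2 ⟨(univClosed_thick_iff hX' hY' (thick_source hj hc) hj hc.w).1 h1,
    mono_thick hX' hY' hj hc h3 (hl h3) h2, hl h3⟩

theorem immersion_thick_iff (hX' : IsAlgSpace X') (hY' : IsAlgSpace Y') (hj : IsThickMor j)
    (hc : IsPullback i f f' j) (hl : LocP @LocallyOfFiniteType f → LocP @LocallyOfFiniteType f') :
    RepWith @IsImmersion f ↔ RepWith @IsImmersion f' := by
  refine ⟨fun h => ?_, fun h => repWith_of_isPullback hc h⟩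
  have hY := isAlgSpace_of_representable hY' hj.1
  have hft : LocP @LocallyOfFiniteType f := EtLocal.locP_of_repWith EtLocal.lft hY
    (repWith_mono h fun A B g (hg : IsImmersion g) => inferInstance)
  have hm : Mono f := mono_of_repWith_mono (repWith_mono h fun A B g (hg : IsImmersion g) => (inferInstance : Mono g))
  have := mono_thick hX' hY' hj hc hft (hl hft) hm
  have hr := representable_of_lft_mono hX' hY' (hl hft)
  refine ⟨hr, fun T U' g a' h' sq' => ?_⟩
  obtain ⟨U, W, a, b, hh, iU, jW, sq, hW, sqs⟩ := exists_test_square hj hc sq'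
  have : IsImmersion hh.left := h.2 _ _ _ sq
  have hh' : LocallyOfFiniteType h'.left := (EtLocal.repWith_of_locP EtLocal.lft hY' hr (hl hft)).2 _ _ _ sq'
  exact (Groth.Agent.S1316.result _ _ _ _ hW sqs).1 this

theorem proper_thick_iff (hX' : IsAlgSpace X') (hY' : IsAlgSpace Y') (hj : IsThickMor j)
    (hc : IsPullback i f f' j) (hl : LocP @LocallyOfFiniteType f ↔ LocP @LocallyOfFiniteType f') :
    IsProperMor f ↔ IsProperMor f' := by
  have hi := thick_source hj hc
  exact and_congr (isSeparatedMor_thick_iff hX' hY' hi hj hc.w)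
    (and_congr (and_congr hl (quasiCompact_thick_iff hX' hY' hi hj hc.w))
      (univClosed_thick_iff hX' hY' hi hj hc.w))

theorem isProperMor_of_finite (hY : IsAlgSpace Y) (h : RepWith @IsFinite f) : IsProperMor f :=
  ⟨(isSeparatedMor_iff_repWith h.1).2 (repWith_mono h fun A B g (hg : IsFinite g) => inferInstance),
    ⟨EtLocal.locP_of_repWith EtLocal.lft hY (repWith_mono h fun A B g (hg : IsFinite g) =>
        show LocallyOfFiniteType g from inferInstance),
      isQuasiCompactMor_of_repWith (repWith_mono h fun A B g (hg : IsFinite g) => inferInstance)⟩,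
    isUnivClosedMor_of_repWith (repWith_mono h fun A B g (hg : IsFinite g) => inferInstance)⟩

theorem repWith_isFinite_of_proper_lqf (hX : IsAlgSpace X) (hY : IsAlgSpace Y) (hp : IsProperMor f)
    (hq : LocP (@LocallyQuasiFinite ⊓ @LocallyOfFiniteType) f) : RepWith @IsFinite f := by
  have hr := representable_of_lqf_separated hX hY hq hp.1
  refine repWith_mono (repWith_inf_iff.2 ⟨(isSeparatedMor_iff_repWith hr).1 hp.1, repWith_inf_iff.2
    ⟨repWith_quasiCompact_of_isQuasiCompactMor hr hp.2.1.2, repWith_inf_iff.2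
      ⟨repWith_universallyClosed_of_isUnivClosedMor hr hp.2.2,
        EtLocal.repWith_of_locP (EtLocal.lqf.inf EtLocal.lft) hY hr hq⟩⟩⟩) fun A B g ⟨h₁, _, h₃, h₄, h₅⟩ => ?_
  have : IsSeparated g := h₁
  have : UniversallyClosed g := h₃
  have : LocallyQuasiFinite g := h₄
  have : LocallyOfFiniteType g := h₅
  have : IsProper g := { }
  exact IsFinite.of_isProper_of_locallyQuasiFinite g

theorem repWith_finite_thick_iff (hX' : IsAlgSpace X') (hY' : IsAlgSpace Y') (hj : IsThickMor j)
    (hc : IsPullback i f f' j) (hl : LocP @LocallyOfFiniteType f ↔ LocP @LocallyOfFiniteType f') :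
    RepWith @IsFinite f ↔ RepWith @IsFinite f' := by
  refine ⟨fun h => ?_, fun h => repWith_of_isPullback hc h⟩
  have hY := isAlgSpace_of_representable hY' hj.1
  have hp := (proper_thick_iff hX' hY' hj hc hl).1 (isProperMor_of_finite hY h)
  exact repWith_isFinite_of_proper_lqf hX' hY' hp (lqf_thick hX' hY' hj hc hp.2.1.1
    (EtLocal.locP_of_repWith (EtLocal.lqf.inf EtLocal.lft) hY (repWith_mono h fun A B g (hg : IsFinite g) =>
      ⟨(inferInstance : LocallyQuasiFinite g), (inferInstance : LocallyOfFiniteType g)⟩)))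

theorem finite_thick_iff (hX' : IsAlgSpace X') (hY' : IsAlgSpace Y') (hj : IsThickMor j)
    (hc : IsPullback i f f' j) (hl : LocP @LocallyOfFiniteType f ↔ LocP @LocallyOfFiniteType f') :
    IsFiniteMor f ↔ IsFiniteMor f' := by
  rw [isFiniteMor_iff, isFiniteMor_iff]
  exact repWith_finite_thick_iff hX' hY' hj hc hl

theorem openImmersion_thick_iff (hX' : IsAlgSpace X') (hY' : IsAlgSpace Y') (hj : IsThickMor j)
    (hc : IsPullback i f f' j) (he : IsEtaleMor f → IsEtaleMor f') :
    RepWith @IsOpenImmersion f ↔ RepWith @IsOpenImmersion f' := by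
  refine ⟨fun h => ?_, fun h => repWith_of_isPullback hc h⟩
  have hY := isAlgSpace_of_representable hY' hj.1
  have := mono_of_openImmersion h
  refine repWith_openImmersion_of_etale_univInjective hX' hY' (he (isEtaleMor_of_locP hY
    (EtLocal.locP_of_repWith EtLocal.etale hY (repWith_mono h fun A B g (hg : IsOpenImmersion g) => inferInstance)))) ?_
  exact (univInjective_thick_iff hX' hY' (thick_source hj hc) hj hc.w).1 (isUnivInjectiveMor_of_mono f)

theorem isIso_thick_iff (hX' : IsAlgSpace X') (hY' : IsAlgSpace Y') (hj : IsThickMor j)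
    (hc : IsPullback i f f' j) (he : IsEtaleMor f → IsEtaleMor f') : IsIso f ↔ IsIso f' := by
  refine ⟨fun h => ?_, fun h => ?_⟩
  · refine isIso_of_openImmersion_surjective ((openImmersion_thick_iff hX' hY' hj hc he).1 (repWith_iso f)) ?_
    exact (surjective_thick_iff hX' hY' (thick_source hj hc) hj hc.w).1
      (surjective_map_of_repWith (repWith_iso f))
  · exact MorphismProperty.of_isPullback (P := MorphismProperty.isomorphisms _) hc h

theorem finLocFree_thick_iff (hX' : IsAlgSpace X') (hY' : IsAlgSpace Y') (hj : IsThickMor j)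
    (hc : IsPullback i f f' j) (hl : LocP @LocallyOfFiniteType f ↔ LocP @LocallyOfFiniteType f')
    (hflat : LocP @Flat f → LocP @Flat f')
    (hlfp : LocP @LocallyOfFinitePresentation f → LocP @LocallyOfFinitePresentation f') :
    IsFinLocFreeMor f ↔ IsFinLocFreeMor f' := by
  refine ⟨fun h => ?_, fun h => repWith_of_isPullback hc h⟩
  have hY := isAlgSpace_of_representable hY' hj.1
  have h1 := (repWith_finite_thick_iff hX' hY' hj hc hl).1 (repWith_mono h fun A B g hg => hg.1)
  exact repWith_mono (repWith_inf_iff.2 ⟨h1, repWith_inf_iff.2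
    ⟨EtLocal.repWith_of_locP EtLocal.flat hY' h1.1 (hflat (EtLocal.locP_of_repWith EtLocal.flat hY
      (repWith_mono h fun A B g hg => hg.2.1))),
    EtLocal.repWith_of_locP EtLocal.lfp hY' h1.1 (hlfp (EtLocal.locP_of_repWith EtLocal.lfp hY
      (repWith_mono h fun A B g hg => hg.2.2)))⟩⟩) fun A B g hg => hg

theorem finLocFreeOfDeg_thick_iff (hX' : IsAlgSpace X') (hY' : IsAlgSpace Y') (hj : IsThickMor j)
    (hc : IsPullback i f f' j) (hfl : IsFinLocFreeMor f ↔ IsFinLocFreeMor f') (d : ℕ) :
    IsFinLocFreeOfDegMor d f ↔ IsFinLocFreeOfDegMor d f' := by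
  refine ⟨fun h => ?_, fun h => repWith_of_isPullback hc h⟩
  have h1 := hfl.1 (repWith_mono h fun A B g hg => hg.1)
  refine ⟨h1.1, fun T U' g a' h' sq' => ⟨h1.2 _ _ _ sq', fun t => ?_⟩⟩
  obtain ⟨U, W, a, b, hh, iU, jW, sq, hW, sqs⟩ := exists_test_square hj hc sq'
  obtain ⟨hf1, hf2, -⟩ := h1.2 _ _ _ sq'
  have : IsFinite h'.left := hf1
  have : Flat h'.left := hf2
  obtain ⟨w, rfl⟩ := hW.2.surj t
  exact (Scheme.Hom.finrank_of_isPullback _ _ _ _ sqs w).symm.trans ((h.2 _ _ _ sq).2 w)

section Deform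

variable {B B' : Sp S} {iX : X ⟶ X'} {iY : Y ⟶ Y'} {iB : B ⟶ B'} {g : Y ⟶ B} {g' : Y' ⟶ B'}

theorem nilpotent_deform_chart (hB : IsFinThickMor iB) (c : ThickCharts iX iY f f') (c₁ : ThickCharts iY iB g g')
    {k : c.V ⟶ c₁.V} {k' : c.V' ⟶ c₁.V'} (sqY : IsPullback c.jV.left k.left k'.left c₁.jV.left) :
    MoreMor.IsFiniteOrderThickening c.jV.left := by
  obtain ⟨hth, n, hn⟩ := c₁.isNilpotent hB
  have : IsClosedImmersion c₁.jV.left := hth.1
  refine ⟨c.thickV, n, ?_⟩
  rw [GrothLib.FSchSys.ker_eq_comap_of_isPullback sqY, ← GrothLib.FSchSys.comap_pow, hn]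
  simp [Scheme.IdealSheafData.zero_eq_bot]

/-- Local consequences of a flat deformation over a finite order thickening. -/
theorem deform_local (hX' : IsAlgSpace X') (hY' : IsAlgSpace Y') (hB' : IsAlgSpace B') (hB : IsFinThickMor iB)
    (hcX : IsPullback iX (f ≫ g) (f' ≫ g') iB) (hcY : IsPullback iY g g' iB) (w : iX ≫ f' = f ≫ iY)
    (hflat : LocP @Flat (f' ≫ g')) :
    (LocP @LocallyOfFiniteType f ↔ LocP @LocallyOfFiniteType f') ∧ (LocP @Flat f → LocP @Flat f') ∧
      (LocP @LocallyOfFinitePresentation f → LocP @LocallyOfFinitePresentation f') ∧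
      (IsEtaleMor f → IsEtaleMor f') := by
  obtain ⟨c, c₁, k, k', sqY, sqX, e, -⟩ :=
    exists_deform_charts hX' hY' hB' hB.choose_spec.1 hcX hcY w
  have hc := c₁.isNilpotent hB
  have : Flat (c.h'.left ≫ k'.left) := hflat _ _ _ c.ae' c₁.be' e
  rw [Over.comp_left, Over.comp_left] at sqX
  have hY := nilpotent_deform_chart hB c c₁ sqY
  refine ⟨locP_thick_iff EtLocal.lft c (Groth.Agent.S1309.result _ _ _ _ hY c.sq), fun h => ?_, fun h => ?_,
    fun h => ?_⟩
  · have : Flat c.h.left := h _ _ _ c.ae c.be c.comm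
    exact EtLocal.locP_of_chart EtLocal.flat c.ae' c.as' c.be' c.comm' (flat_of_deform hc sqX sqY c.sq.w)
  · have : LocallyOfFinitePresentation c.h.left := h _ _ _ c.ae c.be c.comm
    exact EtLocal.locP_of_chart EtLocal.lfp c.ae' c.as' c.be' c.comm' (lfp_of_deform hc sqX sqY c.sq.w)
  · have hYs : IsAlgSpace Y := isAlgSpace_of_representable hY' (repWith_of_isPullback hcY.flip hB.choose_spec.1).1
    have : Etale c.h.left := locP_of_isEtaleMor hYs h _ _ _ c.ae c.be c.comm
    have := flat_of_deform hc sqX sqY c.sq.w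
    have := lfp_of_deform hc sqX sqY c.sq.w
    have := (Groth.Agent.S1310.result c.iU.left c.jV.left c.h.left c.h'.left hY c.sq).1 inferInstance
    exact isEtaleMor_of_locP hY' (EtLocal.locP_of_chart EtLocal.etale c.ae' c.as' c.be' c.comm'
      (Etale.of_formallyUnramified_of_flat _))

/-- Monomorphisms deform over finite order thickenings. -/
theorem mono_deform (hX' : IsAlgSpace X') (hY' : IsAlgSpace Y') (hB' : IsAlgSpace B') (hB : IsFinThickMor iB)
    (hcX : IsPullback iX (f ≫ g) (f' ≫ g') iB) (hcY : IsPullback iY g g' iB) (w : iX ≫ f' = f ≫ iY)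
    (hflat : LocP @Flat (f' ≫ g')) : Mono f ↔ Mono f' := by
  have hc : IsPullback iX f f' iY := IsPullback.of_bot hcX w hcY
  refine ⟨fun hm => ?_, fun hm => MorphismProperty.of_isPullback (P := MorphismProperty.monomorphisms _) hc hm⟩
  have sq' := IsPullback.of_hasPullback f' f'
  have hP' : IsAlgSpace (pullback f' f') := isAlgSpace_pullback' hY' hX' hX' f' f'
  have sqd : IsPullback iX (f ≫ g) (pullback.diagonal f' ≫ pullback.fst f' f' ≫ f' ≫ g') iB := by
    rw [pullback.diagonal_fst_assoc]; exact hcX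
  have hd : pullback.diagonal f ≫ pullback.fst f f ≫ f ≫ g = f ≫ g := pullback.diagonal_fst_assoc _ _
  have := hm
  have : IsIso (pullback.fst f f) := inferInstance
  have sqP : IsPullback (pullback.fst f f ≫ iX ≫ pullback.diagonal f') (pullback.fst f f ≫ f ≫ g)
      (pullback.fst f' f' ≫ f' ≫ g') iB := by
    have h1 : IsPullback (iX ≫ pullback.diagonal f') f (pullback.fst f' f' ≫ f') iY := by
      refine ⟨⟨by rw [Category.assoc, pullback.diagonal_fst_assoc, w]⟩, ⟨PullbackCone.IsLimit.mk _
        (fun s => hc.lift (s.fst ≫ pullback.fst f' f') s.snd (by rw [Category.assoc]; exact s.condition))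
        (fun s => ?_) (fun s => hc.lift_snd _ _ _) fun s m h₁ h₂ => hc.hom_ext ?_ ?_⟩⟩
      · have e₂ : (s.fst ≫ pullback.snd f' f') ≫ f' = s.snd ≫ iY := by
          rw [Category.assoc, ← pullback.condition]; exact s.condition
        have e : hc.lift (s.fst ≫ pullback.fst f' f') s.snd (by rw [Category.assoc]; exact s.condition) =
            hc.lift (s.fst ≫ pullback.snd f' f') s.snd e₂ := by
          rw [← cancel_mono f, hc.lift_snd, hc.lift_snd]
        refine pullback.hom_ext ?_ ?_
        · simp only [Category.assoc, pullback.diagonal_fst, Category.comp_id, IsPullback.lift_fst]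
        · rw [e]
          simp only [Category.assoc, pullback.diagonal_snd, Category.comp_id, IsPullback.lift_fst]
      · simp only [← h₁, Category.assoc, pullback.diagonal_fst, Category.comp_id, IsPullback.lift_fst]
      · rw [hc.lift_snd]; exact h₂
    have h2 := h1.paste_vert hcY
    rw [Category.assoc] at h2
    exact h2.of_iso (asIso (pullback.fst f f)).symm (Iso.refl _) (Iso.refl _) (Iso.refl _) (by simp) (by simp)
      (by simp) (by simp)
  have w' : iX ≫ pullback.diagonal f' =
      pullback.diagonal f ≫ pullback.fst f f ≫ iX ≫ pullback.diagonal f' := by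
    rw [pullback.diagonal_fst_assoc]
  have hflat' : LocP @Flat (pullback.diagonal f' ≫ pullback.fst f' f' ≫ f' ≫ g') := by
    rw [pullback.diagonal_fst_assoc]; exact hflat
  rw [← hd] at sqd
  have := (isIso_thick_iff hX' hP' (repWith_of_isPullback sqP.flip hB.choose_spec.1) (IsPullback.of_bot sqd w' sqP)
    (deform_local hX' hP' hB' hB sqd sqP w' hflat').2.2.2).1 inferInstance
  exact (pullback.isIso_diagonal_iff f').1 this

end Deform

end GrothLib.AlgSp
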