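import Groth.Agent.Lib.AlgSp.LqfPoint
import Groth.Agent.Lib.AlgSp.FibreDimBC
import Groth.Agent.Lib.AlgSp.PointProps
import Groth.Agent.Lib.AlgSp.OpenSub
import Groth.Agent.Lib.AlgSp.ProperSub
import Groth.Agent.Lib.AlgSp.ThickGlobal
import Groth.Agent.Lib.AlgSp.DiscreteFibres
import Groth.Agent.Lib.AlgSp.DecentPoints
import Groth.Agent.Lib.AlgSp.MonoPoint
import Groth.Agent.Lib.AlgSp.Strata

/-!
# Proper morphisms are finite near quasi-finite fibres

* `exists_open_finite_nhd`, `fibreDim_le_zero_of_finite_geometric_fibre`.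
-/

set_option autoImplicit false
set_option linter.style.haveILetI false

universe u

open CategoryTheory CategoryTheory.Limits AlgebraicGeometry Topology

namespace GrothLib.AlgSp

open _root_.AlgSp

variable {S : Scheme.{u}} {X Y : Sp S} {f : X ⟶ Y}

theorem isOpen_hasAtMor_lqf (f : X ⟶ Y) :
    IsOpen {x : Points X | HasAtMor (fun U _ h u => ∃ W : U.Opens, u ∈ W ∧ LocallyQuasiFinite (W.ι ≫ h) ∧
      LocallyOfFiniteType (W.ι ≫ h)) f x} := by
  rw [isOpen_iff_forall_mem_open]
  rintro x ⟨U, V, a, b, h, u, ha, hb, c, rfl, W, hu, h₁, h₂⟩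
  refine ⟨Points.ofPt a '' (W : Set ↥U.left), ?_, isOpenMap_ofPt_of_etale ha _ W.2, ⟨u, hu, rfl⟩⟩
  rintro _ ⟨w, hw, rfl⟩
  exact ⟨U, V, a, b, h, w, ha, hb, c, rfl, W, hw, h₁, h₂⟩

/-- A morphism locally of finite type of fibre dimension zero everywhere is locally quasi-finite. -/
theorem locP_lqf_of_fibreDim (hX : IsAlgSpace X) (hY : IsAlgSpace Y) (hf : LocP @LocallyOfFiniteType f)
    (h : ∀ x, HasAtMor (fun _ _ h u => FlatMor.fibreDimAt h u ≤ 0) f x) :
    LocP (@LocallyQuasiFinite ⊓ @LocallyOfFiniteType) f := by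
  intro U V a b k ha hb c
  haveI : LocallyOfFiniteType k.left := hf a b k ha hb c
  refine ⟨(lqf_iff_fibreDimAt k.left).2 fun u => ?_, ‹_›⟩
  exact (hasAtMor_fibreDim_iff hX hY ha hb c u (fun d => d ≤ 0)).1 (h _)

theorem fibreDim_le_zero_baseChange (hX : IsAlgSpace X) (hY : IsAlgSpace Y) {X' Y' : Sp S} (hY' : IsAlgSpace Y')
    {g : Y' ⟶ Y} {g' : X' ⟶ X} {f' : X' ⟶ Y'} (sq : IsPullback g' f' f g) (hf : LocP @LocallyOfFiniteType f)
    (x' : Points X') :
    HasAtMor (fun _ _ h u => FlatMor.fibreDimAt h u ≤ 0) f' x' ↔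
      HasAtMor (fun _ _ h u => FlatMor.fibreDimAt h u ≤ 0) f (Points.map g' x') := by
  obtain ⟨U, V, U', V', a, b, a', b', h, h', p, q, u', ha, hb, ha', hb', c, c', cg, hsq, rfl⟩ :=
    exists_bc_charts hX hY hY' sq x'
  haveI : LocallyOfFiniteType h.left := hf a b h ha hb c
  rw [Points.map_ofPt, cg, ofPt_map_comp,
    hasAtMor_fibreDim_iff (isAlgSpace_pullback hY.diag hX hY' sq) hY' ha' hb' c' u' (fun d => d ≤ 0),
    hasAtMor_fibreDim_iff hX hY ha hb c _ (fun d => d ≤ 0), fibreDimAt_of_isPullback hsq u']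

/-- A proper morphism is finite over an open neighbourhood of a point with quasi-finite fibre. -/
theorem exists_open_finite_nhd (hX : IsAlgSpace X) (hY : IsAlgSpace Y) (hf : IsProperMor f) (y : Points Y)
    (hq : ∀ x : Points X, Points.map f x = y →
      HasAtMor (fun _ _ h u => FlatMor.fibreDimAt h u ≤ 0) f x) :
    ∃ (V : Space S) (j : V.obj ⟶ Y), RepWith @IsOpenImmersion j ∧ y ∈ Set.range (Points.map j) ∧
      ∀ (P : Sp S) (fst : P ⟶ X) (snd : P ⟶ V.obj), IsPullback fst snd f j → IsFiniteMor snd := by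
  let Q : Set (Points X) := {x | HasAtMor (fun U _ h u => ∃ W : U.Opens, u ∈ W ∧ LocallyQuasiFinite (W.ι ≫ h) ∧
    LocallyOfFiniteType (W.ι ≫ h)) f x}
  have hcl : IsClosedMap (Points.map f) := hf.2.2 hY (𝟙 Y) (𝟙 X) f IsPullback.of_id_fst
  let W : Set (Points Y) := (Points.map f '' Qᶜ)ᶜ
  have hW : IsOpen W := (hcl _ (isOpen_hasAtMor_lqf f).isClosed_compl).isOpen_compl
  have hy : y ∈ W := by
    rintro ⟨x, hx, hxy⟩
    exact hx ((hasAtMor_lqf_iff hX hY hf.2.1.1 x).2 (hq x hxy))
  have hV := isAlgSpace_openSub hY hW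
  refine ⟨⟨openSub Y W, hV⟩, openSubι Y W, repWith_openSubι hW, by rw [range_openSubι]; exact hy,
    fun P fst snd sq => ?_⟩
  have hp := isProperMor_of_isPullback hX hY hV sq hf
  have hP := isAlgSpace_pullback hY.diag hX hV sq
  refine isFiniteMor_iff.2 (repWith_isFinite_of_proper_lqf hP hV hp (locP_lqf_of_fibreDim hP hV hp.2.1.1 fun z => ?_))
  rw [fibreDim_le_zero_baseChange hX hY hV sq hf.2.1.1 z]
  refine (hasAtMor_lqf_iff hX hY hf.2.1.1 _).1 (by_contra fun hn => ?_)
  have h1 : Points.map f (Points.map fst z) ∈ W := by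
    rw [← Points.map_comp, sq.w, Points.map_comp]
    exact range_openSubι.le ⟨_, rfl⟩
  exact h1 ⟨_, hn, rfl⟩

/-- A proper morphism has fibre dimension zero over a point with finite geometric fibre. -/
theorem fibreDim_le_zero_of_finite_geometric_fibre (hX : IsAlgSpace X) (hY : IsAlgSpace Y) (hf : IsProperMor f)
    (y : FieldPt Y) {Xy : Sp S} {fst : Xy ⟶ X} {snd : Xy ⟶ (yon S).obj y.pt} (sq : IsPullback fst snd f y.toHom)
    [Finite (Points Xy)] (x : Points X) (hx : Points.map f x = Points.mk y) :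
    HasAtMor (fun _ _ h u => FlatMor.fibreDimAt h u ≤ 0) f x := by
  have hY' : IsAlgSpace ((yon S).obj y.pt) := IsAlgSpace.yon_obj y.pt
  have hP : IsAlgSpace Xy := isAlgSpace_pullback hY.diag hX hY' sq
  have hp := isProperMor_of_isPullback hX hY hY' sq hf
  obtain ⟨z, rfl, -⟩ := exists_of_isPullback sq (x := x) (y := Points.ofScheme y.pt (IsLocalRing.closedPoint y.K))
    (by rw [← Points.ofPt_eq_map_ofScheme, Points.ofPt_toHom, hx])
  haveI hA : IsAffine y.pt.left := inferInstanceAs (IsAffine (Spec (CommRingCat.of y.K)))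
  haveI : CompactSpace (Points Xy) := Finite.compactSpace
  obtain ⟨W, a, hWaff, ae, as⟩ := exists_affine_surjective_chart hP (isQuasiCompactSp_of_compactSpace_points hP)
  obtain ⟨γ, hγ⟩ := (yon S).map_surjective (a ≫ snd)
  haveI : LocallyOfFiniteType γ.left := hp.2.1.1 a (𝟙 _) γ ae (repWith_id _ _) (by rw [Category.comp_id, hγ])
  have hqs := isQuasiSeparatedMor_of_isSeparatedMor hp.1
  haveI : Finite ↥W.left := by
    have hfin : ∀ q : FieldPt Xy, FiniteFibres (Points.mk q) := fun q => by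
      refine finite_fibre_of_qc_point hP q (repWith_quasiCompact_of_isQuasiCompactMor
        (representable_of_source_scheme hP _) (isQuasiCompactMor_of_comp (IsAlgSpace.yon_obj _) hP hY' ?_ hqs))
      obtain ⟨e, he⟩ := (yon S).map_surjective (q.toHom ≫ snd)
      haveI : IsAffine q.pt.left := inferInstanceAs (IsAffine (Spec (CommRingCat.of q.K)))
      rw [← he]
      exact isQuasiCompactMor_of_repWith ((repWith_yon_map_iff _ _).2 (inferInstance : QuasiCompact e.left))
    have h : (Set.univ : Set ↥W.left) = ⋃ z : Points Xy, Points.ofPt a ⁻¹' {z} := by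
      ext w; simp
    refine Set.finite_univ_iff.1 ?_
    rw [h]
    refine Set.finite_iUnion fun z => ?_
    obtain ⟨q, rfl⟩ := Quotient.exists_rep z
    exact hfin q W a hWaff ae
  haveI : JacobsonSpace ↥W.left := by
    haveI : JacobsonSpace ↥y.pt.left := inferInstanceAs (JacobsonSpace (PrimeSpectrum y.K))
    exact LocallyOfFiniteType.jacobsonSpace γ.left
  haveI : DiscreteTopology ↥W.left := inferInstance
  haveI : DiscreteTopology (Points Xy) := discreteTopology_points_of_chart ae as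
  refine (fibreDim_le_zero_baseChange hX hY hY' sq hf.2.1.1 z).1 ?_
  obtain ⟨w, rfl⟩ := surjective_ofPt_of_repWith as z
  refine (hasAtMor_fibreDim_iff hP hY' ae (repWith_id _ _) (by rw [Category.comp_id, hγ]) w (fun d => d ≤ 0)).2 ?_
  haveI : LocallyQuasiFinite γ.left :=
    locallyQuasiFinite_iff_isDiscrete_preimage_singleton.2 fun _ => isDiscrete_iff_discreteTopology.2 inferInstance
  exact (lqf_iff_fibreDimAt γ.left).1 inferInstance w

end GrothLib.AlgSp
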