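import Groth.Agent.Lib.AlgSp.SliceLemmas
import Groth.Agent.Lib.AlgSp.Points
import Groth.Agent.Lib.AlgSp.Presentation

/-!
# Pointwise criteria for charts of sheaves

If `π : yon U ⟶ F` is a flat chart, then a morphism `yon g ≫ π` is flat (resp. locally quasi-finite) as soon as
its base change along `π` is so along the tautological section.
-/

universe u

open CategoryTheory CategoryTheory.Limits AlgebraicGeometry

namespace GrothLib.AlgSp

open _root_.AlgSp

variable {S : Scheme.{u}} {F : Sp S} {U Y : Over S} {π : (yon S).obj U ⟶ F} {g : Y ⟶ U} {K₁ : Over S}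
  {f₁ : K₁ ⟶ Y} {a : K₁ ⟶ U} {σ : Y ⟶ K₁}

/-- The base change of `yon g ≫ π` along `π`, with its section. -/
theorem exists_self_pullback (hπ : Representable π) (g : Y ⟶ U) :
    ∃ (K₁ : Over S) (f₁ : K₁ ⟶ Y) (a : K₁ ⟶ U) (σ : Y ⟶ K₁),
      IsPullback ((yon S).map f₁) ((yon S).map a) ((yon S).map g ≫ π) π ∧ σ ≫ f₁ = 𝟙 Y ∧ σ ≫ a = g := by
  obtain ⟨K₁, fst, snd, sq⟩ := exists_isPullback_of_representable hπ ((yon S).map g ≫ π)
  obtain ⟨a, rfl⟩ := (yon S).map_surjective fst
  have h : (yon S).map (𝟙 Y) ≫ (yon S).map g ≫ π = (yon S).map g ≫ π := by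
    rw [(yon S).map_id, Category.id_comp]
  let σ : Y ⟶ K₁ := (yon S).preimage (sq.flip.lift _ _ h)
  refine ⟨K₁, snd, a, σ, sq.flip, (yon S).map_injective ?_, (yon S).map_injective ?_⟩
  · rw [Functor.map_comp, Functor.map_preimage, IsPullback.lift_fst]
  · rw [Functor.map_comp, Functor.map_preimage, IsPullback.lift_snd]

/-- A base change of `yon g ≫ π` becomes, after a flat base change with a section, a base change of `a`. -/
theorem exists_chart_squares (hπ : RepWith @Flat π)
    (sq : IsPullback ((yon S).map f₁) ((yon S).map a) ((yon S).map g ≫ π) π) (hσf : σ ≫ f₁ = 𝟙 Y)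
    (hσa : σ ≫ a = g) {V T : Over S} {φ : V ⟶ Y} {snd : V ⟶ T} {gT : (yon S).obj T ⟶ F}
    (sV : IsPullback ((yon S).map φ) ((yon S).map snd) ((yon S).map g ≫ π) gT) :
    ∃ (V' T' : Over S) (pV : V' ⟶ V) (b : V' ⟶ T') (qT : T' ⟶ T) (m : V' ⟶ K₁) (n : T' ⟶ U) (σV : V ⟶ V'),
      IsPullback pV.left b.left snd.left qT.left ∧ IsPullback m.left b.left a.left n.left ∧ Flat qT.left ∧
        σV ≫ pV = 𝟙 V ∧ σV ≫ m = φ ≫ σ := by
  obtain ⟨T', fst, qT, sT⟩ := exists_isPullback_of_representable hπ.1 gT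
  obtain ⟨n, rfl⟩ := (yon S).map_surjective fst
  have sb := IsPullback.of_hasPullback snd qT
  have sbig := isPullback_stack sV sb
  rw [← sT.w, ← Functor.map_comp] at sbig
  let m : pullback snd qT ⟶ K₁ := (yon S).preimage (sq.lift ((yon S).map (pullback.fst snd qT ≫ φ))
    ((yon S).map (pullback.snd snd qT ≫ n)) (by rw [sbig.w, ← Category.assoc, ← Functor.map_comp]))
  have hm₁ : m ≫ f₁ = pullback.fst snd qT ≫ φ := (yon S).map_injective (by
    rw [Functor.map_comp, Functor.map_preimage, IsPullback.lift_fst])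
  have hm₂ : m ≫ a = pullback.snd snd qT ≫ n := (yon S).map_injective (by
    rw [Functor.map_comp, Functor.map_preimage, IsPullback.lift_snd])
  have sm : IsPullback ((yon S).map m) ((yon S).map (pullback.snd snd qT)) ((yon S).map a) ((yon S).map n) := by
    refine IsPullback.of_right ?_ (by rw [← Functor.map_comp, ← Functor.map_comp, hm₂]) sq
    rwa [← Functor.map_comp, hm₁]
  let γ : V ⟶ T' := (yon S).preimage (sT.lift ((yon S).map (φ ≫ g)) ((yon S).map snd)
    (by rw [Functor.map_comp, Category.assoc]; exact sV.w))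
  have hγn : γ ≫ n = φ ≫ g := (yon S).map_injective (by
    rw [Functor.map_comp, Functor.map_preimage, IsPullback.lift_fst])
  have hγq : γ ≫ qT = snd := (yon S).map_injective (by
    rw [Functor.map_comp, Functor.map_preimage, IsPullback.lift_snd])
  let σV : V ⟶ pullback snd qT := pullback.lift (𝟙 V) γ (by rw [Category.id_comp, hγq])
  refine ⟨_, T', pullback.fst snd qT, pullback.snd snd qT, qT, m, n, σV, isPullback_left sb,
    isPullback_left (isPullback_of_isPullback_yon sm), hπ.2 _ _ _ sT, pullback.lift_fst _ _ _,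
    (yon S).map_injective (sq.hom_ext ?_ ?_)⟩
  · rw [← Functor.map_comp, ← Functor.map_comp]
    refine congrArg _ ?_
    rw [Category.assoc, hm₁, pullback.lift_fst_assoc, Category.id_comp, Category.assoc, hσf, Category.comp_id]
  · rw [← Functor.map_comp, ← Functor.map_comp]
    refine congrArg _ ?_
    rw [Category.assoc, hm₂, pullback.lift_snd_assoc, hγn, Category.assoc, hσa]

theorem flat_stalk_point_congr {A B : Scheme.{u}} (f : A ⟶ B) {x y : A} (e : x = y)
    (h : (f.stalkMap x).hom.Flat) : (f.stalkMap y).hom.Flat :=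
  e ▸ h

/-- Flatness of `yon g ≫ π` from flatness of its base change along the section. -/
theorem repWith_flat_of_section (hπ : RepWith @Flat π) (hg : Representable ((yon S).map g ≫ π))
    (sq : IsPullback ((yon S).map f₁) ((yon S).map a) ((yon S).map g ≫ π) π) (hσf : σ ≫ f₁ = 𝟙 Y)
    (hσa : σ ≫ a = g) [LocallyOfFinitePresentation a.left]
    (h : ∀ y : ↥Y.left, (a.left.stalkMap (σ.left y)).hom.Flat) : RepWith @Flat ((yon S).map g ≫ π) := by
  refine ⟨hg, fun T V gT fst snd sV => ?_⟩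
  obtain ⟨φ, rfl⟩ := (yon S).map_surjective fst
  obtain ⟨V', T', pV, b, qT, m, n, σV, s₁, s₂, hq, e₁, e₂⟩ := exists_chart_squares hπ sq hσf hσa sV
  show Flat snd.left
  refine Flat.of_stalkMap _ fun v => ?_
  have hv : pV.left (σV.left v) = v := by
    rw [← Scheme.Hom.comp_apply, ← Over.comp_left, e₁]; rfl
  have hm : m.left (σV.left v) = σ.left (φ.left v) := congrArg (fun k : V ⟶ K₁ => k.left v) e₂
  have hb := flat_stalk_bc s₂ (σV.left v) (flat_stalk_point_congr a.left hm.symm (h (φ.left v)))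
  have := flat_stalk_descend s₁ _ hb
  rwa [hv] at this

/-- Quasi-finiteness of `yon g ≫ π` from quasi-finiteness of its base change along the section. -/
theorem repWith_lqf_of_section (hπ : RepWith @Flat π) (hg : RepWith @LocallyOfFiniteType ((yon S).map g ≫ π))
    (sq : IsPullback ((yon S).map f₁) ((yon S).map a) ((yon S).map g ≫ π) π) (hσf : σ ≫ f₁ = 𝟙 Y)
    (hσa : σ ≫ a = g) [LocallyOfFiniteType a.left]
    (h : ∀ y : ↥Y.left, a.left.QuasiFiniteAt (σ.left y)) : RepWith @LocallyQuasiFinite ((yon S).map g ≫ π) := by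
  refine ⟨hg.1, fun T V gT fst snd sV => ?_⟩
  obtain ⟨φ, rfl⟩ := (yon S).map_surjective fst
  have : LocallyOfFiniteType snd.left := hg.2 _ _ _ sV
  obtain ⟨V', T', pV, b, qT, m, n, σV, s₁, s₂, hq, e₁, e₂⟩ := exists_chart_squares hπ sq hσf hσa sV
  show LocallyQuasiFinite snd.left
  rw [← Scheme.Hom.quasiFiniteLocus_eq_top_iff, eq_top_iff]
  intro v _
  have hv : pV.left (σV.left v) = v := by
    rw [← Scheme.Hom.comp_apply, ← Over.comp_left, e₁]; rfl
  have hm : m.left (σV.left v) = σ.left (φ.left v) := congrArg (fun k : V ⟶ K₁ => k.left v) e₂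
  have hb := qfAt_bc s₂ (σV.left v) (hm.symm ▸ h (φ.left v))
  have := qfAt_descend s₁ _ hb
  rwa [hv] at this

/-- The open subscheme of `Y`, as a scheme over `S`. -/
abbrev openOver (O : Y.left.Opens) : Over S := Over.mk (O.ι ≫ Y.hom)

/-- Its inclusion. -/
abbrev openOverι (O : Y.left.Opens) : openOver O ⟶ Y := Over.homMk O.ι rfl

/-- The chart data restricted to an open subscheme. -/
theorem exists_open_self_pullback
    (sq : IsPullback ((yon S).map f₁) ((yon S).map a) ((yon S).map g ≫ π) π) (hσf : σ ≫ f₁ = 𝟙 Y)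
    (hσa : σ ≫ a = g) (O : Y.left.Opens) :
    ∃ (K₂ : Over S) (f₂ : K₂ ⟶ openOver O) (j : K₂ ⟶ K₁) (σ₂ : openOver O ⟶ K₂),
      IsPullback ((yon S).map f₂) ((yon S).map (j ≫ a)) ((yon S).map (openOverι O ≫ g) ≫ π) π ∧
      σ₂ ≫ f₂ = 𝟙 _ ∧ σ₂ ≫ j ≫ a = openOverι O ≫ g ∧ IsOpenImmersion j.left ∧ σ₂ ≫ j = openOverι O ≫ σ := by
  have s := IsPullback.of_hasPullback f₁ (openOverι O)
  let σ₂ : openOver O ⟶ pullback f₁ (openOverι O) := pullback.lift (openOverι O ≫ σ) (𝟙 _)
    (by rw [Category.assoc, hσf, Category.comp_id, Category.id_comp])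
  refine ⟨_, pullback.snd _ _, pullback.fst _ _, σ₂, ?_, pullback.lift_snd _ _ _, ?_, ?_, pullback.lift_fst _ _ _⟩
  · rw [Functor.map_comp, Functor.map_comp, Category.assoc]
    exact (isPullback_stack sq.flip s).flip
  · rw [pullback.lift_fst_assoc, Category.assoc, hσa]
  · exact MorphismProperty.of_isPullback (P := @IsOpenImmersion) (isPullback_left s).flip
      (inferInstanceAs (IsOpenImmersion O.ι))

/-- The locus where the base change is flat along the section gives a flat chart. -/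
theorem exists_flat_open (hπ : RepWith @Flat π) (hg : RepWith @LocallyOfFinitePresentation ((yon S).map g ≫ π))
    (sq : IsPullback ((yon S).map f₁) ((yon S).map a) ((yon S).map g ≫ π) π) (hσf : σ ≫ f₁ = 𝟙 Y)
    (hσa : σ ≫ a = g) :
    ∃ O : Y.left.Opens, (∀ y, y ∈ O ↔ (a.left.stalkMap (σ.left y)).hom.Flat) ∧
      RepWith @Flat ((yon S).map (openOverι O ≫ g) ≫ π) ∧
      RepWith @LocallyOfFinitePresentation ((yon S).map (openOverι O ≫ g) ≫ π) := by
  have : LocallyOfFinitePresentation a.left := hg.2 _ _ _ sq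
  let O : Y.left.Opens := ⟨σ.left ⁻¹' {x | (a.left.stalkMap x).hom.Flat},
    (GrothLib.FibreFlat.isOpen_flat_stalkMap a.left).preimage σ.left.continuous⟩
  have hO : RepWith @LocallyOfFinitePresentation ((yon S).map (openOverι O ≫ g) ≫ π) := by
    rw [Functor.map_comp, Category.assoc]
    exact repWith_comp ((repWith_yon_map_iff _ _).2 (inferInstanceAs (LocallyOfFinitePresentation O.ι))) hg
  obtain ⟨K₂, f₂, j, σ₂, sq₂, h₂, h₂', hj, hjσ⟩ := exists_open_self_pullback sq hσf hσa O
  have : LocallyOfFinitePresentation (j ≫ a).left := hO.2 _ _ _ sq₂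
  refine ⟨O, fun y => Iff.rfl, repWith_flat_of_section hπ hO.1 sq₂ h₂ h₂' (fun y => ?_), hO⟩
  rw [Over.comp_left]
  refine flat_stalk_comp j.left a.left _ (Flat.stalkMap j.left _) ?_
  exact flat_stalk_point_congr a.left (congrArg (fun k : openOver O ⟶ K₁ => k.left y) hjσ).symm y.2

/-- The locus where `s` is quasi-finite along the identity gives a quasi-finite chart. -/
theorem exists_qf_open (hπ : RepWith @Flat π) (hπ' : RepWith @LocallyOfFinitePresentation π)
    {R : Over S} {t s : R ⟶ U} {e : U ⟶ R}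
    (sq : IsPullback ((yon S).map t) ((yon S).map s) π π) (het : e ≫ t = 𝟙 U) (hes : e ≫ s = 𝟙 U) :
    ∃ O : U.left.Opens, (∀ y, y ∈ O ↔ s.left.QuasiFiniteAt (e.left y)) ∧
      RepWith @Flat ((yon S).map (openOverι O) ≫ π) ∧
      RepWith @LocallyOfFinitePresentation ((yon S).map (openOverι O) ≫ π) ∧
      RepWith @LocallyQuasiFinite ((yon S).map (openOverι O) ≫ π) := by
  have : LocallyOfFinitePresentation s.left := hπ'.2 _ _ _ sq
  let O : U.left.Opens := ⟨e.left ⁻¹' {x | s.left.QuasiFiniteAt x}, s.left.quasiFiniteLocus.2.preimage e.left.continuous⟩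
  have hF : RepWith @Flat ((yon S).map (openOverι O) ≫ π) :=
    repWith_comp ((repWith_yon_map_iff _ _).2 (inferInstanceAs (Flat O.ι))) hπ
  have hP : RepWith @LocallyOfFinitePresentation ((yon S).map (openOverι O) ≫ π) :=
    repWith_comp ((repWith_yon_map_iff _ _).2 (inferInstanceAs (LocallyOfFinitePresentation O.ι))) hπ'
  obtain ⟨K₂, f₂, j, σ₂, sq₂, h₂, h₂', hj, hjσ⟩ := exists_open_self_pullback (g := 𝟙 U)
    (by rw [(yon S).map_id, Category.id_comp]; exact sq) het hes O
  rw [Category.comp_id] at sq₂ h₂'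
  have : LocallyOfFinitePresentation (j ≫ s).left := hP.2 _ _ _ sq₂
  refine ⟨O, fun y => Iff.rfl, hF, hP, repWith_lqf_of_section hπ (repWith_mono hP fun A B f hf => by
    have : LocallyOfFinitePresentation f := hf; infer_instance) sq₂ h₂ h₂' (fun y => ?_)⟩
  rw [Over.comp_left, Scheme.Hom.quasiFiniteAt_comp_iff_of_isOpenImmersion, ← Scheme.Hom.comp_apply,
    ← Over.comp_left, hjσ]
  exact y.2

end GrothLib.AlgSp
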