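import Groth.Agent.Lib.AlgSp.FiniteNhd
import Groth.Agent.Lib.AlgSp.SliceChart
import Groth.Agent.S1240

/-!
# Flat morphisms and dense open subspaces

* `fibreDim_baseChange`, `fibreDim_le_of_flat_dense`: relative dimension over a dense open bounds it everywhere.
-/

set_option autoImplicit false
universe u
open CategoryTheory CategoryTheory.Limits AlgebraicGeometry Topology
set_option backward.isDefEq.respectTransparency false

namespace GrothLib.AlgSp

open _root_.AlgSp

variable {S : Scheme.{u}} {X Y : Sp S} {f : X ⟶ Y}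

theorem fibreDim_baseChange (Q : WithBot ℕ∞ → Prop) (hX : IsAlgSpace X) (hY : IsAlgSpace Y) {X' Y' : Sp S}
    (hY' : IsAlgSpace Y') {g : Y' ⟶ Y} {g' : X' ⟶ X} {f' : X' ⟶ Y'} (sq : IsPullback g' f' f g)
    (hf : LocP @LocallyOfFiniteType f) (x' : Points X') :
    HasAtMor (fun _ _ h u => Q (FlatMor.fibreDimAt h u)) f' x' ↔
      HasAtMor (fun _ _ h u => Q (FlatMor.fibreDimAt h u)) f (Points.map g' x') := by
  obtain ⟨U, V, U', V', a, b, a', b', h, h', p, q, u', ha, hb, ha', hb', c, c', cg, hsq, rfl⟩ :=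
    exists_bc_charts hX hY hY' sq x'
  haveI : LocallyOfFiniteType h.left := hf a b h ha hb c
  rw [Points.map_ofPt, cg, ofPt_map_comp,
    hasAtMor_fibreDim_iff (isAlgSpace_pullback hY.diag hX hY' sq) hY' ha' hb' c' u' Q,
    hasAtMor_fibreDim_iff hX hY ha hb c _ Q, fibreDimAt_of_isPullback hsq u']

/-- The preimage of an open subspace in a chart. -/
theorem exists_preimage_openOver {W : Sp S} {j : W ⟶ Y} (hj : RepWith @IsOpenImmersion j) {V : Over S}
    (b : (yon S).obj V ⟶ Y) :
    ∃ (O : V.left.Opens) (l : (yon S).obj (openOver O) ⟶ W), IsPullback l ((yon S).map (openOverι O)) j b ∧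
      (O : Set ↥V.left) = Points.ofPt b ⁻¹' Set.range (Points.map j) := by
  obtain ⟨W₀, l₀, k₀, sq₀⟩ := exists_isPullback_of_representable hj.1 b
  haveI : IsOpenImmersion k₀.left := hj.2 _ _ _ sq₀
  let O : V.left.Opens := k₀.left.opensRange
  let e : openOver O ≅ W₀ := Over.isoMk k₀.left.isoOpensRange.symm (by
    show k₀.left.isoOpensRange.inv ≫ W₀.hom = O.ι ≫ V.hom
    rw [Iso.inv_comp_eq, Scheme.Hom.isoOpensRange_hom_ι_assoc, Over.w])
  have he : e.hom ≫ k₀ = openOverι O := Over.OverMorphism.ext (by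
    show k₀.left.isoOpensRange.inv ≫ k₀.left = O.ι
    rw [Iso.inv_comp_eq, Scheme.Hom.isoOpensRange_hom_ι])
  have sq : IsPullback ((yon S).map e.hom ≫ l₀) ((yon S).map (openOverι O)) j b :=
    sq₀.of_iso ((yon S).mapIso e).symm (Iso.refl _) (Iso.refl _) (Iso.refl _)
      (by simp) (by rw [← he]; simp) (by simp) (by simp)
  refine ⟨O, _, sq, Set.ext fun v => ⟨fun hv => ?_, fun hv => ?_⟩⟩
  · refine ⟨Points.ofPt ((yon S).map e.hom ≫ l₀) ⟨v, hv⟩, ?_⟩
    rw [Points.map_ofPt, sq.w, ofPt_map_comp]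
    rfl
  · obtain ⟨w, hw⟩ := hv
    obtain ⟨p, -, hp⟩ := exists_of_isPullback sq (x := w) (y := Points.ofScheme V v)
      (hw.trans (Points.ofPt_eq_map_ofScheme b v))
    obtain ⟨p, rfl⟩ := (Points.schemeEquiv (openOver O)).surjective p
    have := (Points.schemeEquiv V).injective (a₁ := (openOverι O).left p) (a₂ := v) (by
      refine Eq.trans ?_ hp
      exact ((Points.ofScheme_toScheme V _).symm.trans
        (congrArg (Points.ofScheme V) (Points.toScheme_ofPt _ p))).symm.trans (Points.ofPt_eq_map_ofScheme _ p))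
    rw [← this]
    exact p.2

theorem isRetrocompact_of_quasiCompact {T : Scheme.{u}} (O : T.Opens) [QuasiCompact O.ι] :
    IsRetrocompact (O : Set ↥T) := by
  intro K hKc hKo
  have h : (O : Set ↥T) ∩ K = O.ι '' (O.ι ⁻¹' K) := by
    rw [Set.image_preimage_eq_inter_range, Scheme.Opens.range_ι, Set.inter_comm]
  rw [h]
  exact (Scheme.Hom.isCompact_preimage (f := O.ι) (U := ⟨K, hKo⟩) hKc).image O.ι.continuous

/-- Flat morphisms: the relative dimension over a dense open bounds the relative dimension everywhere. -/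
theorem fibreDim_le_of_flat_dense (hX : IsAlgSpace X) (hY : IsAlgSpace Y) (hfl : LocP @Flat f)
    (hft : LocP @LocallyOfFiniteType f) {V : Sp S} (hV : IsAlgSpace V) {j : V ⟶ Y}
    (hj : RepWith @IsOpenImmersion j) (hd : Dense (Set.range (Points.map j))) {P : Sp S} {fst : P ⟶ X} {snd : P ⟶ V}
    (sq : IsPullback fst snd f j) (d : ℕ)
    (hsnd : ∀ x, HasAtMor (fun _ _ h u => FlatMor.fibreDimAt h u ≤ (d : WithBot ℕ∞)) snd x)
    (h : LocP @LocallyOfFinitePresentation f ∨ IsQuasiCompactMor j) (x : Points X) :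
    HasAtMor (fun _ _ h u => FlatMor.fibreDimAt h u ≤ (d : WithBot ℕ∞)) f x := by
  obtain ⟨U, T, a, b, k, u, ha, hb, c, rfl⟩ := exists_chart_at hX hY f x
  haveI : LocallyOfFiniteType k.left := hft a b k ha hb c
  haveI : Flat k.left := hfl a b k ha hb c
  obtain ⟨O, l, sqO, hO⟩ := exists_preimage_openOver hj b
  refine (hasAtMor_fibreDim_iff hX hY ha hb c u (fun e => e ≤ (d : WithBot ℕ∞))).2 ?_
  refine Groth.Agent.S1240.result k.left O ?_ d (fun u' hu' => ?_) (h.imp (fun h => h a b k ha hb c) fun h => ?_) u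
  · rw [hO]
    exact hd.preimage (isOpenMap_ofPt_of_etale hb)
  · have h1 : Points.map f (Points.ofPt a u') ∈ Set.range (Points.map j) := by
      rw [Points.map_ofPt, c, ofPt_map_comp]
      exact hO.le hu'
    obtain ⟨w, hw⟩ := h1
    obtain ⟨z, hz, -⟩ := exists_of_isPullback sq (x := Points.ofPt a u') (y := w) hw.symm
    have h2 := (fibreDim_baseChange (fun e => e ≤ (d : WithBot ℕ∞)) hX hY hV sq hft z).1 (hsnd z)
    rw [hz] at h2
    exact (hasAtMor_fibreDim_iff hX hY ha hb c u' (fun e => e ≤ (d : WithBot ℕ∞))).1 h2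
  · haveI : QuasiCompact O.ι := (repWith_quasiCompact_of_isQuasiCompactMor hj.1 h).2 _ _ _ sqO
    exact isRetrocompact_of_quasiCompact O

end GrothLib.AlgSp
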