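import Groth.Agent.Lib.AlgSp.QCohFPEt
import Groth.Agent.Lib.AlgSp.QCohAbelian
import Mathlib.Algebra.Category.ModuleCat.Presheaf.Submodule

/-!
# Quasi-coherent submodules from submodules of sections on affine objects

* `SubFam`, `SubFam.mem_of_cover`, `exists_submodule`, `famOfHom`: compatible families and quasi-coherent submodules.
-/

universe u

open CategoryTheory CategoryTheory.Limits AlgebraicGeometry Opposite TensorProduct
set_option backward.isDefEq.respectTransparency false

noncomputable section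

namespace GrothLib.AlgSp.QCohEt

variable {C : Type (u + 1)} [Category.{u} C] {J : GrothendieckTopology C} {O : Sheaf J CommRingCat.{u + 1}}
  [HasSheafify J AddCommGrpCat.{u + 1}] [J.WEqualsLocallyBijective AddCommGrpCat.{u + 1}]

/-- Compatible submodules of sections on affine objects. -/
structure SubFam (F : SheafOfModules.{u + 1} (RR O)) (S : AffSite O) where
  P : ∀ E, Submodule (Ob O E) (Sec F E)
  map_mem : ∀ {E W : C} (w : W ⟶ E), S.Aff E → S.Aff W → ∀ s ∈ P E, mres F w s ∈ P W
  gen : ∀ {E W : C} (w : W ⟶ E), S.Aff E → S.Aff W → P W ≤ Submodule.span (Ob O W) (mres F w '' (P E : Set (Sec F E)))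

variable {F : SheafOfModules.{u + 1} (RR O)} {S : AffSite O} (P : SubFam F S)

omit [HasSheafify J AddCommGrpCat.{u + 1}] [J.WEqualsLocallyBijective AddCommGrpCat.{u + 1}] in
theorem SubFam.exists_lTensor {E : C} (V : Over E) (hE : S.Aff E) (hV : S.Aff V.left) {s : Sec F V.left}
    (hs : s ∈ P.P V.left) : ∃ d : Ov O V ⊗[Ob O E] P.P E, theta (P.P E).subtype V d = s := by
  have h : Submodule.span (Ob O V.left) (mres F V.hom '' (P.P E : Set (Sec F E))) ≤
      LinearMap.range (thetaL (P.P E).subtype V) := by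
    rw [Submodule.span_le]
    rintro _ ⟨y, hy, rfl⟩
    exact ⟨(1 : Ov O V) ⊗ₜ ⟨y, hy⟩, one_smul (Ob O V.left) _⟩
  exact h (P.gen V.hom hE hV hs)

omit [HasSheafify J AddCommGrpCat.{u + 1}] [J.WEqualsLocallyBijective AddCommGrpCat.{u + 1}] in
/-- Membership is local. -/
theorem SubFam.mem_of_cover {E : C} (hE : S.Aff E) (hF : Good F S E) (s : Sec F E) {T : Sieve E} (hT : T ∈ J E)
    (h : ∀ ⦃Z : C⦄ (z : Z ⟶ E), S.Aff Z → T.arrows z → mres F z s ∈ P.P Z) : s ∈ P.P E := by
  obtain ⟨n, _, W, w, hw, -, hS⟩ := S.fam E hE T hT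
  haveI := fun k => (hw k).2.2
  refine (Submodule.Quotient.mk_eq_zero _).1 (eq_zero_of_forall (fun k => Ov O (Over.mk (w k))) hS _ fun k => ?_)
  obtain ⟨d, hd⟩ := P.exists_lTensor (Over.mk (w k)) hE (hw k).1 (h (w k) (hw k).1 (hw k).2.1)
  have e : (1 : Ov O (Over.mk (w k))) ⊗ₜ s = (P.P E).subtype.lTensor _ d := by
    apply (hF (Over.mk (w k)) (hw k).1).1
    rw [← theta_comp, LinearMap.id_comp, hd]
    exact one_smul (Ob O (W k)) _
  show (P.P E).mkQ.lTensor _ ((1 : Ov O (Over.mk (w k))) ⊗ₜ s) = 0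
  rw [e, ← LinearMap.comp_apply, ← LinearMap.lTensor_comp, LinearMap.exact_subtype_mkQ (P.P E) |>.linearMap_comp_eq_zero,
    LinearMap.lTensor_zero, LinearMap.zero_apply]

omit [HasSheafify J AddCommGrpCat.{u + 1}] [J.WEqualsLocallyBijective AddCommGrpCat.{u + 1}] in
/-- The submodule of sections lying in the family on all affine objects. -/
def SubFam.submod : F.val.Submodule where
  obj V :=
    { carrier := {s | ∀ ⦃W : C⦄ (w : W ⟶ V.unop), S.Aff W → mres F w (show Sec F V.unop from s) ∈ P.P W}
      add_mem' := fun {a b} ha hb W w hW => by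
        exact (map_add (mres F w) _ _).symm ▸ add_mem (ha w hW) (hb w hW)
      zero_mem' := fun W w hW => (map_zero (mres F w)).symm ▸ zero_mem _
      smul_mem' := fun a s hs W w hW => (mres_smul F w a _).symm ▸ Submodule.smul_mem _ _ (hs w hW) }
  map {V V'} f := fun s hs W w hW => by
    show mres F w (mres F f.unop s) ∈ P.P W
    rw [← mres_comp]
    exact hs (w ≫ f.unop) hW

omit [HasSheafify J AddCommGrpCat.{u + 1}] [J.WEqualsLocallyBijective AddCommGrpCat.{u + 1}] in
theorem SubFam.mem_submod {V : C} (hV : S.Aff V) (s : Sec F V) : s ∈ P.submod.obj (op V) ↔ s ∈ P.P V := by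
  refine ⟨fun h => ?_, fun h W w hW => P.map_mem w hV hW s h⟩
  have := h (𝟙 V) hV
  exact mres_id F s ▸ this

/-- The sheaf of modules of a compatible family. -/
def SubFam.sheaf (hF : ∀ E, S.Aff E → Good F S E) : SheafOfModules.{u + 1} (RR O) where
  val := P.submod.toPresheafOfModules
  isSheaf := by
    rw [Presheaf.isSheaf_iff_isSheaf_forget J _ (CategoryTheory.forget AddCommGrpCat.{u + 1}),
      isSheaf_iff_isSheaf_of_type]
    intro V T hT x hx
    let x' : Presieve.FamilyOfElements (F.val.presheaf ⋙ CategoryTheory.forget AddCommGrpCat.{u + 1}) T.arrows :=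
      fun Z z hz => (x z hz).1
    have hx' : x'.Compatible := fun Z₁ Z₂ W g₁ g₂ f₁ f₂ h₁ h₂ e => congrArg Subtype.val (hx g₁ g₂ h₁ h₂ e)
    obtain ⟨s, hs, hu⟩ := ((isSheaf_iff_isSheaf_of_type _ _).1
      ((Presheaf.isSheaf_iff_isSheaf_forget J F.val.presheaf (CategoryTheory.forget AddCommGrpCat.{u + 1})).1
        F.isSheaf) _ hT) x' hx'
    have hmem : (show F.val.obj (op V) from s) ∈ P.submod.obj (op V) := fun W w hW => by
      refine P.mem_of_cover hW (hF W hW) _ (J.pullback_stable w hT) fun Z z hZ hz => ?_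
      have e : mres F (z ≫ w) s = x' (z ≫ w) hz := hs _ hz
      rw [mres_comp] at e
      rw [e]
      exact (P.mem_submod hZ _).1 (x (z ≫ w) hz).2
    refine ⟨⟨s, hmem⟩, fun Z z hz => Subtype.ext (hs z hz), ?_⟩
    rintro ⟨t, ht⟩ htt
    exact Subtype.ext (hu t fun Z z hz => congrArg Subtype.val (htt z hz))

/-- A compatible family of submodules of a good module is the family of sections of a good submodule. -/
theorem exists_submodule (hF : ∀ E, S.Aff E → Good F S E) :
    ∃ (G : SheafOfModules.{u + 1} (RR O)) (ι : G ⟶ F), Mono ι ∧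
      (∀ E, S.Aff E → LinearMap.range (app ι E) = P.P E) ∧ (∀ E, S.Aff E → Good G S E) ∧
      ∀ {H : SheafOfModules.{u + 1} (RR O)} (φ : H ⟶ F),
        (∀ E, S.Aff E → ∀ x, app φ E x ∈ P.P E) → ∃ ψ : H ⟶ G, ψ ≫ ι = φ := by
  let G := P.sheaf hF
  let ι : G ⟶ F := ⟨P.submod.ι⟩
  haveI : Mono ι := (SheafOfModules.forget (RR O)).mono_of_mono_map (inferInstanceAs (Mono P.submod.ι))
  have hrange : ∀ E, S.Aff E → LinearMap.range (app ι E) = P.P E := fun E hE => by
    ext s
    rw [← P.mem_submod hE]
    exact ⟨fun ⟨y, hy⟩ => hy ▸ y.2, fun h => ⟨⟨s, h⟩, rfl⟩⟩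
  refine ⟨G, ι, inferInstance, hrange, fun E hE V hV => ?_, fun {H} φ hφ => ⟨⟨?_⟩, ?_⟩⟩
  · haveI : Module.Flat (Ob O E) (Ov O V) := S.flat V.hom hE hV
    have key : ∀ c, app ι V.left (theta LinearMap.id V c) = theta LinearMap.id V ((app ι E).lTensor (Ov O V) c) :=
      fun c => (app_theta ι LinearMap.id V c).trans (by rw [← theta_comp, LinearMap.comp_id, LinearMap.id_comp])
    constructor
    · intro a b hab
      exact Module.Flat.lTensor_preserves_injective_linearMap (M := Ov O V) (app ι E) (app_injective ι E)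
        ((hF E hE V hV).1 ((key a).symm.trans ((congrArg _ hab).trans (key b))))
    · intro x
      obtain ⟨d, hd⟩ := P.exists_lTensor V hE hV (s := app ι V.left x) (by rw [← hrange _ hV]; exact ⟨x, rfl⟩)
      let e : P.P E →ₗ[Ob O E] Sec G E :=
        { toFun := fun y => ⟨y.1, (P.mem_submod hE _).2 y.2⟩
          map_add' := fun _ _ => rfl
          map_smul' := fun _ _ => rfl }
      refine ⟨e.lTensor (Ov O V) d, app_injective ι V.left ((key _).trans (Eq.trans ?_ hd))⟩
      rw [← theta_comp, ← theta_comp, LinearMap.id_comp]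
      exact congrArg (fun g => theta g V d) (LinearMap.ext fun _ => rfl)
  · exact PresheafOfModules.homMk
      { app := fun V => AddCommGrpCat.ofHom ((φ.val.app V).hom.toAddMonoidHom.codRestrict (P.submod.obj V).toAddSubmonoid
          fun x W w hW => by
            show mres F w (app φ V.unop x) ∈ P.P W
            rw [← app_mres]
            exact hφ W hW _)
        naturality := fun V W g => by
          ext x
          exact Subtype.ext (PresheafOfModules.naturality_apply φ.val g x) }
      fun V a x => Subtype.ext ((φ.val.app V).hom.map_smul a x)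
  · ext1
    refine PresheafOfModules.hom_ext fun V => ?_
    ext x
    rfl

/-- The family of images of a morphism of good modules. -/
def famOfHom {H : SheafOfModules.{u + 1} (RR O)} (φ : H ⟶ F) (hH : ∀ E, S.Aff E → Good H S E) : SubFam F S where
  P E := LinearMap.range (app φ E)
  map_mem {E W} w _ _ := by
    rintro _ ⟨y, rfl⟩
    exact ⟨mres H w y, app_mres φ w y⟩
  gen {E W} w hE hW := by
    rintro _ ⟨y, rfl⟩
    obtain ⟨c, rfl⟩ := (hH E hE (Over.mk w) hW).2 y
    induction c using TensorProduct.induction_on with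
    | zero => rw [map_zero, map_zero]; exact zero_mem _
    | add a b ha hb => rw [map_add, map_add]; exact add_mem ha hb
    | tmul b m =>
      rw [theta_tmul]
      refine (((app φ W).map_smul _ _).trans (congrArg _ (app_mres φ w m))).symm ▸
        Submodule.smul_mem _ _ (Submodule.subset_span ⟨_, ⟨m, rfl⟩, rfl⟩)

end GrothLib.AlgSp.QCohEt
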