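import Groth.Agent.S10416
import Groth.Agent.S10374
import Groth.Agent.Lib.AlgSp.MonoPoint
import Groth.Agent.Lib.AlgSp.PointProps
import Groth.Agent.Lib.AlgSp.PointsUniv
import Groth.Agent.Lib.AlgSp.FlatMono
import Groth.Agent.Lib.AlgSp.IdealModule
import Groth.Agent.Lib.AlgSp.EtaleLocallyProps
import Groth.Agent.Lib.AlgSp.CodimOneQF
import Mathlib.AlgebraicGeometry.Morphisms.FlatMono

/-!
# The local ring of an elementary neighbourhood is a flat neighbourhood of a closed point
-/

universe u

set_option backward.isDefEq.respectTransparency false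
set_option backward.isDefEq.respectTransparency.types false

open CategoryTheory CategoryTheory.Limits AlgebraicGeometry Opposite

namespace GrothLib.AlgSp.FlatLocalNbhd

open _root_.AlgSp

variable {S : Scheme.{u}}

/-- A point with values in a field lying at `u` factors through the residue field at `u`. -/
theorem exists_factor_residue {U : Over S} (u : ↥U.left) {K : Type u} [Field K]
    {str : Spec (CommRingCat.of K) ⟶ S} (x : Over.mk str ⟶ U)
    (hx : x.left (IsLocalRing.closedPoint K) = u) :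
    ∃ y : Over.mk str ⟶ Over.mk (U.left.fromSpecResidueField u ≫ U.hom),
      y ≫ Over.homMk (U.left.fromSpecResidueField u) rfl = x := by
  obtain ⟨⟨v, ψ⟩, hv⟩ := (Scheme.SpecToEquivOfField K U.left).symm.surjective x.left
  have hv' : Spec.map ψ ≫ U.left.fromSpecResidueField v = x.left := hv
  have : v = u := by
    rw [← hx, ← hv', Scheme.Hom.comp_apply, Scheme.fromSpecResidueField_apply]
  subst this
  refine ⟨Over.homMk (Spec.map ψ) ?_, Over.OverMorphism.ext hv'⟩
  change Spec.map ψ ≫ U.left.fromSpecResidueField v ≫ U.hom = str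
  rw [← Category.assoc, hv']
  exact Over.w x

theorem mono_yon_map {A B : Over S} (f : A ⟶ B) [Mono f] : Mono ((yon S).map f) :=
  mono_of_yon fun T α β h => by
    obtain ⟨α, rfl⟩ := (yon S).map_surjective α
    obtain ⟨β, rfl⟩ := (yon S).map_surjective β
    rw [← Functor.map_comp, ← Functor.map_comp] at h
    rw [(cancel_mono f).1 ((yon S).map_injective h)]

/-- If a closed subspace pulls back isomorphically to a chart and there factors through a monomorphism, it
pulls back isomorphically along that monomorphism. -/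
theorem isPullback_of_mono {A B C D T : Sp S} {q : A ⟶ B} [IsIso q] {d : A ⟶ C} {i : B ⟶ D} {a : C ⟶ D}
    (sq : IsPullback q d i a) (ι : T ⟶ C) [Mono ι] (h : B ⟶ T) (hh : h ≫ ι = inv q ≫ d) :
    IsPullback h (𝟙 B) (ι ≫ a) i := by
  have w : h ≫ ι ≫ a = 𝟙 B ≫ i := by
    rw [Category.id_comp, reassoc_of% hh, ← sq.w, IsIso.inv_hom_id_assoc]
  refine ⟨⟨w⟩, ⟨PullbackCone.IsLimit.mk _ (fun t => t.snd) (fun t => ?_) (fun t => Category.comp_id _)
    fun t m _ h₂ => by rw [← h₂, Category.comp_id]⟩⟩
  have hl : sq.lift t.snd (t.fst ≫ ι) (by rw [Category.assoc]; exact t.condition.symm) = t.snd ≫ inv q := by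
    rw [IsIso.eq_comp_inv, sq.lift_fst]
  rw [← cancel_mono ι, Category.assoc, hh, ← Category.assoc, ← hl, sq.lift_snd]

theorem zeroLocus_pow {U : Scheme.{u}} (J : Ideal Γ(U, ⊤)) {n : ℕ} (hn : 1 ≤ n) :
    U.zeroLocus ((J ^ n : Ideal Γ(U, ⊤)) : Set Γ(U, ⊤)) = U.zeroLocus (J : Set Γ(U, ⊤)) := by
  simp only [Scheme.zeroLocus_def]
  ext x
  simp only [Set.mem_iInter, SetLike.mem_coe]
  refine ⟨fun h f hf => ?_, fun h f hf => h f (Ideal.pow_le_self (by omega) hf)⟩
  have := h (f ^ n) (Ideal.pow_mem_pow hf n)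
  rwa [U.basicOpen_pow f (by omega)] at this

variable {X : Space S}

/-- Powers of the ideal do not change the points of a closed subspace. -/
theorem range_map_eq_of_pow {Z Zn : Sp S} {i : Z ⟶ X.obj} {iZ : Zn ⟶ X.obj} {I : IdealEt X.obj}
    (hI : IsCutOutBy I i) {n : ℕ} (hn : 1 ≤ n) (hn' : IsCutOutBy (I ^ n) iZ) :
    Set.range (Points.map iZ) = Set.range (Points.map i) := by
  obtain ⟨hi, rfl⟩ := hI
  obtain ⟨hiZ, hI'⟩ := hn'
  obtain ⟨U', φ, hφ, hs⟩ := X.property.atlas
  ext x
  obtain ⟨v, rfl⟩ := surjective_ofPt_of_repWith hs x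
  obtain ⟨W, hW, hvW, -⟩ := exists_isAffineOpen_mem_and_subset (x := v) (U := (⊤ : U'.left.Opens)) trivial
  let E : EtOver X.obj := opensObj (EtOver.mk φ hφ) W
  have hE : IsAffine E.obj.left.left := hW
  have e : Points.ofPt E.obj.hom ⟨v, hvW⟩ = Points.ofPt φ v := ofPt_map_comp _ _ _
  have key : Points.ofPt E.obj.hom ⁻¹' Set.range (Points.map iZ) =
      Points.ofPt E.obj.hom ⁻¹' Set.range (Points.map i) := by
    rw [QCohEt.preimage_range_zeroLocus hiZ E hE, QCohEt.preimage_range_zeroLocus hi E hE, hI',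
      IdealEt.pow_ideal]
    exact zeroLocus_pow _ hn
  have := Set.ext_iff.1 key ⟨v, hvW⟩
  simpa only [Set.mem_preimage, e] using this

section elementary

variable {U : Over S} (a : (yon S).obj U ⟶ X.obj) (u : ↥U.left)

/-- The residue point of the chart. -/
noncomputable abbrev res : (FieldPt.ofPt a u).pt ⟶ U := Over.homMk (U.left.fromSpecResidueField u) rfl

theorem isPullback_res (ha : RepWith @Etale a) [Mono (FieldPt.ofPt a u).toHom]
    (hu : Points.ofPt a ⁻¹' {Points.ofPt a u} = {u}) :
    IsPullback ((yon S).map (res a u)) (𝟙 ((yon S).obj (FieldPt.ofPt a u).pt)) a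
      (FieldPt.ofPt a u).toHom := by
  obtain ⟨W, d, c, sq⟩ := exists_isPullback_yon X.property.diag a (FieldPt.ofPt a u).toHom
  haveI : Etale c.left := ha.2 _ _ _ sq
  obtain ⟨l, hl₁, hl₂⟩ := exists_lift_yon sq (res a u) (𝟙 _)
    (by rw [CategoryTheory.Functor.map_id, Category.id_comp, FieldPt.toHom_ofPt])
  have hlc : l.left ≫ c.left = 𝟙 _ := congrArg CommaMorphism.left hl₂
  haveI : Etale (l.left ≫ c.left) := by rw [hlc]; infer_instance
  haveI : Etale l.left := MorphismProperty.HasOfPostcompProperty.of_postcomp (W := @Etale) l.left c.left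
    ‹Etale c.left› ‹Etale (l.left ≫ c.left)›
  haveI : Mono (l.left ≫ c.left) := by rw [hlc]; infer_instance
  haveI : Mono l.left := mono_of_mono l.left c.left
  haveI : IsOpenImmersion l.left := IsOpenImmersion.of_flat_of_mono l.left
  haveI : Mono ((yon S).map d) := sq.mono_fst_of_mono
  have hinj : Function.Injective d.left :=
    (injective_map_yon_iff d).1 (injective_map_of_mono ((yon S).map d))
  haveI : Surjective l.left := ⟨fun w => by
    refine ⟨IsLocalRing.closedPoint _, hinj ?_⟩
    have h1 : d.left (l.left (IsLocalRing.closedPoint _)) = u := by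
      rw [← Scheme.Hom.comp_apply, ← Over.comp_left, hl₁]
      exact U.left.fromSpecResidueField_apply u _
    have h2 : Points.ofPt a (d.left w) = Points.ofPt a u := by
      rw [← ofPt_map_comp, sq.w, ofPt_map_comp, Points.ofPt_toHom]
      rfl
    have h3 : d.left w ∈ Points.ofPt a ⁻¹' {Points.ofPt a u} := h2
    rw [hu, Set.mem_singleton_iff] at h3
    rw [h1, h3]⟩
  haveI : Epi l.left.base := (TopCat.epi_iff_surjective _).2 l.left.surjective
  haveI : IsIso l.left := IsOpenImmersion.isIso l.left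
  haveI : IsIso ((Over.forget S).map l) := inferInstanceAs (IsIso l.left)
  haveI : IsIso l := isIso_of_reflects_iso l (Over.forget S)
  refine sq.of_iso (asIso ((yon S).map l)).symm (Iso.refl _) (Iso.refl _) (Iso.refl _) ?_ ?_ (by simp) (by simp)
  · rw [Iso.refl_hom, Category.comp_id, Iso.symm_hom, asIso_inv, IsIso.eq_inv_comp, ← Functor.map_comp, hl₁]
  · rw [Iso.refl_hom, Category.comp_id, Iso.symm_hom, asIso_inv, IsIso.eq_inv_comp, ← Functor.map_comp, hl₂,
      CategoryTheory.Functor.map_id]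

theorem subsingleton_points_pt (p : FieldPt X.obj) : Subsingleton (Points ((yon S).obj p.pt)) :=
  haveI : Subsingleton ↥p.pt.left := inferInstanceAs (Subsingleton (PrimeSpectrum p.K))
  (Points.schemeEquiv p.pt).symm.subsingleton

theorem range_map_toHom (p : FieldPt X.obj) : Set.range (Points.map p.toHom) = {Points.mk p} := by
  haveI := subsingleton_points_pt p
  have h : Points.map p.toHom (Points.ofScheme _ (IsLocalRing.closedPoint p.K)) = Points.mk p := by
    rw [← Points.ofPt_eq_map_ofScheme]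
    exact Points.ofPt_toHom p _
  ext x
  refine ⟨?_, fun hx => ⟨_, h.trans (Set.mem_singleton_iff.1 hx).symm⟩⟩
  rintro ⟨y, rfl⟩
  rw [Subsingleton.elim y (Points.ofScheme _ (IsLocalRing.closedPoint p.K)), h]
  rfl

theorem isClosedImmersion_toHom (hN : IsLocNoethSp X.obj) (p : FieldPt X.obj) [hm : Mono p.toHom]
    (hz : IsClosed ({Points.mk p} : Set (Points X.obj))) : RepWith @IsClosedImmersion p.toHom := by
  let Z : Space S := ⟨(yon S).obj p.pt, IsAlgSpace.yon_obj _⟩
  let i : Z ⟶ X := ObjectProperty.homMk p.toHom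
  haveI : Mono i.hom := hm
  refine (Groth.Agent.S10416.result hN (Points.mk p) i (range_map_toHom p)
    ⟨p.K, inferInstance, p.str, 𝟙 _, ?_, ?_, fun x => ⟨x, Points.map_id x⟩⟩).1 hz
  all_goals
    intro A B c e k hc he hk
    haveI : Etale k.left := EtOver.etale_left (E := EtOver.mk c hc) (E' := EtOver.mk e he)
      (EtOver.homMk k (hk.symm.trans (Category.comp_id _)))
    infer_instance

theorem mono_chart (ha : RepWith @Etale a) [Mono (FieldPt.ofPt a u).toHom]
    {Zn : Sp S} {iZ : Zn ⟶ X.obj} {Wn : Over S} (q : (yon S).obj Wn ⟶ Zn) (hq : RepWith @Etale q)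
    (d : Wn ⟶ U) [Mono d] (sq : q ≫ iZ = (yon S).map d ≫ a) (hd : ∀ w, d.left w = u) : Mono q := by
  obtain ⟨R, t, s, sqR⟩ := exists_isPullback_of_representable hq.1 q
  obtain ⟨t, rfl⟩ := (yon S).map_surjective t
  haveI : Etale s.left := hq.2 _ _ _ sqR
  obtain ⟨δ, hδ₁, hδ₂⟩ := exists_lift_yon sqR (𝟙 Wn) (𝟙 Wn) rfl
  have hδs : δ.left ≫ s.left = 𝟙 _ := congrArg CommaMorphism.left hδ₂
  haveI : Etale (δ.left ≫ s.left) := by rw [hδs]; infer_instance
  haveI : Etale δ.left := MorphismProperty.HasOfPostcompProperty.of_postcomp (W := @Etale) δ.left s.left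
    ‹Etale s.left› ‹Etale (δ.left ≫ s.left)›
  haveI : Mono (δ.left ≫ s.left) := by rw [hδs]; infer_instance
  haveI : Mono δ.left := mono_of_mono δ.left s.left
  haveI : IsOpenImmersion δ.left := IsOpenImmersion.of_flat_of_mono δ.left
  haveI : Surjective δ.left := ⟨fun r => by
    let g : Over.mk (R.left.fromSpecResidueField r ≫ R.hom) ⟶ R := Over.homMk (R.left.fromSpecResidueField r) rfl
    have hpt : ∀ α : Over.mk (R.left.fromSpecResidueField r ≫ R.hom) ⟶ Wn,
        (α ≫ d).left (IsLocalRing.closedPoint (R.left.residueField r)) = u := fun α => by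
      rw [Over.comp_left, Scheme.Hom.comp_apply]
      exact hd _
    obtain ⟨α', hα⟩ := exists_factor_residue (K := R.left.residueField r) u _ (hpt (g ≫ t))
    obtain ⟨β', hβ⟩ := exists_factor_residue (K := R.left.residueField r) u _ (hpt (g ≫ s))
    have hp : ∀ y : Over.mk (R.left.fromSpecResidueField r ≫ R.hom) ⟶ (FieldPt.ofPt a u).pt,
        (yon S).map y ≫ (FieldPt.ofPt a u).toHom = (yon S).map (y ≫ res a u) ≫ a := fun y => by
      rw [FieldPt.toHom_ofPt, Functor.map_comp, Category.assoc]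
    have e : (yon S).map α' ≫ (FieldPt.ofPt a u).toHom = (yon S).map β' ≫ (FieldPt.ofPt a u).toHom := by
      rw [hp, hp, show α' ≫ res a u = (g ≫ t) ≫ d from hα, show β' ≫ res a u = (g ≫ s) ≫ d from hβ,
        Functor.map_comp, Functor.map_comp, Category.assoc, Category.assoc, ← sq, Functor.map_comp,
        Functor.map_comp, Category.assoc, Category.assoc, reassoc_of% sqR.w, sq]
    have e' : α' = β' := (yon S).map_injective ((cancel_mono _).1 e)
    have hts : g ≫ t = g ≫ s := (cancel_mono d).1 (by rw [← hα, ← hβ, e'])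
    have hg : g = (g ≫ t) ≫ δ := by
      apply (yon S).map_injective
      apply sqR.hom_ext
      · rw [← Functor.map_comp, ← Functor.map_comp, Category.assoc, hδ₁, Category.comp_id]
      · rw [← Functor.map_comp, ← Functor.map_comp, Category.assoc, hδ₂, Category.comp_id, hts]
    refine ⟨(g ≫ t).left (IsLocalRing.closedPoint (R.left.residueField r)), ?_⟩
    rw [← Scheme.Hom.comp_apply, ← Over.comp_left, ← hg]
    exact R.left.fromSpecResidueField_apply r _⟩
  haveI : Epi δ.left.base := (TopCat.epi_iff_surjective _).2 δ.left.surjective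
  haveI : IsIso δ.left := IsOpenImmersion.isIso δ.left
  haveI : IsIso ((Over.forget S).map δ) := inferInstanceAs (IsIso δ.left)
  haveI : IsIso δ := isIso_of_reflects_iso δ (Over.forget S)
  have hts : t = s := by rw [← cancel_epi δ, hδ₁, hδ₂]
  refine mono_of_yon fun T α β h => ?_
  obtain ⟨α, rfl⟩ := (yon S).map_surjective α
  obtain ⟨β, rfl⟩ := (yon S).map_surjective β
  obtain ⟨l, h₁, h₂⟩ := exists_lift_yon sqR α β h
  rw [← h₁, ← h₂, hts]

/-- The local scheme at the point. -/
noncomputable abbrev locObj : Over S := Over.mk (U.left.fromSpecStalk u ≫ U.hom)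

/-- Its map to the chart. -/
noncomputable abbrev locMap : locObj u ⟶ U := Over.homMk (U.left.fromSpecStalk u) rfl

theorem exists_flat_factor [IsAffine U.left] {Wn : Over S} (d : Wn ⟶ U) (hd : ∀ w, d.left w = u) :
    ∃ k : Wn ⟶ locObj u, k ≫ locMap u = d := by
  haveI : Flat (U.left.fromSpecStalk u) := GrothLib.FEt21.flat_fromSpecStalk u
  haveI : Flat (pullback.fst d.left (U.left.fromSpecStalk u)) := inferInstance
  haveI : Mono (pullback.fst d.left (U.left.fromSpecStalk u)) := inferInstance
  haveI : IsAffineHom (U.left.fromSpecStalk u) := inferInstance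
  haveI : QuasiCompact (pullback.fst d.left (U.left.fromSpecStalk u)) := inferInstance
  haveI : Surjective (pullback.fst d.left (U.left.fromSpecStalk u)) := ⟨fun w => by
    obtain ⟨z, hz, -⟩ := Scheme.Pullback.exists_preimage_pullback (f := d.left) (g := U.left.fromSpecStalk u) w
      (IsLocalRing.closedPoint _) (by rw [hd]; exact Scheme.fromSpecStalk_closedPoint.symm)
    exact ⟨z, hz⟩⟩
  haveI : IsIso (pullback.fst d.left (U.left.fromSpecStalk u)) := Flat.isIso_of_surjective_of_mono _
  have e : (inv (pullback.fst d.left (U.left.fromSpecStalk u)) ≫ pullback.snd _ _) ≫ U.left.fromSpecStalk u =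
      d.left := by
    rw [Category.assoc, ← pullback.condition, IsIso.inv_hom_id_assoc]
  exact ⟨Over.homMk (inv (pullback.fst d.left (U.left.fromSpecStalk u)) ≫ pullback.snd _ _)
    (by
      change _ ≫ U.left.fromSpecStalk u ≫ U.hom = Wn.hom
      rw [← Category.assoc, e]
      exact Over.w d), Over.OverMorphism.ext e⟩

theorem isPullback_infNbhd [IsAffine U.left] (ha : RepWith @Etale a) [Mono (FieldPt.ofPt a u).toHom]
    (hu : Points.ofPt a ⁻¹' {Points.ofPt a u} = {u}) {I : IdealEt X.obj}
    (hI : IsCutOutBy I (FieldPt.ofPt a u).toHom) {n : ℕ} (hn : 1 ≤ n) {Zn : Sp S} {iZ : Zn ⟶ X.obj}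
    (hn' : IsCutOutBy (I ^ n) iZ) :
    ∃ h : Zn ⟶ (yon S).obj (locObj u), IsPullback h (𝟙 Zn) ((yon S).map (locMap u) ≫ a) iZ := by
  have hrange := range_map_eq_of_pow hI hn hn'
  rw [range_map_toHom] at hrange
  have hz : Points.mk (FieldPt.ofPt a u) = Points.ofPt a u := rfl
  obtain ⟨hiZ, -⟩ := hn'
  let E : EtOver X.obj := EtOver.mk a ha
  let Wn := (EtOver.bcObj hiZ.1 E).obj.left
  let q : (yon S).obj Wn ⟶ Zn := (EtOver.bcObj hiZ.1 E).obj.hom
  let d : Wn ⟶ U := EtOver.bcπ hiZ.1 E
  have sqn : IsPullback q ((yon S).map d) iZ a := EtOver.isPullback_bcObj hiZ.1 E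
  have hq : RepWith @Etale q := (EtOver.bcObj hiZ.1 E).property
  haveI : IsClosedImmersion d.left := hiZ.2 _ _ _ sqn
  haveI : Mono d := (Over.forget S).mono_of_mono_map (inferInstanceAs (Mono d.left))
  have hd : ∀ w, d.left w = u := fun w => by
    have h2 : d.left w ∈ Points.ofPt a ⁻¹' {Points.ofPt a u} := by
      show Points.ofPt a (d.left w) ∈ ({Points.ofPt a u} : Set (Points X.obj))
      rw [← hz, ← hrange, ← ofPt_map_comp, ← sqn.w]
      exact ⟨Points.ofPt q w, Points.map_ofPt _ _ _⟩
    rwa [hu, Set.mem_singleton_iff] at h2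
  haveI : Mono q := mono_chart a u ha q hq d sqn.w hd
  have hqs : RepWith @Surjective q := (repWith_surjective_iff hq.1).2 fun y => by
    have hy : Points.map iZ y = Points.ofPt a u := by
      have : Points.map iZ y ∈ ({Points.ofPt a u} : Set (Points X.obj)) := by
        rw [← hz, ← hrange]
        exact ⟨y, rfl⟩
      exact this
    obtain ⟨w, hw, -⟩ := exists_of_isPullback sqn (x := y) (y := Points.ofScheme U u)
      (by rw [hy, Points.ofPt_eq_map_ofScheme])
    exact ⟨w, hw⟩
  haveI := chart_isLocallySurjective hq hqs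
  haveI : Epi q := Sheaf.epi_of_isLocallySurjective q
  haveI : IsIso q := isIso_of_mono_of_epi q
  obtain ⟨k, hk⟩ := exists_flat_factor u d hd
  haveI : Mono (locMap u) := (Over.forget S).mono_of_mono_map (inferInstanceAs (Mono (U.left.fromSpecStalk u)))
  haveI := mono_yon_map (locMap u)
  exact ⟨inv q ≫ (yon S).map k, isPullback_of_mono sqn _ _ (by
    rw [Category.assoc, ← Functor.map_comp, hk])⟩

end elementary

theorem exists_flat_local_nbhd (X : Space S) (hqs : IsQuasiSeparatedSp X.obj) (hN : IsLocNoethSp X.obj)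
    (z : Points X.obj) (hz : IsClosed ({z} : Set (Points X.obj))) :
    ∃ (R : CommRingCat.{u}) (hR : IsLocalRing ↥R) (str : Spec R ⟶ S)
      (φ : (yon S).obj (Over.mk str) ⟶ X.obj) (p : FieldPt X.obj) (t : p.pt ⟶ Over.mk str),
      IsNoetherianRing ↥R ∧ RepWith @Flat φ ∧
      Points.ofPt φ (@IsLocalRing.closedPoint ↥R _ hR) = z ∧
      Points.mk p = z ∧ RepWith @IsClosedImmersion p.toHom ∧
      IsPullback ((yon S).map t) (𝟙 ((yon S).obj p.pt)) φ p.toHom ∧
      (∀ (I : IdealEt X.obj), IsCutOutBy I p.toHom → ∀ n : ℕ, 1 ≤ n →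
        ∀ (Zn : Sp S) (iZ : Zn ⟶ X.obj), IsCutOutBy (I ^ n) iZ →
          ∀ (P : Sp S) (fst : P ⟶ (yon S).obj (Over.mk str)) (snd : P ⟶ Zn),
            IsPullback fst snd φ iZ → IsIso snd) ∧
      HasAt (fun U u => ringKrullDim ↥(U.presheaf.stalk u) = ringKrullDim ↥R) X.obj z := by
  obtain ⟨U, a, u, hU, hE, hpre⟩ :=
    Groth.Agent.S10374.result X (isDecent_of_isQuasiSeparatedSp X.property hqs) z
  obtain rfl := hE.ofPt_eq
  haveI := hE.mono
  haveI := hU
  haveI : IsLocallyNoetherian U.left :=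
    etaleLocally_chart (fun _ _ e => isLocallyNoetherian_of_etale e) (fun _ _ e => isLocallyNoetherian_desc e) hN a hE.etale
  haveI : Flat (U.left.fromSpecStalk u) := GrothLib.FEt21.flat_fromSpecStalk u
  haveI : Mono (locMap u) := (Over.forget S).mono_of_mono_map (inferInstanceAs (Mono (U.left.fromSpecStalk u)))
  haveI := mono_yon_map (locMap u)
  have sq := isPullback_res a u hE.etale hpre
  let t : (FieldPt.ofPt a u).pt ⟶ locObj u := Over.homMk (Spec.map (U.left.residue u))
    (by change Spec.map _ ≫ U.left.fromSpecStalk u ≫ U.hom = U.left.fromSpecResidueField u ≫ U.hom; rfl)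
  have ht : t ≫ locMap u = res a u := Over.OverMorphism.ext rfl
  refine ⟨U.left.presheaf.stalk u, inferInstance, U.left.fromSpecStalk u ≫ U.hom,
    (yon S).map (locMap u) ≫ a, FieldPt.ofPt a u, t, inferInstance, ?_, ?_, rfl,
    isClosedImmersion_toHom hN _ hz, ?_, ?_, ⟨U, a, u, hE.etale, rfl, rfl⟩⟩
  · exact (repWith_isMultiplicative (S := S) @Flat).comp_mem _ _
      ((repWith_yon_map_iff _ _).2 (inferInstanceAs (Flat (U.left.fromSpecStalk u))))
      (repWith_mono hE.etale fun _ _ g _ => (inferInstance : Flat g))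
  · rw [ofPt_map_comp]
    exact congrArg (Points.ofPt a) Scheme.fromSpecStalk_closedPoint
  · have hs : (yon S).map (res a u) = inv (𝟙 _) ≫ (yon S).map (t ≫ locMap u) := by simp [ht]
    exact isPullback_of_mono sq.flip ((yon S).map (locMap u)) ((yon S).map t)
      (by rw [← Functor.map_comp, ht, IsIso.inv_id, Category.id_comp])
  · intro I hI n hn Zn iZ hn' P fst snd hP
    obtain ⟨h, hh⟩ := isPullback_infNbhd a u hE.etale hpre hI hn hn'
    have : snd = (hP.isoIsPullback _ _ hh).hom :=
      (IsPullback.isoIsPullback_hom_snd _ _ hP hh).symm.trans (Category.comp_id _)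
    rw [this]
    infer_instance

end GrothLib.AlgSp.FlatLocalNbhd
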