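import Groth.Agent.Lib.AlgSp.FlatFibres
import Groth.Agent.S1386

/-!
# The flat locus of a morphism over a base commutes with base change

Main results: `flat_stalk_bc`, `flat_stalk_bc_iff`, `exists_bc_chart_point`.
-/

universe u

open CategoryTheory CategoryTheory.Limits AlgebraicGeometry

namespace GrothLib.AlgSp

variable {U V W U' V' W' : Scheme.{u}}

/-- Flatness at a point is stable under base change. -/
theorem flat_stalk_bc {p : U' ⟶ U} {h' : U' ⟶ V'} {h : U ⟶ V} {q : V' ⟶ V} (sq : IsPullback p h' h q)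
    [LocallyOfFinitePresentation h] (u : U') (hu : (h.stalkMap (p u)).hom.Flat) : (h'.stalkMap u).hom.Flat := by
  let O : U.Opens := ⟨{x | (h.stalkMap x).hom.Flat}, GrothLib.FibreFlat.isOpen_flat_stalkMap h⟩
  have : Flat (O.ι ≫ h) := Flat.of_stalkMap _ fun x =>
    flat_stalk_comp O.ι h x (Flat.stalkMap O.ι x) x.2
  have sqO := (IsPullback.of_hasPullback O.ι p).paste_vert sq.flip.flip
  have : Flat (pullback.snd O.ι p ≫ h') := MorphismProperty.of_isPullback (P := @Flat) sqO.flip.flip ‹_›
  obtain ⟨z, -, hz⟩ := Scheme.Pullback.exists_preimage_pullback (f := O.ι) (g := p) (⟨p u, hu⟩ : O) u rfl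
  subst hz
  exact flat_stalk_right (pullback.snd O.ι p) h' z (Flat.stalkMap _ z) (Flat.stalkMap _ z)

set_option backward.isDefEq.respectTransparency false in
/-- Over a base, flatness at a point descends along any base change. -/
theorem flat_stalk_bc_iff {h : U ⟶ V} {k : V ⟶ W} {h' : U' ⟶ V'} {k' : V' ⟶ W'} {p : U' ⟶ U} {q : V' ⟶ V}
    {m : W' ⟶ W} (sq : IsPullback p h' h q) (sk : IsPullback q k' k m) [LocallyOfFinitePresentation (h ≫ k)]
    [Flat (h ≫ k)] [LocallyOfFiniteType k] (u : U') :
    (h.stalkMap (p u)).hom.Flat ↔ (h'.stalkMap u).hom.Flat := by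
  have : LocallyOfFinitePresentation h := GrothLib.DiagGrp.lfp_of_comp_of_lft h k ‹_› ‹_›
  refine ⟨flat_stalk_bc sq u, fun hu => ?_⟩
  have sqc := sq.paste_vert sk
  have : LocallyOfFinitePresentation (h' ≫ k') :=
    MorphismProperty.of_isPullback (P := @LocallyOfFinitePresentation) sqc ‹_›
  have : Flat (h' ≫ k') := MorphismProperty.of_isPullback (P := @Flat) sqc ‹_›
  have : LocallyOfFiniteType k' := MorphismProperty.of_isPullback (P := @LocallyOfFiniteType) sk ‹_›
  have hk : (k'.stalkMap (h' u)).hom.Flat := flat_stalk_right h' k' u hu (Flat.stalkMap _ u)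
  have hF := (((Groth.Agent.S1386.result h' k').1 u).2 ⟨hk, hu⟩).2
  refine (((Groth.Agent.S1386.result h k).1 (p u)).1 ⟨Flat.stalkMap _ _, ?_⟩).2
  have key : ∀ s, s = k (h (p u)) → ∀ z : (h ≫ k).fiber s, (h ≫ k).fiberι s z = p u →
      ((MoreMor.fiberMap h k s).stalkMap z).hom.Flat →
      ((MoreMor.fiberMap h k (k (h (p u)))).stalkMap ((h ≫ k).asFiber (p u))).hom.Flat := by
    rintro s rfl z hz H
    have : z = (h ≫ k).asFiber (p u) :=
      ((h ≫ k).fiberι _).isEmbedding.injective (hz.trans ((h ≫ k).fiberι_asFiber (p u)).symm)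
    exact this ▸ H
  let w' := k' (h' u)
  let j : Spec (W'.residueField w') ⟶ Spec (W.residueField (m w')) := Spec.map (m.residueFieldMap w')
  have hj : j ≫ W.fromSpecResidueField (m w') = W'.fromSpecResidueField w' ≫ m :=
    Scheme.Hom.SpecMap_residueFieldMap_fromSpecResidueField m w'
  have : Flat j := by
    refine (HasRingHomProperty.Spec_iff (P := @Flat)).2 ?_
    algebraize [(m.residueFieldMap w').hom]
    exact (inferInstance : Module.Flat (W.residueField (m w')) (W'.residueField w'))
  have sU := (IsPullback.of_hasPullback (h' ≫ k') (W'.fromSpecResidueField w')).paste_horiz sqc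
  have sV := (IsPullback.of_hasPullback k' (W'.fromSpecResidueField w')).paste_horiz sk
  rw [← hj] at sU sV
  let πU : (h' ≫ k').fiber w' ⟶ (h ≫ k).fiber (m w') :=
    pullback.lift ((h' ≫ k').fiberι w' ≫ p) ((h' ≫ k').fiberToSpecResidueField w' ≫ j)
      (by rw [Category.assoc _ j]; exact sU.w)
  let πV : k'.fiber w' ⟶ k.fiber (m w') :=
    pullback.lift (k'.fiberι w' ≫ q) (k'.fiberToSpecResidueField w' ≫ j)
      (by rw [Category.assoc _ j]; exact sV.w)
  have pU : IsPullback πU ((h' ≫ k').fiberToSpecResidueField w') ((h ≫ k).fiberToSpecResidueField (m w')) j := by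
    refine IsPullback.of_right ?_ (pullback.lift_snd _ _ _) (IsPullback.of_hasPullback _ _)
    rw [pullback.lift_fst]; exact sU
  have pV : IsPullback πV (k'.fiberToSpecResidueField w') (k.fiberToSpecResidueField (m w')) j := by
    refine IsPullback.of_right ?_ (pullback.lift_snd _ _ _) (IsPullback.of_hasPullback _ _)
    rw [pullback.lift_fst]; exact sV
  have : Flat πU := MorphismProperty.of_isPullback (P := @Flat) pU.flip ‹_›
  have : Flat πV := MorphismProperty.of_isPullback (P := @Flat) pV.flip ‹_›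
  have comm : MoreMor.fiberMap h' k' w' ≫ πV = πU ≫ MoreMor.fiberMap h k (m w') := by
    apply pullback.hom_ext
    · simp only [MoreMor.fiberMap, πU, πV, Category.assoc, pullback.lift_fst, pullback.lift_fst_assoc]
      simp only [Scheme.Hom.fiberι, pullback.lift_fst, pullback.lift_fst_assoc, Category.assoc, sq.w]
    · simp only [MoreMor.fiberMap, πU, πV, Category.assoc, pullback.lift_snd, pullback.lift_snd_assoc]
      simp only [Scheme.Hom.fiberToSpecResidueField, pullback.lift_snd, pullback.lift_snd_assoc, Category.assoc]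
  let t := (h' ≫ k').asFiber u
  refine key (m w') ?_ (πU t) ?_ ?_
  · show m (k' (h' u)) = _
    rw [← Scheme.Hom.comp_apply, ← sk.w, Scheme.Hom.comp_apply, ← Scheme.Hom.comp_apply h' q, ← sq.w,
      Scheme.Hom.comp_apply]
  · have : πU ≫ (h ≫ k).fiberι (m w') = (h' ≫ k').fiberι w' ≫ p := pullback.lift_fst _ _ _
    rw [← Scheme.Hom.comp_apply, this, Scheme.Hom.comp_apply]
    exact congrArg p ((h' ≫ k').fiberι_asFiber u)
  · exact flat_stalk_right πU _ t (Flat.stalkMap _ t)
      ((flat_stalk_congr comm).1 (flat_stalk_comp _ πV t hF (Flat.stalkMap _ _)))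

open _root_.AlgSp

variable {S : Scheme.{u}}

/-- Every point of a base change lies on a base change of given charts. -/
theorem exists_bc_chart_point {X Z X' Z' : Sp S} (hX' : IsAlgSpace X') (hZ : IsAlgSpace Z) (hZ' : IsAlgSpace Z')
    {f : X ⟶ Z} {f' : X' ⟶ Z'} {g : Z' ⟶ Z} {pX : X' ⟶ X} (sq : IsPullback pX f' f g) {U W : Over S}
    {a : (yon S).obj U ⟶ X} {c : (yon S).obj W ⟶ Z} {k : U ⟶ W} (ha : RepWith @Etale a) (hs : RepWith @Surjective a)
    (hc : RepWith @Etale c) (comm : a ≫ f = (yon S).map k ≫ c) :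
    ∃ (W' : Over S) (c' : (yon S).obj W' ⟶ Z') (m : W' ⟶ W), RepWith @Etale c' ∧
      c' ≫ g = (yon S).map m ≫ c ∧ ∀ x : Points X', ∃ u : ↥(pullback k m).left,
        ∃ a' : (yon S).obj (pullback k m) ⟶ X', RepWith @Etale a' ∧
          a' ≫ pX = (yon S).map (pullback.fst k m) ≫ a ∧ a' ≫ f' = (yon S).map (pullback.snd k m) ≫ c' ∧
          Points.ofPt a' u = x := by
  have sG := IsPullback.of_hasPullback g c
  obtain ⟨W', r, re, rs⟩ := (isAlgSpace_pullback' hZ hZ' (IsAlgSpace.yon_obj W) g c).atlas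
  obtain ⟨m, hm⟩ := (yon S).map_surjective (r ≫ pullback.snd g c)
  let c' := r ≫ pullback.fst g c
  have hc' : RepWith @Etale c' := repWith_comp re (repWith_of_isPullback sG.flip hc)
  have ec : c' ≫ g = (yon S).map m ≫ c := by
    rw [Category.assoc, sG.w, ← Category.assoc, hm]
  refine ⟨W', c', m, hc', ec, fun x => ?_⟩
  have sP := IsPullback.of_hasPullback f' c'
  have sP' : IsPullback (pullback.fst f' c' ≫ pX) (pullback.snd f' c') f ((yon S).map m ≫ c) := by
    rw [← ec]; exact sP.paste_horiz sq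
  obtain ⟨a', ha', has, haf⟩ := etale_chart_baseChange ha hc comm m sP'
  have sQ := IsPullback.of_hasPullback pX a
  obtain ⟨y, hy⟩ := surjective_map_of_repWith hs (Points.map pX x)
  obtain ⟨q, hq, -⟩ := exists_of_isPullback sQ (x := x) (y := y) hy.symm
  have hθw : (pullback.fst pX a ≫ f') ≫ g = (pullback.snd pX a ≫ (yon S).map k) ≫ c := by
    rw [Category.assoc, ← sq.w, ← Category.assoc, sQ.w, Category.assoc, comm, Category.assoc]
  let θ : pullback pX a ⟶ pullback g c := sG.lift _ _ hθw
  obtain ⟨w, hw⟩ := surjective_map_of_repWith rs (Points.map θ q)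
  have sR := IsPullback.of_hasPullback θ r
  obtain ⟨z, hz1, -⟩ := exists_of_isPullback sR (x := q) (y := w) hw.symm
  have hQ : IsAlgSpace (pullback pX a) := isAlgSpace_of_representable hX' (repWith_of_isPullback sQ.flip ha).1
  obtain ⟨T, t, te, ts⟩ := (isAlgSpace_of_representable hQ (repWith_of_isPullback sR.flip re).1).atlas
  obtain ⟨t₀, rfl⟩ := surjective_ofPt_of_repWith ts z
  obtain ⟨β, hβ⟩ := (yon S).map_surjective (t ≫ pullback.fst θ r ≫ pullback.snd pX a)
  obtain ⟨γ, hγ⟩ := (yon S).map_surjective (t ≫ pullback.snd θ r)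
  have hθ1 : θ ≫ pullback.fst g c = pullback.fst pX a ≫ f' := sG.lift_fst _ _ _
  have hθ2 : θ ≫ pullback.snd g c = pullback.snd pX a ≫ (yon S).map k := sG.lift_snd _ _ _
  have hbg : β ≫ k = γ ≫ m := (yon S).map_injective (by
    rw [Functor.map_comp, Functor.map_comp, hβ, hγ, hm, Category.assoc, Category.assoc, Category.assoc, ← hθ2,
      ← Category.assoc (pullback.fst θ r), sR.w, Category.assoc])
  let δ : T ⟶ pullback k m := pullback.lift β γ hbg
  have haP : RepWith @Etale (a' ≫ pullback.fst f' c') := repWith_comp ha' (repWith_of_isPullback sP.flip hc')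
  refine ⟨δ.left t₀, a' ≫ pullback.fst f' c', haP, ?_, ?_, ?_⟩
  · rw [Category.assoc]; exact haf
  · rw [Category.assoc, sP.w, ← Category.assoc, has]
  · have e : (yon S).map δ ≫ a' ≫ pullback.fst f' c' = t ≫ pullback.fst θ r ≫ pullback.fst pX a := by
      refine sq.hom_ext ?_ ?_
      · rw [Category.assoc, Category.assoc, haf, ← Category.assoc, ← Functor.map_comp, pullback.lift_fst, hβ]
        simp only [Category.assoc, sQ.w]
      · rw [Category.assoc, Category.assoc, sP.w, ← Category.assoc a', has, ← Category.assoc, ← Functor.map_comp,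
          pullback.lift_snd, hγ]
        simp only [c', Category.assoc, ← hθ1]
        rw [← Category.assoc (pullback.fst θ r), sR.w, Category.assoc]
    rw [← ofPt_map_comp, e, ← hq, ← hz1, Points.map_ofPt, Points.map_ofPt, Category.assoc]

end GrothLib.AlgSp
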