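import Groth.Agent.Lib.IndEt.Retract
import Mathlib.RingTheory.Etale.Descent
import Mathlib.RingTheory.Localization.BaseChange

/-!
# Flat maps which are etale local monomorphisms

If `B` is flat over `R` and `B ⊗[R] B` is etale over `B`, then near every prime in the image of
`Spec B` the `R`-algebra `B` is, on algebra valued points over `B`, an etale algebra `C`
(`exists_etale_local`).
-/

universe u

open TensorProduct

set_option maxSynthPendingDepth 3
set_option backward.isDefEq.respectTransparency false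
set_option maxHeartbeats 800000

namespace GrothLib.AlgSp.FlatMonoLocal

section Spread

variable {A : Type u} [CommRing A] {M : Type u} [CommRing M] [Algebra A M] [Algebra.FinitePresentation A M]
  {N : Type u} [CommRing N] [Algebra A N] [Algebra.FinitePresentation A N]

/-- A map of finitely presented algebras which is bijective on points after inverting a submonoid is
already so after inverting one element. -/
theorem exists_spread (φ : M →ₐ[A] N) (S : Submonoid A)
    (H : ∀ (T : Type u) [CommRing T] [Algebra A T], (∀ s ∈ S, IsUnit (algebraMap A T s)) →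
      ∀ m : M →ₐ[A] T, ∃! n : N →ₐ[A] T, n.comp φ = m) :
    ∃ s ∈ S, ∀ (T : Type u) [CommRing T] [Algebra A T], IsUnit (algebraMap A T s) →
      ∀ m : M →ₐ[A] T, ∃! n : N →ₐ[A] T, n.comp φ = m := by
  classical
  let SM := Algebra.algebraMapSubmonoid M S
  let SN := Algebra.algebraMapSubmonoid N S
  let MS := Localization SM
  let NS := Localization SN
  have hMS : ∀ s ∈ S, IsUnit (algebraMap A MS s) := fun s hs => by
    rw [IsScalarTower.algebraMap_apply A M MS]
    exact IsLocalization.map_units MS (⟨_, Algebra.mem_algebraMapSubmonoid_of_mem ⟨s, hs⟩⟩ : SM)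
  have hNS : ∀ s ∈ S, IsUnit (algebraMap A NS s) := fun s hs => by
    rw [IsScalarTower.algebraMap_apply A N NS]
    exact IsLocalization.map_units NS (⟨_, Algebra.mem_algebraMapSubmonoid_of_mem ⟨s, hs⟩⟩ : SN)
  obtain ⟨ν, hν, -⟩ := H MS hMS (IsScalarTower.toAlgHom A M MS)
  let φS : MS →ₐ[A] NS := IsLocalization.liftAlgHom (M := SM)
    (f := (IsScalarTower.toAlgHom A N NS).comp φ) (by
      rintro ⟨_, s, hs, rfl⟩
      show IsUnit (((IsScalarTower.toAlgHom A N NS).comp φ) (algebraMap A M s))
      rw [AlgHom.commutes]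
      exact hNS s hs)
  have hφS : ∀ m, φS (algebraMap M MS m) = algebraMap N NS (φ m) := fun m =>
    IsLocalization.lift_eq _ m
  have hinv : φS.comp ν = IsScalarTower.toAlgHom A N NS := by
    refine (H NS hNS ((IsScalarTower.toAlgHom A N NS).comp φ)).unique ?_ rfl
    rw [AlgHom.comp_assoc, hν]
    exact AlgHom.ext hφS
  have hsurj : ∀ n : N, ∃ s ∈ S, ∃ m, algebraMap A N s * n = φ m := fun n => by
    obtain ⟨⟨m, ⟨_, s₁, hs₁, rfl⟩⟩, hm⟩ := IsLocalization.surj SM (ν n)
    have h1 : algebraMap N NS (algebraMap A N s₁ * n) = algebraMap N NS (φ m) := by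
      have := congrArg φS hm
      have h2 : φS (ν n) = algebraMap N NS n := AlgHom.congr_fun hinv n
      simp only [map_mul, hφS, h2, φ.commutes] at this
      rw [map_mul, mul_comm]
      exact this
    obtain ⟨⟨_, s₂, hs₂, rfl⟩, h⟩ := (IsLocalization.eq_iff_exists SN NS).1 h1
    refine ⟨s₂ * s₁, mul_mem hs₂ hs₁, algebraMap A M s₂ * m, ?_⟩
    rw [map_mul, mul_assoc, map_mul, φ.commutes]
    exact h
  have hinj : ∀ m : M, φ m = 0 → ∃ s ∈ S, algebraMap A M s * m = 0 := fun m hm => by
    have h1 : algebraMap M MS m = 0 := by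
      have := AlgHom.congr_fun hν m
      simp only [AlgHom.comp_apply, hm, map_zero] at this
      exact this.symm
    obtain ⟨⟨_, s, hs, rfl⟩, h⟩ := (IsLocalization.map_eq_zero_iff SM MS m).1 h1
    exact ⟨s, hs, h⟩
  obtain ⟨k, g, hg⟩ := Algebra.FiniteType.iff_quotient_mvPolynomial''.1 (inferInstance : Algebra.FiniteType A N)
  choose sg hsg mg hmg using fun i : Fin k => hsurj (g (MvPolynomial.X i))
  let s₀ := ∏ i, sg i
  have hs₀ : s₀ ∈ S := prod_mem fun i _ => hsg i
  let M₀ := Localization.Away (algebraMap A M s₀)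
  let N₀ := Localization.Away (algebraMap A N s₀)
  haveI : Algebra.FinitePresentation M M₀ := IsLocalization.Away.finitePresentation (algebraMap A M s₀)
  haveI : Algebra.FinitePresentation N N₀ := IsLocalization.Away.finitePresentation (algebraMap A N s₀)
  haveI : Algebra.FinitePresentation A M₀ := Algebra.FinitePresentation.trans A M M₀
  haveI : Algebra.FinitePresentation A N₀ := Algebra.FinitePresentation.trans A N N₀
  have hM₀ : IsUnit (algebraMap A M₀ s₀) := by
    rw [IsScalarTower.algebraMap_apply A M M₀]; exact IsLocalization.Away.algebraMap_isUnit _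
  have hN₀ : IsUnit (algebraMap A N₀ s₀) := by
    rw [IsScalarTower.algebraMap_apply A N N₀]; exact IsLocalization.Away.algebraMap_isUnit _
  let φ₀ : M₀ →ₐ[A] N₀ := IsLocalization.liftAlgHom (M := Submonoid.powers (algebraMap A M s₀))
    (f := (IsScalarTower.toAlgHom A N N₀).comp φ) (by
      rintro ⟨_, j, rfl⟩
      show IsUnit (((IsScalarTower.toAlgHom A N N₀).comp φ) (algebraMap A M s₀ ^ j))
      rw [map_pow, AlgHom.commutes]
      exact hN₀.pow j)
  have hφ₀ : ∀ m, φ₀ (algebraMap M M₀ m) = algebraMap N N₀ (φ m) := fun m => IsLocalization.lift_eq _ m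
  have hX : ∀ i, algebraMap N N₀ (g (MvPolynomial.X i)) ∈ φ₀.range := fun i => by
    have hu : IsUnit (algebraMap A M₀ (sg i)) :=
      isUnit_of_dvd_unit (map_dvd _ (Finset.dvd_prod_of_mem sg (Finset.mem_univ i))) hM₀
    refine ⟨hu.unit.inv * algebraMap M M₀ (mg i), ?_⟩
    show φ₀ _ = _
    rw [map_mul, hφ₀, ← hmg i, map_mul, ← mul_assoc, ← IsScalarTower.algebraMap_apply, ← φ₀.commutes (sg i),
      ← map_mul, Units.inv_eq_val_inv, hu.val_inv_mul, map_one, one_mul]
  have hrange : ∀ n : N, algebraMap N N₀ n ∈ φ₀.range := fun n => by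
    obtain ⟨q, rfl⟩ := hg n
    induction q using MvPolynomial.induction_on with
    | C a =>
      rw [← MvPolynomial.algebraMap_eq, AlgHom.commutes, ← IsScalarTower.algebraMap_apply]
      exact Subalgebra.algebraMap_mem _ a
    | add p q hp hq => rw [map_add, map_add]; exact add_mem hp hq
    | mul_X p i hp => rw [map_mul, map_mul]; exact mul_mem hp (hX i)
  have hφ₀s : Function.Surjective φ₀ := fun y => by
    obtain ⟨⟨n, ⟨_, j, rfl⟩⟩, hn⟩ := IsLocalization.surj (Submonoid.powers (algebraMap A N s₀)) y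
    obtain ⟨m, hm⟩ := hrange n
    obtain ⟨w, hw⟩ := (hM₀.pow j).exists_left_inv
    refine ⟨w * m, ?_⟩
    change φ₀ m = _ at hm
    simp only [map_pow, ← IsScalarTower.algebraMap_apply A N N₀] at hn
    have hw' := congrArg φ₀ hw
    simp only [map_mul, map_pow, AlgHom.commutes, map_one] at hw'
    rw [map_mul, hm, ← hn, mul_left_comm, hw', mul_one]
  obtain ⟨fs, hfs⟩ := Algebra.FinitePresentation.ker_fG_of_surjective φ₀ hφ₀s
  have hz : ∀ x : fs, ∃ t ∈ S, ∀ (T : Type u) [CommRing T] [Algebra A T], IsUnit (algebraMap A T t) →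
      ∀ j : M₀ →ₐ[A] T, j x.1 = 0 := fun x => by
    have hx : φ₀ x.1 = 0 := RingHom.mem_ker.1 (hfs ▸ Ideal.subset_span x.2)
    obtain ⟨⟨m, ⟨_, j, rfl⟩⟩, hm⟩ := IsLocalization.surj (Submonoid.powers (algebraMap A M s₀)) x.1
    have h0 : algebraMap N N₀ (φ m) = 0 := by rw [← hφ₀, ← hm, map_mul, hx, zero_mul]
    obtain ⟨⟨_, l, rfl⟩, hl⟩ := (IsLocalization.map_eq_zero_iff (Submonoid.powers (algebraMap A N s₀)) N₀ _).1 h0
    obtain ⟨s, hs, hsm⟩ := hinj (algebraMap A M s₀ ^ l * m) (by rw [map_mul, map_pow, φ.commutes]; exact hl)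
    refine ⟨s * s₀, mul_mem hs hs₀, fun T _ _ hT i => ?_⟩
    rw [map_mul] at hT
    have h1 : i (algebraMap M M₀ m) = 0 := by
      have := congrArg (fun z => i (algebraMap M M₀ z)) hsm
      simp only [map_mul, map_pow, map_zero, ← IsScalarTower.algebraMap_apply, AlgHom.commutes] at this
      exact ((isUnit_of_mul_isUnit_right hT).pow l).mul_right_eq_zero.1
        ((isUnit_of_mul_isUnit_left hT).mul_right_eq_zero.1 this)
    have h2 := congrArg i hm
    simp only [map_mul, map_pow, ← IsScalarTower.algebraMap_apply, AlgHom.commutes, h1] at h2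
    exact ((isUnit_of_mul_isUnit_right hT).pow j).mul_left_eq_zero.1 h2
  choose t htS ht using hz
  refine ⟨s₀ * ∏ x, t x, mul_mem hs₀ (prod_mem fun x _ => htS x), fun T _ _ hT m => ?_⟩
  rw [map_mul] at hT
  have h₀ : IsUnit (algebraMap A T s₀) := isUnit_of_mul_isUnit_left hT
  have hx : ∀ x, IsUnit (algebraMap A T (t x)) := fun x =>
    isUnit_of_dvd_unit (map_dvd _ (Finset.dvd_prod_of_mem t (Finset.mem_univ x))) (isUnit_of_mul_isUnit_right hT)
  let i : M₀ →ₐ[A] T := IsLocalization.liftAlgHom (M := Submonoid.powers (algebraMap A M s₀)) (f := m) (by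
      rintro ⟨_, j, rfl⟩
      show IsUnit (m (algebraMap A M s₀ ^ j))
      rw [map_pow, AlgHom.commutes]
      exact h₀.pow j)
  have hker : RingHom.ker φ₀.toRingHom ≤ RingHom.ker i.toRingHom := by
    rw [← hfs, Ideal.span_le]
    exact fun x hx' => ht ⟨x, hx'⟩ T (hx _) i
  let j : N₀ →ₐ[A] T := AlgHom.liftOfSurjective φ₀ hφ₀s i hker
  have hj : ∀ x, j (φ₀ x) = i x := fun x => AlgHom.congr_fun (AlgHom.liftOfSurjective_comp φ₀ hφ₀s i hker) x
  refine ⟨j.comp (IsScalarTower.toAlgHom A N N₀), AlgHom.ext fun x => ?_, fun n hn => ?_⟩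
  · show j (algebraMap N N₀ (φ x)) = m x
    rw [← hφ₀, hj]
    exact IsLocalization.lift_eq _ x
  · let n₀ : N₀ →ₐ[A] T := IsLocalization.liftAlgHom (M := Submonoid.powers (algebraMap A N s₀)) (f := n) (by
      rintro ⟨_, l, rfl⟩
      show IsUnit (n (algebraMap A N s₀ ^ l))
      rw [map_pow, AlgHom.commutes]
      exact h₀.pow l)
    have hn₀ : n₀.comp φ₀ = i := IsLocalization.algHom_ext (Submonoid.powers (algebraMap A M s₀)) (AlgHom.ext fun x => by
      show n₀ (φ₀ (algebraMap M M₀ x)) = i (algebraMap M M₀ x)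
      rw [hφ₀]
      exact (IsLocalization.lift_eq _ _).trans ((AlgHom.congr_fun hn x).trans (IsLocalization.lift_eq _ x).symm))
    have : n₀ = j := AlgHom.ext fun y => by
      obtain ⟨x, rfl⟩ := hφ₀s y
      rw [hj]; exact AlgHom.congr_fun hn₀ x
    rw [← this]
    exact AlgHom.ext fun x => (IsLocalization.lift_eq _ x).symm

end Spread

section Local

variable {R : Type u} [CommRing R] {B : Type u} [CommRing B] [Algebra R B]

/-- An etale algebra over a localization of `R` has a model over `R` with the same points. -/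
theorem exists_model (S : Submonoid R) (O : Type u) [CommRing O] [Algebra R O] [IsLocalization S O]
    (E : Type u) [CommRing E] [Algebra R E] [Algebra O E] [IsScalarTower R O E] [Algebra.Etale O E] :
    ∃ (C₁ : Type u) (_ : CommRing C₁) (_ : Algebra R C₁) (_ : Algebra.Etale R C₁) (θ : C₁ →ₐ[R] E),
      ∀ (T : Type u) [CommRing T] [Algebra R T], (∀ x ∈ S, IsUnit (algebraMap R T x)) →
        ∀ d : C₁ →ₐ[R] T, ∃! n : E →ₐ[R] T, n.comp θ = d := by
  obtain ⟨A₀, C₀, _, _, hfg, het, ⟨e⟩⟩ := Algebra.Etale.exists_subalgebra_fg ℤ O E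
  haveI : Algebra.FiniteType ℤ A₀ := (Subalgebra.fg_iff_finiteType A₀).1 hfg
  haveI : Algebra.FinitePresentation ℤ A₀ := Algebra.FinitePresentation.of_finiteType.1 inferInstance
  haveI : Algebra.Etale A₀ C₀ := het
  let gP : R ⊗[ℤ] A₀ →ₐ[R] O :=
    Algebra.TensorProduct.lift (Algebra.ofId R O) A₀.val fun _ _ => Commute.all _ _
  obtain ⟨s, hs, a, b, hab⟩ := GrothLib.IndEt.exists_away_factor S gP
  let L := Localization.Away s
  letI : Algebra A₀ L := (a.toRingHom.comp Algebra.TensorProduct.includeRight.toRingHom).toAlgebra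
  haveI : Algebra.Etale R L := Algebra.Etale.of_isLocalizationAway s
  let C₁ := L ⊗[A₀] C₀
  letI : Algebra R C₁ := Algebra.TensorProduct.leftAlgebra
  haveI : Algebra.Etale R C₁ := Algebra.Etale.comp R L C₁
  have hb : ∀ r : A₀, b (algebraMap A₀ L r) = r.1 := fun r => by
    change b (a ((1 : R) ⊗ₜ[ℤ] r)) = r.1
    rw [← AlgHom.comp_apply, hab]
    exact (Algebra.TensorProduct.lift_tmul _ _ _ _ _).trans (by rw [map_one, _root_.one_mul]; rfl)
  let μ := Algebra.TensorProduct.map ({ b.toRingHom with commutes' := hb } : L →ₐ[A₀] O) (AlgHom.id A₀ C₀)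
  let θ : C₁ →ₐ[R] E :=
    { e.symm.toRingHom.comp μ.toRingHom with
      commutes' := fun r => by
        change e.symm (μ (algebraMap R L r ⊗ₜ[A₀] (1 : C₀))) = _
        rw [Algebra.TensorProduct.map_tmul, map_one]
        change e.symm (algebraMap O (O ⊗[A₀] C₀) (b (algebraMap R L r))) = _
        rw [AlgEquiv.commutes, AlgHom.commutes, ← IsScalarTower.algebraMap_apply] }
  refine ⟨C₁, inferInstance, inferInstance, inferInstance, θ, ?_⟩
  intro T _ _ hT d
  let χ : O →ₐ[R] T := IsLocalization.liftAlgHom (M := S) (f := Algebra.ofId R T) fun y => hT _ y.2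
  let dL : L →ₐ[R] T :=
    { d.toRingHom.comp (Algebra.TensorProduct.includeLeftRingHom : L →+* C₁) with commutes' := d.commutes }
  have hχ : χ.comp b = dL := IsLocalization.algHom_ext (Submonoid.powers s) (Subsingleton.elim _ _)
  letI : Algebra A₀ T := (dL.toRingHom.comp (algebraMap A₀ L)).toAlgebra
  let χ₀ : O →ₐ[A₀] T :=
    { χ.toRingHom with
      commutes' := fun r => by
        change χ r.1 = dL (algebraMap A₀ L r)
        rw [← hb r]; exact AlgHom.congr_fun hχ _ }
  let d₀ : C₀ →ₐ[A₀] T :=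
    { d.toRingHom.comp (Algebra.TensorProduct.includeRight : C₀ →ₐ[A₀] C₁).toRingHom with
      commutes' := fun r => congrArg d (((Algebra.TensorProduct.includeRight : C₀ →ₐ[A₀] C₁).commutes r).trans
        (Algebra.TensorProduct.algebraMap_apply r)) }
  let ν : O ⊗[A₀] C₀ →ₐ[A₀] T := Algebra.TensorProduct.lift χ₀ d₀ fun _ _ => Commute.all _ _
  let n : E →ₐ[R] T :=
    { ν.toRingHom.comp e.toRingHom with
      commutes' := fun r => by
        change ν (e (algebraMap R E r)) = _
        rw [IsScalarTower.algebraMap_apply R O E, AlgEquiv.commutes, Algebra.TensorProduct.algebraMap_apply]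
        exact ((Algebra.TensorProduct.lift_tmul _ _ _ _ _).trans (by rw [map_one, _root_.mul_one]; rfl)).trans
          (χ.commutes r) }
  refine ⟨n, AlgHom.ext fun x => ?_, fun n' hn' => ?_⟩
  · change ν (e (e.symm (μ x))) = d x
    rw [AlgEquiv.apply_symm_apply]
    induction x using TensorProduct.induction_on with
    | zero => simp
    | add x y hx hy => simp only [map_add, hx, hy]
    | tmul l c =>
      rw [Algebra.TensorProduct.map_tmul, Algebra.TensorProduct.lift_tmul]
      change χ (b l) * d ((1 : L) ⊗ₜ[A₀] c) = _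
      rw [← AlgHom.comp_apply, hχ]
      change d (l ⊗ₜ[A₀] (1 : C₀)) * d ((1 : L) ⊗ₜ[A₀] c) = _
      rw [← map_mul, Algebra.TensorProduct.tmul_mul_tmul, mul_one, one_mul]
  · have hO : ∀ o : O, n' (algebraMap O E o) = χ o := AlgHom.congr_fun
      (IsLocalization.algHom_ext S (f := n'.comp (IsScalarTower.toAlgHom R O E)) (g := χ)
        (Subsingleton.elim _ _))
    refine AlgHom.ext fun y => ?_
    obtain ⟨z, rfl⟩ := e.symm.surjective y
    change n' (e.symm z) = ν (e (e.symm z))
    rw [AlgEquiv.apply_symm_apply]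
    induction z using TensorProduct.induction_on with
    | zero => simp
    | add x y hx hy => simp only [map_add, hx, hy]
    | tmul o c =>
      rw [Algebra.TensorProduct.lift_tmul,
        show o ⊗ₜ[A₀] c = algebraMap O (O ⊗[A₀] C₀) o * μ ((1 : L) ⊗ₜ c) by
          rw [Algebra.TensorProduct.map_tmul, map_one, Algebra.TensorProduct.algebraMap_apply,
            Algebra.TensorProduct.tmul_mul_tmul, mul_one]
          simp,
        map_mul, map_mul, AlgEquiv.commutes, hO]
      congr 1
      exact AlgHom.congr_fun hn' ((1 : L) ⊗ₜ c)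

theorem exists_etale_local [Module.Flat R B] [Algebra.Etale B (B ⊗[R] B)] (q : Ideal B) [q.IsPrime] :
    ∃ (g : R) (C : Type u) (_ : CommRing C) (_ : Algebra R C),
      Algebra.Etale R C ∧ algebraMap R B g ∉ q ∧ IsUnit (algebraMap R C g) ∧
      (∀ P : PrimeSpectrum R, g ∉ P.asIdeal → P ∈ Set.range (PrimeSpectrum.comap (algebraMap R C))) ∧
      ∃ h : C →ₐ[R] Localization.Away (algebraMap R B g), ∀ (T : Type u) [CommRing T] [Algebra R T],
        (Localization.Away (algebraMap R B g) →ₐ[R] T) → ∀ d : C →ₐ[R] T,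
          ∃! u : Localization.Away (algebraMap R B g) →ₐ[R] T, u.comp h = d := by
  let p := q.comap (algebraMap R B)
  let O := Localization.AtPrime p
  letI : Algebra B (O ⊗[R] B) := Algebra.TensorProduct.rightAlgebra
  let E := O ⊗[R] B
  haveI : IsLocalization (Algebra.algebraMapSubmonoid B p.primeCompl) E :=
    (Algebra.isLocalization_iff_isPushout p.primeCompl O).2 inferInstance
  -- `E` is faithfully flat over `O`
  haveI : Module.FaithfullyFlat O E := by
    refine ⟨fun m hm => ?_⟩
    rw [Ideal.smul_top_eq_map, IsLocalRing.eq_maximalIdeal hm]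
    intro hc
    rw [Submodule.restrictScalars_eq_top_iff] at hc
    let Bq := Localization.AtPrime q
    have hp : ∀ y : p.primeCompl, IsUnit (Algebra.ofId R Bq y) := fun y => by
      rw [Algebra.ofId_apply, IsScalarTower.algebraMap_apply R B Bq]
      exact IsLocalization.map_units Bq (⟨_, y.2⟩ : q.primeCompl)
    let ψ : E →ₐ[R] Bq := Algebra.TensorProduct.lift (IsLocalization.liftAlgHom (M := p.primeCompl) hp)
      (IsScalarTower.toAlgHom R B Bq) fun _ _ => Commute.all _ _
    have hle : Ideal.map (algebraMap O E) (IsLocalRing.maximalIdeal O) ≤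
        (IsLocalRing.maximalIdeal Bq).comap ψ.toRingHom := by
      rw [← Localization.AtPrime.map_eq_maximalIdeal, Ideal.map_map, Ideal.map_le_iff_le_comap]
      intro x hx
      show ψ (algebraMap O E (algebraMap R O x)) ∈ IsLocalRing.maximalIdeal Bq
      rw [← IsScalarTower.algebraMap_apply, AlgHom.commutes, IsScalarTower.algebraMap_apply R B Bq]
      exact (IsLocalization.AtPrime.to_map_mem_maximal_iff Bq q _).2 hx
    rw [hc, top_le_iff] at hle
    exact (Ideal.comap_ne_top ψ.toRingHom (IsLocalRing.maximalIdeal.isMaximal Bq).ne_top) hle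
  -- `E` is etale over `O`
  haveI : Algebra.Etale O E := by
    haveI : Algebra.Etale E (E ⊗[O] E) := Algebra.Etale.of_equiv
      ((Algebra.TensorProduct.cancelBaseChange R B E E B).trans
        (Algebra.TensorProduct.cancelBaseChange R O E E B).symm)
    exact Algebra.Etale.of_etale_tensorProduct_of_faithfullyFlat E
  -- a model of `E` over `R`
  obtain ⟨C₁, _, _, _, θ, hθ⟩ := exists_model p.primeCompl O E
  -- the image of `Spec C₁` is a neighbourhood of `p`
  have hopen : IsOpen (Set.range (PrimeSpectrum.comap (algebraMap R C₁))) :=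
    PrimeSpectrum.isOpenMap_comap_of_hasGoingDown_of_finitePresentation.isOpen_range
  have hpm : (⟨p, inferInstance⟩ : PrimeSpectrum R) ∈ Set.range (PrimeSpectrum.comap (algebraMap R C₁)) := by
    let Bq := Localization.AtPrime q
    have hp : ∀ y : p.primeCompl, IsUnit (Algebra.ofId R Bq y) := fun y => by
      rw [Algebra.ofId_apply, IsScalarTower.algebraMap_apply R B Bq]
      exact IsLocalization.map_units Bq (⟨_, y.2⟩ : q.primeCompl)
    let ψ : E →ₐ[R] Bq := Algebra.TensorProduct.lift (IsLocalization.liftAlgHom (M := p.primeCompl) hp)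
      (IsScalarTower.toAlgHom R B Bq) fun _ _ => Commute.all _ _
    refine ⟨PrimeSpectrum.comap (ψ.comp θ).toRingHom ⟨IsLocalRing.maximalIdeal Bq, inferInstance⟩,
      PrimeSpectrum.ext ?_⟩
    ext x
    change (ψ.comp θ) (algebraMap R C₁ x) ∈ IsLocalRing.maximalIdeal Bq ↔ algebraMap R B x ∈ q
    rw [AlgHom.commutes, IsScalarTower.algebraMap_apply R B Bq]
    exact IsLocalization.AtPrime.to_map_mem_maximal_iff Bq q _
  obtain ⟨_, ⟨s₁, rfl⟩, hs₁, hsub⟩ :=
    PrimeSpectrum.isTopologicalBasis_basic_opens.exists_subset_of_mem_open hpm hopen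
  replace hs₁ : s₁ ∈ p.primeCompl := hs₁
  -- descend the map to `B`
  let θB : B ⊗[R] C₁ →ₐ[B] E :=
    Algebra.TensorProduct.lift (Algebra.ofId B E) θ fun _ _ => Commute.all _ _
  obtain ⟨_, ⟨s₂, hs₂, rfl⟩, aB, bB, habB⟩ :=
    GrothLib.IndEt.exists_away_factor (Algebra.algebraMapSubmonoid B p.primeCompl) θB
  let t := s₁ * s₂
  have ht : t ∈ p.primeCompl := mul_mem hs₁ hs₂
  let Bt := Localization.Away (algebraMap R B t)
  have hBt : IsUnit (algebraMap B Bt (algebraMap R B s₂)) := by
    have := IsLocalization.Away.algebraMap_isUnit (S := Bt) (algebraMap R B t)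
    exact isUnit_of_dvd_unit (map_dvd _ (map_dvd _ (dvd_mul_left s₂ s₁))) this
  let j₂ : Localization.Away (algebraMap R B s₂) →ₐ[B] Bt :=
    IsLocalization.liftAlgHom (M := Submonoid.powers (algebraMap R B s₂)) (f := Algebra.ofId B Bt) (by
      rintro ⟨_, k, rfl⟩
      show IsUnit (algebraMap B Bt (algebraMap R B s₂ ^ k))
      rw [map_pow]
      exact hBt.pow k)
  let h₀ : C₁ →ₐ[R] Bt := ((j₂.comp aB).restrictScalars R).comp Algebra.TensorProduct.includeRight
  let M := Bt ⊗[R] C₁
  let N := Bt ⊗[R] B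
  haveI : Algebra.Etale Bt N := Algebra.Etale.of_equiv (Algebra.TensorProduct.cancelBaseChange R B Bt Bt B)
  have hN : IsUnit (Algebra.TensorProduct.includeRight (algebraMap R B t) : N) := by
    rw [AlgHom.commutes, IsScalarTower.algebraMap_apply R Bt N, IsScalarTower.algebraMap_apply R B Bt]
    exact (IsLocalization.Away.algebraMap_isUnit _).map _
  let ρ : Bt →ₐ[R] N := IsLocalization.liftAlgHom (M := Submonoid.powers (algebraMap R B t))
    (f := (Algebra.TensorProduct.includeRight : B →ₐ[R] N)) (by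
      rintro ⟨_, k, rfl⟩
      show IsUnit ((Algebra.TensorProduct.includeRight : B →ₐ[R] N) (algebraMap R B t ^ k))
      rw [map_pow]
      exact hN.pow k)
  have hρ : ∀ x, ρ (algebraMap B Bt x) = (Algebra.TensorProduct.includeRight : B →ₐ[R] N) x := fun x =>
    IsLocalization.lift_eq _ x
  let φ : M →ₐ[Bt] N := Algebra.TensorProduct.lift (Algebra.ofId Bt N) (ρ.comp h₀) fun _ _ => Commute.all _ _
  have hφ : ∀ c : C₁, φ ((1 : Bt) ⊗ₜ c) = ρ (h₀ c) := fun c => by
    rw [Algebra.TensorProduct.lift_tmul, map_one, one_mul]; rfl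
  have hbase : ∀ (T : Type u) [CommRing T] [Algebra Bt T],
      (∀ x ∈ Algebra.algebraMapSubmonoid Bt p.primeCompl, IsUnit (algebraMap Bt T x)) →
      ∀ m : M →ₐ[Bt] T, ∃! n : N →ₐ[Bt] T, n.comp φ = m := by
    intro T _ _ hT m
    letI : Algebra R T := ((algebraMap Bt T).comp (algebraMap R Bt)).toAlgebra
    haveI : IsScalarTower R Bt T := IsScalarTower.of_algebraMap_eq fun _ => rfl
    have hT' : ∀ x ∈ p.primeCompl, IsUnit (algebraMap R T x) := fun x hx => by
      rw [IsScalarTower.algebraMap_apply R Bt T]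
      exact hT _ ⟨x, hx, rfl⟩
    let d : C₁ →ₐ[R] T := (m.restrictScalars R).comp Algebra.TensorProduct.includeRight
    obtain ⟨w, hw, hwu⟩ := hθ T hT' d
    -- points of `N` restrict to points of `E`
    have key : ∀ (n : N →ₐ[Bt] T) (ū : E →ₐ[R] T),
        (∀ x : B, ū (algebraMap B E x) = n ((1 : Bt) ⊗ₜ x)) →
        ∀ c : C₁, n (φ ((1 : Bt) ⊗ₜ c)) = ū (θ c) := by
      intro n ū hū c
      rw [hφ]
      have h1 : θ c = bB (aB ((1 : B) ⊗ₜ c)) := by
        rw [← AlgHom.comp_apply, habB, Algebra.TensorProduct.lift_tmul, map_one, one_mul]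
      rw [h1]
      have h2 : ((n.restrictScalars R).comp ρ).comp (j₂.restrictScalars R) = ū.comp (bB.restrictScalars R) := by
        refine IsLocalization.algHom_ext (Submonoid.powers (algebraMap R B s₂)) (AlgHom.ext fun x => ?_)
        show n (ρ (j₂ (algebraMap B (Localization.Away (algebraMap R B s₂)) x))) =
          ū (bB (algebraMap B (Localization.Away (algebraMap R B s₂)) x))
        rw [AlgHom.commutes, AlgHom.commutes, hρ, hū]
        rfl
      exact AlgHom.congr_fun h2 (aB ((1 : B) ⊗ₜ c))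
    let nB : B →ₐ[R] T := w.comp (Algebra.TensorProduct.includeRight : B →ₐ[R] E)
    let n : N →ₐ[Bt] T := Algebra.TensorProduct.lift (Algebra.ofId Bt T) nB fun _ _ => Commute.all _ _
    refine ⟨n, Algebra.TensorProduct.ext_ring (AlgHom.ext fun c => ?_), fun n' hn' => ?_⟩
    · show n (φ ((1 : Bt) ⊗ₜ c)) = m ((1 : Bt) ⊗ₜ c)
      rw [key n w (fun x => by rw [Algebra.TensorProduct.lift_tmul, map_one, one_mul]; rfl)]
      exact AlgHom.congr_fun hw c
    · let u' : B →ₐ[R] T := (n'.restrictScalars R).comp Algebra.TensorProduct.includeRight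
      let ū : E →ₐ[R] T := Algebra.TensorProduct.lift
        (IsLocalization.liftAlgHom (M := p.primeCompl) (f := Algebra.ofId R T) fun y => hT' _ y.2) u'
        fun _ _ => Commute.all _ _
      have hū : ∀ x : B, ū (algebraMap B E x) = u' x := fun x => by
        show ū ((1 : O) ⊗ₜ x) = _
        rw [Algebra.TensorProduct.lift_tmul, map_one, one_mul]
      have : ū = w := hwu ū (AlgHom.ext fun c => by
        show ū (θ c) = d c
        rw [← key n' ū hū c]
        exact AlgHom.congr_fun hn' ((1 : Bt) ⊗ₜ c))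
      refine Algebra.TensorProduct.ext_ring (AlgHom.ext fun x => ?_)
      show u' x = n ((1 : Bt) ⊗ₜ x)
      rw [← hū, this, Algebra.TensorProduct.lift_tmul, map_one, one_mul]
      rfl
  obtain ⟨_, ⟨s₃, hs₃, rfl⟩, hspread⟩ := exists_spread φ (Algebra.algebraMapSubmonoid Bt p.primeCompl) hbase
  let g := t * s₃
  have hgp : g ∈ p.primeCompl := mul_mem ht hs₃
  let C := Localization.Away (algebraMap R C₁ g)
  haveI : Algebra.Etale C₁ C := Algebra.Etale.of_isLocalizationAway (algebraMap R C₁ g)
  haveI : Algebra.Etale R C := Algebra.Etale.comp R C₁ C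
  have hC : IsUnit (algebraMap R C g) := by
    rw [IsScalarTower.algebraMap_apply R C₁ C]; exact IsLocalization.Away.algebraMap_isUnit _
  let Bg := Localization.Away (algebraMap R B g)
  have hBg : IsUnit (algebraMap R Bg g) := by
    rw [IsScalarTower.algebraMap_apply R B Bg]; exact IsLocalization.Away.algebraMap_isUnit _
  let j : Bt →ₐ[R] Bg := IsLocalization.liftAlgHom (M := Submonoid.powers (algebraMap R B t))
    (f := IsScalarTower.toAlgHom R B Bg) (by
      rintro ⟨_, k, rfl⟩
      show IsUnit (algebraMap B Bg (algebraMap R B t ^ k))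
      rw [map_pow, ← IsScalarTower.algebraMap_apply]
      exact (isUnit_of_dvd_unit (map_dvd _ (dvd_mul_right t s₃)) hBg).pow k)
  let h : C →ₐ[R] Bg := IsLocalization.liftAlgHom (M := Submonoid.powers (algebraMap R C₁ g)) (f := j.comp h₀) (by
    rintro ⟨_, k, rfl⟩
    show IsUnit ((j.comp h₀) (algebraMap R C₁ g ^ k))
    rw [map_pow, AlgHom.commutes]
    exact hBg.pow k)
  refine ⟨g, C, inferInstance, inferInstance, inferInstance, hgp, hC, fun P hP => ?_, h, ?_⟩
  · have hs₁P : s₁ ∉ P.asIdeal := fun hm =>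
      hP (P.asIdeal.mul_mem_right _ (P.asIdeal.mul_mem_right _ hm))
    obtain ⟨Q, hQ⟩ := hsub (show P ∈ (PrimeSpectrum.basicOpen s₁ : Set (PrimeSpectrum R)) from hs₁P)
    have hgQ : Q ∈ Set.range (PrimeSpectrum.comap (algebraMap C₁ C)) := by
      rw [PrimeSpectrum.localization_away_comap_range C (algebraMap R C₁ g)]
      exact fun hm => hP ((congrArg PrimeSpectrum.asIdeal hQ).le hm)
    obtain ⟨Q', hQ'⟩ := hgQ
    refine ⟨Q', ?_⟩
    rw [IsScalarTower.algebraMap_eq R C₁ C, PrimeSpectrum.comap_comp_apply, hQ', hQ]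
  · intro T _ _ u₀ d
    letI : Algebra Bt T := (u₀.comp j).toRingHom.toAlgebra
    haveI : IsScalarTower R Bt T := IsScalarTower.of_algebraMap_eq fun r => ((u₀.comp j).commutes r).symm
    have hTg : IsUnit (algebraMap R T g) := by rw [← u₀.commutes]; exact hBg.map u₀
    have hTs : IsUnit (algebraMap Bt T (algebraMap R Bt s₃)) := by
      rw [← IsScalarTower.algebraMap_apply]
      exact isUnit_of_dvd_unit (map_dvd _ (dvd_mul_left s₃ t)) hTg
    let m : M →ₐ[Bt] T := Algebra.TensorProduct.lift (Algebra.ofId Bt T)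
      (d.comp (IsScalarTower.toAlgHom R C₁ C)) fun _ _ => Commute.all _ _
    obtain ⟨n, hn, hnu⟩ := hspread T hTs m
    let u' : B →ₐ[R] T := (n.restrictScalars R).comp Algebra.TensorProduct.includeRight
    let u : Bg →ₐ[R] T := IsLocalization.liftAlgHom (M := Submonoid.powers (algebraMap R B g)) (f := u') (by
      rintro ⟨_, k, rfl⟩
      show IsUnit (u' (algebraMap R B g ^ k))
      rw [map_pow, AlgHom.commutes]
      exact hTg.pow k)
    -- composing with `h` is composing with `φ`
    have key : ∀ (n : N →ₐ[Bt] T) (u : Bg →ₐ[R] T), (∀ x, u (algebraMap B Bg x) = n ((1 : Bt) ⊗ₜ x)) →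
        ∀ c : C₁, u (h (algebraMap C₁ C c)) = n (φ ((1 : Bt) ⊗ₜ c)) := by
      intro n u hu c
      rw [hφ]
      have h1 : h (algebraMap C₁ C c) = j (h₀ c) := IsLocalization.lift_eq _ c
      rw [h1]
      refine AlgHom.congr_fun (IsLocalization.algHom_ext (Submonoid.powers (algebraMap R B t))
        (f := u.comp j) (g := (n.restrictScalars R).comp ρ) (AlgHom.ext fun x => ?_)) (h₀ c)
      show u (j (algebraMap B Bt x)) = n (ρ (algebraMap B Bt x))
      rw [hρ]
      exact (congrArg u (IsLocalization.lift_eq _ x)).trans (hu x)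
    refine ⟨u, IsLocalization.algHom_ext (Submonoid.powers (algebraMap R C₁ g)) (AlgHom.ext fun c => ?_),
      fun v hv => ?_⟩
    · show u (h (algebraMap C₁ C c)) = d (algebraMap C₁ C c)
      rw [key n u (fun x => IsLocalization.lift_eq _ x) c]
      have := AlgHom.congr_fun hn ((1 : Bt) ⊗ₜ c)
      rw [AlgHom.comp_apply] at this
      rw [this, Algebra.TensorProduct.lift_tmul, map_one, one_mul]
      rfl
    · let n' : N →ₐ[Bt] T := Algebra.TensorProduct.lift (Algebra.ofId Bt T)
        (v.comp (IsScalarTower.toAlgHom R B Bg)) fun _ _ => Commute.all _ _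
      have hn'1 : ∀ x, n' ((1 : Bt) ⊗ₜ x) = v (algebraMap B Bg x) := fun x => by
        rw [Algebra.TensorProduct.lift_tmul, map_one, one_mul]; rfl
      have : n' = n := hnu n' (Algebra.TensorProduct.ext_ring (AlgHom.ext fun c => by
        show n' (φ ((1 : Bt) ⊗ₜ c)) = m ((1 : Bt) ⊗ₜ c)
        rw [← key n' v (fun x => (hn'1 x).symm) c, Algebra.TensorProduct.lift_tmul, map_one, one_mul]
        exact AlgHom.congr_fun hv _))
      refine IsLocalization.algHom_ext (Submonoid.powers (algebraMap R B g)) (AlgHom.ext fun x => ?_)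
      show v (algebraMap B Bg x) = u (algebraMap B Bg x)
      rw [← hn'1, this]
      exact (show u (algebraMap B Bg x) = u' x from IsLocalization.lift_eq _ x).symm

end Local

end GrothLib.AlgSp.FlatMonoLocal
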