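import Groth.Agent.Lib.AlgSp.FlatMonoLocal
import Groth.Agent.Lib.AlgSp.AffineDescent
import Groth.Agent.Lib.AlgSp.OpenSub
import Groth.Agent.Lib.AlgSp.LocP
import Groth.Agent.Lib.AlgSp.Immersion
import Groth.Agent.Lib.AlgSp.Glue
import Groth.Agent.Lib.AlgSp.FlatMono
import Groth.Agent.Lib.AlgSp.BootstrapFamily

/-!
# Flat monomorphisms of algebraic spaces are representable by schemes
-/

universe u

open CategoryTheory CategoryTheory.Limits AlgebraicGeometry Opposite TensorProduct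

set_option backward.isDefEq.respectTransparency false
set_option maxHeartbeats 800000

namespace GrothLib.AlgSp

open _root_.AlgSp

variable {S : Scheme.{u}}

theorem exists_affine_open_of_flat_mono_spec {X : Sp S} {R B : CommRingCat.{u}} {sR : Spec R ⟶ S}
    (f : X ⟶ (yon S).obj (Over.mk sR)) [Mono f] (hflat : LocP @Flat f) (ψ : R ⟶ B)
    (p : (yon S).obj (Over.mk (Spec.map ψ ≫ sR)) ⟶ X)
    (hp : p ≫ f = (yon S).map (Over.homMk (Spec.map ψ) rfl : Over.mk (Spec.map ψ ≫ sR) ⟶ Over.mk sR))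
    (pe : RepWith @Etale p) (ps : RepWith @Surjective p) (u : ↥(Spec B)) :
    ∃ (W₀ : Over S) (i : (yon S).obj W₀ ⟶ X), IsAffine W₀.left ∧ RepWith @IsOpenImmersion i ∧
      Points.ofPt (T := Over.mk (Spec.map ψ ≫ sR)) p u ∈ Set.range (Points.map i) := by
  let Y : Over S := Over.mk sR
  let U : Over S := Over.mk (Spec.map ψ ≫ sR)
  let hu : U ⟶ Y := Over.homMk (Spec.map ψ) rfl
  algebraize [ψ.hom]
  haveI : Flat hu.left := hflat p (𝟙 _) hu pe (repWith_iso (𝟙 _)) (by rw [hp, Category.comp_id])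
  haveI : Flat (Spec.map ψ) := ‹Flat hu.left›
  haveI : Module.Flat R B := (HasRingHomProperty.Spec_iff (P := @Flat) (φ := ψ)).1 inferInstance
  -- `U ×_Y U` is etale over `U`
  let BB : CommRingCat.{u} := CommRingCat.of (B ⊗[R] B)
  let i₁ : B ⟶ BB := CommRingCat.ofHom (Algebra.TensorProduct.includeLeftRingHom)
  let i₂ : B ⟶ BB := CommRingCat.ofHom (Algebra.TensorProduct.includeRight (R := R) (A := B) (B := B)).toRingHom
  let Q : Over S := Over.mk (Spec.map i₁ ≫ Spec.map ψ ≫ sR)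
  have hi : ψ ≫ i₁ = ψ ≫ i₂ := by
    ext r
    exact ((Algebra.TensorProduct.includeRight (R := R) (A := B) (B := B)).commutes r).symm
  let q₁ : Q ⟶ U := Over.homMk (Spec.map i₁) rfl
  let q₂ : Q ⟶ U := Over.homMk (Spec.map i₂) (by
    change Spec.map i₂ ≫ Spec.map ψ ≫ sR = Spec.map i₁ ≫ Spec.map ψ ≫ sR
    rw [← Spec.map_comp_assoc, ← hi, Spec.map_comp_assoc])
  have sq₀ : IsPullback q₁ q₂ hu hu := by
    refine IsPullback.of_map (Over.forget S) (Over.OverMorphism.ext ?_) ?_
    · change Spec.map i₁ ≫ Spec.map ψ = Spec.map i₂ ≫ Spec.map ψ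
      rw [← Spec.map_comp, ← Spec.map_comp, hi]
    · change IsPullback (Spec.map i₁) (Spec.map i₂) (Spec.map ψ) (Spec.map ψ)
      exact ((CommRingCat.isPushout_tensorProduct R B B).op.map Scheme.Spec).flip
  have sqp : IsPullback ((yon S).map q₁) ((yon S).map q₂) p p := by
    have sqy := isPullback_yon sq₀
    rw [← hp] at sqy
    refine IsPullback.mk ⟨by rw [← cancel_mono f, Category.assoc, Category.assoc, sqy.w]⟩ ⟨?_⟩
    exact PullbackCone.IsLimit.mk _ (fun s => sqy.lift s.fst s.snd (by rw [reassoc_of% s.condition]))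
      (fun s => sqy.lift_fst _ _ _) (fun s => sqy.lift_snd _ _ _)
      (fun s m h₁ h₂ => sqy.hom_ext (by rw [h₁, sqy.lift_fst]) (by rw [h₂, sqy.lift_snd]))
  haveI : Etale q₁.left := pe.2 _ _ _ sqp.flip
  haveI : Algebra.Etale B (B ⊗[R] B) := by
    have h0 : Etale (Spec.map i₁) := ‹Etale q₁.left›
    have h1 : i₁.hom.Etale := (HasRingHomProperty.Spec_iff (P := @Etale) (φ := i₁)).1 h0
    rwa [← RingHom.etale_algebraMap]
  -- the local model
  obtain ⟨g, C, _, _, _, hgu, hgC, hcov, h, hh⟩ :=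
    FlatMonoLocal.exists_etale_local (R := R) (B := B) u.asIdeal
  let Rg := Localization.Away g
  let Bg := Localization.Away (algebraMap R B g)
  let j : Rg →ₐ[R] C := IsLocalization.liftAlgHom (M := Submonoid.powers g) (f := Algebra.ofId R C) (by
    rintro ⟨_, k, rfl⟩
    show IsUnit (algebraMap R C (g ^ k))
    rw [map_pow]
    exact hgC.pow k)
  let ι : R ⟶ CommRingCat.of Rg := CommRingCat.ofHom (algebraMap R Rg)
  let Dg : Over S := Over.mk (Spec.map ι ≫ sR)
  let D : Over S := Over.mk (Spec.map (CommRingCat.ofHom j.toRingHom) ≫ Spec.map ι ≫ sR)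
  let d : Dg ⟶ Y := Over.homMk (Spec.map ι) rfl
  let c : D ⟶ Dg := Over.homMk (Spec.map (CommRingCat.ofHom j.toRingHom)) rfl
  haveI : IsOpenImmersion d.left := IsOpenImmersion.of_isLocalization g
  have hd : RepWith @IsOpenImmersion ((yon S).map d) := (repWith_yon_map_iff _ d).2 inferInstance
  haveI : Etale (c.left ≫ d.left) := by
    change Etale (Spec.map (CommRingCat.ofHom j.toRingHom) ≫ Spec.map ι)
    rw [← Spec.map_comp, HasRingHomProperty.Spec_iff (P := @Etale)]
    change RingHom.Etale (j.toRingHom.comp (algebraMap R Rg))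
    rw [show j.toRingHom.comp (algebraMap R Rg) = algebraMap R C from j.comp_algebraMap, RingHom.etale_algebraMap]
    infer_instance
  haveI : Etale c.left := Etale.of_comp c.left d.left
  haveI : Surjective c.left := ⟨fun P => by
    have hP : g ∉ (PrimeSpectrum.comap (algebraMap R Rg) P).asIdeal := by
      have : PrimeSpectrum.comap (algebraMap R Rg) P ∈ Set.range (PrimeSpectrum.comap (algebraMap R Rg)) := ⟨P, rfl⟩
      rw [PrimeSpectrum.localization_away_comap_range Rg g] at this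
      exact this
    obtain ⟨P', hP'⟩ := hcov _ hP
    refine ⟨P', PrimeSpectrum.localization_comap_injective Rg (Submonoid.powers g) ?_⟩
    change PrimeSpectrum.comap (algebraMap R Rg) (PrimeSpectrum.comap j.toRingHom P') = _
    rw [← PrimeSpectrum.comap_comp_apply, show j.toRingHom.comp (algebraMap R Rg) = algebraMap R C from j.comp_algebraMap, hP']⟩
  -- `V = X ×_Y D(g)` and `V ×_{D(g)} D`
  obtain ⟨V, vX, vD, sqV⟩ : ∃ (V : Sp S) (vX : V ⟶ X) (vD : V ⟶ (yon S).obj Dg), IsPullback vX vD f ((yon S).map d) :=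
    ⟨_, _, _, IsPullback.of_hasPullback _ _⟩
  obtain ⟨VD, wV, wD, sqD⟩ : ∃ (VD : Sp S) (wV : VD ⟶ V) (wD : VD ⟶ (yon S).obj D),
      IsPullback wV wD vD ((yon S).map c) := ⟨_, _, _, IsPullback.of_hasPullback _ _⟩
  have sq := sqD.paste_horiz sqV
  rw [← Functor.map_comp] at sq
  let e : B ⟶ CommRingCat.of Bg := CommRingCat.ofHom (algebraMap B Bg)
  let Ug : Over S := Over.mk (Spec.map e ≫ Spec.map ψ ≫ sR)
  let ug : Ug ⟶ U := Over.homMk (Spec.map e) rfl
  have hh₁ : ι ≫ CommRingCat.ofHom j.toRingHom ≫ CommRingCat.ofHom h.toRingHom = ψ ≫ e := by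
    ext r
    change h (j (algebraMap R Rg r)) = algebraMap B Bg (algebraMap R B r)
    rw [AlgHom.commutes, AlgHom.commutes, ← IsScalarTower.algebraMap_apply]
  let hC : Ug ⟶ D := Over.homMk (Spec.map (CommRingCat.ofHom h.toRingHom)) (by
    change Spec.map (CommRingCat.ofHom h.toRingHom) ≫ Spec.map (CommRingCat.ofHom j.toRingHom) ≫ Spec.map ι ≫ sR =
      Spec.map e ≫ Spec.map ψ ≫ sR
    rw [← Spec.map_comp_assoc, ← Spec.map_comp_assoc]
    simp only [Category.assoc, hh₁, Spec.map_comp_assoc, Spec.map_comp])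
  have hug : ug ≫ hu = hC ≫ c ≫ d := Over.OverMorphism.ext (by
    change Spec.map e ≫ Spec.map ψ = Spec.map (CommRingCat.ofHom h.toRingHom) ≫
      Spec.map (CommRingCat.ofHom j.toRingHom) ≫ Spec.map ι
    rw [← Spec.map_comp, ← Spec.map_comp, ← Spec.map_comp, Category.assoc, hh₁])
  let k : (yon S).obj Ug ⟶ VD := sq.lift ((yon S).map ug ≫ p) ((yon S).map hC)
    (by rw [Category.assoc, hp, ← Functor.map_comp, ← Functor.map_comp]; exact congrArg _ hug)
  have hkD : k ≫ wD = (yon S).map hC := sq.lift_snd _ _ _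
  have hkX : k ≫ wV ≫ vX = (yon S).map ug ≫ p := sq.lift_fst _ _ _
  have sqw : wV ≫ vX ≫ f = wD ≫ (yon S).map (c ≫ d) := by simpa using sq.w
  -- `k` is a monomorphism
  haveI : Mono hC := by
    haveI : Epi (CommRingCat.ofHom h.toRingHom) := ⟨fun {T} a b hab => by
      letI : Algebra R T := (a.hom.comp (algebraMap R Bg)).toAlgebra
      have hab' : ∀ x : C, a.hom (h x) = b.hom (h x) := fun x =>
        congrArg (fun z : CommRingCat.of C ⟶ T => z.hom x) hab
      let a' : Bg →ₐ[R] T := ⟨a.hom, fun r => rfl⟩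
      let b' : Bg →ₐ[R] T := ⟨b.hom, fun r => by
        change b.hom (algebraMap R Bg r) = a.hom (algebraMap R Bg r)
        rw [← h.commutes, hab']⟩
      have := (hh T a' (a'.comp h)).unique (y₁ := a') (y₂ := b') rfl (AlgHom.ext fun x => (hab' x).symm)
      ext x
      exact AlgHom.congr_fun this x⟩
    haveI : Mono hC.left := inferInstanceAs (Mono (Scheme.Spec.map (CommRingCat.ofHom h.toRingHom).op))
    exact (Over.forget S).mono_of_mono_map ‹Mono hC.left›
  haveI : Mono k := mono_of_mono_fac (sq.lift_snd _ _ _ : k ≫ wD = (yon S).map hC)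
  -- `k` is locally surjective
  haveI : Epi k := by
    haveI : Sheaf.IsLocallySurjective p := isLocallySurjective_of_repWith
      (repWith_mono pe fun A B m (hm : Etale m) => inferInstance)
      (repWith_mono pe fun A B m (hm : Etale m) => inferInstance) ps
    rw [← Sheaf.isLocallySurjective_iff_epi]
    refine isLocallySurjective_of_point_lifts fun T₀ t₀ x₀ => ?_
    obtain ⟨O, hO, hxO, -⟩ := exists_isAffineOpen_mem_and_subset (U := (⊤ : T₀.left.Opens)) (x := x₀) trivial
    let T : Over S := Over.mk (O.ι ≫ T₀.hom)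
    haveI : IsAffine T.left := hO
    let o : T ⟶ T₀ := Over.homMk O.ι rfl
    let t := (yon S).map o ≫ t₀
    obtain ⟨T₁, c₁, l, hf₁, hp₁, hs₁, hl⟩ := exists_fppf_lift p (t ≫ wV ≫ vX)
    obtain ⟨T₂, c₂, hT₂, hf₂, hp₂, hs₂⟩ := exists_affine_refinement c₁
    haveI : Flat o.left := inferInstanceAs (Flat O.ι)
    haveI : LocallyOfFinitePresentation o.left := inferInstanceAs (LocallyOfFinitePresentation O.ι)
    suffices ∃ w : (yon S).obj T₂ ⟶ (yon S).obj Ug, w ≫ k = (yon S).map (c₂ ≫ c₁) ≫ t by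
      obtain ⟨w, hw⟩ := this
      refine ⟨T₂, (c₂ ≫ c₁) ≫ o, w, ?_, ?_, ?_, by simp [hw, t]⟩
      · rw [Over.comp_left]; infer_instance
      · rw [Over.comp_left]; infer_instance
      · obtain ⟨y, hy⟩ := (c₂ ≫ c₁).left.surjective (⟨x₀, hxO⟩ : ↥T.left)
        refine ⟨y, ?_⟩
        rw [Over.comp_left, Scheme.Hom.comp_apply, hy]
        rfl
    obtain ⟨d₀, hd₀⟩ := (yon S).map_surjective ((yon S).map (c₂ ≫ c₁) ≫ t ≫ wD)
    obtain ⟨b₀, hb₀⟩ := (yon S).map_surjective ((yon S).map c₂ ≫ l)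
    have hbd : b₀ ≫ hu = d₀ ≫ c ≫ d := (yon S).map_injective (by
      rw [Functor.map_comp, Functor.map_comp _ d₀, hb₀, hd₀, ← hp, Category.assoc, Category.assoc,
        reassoc_of% hl, sqw]
      simp)
    haveI := hT₂
    obtain ⟨β, hβ⟩ := Spec.map_surjective (T₂.left.isoSpec.inv ≫ b₀.left)
    obtain ⟨δ, hδ⟩ := Spec.map_surjective (T₂.left.isoSpec.inv ≫ d₀.left)
    let A : CommRingCat.{u} := Γ(T₂.left, ⊤)
    have hβδ : ψ ≫ β = ι ≫ CommRingCat.ofHom j.toRingHom ≫ δ := Spec.map_injective (by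
      rw [Spec.map_comp, Spec.map_comp, Spec.map_comp, hβ, hδ, Category.assoc, Category.assoc, Category.assoc]
      exact congrArg (fun z : T₂ ⟶ Y => T₂.left.isoSpec.inv ≫ z.left) hbd)
    letI : Algebra R A := (β.hom.comp (algebraMap R B)).toAlgebra
    have hR : ∀ r, β.hom (algebraMap R B r) = δ.hom (algebraMap R C r) := fun r => by
      have := congrArg (fun z : R ⟶ A => z.hom r) hβδ
      change β.hom (algebraMap R B r) = δ.hom (j (algebraMap R Rg r)) at this
      rwa [AlgHom.commutes] at this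
    let δ' : C →ₐ[R] A := ⟨δ.hom, fun r => (hR r).symm⟩
    let β' : B →ₐ[R] A := ⟨β.hom, fun r => rfl⟩
    have hgA : IsUnit (β' (algebraMap R B g)) := by
      rw [AlgHom.commutes, ← δ'.commutes]
      exact hgC.map δ'
    obtain ⟨v, hv, -⟩ := hh A (IsLocalization.liftAlgHom (M := Submonoid.powers (algebraMap R B g)) (f := β') (by
      rintro ⟨_, n, rfl⟩
      show IsUnit (β' (algebraMap R B g ^ n))
      rw [map_pow]
      exact hgA.pow n)) δ'
    have hvT : T₂.left.isoSpec.hom ≫ Spec.map (CommRingCat.ofHom v.toRingHom) ≫ Spec.map (CommRingCat.ofHom h.toRingHom) = d₀.left := by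
      rw [← Spec.map_comp, show CommRingCat.ofHom h.toRingHom ≫ CommRingCat.ofHom v.toRingHom = δ from
        CommRingCat.hom_ext (congrArg AlgHom.toRingHom hv), hδ, Iso.hom_inv_id_assoc]
    let w : T₂ ⟶ Ug := Over.homMk (T₂.left.isoSpec.hom ≫ Spec.map (CommRingCat.ofHom v.toRingHom)) (by
      rw [← Over.w hC, Category.assoc]
      change T₂.left.isoSpec.hom ≫ Spec.map (CommRingCat.ofHom v.toRingHom) ≫
        Spec.map (CommRingCat.ofHom h.toRingHom) ≫ D.hom = T₂.hom
      rw [reassoc_of% hvT, Over.w])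
    refine ⟨(yon S).map w, sq.hom_ext ?_ ?_⟩
    · rw [← cancel_mono f]
      simp only [Category.assoc, sqw, reassoc_of% hkD]
      rw [← reassoc_of% hd₀, ← Functor.map_comp_assoc]
      congr 2
      exact Over.OverMorphism.ext (by rw [Over.comp_left]; exact (Category.assoc _ _ _).trans hvT)
    · rw [Category.assoc, Category.assoc, sq.lift_snd, ← hd₀, ← Functor.map_comp]
      congr 1
      exact Over.OverMorphism.ext (by rw [Over.comp_left]; exact (Category.assoc _ _ _).trans hvT)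
  haveI : IsIso k := isIso_of_mono_of_epi k
  have sqW : IsPullback (k ≫ wV) ((yon S).map hC) vD ((yon S).map c) :=
    sqD.of_iso (asIso k).symm (Iso.refl _) (Iso.refl _) (Iso.refl _) (by simp)
      (by rw [Iso.symm_hom, asIso_inv, Iso.refl_hom, Category.comp_id, IsIso.eq_inv_comp]
          exact sq.lift_snd _ _ _) (by simp) (by simp)
  haveI : IsAffine Dg.left := isAffine_Spec _
  haveI : IsAffine D.left := isAffine_Spec _
  haveI : IsAffine Ug.left := isAffine_Spec _
  obtain ⟨W₀, hW₀, ⟨eW⟩⟩ := exists_iso_yon_of_isPullback_affine vD c (k ≫ wV) hC sqW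
  refine ⟨W₀, eW.hom ≫ vX, hW₀, repWith_comp (repWith_iso _) (repWith_of_isPullback sqV.flip hd), ?_⟩
  obtain ⟨u', hu'⟩ : u ∈ Set.range (PrimeSpectrum.comap (algebraMap B Bg)) := by
    rw [PrimeSpectrum.localization_away_comap_range Bg (algebraMap R B g)]
    exact hgu
  refine ⟨Points.ofPt (k ≫ wV ≫ eW.inv) u', ?_⟩
  rw [Points.map_ofPt]
  have e1 : (k ≫ wV ≫ eW.inv) ≫ eW.hom ≫ vX = (yon S).map ug ≫ p := by
    simp only [Category.assoc, Iso.inv_hom_id_assoc]
    exact sq.lift_fst _ _ _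
  rw [e1, ofPt_map_comp]
  congr 1

/-- An algebraic space with a flat monomorphism to an affine scheme is a scheme. -/
theorem exists_iso_yon_of_flat_mono {X : Sp S} (hX : IsAlgSpace X) {Y : Over S} [IsAffine Y.left]
    (f : X ⟶ (yon S).obj Y) [Mono f] (hflat : LocP @Flat f) :
    ∃ M : Over S, Nonempty ((yon S).obj M ≅ X) := by
  have key : ∀ x : Points X, ∃ (W₀ : Over S) (i : (yon S).obj W₀ ⟶ X), RepWith @IsOpenImmersion i ∧
      x ∈ Set.range (Points.map i) := by
    intro x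
    obtain ⟨U, p, hU, pe, ⟨u, hu⟩, -, -⟩ := exists_affine_chart_mem hX isOpen_univ (Set.mem_univ x) (fun _ => True)
      (fun s => ⟨⊤, trivial, trivial⟩)
    haveI := hU
    have hW : IsOpen (Set.range (Points.ofPt p)) := (isOpenMap_ofPt_of_etale pe).isOpen_range
    obtain ⟨p₀, hp₀⟩ := openSub_lift (W := Set.range (Points.ofPt p)) p fun t => ⟨t, rfl⟩
    let X₀ := openSub X (Set.range (Points.ofPt p))
    let ι₀ : X₀ ⟶ X := openSubι X _
    haveI : Mono ι₀ := mono_openSubι X _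
    have hι₀ : RepWith @IsOpenImmersion ι₀ := repWith_openSubι hW
    have hX₀ : IsAlgSpace X₀ := isAlgSpace_openSub hX hW
    have p₀sq : IsPullback (𝟙 _) p₀ p ι₀ := IsPullback.mk ⟨by rw [Category.id_comp, hp₀]⟩
      ⟨PullbackCone.IsLimit.mk _ (fun s => s.fst) (fun s => Category.comp_id _)
        (fun s => by rw [← cancel_mono ι₀, Category.assoc, hp₀]; exact s.condition)
        (fun s m h₁ h₂ => by simpa using h₁)⟩
    have pe₀ : RepWith @Etale p₀ := repWith_of_isPullback p₀sq pe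
    have ps₀ : RepWith @Surjective p₀ := repWith_surjective_of_ofPt pe₀.1 fun z => by
      obtain ⟨t, ht⟩ : Points.map ι₀ z ∈ Set.range (Points.ofPt p) := by
        rw [← range_openSubι (F := X) (W := Set.range (Points.ofPt p))]; exact ⟨z, rfl⟩
      refine ⟨t, injective_map_of_mono ι₀ ?_⟩
      rw [Points.map_ofPt, hp₀, ht]
    have hflat₀ : LocP @Flat (ι₀ ≫ f) := fun U' V' a b h ha hb hc =>
      hflat (a ≫ ι₀) b h (repWith_comp ha (repWith_mono hι₀ fun A B m (hm : IsOpenImmersion m) => inferInstance)) hb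
        (by rw [Category.assoc, hc])
    let R : CommRingCat.{u} := Γ(Y.left, ⊤)
    let sR : Spec R ⟶ S := Y.left.isoSpec.inv ≫ Y.hom
    let eY : Over.mk sR ≅ Y := Over.isoMk Y.left.isoSpec.symm rfl
    obtain ⟨h₀, hh₀⟩ := (yon S).map_surjective (p₀ ≫ ι₀ ≫ f)
    obtain ⟨ψ, hψ⟩ := Spec.map_surjective (U.left.isoSpec.inv ≫ h₀.left ≫ Y.left.isoSpec.hom)
    let eU : Over.mk (Spec.map ψ ≫ sR) ≅ U := Over.isoMk U.left.isoSpec.symm (by
      simp [sR, hψ])
    have hf₀ : LocP @Flat ((ι₀ ≫ f) ≫ (yon S).map eY.inv) := fun U' V' a b h ha hb hc =>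
      hflat₀ a (b ≫ (yon S).map eY.hom) h ha (repWith_comp hb (repWith_iso _)) (by
        rw [← reassoc_of% hc, ← Functor.map_comp, Iso.inv_hom_id, CategoryTheory.Functor.map_id, Category.comp_id])
    obtain ⟨W₀, i, -, hi, hmem⟩ := exists_affine_open_of_flat_mono_spec ((ι₀ ≫ f) ≫ (yon S).map eY.inv) hf₀ ψ
      ((yon S).map eU.hom ≫ p₀) (by
        rw [Category.assoc, ← Category.assoc p₀, ← hh₀, ← Functor.map_comp, ← Functor.map_comp]
        congr 1
        exact Over.OverMorphism.ext (by simp [eU, eY, hψ]))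
      (repWith_comp (repWith_iso _) pe₀) (repWith_comp (repWith_iso _) ps₀) (U.left.isoSpec.hom u)
    refine ⟨W₀, i ≫ ι₀, repWith_comp hi hι₀, ?_⟩
    obtain ⟨z, hz⟩ := hmem
    refine ⟨z, ?_⟩
    rw [Points.map_comp, hz, Points.map_ofPt, Category.assoc, hp₀, ofPt_map_comp]
    refine Eq.trans ?_ hu
    congr 1
    change U.left.isoSpec.inv (U.left.isoSpec.hom u) = u
    rw [← Scheme.Hom.comp_apply, Iso.hom_inv_id]
    rfl
  choose W i hi hmem using key
  obtain ⟨U₀, a₀, -, as₀⟩ := hX.atlas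
  obtain ⟨M, e, -, -⟩ := exists_iso_yon_of_openCover (fun v : ↥U₀.left => W (Points.ofPt a₀ v))
    (fun v => i (Points.ofPt a₀ v)) (fun v => hi _) fun x => by
      obtain ⟨v, rfl⟩ := surjective_ofPt_of_repWith as₀ x
      exact ⟨v, hmem _⟩
  exact ⟨M, ⟨e⟩⟩

end GrothLib.AlgSp
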