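import Mathlib.AlgebraicGeometry.Morphisms.LocalFlatDescent
import Groth.Prelude.Def_AlgSpCov
import Groth.Agent.Lib.AlgSp.UnivClosed
import Groth.Agent.Lib.AlgSp.AffineMor

/-!
# Descent of properties of morphisms of algebraic spaces along fpqc coverings of the base

* `FpqcLoc Q f`: `f` acquires `Q` on an fpqc covering of every affine test scheme.
* `isLocalOnBase_fpqc_of`: the pattern of `IsLocalOnBase` for fpqc coverings.
* `locP_of_fpqcLoc`, `repWith_of_fpqcLoc`, and the topological properties.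
-/

universe u

open CategoryTheory CategoryTheory.Limits AlgebraicGeometry Topology

namespace GrothLib.AlgSp

open _root_.AlgSp

variable {S : Scheme.{u}}

/-- `f` has `Q` after base change to the members of some fpqc covering of each affine test scheme. -/
def FpqcLoc (Q : MorphismProperty (Sp S)) {X Y : Sp S} (f : X ⟶ Y) : Prop :=
  ∀ (Z : Over S), IsAffine Z.left → ∀ g : (yon S).obj Z ⟶ Y,
    ∃ (m : ℕ) (W : Fin m → Over S) (c : ∀ j, W j ⟶ Z), (∀ j, IsAffine (W j).left) ∧
      (∀ j, Flat (c j).left) ∧ (∀ z : ↥Z.left, ∃ j, z ∈ Set.range (c j).left) ∧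
      ∀ (j) (P : Sp S) (fst : P ⟶ X) (snd : P ⟶ (yon S).obj (W j)),
        IsPullback fst snd f ((yon S).map (c j) ≫ g) → Q snd

theorem FpqcLoc.mono {Q Q' : MorphismProperty (Sp S)} {X Y : Sp S} {f : X ⟶ Y} (h : FpqcLoc Q f)
    (hX : IsAlgSpace X) (hY : IsAlgSpace Y)
    (hle : ∀ ⦃P : Sp S⦄ ⦃W : Over S⦄ (s : P ⟶ (yon S).obj W), IsAlgSpace P → Q s → Q' s) : FpqcLoc Q' f := by
  intro Z hZ g
  obtain ⟨m, W, c, h₁, h₂, h₃, h₄⟩ := h Z hZ g
  exact ⟨m, W, c, h₁, h₂, h₃, fun j P fst snd sq =>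
    hle snd (isAlgSpace_pullback hY.diag hX (IsAlgSpace.yon_obj _) sq) (h₄ j P fst snd sq)⟩

/-- Base change stability, as far as needed for locality. -/
def BaseChanges (Q : MorphismProperty (Sp S)) : Prop :=
  ∀ ⦃X Y X' Y' : Sp S⦄, IsAlgSpace X → IsAlgSpace Y → IsAlgSpace X' → IsAlgSpace Y' →
    ∀ ⦃f : X ⟶ Y⦄ ⦃g : Y' ⟶ Y⦄ ⦃fst : X' ⟶ X⦄ ⦃snd : X' ⟶ Y'⦄, IsPullback fst snd f g → Q f → Q snd

theorem fpqcLoc_of_cover {Q : MorphismProperty (Sp S)} (hQ : BaseChanges Q) {ι : Type u} {X Y : Sp S}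
    (Yi : ι → Sp S) (g : ∀ i, Yi i ⟶ Y) (hY : IsAlgSpace Y) (hYi : ∀ i, IsAlgSpace (Yi i))
    (hg : IsFpqcCover Yi g) (f : X ⟶ Y) (hX : IsAlgSpace X) (Xi : ι → Sp S) (p : ∀ i, Xi i ⟶ Yi i)
    (q : ∀ i, Xi i ⟶ X) (hXi : ∀ i, IsAlgSpace (Xi i)) (sq : ∀ i, IsPullback (q i) (p i) f (g i))
    (h : ∀ i, Q (p i)) : FpqcLoc Q f := by
  intro Z hZ k
  obtain ⟨m, W, c, hW, hc, hcov, hl⟩ := hg.2 Z hZ k
  refine ⟨m, W, c, hW, hc, hcov, fun j P fst snd sqj => ?_⟩
  obtain ⟨i, l, hil⟩ := hl j
  rw [← hil] at sqj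
  have hP : IsAlgSpace P := isAlgSpace_pullback hY.diag hX (IsAlgSpace.yon_obj _) sqj
  let a : P ⟶ Xi i := (sq i).lift fst (snd ≫ l) (by rw [sqj.w, Category.assoc])
  have sqa : IsPullback a snd (p i) l := by
    refine IsPullback.of_right ?_ ((sq i).lift_snd _ _ _) (sq i)
    rw [(sq i).lift_fst]
    exact sqj
  exact hQ (hXi i) (hYi i) hP (IsAlgSpace.yon_obj _) sqa (h i)

/-- The pattern of locality on the base for fpqc coverings. -/
theorem isLocalOnBase_fpqc_of {Q : MorphismProperty (Sp S)} (hQ : BaseChanges Q)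
    (hd : ∀ ⦃X Y : Sp S⦄, IsAlgSpace X → IsAlgSpace Y → ∀ (f : X ⟶ Y), FpqcLoc Q f → Q f) :
    IsLocalOnBase (IsFpqcCover (S := S)) Q := by
  intro ι Y Yi g hY hYi hg X f hX Xi p q hXi sq
  exact ⟨fun h i => hQ hX hY (hXi i) (hYi i) (sq i) h,
    fun h => hd hX hY f (fpqcLoc_of_cover hQ Yi g hY hYi hg f hX Xi p q hXi sq h)⟩

/-- The diagonal acquires fpqc locally what the diagonals of the base changes have. -/
theorem fpqcLoc_diagonal {P : MorphismProperty Scheme.{u}} {X Y : Sp S} {f : X ⟶ Y}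
    (h : FpqcLoc (fun _ _ s => RepWith P (pullback.diagonal s)) f) :
    FpqcLoc (RepWith P) (pullback.diagonal f) := by
  intro Z hZ g
  obtain ⟨m, W, c, hW, hc, hcov, hl⟩ := h Z hZ (g ≫ pullback.fst f f ≫ f)
  refine ⟨m, W, c, hW, hc, hcov, fun j P' fst snd sq => ?_⟩
  let k := (yon S).map (c j) ≫ g ≫ pullback.fst f f ≫ f
  have sqk := IsPullback.of_hasPullback f k
  have hd := hl j _ _ _ sqk
  let t := (yon S).map (c j) ≫ g
  let γ : (yon S).obj (W j) ⟶ pullback (pullback.snd f k) (pullback.snd f k) :=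
    pullback.lift (sqk.lift (t ≫ pullback.fst f f) (𝟙 _) (by simp [t, k]))
      (sqk.lift (t ≫ pullback.snd f f) (𝟙 _) (by simp [t, k, pullback.condition])) (by simp)
  have hγ : γ ≫ pullback.map _ _ f f (pullback.fst f k) (pullback.fst f k) k sqk.w.symm sqk.w.symm = t := by
    apply pullback.hom_ext <;>
      simp only [γ, pullback.map, Category.assoc, pullback.lift_fst, pullback.lift_snd,
        pullback.lift_fst_assoc, pullback.lift_snd_assoc, IsPullback.lift_fst, IsPullback.lift_snd]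
  have hp := (IsPullback.of_hasPullback (pullback.diagonal (pullback.snd f k)) γ).paste_horiz
    (isPullback_diagonal_of_isPullback sqk)
  rw [hγ] at hp
  have hr := repWith_of_isPullback (IsPullback.of_hasPullback (pullback.diagonal (pullback.snd f k)) γ) hd
  have e : snd = (sq.isoIsPullback _ _ hp).hom ≫ pullback.snd _ γ := (IsPullback.isoIsPullback_hom_snd _ _ sq hp).symm
  rw [e]
  refine ⟨?_, fun T V k' a b sq' => hr.2 k' (a ≫ (sq.isoIsPullback _ _ hp).hom) b ?_⟩
  · intro T k'
    obtain ⟨V, b, a, sq'⟩ := hr.1 k'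
    refine ⟨V, b, a ≫ (sq.isoIsPullback _ _ hp).inv, ?_⟩
    exact IsPullback.of_iso sq' (Iso.refl _) (sq.isoIsPullback _ _ hp).symm (Iso.refl _) (Iso.refl _)
      (by simp) (by simp) (by simp) (by simp)
  · exact IsPullback.of_iso sq' (Iso.refl _) (sq.isoIsPullback _ _ hp) (Iso.refl _) (Iso.refl _)
      (by simp) (by simp) (by simp) (by simp)

section Family

variable {Z : Over S} {m : ℕ} (W : Fin m → Over S) (c : ∀ j, W j ⟶ Z)

/-- The disjoint union of a finite flat jointly surjective affine family. -/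
theorem exists_sigma (hW : ∀ j, IsAffine (W j).left) (hc : ∀ j, Flat (c j).left)
    (hcov : ∀ z : ↥Z.left, ∃ j, z ∈ Set.range (c j).left) [IsAffine Z.left] :
    ∃ (V : Over S) (d : V ⟶ Z) (e : ∀ j, W j ⟶ V), IsAffine V.left ∧ Flat d.left ∧ Surjective d.left ∧
      QuasiCompact d.left ∧ (∀ j, e j ≫ d = c j) ∧ (∀ j, IsOpenImmersion (e j).left) ∧
      ∀ v : ↥V.left, ∃ j, v ∈ Set.range (e j).left := by
  let F : Fin m → Scheme.{u} := fun j => (W j).left
  haveI : ∀ j, IsAffine (F j) := hW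
  let D : ∐ F ⟶ Z.left := Sigma.desc fun j => (c j).left
  let V : Over S := Over.mk (D ≫ Z.hom)
  haveI : IsAffine V.left := inferInstanceAs (IsAffine (∐ F))
  let e : ∀ j, W j ⟶ V := fun j => Over.homMk (Sigma.ι F j) (by
    change Sigma.ι F j ≫ D ≫ Z.hom = (W j).hom
    rw [Sigma.ι_desc_assoc, Over.w])
  refine ⟨V, Over.homMk D rfl, e, inferInstance, ?_, ⟨fun z => ?_⟩, ?_, fun j => ?_, fun j => ?_, fun v => ?_⟩
  · change Flat D
    rw [IsZariskiLocalAtSource.iff_of_openCover (P := @Flat) (sigmaOpenCover _)]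
    intro j
    change Flat (Sigma.ι F j ≫ D)
    rw [Sigma.ι_desc]
    exact hc j
  · obtain ⟨j, w, rfl⟩ := hcov z
    exact ⟨(e j).left w, by
      change D (Sigma.ι F j w) = _
      rw [← Scheme.Hom.comp_apply, Sigma.ι_desc]⟩
  · change QuasiCompact D
    infer_instance
  · exact Over.OverMorphism.ext (Sigma.ι_desc _ _)
  · exact inferInstanceAs (IsOpenImmersion (Sigma.ι F j))
  · obtain ⟨j, w, hw⟩ := (sigmaOpenCover F).exists_eq v
    exact ⟨j, w, hw⟩

theorem isOpen_of_family (hW : ∀ j, IsAffine (W j).left) (hc : ∀ j, Flat (c j).left)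
    (hcov : ∀ z : ↥Z.left, ∃ j, z ∈ Set.range (c j).left) [IsAffine Z.left] {A : Set ↥Z.left}
    (h : ∀ j, IsOpen ((c j).left ⁻¹' A)) : IsOpen A := by
  obtain ⟨V, d, e, hV, hd, hds, hdq, he, heo, hev⟩ := exists_sigma W c hW hc hcov
  haveI := hd
  haveI := hds
  haveI := hdq
  rw [← (Flat.isQuotientMap_of_surjective d.left).isOpen_preimage]
  have e' : d.left ⁻¹' A = ⋃ j, (e j).left '' ((c j).left ⁻¹' A) := by
    ext v
    constructor
    · intro hv
      obtain ⟨j, w, rfl⟩ := hev v
      refine Set.mem_iUnion.2 ⟨j, w, ?_, rfl⟩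
      rwa [Set.mem_preimage, ← he, Over.comp_left, Scheme.Hom.comp_apply]
    · intro hv
      obtain ⟨j, w, hw, rfl⟩ := Set.mem_iUnion.1 hv
      rwa [Set.mem_preimage, ← he, Over.comp_left, Scheme.Hom.comp_apply] at hw
  rw [e']
  exact isOpen_iUnion fun j => by
    haveI := heo j
    exact (e j).left.isOpenEmbedding.isOpenMap _ (h j)

theorem isClosed_of_family (hW : ∀ j, IsAffine (W j).left) (hc : ∀ j, Flat (c j).left)
    (hcov : ∀ z : ↥Z.left, ∃ j, z ∈ Set.range (c j).left) [IsAffine Z.left] {A : Set ↥Z.left}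
    (h : ∀ j, IsClosed ((c j).left ⁻¹' A)) : IsClosed A :=
  isOpen_compl_iff.1 (isOpen_of_family W c hW hc hcov fun j => (h j).isOpen_compl)

end Family

/-- The scheme level statement. -/
theorem prop_of_fpqc_pieces {P : MorphismProperty Scheme.{u}} [IsZariskiLocalAtTarget P]
    [P.DescendsAlong (@Surjective ⊓ @Flat ⊓ @QuasiCompact)] {U V : Over S} (α : U ⟶ V)
    (h : ∀ (Z : Over S), IsAffine Z.left → ∀ g : Z ⟶ V, ∃ (m : ℕ) (W : Fin m → Over S) (c : ∀ j, W j ⟶ Z),
      (∀ j, IsAffine (W j).left) ∧ (∀ j, Flat (c j).left) ∧ (∀ z : ↥Z.left, ∃ j, z ∈ Set.range (c j).left) ∧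
      ∀ j, P (pullback.snd α (c j ≫ g)).left) : P α.left := by
  rw [IsZariskiLocalAtTarget.iff_of_openCover (P := P) V.left.affineCover]
  intro i
  let Z := affPiece V i
  let g : Z ⟶ V := affPieceι V i
  haveI : IsAffine Z.left := inferInstanceAs (IsAffine (V.left.affineCover.X i))
  obtain ⟨m, W, c, hW, hc, hcov, hP⟩ := h Z inferInstance g
  obtain ⟨V', d, e, hV', hd, hds, hdq, he, heo, hev⟩ := exists_sigma W c hW hc hcov
  haveI := hd
  haveI := hds
  haveI := hdq
  have sq := isPullback_left (IsPullback.of_hasPullback α g)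
  suffices hβ : P (pullback.snd α g).left by
    change P (pullback.snd α.left g.left)
    rwa [← sq.isoPullback_inv_snd, MorphismProperty.cancel_left_of_respectsIso P]
  refine MorphismProperty.of_isPullback_of_descendsAlong (Q := @Surjective ⊓ @Flat ⊓ @QuasiCompact)
    (isPullback_left (IsPullback.of_hasPullback (pullback.snd α g) d)).flip ⟨⟨hds, hd⟩, hdq⟩ ?_
  rw [IsZariskiLocalAtTarget.iff_of_iSup_eq_top (P := P) (fun j => (e j).left.opensRange) (by
      ext v
      simpa using hev v)]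
  intro j
  haveI := heo j
  have sqj := (IsPullback.of_hasPullback (pullback.snd (pullback.snd α g) d) (e j)).paste_horiz
    (IsPullback.of_hasPullback (pullback.snd α g) d) |>.paste_horiz (IsPullback.of_hasPullback α g)
  rw [he] at sqj
  have hj := hP j
  rw [← (IsPullback.of_hasPullback α (c j ≫ g)).isoIsPullback_hom_snd _ _ sqj, Over.comp_left,
    MorphismProperty.cancel_left_of_respectsIso P] at hj
  have sql := isPullback_left (IsPullback.of_hasPullback (pullback.snd (pullback.snd α g) d) (e j))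
  exact (MorphismProperty.arrow_mk_iso_iff P (morphismRestrictOpensRange _ _)).2
    (by rwa [← sql.isoPullback_inv_snd, MorphismProperty.cancel_left_of_respectsIso P] )

/-- Properties local on source and target descend. -/
theorem locP_of_fpqcLoc {P : MorphismProperty Scheme.{u}} [IsZariskiLocalAtTarget P]
    [P.DescendsAlong (@Surjective ⊓ @Flat ⊓ @QuasiCompact)] (hP : EtLocal P) {X Y : Sp S}
    (hX : IsAlgSpace X) (hY : IsAlgSpace Y) {f : X ⟶ Y} (h : FpqcLoc (LocP P) f) : LocP P f := by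
  have := hP.baseChange
  obtain ⟨V, q, qe, qs⟩ := hY.atlas
  obtain ⟨U, p, pe, ps⟩ := (isAlgSpace_pullback' hY hX (IsAlgSpace.yon_obj V) f q).atlas
  obtain ⟨α, hα⟩ := (yon S).map_surjective (p ≫ pullback.snd f q)
  refine EtLocal.locP_of_chart hP (a := p ≫ pullback.fst f q) (b := q) (h := α) ?_ ?_ qe
    (by rw [Category.assoc, pullback.condition, hα, Category.assoc]) (prop_of_fpqc_pieces α fun Z hZ g => ?_)
  · exact repWith_comp pe (repWith_of_isPullback (IsPullback.of_hasPullback f q).flip qe)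
  · exact repWith_comp ps (repWith_of_isPullback (IsPullback.of_hasPullback f q).flip qs)
  obtain ⟨m, W, c, hW, hc, hcov, hl⟩ := h Z hZ ((yon S).map g ≫ q)
  refine ⟨m, W, c, hW, hc, hcov, fun j => ?_⟩
  let β := c j ≫ g
  let P' := pullback (pullback.snd f q) ((yon S).map β)
  let n : (yon S).obj (pullback α β) ⟶ P' :=
    pullback.lift ((yon S).map (pullback.fst α β) ≫ p) ((yon S).map (pullback.snd α β))
      (by rw [Category.assoc, ← hα, ← Functor.map_comp, ← Functor.map_comp, pullback.condition])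
  have sqn : IsPullback n ((yon S).map (pullback.fst α β)) (pullback.fst (pullback.snd f q) ((yon S).map β)) p := by
    refine IsPullback.of_right (h₁₂ := pullback.snd _ _) (h₂₂ := pullback.snd f q) (v₁₃ := (yon S).map β)
      ?_ (pullback.lift_fst _ _ _) (IsPullback.of_hasPullback _ _).flip
    rw [show n ≫ pullback.snd _ _ = (yon S).map (pullback.snd α β) from pullback.lift_snd _ _ _, ← hα]
    exact (isPullback_yon (IsPullback.of_hasPullback α β)).flip
  have sqP := (IsPullback.of_hasPullback (pullback.snd f q) ((yon S).map β)).paste_horiz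
    (IsPullback.of_hasPullback f q)
  have hsnd : LocP P (pullback.snd (pullback.snd f q) ((yon S).map β)) :=
    hl j P' (pullback.fst _ _ ≫ pullback.fst f q) _ (by
      have := sqP; rwa [Functor.map_comp, Category.assoc] at this)
  exact hsnd n (𝟙 _) (pullback.snd α β) (repWith_of_isPullback sqn.flip pe) (repWith_id _ _)
    (by rw [Category.comp_id]; exact pullback.lift_snd _ _ _)

/-- Properties of representable morphisms descend. -/
theorem repWith_of_fpqcLoc {P : MorphismProperty Scheme.{u}} [IsZariskiLocalAtTarget P] [P.IsStableUnderBaseChange]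
    [P.DescendsAlong (@Surjective ⊓ @Flat ⊓ @QuasiCompact)] {X Y : Sp S} {f : X ⟶ Y} (hf : Representable f)
    (h : FpqcLoc (RepWith P) f) : RepWith P f := by
  refine ⟨hf, fun T V g fst snd sq => prop_of_fpqc_pieces snd fun Z hZ k => ?_⟩
  obtain ⟨m, W, c, hW, hc, hcov, hl⟩ := h Z hZ ((yon S).map k ≫ g)
  refine ⟨m, W, c, hW, hc, hcov, fun j => ?_⟩
  have hst := isPullback_stack sq (IsPullback.of_hasPullback snd (c j ≫ k))
  rw [Functor.map_comp, Category.assoc] at hst
  exact (repWith_yon_map_iff P _).1 (hl j _ _ _ hst)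

section Top

variable {X Y : Sp S} {f : X ⟶ Y}

theorem preimage_schemeHomeo {Z W : Over S} (c : W ⟶ Z) (A : Set (Points ((yon S).obj Z))) :
    c.left ⁻¹' ((Points.schemeHomeo Z) ⁻¹' A) =
      (Points.schemeHomeo W) ⁻¹' (Points.map ((yon S).map c) ⁻¹' A) := by
  ext w
  simp only [Set.mem_preimage, Points.map_yon_map_apply]

theorem isUnivClosedMor_of_fpqcLoc (hf : FpqcLoc IsUnivClosedMor f) : IsUnivClosedMor f := by
  refine isUnivClosedMor_of_affine fun Z hZ g P fst snd sq A hA => ?_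
  haveI := hZ
  obtain ⟨m, W, c, hW, hc, hcov, hl⟩ := hf Z hZ g
  have := isClosed_of_family W c hW hc hcov (A := Points.schemeHomeo Z ⁻¹' (Points.map snd '' A)) fun j => by
    have sq' := IsPullback.of_hasPullback snd ((yon S).map (c j))
    rw [preimage_schemeHomeo, preimage_image_of_isPullback sq']
    exact ((isClosedMap_points_of_closed (hl j _ _ _ (sq'.paste_horiz sq))) _
      (hA.preimage (Points.continuous_map _))).preimage (Points.schemeHomeo _).continuous
  exact (Points.schemeHomeo Z).isClosed_preimage.1 this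

theorem isUnivOpenMor_of_fpqcLoc (hf : FpqcLoc IsUnivOpenMor f) : IsUnivOpenMor f := by
  refine isUnivOpenMor_of_affine fun Z hZ g P fst snd sq A hA => ?_
  haveI := hZ
  obtain ⟨m, W, c, hW, hc, hcov, hl⟩ := hf Z hZ g
  have := isOpen_of_family W c hW hc hcov (A := Points.schemeHomeo Z ⁻¹' (Points.map snd '' A)) fun j => by
    have sq' := IsPullback.of_hasPullback snd ((yon S).map (c j))
    rw [preimage_schemeHomeo, preimage_image_of_isPullback sq']
    have ho : IsOpenMap (Points.map (pullback.snd snd ((yon S).map (c j)))) :=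
      hl j _ _ _ (sq'.paste_horiz sq) (IsAlgSpace.yon_obj _) (𝟙 _) (𝟙 _) _ IsPullback.of_id_fst
    exact (ho _ (hA.preimage (Points.continuous_map _))).preimage (Points.schemeHomeo _).continuous
  exact (Points.schemeHomeo Z).isOpen_preimage.1 this

theorem isUnivSubmersiveMor_of_fpqcLoc (hf : FpqcLoc IsUnivSubmersiveMor f) : IsUnivSubmersiveMor f := by
  refine isUnivSubmersiveMor_of_affine fun Z hZ g P fst snd sq => ?_
  haveI := hZ
  obtain ⟨m, W, c, hW, hc, hcov, hl⟩ := hf Z hZ g
  have hq : ∀ j, IsQuotientMap (Points.map (pullback.snd snd ((yon S).map (c j)))) := fun j =>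
    hl j _ _ _ ((IsPullback.of_hasPullback snd ((yon S).map (c j))).paste_horiz sq)
      (IsAlgSpace.yon_obj _) (𝟙 _) (𝟙 _) _ IsPullback.of_id_fst
  refine (Topology.isQuotientMap_iff _).2 ⟨.of_isOpen_preimage_iff_isOpen fun A => ⟨fun hA => ?_,
    fun hA => hA.preimage (Points.continuous_map snd)⟩, fun z => ?_⟩
  · refine (Points.schemeHomeo Z).isOpen_preimage.1 (isOpen_of_family W c hW hc hcov fun j => ?_)
    rw [preimage_schemeHomeo]
    refine IsOpen.preimage (Points.schemeHomeo _).continuous ?_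
    rw [← (hq j).isOpen_preimage, ← Set.preimage_comp,
      show Points.map ((yon S).map (c j)) ∘ Points.map (pullback.snd snd ((yon S).map (c j))) =
        Points.map snd ∘ Points.map (pullback.fst snd ((yon S).map (c j))) from funext fun x => by
          simp only [Function.comp_apply, ← Points.map_comp, pullback.condition],
      Set.preimage_comp]
    exact hA.preimage (Points.continuous_map _)
  · obtain ⟨z, rfl⟩ := (Points.schemeHomeo Z).surjective z
    obtain ⟨j, w, rfl⟩ := hcov z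
    obtain ⟨a, ha⟩ := (hq j).surjective (Points.schemeHomeo _ w)
    exact ⟨Points.map (pullback.fst _ _) a, by
      rw [← Points.map_comp, pullback.condition, Points.map_comp, ha, Points.map_yon_map_apply]⟩

theorem isUnivInjectiveMor_of_fpqcLoc (hf : FpqcLoc IsUnivInjectiveMor f) : IsUnivInjectiveMor f := by
  refine isUnivInjectiveMor_of_affine fun Z hZ g P fst snd sq x y hxy => ?_
  obtain ⟨m, W, c, hW, hc, hcov, hl⟩ := hf Z hZ g
  obtain ⟨z, hz⟩ := (Points.schemeHomeo Z).surjective (Points.map snd x)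
  obtain ⟨j, w, hw⟩ := hcov z
  have sq' := IsPullback.of_hasPullback snd ((yon S).map (c j))
  have hi : Function.Injective (Points.map (pullback.snd snd ((yon S).map (c j)))) :=
    hl j _ _ _ (sq'.paste_horiz sq) (IsAlgSpace.yon_obj _) (𝟙 _) (𝟙 _) _ IsPullback.of_id_fst
  have hwz : Points.map ((yon S).map (c j)) (Points.schemeHomeo _ w) = Points.map snd x := by
    rw [Points.map_yon_map_apply, hw, hz]
  obtain ⟨a, ha₁, ha₂⟩ := exists_of_isPullback sq' hwz.symm
  obtain ⟨b, hb₁, hb₂⟩ := exists_of_isPullback sq' (hxy.symm.trans hwz.symm)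
  rw [← ha₁, hi (ha₂.trans hb₂.symm), hb₁]

theorem surjective_of_fpqcLoc (hf : FpqcLoc IsSurjectiveMor f) {Z : Over S} (hZ : IsAffine Z.left)
    (g : (yon S).obj Z ⟶ Y) {P : Sp S} {fst : P ⟶ X} {snd : P ⟶ (yon S).obj Z}
    (sq : IsPullback fst snd f g) : Function.Surjective (Points.map snd) := by
  obtain ⟨m, W, c, hW, hc, hcov, hl⟩ := hf Z hZ g
  intro z
  obtain ⟨z, rfl⟩ := (Points.schemeHomeo Z).surjective z
  obtain ⟨j, w, rfl⟩ := hcov z
  have sq' := IsPullback.of_hasPullback snd ((yon S).map (c j))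
  obtain ⟨a, ha⟩ := hl j _ _ _ (sq'.paste_horiz sq) (Points.schemeHomeo _ w)
  exact ⟨Points.map (pullback.fst _ _) a, by
    rw [← Points.map_comp, pullback.condition, Points.map_comp, ha, Points.map_yon_map_apply]⟩

theorem isQuasiCompactMor_of_fpqcLoc (hX : IsAlgSpace X) (hY : IsAlgSpace Y)
    (hf : FpqcLoc IsQuasiCompactMor f) : IsQuasiCompactMor f := by
  refine isQuasiCompactMor_of_affine fun Z hZ g P fst snd sq => ?_
  obtain ⟨m, W, c, hW, hc, hcov, hl⟩ := hf Z hZ g
  have hP := isAlgSpace_pullback hY.diag hX (IsAlgSpace.yon_obj Z) sq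
  haveI : CompactSpace (Points P) := by
    refine ⟨?_⟩
    have e : (Set.univ : Set (Points P)) =
        ⋃ j, Set.range (Points.map (pullback.fst snd ((yon S).map (c j)))) := by
      refine Set.ext fun x => iff_of_true trivial ?_
      obtain ⟨z, hz⟩ := (Points.schemeHomeo Z).surjective (Points.map snd x)
      obtain ⟨j, w, hw⟩ := hcov z
      obtain ⟨a, ha, -⟩ := exists_of_isPullback (IsPullback.of_hasPullback snd ((yon S).map (c j))) (x := x)
        (y := Points.schemeHomeo _ w) (by rw [Points.map_yon_map_apply, hw, hz])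
      exact Set.mem_iUnion.2 ⟨j, a, ha⟩
    rw [e]
    refine isCompact_iUnion fun j => ?_
    haveI := hW j
    haveI : CompactSpace ↥(W j).left := inferInstance
    have sq' := IsPullback.of_hasPullback snd ((yon S).map (c j))
    haveI := compactSpace_points_of_isQuasiCompactSp (hl j _ _ _ (sq'.paste_horiz sq)
      (IsAlgSpace.yon_obj _) (isQuasiCompactSp_yon (W j)) (𝟙 _) (𝟙 _) _ IsPullback.of_id_fst)
    exact isCompact_range (Points.continuous_map _)
  exact isQuasiCompactSp_of_compactSpace_points hP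

end Top

end GrothLib.AlgSp
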