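import Groth.Agent.Lib.AlgSp.SmoothGlue
import Groth.Agent.Lib.AlgSp.Fpqc
import Groth.Agent.Lib.AlgSp.FpqcProps
import Groth.Agent.Lib.SmoothLocal6.Geometry
import Groth.Agent.Lib.ProjDescent.Main
import Mathlib.RingTheory.Etale.Descent

/-!
# Formal smoothness descends along fpqc coverings
-/

universe u

open CategoryTheory CategoryTheory.Limits AlgebraicGeometry Opposite TensorProduct

namespace GrothLib.AlgSp

open _root_.AlgSp

/-- Formal smoothness descends along faithfully flat algebras. -/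
theorem formallySmooth_of_faithfullyFlat (R S T : Type u) [CommRing R] [CommRing S] [CommRing T]
    [Algebra R S] [Algebra R T] [Module.FaithfullyFlat R T] [Algebra.FormallySmooth T (T ⊗[R] S)] :
    Algebra.FormallySmooth R S := by
  rw [Algebra.formallySmooth_iff]
  constructor
  · let _ : Algebra T (S ⊗[R] T) := Algebra.TensorProduct.rightAlgebra
    let e : S ⊗[R] T ≃ₐ[T] T ⊗[R] S :=
      .ofRingEquiv (f := Algebra.TensorProduct.comm R S T) <| by simp [RingHom.algebraMap_toAlgebra]
    have : Algebra.FormallySmooth T (S ⊗[R] T) := .of_equiv e.symm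
    let e' : (S ⊗[R] T) ⊗[S] Ω[S⁄R] ≃ₗ[S ⊗[R] T] Ω[S ⊗[R] T⁄T] :=
      KaehlerDifferential.tensorKaehlerEquiv R T S (S ⊗[R] T)
    have : Module.Projective (S ⊗[R] T) ((S ⊗[R] T) ⊗[S] Ω[S⁄R]) := Module.Projective.of_equiv e'.symm
    exact GrothLib.ProjDescent.projective_of_faithfullyFlat (S ⊗[R] T) _
  · have : Subsingleton (T ⊗[R] Algebra.H1Cotangent R S) :=
      (Algebra.tensorH1CotangentOfFlat R S T).subsingleton
    exact Module.FaithfullyFlat.lTensor_reflects_triviality R T (Algebra.H1Cotangent R S)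

theorem isFormallySmoothHom_of_smooth {X Y : Scheme.{u}} (f : X ⟶ Y) [Smooth f] :
    MoreMor.IsFormallySmoothHom f := ((Groth.Agent.S1488.result f).1 inferInstance).2

theorem isFormallySmoothHom_baseChange {X' X S' S : Scheme.{u}} {g' : X' ⟶ X} {f' : X' ⟶ S'}
    {f : X ⟶ S} {g : S' ⟶ S} (hsq : IsPullback g' f' f g) (hf : MoreMor.IsFormallySmoothHom f) :
    MoreMor.IsFormallySmoothHom f' := by
  intro A _ I hI a b w
  obtain ⟨m, hm, hmb⟩ := hf A I hI (a ≫ g') (b ≫ g) (by rw [reassoc_of% w, Category.assoc, hsq.w])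
  refine ⟨hsq.lift m b hmb, hsq.hom_ext ?_ ?_, hsq.lift_snd _ _ _⟩
  · rw [Category.assoc, hsq.lift_fst, hm]
  · rw [Category.assoc, hsq.lift_snd, w]

/-- Formal smoothness as a property of morphisms of schemes. -/
abbrev fsHom : MorphismProperty Scheme.{u} := fun _ _ f => MoreMor.IsFormallySmoothHom f

instance fsHom_respectsIso : fsHom.{u}.RespectsIso :=
  MorphismProperty.RespectsIso.mk _
    (fun e f hf => GrothLib.FormalLift.smooth_comp _ _ (isFormallySmoothHom_of_smooth e.hom) hf)
    (fun e f hf => GrothLib.FormalLift.smooth_comp _ _ hf (isFormallySmoothHom_of_smooth e.hom))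

instance fsHom_baseChange : fsHom.{u}.IsStableUnderBaseChange where
  of_isPullback sq hf := isFormallySmoothHom_baseChange sq hf

instance fsHom_zariskiLocal : IsZariskiLocalAtTarget fsHom.{u} := by
  refine IsZariskiLocalAtTarget.mk' (fun f U hf => ?_) (fun {X Y} f {ι} U hU h => ?_)
  · exact isFormallySmoothHom_baseChange (isPullback_morphismRestrict f U).flip hf
  · refine GrothLib.SmoothLocal6.isFormallySmoothHom_of_local f fun x => ?_
    obtain ⟨i, hi⟩ := TopologicalSpace.Opens.mem_iSup.1 (hU.ge (show f x ∈ ⊤ from trivial))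
    refine ⟨f ⁻¹ᵁ U i, U i, le_rfl, hi, ?_⟩
    rw [Scheme.Hom.resLE_eq_morphismRestrict]
    exact h i

theorem fsHom_descends :
    fsHom.{u}.DescendsAlong (@Surjective ⊓ @Flat ⊓ @QuasiCompact) := by
  refine IsZariskiLocalAtTarget.descendsAlong_inf_quasiCompact (P := fsHom) (@Surjective ⊓ @Flat) ?_
    fun {R S Y} φ g hφ hg => ?_
  · rintro X Y f ⟨hf, hs⟩
    have : Etale f := IsLocalIso.le_of_isZariskiLocalAtSource @Etale _ _ f hf
    exact ⟨hs, show Flat f from inferInstance⟩
  have : Surjective (Spec.map φ) := hφ.1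
  have hfl : Flat (Spec.map φ) := hφ.2
  refine GrothLib.SmoothLocal6.isFormallySmoothHom_of_local g fun y => ?_
  obtain ⟨_, ⟨(W : Y.Opens), hW, rfl⟩, hyW, -⟩ := Y.isBasis_affineOpens.exists_subset_of_mem_open (Set.mem_univ y) isOpen_univ
  refine ⟨W, ⊤, fun _ _ => trivial, hyW, ?_⟩
  obtain ⟨ψ, hψ⟩ := Spec.map_surjective (hW.isoSpec.inv ≫ W.ι ≫ g)
  have h1 : fsHom (pullback.fst (Spec.map φ) (hW.isoSpec.inv ≫ W.ι ≫ g)) := by
    have heq : pullback.fst (Spec.map φ) (hW.isoSpec.inv ≫ W.ι ≫ g) =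
        pullback.map _ _ _ _ (𝟙 _) (hW.isoSpec.inv ≫ W.ι) (𝟙 _) (by simp) (by simp) ≫
          pullback.fst (Spec.map φ) g := by
      rw [pullback.lift_fst, Category.comp_id]
    rw [heq]
    refine GrothLib.FormalLift.smooth_comp _ _ ?_ hg
    have : IsOpenImmersion (pullback.map (Spec.map φ) (hW.isoSpec.inv ≫ W.ι ≫ g) (Spec.map φ) g (𝟙 _)
        (hW.isoSpec.inv ≫ W.ι) (𝟙 _) (by simp) (by simp)) :=
      MorphismProperty.pullbackMap (P := @IsOpenImmersion) inferInstance inferInstance rfl (by simp)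
    exact isFormallySmoothHom_of_smooth _
  rw [← hψ] at h1
  letI : Algebra R S := φ.hom.toAlgebra
  letI : Algebra R Γ(Y, W) := ψ.hom.toAlgebra
  have : Module.Flat R S := HasRingHomProperty.Spec_iff.1 hfl
  have : Module.FaithfullyFlat R S := Module.FaithfullyFlat.of_comap_surjective fun p => (Spec.map φ).surjective p
  have h2 : fsHom (Spec.map (CommRingCat.ofHom (algebraMap S (S ⊗[R] Γ(Y, W))))) := by
    rw [← pullbackSpecIso_inv_fst (R := R) (S := S) (T := Γ(Y, W))]
    exact (MorphismProperty.cancel_left_of_respectsIso fsHom _ _).2 h1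
  have h3 := GrothLib.FormalLift.formallySmooth_of_lift _ h2
  rw [CommRingCat.hom_ofHom, RingHom.formallySmooth_algebraMap] at h3
  have : Algebra.FormallySmooth R Γ(Y, W) := formallySmooth_of_faithfullyFlat R _ S
  have h4 : fsHom (Spec.map ψ) := GrothLib.SmoothLocal6.isFormallySmoothHom_specMap ψ this
  rw [hψ, MorphismProperty.cancel_left_of_respectsIso fsHom] at h4
  have h5 : g.resLE ⊤ W (fun _ _ => trivial) ≫ (Spec R).topIso.hom = W.ι ≫ g := Scheme.Hom.resLE_comp_ι _ _
  rw [← h5, MorphismProperty.cancel_right_of_respectsIso fsHom] at h4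
  exact h4

variable {S : Scheme.{u}}

theorem fs_of_fpqcLoc {X Y : Sp S} (hX : IsAlgSpace X) (hY : IsAlgSpace Y) {f : X ⟶ Y}
    (h : FpqcLoc IsFormallySmoothMor f) : IsFormallySmoothMor f := by
  have := fsHom_descends.{u}
  obtain ⟨V, q, qe, qs⟩ := hY.atlas
  obtain ⟨U, p, α, pe, hp, hps⟩ := exists_chart_over hX hY f q qe
  refine fs_of_etale_comp hX hY pe (hps qs) ?_
  rw [hp]
  refine fs_comp ((fs_yon_map_iff α).2 (prop_of_fpqc_pieces (P := fsHom) α fun Z hZ g => ?_))
    (fs_of_fe (fe_of_repWith_etale qe))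
  obtain ⟨m, W, c, hW, hc, hcov, hl⟩ := h Z hZ ((yon S).map g ≫ q)
  refine ⟨m, W, c, hW, hc, hcov, fun j => (fs_yon_map_iff _).1 ?_⟩
  -- the pullback of `f` along `W j` and its chart
  let b := (yon S).map (c j) ≫ (yon S).map g ≫ q
  let P := pullback f b
  have hsnd := hl j P (pullback.fst f b) (pullback.snd f b) (IsPullback.of_hasPullback f b)
  let n : (yon S).obj (pullback α (c j ≫ g)) ⟶ P :=
    pullback.lift ((yon S).map (pullback.fst α (c j ≫ g)) ≫ p) ((yon S).map (pullback.snd α (c j ≫ g)))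
      (by rw [Category.assoc, hp, ← Functor.map_comp_assoc, pullback.condition]; simp [b])
  have hpq : (yon S).map α ≫ q = p ≫ f := hp.symm
  have hn : IsFormallySmoothMor n := by
    let V₁ := pullback f q
    let l₁ : (yon S).obj U ⟶ V₁ := pullback.lift p ((yon S).map α) hp
    let c₁ : P ⟶ V₁ := pullback.lift (pullback.fst f b) (pullback.snd f b ≫ (yon S).map (c j ≫ g))
      (by rw [pullback.condition]; simp [b])
    have sq₁ : IsPullback c₁ (pullback.snd f b) (pullback.snd f q) ((yon S).map (c j ≫ g)) := by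
      refine IsPullback.of_right ?_ (pullback.lift_snd _ _ _) (IsPullback.of_hasPullback f q)
      rw [pullback.lift_fst]
      convert IsPullback.of_hasPullback f b using 1
      simp [b]
    have sq₂ : IsPullback ((yon S).map (pullback.fst α (c j ≫ g))) n l₁ c₁ := by
      refine IsPullback.of_bot ?_ ?_ sq₁
      · rw [show n ≫ pullback.snd f b = _ from pullback.lift_snd _ _ _,
          show l₁ ≫ pullback.snd f q = _ from pullback.lift_snd _ _ _]
        exact isPullback_yon (IsPullback.of_hasPullback _ _)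
      · apply pullback.hom_ext
        · simp only [l₁, n, c₁, Category.assoc, pullback.lift_fst, pullback.lift_fst_assoc]
        · simp only [l₁, n, c₁, Category.assoc, pullback.lift_snd, pullback.lift_snd_assoc]
          rw [← Functor.map_comp, ← Functor.map_comp, pullback.condition]
    refine fs_baseChange sq₂ (fs_of_comp (b := pullback.fst f q) ?_ ?_)
    · exact fu_of_fe (fe_of_repWith_etale (repWith_of_isPullback (IsPullback.of_hasPullback f q).flip qe))
    · rw [show l₁ ≫ pullback.fst f q = p from pullback.lift_fst _ _ _]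
      exact fs_of_fe (fe_of_repWith_etale pe)
  have := fs_comp hn hsnd
  rwa [show n ≫ pullback.snd f b = _ from pullback.lift_snd _ _ _] at this

theorem isLocalOnBase_fpqc_fs : IsLocalOnBase (IsFpqcCover (S := S)) IsFormallySmoothMor :=
  isLocalOnBase_fpqc_of (fun _ _ _ _ _ _ _ _ _ _ _ _ sq h => fs_baseChange sq h)
    fun _ _ hX hY _ h => fs_of_fpqcLoc hX hY h

end GrothLib.AlgSp
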