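import Mathlib.AlgebraicGeometry.Sites.Fpqc
import Groth.Agent.Lib.AlgSp.Space
import Groth.Agent.Lib.AlgSp.Points
import Groth.Agent.Lib.AlgSp.Glue
import Groth.Agent.Lib.SchEffective.IndQAFpqc
import Groth.Agent.Lib.FpqcCov.Basic
import Groth.Agent.S1402
import Groth.Agent.Lib.AlgSp.LocP
import Groth.Prelude.Def_DescFam
import Groth.Prelude.Def_AlgSpCov

/-!
# Algebraic spaces are sheaves for the fpqc topology

`hom_ext_fpqc` and `exists_hom_fpqc`: maps from schemes to an algebraic space glue uniquely along fpqc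
coverings. The gluing uses fpqc descent of separated etale morphisms (they are ind-quasi-affine).
-/

set_option backward.isDefEq.respectTransparency false

universe u

open CategoryTheory CategoryTheory.Limits AlgebraicGeometry Opposite

namespace GrothLib.AlgSp

open _root_.AlgSp

variable {S : Scheme.{u}}

/-- An fpqc covering family of a scheme over `S`. -/
abbrev IsFpqcFam {T : Over S} {ι : Type u} (Ti : ι → Over S) (f : ∀ i, Ti i ⟶ T) : Prop :=
  Presieve.ofArrows (fun i => (Ti i).left) (fun i => (f i).left) ∈ Scheme.fpqcPrecoverage T.left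

theorem isFpqcFam_pullback {T V : Over S} {ι : Type u} {Ti : ι → Over S} {f : ∀ i, Ti i ⟶ T}
    (hf : IsFpqcFam Ti f) (v : V.left ⟶ T.left) :
    Presieve.ofArrows (fun i => pullback (f i).left v) (fun i => pullback.snd (f i).left v) ∈
      Scheme.fpqcPrecoverage V.left :=
  Precoverage.mem_coverings_of_isPullback _ hf v _ (fun i => pullback.fst (f i).left v)
    fun i => (IsPullback.of_hasPullback _ _).flip

/-- Morphisms of schemes glue along fpqc coverings. -/
theorem exists_glue_scheme {Z W : Scheme.{u}} {ι : Type u} {X : ι → Scheme.{u}} {f : ∀ i, X i ⟶ Z}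
    (hf : Presieve.ofArrows X f ∈ Scheme.fpqcPrecoverage Z) (x : ∀ i, X i ⟶ W)
    (h : ∀ (i j : ι) (T : Scheme.{u}) (gi : T ⟶ X i) (gj : T ⟶ X j), gi ≫ f i = gj ≫ f j → gi ≫ x i = gj ≫ x j) :
    ∃! s : Z ⟶ W, ∀ i, f i ≫ s = x i := by
  have hsh := (GrothendieckTopology.Subcanonical.isSheaf_of_isRepresentable (J := Scheme.fpqcTopology)
    (yoneda.obj W)) _ (Precoverage.generate_mem_toGrothendieck hf)
  rw [← Presieve.isSheafFor_iff_generate, Presieve.isSheafFor_arrows_iff] at hsh
  exact hsh x h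

variable {X : Sp S}

/-- Maps to an algebraic space are determined on an fpqc covering. -/
theorem hom_ext_fpqc (hX : Representable (Limits.diag X)) {T : Over S} {ι : Type u} {Ti : ι → Over S}
    {f : ∀ i, Ti i ⟶ T} (hf : IsFpqcFam Ti f) {a b : (yon S).obj T ⟶ X}
    (h : ∀ i, (yon S).map (f i) ≫ a = (yon S).map (f i) ≫ b) : a = b := by
  obtain ⟨V, fst, snd, sq⟩ := exists_isPullback_of_representable hX (prod.lift a b)
  haveI : Mono (Limits.diag X) := ⟨fun u v h => by simpa [Limits.diag] using congrArg (· ≫ prod.fst) h⟩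
  haveI : Mono ((yon S).map snd) := sq.mono_snd_of_mono
  haveI : Mono snd := (yon S).mono_of_mono_map inferInstance
  have hl : ∀ i, ∃ l : Ti i ⟶ V, l ≫ snd = f i := fun i => by
    obtain ⟨l, hl⟩ := (yon S).map_surjective (sq.lift ((yon S).map (f i) ≫ a) ((yon S).map (f i)) (by
      apply Limits.prod.hom_ext
      · simp [Limits.diag]
      · simpa [Limits.diag] using h i))
    exact ⟨l, (yon S).map_injective (by rw [Functor.map_comp, hl, sq.lift_snd])⟩
  choose l hl using hl
  have hl' : ∀ i, (l i).left ≫ snd.left = (f i).left := fun i => congrArg CommaMorphism.left (hl i)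
  obtain ⟨s, hs, -⟩ := exists_glue_scheme hf (fun i => (l i).left) fun i j Z gi gj e => by
    rw [← cancel_mono snd.left, Category.assoc, Category.assoc, hl', hl', e]
  have hs₁ : s ≫ snd.left = 𝟙 T.left := by
    refine (exists_glue_scheme hf (fun i => (f i).left) fun i j Z gi gj e => e).unique (fun i => ?_) fun i => by simp
    rw [← Category.assoc, hs i, hl']
  let s' : T ⟶ V := Over.homMk s (by rw [← Over.w snd, ← Category.assoc, hs₁, Category.id_comp])
  have hs' : s' ≫ snd = 𝟙 T := Over.OverMorphism.ext hs₁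
  have ha : (yon S).map s' ≫ fst = a := by
    have := congrArg (fun z => (yon S).map s' ≫ z ≫ prod.fst) sq.w
    simpa [Limits.diag, ← Functor.map_comp_assoc, hs'] using this
  have hb : (yon S).map s' ≫ fst = b := by
    have := congrArg (fun z => (yon S).map s' ≫ z ≫ prod.snd) sq.w
    simpa [Limits.diag, ← Functor.map_comp_assoc, hs'] using this
  exact ha.symm.trans hb

/-- Maps from schemes to a sheaf glue along etale coverings. -/
theorem exists_hom_of_etale {F : Sp S} {T : Over S} {κ : Type u} (V : κ → Over S) (c : ∀ k, V k ⟶ T)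
    (he : ∀ k, Etale (c k).left) (hs : ∀ x : ↥T.left, ∃ k y, (c k).left y = x)
    (l : ∀ k, (yon S).obj (V k) ⟶ F)
    (hl : ∀ (i j : κ) (Z : Over S) (gi : Z ⟶ V i) (gj : Z ⟶ V j), gi ≫ c i = gj ≫ c j →
      (yon S).map gi ≫ l i = (yon S).map gj ≫ l j) :
    ∃! l' : (yon S).obj T ⟶ F, ∀ k, (yon S).map (c k) ≫ l' = l k := by
  have hsh := (isSheaf_iff_isSheaf_of_type _ _).1 F.property _ (ofArrows_mem V c
    (fun k => have := he k; inferInstance) (fun k => have := he k; inferInstance) hs)
  rw [Sieve.ofArrows, ← Presieve.isSheafFor_iff_generate, Presieve.isSheafFor_arrows_iff] at hsh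
  obtain ⟨t, ht, hu⟩ := hsh (fun i => (J S).uliftYonedaEquiv.{u + 1} (l i)) (by
    intro i j Z gi gj hg
    rw [GrothendieckTopology.uliftYonedaEquiv_naturality, GrothendieckTopology.uliftYonedaEquiv_naturality,
      hl i j Z gi gj hg])
  refine ⟨(J S).uliftYonedaEquiv.{u + 1}.symm t, fun i => ?_, fun l' hl' => ?_⟩
  · apply (J S).uliftYonedaEquiv.{u + 1}.injective
    rw [← GrothendieckTopology.uliftYonedaEquiv_naturality, Equiv.apply_symm_apply]
    exact ht i
  · apply (J S).uliftYonedaEquiv.{u + 1}.injective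
    rw [Equiv.apply_symm_apply]
    refine hu _ fun i => ?_
    rw [GrothendieckTopology.uliftYonedaEquiv_naturality, hl' i]

section Descend

variable (hX : IsAlgSpace X) {T : Over S} {ι : Type u} {Ti : ι → Over S} {f : ∀ i, Ti i ⟶ T}
  (x : ∀ i, (yon S).obj (Ti i) ⟶ X)
  (hx : ∀ (i j : ι) (Z : Over S) (gi : Z ⟶ Ti i) (gj : Z ⟶ Ti j), gi ≫ f i = gj ≫ f j →
    (yon S).map gi ≫ x i = (yon S).map gj ≫ x j)

/-- Points of a chart of `X` over the members of a covering, with a descent datum. -/
structure ChartDD {O : Over S} (φ : (yon S).obj O ⟶ X) where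
  P : ι → Over S
  p : ∀ i, P i ⟶ O
  q : ∀ i, P i ⟶ Ti i
  sq : ∀ i, IsPullback ((yon S).map (p i)) ((yon S).map (q i)) φ (x i)

variable {x} {O : Over S} {φ : (yon S).obj O ⟶ X} (d : ChartDD x φ)

include d in
theorem ChartDD.hom_ext {i : ι} {Z : Scheme.{u}} {u u' : Z ⟶ (d.P i).left}
    (hp : u ≫ (d.p i).left = u' ≫ (d.p i).left) (hq : u ≫ (d.q i).left = u' ≫ (d.q i).left) : u = u' := by
  have e : u' ≫ (d.P i).hom = u ≫ (d.P i).hom := by
    rw [← Over.w (d.q i), ← Category.assoc, ← hq, Category.assoc]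
  let m : Over.mk (u ≫ (d.P i).hom) ⟶ d.P i := Over.homMk u rfl
  let m' : Over.mk (u ≫ (d.P i).hom) ⟶ d.P i := Over.homMk u' e
  suffices m = m' from congrArg CommaMorphism.left this
  apply (yon S).map_injective
  apply (d.sq i).hom_ext
  · rw [← Functor.map_comp, ← Functor.map_comp]
    congr 1
    exact Over.OverMorphism.ext hp
  · rw [← Functor.map_comp, ← Functor.map_comp]
    congr 1
    exact Over.OverMorphism.ext hq

include hx in
theorem ChartDD.exists_move {i j : ι} {Z : Scheme.{u}} (x₀ : Z ⟶ (Ti i).left) (x₁ : Z ⟶ (Ti j).left)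
    (h : x₀ ≫ (f i).left = x₁ ≫ (f j).left) (v : Desc.Lifts (Over.mk (d.q i).left) x₀) :
    ∃ v' : Desc.Lifts (Over.mk (d.q j).left) x₁, v'.1 ≫ (d.p j).left = v.1 ≫ (d.p i).left := by
  have hv : v.1 ≫ (d.q i).left = x₀ := v.2
  let Zo : Over S := Over.mk (v.1 ≫ (d.P i).hom)
  let m : Zo ⟶ d.P i := Over.homMk v.1 rfl
  let n : Zo ⟶ Ti j := Over.homMk x₁ (by
    change x₁ ≫ (Ti j).hom = v.1 ≫ (d.P i).hom
    calc x₁ ≫ (Ti j).hom = (x₁ ≫ (f j).left) ≫ T.hom := by rw [Category.assoc, Over.w (f j)]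
      _ = (x₀ ≫ (f i).left) ≫ T.hom := by rw [h]
      _ = x₀ ≫ (Ti i).hom := by rw [Category.assoc, Over.w (f i)]
      _ = (v.1 ≫ (d.q i).left) ≫ (Ti i).hom := congrArg (· ≫ (Ti i).hom) hv.symm
      _ = v.1 ≫ (d.P i).hom := (Category.assoc _ _ _).trans (congrArg (v.1 ≫ ·) (Over.w (d.q i))))
  have hmn : (m ≫ d.q i) ≫ f i = n ≫ f j := Over.OverMorphism.ext (by
    change (v.1 ≫ (d.q i).left) ≫ (f i).left = x₁ ≫ (f j).left
    exact (congrArg (· ≫ (f i).left) hv).trans h)
  obtain ⟨l, hl⟩ := (yon S).map_surjective ((d.sq j).lift ((yon S).map (m ≫ d.p i)) ((yon S).map n) (by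
    rw [Functor.map_comp, Category.assoc, (d.sq i).w, ← hx i j Zo _ _ hmn, Functor.map_comp, Category.assoc]))
  have hl₁ : l ≫ d.p j = m ≫ d.p i := (yon S).map_injective (by rw [Functor.map_comp, hl, IsPullback.lift_fst])
  have hl₂ : l ≫ d.q j = n := (yon S).map_injective (by rw [Functor.map_comp, hl, IsPullback.lift_snd])
  exact ⟨⟨l.left, congrArg CommaMorphism.left hl₂⟩, congrArg CommaMorphism.left hl₁⟩

/-- The descent datum on the points of a chart. -/
noncomputable def ChartDD.dd : Desc.SchDDFam (fun i => (f i).left) where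
  obj i := Over.mk (d.q i).left
  φ Z i j x₀ x₁ h :=
    { toFun := fun v => (d.exists_move hx x₀ x₁ h v).choose
      invFun := fun v => (d.exists_move hx x₁ x₀ h.symm v).choose
      left_inv := fun v => Subtype.ext (d.hom_ext
        ((d.exists_move hx x₁ x₀ h.symm _).choose_spec.trans (d.exists_move hx x₀ x₁ h v).choose_spec)
        (((d.exists_move hx x₁ x₀ h.symm _).choose.2).trans v.2.symm))
      right_inv := fun v => Subtype.ext (d.hom_ext
        ((d.exists_move hx x₀ x₁ h _).choose_spec.trans (d.exists_move hx x₁ x₀ h.symm v).choose_spec)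
        (((d.exists_move hx x₀ x₁ h _).choose.2).trans v.2.symm)) }
  φ_natural Z Z' k i j x₀ x₁ h y₀ y₁ hy₀ hy₁ h' v v' hv' := by
    refine d.hom_ext ?_ ?_
    · refine (d.exists_move hx y₀ y₁ h' v').choose_spec.trans ?_
      rw [hv', Category.assoc, Category.assoc]
      exact congrArg (k ≫ ·) (d.exists_move hx x₀ x₁ h v).choose_spec.symm
    · refine (d.exists_move hx y₀ y₁ h' v').choose.2.trans ?_
      rw [Category.assoc]
      exact hy₁.symm.trans (congrArg (k ≫ ·) (d.exists_move hx x₀ x₁ h v).choose.2.symm)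
  φ_self Z i x v := Subtype.ext (d.hom_ext (d.exists_move hx x x rfl v).choose_spec
    ((d.exists_move hx x x rfl v).choose.2.trans v.2.symm))
  φ_comp Z i j k x₀ x₁ x₂ h₀₁ h₁₂ v := Subtype.ext (d.hom_ext
    (((d.exists_move hx x₁ x₂ h₁₂ _).choose_spec.trans (d.exists_move hx x₀ x₁ h₀₁ v).choose_spec).trans
      (d.exists_move hx x₀ x₂ (h₀₁.trans h₁₂) v).choose_spec.symm)
    (((d.exists_move hx x₁ x₂ h₁₂ _).choose.2).trans (d.exists_move hx x₀ x₂ (h₀₁.trans h₁₂) v).choose.2.symm))

theorem ChartDD.dd_φ_p {i j : ι} {Z : Scheme.{u}} (x₀ : Z ⟶ (Ti i).left) (x₁ : Z ⟶ (Ti j).left)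
    (h : x₀ ≫ (f i).left = x₁ ≫ (f j).left) (v : Desc.Lifts (Over.mk (d.q i).left) x₀) :
    ((d.dd hx).φ x₀ x₁ h v).1 ≫ (d.p j).left = v.1 ≫ (d.p i).left :=
  (d.exists_move hx x₀ x₁ h v).choose_spec

include hX in
theorem ChartDD.separated (d : ChartDD x φ) [IsAffine O.left] (i : ι) : IsSeparated (d.q i).left := by
  haveI : Mono (Limits.diag X) := ⟨fun u v h => by simpa [Limits.diag] using congrArg (· ≫ prod.fst) h⟩
  have hm : Mono (prod.lift (d.p i) (d.q i)) := ⟨fun u u' e => by
    apply Over.OverMorphism.ext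
    exact d.hom_ext (congrArg CommaMorphism.left (by simpa using congrArg (· ≫ Limits.prod.fst) e))
      (congrArg CommaMorphism.left (by simpa using congrArg (· ≫ Limits.prod.snd) e))⟩
  haveI : IsSeparated O.hom := by
    haveI : IsSeparated (O.hom ≫ terminal.from S) := inferInstance
    exact IsSeparated.of_comp _ (terminal.from S)
  haveI : IsSeparated (prod.snd : O ⨯ Ti i ⟶ Ti i).left := by
    rw [← Over.prodLeftIsoPullback_hom_snd]; infer_instance
  have e : (d.q i).left = (prod.lift (d.p i) (d.q i)).left ≫ (prod.snd : O ⨯ Ti i ⟶ Ti i).left := by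
    rw [← Over.comp_left, prod.lift_snd]
  rw [e]
  infer_instance

include hX hx in
/-- An etale affine chart of `X` gives an etale scheme over `T` with a map to the chart. -/
theorem exists_descended (hf : IsFpqcFam Ti f) [IsAffine O.left] (hφ : RepWith @Etale φ) :
    ∃ (V : Over S) (v : V ⟶ T) (o : V ⟶ O), Etale v.left ∧
      (∀ (i : ι) (Z : Over S) (u : Z ⟶ V) (w : Z ⟶ Ti i), u ≫ v = w ≫ f i →
        (yon S).map (u ≫ o) ≫ φ = (yon S).map w ≫ x i) ∧
      ∀ i, ∃ (P : Over S) (p : P ⟶ O) (q : P ⟶ Ti i) (u : P ⟶ V),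
        IsPullback ((yon S).map p) ((yon S).map q) φ (x i) ∧ u ≫ v = q ≫ f i := by
  have hd : ∀ i, ∃ (P : Over S) (p : P ⟶ O) (q : P ⟶ Ti i), IsPullback ((yon S).map p) ((yon S).map q) φ (x i) :=
    fun i => exists_isPullback_yon hX.diag φ (x i)
  choose P p q sq using hd
  let d : ChartDD x φ := ⟨P, p, q, sq⟩
  have hq : ∀ i, Etale (q i).left := fun i => hφ.2 (x i) _ _ (sq i)
  obtain ⟨V, ⟨e⟩⟩ := GrothLib.SchEffective.isEffective_of_indQA _ hf (d.dd hx) fun i => by
    haveI : IsSeparated (q i).left := d.separated hX i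
    haveI := hq i
    haveI : LocallyQuasiFinite (q i).left := EtLocal.lqf.of_etale (q i).left (hq i)
    exact Groth.Agent.S1402.result (q i).left
  let eo : ∀ i, pullback (f i).left V.hom ≅ (P i).left := fun i =>
    { hom := (e.hom.hom i).left
      inv := (e.inv.hom i).left
      hom_inv_id := congrArg (fun m : (Desc.toDDFam _).obj V ⟶ _ => (m.hom i).left) e.hom_inv_id
      inv_hom_id := congrArg (fun m : d.dd hx ⟶ d.dd hx => (m.hom i).left) e.inv_hom_id }
  have heo : ∀ i, (eo i).hom ≫ (q i).left = pullback.fst (f i).left V.hom := fun i => Over.w (e.hom.hom i)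
  let W : Over S := Over.mk (V.hom ≫ T.hom)
  have hcov := isFpqcFam_pullback (V := W) hf (V.hom : W.left ⟶ T.left)
  obtain ⟨o, ho, -⟩ := exists_glue_scheme hcov (fun i => (eo i).hom ≫ (p i).left) fun i j Z gi gj hg => by
    let x₀ := gi ≫ pullback.fst (f i).left V.hom
    let x₁ := gj ≫ pullback.fst (f j).left V.hom
    have h : x₀ ≫ (f i).left = x₁ ≫ (f j).left := by
      simp only [x₀, x₁, Category.assoc, pullback.condition]
      exact (Category.assoc _ _ _).symm.trans ((congrArg (· ≫ V.hom) hg).trans (Category.assoc _ _ _))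
    let vc : Desc.Lifts (((Desc.toDDFam fun i => (f i).left).obj V).obj i) x₀ := ⟨gi, rfl⟩
    let vd : Desc.Lifts ((d.dd hx).obj i) x₀ :=
      ⟨gi ≫ (eo i).hom, (Category.assoc _ _ _).trans (congrArg (gi ≫ ·) (heo i))⟩
    have hc := e.hom.comm x₀ x₁ h vc vd rfl
    have hgj : (((Desc.toDDFam fun i => (f i).left).obj V).φ x₀ x₁ h vc).1 = gj :=
      pullback.hom_ext (pullback.lift_fst _ _ _) ((pullback.lift_snd _ _ _).trans hg)
    rw [hgj] at hc
    have := d.dd_φ_p hx x₀ x₁ h vd
    rw [hc] at this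
    simpa [vd, Category.assoc] using this.symm
  have hw : o ≫ O.hom = W.hom := by
    refine (exists_glue_scheme hcov (fun i => pullback.snd (f i).left V.hom ≫ W.hom)
      fun i j Z gi gj hg => (Category.assoc _ _ _).symm.trans ((congrArg (· ≫ W.hom) hg).trans (Category.assoc _ _ _))).unique
      (fun i => ?_) fun i => rfl
    rw [← Category.assoc, ho i, Category.assoc, Over.w (p i), ← Over.w (q i), ← Category.assoc, heo i,
      ← Over.w (f i)]
    exact (Category.assoc _ _ _).symm.trans ((congrArg (· ≫ T.hom) pullback.condition).trans (Category.assoc _ _ _))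
  let o' : W ⟶ O := Over.homMk o hw
  let v : W ⟶ T := Over.homMk V.hom rfl
  refine ⟨W, v, o', ?_, fun i Z u w huw => ?_, fun i => ?_⟩
  · obtain ⟨hqc, hflat, -⟩ := GrothLib.FpqcCov.quasiCompactCover_and_flat _ hf
    haveI := hqc
    refine GrothLib.FpqcCov.of_fpqc (@Etale) inferInstance v.left ⟨ι, fun i => (Ti i).left, fun i => (f i).left⟩ hflat fun i => ?_
    have h : Etale (pullback.fst (f i).left V.hom) := by
      rw [← heo i]; exact (@MorphismProperty.cancel_left_of_respectsIso _ _ @Etale _ _ _ _ (eo i).hom (q i).left (eo i).isIso_hom).2 (hq i)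
    rw [show pullback.snd v.left (f i).left = (pullbackSymmetry _ _).hom ≫ pullback.fst (f i).left V.hom from
      (pullbackSymmetry_hom_comp_fst _ _).symm]
    infer_instance
  · have hl : w.left ≫ (f i).left = u.left ≫ V.hom := (congrArg CommaMorphism.left huw).symm
    let l : Z.left ⟶ (P i).left := pullback.lift w.left u.left hl ≫ (eo i).hom
    have hlq : l ≫ (q i).left = w.left := by
      rw [Category.assoc, heo i, pullback.lift_fst]
    have hlo : l ≫ (p i).left = u.left ≫ o := by
      rw [Category.assoc, ← ho i, ← Category.assoc]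
      exact congrArg (· ≫ o) (pullback.lift_snd _ _ _)
    let L : Z ⟶ P i := Over.homMk l (by rw [← Over.w (q i), ← Category.assoc, hlq, Over.w w])
    rw [show u ≫ o' = L ≫ p i from Over.OverMorphism.ext hlo.symm, ← show L ≫ q i = w from Over.OverMorphism.ext hlq,
      Functor.map_comp, Functor.map_comp, Category.assoc, Category.assoc, (sq i).w]
  · have hu₀ : ((eo i).inv ≫ pullback.snd (f i).left V.hom) ≫ V.hom = (q i).left ≫ (f i).left := by
      rw [Category.assoc, ← pullback.condition, ← heo i, Category.assoc, Iso.inv_hom_id_assoc]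
    refine ⟨P i, p i, q i, Over.homMk ((eo i).inv ≫ pullback.snd (f i).left V.hom) ?_, sq i,
      Over.OverMorphism.ext hu₀⟩
    calc ((eo i).inv ≫ pullback.snd (f i).left V.hom) ≫ W.hom
        = (((eo i).inv ≫ pullback.snd (f i).left V.hom) ≫ V.hom) ≫ T.hom := (Category.assoc _ _ _).symm
      _ = ((q i).left ≫ (f i).left) ≫ T.hom := congrArg (· ≫ T.hom) hu₀
      _ = (P i).hom := by rw [Category.assoc, Over.w (f i), Over.w (q i)]

include hX hx in
/-- Maps to an algebraic space glue along fpqc coverings. -/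
theorem exists_hom_fpqc (hf : IsFpqcFam Ti f) : ∃ x₀ : (yon S).obj T ⟶ X, ∀ i, (yon S).map (f i) ≫ x₀ = x i := by
  obtain ⟨U, a, ha, hs⟩ := hX.atlas
  let O : U.left.affineCover.I₀ → Over S := fun k => Over.mk (U.left.affineCover.f k ≫ U.hom)
  let φ : ∀ k, (yon S).obj (O k) ⟶ X := fun k => (yon S).map (Over.homMk (U.left.affineCover.f k) rfl) ≫ a
  have hφ : ∀ k, RepWith @Etale (φ k) := fun k => repWith_comp
    ((repWith_yon_map_iff _ _).2 (inferInstanceAs (Etale (U.left.affineCover.f k)))) ha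
  have hd := fun k => haveI : IsAffine (O k).left := inferInstanceAs (IsAffine (U.left.affineCover.X k))
    exists_descended hX hx hf (hφ k)
  choose V v o hv hkey hP using hd
  choose P p q u hsq hu using hP
  have hcov : ∀ i (z : ↥(Ti i).left), ∃ k y, (q k i).left y = z := fun i z => by
    obtain ⟨y, hy⟩ := surjective_map_of_repWith hs (Points.ofPt (x i) z)
    obtain ⟨y, rfl⟩ := (Points.schemeEquiv U).surjective y
    obtain ⟨k, y', rfl⟩ := U.left.affineCover.exists_eq y
    have e : Points.map (φ k) (Points.ofScheme (O k) y') = Points.map (x i) (Points.ofScheme (Ti i) z) := by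
      rw [Points.map_comp, map_yon_ofPt]
      exact hy.trans (Points.ofPt_eq_map_ofScheme _ _)
    obtain ⟨r, -, hr⟩ := exists_of_isPullback (hsq k i) e
    obtain ⟨r, rfl⟩ := (Points.schemeEquiv (P k i)).surjective r
    exact ⟨k, r, (Points.schemeEquiv (Ti i)).injective ((map_yon_ofPt (q k i) r).symm.trans hr)⟩
  obtain ⟨-, hflat, hjs⟩ := GrothLib.FpqcCov.quasiCompactCover_and_flat _ hf
  have hsurj : ∀ t : ↥T.left, ∃ k y, (v k).left y = t := fun t => by
    obtain ⟨i, z, rfl⟩ := hjs t
    obtain ⟨k, y, rfl⟩ := hcov i z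
    refine ⟨k, (u k i).left y, ?_⟩
    rw [← Scheme.Hom.comp_apply, ← Scheme.Hom.comp_apply, ← Over.comp_left, ← Over.comp_left, hu]
  obtain ⟨x₀, hx₀, -⟩ := exists_hom_of_etale V v hv hsurj (fun k => (yon S).map (o k) ≫ φ k)
    fun k k' Z gk gk' hg => by
      let w : ∀ i, Over.mk (pullback.fst (gk ≫ v k).left (f i).left ≫ Z.hom) ⟶ Z :=
        fun i => Over.homMk (pullback.fst _ _) rfl
      refine hom_ext_fpqc hX.diag (T := Z) (Ti := fun i => Over.mk (pullback.fst (gk ≫ v k).left (f i).left ≫ Z.hom))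
        (f := w) ?_ fun i => ?_
      · exact Precoverage.mem_coverings_of_isPullback _ hf (gk ≫ v k).left _
          (fun i => pullback.snd (gk ≫ v k).left (f i).left) fun i => IsPullback.of_hasPullback _ _
      · let w' : Over.mk (pullback.fst (gk ≫ v k).left (f i).left ≫ Z.hom) ⟶ Ti i :=
          Over.homMk (pullback.snd _ _) (by
            change pullback.snd _ _ ≫ (Ti i).hom = pullback.fst _ _ ≫ Z.hom
            rw [← Over.w (f i), ← pullback.condition_assoc, Over.w])
        have e : (w i ≫ gk) ≫ v k = w' ≫ f i := Over.OverMorphism.ext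
          ((Category.assoc _ _ _).trans pullback.condition)
        have e' : (w i ≫ gk') ≫ v k' = w' ≫ f i := by rw [Category.assoc, ← hg, ← Category.assoc, e]
        calc (yon S).map (w i) ≫ (yon S).map gk ≫ (yon S).map (o k) ≫ φ k
            = (yon S).map ((w i ≫ gk) ≫ o k) ≫ φ k := by simp only [Functor.map_comp, Category.assoc]
          _ = (yon S).map w' ≫ x i := hkey k i _ _ _ e
          _ = (yon S).map ((w i ≫ gk') ≫ o k') ≫ φ k' := (hkey k' i _ _ _ e').symm
          _ = (yon S).map (w i) ≫ (yon S).map gk' ≫ (yon S).map (o k') ≫ φ k' := by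
            simp only [Functor.map_comp, Category.assoc]
  refine ⟨x₀, fun i => (exists_hom_of_etale (fun k => P k i) (fun k => q k i)
    (fun k => (hφ k).2 (x i) _ _ (hsq k i)) (hcov i) (fun k => (yon S).map (q k i) ≫ x i)
    fun k k' Z gk gk' hg => by rw [← Functor.map_comp_assoc, ← Functor.map_comp_assoc, hg]).unique
      (fun k => ?_) fun k => rfl⟩
  rw [← Functor.map_comp_assoc, ← hu, Functor.map_comp_assoc, hx₀, ← Functor.map_comp_assoc,
    hkey k i _ _ _ (hu k i)]

end Descend

/-- An algebraic space is a sheaf for the fpqc topology. -/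
theorem isSheaf_fpqc (hX : IsAlgSpace X) : Presheaf.IsSheaf (Scheme.fpqcTopology.over S) X.obj := by
  haveI : Precoverage.Small.{u} Scheme.fpqcPrecoverage.{u} :=
    inferInstanceAs (Precoverage.Small.{u} (Scheme.propQCPrecoverage @Flat))
  rw [isSheaf_iff_isSheaf_of_type, over_toGrothendieck_eq_toGrothendieck_comap_forget,
    Precoverage.isSheaf_toGrothendieck_iff_of_isStableUnderBaseChange_of_small.{u}]
  intro T E
  have hf : IsFpqcFam E.X E.f := by
    have := E.mem₀
    rw [Precoverage.mem_comap_iff] at this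
    rwa [PreZeroHypercover.presieve₀, Presieve.map_ofArrows] at this
  rw [PreZeroHypercover.presieve₀, Presieve.isSheafFor_arrows_iff]
  intro el hel
  let x : ∀ i, (yon S).obj (E.X i) ⟶ X := fun i => (J S).uliftYonedaEquiv.{u + 1}.symm (el i)
  obtain ⟨x₀, hx₀⟩ := exists_hom_fpqc hX (x := x) (fun i j Z gi gj hg => by
    apply (J S).uliftYonedaEquiv.{u + 1}.injective
    rw [← GrothendieckTopology.uliftYonedaEquiv_naturality, ← GrothendieckTopology.uliftYonedaEquiv_naturality,
      Equiv.apply_symm_apply, Equiv.apply_symm_apply]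
    exact hel i j Z gi gj hg) hf
  refine ⟨(J S).uliftYonedaEquiv.{u + 1} x₀, fun i => ?_, fun y hy => ?_⟩
  · rw [GrothendieckTopology.uliftYonedaEquiv_naturality, hx₀ i]
    exact Equiv.apply_symm_apply _ _
  · apply (J S).uliftYonedaEquiv.{u + 1}.symm.injective
    rw [Equiv.symm_apply_apply]
    refine hom_ext_fpqc hX.diag hf fun i => ?_
    rw [hx₀ i]
    apply (J S).uliftYonedaEquiv.{u + 1}.injective
    rw [← GrothendieckTopology.uliftYonedaEquiv_naturality, Equiv.apply_symm_apply]
    exact (hy i).trans (Equiv.apply_symm_apply _ _).symm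

end GrothLib.AlgSp

namespace GrothLib.AlgSp

open _root_.AlgSp

variable {S : Scheme.{u}}

/-- A finite jointly surjective flat family of affine schemes over an affine one is an fpqc covering. -/
theorem isFpqcFam_of_finite_affine {Z : Over S} [IsAffine Z.left] {κ : Type u} [Finite κ] (W : κ → Over S)
    (c : ∀ j, W j ⟶ Z) (haff : ∀ j, IsAffine (W j).left) (hflat : ∀ j, Flat (c j).left)
    (hs : ∀ z : ↥Z.left, ∃ j y, (c j).left y = z) : IsFpqcFam W c := by
  let 𝒰 : Z.left.Cover (Scheme.precoverage @Flat) := Scheme.Cover.mkOfCovers κ (fun j => (W j).left)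
    (fun j => (c j).left) hs hflat
  have : Finite 𝒰.I₀ := ‹Finite κ›
  have : ∀ j, QuasiCompact (𝒰.f j) := fun j => by
    have : IsAffine (W j).left := haff j
    exact inferInstanceAs (QuasiCompact (c j).left)
  exact ⟨(Scheme.presieve₀_mem_qcPrecoverage_iff (E := 𝒰.toPreZeroHypercover)).2 (QuasiCompactCover.of_finite (𝒰 := 𝒰)),
    Scheme.ofArrows_mem_precoverage_iff (P := @Flat) |>.2 ⟨hs, hflat⟩⟩

variable {ι : Type u} {T : Sp S} {Ti : ι → Sp S} {g : ∀ i, Ti i ⟶ T} {B : Sp S}

/-- The defining property of the value at `p` of a map glued from `b`. -/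
def IsGlueValue (g : ∀ i, Ti i ⟶ T) (b : ∀ i, Ti i ⟶ B) {Z : Over S} (p : (yon S).obj Z ⟶ T)
    (q : (yon S).obj Z ⟶ B) : Prop :=
  ∀ (W : Over S) (k : W ⟶ Z) (i : ι) (l : (yon S).obj W ⟶ Ti i), l ≫ g i = (yon S).map k ≫ p →
    (yon S).map k ≫ q = l ≫ b i

theorem exists_affine_open_cover (Z : Over S) :
    ∃ (κ : Type u) (O : κ → Over S) (j : ∀ a, O a ⟶ Z), (∀ a, IsAffine (O a).left) ∧
      (∀ a, IsOpenImmersion (j a).left) ∧ ∀ z : ↥Z.left, ∃ a y, (j a).left y = z :=
  ⟨Z.left.affineCover.I₀, fun a => Over.mk (Z.left.affineCover.f a ≫ Z.hom),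
    fun a => Over.homMk (Z.left.affineCover.f a) rfl,
    fun a => inferInstanceAs (IsAffine (Z.left.affineCover.X a)),
    fun a => inferInstanceAs (IsOpenImmersion (Z.left.affineCover.f a)),
    fun z => Z.left.affineCover.exists_eq z⟩

variable (hg : IsFpqcCover Ti g)

include hg in
theorem exists_lifts_affine (Z : Over S) [IsAffine Z.left] (p : (yon S).obj Z ⟶ T) :
    ∃ (κ : Type u) (W : κ → Over S) (c : ∀ j, W j ⟶ Z), IsFpqcFam W c ∧
      ∀ j, ∃ (i : ι) (l : (yon S).obj (W j) ⟶ Ti i), l ≫ g i = (yon S).map (c j) ≫ p := by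
  obtain ⟨m, W, c, haff, hflat, hs, hl⟩ := hg.2 Z ‹_› p
  exact ⟨ULift.{u} (Fin m), fun j => W j.down, fun j => c j.down,
    isFpqcFam_of_finite_affine _ _ (fun j => haff j.down) (fun j => hflat j.down)
      (fun z => by obtain ⟨j, y, hy⟩ := hs z; exact ⟨⟨j⟩, y, hy⟩), fun j => hl j.down⟩

variable (hB : IsAlgSpace B) {b : ∀ i, Ti i ⟶ B}

include hg hB in
theorem glueValue_unique {Z : Over S} {p : (yon S).obj Z ⟶ T} {q q' : (yon S).obj Z ⟶ B}
    (h : IsGlueValue g b p q) (h' : IsGlueValue g b p q') : q = q' := by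
  obtain ⟨κ, O, j, hO, hj, hcov⟩ := exists_affine_open_cover Z
  refine (exists_hom_of_etale O j (fun a => have := hj a; inferInstance) hcov
    (fun a => (yon S).map (j a) ≫ q') fun a a' W k k' e => by
      rw [← Functor.map_comp_assoc, ← Functor.map_comp_assoc, e]).unique (fun a => ?_) fun a => rfl
  obtain ⟨κ', W, c, hc, hl⟩ := haveI := hO a; exists_lifts_affine hg (O a) ((yon S).map (j a) ≫ p)
  refine hom_ext_fpqc hB.diag hc fun w => ?_
  obtain ⟨i, l, e⟩ := hl w
  rw [← Functor.map_comp_assoc] at e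
  rw [← Functor.map_comp_assoc, ← Functor.map_comp_assoc, h _ _ i l e, h' _ _ i l e]

include hg hB in
theorem exists_glueValue
    (hb : ∀ i j, pullback.fst (g i) (g j) ≫ b i = pullback.snd (g i) (g j) ≫ b j)
    (Z : Over S) (p : (yon S).obj Z ⟶ T) : ∃ q : (yon S).obj Z ⟶ B, IsGlueValue g b p q := by
  have hb' : ∀ (W : Over S) (i j : ι) (l : (yon S).obj W ⟶ Ti i) (l' : (yon S).obj W ⟶ Ti j),
      l ≫ g i = l' ≫ g j → l ≫ b i = l' ≫ b j := fun W i j l l' e => by
    have := congrArg (pullback.lift l l' e ≫ ·) (hb i j)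
    simpa using this
  obtain ⟨κ, O, j, hO, hj, hcov⟩ := exists_affine_open_cover Z
  have hloc : ∀ a, ∃ q : (yon S).obj (O a) ⟶ B, IsGlueValue g b ((yon S).map (j a) ≫ p) q := fun a => by
    have := hO a
    obtain ⟨κ', W, c, hc, hl⟩ := exists_lifts_affine hg (O a) ((yon S).map (j a) ≫ p)
    choose i l hl using hl
    obtain ⟨q, hq⟩ := exists_hom_fpqc hB (x := fun w => l w ≫ b (i w)) (fun w w' V k k' e => by
      rw [← Category.assoc, ← Category.assoc]
      refine hb' V _ _ _ _ ?_
      rw [Category.assoc, Category.assoc, hl, hl, ← Functor.map_comp_assoc _ k, ← Functor.map_comp_assoc _ k', e]) hc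
    refine ⟨q, fun V k i' l' e => ?_⟩
    let v : ∀ w, Over.mk (pullback.fst k.left (c w).left ≫ V.hom) ⟶ V := fun w => Over.homMk (pullback.fst _ _) rfl
    refine hom_ext_fpqc hB.diag (Ti := fun w => Over.mk (pullback.fst k.left (c w).left ≫ V.hom)) (f := v) ?_
      fun w => ?_
    · exact Precoverage.mem_coverings_of_isPullback _ hc k.left _
        (fun w => pullback.snd k.left (c w).left) fun w => IsPullback.of_hasPullback _ _
    · let r : Over.mk (pullback.fst k.left (c w).left ≫ V.hom) ⟶ W w := Over.homMk (pullback.snd _ _) (by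
        change pullback.snd _ _ ≫ (W w).hom = pullback.fst _ _ ≫ V.hom
        rw [← Over.w (c w), ← pullback.condition_assoc, Over.w k])
      have hr : v w ≫ k = r ≫ c w := Over.OverMorphism.ext pullback.condition
      rw [← Functor.map_comp_assoc, hr, Functor.map_comp_assoc, hq w, ← Category.assoc, ← Category.assoc]
      refine hb' _ _ _ _ _ ?_
      rw [Category.assoc, Category.assoc, hl, e, ← Functor.map_comp_assoc _ r, ← Functor.map_comp_assoc _ (v w), hr]
  choose q hq using hloc
  obtain ⟨Q, hQ, -⟩ := exists_hom_of_etale O j (fun a => have := hj a; inferInstance) hcov q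
    fun a a' W k k' e => glueValue_unique hg hB (p := (yon S).map (k ≫ j a) ≫ p)
      (fun V m i l h => by
        rw [← Functor.map_comp_assoc]
        exact hq a V (m ≫ k) i l (by simpa only [Functor.map_comp, Category.assoc] using h))
      (fun V m i l h => by
        rw [← Functor.map_comp_assoc]
        exact hq a' V (m ≫ k') i l (by rw [e] at h; simpa only [Functor.map_comp, Category.assoc] using h))
  refine ⟨Q, fun V k i l e => ?_⟩
  let v : ∀ a, Over.mk (pullback.fst k.left (j a).left ≫ V.hom) ⟶ V := fun a => Over.homMk (pullback.fst _ _) rfl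
  have := fun a => hj a
  refine (exists_hom_of_etale _ v (fun a => inferInstanceAs (Etale (pullback.fst k.left (j a).left)))
    (fun x => ?_) (fun a => (yon S).map (v a) ≫ l ≫ b i) fun a a' W m m' h => by
      rw [← Functor.map_comp_assoc, ← Functor.map_comp_assoc, h]).unique (fun a => ?_) fun a => rfl
  · obtain ⟨a, y, hy⟩ := hcov (k.left x)
    obtain ⟨z, hz, -⟩ := Scheme.Pullback.exists_preimage_pullback (f := k.left) (g := (j a).left) x y hy.symm
    exact ⟨a, z, hz⟩
  · let r : Over.mk (pullback.fst k.left (j a).left ≫ V.hom) ⟶ O a := Over.homMk (pullback.snd _ _) (by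
      change pullback.snd _ _ ≫ (O a).hom = pullback.fst _ _ ≫ V.hom
      rw [← Over.w (j a), ← pullback.condition_assoc, Over.w k])
    have hr : v a ≫ k = r ≫ j a := Over.OverMorphism.ext pullback.condition
    rw [← Functor.map_comp_assoc, hr, Functor.map_comp_assoc, hQ a, ← Category.assoc]
    refine hq a _ r i _ ?_
    rw [Category.assoc, e, ← Functor.map_comp_assoc _ r, ← Functor.map_comp_assoc _ (v a), hr]

include hg hB in
/-- Maps to an algebraic space glue along fpqc coverings of sheaves. -/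
theorem exists_hom_of_isFpqcCover
    (hb : ∀ i j, pullback.fst (g i) (g j) ≫ b i = pullback.snd (g i) (g j) ≫ b j) :
    ∃ β : T ⟶ B, ∀ i, g i ≫ β = b i := by
  choose V hV using exists_glueValue hg hB hb
  have hnat : ∀ {Z Z' : Over S} (m : Z' ⟶ Z) (p : (yon S).obj Z ⟶ T),
      V Z' ((yon S).map m ≫ p) = (yon S).map m ≫ V Z p := fun m p => glueValue_unique hg hB (hV _ _) fun W k i l h => by
    rw [← Functor.map_comp_assoc]
    exact hV _ p W (k ≫ m) i l (by rw [Functor.map_comp_assoc]; exact h)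
  let β : T ⟶ B := ObjectProperty.homMk
    { app := fun Z => ↾fun x => (J S).uliftYonedaEquiv.{u + 1} (V Z.unop ((J S).uliftYonedaEquiv.{u + 1}.symm x))
      naturality := fun Z Z' m => by
        apply ConcreteCategory.hom_ext
        intro x
        change (J S).uliftYonedaEquiv.{u + 1} (V Z'.unop ((J S).uliftYonedaEquiv.{u + 1}.symm (T.obj.map m.unop.op x))) =
          B.obj.map m.unop.op ((J S).uliftYonedaEquiv.{u + 1} (V Z.unop ((J S).uliftYonedaEquiv.{u + 1}.symm x)))
        have e : (J S).uliftYonedaEquiv.{u + 1}.symm (T.obj.map m.unop.op x) =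
            (yon S).map m.unop ≫ (J S).uliftYonedaEquiv.{u + 1}.symm x := by
          apply (J S).uliftYonedaEquiv.{u + 1}.injective
          rw [Equiv.apply_symm_apply, ← GrothendieckTopology.uliftYonedaEquiv_naturality, Equiv.apply_symm_apply]
        rw [e, hnat, ← GrothendieckTopology.uliftYonedaEquiv_naturality] }
  have hβ : ∀ (Z : Over S) (p : (yon S).obj Z ⟶ T), p ≫ β = V Z p := fun Z p => by
    apply (J S).uliftYonedaEquiv.{u + 1}.injective
    rw [GrothendieckTopology.uliftYonedaEquiv_comp]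
    change (J S).uliftYonedaEquiv.{u + 1} (V Z ((J S).uliftYonedaEquiv.{u + 1}.symm ((J S).uliftYonedaEquiv.{u + 1} p))) = _
    rw [Equiv.symm_apply_apply]
  refine ⟨β, fun i => hom_ext fun Z l => ?_⟩
  rw [← Category.assoc, hβ]
  have := hV Z (l ≫ g i) Z (𝟙 Z) i l (by simp)
  simpa using this

include hg hB in
theorem hom_ext_isFpqcCover {β β' : T ⟶ B} (h : ∀ i, g i ≫ β = g i ≫ β') : β = β' :=
  hom_ext fun Z p => glueValue_unique hg hB (b := fun i => g i ≫ β) (p := p)
    (fun W k i l e => by simp only [reassoc_of% e]) fun W k i l e => by simp only [h i, reassoc_of% e]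

end GrothLib.AlgSp
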