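import Mathlib
import Groth.Prelude.Def_AlgSp

/-!
# Free actions of abstract groups on schemes give étale equivalence relations
-/

universe u

open CategoryTheory CategoryTheory.Limits AlgebraicGeometry

namespace GrothLib.AlgSp

variable {S : Scheme.{u}} {U : Over S} {G : Type u}

theorem cofan_left_isColimit {c : Cofan (fun _ : G => U)} (hc : IsColimit c) :
    Nonempty (IsColimit (Cofan.mk c.pt.left (fun g => (c.inj g).left) : Cofan (fun _ : G => U.left))) :=
  ⟨isColimitCofanMkObjOfIsColimit (Over.forget S) (fun _ : G => U) (fun g => c.inj g)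
    (hc.ofIsoColimit (Cofan.ext (Iso.refl _) (fun _ => by simp)))⟩

section

variable {c : Cofan (fun _ : G => U)}

theorem cofan_exists_iso (hc : IsColimit c) :
    ∃ e : (∐ fun _ : G => U.left) ≅ c.pt.left, ∀ g, Sigma.ι _ g ≫ e.hom = (c.inj g).left := by
  obtain ⟨h⟩ := cofan_left_isColimit hc
  exact ⟨(coproductIsCoproduct _).coconePointUniqueUpToIso h, fun g =>
    (coproductIsCoproduct _).comp_coconePointUniqueUpToIso_hom h ⟨g⟩⟩

theorem isOpenImmersion_cofan_inj (hc : IsColimit c) (g : G) : IsOpenImmersion (c.inj g).left := by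
  obtain ⟨e, he⟩ := cofan_exists_iso hc
  rw [← he g]; infer_instance

theorem cofan_inj_cover (hc : IsColimit c) (z : c.pt.left) : ∃ g, z ∈ Set.range (c.inj g).left := by
  obtain ⟨e, he⟩ := cofan_exists_iso hc
  obtain ⟨g, y, hy⟩ := (sigmaOpenCover (fun _ : G => U.left)).exists_eq (e.inv z)
  refine ⟨g, y, ?_⟩
  have : e.hom ((Sigma.ι (fun _ : G => U.left) g) y) = e.hom (e.inv z) := congrArg e.hom hy
  rw [← he g, Scheme.Hom.comp_apply, this, ← Scheme.Hom.comp_apply, e.inv_hom_id]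
  rfl

theorem cofan_inj_eq (hc : IsColimit c) {g g' : G} {y y' : U.left}
    (h : (c.inj g).left y = (c.inj g').left y') : g = g' := by
  obtain ⟨e, he⟩ := cofan_exists_iso hc
  rw [← he g, ← he g', Scheme.Hom.comp_apply, Scheme.Hom.comp_apply] at h
  have h' := congrArg e.inv h
  simp only [← Scheme.Hom.comp_apply, e.hom_inv_id, Category.comp_id] at h'
  rw [Category.assoc, Category.assoc, e.hom_inv_id, Category.comp_id, Category.comp_id] at h'
  exact congrArg Sigma.fst ((sigmaι_eq_iff _ _ _ _ _).1 h')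

end

variable [Group G] (ρ : G →* Aut U)

theorem hom_ρ_mul (g h : G) : (ρ (g * h)).hom = (ρ h).hom ≫ (ρ g).hom := by rw [map_mul]; rfl

theorem hom_ρ_one : (ρ 1).hom = 𝟙 U := by rw [map_one]; rfl

theorem ρ_inv_hom_comp (g : G) : (ρ g).hom ≫ (ρ g⁻¹).hom = 𝟙 U := by
  rw [← hom_ρ_mul, inv_mul_cancel, hom_ρ_one]

section

variable (hfree : ∀ (g : G) (x : U.left), g ≠ 1 →
      U.left.fromSpecResidueField x ≫ (ρ g).hom.left ≠ U.left.fromSpecResidueField x)
  {c : Cofan (fun _ : G => U)} (hc : IsColimit c) (s t : c.pt ⟶ U)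
  (hs : ∀ g, c.inj g ≫ s = 𝟙 U) (ht : ∀ g, c.inj g ≫ t = (ρ g).hom)

include hfree in
/-- A point with values in a field has trivial stabilizer. -/
theorem eq_of_field_point {K : Type u} [Field K] (y : Spec (CommRingCat.of K) ⟶ U.left) {g g' : G}
    (h : y ≫ (ρ g).hom.left = y ≫ (ρ g').hom.left) : g = g' := by
  by_contra hne
  apply hfree (g'⁻¹ * g) (y (IsLocalRing.closedPoint K))
    (fun h1 => hne (inv_mul_eq_one.1 h1).symm)
  have h2 : y ≫ (ρ (g'⁻¹ * g)).hom.left = y := by
    rw [hom_ρ_mul, Over.comp_left, ← Category.assoc, h, Category.assoc, ← Over.comp_left,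
      ρ_inv_hom_comp, Over.id_left, Category.comp_id]
  obtain ⟨φ, hφ⟩ : ∃ φ : U.left.residueField (y (IsLocalRing.closedPoint K)) ⟶ CommRingCat.of K,
      Spec.map φ ≫ U.left.fromSpecResidueField _ = y :=
    ⟨_, U.left.descResidueField_stalkClosedPointTo_fromSpecResidueField K y⟩
  haveI : Flat (Spec.map φ) := by
    rw [HasRingHomProperty.Spec_iff (P := @Flat)]
    letI := φ.hom.toAlgebra
    change Module.Flat _ _
    infer_instance
  haveI : Surjective (Spec.map φ) := ⟨fun z => ⟨IsLocalRing.closedPoint K, Subsingleton.elim _ _⟩⟩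
  haveI := Flat.epi_of_flat_of_surjective (Spec.map φ)
  rw [← hφ, Category.assoc] at h2
  exact (cancel_epi (Spec.map φ)).1 h2

include hc hs ht in
theorem factor_of_mem {T : Over S} (r : T ⟶ c.pt) (g : G) (V : T.left.Opens)
    (hV : ∀ x ∈ V, r.left x ∈ Set.range (c.inj g).left) :
    (V.ι ≫ r.left = (V.ι ≫ (r ≫ s).left) ≫ (c.inj g).left) ∧
      V.ι ≫ (r ≫ t).left = (V.ι ≫ (r ≫ s).left) ≫ (ρ g).hom.left := by
  haveI := isOpenImmersion_cofan_inj hc g
  have hr : Set.range (V.ι ≫ r.left) ⊆ Set.range (c.inj g).left := by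
    rintro _ ⟨x, rfl⟩
    exact hV _ x.2
  obtain ⟨a, ha⟩ : ∃ a, a ≫ (c.inj g).left = V.ι ≫ r.left :=
    ⟨_, IsOpenImmersion.lift_fac (c.inj g).left (V.ι ≫ r.left) hr⟩
  have h1 : V.ι ≫ (r ≫ s).left = a := by
    rw [Over.comp_left, ← Category.assoc, ← ha, Category.assoc, ← Over.comp_left, hs, Over.id_left,
      Category.comp_id]
  refine ⟨by rw [h1, ha], ?_⟩
  rw [h1, Over.comp_left, ← Category.assoc, ← ha, Category.assoc, ← Over.comp_left, ht]

include hfree hc hs ht in
theorem isEtaleEqvRel_of_free : _root_.AlgSp.IsEtaleEqvRel s t := by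
  have hinj : ∀ (T : Over S) (r r' : T ⟶ c.pt), r ≫ t = r' ≫ t → r ≫ s = r' ≫ s → r = r' := by
    intro T r r' h₁ h₂
    have key : ∀ x : T.left, ∃ g, r.left x ∈ Set.range (c.inj g).left ∧ r'.left x ∈ Set.range (c.inj g).left := by
      intro x
      obtain ⟨g, hg⟩ := cofan_inj_cover hc (r.left x)
      obtain ⟨g', hg'⟩ := cofan_inj_cover hc (r'.left x)
      let P : Over S := Over.mk (T.left.fromSpecResidueField x ≫ T.hom)
      let i : P ⟶ T := Over.homMk (T.left.fromSpecResidueField x) rfl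
      have hx : ∀ z : P.left, i.left z = x := fun z => Scheme.fromSpecResidueField_apply x z
      have e : ∀ (q : T ⟶ c.pt) (g : G), q.left x ∈ Set.range (c.inj g).left →
          (i ≫ q ≫ t).left = (i ≫ q ≫ s).left ≫ (ρ g).hom.left := by
        intro q g hq
        have h := (factor_of_mem ρ hc s t hs ht (i ≫ q) g ⊤ (fun z _ => by
          rw [Over.comp_left, Scheme.Hom.comp_apply, hx]; exact hq)).2
        rw [Category.assoc, Category.assoc] at h
        haveI : IsIso (⊤ : P.left.Opens).ι := inferInstanceAs (IsIso P.left.topIso.hom)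
        exact (cancel_epi (⊤ : P.left.Opens).ι).1 (by rw [h, Category.assoc])
      have eq : (i ≫ r ≫ s).left ≫ (ρ g).hom.left = (i ≫ r ≫ s).left ≫ (ρ g').hom.left := by
        rw [← e r g hg]
        conv_rhs => rw [h₂, ← e r' g' hg', ← h₁]
      obtain rfl := eq_of_field_point (K := T.left.residueField x) ρ hfree _ eq
      exact ⟨g, hg, hg'⟩
    choose g hg hg' using key
    apply Over.OverMorphism.ext
    let V : T.left → T.left.Opens := fun x =>
      ⟨r.left ⁻¹' Set.range (c.inj (g x)).left ∩ r'.left ⁻¹' Set.range (c.inj (g x)).left, by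
        haveI := isOpenImmersion_cofan_inj hc (g x)
        exact ((c.inj (g x)).left.isOpenEmbedding.isOpen_range.preimage r.left.continuous).inter
          ((c.inj (g x)).left.isOpenEmbedding.isOpen_range.preimage r'.left.continuous)⟩
    have hV : ⨆ x, V x = ⊤ := top_le_iff.1 fun x _ => TopologicalSpace.Opens.mem_iSup.2 ⟨x, hg x, hg' x⟩
    refine Scheme.Cover.hom_ext (T.left.openCoverOfIsOpenCover V hV) _ _ fun x => ?_
    change (V x).ι ≫ r.left = (V x).ι ≫ r'.left
    rw [(factor_of_mem ρ hc s t hs ht r (g x) (V x) (fun y hy => hy.1)).1,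
      (factor_of_mem ρ hc s t hs ht r' (g x) (V x) (fun y hy => hy.2)).1, h₂]
  have het : ∀ (q : c.pt ⟶ U), (∀ g, IsIso (c.inj g ≫ q)) → Etale q.left := by
    intro q hq
    obtain ⟨e, he⟩ := cofan_exists_iso hc
    suffices Etale (e.hom ≫ q.left) from
      (MorphismProperty.cancel_left_of_respectsIso @Etale e.hom q.left).1 this
    refine IsZariskiLocalAtSource.of_openCover (P := @Etale) (sigmaOpenCover (fun _ : G => U.left)) fun g => ?_
    change Etale (Sigma.ι _ g ≫ e.hom ≫ q.left)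
    rw [← Category.assoc]
    erw [he g]
    rw [← Over.comp_left]
    haveI := hq g
    haveI : IsIso (c.inj g ≫ q).left := inferInstanceAs (IsIso ((Over.forget S).map (c.inj g ≫ q)))
    infer_instance
  refine ⟨⟨hinj, fun T => ⟨fun a => ?_, ?_, ?_⟩⟩, het s fun g => ?_, het t fun g => ?_⟩
  · exact ⟨a ≫ c.inj 1, by rw [Category.assoc, ht, hom_ρ_one, Category.comp_id],
      by rw [Category.assoc, hs, Category.comp_id]⟩
  · rintro a b ⟨r, rfl, rfl⟩
    obtain ⟨ι, hι⟩ : ∃ ι : c.pt ⟶ c.pt, ∀ g, c.inj g ≫ ι = (ρ g).hom ≫ c.inj g⁻¹ :=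
      ⟨Cofan.IsColimit.desc hc fun g => (ρ g).hom ≫ c.inj g⁻¹, fun g => Cofan.IsColimit.fac hc _ g⟩
    have h1 : ι ≫ t = s := Cofan.IsColimit.hom_ext hc _ _ fun g => by
      rw [← Category.assoc, hι, Category.assoc, ht, ρ_inv_hom_comp, hs]
    have h2 : ι ≫ s = t := Cofan.IsColimit.hom_ext hc _ _ fun g => by
      rw [← Category.assoc, hι, Category.assoc, hs, Category.comp_id, ht]
    exact ⟨r ≫ ι, by rw [Category.assoc, h1], by rw [Category.assoc, h2]⟩
  · rintro a b d ⟨r₁, rfl, rfl⟩ ⟨r₂, h21, rfl⟩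
    let W : G × G → T.left.Opens := fun p =>
      ⟨r₁.left ⁻¹' Set.range (c.inj p.1).left ∩ r₂.left ⁻¹' Set.range (c.inj p.2).left, by
        haveI := isOpenImmersion_cofan_inj hc p.1
        haveI := isOpenImmersion_cofan_inj hc p.2
        exact ((c.inj p.1).left.isOpenEmbedding.isOpen_range.preimage r₁.left.continuous).inter
          ((c.inj p.2).left.isOpenEmbedding.isOpen_range.preimage r₂.left.continuous)⟩
    have hW : ⨆ p, W p = ⊤ := top_le_iff.1 fun x _ => by
      obtain ⟨g, hg⟩ := cofan_inj_cover hc (r₁.left x)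
      obtain ⟨h, hh⟩ := cofan_inj_cover hc (r₂.left x)
      exact TopologicalSpace.Opens.mem_iSup.2 ⟨(g, h), hg, hh⟩
    let 𝒰 := T.left.openCoverOfIsOpenCover W hW
    let f : ∀ p : G × G, (W p).toScheme ⟶ c.pt.left := fun p =>
      ((W p).ι ≫ (r₂ ≫ s).left) ≫ (c.inj (p.1 * p.2)).left
    have hfs : ∀ p, f p ≫ s.left = (W p).ι ≫ (r₂ ≫ s).left := fun p => by
      rw [Category.assoc, ← Over.comp_left, hs, Over.id_left, Category.comp_id]
    have hft : ∀ p, f p ≫ t.left = (W p).ι ≫ (r₁ ≫ t).left := fun p => by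
      have h₁ := (factor_of_mem ρ hc s t hs ht r₁ p.1 (W p) (fun y hy => hy.1)).2
      have h₂ := (factor_of_mem ρ hc s t hs ht r₂ p.2 (W p) (fun y hy => hy.2)).2
      rw [h₁, ← h21, h₂, Category.assoc, Category.assoc, ← Over.comp_left, ← Over.comp_left, ht, hom_ρ_mul]
      simp only [Over.comp_left, Category.assoc]
    have hfS : ∀ p, f p ≫ c.pt.hom = (W p).ι ≫ T.hom := fun p => by
      rw [← Over.w s, ← Category.assoc, hfs, Category.assoc, Over.w]
    have hcompat : ∀ p q, pullback.fst ((W p).ι) ((W q).ι) ≫ f p = pullback.snd ((W p).ι) ((W q).ι) ≫ f q := by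
      intro p q
      let P : Over S := Over.mk (pullback.fst ((W p).ι) ((W q).ι) ≫ (W p).ι ≫ T.hom)
      let a₁ : P ⟶ c.pt := Over.homMk (pullback.fst ((W p).ι) ((W q).ι) ≫ f p) (by rw [Category.assoc, hfS]; rfl)
      let a₂ : P ⟶ c.pt := Over.homMk (pullback.snd ((W p).ι) ((W q).ι) ≫ f q) (by
        rw [Category.assoc, hfS, ← Category.assoc, ← pullback.condition, Category.assoc]; rfl)
      have : a₁ = a₂ := hinj P a₁ a₂
        (Over.OverMorphism.ext (by
          change (_ ≫ f p) ≫ t.left = (_ ≫ f q) ≫ t.left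
          rw [Category.assoc, hft, Category.assoc, hft, pullback.condition_assoc]))
        (Over.OverMorphism.ext (by
          change (_ ≫ f p) ≫ s.left = (_ ≫ f q) ≫ s.left
          rw [Category.assoc, hfs, Category.assoc, hfs, pullback.condition_assoc]))
      exact congrArg CommaMorphism.left this
    obtain ⟨R, hR⟩ : ∃ R : T.left ⟶ c.pt.left, ∀ p, (W p).ι ≫ R = f p :=
      ⟨Scheme.Cover.glueMorphisms 𝒰 f hcompat, fun p => Scheme.Cover.ι_glueMorphisms 𝒰 f hcompat p⟩
    refine ⟨Over.homMk R (Scheme.Cover.hom_ext 𝒰 _ _ fun p => ?_), ?_, ?_⟩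
    · change (W p).ι ≫ R ≫ c.pt.hom = (W p).ι ≫ T.hom
      rw [← Category.assoc, hR, hfS]
    · refine Over.OverMorphism.ext (Scheme.Cover.hom_ext 𝒰 _ _ fun p => ?_)
      change (W p).ι ≫ R ≫ t.left = (W p).ι ≫ (r₁ ≫ t).left
      rw [← Category.assoc, hR, hft]
    · refine Over.OverMorphism.ext (Scheme.Cover.hom_ext 𝒰 _ _ fun p => ?_)
      change (W p).ι ≫ R ≫ s.left = (W p).ι ≫ (r₂ ≫ s).left
      rw [← Category.assoc, hR, hfs]
  · rw [hs]; infer_instance
  · rw [ht]; infer_instance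

end

end GrothLib.AlgSp
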