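import Groth.Agent.Lib.AlgSp.FreeAction
import Groth.Agent.Lib.AlgSp.Quotient
import Groth.Agent.Lib.AlgSp.DiagAffine
import Groth.Agent.Lib.AlgSp.FppfDescent

/-!
# Separation of quotients by finite free group actions
-/

universe u

open CategoryTheory CategoryTheory.Limits AlgebraicGeometry

namespace GrothLib.AlgSp

open _root_.AlgSp

variable {S : Scheme.{u}} {U : Over S} {G : Type u} [Group G] [Finite G] (ρ : G →* Aut U)
  {c : Cofan (fun _ : G => U)} (hc : IsColimit c) (s t : c.pt ⟶ U)
  (hs : ∀ g, c.inj g ≫ s = 𝟙 U) (ht : ∀ g, c.inj g ≫ t = (ρ g).hom)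

theorem snd_left_isSeparated [IsSeparated U.hom] : IsSeparated (prod.snd : U ⨯ U ⟶ U).left := by
  rw [← Over.prodLeftIsoPullback_hom_snd]; infer_instance

theorem snd_left_quasiSeparated [QuasiSeparated U.hom] : QuasiSeparated (prod.snd : U ⨯ U ⟶ U).left := by
  rw [← Over.prodLeftIsoPullback_hom_snd]; infer_instance

include hs in
theorem inj_comp_prodLift_snd (g : G) :
    (c.inj g ≫ prod.lift t s).left ≫ (prod.snd : U ⨯ U ⟶ U).left = 𝟙 U.left := by
  rw [← Over.comp_left, Category.assoc, prod.lift_snd, hs]; rfl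

include hc hs in
theorem quasiCompact_prodLift (hU : QuasiSeparated (prod.snd : U ⨯ U ⟶ U).left) :
    QuasiCompact (prod.lift t s).left := by
  haveI : ∀ g, QuasiCompact (c.inj g ≫ prod.lift t s).left := fun g => by
    haveI : QuasiCompact ((c.inj g ≫ prod.lift t s).left ≫ (prod.snd : U ⨯ U ⟶ U).left) := by
      rw [inj_comp_prodLift_snd s t hs]; infer_instance
    exact QuasiCompact.of_comp _ (prod.snd : U ⨯ U ⟶ U).left
  refine ⟨fun W hW hWc => ?_⟩
  have e : (prod.lift t s).left ⁻¹' W = ⋃ g, (c.inj g).left '' ((c.inj g ≫ prod.lift t s).left ⁻¹' W) := by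
    ext z
    refine ⟨fun hz => ?_, ?_⟩
    · obtain ⟨g, y, rfl⟩ := cofan_inj_cover hc z
      refine Set.mem_iUnion.2 ⟨g, y, ?_, rfl⟩
      rw [Set.mem_preimage, Over.comp_left, Scheme.Hom.comp_apply]; exact hz
    · rintro ⟨_, ⟨g, rfl⟩, y, hy, rfl⟩
      rw [Set.mem_preimage, Over.comp_left, Scheme.Hom.comp_apply] at hy; exact hy
  rw [e]
  exact isCompact_iUnion fun g => (QuasiCompact.isCompact_preimage (f := (c.inj g ≫ prod.lift t s).left) W hW hWc).image
    (c.inj g).left.continuous

include hc hs in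
theorem isClosedImmersion_prodLift [Mono (prod.lift t s).left]
    (hU : IsSeparated (prod.snd : U ⨯ U ⟶ U).left) : IsClosedImmersion (prod.lift t s).left := by
  haveI : ∀ g, IsClosedImmersion (c.inj g ≫ prod.lift t s).left := fun g => by
    haveI : IsClosedImmersion ((c.inj g ≫ prod.lift t s).left ≫ (prod.snd : U ⨯ U ⟶ U).left) := by
      rw [inj_comp_prodLift_snd s t hs]; infer_instance
    exact IsClosedImmersion.of_comp _ (prod.snd : U ⨯ U ⟶ U).left
  haveI : SurjectiveOnStalks (prod.lift t s).left := ⟨fun z => by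
    obtain ⟨g, y, rfl⟩ := cofan_inj_cover hc z
    have h := Scheme.Hom.stalkMap_surjective ((c.inj g).left ≫ (prod.lift t s).left) y
    rw [Scheme.Hom.stalkMap_comp] at h
    change Function.Surjective (⇑(ConcreteCategory.hom ((c.inj g).left.stalkMap y)) ∘ ⇑(ConcreteCategory.hom ((prod.lift t s).left.stalkMap _))) at h
    haveI := isOpenImmersion_cofan_inj hc g
    exact h.of_comp_left (ConcreteCategory.bijective_of_isIso ((c.inj g).left.stalkMap y)).1⟩
  refine ⟨Topology.IsClosedEmbedding.of_continuous_injective_isClosedMap (prod.lift t s).left.continuous ?_ ?_⟩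
  · exact (prod.lift t s).left.injective
  · intro C hC
    have e : (prod.lift t s).left '' C = ⋃ g, (c.inj g ≫ prod.lift t s).left '' ((c.inj g).left ⁻¹' C) := by
      ext w
      refine ⟨?_, ?_⟩
      · rintro ⟨z, hz, rfl⟩
        obtain ⟨g, y, rfl⟩ := cofan_inj_cover hc z
        exact Set.mem_iUnion.2 ⟨g, y, hz, by rw [Over.comp_left, Scheme.Hom.comp_apply]⟩
      · rintro ⟨_, ⟨g, rfl⟩, y, hy, rfl⟩
        exact ⟨_, hy, by rw [Over.comp_left, Scheme.Hom.comp_apply]⟩
    rw [e]
    exact isClosed_iUnion_of_finite fun g => (c.inj g ≫ prod.lift t s).left.isClosedEmbedding.isClosedMap _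
      (hC.preimage (c.inj g).left.continuous)

end GrothLib.AlgSp
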