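import Groth.Agent.Lib.AlgSp.QCohAcyclic
import Mathlib.CategoryTheory.Sites.SheafCohomology.MayerVietoris

/-!
# Ext groups out of free abelian sheaves on presheaves of sets

* `freeSh`, `freeShAdj`: free abelian sheaves on presheaves of types.
* `ext_freeSh_yoneda_vanish`: acyclicity on the objects of a class of covers.
* `ext_vanish_of_pushout`: the Mayer-Vietoris bound.
* `freeShIsoConst`: the free sheaf on a presheaf with one-point values is constant.
-/

universe u

open CategoryTheory CategoryTheory.Limits CategoryTheory.Abelian Opposite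
set_option backward.isDefEq.respectTransparency false

noncomputable section

namespace GrothLib.AlgSp.QCohEt

open GrothLib

variable {C : Type (u + 1)} [Category.{u} C] (J : GrothendieckTopology C)
  [HasSheafify J AddCommGrpCat.{u + 1}]

/-- The free abelian sheaf on a presheaf of types. -/
def freeSh : (Cᵒᵖ ⥤ Type (u + 1)) ⥤ Sheaf J AddCommGrpCat.{u + 1} :=
  (Functor.whiskeringRight _ _ _).obj AddCommGrpCat.free ⋙ presheafToSheaf J _

/-- Maps out of free sheaves are maps of presheaves of types. -/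
def freeShAdj : freeSh J ⊣ sheafToPresheaf J AddCommGrpCat.{u + 1} ⋙
    (Functor.whiskeringRight _ _ _).obj (forget AddCommGrpCat.{u + 1}) :=
  (Adjunction.whiskerRight Cᵒᵖ AddCommGrpCat.adj).comp (sheafificationAdjunction J _)

instance : (freeSh J).IsLeftAdjoint := (freeShAdj J).isLeftAdjoint

instance {P Q : Cᵒᵖ ⥤ Type (u + 1)} (f : P ⟶ Q) [Mono f] : Mono ((freeSh J).map f) :=
  inferInstanceAs (Mono ((presheafToSheaf J _).map (Functor.whiskerRight f AddCommGrpCat.free)))

/-- Maps out of the free sheaf on an object are sections. -/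
def freeShYonedaEquiv (V : C) (F : Sheaf J AddCommGrpCat.{u + 1}) :
    ((freeSh J).obj (uliftYoneda.{u + 1}.obj V) ⟶ F) ≃ F.obj.obj (op V) :=
  ((freeShAdj J).homEquiv _ F).trans CategoryTheory.uliftYonedaEquiv

theorem freeShYonedaEquiv_comp {V : C} {F G : Sheaf J AddCommGrpCat.{u + 1}}
    (φ : (freeSh J).obj (uliftYoneda.{u + 1}.obj V) ⟶ F) (g : F ⟶ G) :
    freeShYonedaEquiv J V G (φ ≫ g) = g.hom.app (op V) (freeShYonedaEquiv J V F φ) := by
  show CategoryTheory.uliftYonedaEquiv ((freeShAdj J).homEquiv _ G (φ ≫ g)) = _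
  rw [(freeShAdj J).homEquiv_naturality_right]
  rfl

variable {J} [J.WEqualsLocallyBijective AddCommGrpCat.{u + 1}]
  [J.HasSheafCompose (forget AddCommGrpCat.{u + 1})]
  [HasExt.{u + 1} (Sheaf J AddCommGrpCat.{u + 1})] [EnoughInjectives (Sheaf J AddCommGrpCat.{u + 1})]

/-- Acyclic sheaves have no higher Ext out of the free sheaf on an object of the class. -/
theorem ext_freeSh_yoneda_vanish (K : FibPow.CoverClass.{u + 1} J) {V : C} (hV : K.B V) :
    ∀ (q : ℕ) (F : Sheaf J AddCommGrpCat.{u + 1}), K.Acyclic F →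
    ∀ x : Ext ((freeSh J).obj (uliftYoneda.{u + 1}.obj V)) F (q + 1), x = 0 := by
  intro q
  induction q with
  | zero =>
    intro F hF x
    let S : ShortComplex (Sheaf J AddCommGrpCat.{u + 1}) :=
      ShortComplex.mk (Injective.ι F) (cokernel.π _) (cokernel.condition _)
    have hS : S.ShortExact := { exact := ShortComplex.exact_of_g_is_cokernel S (cokernelIsCokernel _) }
    obtain ⟨x₃, hx⟩ := Ext.covariant_sequence_exact₁ _ hS x (Ext.eq_zero_of_injective _) rfl
    obtain ⟨φ, rfl⟩ := (Ext.mk₀_bijective _ _).2 x₃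
    obtain ⟨r, hr⟩ := K.surjective hS hF hV (freeShYonedaEquiv J V S.X₃ φ)
    have h : (freeShYonedaEquiv J V S.X₂).symm r ≫ S.g = φ := (freeShYonedaEquiv J V S.X₃).injective (by
      rw [freeShYonedaEquiv_comp, Equiv.apply_symm_apply]
      exact hr)
    rw [← hx, ← h, ← Ext.mk₀_comp_mk₀, Ext.comp_assoc_of_second_deg_zero, ShortComplex.ShortExact.comp_extClass,
      Ext.comp_zero]
  | succ n ih =>
    intro F hF x
    let S : ShortComplex (Sheaf J AddCommGrpCat.{u + 1}) :=
      ShortComplex.mk (Injective.ι F) (cokernel.π _) (cokernel.condition _)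
    have hS : S.ShortExact := { exact := ShortComplex.exact_of_g_is_cokernel S (cokernelIsCokernel _) }
    obtain ⟨x₃, hx⟩ := Ext.covariant_sequence_exact₁ _ hS x (Ext.eq_zero_of_injective _) rfl
    have h₃ : K.Acyclic S.X₃ := K.acyclic_X₃ hS hF (K.acyclic_of_injective _)
    rw [← hx, ih S.X₃ h₃ x₃, Ext.zero_comp]

/-- The Mayer-Vietoris bound for a square of presheaves which sheaves of types turn into pullbacks. -/
theorem ext_vanish_of_pushout {P₁ P₂ P₃ P₄ : Cᵒᵖ ⥤ Type (u + 1)} {a : P₁ ⟶ P₂} {b : P₁ ⟶ P₃} {c : P₂ ⟶ P₄}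
    {d : P₃ ⟶ P₄} [Mono b] (w : a ≫ c = b ≫ d)
    (H : ∀ (G : Sheaf J (Type (u + 1))) (x : P₂ ⟶ G.obj) (y : P₃ ⟶ G.obj), a ≫ x = b ≫ y →
      ∃! z : P₄ ⟶ G.obj, c ≫ z = x ∧ d ≫ z = y)
    (F : Sheaf J AddCommGrpCat.{u + 1}) (q : ℕ)
    (h₁ : ∀ x : Ext ((freeSh J).obj P₁) F q, x = 0) (h₂ : ∀ x : Ext ((freeSh J).obj P₂) F (q + 1), x = 0)
    (h₃ : ∀ x : Ext ((freeSh J).obj P₃) F (q + 1), x = 0) (x : Ext ((freeSh J).obj P₄) F (q + 1)) : x = 0 := by
  let L := freeSh J
  let adj := freeShAdj J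
  have key : ∀ s : PushoutCocone (L.map a) (L.map b), ∃ z : L.obj P₄ ⟶ s.pt,
      (L.map c ≫ z = s.inl ∧ L.map d ≫ z = s.inr) ∧
        ∀ z', L.map c ≫ z' = s.inl → L.map d ≫ z' = s.inr → z' = z := fun s => by
    obtain ⟨z, ⟨hz₁, hz₂⟩, hz⟩ := H ((sheafCompose J (forget AddCommGrpCat.{u + 1})).obj s.pt)
      (adj.homEquiv _ _ s.inl) (adj.homEquiv _ _ s.inr)
      ((adj.homEquiv_naturality_left a s.inl).symm.trans ((congrArg (adj.homEquiv _ _) s.condition).trans
        (adj.homEquiv_naturality_left b s.inr)))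
    refine ⟨(adj.homEquiv _ _).symm z, ⟨?_, ?_⟩, fun z' h₁ h₂ => ?_⟩
    · rw [← adj.homEquiv_naturality_left_symm]
      exact (adj.homEquiv _ _).symm_apply_eq.2 hz₁
    · rw [← adj.homEquiv_naturality_left_symm]
      exact (adj.homEquiv _ _).symm_apply_eq.2 hz₂
    · exact (adj.homEquiv _ _).eq_symm_apply.2 (hz _ ⟨(adj.homEquiv_naturality_left c z').symm.trans
        (congrArg _ h₁), (adj.homEquiv_naturality_left d z').symm.trans (congrArg _ h₂)⟩)
  choose z hz hu using key
  have hP : IsPushout (L.map a) (L.map b) (L.map c) (L.map d) :=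
    ⟨⟨by rw [← L.map_comp, ← L.map_comp, w]⟩, ⟨PushoutCocone.IsColimit.mk _ z (fun s => (hz s).1)
      (fun s => (hz s).2) hu⟩⟩
  let T : ShortComplex (Sheaf J AddCommGrpCat.{u + 1}) :=
    ShortComplex.mk (biprod.lift (L.map a) (-L.map b)) (biprod.desc (L.map c) (L.map d)) (by
      rw [biprod.lift_desc, Preadditive.neg_comp, ← sub_eq_add_neg, sub_eq_zero]
      exact hP.w)
  haveI : Mono T.f := by
    haveI : Mono (T.f ≫ biprod.snd) := by
      dsimp [T]
      simp only [biprod.lift_snd]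
      infer_instance
    exact mono_of_mono _ biprod.snd
  haveI : Epi T.g := Cofork.IsColimit.epi hP.isColimitCokernelCofork
  have hT : T.ShortExact := { exact := ShortComplex.exact_of_g_is_cokernel T hP.isColimitCokernelCofork }
  have hg : (Ext.mk₀ T.g).comp x (zero_add _) = 0 := by
    refine Ext.biprodAddEquiv.injective ?_
    rw [map_zero]
    exact Prod.ext (h₂ _) (h₃ _)
  obtain ⟨x₁, rfl⟩ := Ext.contravariant_sequence_exact₃ hT _ x hg (add_comm 1 q)
  rw [h₁ x₁, Ext.comp_zero]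

/-- A presheaf with one-point values gives the constant free sheaf. -/
def freeShIsoConst (P : Cᵒᵖ ⥤ Type (u + 1)) [∀ T, Unique (P.obj T)] :
    (freeSh J).obj P ≅ (constantSheaf J AddCommGrpCat.{u + 1}).obj (AddCommGrpCat.of (ULift ℤ)) :=
  (presheafToSheaf J _).mapIso (NatIso.ofComponents
    (fun T => ((FreeAbelianGroup.uniqueEquiv (P.obj T)).trans AddEquiv.ulift.symm).toAddCommGrpIso)
    fun {T T'} f => by
      refine AddCommGrpCat.hom_ext (FreeAbelianGroup.lift_ext _ _ fun x => ?_)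
      show AddEquiv.ulift.symm (FreeAbelianGroup.lift (fun _ => (1 : ℤ)) (FreeAbelianGroup.map (P.map f) (FreeAbelianGroup.of x))) =
        AddEquiv.ulift.symm (FreeAbelianGroup.lift (fun _ => (1 : ℤ)) (FreeAbelianGroup.of x))
      rw [FreeAbelianGroup.map_of_apply, FreeAbelianGroup.lift_apply_of, FreeAbelianGroup.lift_apply_of])

end GrothLib.AlgSp.QCohEt
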