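import Groth.Agent.Lib.AlgSp.QuotSpace

/-!
# Quotients of algebraic spaces by free actions of flat lfp group spaces
-/

universe u

open CategoryTheory CategoryTheory.Limits AlgebraicGeometry Opposite MonoidalCategory CartesianMonoidalCategory MonObj

namespace GrothLib.AlgSp

open _root_.AlgSp

variable {S : Scheme.{u}} {B : Sp S} {G X : Over B} [GrpObj G] (a : GAction G X)

theorem gAction_one {T : Over B} (x : T ⟶ X) : lift (1 : T ⟶ G) x ≫ a.act = x := by
  rw [Hom.one_def, show lift (toUnit T ≫ η[G]) x = lift (toUnit T) x ≫ (η[G] ▷ X) by simp,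
    Category.assoc, a.one_act, lift_leftUnitor_hom]

theorem gAction_mul {T : Over B} (g h : T ⟶ G) (x : T ⟶ X) :
    lift (g * h) x ≫ a.act = lift g (lift h x ≫ a.act) ≫ a.act := by
  rw [Hom.mul_def, show lift (lift g h ≫ μ[G]) x = lift (lift g h) x ≫ (μ[G] ▷ X) by simp,
    Category.assoc, a.mul_act, lift_lift_associator_hom_assoc, lift_whiskerLeft_assoc]

/-- The action groupoid of a free action is an equivalence relation. -/
theorem isEqvRelSp_of_isFree (ha : a.IsFree) :
    IsEqvRelSp (CartesianMonoidalCategory.snd G X).left a.act.left := by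
  have mk : ∀ {T : Over S} (r : (yon S).obj T ⟶ (G ⊗ X).left), ∃ (g : Over.mk (r ≫ (G ⊗ X).hom) ⟶ G)
      (x : Over.mk (r ≫ (G ⊗ X).hom) ⟶ X), (Over.homMk r rfl : Over.mk (r ≫ (G ⊗ X).hom) ⟶ G ⊗ X) = lift g x :=
    fun r => ⟨(Over.homMk r rfl : Over.mk (r ≫ (G ⊗ X).hom) ⟶ G ⊗ X) ≫ CartesianMonoidalCategory.fst G X,
      (Over.homMk r rfl : Over.mk (r ≫ (G ⊗ X).hom) ⟶ G ⊗ X) ≫ CartesianMonoidalCategory.snd G X,
      CartesianMonoidalCategory.hom_ext _ _ (by rw [lift_fst]) (by rw [lift_snd])⟩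
  constructor
  · intro T r r' ht hs
    have hb : r' ≫ (G ⊗ X).hom = r ≫ (G ⊗ X).hom := by
      have e : ∀ z : (yon S).obj T ⟶ (G ⊗ X).left, z ≫ (G ⊗ X).hom =
          (z ≫ (CartesianMonoidalCategory.snd G X).left) ≫ X.hom := fun z => by
        rw [Category.assoc, Over.w]
      rw [e, e, hs]
    let R₁ : Over.mk (r ≫ (G ⊗ X).hom) ⟶ G ⊗ X := Over.homMk r rfl
    let R₂ : Over.mk (r ≫ (G ⊗ X).hom) ⟶ G ⊗ X := Over.homMk r' hb
    set g := R₁ ≫ CartesianMonoidalCategory.fst G X
    set g' := R₂ ≫ CartesianMonoidalCategory.fst G X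
    set x := R₁ ≫ CartesianMonoidalCategory.snd G X
    have hx : R₂ ≫ CartesianMonoidalCategory.snd G X = x := Over.OverMorphism.ext hs.symm
    have h₁ : R₁ = lift g x := CartesianMonoidalCategory.hom_ext _ _ (by rw [lift_fst]) (by rw [lift_snd])
    have h₂ : R₂ = lift g' x := CartesianMonoidalCategory.hom_ext _ _ (by rw [lift_fst]) (by rw [lift_snd, hx])
    have he : lift g x ≫ a.act = lift g' x ≫ a.act := by
      rw [← h₁, ← h₂]; exact Over.OverMorphism.ext ht
    have hu := ha (r ≫ (G ⊗ X).hom) (g⁻¹ * g') x (by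
      rw [gAction_mul, ← he, ← gAction_mul, inv_mul_cancel, gAction_one])
    rw [← Hom.one_def, inv_mul_eq_one] at hu
    have : R₁ = R₂ := by rw [h₁, h₂, hu]
    exact congrArg CommaMorphism.left this
  · intro T
    refine ⟨fun z => ?_, ?_, ?_⟩
    · let x : Over.mk (z ≫ X.hom) ⟶ X := Over.homMk z rfl
      exact ⟨(lift (1 : Over.mk (z ≫ X.hom) ⟶ G) x).left, congrArg CommaMorphism.left (gAction_one a x),
        congrArg CommaMorphism.left (lift_snd (1 : Over.mk (z ≫ X.hom) ⟶ G) x)⟩
    · rintro p q ⟨r, rfl, rfl⟩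
      obtain ⟨g, x, hr⟩ := mk r
      refine ⟨(lift g⁻¹ (lift g x ≫ a.act)).left, ?_, ?_⟩
      · refine (congrArg CommaMorphism.left (show lift g⁻¹ (lift g x ≫ a.act) ≫ a.act =
          (Over.homMk r rfl : Over.mk (r ≫ (G ⊗ X).hom) ⟶ G ⊗ X) ≫ CartesianMonoidalCategory.snd G X from ?_))
        rw [← gAction_mul, inv_mul_cancel, gAction_one, hr, lift_snd]
      · refine (congrArg CommaMorphism.left (show lift g⁻¹ (lift g x ≫ a.act) ≫ CartesianMonoidalCategory.snd G X =
          (Over.homMk r rfl : Over.mk (r ≫ (G ⊗ X).hom) ⟶ G ⊗ X) ≫ a.act from ?_))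
        rw [lift_snd, hr]
    · rintro p q w ⟨r₁, rfl, rfl⟩ ⟨r₂, h21, rfl⟩
      obtain ⟨h, x, hr₂⟩ := mk r₂
      have hb : r₁ ≫ (G ⊗ X).hom = r₂ ≫ (G ⊗ X).hom := by
        rw [← Over.w (CartesianMonoidalCategory.snd G X), ← Category.assoc, ← h21, Category.assoc, Over.w,
          ← Over.w (CartesianMonoidalCategory.snd G X)]
      let R₁ : Over.mk (r₂ ≫ (G ⊗ X).hom) ⟶ G ⊗ X := Over.homMk r₁ hb
      set g := R₁ ≫ CartesianMonoidalCategory.fst G X
      have hy : R₁ ≫ CartesianMonoidalCategory.snd G X = lift h x ≫ a.act := by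
        rw [← hr₂]; exact Over.OverMorphism.ext h21.symm
      have h₁ : R₁ = lift g (lift h x ≫ a.act) :=
        CartesianMonoidalCategory.hom_ext _ _ (by rw [lift_fst]) (by rw [lift_snd, hy])
      refine ⟨(lift (g * h) x).left, ?_, ?_⟩
      · refine (congrArg CommaMorphism.left (show lift (g * h) x ≫ a.act = R₁ ≫ a.act from ?_))
        rw [gAction_mul, h₁]
      · refine (congrArg CommaMorphism.left (show lift (g * h) x ≫ CartesianMonoidalCategory.snd G X =
          (Over.homMk r₂ rfl : Over.mk (r₂ ≫ (G ⊗ X).hom) ⟶ G ⊗ X) ≫ CartesianMonoidalCategory.snd G X from ?_))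
        rw [lift_snd, hr₂, lift_snd]

/-- The quotient of an algebraic space by a free action of a flat lfp group space. -/
theorem gAction_quot (hB : IsAlgSpace B) (hG : IsAlgSpace G.left) (hX : IsAlgSpace X.left) (ha : a.IsFree)
    (hfl : LocP @Flat G.hom ∧ LocP @LocallyOfFinitePresentation G.hom) :
    IsAlgSpace a.quot ∧
      (IsSurjectiveMor a.quotπ ∧ LocP @Flat a.quotπ ∧ LocP @LocallyOfFinitePresentation a.quotπ) ∧
      IsIso (pullback.lift a.act.left (CartesianMonoidalCategory.snd G X).left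
        (quotSp_condition (CartesianMonoidalCategory.snd G X).left a.act.left).symm :
          (G ⊗ X).left ⟶ pullback a.quotπ a.quotπ) := by
  have h := isEqvRelSp_of_isFree a ha
  have sq : IsPullback (pullback.fst G.hom X.hom) (CartesianMonoidalCategory.snd G X).left G.hom X.hom :=
    IsPullback.of_hasPullback G.hom X.hom
  have hR : IsAlgSpace (G ⊗ X).left := isAlgSpace_pullback hB.diag hG hX sq
  have hs : LocP @Flat (CartesianMonoidalCategory.snd G X).left ∧
      LocP @LocallyOfFinitePresentation (CartesianMonoidalCategory.snd G X).left :=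
    ⟨EtLocal.flat.locP_of_isPullback hG hB hX sq hfl.1, EtLocal.lfp.locP_of_isPullback hG hB hX sq hfl.2⟩
  have sqe := isPullback_quotSpπ h
  refine ⟨isAlgSpace_quotSp hR hX h hs, quotSpπ_props hR hX h hs, ?_⟩
  have : (pullback.lift a.act.left (CartesianMonoidalCategory.snd G X).left
      (quotSp_condition (CartesianMonoidalCategory.snd G X).left a.act.left).symm :
      (G ⊗ X).left ⟶ pullback a.quotπ a.quotπ) = sqe.isoPullback.hom := by
    apply pullback.hom_ext
    · rw [pullback.lift_fst]; exact sqe.isoPullback_hom_fst.symm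
    · rw [pullback.lift_snd]; exact sqe.isoPullback_hom_snd.symm
  rw [this]
  infer_instance

end GrothLib.AlgSp
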