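import Groth.Agent.Lib.AlgSp.GeomConn
import Groth.Agent.Lib.BaseChange.Finite
import Groth.Agent.Lib.BaseChange.Levels
import Mathlib.FieldTheory.KrullTopology

/-!
# Galois action on base changes of algebraic spaces over a field

* `galTower`: the action on `X ⊗_k K`; `isClosed_galois_descends`;
* `exists_finite_level_open`: quasi-compact opens come from finite levels;
* `galTower_image_preimage`: preimages from a fixed level are invariant.
-/

set_option autoImplicit false
universe u
open CategoryTheory CategoryTheory.Limits AlgebraicGeometry TensorProduct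
set_option backward.isDefEq.respectTransparency false

namespace GrothLib.AlgSp

open _root_.AlgSp

variable {k : Type u} [Field k] (K : Type u) [Field K] [Algebra k K]

/-- The automorphism of `Spec K` over `Spec k`. -/
noncomputable def galField (σ : K ≃ₐ[k] K) : fieldOver k K ⟶ fieldOver k K :=
  Over.homMk (U := fieldOver k K) (V := fieldOver k K) (Spec.map (CommRingCat.ofHom (σ : K ≃ₐ[k] K).toRingHom)) (by
    show Spec.map (CommRingCat.ofHom (σ : K ≃ₐ[k] K).toRingHom) ≫ Spec.map (CommRingCat.ofHom (algebraMap k K)) =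
      Spec.map (CommRingCat.ofHom (algebraMap k K))
    rw [← Spec.map_comp, ← CommRingCat.ofHom_comp]
    congr 2
    exact RingHom.ext fun x => σ.commutes x)

/-- The action on `X ⊗_k K`. -/
noncomputable def galTower (σ : K ≃ₐ[k] K) (X : Sp (Spec (CommRingCat.of k))) :
    X ⨯ (yon (Spec (CommRingCat.of k))).obj (fieldOver k K) ⟶
      X ⨯ (yon (Spec (CommRingCat.of k))).obj (fieldOver k K) :=
  prod.map (𝟙 X) ((yon (Spec (CommRingCat.of k))).map (galField K σ))

variable {X : Sp (Spec (CommRingCat.of k))} {U : Over (Spec (CommRingCat.of k))}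
  (a : (yon (Spec (CommRingCat.of k))).obj U ⟶ X)

theorem galTower_inv (σ : K ≃ₐ[k] K) : galTower K σ⁻¹ X ≫ galTower K σ X = 𝟙 _ := by
  have e : galField K σ⁻¹ ≫ galField K σ = 𝟙 _ := Over.OverMorphism.ext (by
    show Spec.map (CommRingCat.ofHom (σ⁻¹ : K ≃ₐ[k] K).toRingHom) ≫
      Spec.map (CommRingCat.ofHom (σ : K ≃ₐ[k] K).toRingHom) = 𝟙 _
    rw [← Spec.map_comp, ← CommRingCat.ofHom_comp, ← Spec.map_id]
    congr 1
    ext x
    exact σ.symm_apply_apply x)
  rw [galTower, galTower, prod.map_map, Category.id_comp, ← Functor.map_comp, e, CategoryTheory.Functor.map_id,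
    prod.map_id_id]

/-- The action on a chart. -/
noncomputable def galHom (σ : K ≃ₐ[k] K) (U : Over (Spec (CommRingCat.of k))) : bcObj U K ⟶ bcObj U K :=
  Over.homMk (U := bcObj U K) (V := bcObj U K) (@Curv2.galAct k _ U.left ⟨U.hom⟩ K _ _ σ) (by
    have h := @GrothLib.BaseChange.galAct_fst k _ U.left ⟨U.hom⟩ K _ _ σ
    show @Curv2.galAct k _ U.left ⟨U.hom⟩ K _ _ σ ≫ FBase.bcπ U.hom K ≫ U.hom = FBase.bcπ U.hom K ≫ U.hom
    rw [← Category.assoc]
    exact congrArg (· ≫ U.hom) h)

theorem isPullback_galTower (σ : K ≃ₐ[k] K) :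
    IsPullback ((yon _).map (galHom K σ U)) (bcChartMap a K) (bcChartMap a K) (galTower K σ X) := by
  have e₁ : galHom K σ U ≫ bcFstHom U K = bcFstHom U K :=
    Over.OverMorphism.ext (@GrothLib.BaseChange.galAct_fst k _ U.left ⟨U.hom⟩ K _ _ σ)
  have e₂ : galHom K σ U ≫ bcSndHom U K = bcSndHom U K ≫ galField K σ :=
    Over.OverMorphism.ext (@GrothLib.BaseChange.galAct_snd k _ U.left ⟨U.hom⟩ K _ _ σ)
  have e₃ : galTower K σ X ≫ prod.fst = prod.fst := by rw [galTower, prod.map_fst, Category.comp_id]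
  refine IsPullback.of_right (h₁₂ := (yon _).map (bcFstHom U K)) (h₂₂ := prod.fst) ?_ ?_
    (isPullback_bcChartMap a K)
  · rw [← Functor.map_comp, e₁, e₃]
    exact isPullback_bcChartMap a K
  · apply prod.hom_ext
    · rw [Category.assoc, Category.assoc, e₃, bcChartMap, prod.lift_fst, ← Functor.map_comp_assoc, e₁]
    · rw [Category.assoc, Category.assoc, bcChartMap_snd, galTower, prod.map_snd, ← Category.assoc, bcChartMap_snd,
        ← Functor.map_comp, ← Functor.map_comp, e₂]

/-- Closed Galois stable subsets descend. -/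
theorem isClosed_galois_descends (hX : IsAlgSpace X) [IsGalois k K]
    (T : Set (Points (X ⨯ (yon (Spec (CommRingCat.of k))).obj (fieldOver k K)))) (hT : IsClosed T)
    (hσ : ∀ σ : K ≃ₐ[k] K, Points.map (galTower K σ X) '' T = T) :
    ∃ T₀ : Set (Points X), IsClosed T₀ ∧
      Points.map (prod.fst : X ⨯ (yon (Spec (CommRingCat.of k))).obj (fieldOver k K) ⟶ X) ⁻¹' T₀ = T := by
  obtain ⟨U, a, ha, hs⟩ := hX.atlas
  letI : U.left.Over (Spec (CommRingCat.of k)) := ⟨U.hom⟩
  have sq := isPullback_bcChartMap a K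
  have hcl : IsClosedMap (bcFstHom U K).left := (Curv2.bcFst k U.left K).isClosedMap
  have hq := (isOpenQuotientMap_ofPt ha hs).isQuotientMap
  refine ⟨_, isClosedMap_of_chart sq hq hcl _ hT, Set.Subset.antisymm ?_ (Set.subset_preimage_image _ _)⟩
  rintro z ⟨c, hc, hcz⟩
  obtain ⟨x, hx⟩ := hq.surjective (Points.map prod.fst z)
  obtain ⟨z', hz'₁, hz'₂⟩ := exists_of_isPullback sq (x := Points.ofScheme U x) (y := z)
    (by rw [← Points.ofPt_eq_map_ofScheme]; exact hx)
  obtain ⟨c', hc'₁, hc'₂⟩ := exists_of_isPullback sq (x := Points.ofScheme U x) (y := c)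
    (by rw [← Points.ofPt_eq_map_ofScheme]; exact hx.trans hcz.symm)
  obtain ⟨z', rfl⟩ := (Points.schemeEquiv (bcObj U K)).surjective z'
  obtain ⟨c', rfl⟩ := (Points.schemeEquiv (bcObj U K)).surjective c'
  have h1 := (map_yon_ofPt (bcFstHom U K) z').symm.trans hz'₁
  have h2 := (map_yon_ofPt (bcFstHom U K) c').symm.trans hc'₁
  obtain ⟨σ, hσ'⟩ := GrothLib.BaseChange.exists_galAct_eq k U.left K c' z'
    ((Points.schemeEquiv U).injective (h2.trans h1.symm))
  rw [← hσ σ]
  refine ⟨c, hc, ?_⟩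
  have e1 : Points.ofPt (bcChartMap a K) c' = c := by rw [Points.ofPt_eq_map_ofScheme]; exact hc'₂
  have e2 : Points.ofPt (bcChartMap a K) z' = z := by rw [Points.ofPt_eq_map_ofScheme]; exact hz'₂
  rw [← e1, ← e2, Points.map_ofPt, ← (isPullback_galTower K a σ).w, ofPt_map_comp]
  exact congrArg _ hσ'

/-- Quasi-compact opens of `X ⊗_k K` come from finite levels. -/
theorem exists_finite_level_open (hX : IsAlgSpace X) [Algebra.IsAlgebraic k K]
    (V : Set (Points (X ⨯ (yon (Spec (CommRingCat.of k))).obj (fieldOver k K)))) (hV : IsOpen V) (hVc : IsCompact V) :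
    ∃ (E : IntermediateField k K) (_ : FiniteDimensional k E)
      (V' : Set (Points (X ⨯ (yon (Spec (CommRingCat.of k))).obj (fieldOver k E)))),
      IsOpen V' ∧ IsCompact V' ∧ Points.map (bcTower E K X) ⁻¹' V' = V := by
  classical
  obtain ⟨U, a, ha, hs⟩ := hX.atlas
  letI : U.left.Over (Spec (CommRingCat.of k)) := ⟨U.hom⟩
  have key : ∀ v ∈ V, ∃ (E : IntermediateField k K) (_ : FiniteDimensional k E) (D : Set ↥(Curv2.bc k U.left E)),
      IsOpen D ∧ IsCompact D ∧ v ∈ Points.ofPt (bcChartMap a K) '' ((bcHom E K U).left ⁻¹' D) ∧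
      Points.ofPt (bcChartMap a K) '' ((bcHom E K U).left ⁻¹' D) ⊆ V := by
    intro v hv
    obtain ⟨w, rfl⟩ := (isQuotientMap_ofPt_bcChartMap K a ha hs).surjective v
    obtain ⟨_, ⟨W, hW, rfl⟩, hxW, -⟩ := U.left.isBasis_affineOpens.exists_subset_of_mem_open
      (a := Curv2.bcFst k U.left K w) (Set.mem_univ _) isOpen_univ
    let φ : CommRingCat.of k ⟶ Γ(U.left, W) := Spec.preimage (hW.fromSpec ≫ (U.left ↘ Spec (CommRingCat.of k)))
    let _ : Algebra k Γ(U.left, W) := φ.hom.toAlgebra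
    have halg : hW.fromSpec ≫ (U.left ↘ Spec (CommRingCat.of k)) =
        Spec.map (CommRingCat.ofHom (algebraMap k Γ(U.left, W))) := (Spec.map_preimage _).symm
    obtain ⟨q, hqo, hq₁, hq₂, hqr⟩ := GrothLib.BaseChange.exists_chart k U.left K hW halg
    obtain ⟨P, hP⟩ : w ∈ Set.range q := by rw [hqr]; exact hxW
    have hopen : IsOpen (q ⁻¹' (Points.ofPt (bcChartMap a K) ⁻¹' V)) :=
      (hV.preimage (Points.continuous_ofPt _)).preimage q.continuous
    obtain ⟨_, ⟨t, rfl⟩, hPt, htV⟩ := PrimeSpectrum.isTopologicalBasis_basic_opens.exists_subset_of_mem_open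
      (show P ∈ q ⁻¹' (Points.ofPt (bcChartMap a K) ⁻¹' V) by
        show Points.ofPt (bcChartMap a K) (q P) ∈ V
        rw [hP]; exact hv) hopen
    obtain ⟨E, hE, t', rfl⟩ := GrothLib.BaseChange.exists_mem_range_map t
    obtain ⟨qE, hqEo, hqE₁, hqE₂, hqEr⟩ := GrothLib.BaseChange.exists_chart k U.left E hW halg
    let μ := Algebra.TensorProduct.map (AlgHom.id k Γ(U.left, W)) E.val
    have hnat : q ≫ GrothLib.BaseChange.bcMap k U.left E K = Spec.map (CommRingCat.ofHom μ.toRingHom) ≫ qE := by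
      apply pullback.hom_ext
      · rw [Category.assoc, GrothLib.BaseChange.bcMap_fst, hq₁, Category.assoc, hqE₁, ← Spec.map_comp_assoc,
          ← CommRingCat.ofHom_comp]
        congr 3
      · rw [Category.assoc, GrothLib.BaseChange.bcMap_snd, ← Category.assoc, hq₂, Category.assoc, hqE₂,
          ← Spec.map_comp, ← Spec.map_comp, ← CommRingCat.ofHom_comp, ← CommRingCat.ofHom_comp]
        congr 2
    refine ⟨E, hE, qE '' (PrimeSpectrum.basicOpen t' : Set (PrimeSpectrum (Γ(U.left, W) ⊗[k] E))),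
      qE.isOpenEmbedding.isOpenMap _ (PrimeSpectrum.basicOpen t').isOpen,
      (PrimeSpectrum.isCompact_basicOpen t').image qE.continuous, ⟨w, ?_, rfl⟩, ?_⟩
    · refine ⟨Spec.map (CommRingCat.ofHom μ.toRingHom) P, hPt, ?_⟩
      show qE (Spec.map (CommRingCat.ofHom μ.toRingHom) P) = GrothLib.BaseChange.bcMap k U.left E K w
      rw [← hP, ← Scheme.Hom.comp_apply, ← Scheme.Hom.comp_apply, hnat]
    · rintro _ ⟨z, ⟨Q, hQ, hQz⟩, rfl⟩
      have hz : z ∈ Set.range q := by
        rw [hqr]
        show Curv2.bcFst k U.left K z ∈ W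
        rw [← GrothLib.BaseChange.bcMap_fst k U.left E K, Scheme.Hom.comp_apply]
        have h1 : qE Q ∈ Set.range qE := ⟨Q, rfl⟩
        rw [hqEr] at h1
        rw [show GrothLib.BaseChange.bcMap k U.left E K z = qE Q from hQz.symm]
        exact h1
      obtain ⟨P', rfl⟩ := hz
      have h2 : qE Q = qE (Spec.map (CommRingCat.ofHom μ.toRingHom) P') := by
        refine hQz.trans ?_
        show GrothLib.BaseChange.bcMap k U.left E K (q P') = _
        rw [← Scheme.Hom.comp_apply, ← Scheme.Hom.comp_apply, hnat]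
      exact htV (show Spec.map (CommRingCat.ofHom μ.toRingHom) P' ∈ _ from qE.isOpenEmbedding.injective h2 ▸ hQ)
  choose E hE D hDo hDc hmem hsub using key
  obtain ⟨F, hF⟩ := hVc.elim_finite_subcover
    (fun v : V => Points.ofPt (bcChartMap a K) '' ((bcHom (E v v.2) K U).left ⁻¹' D v v.2))
    (fun v => isOpenMap_ofPt_of_etale (repWith_bcChartMap a K ha) _ ((hDo v v.2).preimage (bcHom (E v v.2) K U).left.continuous))
    (fun v hv => Set.mem_iUnion.2 ⟨⟨v, hv⟩, hmem v hv⟩)
  let E₀ : IntermediateField k K := ⨆ v ∈ F, E v.1 v.2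
  haveI : FiniteDimensional k E₀ := by
    have := fun v : V => hE v.1 v.2
    exact IntermediateField.finiteDimensional_iSup_of_finset
  have hle : ∀ v ∈ F, E v.1 v.2 ≤ E₀ := fun v hv => le_iSup₂ (f := fun v (_ : v ∈ F) => E v.1 v.2) v hv
  let D₀ : V → Set ↥(Curv2.bc k U.left E₀) := fun v => if h : v ∈ F then
    (letI : Algebra (E v.1 v.2) E₀ := (IntermediateField.inclusion (hle v h)).toRingHom.toAlgebra
     haveI : IsScalarTower k (E v.1 v.2) E₀ := IsScalarTower.of_algebraMap_eq fun _ => rfl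
     (GrothLib.BaseChange.bcMap k U.left (E v.1 v.2) E₀) ⁻¹' D v.1 v.2) else ∅
  have hD₀ : ∀ v ∈ F, (bcHom E₀ K U).left ⁻¹' D₀ v = (bcHom (E v.1 v.2) K U).left ⁻¹' D v.1 v.2 := by
    intro v hv
    let _ : Algebra (E v.1 v.2) E₀ := (IntermediateField.inclusion (hle v hv)).toRingHom.toAlgebra
    have : IsScalarTower k (E v.1 v.2) E₀ := IsScalarTower.of_algebraMap_eq fun _ => rfl
    have : IsScalarTower (E v.1 v.2) E₀ K := IsScalarTower.of_algebraMap_eq fun _ => rfl
    simp only [D₀, dif_pos hv]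
    show GrothLib.BaseChange.bcMap k U.left E₀ K ⁻¹' (GrothLib.BaseChange.bcMap k U.left (E v.1 v.2) E₀ ⁻¹' D v.1 v.2) =
      GrothLib.BaseChange.bcMap k U.left (E v.1 v.2) K ⁻¹' D v.1 v.2
    rw [← GrothLib.BaseChange.bcMap_comp k U.left (E v.1 v.2) E₀ K, Scheme.Hom.comp_base, TopCat.coe_comp,
      Set.preimage_comp]
  refine ⟨E₀, inferInstance, ⋃ v ∈ F, Points.ofPt (bcChartMap a E₀) '' D₀ v, ?_, ?_, ?_⟩
  · refine isOpen_biUnion fun v hv => isOpenMap_ofPt_of_etale (repWith_bcChartMap a _ ha) _ ?_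
    rw [show D₀ v = _ from dif_pos hv]
    exact (hDo _ _).preimage (Scheme.Hom.continuous _)
  · refine F.finite_toSet.isCompact_biUnion fun v hv => ?_
    refine IsCompact.image ?_ (Points.continuous_ofPt _)
    rw [show D₀ v = _ from dif_pos (Finset.mem_coe.1 hv)]
    letI : Algebra (E v.1 v.2) E₀ := (IntermediateField.inclusion (hle v hv)).toRingHom.toAlgebra
    haveI : IsScalarTower k (E v.1 v.2) E₀ := IsScalarTower.of_algebraMap_eq fun _ => rfl
    haveI := hE v.1 v.2
    haveI : Algebra.IsAlgebraic k E₀ := inferInstance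
    haveI : Algebra.IsAlgebraic (E v.1 v.2) E₀ := Algebra.IsAlgebraic.tower_top (K := k) _
    haveI : IsIntegralHom (GrothLib.BaseChange.bcMap k U.left (E v.1 v.2) E₀) :=
      GrothLib.BaseChange.property_bcMap k U.left _ _ (IsIntegralHom.SpecMap_iff.mpr
        (algebraMap_isIntegral_iff.mpr inferInstance))
    exact QuasiCompact.isCompact_preimage _ (hDo _ _) (hDc _ _)
  · have hpre : ∀ v ∈ F, Points.map (bcTower E₀ K X) ⁻¹' (Points.ofPt (bcChartMap a E₀) '' D₀ v) =
        Points.ofPt (bcChartMap a K) '' ((bcHom (E v.1 v.2) K U).left ⁻¹' D v.1 v.2) := by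
      intro v hv
      rw [← hD₀ v hv]
      ext p
      constructor
      · rintro ⟨d, hd, hdp⟩
        rw [Points.ofPt_eq_map_ofScheme] at hdp
        obtain ⟨z, hz₁, hz₂⟩ := exists_of_isPullback (isPullback_bcTower E₀ K a) hdp
        obtain ⟨z, rfl⟩ := (Points.schemeEquiv (bcObj U K)).surjective z
        refine ⟨z, ?_, by rw [Points.ofPt_eq_map_ofScheme]; exact hz₂⟩
        show (bcHom E₀ K U).left z ∈ D₀ v
        rw [(Points.schemeEquiv (bcObj U E₀)).injective ((map_yon_ofPt (bcHom E₀ K U) z).symm.trans hz₁)]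
        exact hd
      · rintro ⟨z, hz, rfl⟩
        refine ⟨_, hz, ?_⟩
        rw [Points.map_ofPt, ← (isPullback_bcTower E₀ K a).w, ofPt_map_comp]
    refine Set.Subset.antisymm ?_ fun p hp => ?_
    · simp only [Set.preimage_iUnion]
      exact Set.iUnion₂_subset fun v hv => (hpre v hv).trans_subset (hsub v.1 v.2)
    · obtain ⟨v, hv, hpv⟩ := Set.mem_iUnion₂.1 (hF hp)
      simp only [Set.preimage_iUnion]
      exact Set.mem_iUnion₂.2 ⟨v, hv, (hpre v hv).symm ▸ hpv⟩

/-- Preimages from a level fixed by an automorphism are invariant. -/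
theorem galTower_image_preimage (E : IntermediateField k K) {σ : K ≃ₐ[k] K} (hσ : σ ∈ E.fixingSubgroup)
    (V' : Set (Points (X ⨯ (yon (Spec (CommRingCat.of k))).obj (fieldOver k E)))) :
    Points.map (galTower K σ X) '' (Points.map (bcTower E K X) ⁻¹' V') = Points.map (bcTower E K X) ⁻¹' V' := by
  have key : galTower K σ X ≫ bcTower E K X = bcTower E K X := by
    have e : galField K σ ≫ fieldHom E K = fieldHom E K := Over.OverMorphism.ext (by
      show Spec.map (CommRingCat.ofHom (σ : K ≃ₐ[k] K).toRingHom) ≫ Spec.map (CommRingCat.ofHom (algebraMap E K)) =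
        Spec.map (CommRingCat.ofHom (algebraMap E K))
      rw [← Spec.map_comp, ← CommRingCat.ofHom_comp]
      congr 2
      exact RingHom.ext fun x => hσ x)
    rw [galTower, bcTower, prod.map_map, Category.id_comp, ← Functor.map_comp, e]
  refine Set.Subset.antisymm ?_ fun p hp => ⟨Points.map (galTower K σ⁻¹ X) p, ?_, ?_⟩
  · rintro _ ⟨p, hp, rfl⟩
    show Points.map (bcTower E K X) (Points.map (galTower K σ X) p) ∈ V'
    rw [← Points.map_comp, key]
    exact hp
  · show Points.map (bcTower E K X) (Points.map (galTower K σ⁻¹ X) p) ∈ V'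
    have e : galTower K σ⁻¹ X ≫ bcTower E K X = bcTower E K X := by
      conv_lhs => rw [← key, ← Category.assoc, galTower_inv, Category.id_comp]
    rw [← Points.map_comp, e]
    exact hp
  · rw [← Points.map_comp, galTower_inv, Points.map_id]

end GrothLib.AlgSp
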