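import Groth.Agent.Lib.AlgSp.DecentTop
import Groth.Agent.Lib.AlgSp.Dim
import Groth.Agent.S3433
import Groth.Agent.S7547

/-!
# Proper generizations of a point of a locally Noetherian decent space
-/

universe u

open CategoryTheory CategoryTheory.Limits AlgebraicGeometry TopologicalSpace

namespace GrothLib.AlgSp

open _root_.AlgSp

variable {S : Scheme.{u}} {X : Sp S}

theorem punctured_generizations (hX : IsAlgSpace X) (hd : IsDecent X) (hN : IsLocNoethSp X) (x : Points X) :
    NoetherianSpace {x' : Points X // x' ⤳ x ∧ x' ≠ x} ∧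
      SpectralSpace {x' : Points X // x' ⤳ x ∧ x' ≠ x} ∧
      QuasiSober {x' : Points X // x' ⤳ x ∧ x' ≠ x} ∧
      JacobsonSpace {x' : Points X // x' ⤳ x ∧ x' ≠ x} := by
  let W := {x' : Points X // x' ⤳ x ∧ x' ≠ x}
  haveI := t0Space_of_isDecent hX hd
  haveI := quasiSober_of_isDecent hX hd
  obtain ⟨U, a, ha, hs, hN'⟩ := hN
  haveI : IsLocallyNoetherian U.left := hN'
  obtain ⟨u, rfl⟩ := surjective_ofPt_of_repWith hs x
  let O := U.left.presheaf.stalk u
  let Y : Set (PrimeSpectrum O) := {IsLocalRing.closedPoint O}ᶜ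
  let g : PrimeSpectrum O → ↥U.left := fun p => U.left.fromSpecStalk u p
  have hg : Topology.IsEmbedding g := (U.left.fromSpecStalk u).isEmbedding
  have hgc : g (IsLocalRing.closedPoint O) = u := Scheme.fromSpecStalk_closedPoint
  have hgs : ∀ p, g p ⤳ u := fun p => by
    have h : g p ∈ Set.range (U.left.fromSpecStalk u) := ⟨p, rfl⟩
    rwa [Scheme.range_fromSpecStalk] at h
  let φ : Y → W := fun p => ⟨Points.ofPt a (g p.1), (hgs p.1).map (Points.continuous_ofPt a), fun he =>
    p.2 (hg.injective ((eq_of_specializes_ofPt hX hd ha _ _ (hgs p.1) he).trans hgc.symm))⟩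
  have hφ : Continuous φ :=
    (((Points.continuous_ofPt a).comp hg.continuous).comp continuous_subtype_val).subtype_mk _
  have hφs : Function.Surjective φ := by
    rintro ⟨w, hw, hwne⟩
    obtain ⟨u', hu', rfl⟩ := generalizingMap_ofPt hX hd ha hw
    obtain ⟨p, rfl⟩ : u' ∈ Set.range (U.left.fromSpecStalk u) := by rw [Scheme.range_fromSpecStalk]; exact hu'
    exact ⟨⟨p, fun hp => hwne (by rw [Set.mem_singleton_iff] at hp; subst hp; exact congrArg (Points.ofPt a) hgc)⟩, rfl⟩
  haveI hnoeth : NoetherianSpace W := noetherianSpace_of_surjective φ hφ hφs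
  haveI : T0Space W := inferInstance
  haveI hqs : QuasiSober W := by
    refine ⟨fun {T} hT hTc => ?_⟩
    have hirr : IsIrreducible (Subtype.val '' T) := hT.image _ continuous_subtype_val.continuousOn
    obtain ⟨η, hη⟩ := QuasiSober.sober hirr.closure isClosed_closure
    obtain ⟨t, ht⟩ := hT.1
    have h1 : η ⤳ t.1 := hη.specializes (subset_closure ⟨t, ht, rfl⟩)
    have hηW : η ⤳ Points.ofPt a u ∧ η ≠ Points.ofPt a u := ⟨h1.trans t.2.1, fun e => t.2.2
      (t.2.1.antisymm (e ▸ h1)).eq⟩
    refine ⟨⟨η, hηW⟩, ?_⟩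
    show closure {(⟨η, hηW⟩ : W)} = T
    rw [Topology.IsEmbedding.subtypeVal.closure_eq_preimage_closure_image, Set.image_singleton, hη.def,
      ← Topology.IsEmbedding.subtypeVal.closure_eq_preimage_closure_image, hTc.closure_eq]
  refine ⟨hnoeth, ?_, hqs, ?_⟩
  · haveI : QuasiSeparatedSpace W := ⟨fun _ _ _ _ _ _ => NoetherianSpace.isCompact _⟩
    exact {}
  · by_contra hJ
    obtain ⟨w, hnc, hlc⟩ := Groth.Agent.S7547.result hJ
    refine hnc (isClosed_of_closure_subset fun w' hw' => ?_)
    by_contra hne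
    have hspec : w.1 ⤳ w'.1 := (specializes_iff_mem_closure.2 hw').map continuous_subtype_val
    obtain ⟨v, hv, hv'⟩ := generalizingMap_ofPt hX hd ha w'.2.1
    obtain ⟨q, hq, hq'⟩ := generalizingMap_ofPt hX hd ha (show w.1 ⤳ Points.ofPt a v from hv' ▸ hspec)
    have hr : ∀ {z : ↥U.left} {w : W}, z ⤳ u → Points.ofPt a z = w.1 → ∃ p : Y, g p.1 = z ∧ φ p = w := by
      intro z w hz hzw
      obtain ⟨p, hp⟩ : z ∈ Set.range (U.left.fromSpecStalk u) := by rw [Scheme.range_fromSpecStalk]; exact hz
      exact ⟨⟨p, fun hpc => w.2.2 (by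
        rw [Set.mem_singleton_iff] at hpc; subst hpc
        rw [← hzw, ← hp]; exact congrArg (Points.ofPt a) hgc)⟩, hp, Subtype.ext (hp ▸ hzw)⟩
    obtain ⟨pv, hpv, hpv'⟩ := hr hv hv'
    obtain ⟨pq, hpq, hpq'⟩ := hr (hq.trans hv) hq'
    haveI : JacobsonSpace ↥Y := (Groth.Agent.S3433.result O).1
    -- `pq` is locally closed in `Y`
    have hL : IsLocallyClosed ((φ ⁻¹' {w}) ∩ closure {pq}) :=
      (hlc.preimage hφ).inter isClosed_closure.isLocallyClosed
    have hsingle : (φ ⁻¹' {w}) ∩ closure {pq} = {pq} := by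
      ext p
      constructor
      · rintro ⟨hp, hpc⟩
        have hs' : g pq.1 ⤳ g p.1 :=
          ((specializes_iff_mem_closure.2 hpc).map continuous_subtype_val).map hg.continuous
        exact (Subtype.ext (hg.injective (eq_of_specializes_ofPt hX hd ha _ _ hs'
          (congrArg Subtype.val (hpq'.trans (Set.mem_singleton_iff.1 hp).symm))))).symm
      · rintro rfl
        exact ⟨hpq', subset_closure rfl⟩
    have hcl : IsClosed ({pq} : Set Y) := by
      have := isClosed_singleton_of_isLocallyClosed_singleton (x := pq) (hsingle ▸ hL)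
      exact this
    have hspec' : pq ⤳ pv := by
      rw [subtype_specializes_iff, ← hg.isInducing.specializes_iff, hpq, hpv]
      exact hq
    have e : pv = pq := Set.mem_singleton_iff.1 (hcl.closure_subset (specializes_iff_mem_closure.1 hspec'))
    exact hne (by rw [← hpv', ← hpq', e]; rfl)

end GrothLib.AlgSp
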