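import Groth.Agent.Lib.AlgSp.GeomReducedBC
import Groth.Agent.Lib.AlgSp.Points
import Groth.Agent.Lib.BaseChange.Levels
import Groth.Agent.Lib.BaseChange.Irred
import Groth.Agent.Lib.FBase7.Conn

/-!
# Connectedness of base changes of algebraic spaces over a field

* chart criteria for openness and connected fibres of base change maps;
* `bcTower`: the map `X_L ⟶ X_K` of a tower and its properties;
* `connectedSpace_bc_of_finite`: connectedness from the finite levels;
* `isOpenMap_prod_snd`, `connectedComponents_bijective_of_geomConn`.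
-/

set_option autoImplicit false
universe u
open CategoryTheory CategoryTheory.Limits AlgebraicGeometry
set_option backward.isDefEq.respectTransparency false

namespace GrothLib.AlgSp

open _root_.AlgSp

section Chart

variable {S : Scheme.{u}} {P Q : Sp S} {W W' : Over S} {π : P ⟶ Q} {m : W' ⟶ W}
  {c' : (yon S).obj W' ⟶ P} {c : (yon S).obj W ⟶ Q}

theorem ofPt_preimage_image (sq : IsPullback ((yon S).map m) c' c π) (A : Set (Points P)) :
    Points.ofPt c ⁻¹' (Points.map π '' A) = m.left '' (Points.ofPt c' ⁻¹' A) := by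
  ext w
  constructor
  · rintro ⟨p, hp, e⟩
    rw [Points.ofPt_eq_map_ofScheme] at e
    obtain ⟨z, hz₁, hz₂⟩ := exists_of_isPullback sq e.symm
    obtain ⟨w', rfl⟩ := (Points.schemeEquiv W').surjective z
    refine ⟨w', ?_, (Points.schemeEquiv W).injective ((map_yon_ofPt m w').symm.trans hz₁)⟩
    show Points.ofPt c' w' ∈ A
    rw [Points.ofPt_eq_map_ofScheme]
    exact hz₂.symm ▸ hp
  · rintro ⟨w', hw', rfl⟩
    refine ⟨_, hw', ?_⟩
    rw [Points.map_ofPt, ← sq.w, ofPt_map_comp]

theorem isOpenMap_of_chart (sq : IsPullback ((yon S).map m) c' c π)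
    (hq : Topology.IsQuotientMap (Points.ofPt c)) (hm : IsOpenMap m.left) : IsOpenMap (Points.map π) :=
  fun A hA => by
    rw [← hq.isOpen_preimage, ofPt_preimage_image sq]
    exact hm _ (hA.preimage (Points.continuous_ofPt c'))

theorem isClosedMap_of_chart (sq : IsPullback ((yon S).map m) c' c π)
    (hq : Topology.IsQuotientMap (Points.ofPt c)) (hm : IsClosedMap m.left) : IsClosedMap (Points.map π) :=
  fun A hA => by
    rw [← hq.isClosed_preimage, ofPt_preimage_image sq]
    exact hm _ (hA.preimage (Points.continuous_ofPt c'))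

theorem isConnected_fibre_of_chart (sq : IsPullback ((yon S).map m) c' c π)
    (hs : Function.Surjective (Points.ofPt c)) (hm : ∀ w, _root_.IsConnected (m.left ⁻¹' {w})) (q : Points Q) :
    _root_.IsConnected (Points.map π ⁻¹' {q}) := by
  obtain ⟨w, rfl⟩ := hs q
  have e : Points.map π ⁻¹' {Points.ofPt c w} = Points.ofPt c' '' (m.left ⁻¹' {w}) := by
    ext p
    constructor
    · intro hp
      have e : Points.map ((yon S).map (𝟙 W) ≫ c) (Points.ofScheme W w) = Points.map π p := by
        rw [CategoryTheory.Functor.map_id, Category.id_comp, ← Points.ofPt_eq_map_ofScheme]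
        exact hp.symm
      rw [CategoryTheory.Functor.map_id, Category.id_comp] at e
      obtain ⟨z, hz₁, hz₂⟩ := exists_of_isPullback sq e
      obtain ⟨w', rfl⟩ := (Points.schemeEquiv W').surjective z
      refine ⟨w', (Points.schemeEquiv W).injective ((map_yon_ofPt m w').symm.trans hz₁), ?_⟩
      rw [Points.ofPt_eq_map_ofScheme]
      exact hz₂
    · rintro ⟨w', hw', rfl⟩
      show Points.map π (Points.ofPt c' w') = Points.ofPt c w
      rw [Points.map_ofPt, ← sq.w, ofPt_map_comp]
      exact congrArg _ hw'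
  rw [e]
  exact (hm w).image _ (Points.continuous_ofPt c').continuousOn

theorem surjective_of_chart (sq : IsPullback ((yon S).map m) c' c π)
    (hs : Function.Surjective (Points.ofPt c)) (hm : Function.Surjective m.left) :
    Function.Surjective (Points.map π) := fun q => by
  obtain ⟨w, rfl⟩ := hs q
  obtain ⟨w', rfl⟩ := hm w
  exact ⟨Points.ofPt c' w', by rw [Points.map_ofPt, ← sq.w, ofPt_map_comp]⟩

end Chart

variable {k : Type u} [Field k]

section Tower

variable (K L : Type u) [Field K] [Field L] [Algebra k K] [Algebra k L] [Algebra K L] [IsScalarTower k K L]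

/-- `Spec L ⟶ Spec K` over `Spec k`. -/
noncomputable def fieldHom : fieldOver k L ⟶ fieldOver k K :=
  Over.homMk (U := fieldOver k L) (V := fieldOver k K) (Spec.map (CommRingCat.ofHom (algebraMap K L)))
    (GrothLib.BaseChange.spec_tower k K L)

/-- `U_L ⟶ U_K` over `Spec k`. -/
noncomputable def bcHom (U : Over (Spec (CommRingCat.of k))) : bcObj U L ⟶ bcObj U K :=
  Over.homMk (U := bcObj U L) (V := bcObj U K) (@GrothLib.BaseChange.bcMap k _ U.left ⟨U.hom⟩ K L _ _ _ _ _ _)
    (by
      have h := @GrothLib.BaseChange.bcMap_fst k _ U.left ⟨U.hom⟩ K L _ _ _ _ _ _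
      show @GrothLib.BaseChange.bcMap k _ U.left ⟨U.hom⟩ K L _ _ _ _ _ _ ≫ FBase.bcπ U.hom K ≫ U.hom =
        FBase.bcπ U.hom L ≫ U.hom
      rw [← Category.assoc]
      exact congrArg (· ≫ U.hom) h)

/-- `X_L ⟶ X_K`. -/
noncomputable def bcTower (X : Sp (Spec (CommRingCat.of k))) :
    X ⨯ (yon (Spec (CommRingCat.of k))).obj (fieldOver k L) ⟶
      X ⨯ (yon (Spec (CommRingCat.of k))).obj (fieldOver k K) :=
  prod.map (𝟙 X) ((yon (Spec (CommRingCat.of k))).map (fieldHom K L))

variable {X : Sp (Spec (CommRingCat.of k))} {U : Over (Spec (CommRingCat.of k))}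
  (a : (yon (Spec (CommRingCat.of k))).obj U ⟶ X)

theorem bcTower_fst : bcTower K L X ≫ prod.fst = prod.fst := by
  rw [bcTower, prod.map_fst, Category.comp_id]

theorem isPullback_bcTower :
    IsPullback ((yon _).map (bcHom K L U)) (bcChartMap a L) (bcChartMap a K) (bcTower K L X) := by
  have e₁ : bcHom K L U ≫ bcFstHom U K = bcFstHom U L :=
    Over.OverMorphism.ext (@GrothLib.BaseChange.bcMap_fst k _ U.left ⟨U.hom⟩ K L _ _ _ _ _ _)
  have e₂ : bcHom K L U ≫ bcSndHom U K = bcSndHom U L ≫ fieldHom K L :=
    Over.OverMorphism.ext (@GrothLib.BaseChange.bcMap_snd k _ U.left ⟨U.hom⟩ K L _ _ _ _ _ _)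
  refine IsPullback.of_right (h₁₂ := (yon _).map (bcFstHom U K)) (h₂₂ := prod.fst) ?_ ?_
    (isPullback_bcChartMap a K)
  · rw [← Functor.map_comp, e₁, bcTower_fst]
    exact isPullback_bcChartMap a L
  · apply prod.hom_ext
    · rw [Category.assoc, Category.assoc, bcTower_fst, bcChartMap, prod.lift_fst, bcChartMap, prod.lift_fst,
        ← Functor.map_comp_assoc, e₁]
    · rw [Category.assoc, Category.assoc, bcChartMap_snd, bcTower, prod.map_snd, ← Category.assoc, bcChartMap_snd,
        ← Functor.map_comp, ← Functor.map_comp, e₂]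

theorem isQuotientMap_ofPt_bcChartMap (ha : RepWith @Etale a) (hs : RepWith @Surjective a) :
    Topology.IsQuotientMap (Points.ofPt (bcChartMap a K)) :=
  (isOpenQuotientMap_ofPt (repWith_bcChartMap a K ha) (repWith_bcChartMap a K hs)).isQuotientMap

theorem bcHom_isOpenMap : IsOpenMap (bcHom K L U).left :=
  letI : U.left.Over (Spec (CommRingCat.of k)) := ⟨U.hom⟩
  (GrothLib.BaseChange.bcMap k U.left K L).isOpenMap

theorem bcHom_surjective : Function.Surjective (bcHom K L U).left :=
  letI : U.left.Over (Spec (CommRingCat.of k)) := ⟨U.hom⟩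
  (GrothLib.BaseChange.bcMap k U.left K L).surjective

theorem bcHom_isClosedMap [Algebra.IsAlgebraic K L] : IsClosedMap (bcHom K L U).left :=
  letI : U.left.Over (Spec (CommRingCat.of k)) := ⟨U.hom⟩
  (GrothLib.BaseChange.bcMap k U.left K L).isClosedMap

theorem bcHom_isConnected_fibre [IsSepClosed K] (w : ↥(bcObj U K).left) :
    _root_.IsConnected ((bcHom K L U).left ⁻¹' {w}) := by
  letI : U.left.Over (Spec (CommRingCat.of k)) := ⟨U.hom⟩
  have h := GrothLib.BaseChange.geometricallyIrreducible_bcMap_of_isSepClosed k U.left K L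
  haveI : GeometricallyConnected (GrothLib.BaseChange.bcMap k U.left K L) := by
    refine ⟨fun F _ y Z fst snd hp => ?_⟩
    have := h.geometrically_irreducibleSpace _ _ _ hp
    infer_instance
  exact (GrothLib.BaseChange.bcMap k U.left K L).isConnected_preimage_singleton w

variable (hX : IsAlgSpace X)
include hX

theorem isOpenMap_bcTower : IsOpenMap (Points.map (bcTower K L X)) := by
  obtain ⟨U, a, ha, hs⟩ := hX.atlas
  exact isOpenMap_of_chart (isPullback_bcTower K L a) (isQuotientMap_ofPt_bcChartMap K a ha hs) (bcHom_isOpenMap K L)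

theorem isClosedMap_bcTower [Algebra.IsAlgebraic K L] : IsClosedMap (Points.map (bcTower K L X)) := by
  obtain ⟨U, a, ha, hs⟩ := hX.atlas
  exact isClosedMap_of_chart (isPullback_bcTower K L a) (isQuotientMap_ofPt_bcChartMap K a ha hs)
    (bcHom_isClosedMap K L)

theorem surjective_bcTower : Function.Surjective (Points.map (bcTower K L X)) := by
  obtain ⟨U, a, ha, hs⟩ := hX.atlas
  exact surjective_of_chart (isPullback_bcTower K L a) (isQuotientMap_ofPt_bcChartMap K a ha hs).surjective
    (bcHom_surjective K L)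

theorem connectedSpace_bc_tower [IsSepClosed K]
    [ConnectedSpace (Points (X ⨯ (yon (Spec (CommRingCat.of k))).obj (fieldOver k K)))] :
    ConnectedSpace (Points (X ⨯ (yon (Spec (CommRingCat.of k))).obj (fieldOver k L))) := by
  obtain ⟨U, a, ha, hs⟩ := hX.atlas
  have hfib := isConnected_fibre_of_chart (isPullback_bcTower K L a)
    (isQuotientMap_ofPt_bcChartMap K a ha hs).surjective (bcHom_isConnected_fibre K L)
  have h := GrothLib.FBase7.isConnected_preimage_of_open (isOpenMap_bcTower K L hX)
    (Points.continuous_map _) (surjective_bcTower K L hX) hfib isConnected_univ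
  rw [Set.preimage_univ] at h
  exact connectedSpace_iff_univ.2 h

end Tower

variable {X : Sp (Spec (CommRingCat.of k))}

/-- All base changes are connected once one to a separably closed field is. -/
theorem connectedSpace_bc_of_sepClosed (hX : IsAlgSpace X) (L : Type u) [Field L] [Algebra k L] [IsSepClosed L]
    [ConnectedSpace (Points (X ⨯ (yon (Spec (CommRingCat.of k))).obj (fieldOver k L)))]
    (K : Type u) [Field K] [Algebra k K] :
    ConnectedSpace (Points (X ⨯ (yon (Spec (CommRingCat.of k))).obj (fieldOver k K))) := by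
  obtain ⟨m, hm⟩ := Ideal.exists_maximal (TensorProduct k L K)
  let M := (TensorProduct k L K) ⧸ m
  let _ : Field M := Ideal.Quotient.field m
  let iK : K →ₐ[k] M := (Ideal.Quotient.mkₐ k m).comp Algebra.TensorProduct.includeRight
  let _ : Algebra K M := iK.toRingHom.toAlgebra
  have : IsScalarTower k K M := IsScalarTower.of_algebraMap_eq fun a => (iK.commutes a).symm
  have := connectedSpace_bc_tower L M hX
  exact (surjective_bcTower K M hX).connectedSpace (Points.continuous_map _)

/-- Connectedness over an algebraic extension from connectedness at all finite levels. -/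
theorem connectedSpace_bc_of_finite (hX : IsAlgSpace X) (L : Type u) [Field L] [Algebra k L]
    [Algebra.IsAlgebraic k L]
    (h : ∀ E : IntermediateField k L, FiniteDimensional k E →
      ConnectedSpace (Points (X ⨯ (yon (Spec (CommRingCat.of k))).obj (fieldOver k E)))) :
    ConnectedSpace (Points (X ⨯ (yon (Spec (CommRingCat.of k))).obj (fieldOver k L))) := by
  classical
  haveI : Nonempty (Points (X ⨯ (yon (Spec (CommRingCat.of k))).obj (fieldOver k L))) := by
    obtain ⟨y⟩ := (h ⊥ inferInstance).toNonempty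
    exact ⟨(surjective_bcTower (⊥ : IntermediateField k L) L hX y).choose⟩
  haveI : PreconnectedSpace (Points (X ⨯ (yon (Spec (CommRingCat.of k))).obj (fieldOver k L))) := by
    refine preconnectedSpace_iff_clopen.2 fun A hA => ?_
    by_contra hne
    push_neg at hne
    obtain ⟨⟨p₀, hp₀⟩, hAu⟩ := hne
    obtain ⟨p₁, hp₁⟩ := (Set.ne_univ_iff_exists_notMem A).1 hAu
    obtain ⟨U, a, ha, hs⟩ := hX.atlas
    letI : U.left.Over (Spec (CommRingCat.of k)) := ⟨U.hom⟩
    obtain ⟨z₂, hz₂⟩ := (isQuotientMap_ofPt_bcChartMap L a ha hs).surjective p₁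
    let A' : Set ↥(Curv2.bc k U.left L) := Points.ofPt (bcChartMap a L) ⁻¹' A
    have hA' : IsClosed A' := hA.isClosed.preimage (Points.continuous_ofPt _)
    have key : ∀ E : IntermediateField k L, FiniteDimensional k E →
        ∃ c ∈ A', GrothLib.BaseChange.bcMap k U.left E L c = GrothLib.BaseChange.bcMap k U.left E L z₂ := by
      intro E hE
      have := h E hE
      haveI : Algebra.IsAlgebraic E L := Algebra.IsAlgebraic.tower_top (K := k) E
      have hu : Points.map (bcTower E L X) '' A = Set.univ :=
        IsClopen.eq_univ ⟨isClosedMap_bcTower E L hX _ hA.isClosed, isOpenMap_bcTower E L hX _ hA.isOpen⟩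
          ⟨_, p₀, hp₀, rfl⟩
      have h1 : (bcHom E L U).left z₂ ∈
          (bcHom E L U).left '' (Points.ofPt (bcChartMap a L) ⁻¹' A) := by
        rw [← ofPt_preimage_image (isPullback_bcTower E L a) A, hu]
        trivial
      exact h1
    let x := Curv2.bcFst k U.left L z₂
    let F := Curv2.bcFst k U.left L ⁻¹' {x}
    have hF : IsCompact F := (Curv2.bcFst k U.left L).isCompact_preimage_singleton x
    let T : {E : IntermediateField k L // FiniteDimensional k E} → Set (Curv2.bc k U.left L) :=
      fun E => A' ∩ GrothLib.BaseChange.bcMap k U.left E.1 L ⁻¹'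
        closure {GrothLib.BaseChange.bcMap k U.left E.1 L z₂}
    have hne : (F ∩ ⋂ E, T E).Nonempty := by
      refine hF.inter_iInter_nonempty T (fun E => hA'.inter
        (isClosed_closure.preimage (GrothLib.BaseChange.bcMap k U.left E.1 L).continuous)) fun u => ?_
      let E₀ : IntermediateField k L := ⨆ E ∈ u, E.1
      have : FiniteDimensional k E₀ := by
        have := fun E : {E : IntermediateField k L // FiniteDimensional k E} => E.2
        exact IntermediateField.finiteDimensional_iSup_of_finset
      obtain ⟨c, hc, hc'⟩ := key E₀ this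
      refine ⟨c, ?_, Set.mem_iInter₂.mpr fun E hE => ⟨hc, ?_⟩⟩
      · show Curv2.bcFst k U.left L c = x
        simp only [x]
        rw [← GrothLib.BaseChange.bcMap_fst k U.left E₀ L, Scheme.Hom.comp_apply, hc', ← Scheme.Hom.comp_apply]
      · have hle : E.1 ≤ E₀ := le_iSup₂ (f := fun E (_ : E ∈ u) => E.1) E hE
        let _ : Algebra E.1 E₀ := (IntermediateField.inclusion hle).toRingHom.toAlgebra
        have : IsScalarTower k E.1 E₀ := IsScalarTower.of_algebraMap_eq fun _ => rfl
        have : IsScalarTower E.1 E₀ L := IsScalarTower.of_algebraMap_eq fun _ => rfl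
        apply subset_closure
        show GrothLib.BaseChange.bcMap k U.left E.1 L c = GrothLib.BaseChange.bcMap k U.left E.1 L z₂
        rw [← GrothLib.BaseChange.bcMap_comp k U.left E.1 E₀ L, Scheme.Hom.comp_apply, hc', ← Scheme.Hom.comp_apply]
    obtain ⟨c, hcF, hc⟩ := hne
    have hceq : c = z₂ := GrothLib.BaseChange.eq_of_bcMap_eq k U.left L c z₂ hcF fun E hE => by
      have hsp : GrothLib.BaseChange.bcMap k U.left E L z₂ ⤳ GrothLib.BaseChange.bcMap k U.left E L c :=
        specializes_iff_mem_closure.mpr (Set.mem_iInter.mp hc ⟨E, hE⟩).2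
      have := hE
      refine (GrothLib.BaseChange.eq_of_specializes_of_finite k U.left E hsp ?_).symm
      rw [← Scheme.Hom.comp_apply, ← Scheme.Hom.comp_apply, GrothLib.BaseChange.bcMap_fst]
      exact hcF.symm
    exact hp₁ (hz₂ ▸ (hceq ▸ (Set.mem_iInter.mp hc ⟨⊥, inferInstance⟩).1 : z₂ ∈ A'))
  exact ⟨inferInstance⟩

/-- The chart of `X ⨯ Y` from charts of the factors. -/
theorem exists_prod_chart {Y : Sp (Spec (CommRingCat.of k))} {U V : Over (Spec (CommRingCat.of k))}
    (a : (yon (Spec (CommRingCat.of k))).obj U ⟶ X) (b : (yon (Spec (CommRingCat.of k))).obj V ⟶ Y)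
    (as : RepWith @Surjective a) (bs : RepWith @Surjective b) :
    ∃ (W : Over (Spec (CommRingCat.of k))) (c : (yon (Spec (CommRingCat.of k))).obj W ⟶ X ⨯ Y) (m : W ⟶ V),
      Function.Surjective (Points.ofPt c) ∧ IsOpenMap m.left ∧
        c ≫ prod.snd = (yon (Spec (CommRingCat.of k))).map m ≫ b := by
  let W : Over (Spec (CommRingCat.of k)) := Over.mk (X := Spec (CommRingCat.of k)) (Y := pullback U.hom V.hom)
    (pullback.fst U.hom V.hom ≫ U.hom)
  let p₁ : W ⟶ U := Over.homMk (U := W) (V := U) (pullback.fst U.hom V.hom) rfl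
  let p₂ : W ⟶ V := Over.homMk (U := W) (V := V) (pullback.snd U.hom V.hom) pullback.condition.symm
  obtain ⟨c₀, hc₁, hc₂⟩ : ∃ c₀ : (yon _).obj W ⟶ X ⨯ (yon _).obj V,
      c₀ ≫ prod.fst = (yon _).map p₁ ≫ a ∧ c₀ ≫ prod.snd = (yon _).map p₂ :=
    ⟨prod.lift _ _, prod.lift_fst _ _, prod.lift_snd _ _⟩
  have sq : IsPullback ((yon _).map p₁) c₀ a prod.fst :=
    isPullback_of_yon hc₁.symm fun T x y h => by
      obtain ⟨x, rfl⟩ := (yon _).map_surjective x
      obtain ⟨s, hs⟩ := (yon _).map_surjective (y ≫ prod.snd)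
      obtain ⟨c, hc₁', hc₂'⟩ : ∃ c : T ⟶ W, c ≫ p₁ = x ∧ c ≫ p₂ = s := by
        refine ⟨Over.homMk (U := T) (V := W) (pullback.lift x.left s.left ((Over.w x).trans (Over.w s).symm)) ?_,
          ?_, ?_⟩
        · show pullback.lift x.left s.left _ ≫ pullback.fst _ _ ≫ U.hom = T.hom
          rw [pullback.lift_fst_assoc, Over.w]
        · exact Over.OverMorphism.ext (pullback.lift_fst _ _ _)
        · exact Over.OverMorphism.ext (pullback.lift_snd _ _ _)
      refine ⟨(yon _).map c, ⟨?_, ?_⟩, fun d hd => ?_⟩
      · rw [← Functor.map_comp, hc₁']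
      · refine prod.hom_ext ?_ ?_
        · rw [Category.assoc, hc₁, ← Functor.map_comp_assoc, hc₁', h]
        · rw [Category.assoc, hc₂, ← Functor.map_comp, hc₂', hs]
      · obtain ⟨d, rfl⟩ := (yon _).map_surjective d
        obtain ⟨d₁, d₂⟩ := hd
        refine congrArg (yon _).map (Over.OverMorphism.ext (pullback.hom_ext ?_ ?_))
        · have e : d ≫ p₁ = c ≫ p₁ :=
            (yon _).map_injective (by rw [Functor.map_comp, Functor.map_comp, d₁, ← Functor.map_comp, hc₁'])
          exact congrArg (fun m => m.left) e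
        · have e : d ≫ p₂ = c ≫ p₂ := (yon _).map_injective (by
            rw [hc₂', hs, ← d₂, Category.assoc, hc₂, Functor.map_comp])
          exact congrArg (fun m => m.left) e
  refine ⟨W, c₀ ≫ prod.map (𝟙 X) b, p₂, ?_, (pullback.snd U.hom V.hom).isOpenMap, ?_⟩
  · exact surjective_ofPt_of_repWith
      (repWith_comp (repWith_of_isPullback sq as) (repWith_prodMap (repWith_iso _) bs))
  · rw [Category.assoc, prod.map_snd, ← Category.assoc, hc₂]

theorem isOpenMap_prod_snd {Y : Sp (Spec (CommRingCat.of k))} (hX : IsAlgSpace X) (hY : IsAlgSpace Y) :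
    IsOpenMap (Points.map (prod.snd : X ⨯ Y ⟶ Y)) := fun A hA => by
  obtain ⟨U, a, ha, as⟩ := hX.atlas
  obtain ⟨V, b, hb, bs⟩ := hY.atlas
  obtain ⟨W, c, m, hc, hm, hcm⟩ := exists_prod_chart a b as bs
  have e : Points.map (prod.snd : X ⨯ Y ⟶ Y) '' A = Points.ofPt b '' (m.left '' (Points.ofPt c ⁻¹' A)) := by
    rw [Set.image_image]
    ext y
    constructor
    · rintro ⟨p, hp, rfl⟩
      obtain ⟨w, rfl⟩ := hc p
      exact ⟨w, hp, by rw [Points.map_ofPt, hcm, ofPt_map_comp]⟩
    · rintro ⟨w, hw, rfl⟩
      exact ⟨_, hw, by rw [Points.map_ofPt, hcm, ofPt_map_comp]⟩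
  rw [e]
  exact isOpenMap_ofPt_of_etale hb _ (hm _ (hA.preimage (Points.continuous_ofPt c)))

/-- Projection along a geometrically connected factor induces a bijection on connected components. -/
theorem connectedComponents_bijective_of_geomConn {Y : Sp (Spec (CommRingCat.of k))} (hX : IsAlgSpace X)
    (hY : IsAlgSpace Y)
    (h : ∀ (K : Type u) [Field K] [Algebra k K],
      ConnectedSpace (Points (X ⨯ (yon (Spec (CommRingCat.of k))).obj (fieldOver k K)))) :
    Function.Bijective (Continuous.connectedComponentsMap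
      (Points.continuous_map (prod.snd : X ⨯ Y ⟶ Y))) := by
  have hfib : ∀ y : Points Y, _root_.IsConnected (Points.map (prod.snd : X ⨯ Y ⟶ Y) ⁻¹' {y}) := by
    intro y
    obtain ⟨p, rfl⟩ := Points.mk_surjective y
    obtain ⟨φ, hφ⟩ := Spec.map_surjective p.str
    letI : Algebra k p.K := φ.hom.toAlgebra
    have hT : p.pt = fieldOver k p.K := congrArg (fun s => Over.mk s) hφ.symm
    have := h p.K
    haveI : ConnectedSpace (Points (X ⨯ (yon (Spec (CommRingCat.of k))).obj p.pt)) := by rw [hT]; exact this
    have e : Points.map (prod.snd : X ⨯ Y ⟶ Y) ⁻¹' {Points.mk p} =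
        Points.map (prod.map (𝟙 X) p.toHom) '' Set.univ := by
      ext z
      constructor
      · intro hz
        obtain ⟨w, -, hw⟩ := exists_of_isPullback (isPullback_prodMap_right p.toHom X)
          (x := Points.ofScheme p.pt (IsLocalRing.closedPoint p.K)) (y := z) (by
            rw [← Points.ofPt_eq_map_ofScheme, Points.ofPt_toHom]
            exact hz.symm)
        exact ⟨w, trivial, hw⟩
      · rintro ⟨w, -, rfl⟩
        show Points.map prod.snd (Points.map (prod.map (𝟙 X) p.toHom) w) = Points.mk p
        rw [← Points.map_comp, prod.map_snd, Points.map_comp]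
        obtain ⟨t, ht⟩ := (Points.schemeEquiv p.pt).surjective (Points.map prod.snd w)
        rw [← ht]
        haveI : Subsingleton ↥p.pt.left := inferInstanceAs (Subsingleton (PrimeSpectrum p.K))
        rw [Subsingleton.elim t (IsLocalRing.closedPoint p.K)]
        exact (Points.ofPt_eq_map_ofScheme _ _).symm.trans (Points.ofPt_toHom _ _)
    rw [e]
    exact isConnected_univ.image _ (Points.continuous_map _).continuousOn
  exact Topology.IsCoinducing.connectedComponentsMap_bijective
    ((isOpenMap_prod_snd hX hY).isQuotientMap (Points.continuous_map _)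
      (fun y => (hfib y).nonempty)).isCoinducing hfib

end GrothLib.AlgSp
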