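import Groth.Agent.Lib.AlgSp.GeomReduced
import Groth.Agent.Lib.AlgSp.EtaleLocallyProps
import Groth.Agent.Lib.AlgSp.Diag
import Groth.Agent.Lib.FBase7.Points2
import Groth.Agent.S1545
import Groth.Prelude.Def_AlgSpDec
import Groth.Prelude.Def_FDesc

/-!
# Base change of algebraic spaces over a field and geometric reducedness

* `bcChartMap`: the chart of `X ⊗_k K` induced by a chart of `X`;
* `etaleLocally_reduced_bc_iff`: reducedness of `X ⊗_k K` read on a chart of `X`;
* `forall_reduced_bc_iff`: all base changes reduced iff geometrically reduced at all points;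
* `geomReducedAt_bc_iff`: geometric reducedness at a point is insensitive to field extension.
-/

set_option autoImplicit false
universe u
open CategoryTheory CategoryTheory.Limits AlgebraicGeometry
set_option backward.isDefEq.respectTransparency false

namespace GrothLib.AlgSp

open _root_.AlgSp

variable {k : Type u} [Field k]


/-- `Spec K` over `Spec k`. -/
noncomputable abbrev fieldOver (k : Type u) [Field k] (K : Type u) [Field K] [Algebra k K] : Over (Spec (CommRingCat.of k)) :=
  Over.mk (Spec.map (CommRingCat.ofHom (algebraMap k K)))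

/-- The base change of a scheme over `k`, as an object over `k`. -/
noncomputable abbrev bcObj (U : Over (Spec (CommRingCat.of k))) (K : Type u) [Field K] [Algebra k K] : Over (Spec (CommRingCat.of k)) :=
  Over.mk (X := Spec (CommRingCat.of k)) (Y := FBase.bc U.hom K) (FBase.bcπ U.hom K ≫ U.hom)

noncomputable def bcFstHom (U : Over (Spec (CommRingCat.of k))) (K : Type u) [Field K] [Algebra k K] : bcObj U K ⟶ U :=
  Over.homMk (U := bcObj U K) (V := U) (FBase.bcπ U.hom K) rfl

noncomputable def bcSndHom (U : Over (Spec (CommRingCat.of k))) (K : Type u) [Field K] [Algebra k K] : bcObj U K ⟶ fieldOver k K :=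
  Over.homMk (U := bcObj U K) (V := fieldOver k K) (FBase.bcStr U.hom K) pullback.condition.symm

theorem bcFstHom_left (U : Over (Spec (CommRingCat.of k))) (K : Type u) [Field K] [Algebra k K] :
    (bcFstHom U K).left = FBase.bcπ U.hom K := rfl

theorem bcSndHom_left (U : Over (Spec (CommRingCat.of k))) (K : Type u) [Field K] [Algebra k K] :
    (bcSndHom U K).left = FBase.bcStr U.hom K := rfl

variable {X : Sp (Spec (CommRingCat.of k))} {U : Over (Spec (CommRingCat.of k))}

/-- The chart of the base change induced by a chart. -/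
noncomputable def bcChartMap (a : (yon (Spec (CommRingCat.of k))).obj U ⟶ X) (K : Type u) [Field K] [Algebra k K] :
    (yon (Spec (CommRingCat.of k))).obj (bcObj U K) ⟶ X ⨯ (yon (Spec (CommRingCat.of k))).obj (fieldOver k K) :=
  have f : (yon (Spec (CommRingCat.of k))).obj (bcObj U K) ⟶ (yon (Spec (CommRingCat.of k))).obj U := (yon (Spec (CommRingCat.of k))).map (X := bcObj U K) (Y := U) (bcFstHom U K)
  prod.lift (f ≫ a) ((yon (Spec (CommRingCat.of k))).map (X := bcObj U K) (Y := fieldOver k K) (bcSndHom U K))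

variable (a : (yon (Spec (CommRingCat.of k))).obj U ⟶ X) (K : Type u) [Field K] [Algebra k K]

theorem bcChartMap_snd : bcChartMap a K ≫ prod.snd = (yon (Spec (CommRingCat.of k))).map (bcSndHom U K) := prod.lift_snd _ _

theorem isPullback_bcChartMap :
    IsPullback ((yon (Spec (CommRingCat.of k))).map (bcFstHom U K)) (bcChartMap a K) a prod.fst :=
  isPullback_of_yon (prod.lift_fst _ _).symm fun T x y h => by
    obtain ⟨x, rfl⟩ := (yon (Spec (CommRingCat.of k))).map_surjective x
    obtain ⟨s, hs⟩ := (yon (Spec (CommRingCat.of k))).map_surjective (y ≫ prod.snd)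
    obtain ⟨c, hc₁, hc₂⟩ : ∃ c : T ⟶ bcObj U K, c ≫ bcFstHom U K = x ∧ c ≫ bcSndHom U K = s := by
      refine ⟨Over.homMk (pullback.lift x.left s.left ((Over.w x).trans (Over.w s).symm)) ?_, ?_, ?_⟩
      · show pullback.lift x.left s.left _ ≫ pullback.fst _ _ ≫ U.hom = T.hom
        rw [pullback.lift_fst_assoc, Over.w]
      · exact Over.OverMorphism.ext (pullback.lift_fst _ _ _)
      · exact Over.OverMorphism.ext (pullback.lift_snd _ _ _)
    refine ⟨(yon (Spec (CommRingCat.of k))).map c, ⟨?_, ?_⟩, fun d hd => ?_⟩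
    · rw [← Functor.map_comp, hc₁]
    · refine prod.hom_ext ?_ ?_
      · rw [bcChartMap, Category.assoc, prod.lift_fst, ← Functor.map_comp_assoc, hc₁, h]
      · rw [Category.assoc, bcChartMap_snd, ← Functor.map_comp, hc₂, hs]
    · obtain ⟨d, rfl⟩ := (yon (Spec (CommRingCat.of k))).map_surjective d
      obtain ⟨d₁, d₂⟩ := hd
      refine congrArg (yon (Spec (CommRingCat.of k))).map (Over.OverMorphism.ext (pullback.hom_ext ?_ ?_))
      · have e : d ≫ bcFstHom U K = c ≫ bcFstHom U K :=
          (yon (Spec (CommRingCat.of k))).map_injective (by rw [Functor.map_comp, Functor.map_comp, d₁, ← Functor.map_comp, hc₁])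
        exact congrArg (fun m => m.left) e
      · have e : d ≫ bcSndHom U K = c ≫ bcSndHom U K := (yon (Spec (CommRingCat.of k))).map_injective (by
          rw [hc₂, hs, ← d₂, Category.assoc, bcChartMap_snd, Functor.map_comp])
        exact congrArg (fun m => m.left) e

theorem repWith_bcChartMap {P : MorphismProperty Scheme.{u}} (ha : RepWith P a) : RepWith P (bcChartMap a K) :=
  repWith_of_isPullback (isPullback_bcChartMap a K) ha

/-- Reducedness of the base change can be read on a chart. -/
theorem etaleLocally_reduced_bc_iff (ha : RepWith @Etale a) (hs : RepWith @Surjective a) :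
    EtaleLocally (fun U => IsReduced U) (X ⨯ (yon (Spec (CommRingCat.of k))).obj (fieldOver k K)) ↔ IsReduced (FBase.bc U.hom K) :=
  ⟨fun h => etaleLocally_chart (fun _ _ => isReduced_of_etale) (fun _ _ => isReduced_desc) h (bcChartMap a K) (repWith_bcChartMap a K ha),
    fun h => ⟨_, _, repWith_bcChartMap a K ha, repWith_bcChartMap a K hs, h⟩⟩

theorem isReduced_bc_of_geomReducedAt {Y : Scheme.{u}} (f : Y ⟶ Spec (CommRingCat.of k)) (h : ∀ y, FBase.IsGeomReducedAt f y) :
    IsReduced (FBase.bc f K) := by
  haveI : ∀ z, _root_.IsReduced ((FBase.bc f K).presheaf.stalk z) := fun z => h _ K z rfl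
  exact isReduced_of_isReduced_stalk _

/-- All base changes are reduced iff the space is geometrically reduced at all of its points. -/
theorem forall_reduced_bc_iff (hX : IsAlgSpace X) :
    (∀ (K : Type u) [Field K] [Algebra k K],
      EtaleLocally (fun U => IsReduced U) (X ⨯ (yon (Spec (CommRingCat.of k))).obj (fieldOver k K))) ↔
      ∀ x : Points X, ∃ (U : Over (Spec (CommRingCat.of k))) (a : (yon (Spec (CommRingCat.of k))).obj U ⟶ X) (u : ↥U.left),
        RepWith @Etale a ∧ Points.ofPt a u = x ∧ FBase.IsGeomReducedAt U.hom u := by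
  obtain ⟨U, a, ha, hs⟩ := hX.atlas
  refine ⟨fun h x => ?_, fun h L _ _ => (etaleLocally_reduced_bc_iff a L ha hs).2 ?_⟩
  · obtain ⟨v, rfl⟩ := surjective_ofPt_of_repWith hs x
    refine ⟨U, a, v, ha, rfl, fun L _ _ z _ => ?_⟩
    haveI := (etaleLocally_reduced_bc_iff a L ha hs).1 (h L)
    exact inferInstance
  · exact isReduced_bc_of_geomReducedAt L U.hom fun v => (geomReducedAt_iff hX ha v).1 (h _)

/-- A reduced base change to a perfect field makes all base changes reduced. -/
theorem reduced_bc_of_perfect (hX : IsAlgSpace X) (Ω : Type u) [Field Ω] [Algebra k Ω] [PerfectField Ω]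
    (h : EtaleLocally (fun U => IsReduced U) (X ⨯ (yon (Spec (CommRingCat.of k))).obj (fieldOver k Ω))) :
    EtaleLocally (fun U => IsReduced U) (X ⨯ (yon (Spec (CommRingCat.of k))).obj (fieldOver k K)) := by
  obtain ⟨V, b, hb, hbs⟩ := hX.atlas
  haveI := (etaleLocally_reduced_bc_iff b Ω hb hbs).1 h
  refine (etaleLocally_reduced_bc_iff b K hb hbs).2 (isReduced_bc_of_geomReducedAt K V.hom fun v => ?_)
  haveI : Surjective (FBase.bcπ V.hom Ω) := MorphismProperty.pullback_fst _ _ inferInstance
  obtain ⟨v', hv'⟩ := (FBase.bcπ V.hom Ω).surjective v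
  exact GrothLib.FBase7.isGeomReducedAt_of_perfect V.hom v v' hv' inferInstance

/-- Geometric reducedness for charts of a space over an extension field, read on any chart. -/
theorem isGeomReducedAt_overChart_iff {F : Sp (Spec (CommRingCat.of k))} (hF : IsAlgSpace F) {π : F ⟶ (yon (Spec (CommRingCat.of k))).obj (fieldOver k K)}
    {U U' : Over (Spec (CommRingCat.of k))} {a : (yon (Spec (CommRingCat.of k))).obj U ⟶ F} {a' : (yon (Spec (CommRingCat.of k))).obj U' ⟶ F} (ha : RepWith @Etale a)
    (ha' : RepWith @Etale a') {q : U ⟶ fieldOver k K} {q' : U' ⟶ fieldOver k K}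
    (hq : a ≫ π = (yon (Spec (CommRingCat.of k))).map q) (hq' : a' ≫ π = (yon (Spec (CommRingCat.of k))).map q') {v : ↥U.left} {v' : ↥U'.left}
    (h : Points.ofPt a v = Points.ofPt a' v') :
    FBase.IsGeomReducedAt q.left v ↔ FBase.IsGeomReducedAt q'.left v' := by
  obtain ⟨W, w₁, w₂, w, he₁, he₂, hc, rfl, rfl⟩ := exists_common_chart hF ha ha' h
  have e : w₁ ≫ q = w₂ ≫ q' := (yon (Spec (CommRingCat.of k))).map_injective (by
    rw [Functor.map_comp, Functor.map_comp, ← hq, ← hq', ← Category.assoc, hc, Category.assoc])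
  rw [← isGeomReducedAt_iff_of_etale w₁.left q.left, ← isGeomReducedAt_iff_of_etale w₂.left q'.left]
  have e' : w₁.left ≫ q.left = w₂.left ≫ q'.left := congrArg (fun m => m.left) e
  rw [e']

/-- Geometric reducedness at a point does not change under field extension. -/
theorem geomReducedAt_bc_iff (hX : IsAlgSpace X) (x' : Points (X ⨯ (yon (Spec (CommRingCat.of k))).obj (fieldOver k K))) :
    (∃ (U : Over (Spec (CommRingCat.of k))) (a : (yon (Spec (CommRingCat.of k))).obj U ⟶ X) (v : ↥U.left),
      RepWith @Etale a ∧ Points.ofPt a v = Points.map prod.fst x' ∧ FBase.IsGeomReducedAt U.hom v) ↔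
      ∃ (U' : Over (Spec (CommRingCat.of k))) (a' : (yon (Spec (CommRingCat.of k))).obj U' ⟶ X ⨯ (yon (Spec (CommRingCat.of k))).obj (fieldOver k K)) (q : U' ⟶ fieldOver k K)
        (v' : ↥U'.left), RepWith @Etale a' ∧ a' ≫ prod.snd = (yon (Spec (CommRingCat.of k))).map q ∧
          Points.ofPt a' v' = x' ∧ FBase.IsGeomReducedAt q.left v' := by
  obtain ⟨V, b, hb, hbs⟩ := hX.atlas
  obtain ⟨v, hv⟩ := surjective_ofPt_of_repWith hbs (Points.map prod.fst x')
  rw [← hv, geomReducedAt_iff hX hb]
  obtain ⟨z, hz, hz'⟩ := exists_of_isPullback (isPullback_bcChartMap b K)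
    (x := Points.ofScheme V v) (y := x') (by rw [← Points.ofPt_eq_map_ofScheme]; exact hv)
  obtain ⟨v'', rfl⟩ := (Points.schemeEquiv (bcObj V K)).surjective z
  have hx' : Points.ofPt (bcChartMap b K) v'' = x' := by rw [Points.ofPt_eq_map_ofScheme]; exact hz'
  have hv'' : FBase.bcπ V.hom K v'' = v := by
    exact (Points.schemeEquiv V).injective ((map_yon_ofPt (bcFstHom V K) v'').symm.trans hz)
  have key : FBase.IsGeomReducedAt V.hom v ↔ FBase.IsGeomReducedAt (FBase.bcStr V.hom K) v'' :=
    @Groth.Agent.S1545.result k _ V.left ⟨V.hom⟩ K _ _ v v'' hv''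
  rw [key]
  exact ⟨fun h => ⟨bcObj V K, bcChartMap b K, bcSndHom V K, v'', repWith_bcChartMap b K hb, bcChartMap_snd b K,
      hx', h⟩,
    fun ⟨U', a', q, v', ha', hq, hv', h⟩ =>
      (isGeomReducedAt_overChart_iff K
        (isAlgSpace_prod hX (IsAlgSpace.yon_obj (fieldOver k K))) (repWith_bcChartMap b K hb) ha'
        (bcChartMap_snd b K) hq (hx'.trans hv'.symm)).2 h⟩

/-- The projection from the base change is surjective on points. -/
theorem surjective_map_fst_bc (hX : IsAlgSpace X) :
    Function.Surjective (Points.map (prod.fst : X ⨯ (yon (Spec (CommRingCat.of k))).obj (fieldOver k K) ⟶ X)) := fun x => by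
  obtain ⟨V, b, hb, hbs⟩ := hX.atlas
  obtain ⟨v, rfl⟩ := surjective_ofPt_of_repWith hbs x
  haveI : Surjective (FBase.bcπ V.hom K) := MorphismProperty.pullback_fst _ _ inferInstance
  obtain ⟨v', rfl⟩ := (FBase.bcπ V.hom K).surjective v
  refine ⟨Points.ofPt (bcChartMap b K) v', ?_⟩
  rw [Points.map_ofPt, bcChartMap, prod.lift_fst, ofPt_map_comp]
  rfl

end GrothLib.AlgSp
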