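import Groth.Agent.S10686
import Groth.Agent.Lib.AlgSp.EtaleLocallyProps
import Groth.Agent.Lib.AlgSp.LocP
import Groth.Agent.Lib.AlgSp.GeomReduced
import Mathlib.AlgebraicGeometry.Geometrically.Reduced

/-!
# Geometrically reduced fibres on charts

* `geomRedLocus`, `preimage_geomRedLocus`: the locus of geometrically reduced fibres of a morphism of spaces is
  read on a scheme chart of the base change to a chart of the target.
* `isGeomReducedAt_fiber_of_etale`, `geometricallyReduced_fiber_iff`: pointwise forms.
-/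

universe u

open CategoryTheory CategoryTheory.Limits AlgebraicGeometry

namespace GrothLib.AlgSp

open _root_.AlgSp

set_option backward.isDefEq.respectTransparency false

variable {S : Scheme.{u}}

/-- The points over which the fibre is geometrically reduced. -/
abbrev geomRedLocus {X Y : Space S} (f : X ⟶ Y) : Set (Points Y.obj) :=
  {y : Points Y.obj | ∀ (k : FieldPt Y.obj), Points.mk k = y →
        ∀ (k' : Type u) [Field k'] (φ : k.K →+* k') (Xk' : Sp S) (a : Xk' ⟶ X.obj)
          (b : Xk' ⟶ (yon S).obj (Over.mk (Spec.map (CommRingCat.ofHom φ) ≫ k.str))),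
          IsPullback a b f.hom ((yon S).map (Over.homMk (Spec.map (CommRingCat.ofHom φ)) rfl :
            Over.mk (Spec.map (CommRingCat.ofHom φ) ≫ k.str) ⟶ k.pt) ≫ k.toHom) →
          EtaleLocally (fun U => IsReduced U) Xk'}

/-- The locus of geometrically reduced fibres on a chart of the target. -/
theorem preimage_geomRedLocus {X Y : Space S} (f : X ⟶ Y) {V : Over S} (a : (yon S).obj V ⟶ Y.obj)
    {W : Over S} (b : (yon S).obj W ⟶ pullback f.hom a) (hbe : RepWith @Etale b) (hbs : RepWith @Surjective b)
    (g : W ⟶ V) (hg : (yon S).map g = b ≫ pullback.snd f.hom a) :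
    Points.ofPt a ⁻¹' geomRedLocus f = {v | GeometricallyReduced (g.left.fiberToSpecResidueField v)} := by
  let XV := pullback f.hom a
  have sqV := IsPullback.of_hasPullback f.hom a
  ext v
  let k : FieldPt Y.obj := ⟨(V.left.residueField v), V.left.fromSpecResidueField v ≫ V.hom,
    (J S).uliftYonedaEquiv.{u + 1} ((yon S).map (Over.homMk (V.left.fromSpecResidueField v) rfl) ≫ a)⟩
  have hk₀ : k.toHom = (yon S).map (Over.homMk (V.left.fromSpecResidueField v) rfl :
      k.pt ⟶ V) ≫ a := Equiv.symm_apply_apply _ _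
  have hk : Points.mk k = Points.ofPt a v := by
    rw [← Points.ofPt_toHom k (IsLocalRing.closedPoint _), hk₀, ofPt_map_comp]
    exact congrArg _ (Scheme.fromSpecResidueField_apply v _)
  have key : ∀ (k' : Type u) [Field k'] (φ : k.K →+* k') (P : Sp S) (p : P ⟶ X.obj)
      (p' : P ⟶ (yon S).obj (Over.mk (Spec.map (CommRingCat.ofHom φ) ≫ k.str))),
      IsPullback p p' f.hom ((yon S).map (Over.homMk (Spec.map (CommRingCat.ofHom φ)) rfl :
            Over.mk (Spec.map (CommRingCat.ofHom φ) ≫ k.str) ⟶ k.pt) ≫ k.toHom) →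
      ∀ (Z : Scheme.{u}) (z₁ : Z ⟶ W.left) (z₂ : Z ⟶ Spec (CommRingCat.of k')),
        IsPullback z₁ z₂ g.left (Spec.map (CommRingCat.ofHom φ) ≫ V.left.fromSpecResidueField v) →
        (EtaleLocally (fun U => IsReduced U) P ↔ IsReduced Z) := by
    intro k' _ φ P p p' sqP Z z₁ z₂ sqZ
    let T : Over S := Over.mk (Spec.map (CommRingCat.ofHom φ) ≫ k.str)
    let m : T ⟶ V := Over.homMk (Spec.map (CommRingCat.ofHom φ) ≫ V.left.fromSpecResidueField v) (Category.assoc _ _ _)
    have hm : (yon S).map m ≫ a = (yon S).map (Over.homMk (Spec.map (CommRingCat.ofHom φ)) rfl : T ⟶ k.pt) ≫ k.toHom := by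
      rw [hk₀, ← Category.assoc, ← Functor.map_comp]
      congr 2
    let Z' : Over S := Over.mk (z₂ ≫ T.hom)
    let z₁' : Z' ⟶ W := Over.homMk z₁ (by
      rw [← Over.w g, ← Category.assoc, sqZ.w, Category.assoc]
      exact congrArg (z₂ ≫ ·) (Over.w m))
    let z₂' : Z' ⟶ T := Over.homMk z₂ rfl
    have sqy : IsPullback ((yon S).map z₁') ((yon S).map z₂') ((yon S).map g) ((yon S).map m) :=
      isPullback_yon (IsPullback.of_map (Over.forget S) (Over.OverMorphism.ext sqZ.w) sqZ)
    let π : P ⟶ XV := sqV.lift p (p' ≫ (yon S).map m) (by rw [Category.assoc, hm]; exact sqP.w)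
    have sqπ : IsPullback π p' (pullback.snd f.hom a) ((yon S).map m) :=
      IsPullback.of_right (by rw [sqV.lift_fst]; exact hm ▸ sqP) (sqV.lift_snd _ _ _) sqV
    let c : (yon S).obj Z' ⟶ P := sqπ.lift ((yon S).map z₁' ≫ b) ((yon S).map z₂') (by
      rw [Category.assoc, ← hg]; exact sqy.w)
    have sqc : IsPullback ((yon S).map z₁') c b π := by
      refine IsPullback.of_bot (h₂₁ := π) (v₂₂ := pullback.snd f.hom a) ?_ (sqπ.lift_fst _ _ _).symm sqπ
      rw [sqπ.lift_snd, ← hg]
      exact sqy
    have hce : RepWith @Etale c := repWith_of_isPullback sqc hbe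
    have hcs : RepWith @Surjective c := repWith_of_isPullback sqc hbs
    exact ⟨fun hP => etaleLocally_chart (fun _ _ e => isReduced_of_etale e) (fun _ _ e => isReduced_desc e) hP c hce,
      fun hZ => ⟨Z', c, hce, hcs, hZ⟩⟩
  change _ ↔ GeometricallyReduced (g.left.fiberToSpecResidueField v)
  constructor
  · intro hy
    refine GeometricallyReduced.mk fun K _ y₀ Z z₁ z₂ sq => ?_
    obtain ⟨φ, rfl⟩ := Spec.map_surjective y₀
    let T : Over S := Over.mk (Spec.map φ ≫ k.str)
    exact (key K φ.hom _ _ _ (IsPullback.of_hasPullback f.hom _) Z (z₁ ≫ g.left.fiberι v) z₂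
      (sq.paste_horiz (IsPullback.of_hasPullback g.left (V.left.fromSpecResidueField v)))).1
      (hy k hk K φ.hom _ _ _ (IsPullback.of_hasPullback f.hom _))
  · intro hgr
    refine ((Groth.Agent.S10686.result f (Points.ofPt a v)).out 0 1).1 ?_
    refine ⟨k, hk, fun k' _ φ P p p' sq => ?_⟩
    have sqf := IsPullback.of_hasPullback (g.left.fiberToSpecResidueField v) (Spec.map (CommRingCat.ofHom φ))
    exact (key k' φ P p p' sq _ _ _ (sqf.paste_horiz
      (IsPullback.of_hasPullback g.left (V.left.fromSpecResidueField v)))).2 (hgr.geometrically_isReduced _ _ _ sqf)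

/-- Geometric reducedness of fibres at points is invariant along etale maps. -/
theorem isGeomReducedAt_fiber_of_etale {R W V : Scheme.{u}} (e : R ⟶ W) [Etale e] (g : W ⟶ V) (r : R) :
    FBase.IsGeomReducedAt ((e ≫ g).fiberToSpecResidueField ((e ≫ g) r)) ((e ≫ g).asFiber r) ↔
      FBase.IsGeomReducedAt (g.fiberToSpecResidueField (g (e r))) (g.asFiber (e r)) := by
  let v := g (e r)
  let h : (e ≫ g).fiber v ⟶ g.fiber v := pullback.lift (pullback.fst _ _ ≫ e) (pullback.snd _ _)
    (by rw [Category.assoc]; exact pullback.condition)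
  have sq : IsPullback h ((e ≫ g).fiberι v) (g.fiberι v) e :=
    IsPullback.of_right (h₁₂ := g.fiberToSpecResidueField v) (h₂₂ := g) (v₁₃ := V.fromSpecResidueField v)
      (by rw [show h ≫ g.fiberToSpecResidueField v = (e ≫ g).fiberToSpecResidueField v from pullback.lift_snd _ _ _]
          exact (IsPullback.of_hasPullback (e ≫ g) (V.fromSpecResidueField v)).flip)
      (pullback.lift_fst _ _ _) (IsPullback.of_hasPullback g (V.fromSpecResidueField v)).flip
  haveI : Etale h := MorphismProperty.of_isPullback sq.flip ‹Etale e›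
  have hp : h ((e ≫ g).asFiber r) = g.asFiber (e r) := by
    apply (g.fiberι v).isEmbedding.injective
    rw [← Scheme.Hom.comp_apply, sq.w, Scheme.Hom.comp_apply, Scheme.Hom.fiberι_asFiber]
    exact congrArg e (Scheme.Hom.fiberι_asFiber (e ≫ g) r)
  rw [← hp, ← isGeomReducedAt_iff_of_etale h]
  rw [show h ≫ g.fiberToSpecResidueField v = (e ≫ g).fiberToSpecResidueField v from pullback.lift_snd _ _ _]
  rfl

/-- A scheme over a field is geometrically reduced iff it is so at all points. -/
theorem geometricallyReduced_iff_forall {k : Type u} [Field k] {Z : Scheme.{u}} (p : Z ⟶ Spec (CommRingCat.of k)) :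
    GeometricallyReduced p ↔ ∀ z, FBase.IsGeomReducedAt p z := by
  constructor
  · intro h z K _ _ z' _
    haveI : IsReduced (FBase.bc p K) :=
      h.geometrically_isReduced _ _ _ (IsPullback.of_hasPullback p (Spec.map (CommRingCat.ofHom (algebraMap k K))))
    infer_instance
  · intro h
    refine GeometricallyReduced.mk fun K _ y Z' z₁ z₂ sq => ?_
    obtain ⟨φ, rfl⟩ := Spec.map_surjective y
    letI := φ.hom.toAlgebra
    haveI : ∀ z, _root_.IsReduced ((FBase.bc p K).presheaf.stalk z) := fun z => h _ K z rfl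
    haveI : IsReduced (FBase.bc p K) := isReduced_of_isReduced_stalk _
    haveI : IsReduced (pullback p (Spec.map φ)) := ‹IsReduced (FBase.bc p K)›
    exact isReduced_of_isOpenImmersion (f := sq.isoPullback.hom)

/-- Fibres are geometrically reduced iff they are so at all of their points. -/
theorem geometricallyReduced_fiber_iff {W V : Scheme.{u}} (g : W ⟶ V) (v : V) :
    GeometricallyReduced (g.fiberToSpecResidueField v) ↔
      ∀ w : W, g w = v → FBase.IsGeomReducedAt (g.fiberToSpecResidueField (g w)) (g.asFiber w) := by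
  refine (geometricallyReduced_iff_forall (k := V.residueField v) _).trans ⟨fun h w hw => ?_, fun h z => ?_⟩
  · subst hw
    exact h _
  · have key : ∀ (w : W) (hw : g w = v), FBase.IsGeomReducedAt (g.fiberToSpecResidueField (g w)) (g.asFiber w) →
        g.fiberι v z = w → FBase.IsGeomReducedAt (k := V.residueField v) (g.fiberToSpecResidueField v) z := by
      intro w hw hgood he
      subst hw
      rwa [show z = g.asFiber w from (g.fiberι (g w)).isEmbedding.injective
        (he.trans (Scheme.Hom.fiberι_asFiber g w).symm)]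
    have hz : g (g.fiberι v z) = v := by
      have : g.fiberι v z ∈ Set.range (g.fiberι v) := Set.mem_range_self z
      rw [Scheme.Hom.range_fiberι] at this
      exact this
    exact key _ hz (h _ hz) rfl

end GrothLib.AlgSp
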