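import Groth.Prelude.Def_EtGlue
import Mathlib.RingTheory.Flat.Basic
import Mathlib.RingTheory.Spectrum.Prime.RingHom
import Mathlib.LinearAlgebra.TensorProduct.Prod

/-!
# Glueable algebras and flat descent
-/

universe u

open TensorProduct

namespace GrothLib.AlgSp.GlueFlat

section Elementwise

variable {A : Type u} [CommRing A] {M M' : Type u} [AddCommGroup M] [AddCommGroup M'] [Module A M] [Module A M']

/-- Left exactness and exactness in the middle of `M → M' × M_g → M'_g`, elementwise. -/
structure Good (v : M →ₗ[A] M') (g : A) : Prop where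
  inj : ∀ (m : M) (n : ℕ), v m = 0 → g ^ n • m = 0 → m = 0
  mid : ∀ (x : M') (b : M) (n : ℕ), g ^ n • x = v b → ∃ (m : M) (k : ℕ), v m = x ∧ g ^ k • (g ^ n • m - b) = 0

theorem good_congr {B : Type u} [CommRing B] {N N' : Type u} [AddCommGroup N] [AddCommGroup N'] [Module B N]
    [Module B N'] (v : M →ₗ[A] M') (g : A) (w : N →ₗ[B] N') (h : B) (e : M ≃+ N) (e' : M' ≃+ N')
    (hv : ∀ m, e' (v m) = w (e m)) (he : ∀ m, e (g • m) = h • e m) (he' : ∀ m, e' (g • m) = h • e' m)
    (H : Good v g) : Good w h := by
  have hen : ∀ (n : ℕ) m, e (g ^ n • m) = h ^ n • e m := by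
    intro n
    induction n with
    | zero => simp
    | succ n ih => intro m; rw [pow_succ', pow_succ', mul_smul, mul_smul, he, ih]
  have hen' : ∀ (n : ℕ) m, e' (g ^ n • m) = h ^ n • e' m := by
    intro n
    induction n with
    | zero => simp
    | succ n ih => intro m; rw [pow_succ', pow_succ', mul_smul, mul_smul, he', ih]
  constructor
  · intro m n h1 h2
    obtain ⟨m, rfl⟩ := e.surjective m
    rw [← hv, AddEquiv.map_eq_zero_iff] at h1
    rw [← hen, AddEquiv.map_eq_zero_iff] at h2
    rw [H.inj m n h1 h2, map_zero]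
  · intro x b n hx
    obtain ⟨x, rfl⟩ := e'.surjective x
    obtain ⟨b, rfl⟩ := e.surjective b
    rw [← hen', ← hv, EmbeddingLike.apply_eq_iff_eq] at hx
    obtain ⟨m, k, h1, h2⟩ := H.mid x b n hx
    refine ⟨e m, k, by rw [← hv, h1], ?_⟩
    rw [← hen, ← map_sub, ← hen, h2, map_zero]

variable (B : Type u) [CommRing B] [Algebra A B] [Module.Flat A B]

theorem mem_range_lTensor_ker {N P : Type u} [AddCommGroup N] [AddCommGroup P] [Module A N] [Module A P]
    (Θ : N →ₗ[A] P) (e : B ⊗[A] N) (he : LinearMap.lTensor B Θ e = 0) :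
    e ∈ LinearMap.range (LinearMap.lTensor B Θ.ker.subtype) :=
  ((Module.Flat.lTensor_exact B (LinearMap.exact_subtype_ker_map Θ)) e).1 he

/-- Flat base change of `Good`. -/
theorem Good.baseChange {v : M →ₗ[A] M'} {g : A} (H : Good v g) : Good (LinearMap.lTensor B v) g := by
  constructor
  · intro m n h1 h2
    have hinj : Function.Injective (LinearMap.prod v (g ^ n • LinearMap.id)) := by
      rw [injective_iff_map_eq_zero]
      intro a ha
      exact H.inj a n (congrArg Prod.fst ha) (congrArg Prod.snd ha)
    apply Module.Flat.lTensor_preserves_injective_linearMap (M := B) _ hinj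
    rw [map_zero]
    apply (TensorProduct.prodRight A A B M' M).injective
    rw [map_zero]
    have h3 : ∀ z : B ⊗[A] M, TensorProduct.prodRight A A B M' M
        (LinearMap.lTensor B (LinearMap.prod v (g ^ n • LinearMap.id)) z) = (LinearMap.lTensor B v z, g ^ n • z) := by
      intro z
      induction z using TensorProduct.induction_on with
      | zero => simp; rfl
      | tmul b a => simp [TensorProduct.tmul_smul]
      | add z w hz hw => simp [hz, hw]
    rw [h3, h1, h2]
    rfl
  · intro x b n hx
    let ψ : M' × M →ₗ[A] M' := (g ^ n • LinearMap.fst A M' M) - v.comp (LinearMap.snd A M' M)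
    let e : B ⊗[A] (M' × M) := (TensorProduct.prodRight A A B M' M).symm (x, b)
    have h3 : ∀ z : B ⊗[A] (M' × M), LinearMap.lTensor B ψ z =
        g ^ n • (TensorProduct.prodRight A A B M' M z).1 -
          LinearMap.lTensor B v (TensorProduct.prodRight A A B M' M z).2 := by
      intro z
      induction z using TensorProduct.induction_on with
      | zero => simp
      | tmul b a => simp [ψ, TensorProduct.tmul_sub, ← TensorProduct.tmul_smul]
      | add z w hz hw => simp [hz, hw, smul_add]; abel
    have he : LinearMap.lTensor B ψ e = 0 := by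
      rw [h3, LinearEquiv.apply_symm_apply]
      exact sub_eq_zero.mpr hx
    obtain ⟨w, hw⟩ := mem_range_lTensor_ker B ψ e he
    have key : ∀ w : B ⊗[A] ψ.ker, ∃ (m : B ⊗[A] M) (k : ℕ),
        LinearMap.lTensor B v m = (TensorProduct.prodRight A A B M' M (LinearMap.lTensor B ψ.ker.subtype w)).1 ∧
        g ^ k • (g ^ n • m - (TensorProduct.prodRight A A B M' M (LinearMap.lTensor B ψ.ker.subtype w)).2) = 0 := by
      intro w
      induction w using TensorProduct.induction_on with
      | zero => exact ⟨0, 0, by simp, by simp⟩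
      | tmul β z =>
        obtain ⟨⟨x', b'⟩, hz⟩ := z
        have hz' : g ^ n • x' = v b' := sub_eq_zero.mp (by simpa [ψ] using hz)
        obtain ⟨m, k, h1, h2⟩ := H.mid x' b' n hz'
        refine ⟨β ⊗ₜ[A] m, k, by simp [h1], ?_⟩
        simp only [LinearMap.lTensor_tmul, Submodule.coe_subtype, TensorProduct.prodRight_tmul]
        rw [← TensorProduct.tmul_smul, ← TensorProduct.tmul_sub, ← TensorProduct.tmul_smul, h2,
          TensorProduct.tmul_zero]
      | add w₁ w₂ h₁ h₂ =>
        obtain ⟨m₁, k₁, a₁, c₁⟩ := h₁
        obtain ⟨m₂, k₂, a₂, c₂⟩ := h₂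
        refine ⟨m₁ + m₂, k₁ + k₂, by simp [a₁, a₂], ?_⟩
        simp only [map_add, Prod.snd_add, smul_add]
        rw [add_sub_add_comm, smul_add]
        nth_rewrite 1 [pow_add, mul_comm, mul_smul]
        rw [c₁, smul_zero, zero_add, pow_add, mul_smul, c₂, smul_zero]
    obtain ⟨m, k, h1, h2⟩ := key w
    rw [hw, LinearEquiv.apply_symm_apply] at h1 h2
    exact ⟨m, k, h1, h2⟩

end Elementwise

section Descent

variable {A : Type u} [CommRing A] {M M' : Type u} [AddCommGroup M] [AddCommGroup M'] [Module A M] [Module A M']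

/-- The ideal of scalars moving a pair into the solutions. -/
theorem map_eq_top_of_lTensor_eq_zero {B : Type u} [CommRing B] [Algebra A B] [Module.Flat A B]
    {N P : Type u} [AddCommGroup N] [AddCommGroup P] [Module A N] [Module A P] (Θ : A × N →ₗ[A] P) (y : B ⊗[A] N)
    (h : LinearMap.lTensor B Θ ((TensorProduct.prodRight A A B A N).symm ((1 : B) ⊗ₜ[A] 1, y)) = 0) :
    Ideal.map (algebraMap A B) (Submodule.map (LinearMap.fst A A N) Θ.ker : Ideal A) = ⊤ := by
  obtain ⟨w, hw⟩ := mem_range_lTensor_ker B Θ _ h
  have key : ∀ w : B ⊗[A] Θ.ker, (TensorProduct.rid A B)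
      (LinearMap.lTensor B ((LinearMap.fst A A N).comp Θ.ker.subtype) w) ∈
        Ideal.map (algebraMap A B) (Submodule.map (LinearMap.fst A A N) Θ.ker : Ideal A) := by
    intro w
    induction w using TensorProduct.induction_on with
    | zero => simp
    | tmul β z =>
      simp only [LinearMap.lTensor_tmul, TensorProduct.rid_tmul, Algebra.smul_def]
      exact Ideal.mul_mem_right _ _ (Ideal.mem_map_of_mem _ ⟨z.1, z.2, rfl⟩)
    | add a b ha hb => simpa [map_add] using Ideal.add_mem _ ha hb
  rw [Ideal.eq_top_iff_one]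
  convert key w
  rw [LinearMap.lTensor_comp, LinearMap.comp_apply, hw]
  have h3 : ∀ z : B ⊗[A] (A × N), LinearMap.lTensor B (LinearMap.fst A A N) z =
      (TensorProduct.prodRight A A B A N z).1 := by
    intro z
    induction z using TensorProduct.induction_on with
    | zero => simp
    | tmul b a => simp
    | add z w hz hw => simp [hz, hw]
  rw [h3, LinearEquiv.apply_symm_apply]
  simp

/-- Descent of `Good` along a jointly surjective family of flat algebras. -/
theorem good_of_cover (v : M →ₗ[A] M') (g : A) {ι : Type*} (B : ι → Type u) [∀ j, CommRing (B j)]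
    [∀ j, Algebra A (B j)] [∀ j, Module.Flat A (B j)]
    (hsurj : ∀ p : PrimeSpectrum A, ∃ j, p ∈ Set.range (PrimeSpectrum.comap (algebraMap A (B j))))
    (H : ∀ j, Good (LinearMap.lTensor (B j) v) g) : Good v g := by
  have top_of : ∀ I : Ideal A, (∀ j, I.map (algebraMap A (B j)) = ⊤) → I = ⊤ := by
    intro I hI
    by_contra hne
    obtain ⟨p, hp, hle⟩ := Ideal.exists_le_maximal I hne
    obtain ⟨j, q, hq⟩ := hsurj ⟨p, hp.isPrime⟩
    apply q.isPrime.ne_top
    rw [eq_top_iff, ← hI j, Ideal.map_le_iff_le_comap]
    intro a ha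
    have : a ∈ (PrimeSpectrum.comap (algebraMap A (B j)) q).asIdeal := by rw [hq]; exact hle ha
    exact this
  constructor
  · intro m n h1 h2
    have hI : LinearMap.ker (LinearMap.toSpanSingleton A M m) = ⊤ := by
      apply top_of
      intro j
      have hz : ((1 : B j) ⊗ₜ[A] m) = 0 := by
        apply (H j).inj _ n
        · simp [h1]
        · rw [← TensorProduct.tmul_smul, h2, TensorProduct.tmul_zero]
      obtain ⟨w, hw⟩ := mem_range_lTensor_ker (B j) (LinearMap.toSpanSingleton A M m) ((1 : B j) ⊗ₜ[A] 1)
        (by simp [LinearMap.toSpanSingleton_apply, hz])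
      rw [Ideal.eq_top_iff_one]
      have key : ∀ w : B j ⊗[A] (LinearMap.toSpanSingleton A M m).ker,
          TensorProduct.rid A (B j) (LinearMap.lTensor (B j) (LinearMap.toSpanSingleton A M m).ker.subtype w) ∈
            Ideal.map (algebraMap A (B j)) (LinearMap.ker (LinearMap.toSpanSingleton A M m)) := by
        intro w
        induction w using TensorProduct.induction_on with
        | zero => simp
        | tmul β z =>
          simp only [LinearMap.lTensor_tmul, TensorProduct.rid_tmul, Algebra.smul_def]
          exact Ideal.mul_mem_right _ _ (Ideal.mem_map_of_mem _ z.2)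
        | add a b ha hb => simpa [map_add] using Ideal.add_mem _ ha hb
      convert key w
      rw [hw]
      simp
    have : (1 : A) ∈ LinearMap.ker (LinearMap.toSpanSingleton A M m) := by rw [hI]; trivial
    simpa [LinearMap.toSpanSingleton_apply] using this
  · intro x b n hx
    -- `(s, a) ↦ (v a - s • x, g ^ k • (g ^ n • a - s • b))`
    let Θ (k : ℕ) : A × M →ₗ[A] M' × M :=
      LinearMap.prod (v.comp (LinearMap.snd A A M) - (LinearMap.toSpanSingleton A M' x).comp (LinearMap.fst A A M))
        (g ^ k • (g ^ n • LinearMap.snd A A M - (LinearMap.toSpanSingleton A M b).comp (LinearMap.fst A A M)))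
    let I : Ideal A := ⨆ k, (Submodule.map (LinearMap.fst A A M) (Θ k).ker : Ideal A)
    have hI : I = ⊤ := by
      apply top_of
      intro j
      obtain ⟨m, k, h1, h2⟩ := (H j).mid ((1 : B j) ⊗ₜ[A] x) ((1 : B j) ⊗ₜ[A] b) n (by
        rw [← TensorProduct.tmul_smul, hx, LinearMap.lTensor_tmul])
      have h3 : ∀ z : B j ⊗[A] (A × M), TensorProduct.prodRight A A (B j) M' M (LinearMap.lTensor (B j) (Θ k) z) =
          (LinearMap.lTensor (B j) v (TensorProduct.prodRight A A (B j) A M z).2
              - LinearMap.lTensor (B j) (LinearMap.toSpanSingleton A M' x) (TensorProduct.prodRight A A (B j) A M z).1,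
            g ^ k • (g ^ n • (TensorProduct.prodRight A A (B j) A M z).2
              - LinearMap.lTensor (B j) (LinearMap.toSpanSingleton A M b) (TensorProduct.prodRight A A (B j) A M z).1)) := by
        intro z
        induction z using TensorProduct.induction_on with
        | zero => simp; rfl
        | tmul β a => simp [Θ, TensorProduct.tmul_sub, TensorProduct.tmul_smul]
        | add z w hz hw => simp [hz, hw, smul_sub]; constructor <;> abel
      refine eq_top_mono (Ideal.map_mono (le_iSup (fun k => (Submodule.map (LinearMap.fst A A M) (Θ k).ker : Ideal A)) k))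
        (map_eq_top_of_lTensor_eq_zero (Θ k) m ?_)
      apply (TensorProduct.prodRight A A (B j) M' M).injective
      rw [h3, LinearEquiv.apply_symm_apply, map_zero]
      simp [LinearMap.toSpanSingleton_apply, h1, h2]
    have h1I : (1 : A) ∈ I := by rw [hI]; trivial
    have hmono : Monotone (fun k => (Submodule.map (LinearMap.fst A A M) (Θ k).ker : Ideal A)) := by
      intro k k' hkk
      refine Submodule.map_mono ?_
      intro z hz
      obtain ⟨d, rfl⟩ := le_iff_exists_add.mp hkk
      simp only [Θ, LinearMap.mem_ker, LinearMap.prod_apply, Pi.prod, Prod.mk_eq_zero] at hz ⊢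
      have h1 := congrArg Prod.fst hz
      have h2 := congrArg Prod.snd hz
      simp only [Function.prod, Pi.prod, LinearMap.smul_apply, Prod.fst_zero, Prod.snd_zero] at h1 h2 ⊢
      ext1
      · simpa using h1
      · simp only [Prod.snd_zero]
        rw [pow_add, mul_comm, mul_smul, h2, smul_zero]
    obtain ⟨k, hk⟩ := (Submodule.mem_iSup_of_directed _ hmono.directed_le).mp h1I
    obtain ⟨⟨s, a⟩, hker, hs⟩ := hk
    obtain rfl : s = 1 := hs
    simp [Θ, LinearMap.toSpanSingleton_apply, sub_eq_zero] at hker
    refine ⟨a, k, hker.1, ?_⟩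
    simpa [smul_sub, sub_eq_zero] using hker.2

end Descent

section Glueable

variable (R R' : Type u) [CommRing R] [CommRing R'] [Algebra R R'] (f : R)

theorem isGlueable_iff_good (M : Type u) [AddCommGroup M] [Module R M] :
    EtGlue.IsGlueable R R' f M ↔ Good (TensorProduct.mk R R' M 1) f := by
  have ht : ∀ m : M, EtGlue.tensorOfLoc R R' f M (LocalizedModule.mkLinearMap (Submonoid.powers f) M m) =
      EtGlue.locOfTensor R R' f M ((1 : R') ⊗ₜ[R] m) := fun m => IsLocalizedModule.map_apply _ _ _ _ m
  constructor
  · rintro ⟨hi, hm⟩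
    constructor
    · intro m n h1 h2
      apply hi
      refine Prod.ext (by simpa using h1) ?_
      change _ = LocalizedModule.mkLinearMap (Submonoid.powers f) M 0
      rw [map_zero]
      exact (IsLocalizedModule.eq_zero_iff (Submonoid.powers f) _).mpr ⟨⟨f ^ n, n, rfl⟩, h2⟩
    · intro x b n hx
      let s : Submonoid.powers f := ⟨f ^ n, n, rfl⟩
      let y : LocalizedModule (Submonoid.powers f) M :=
        IsLocalizedModule.mk' (LocalizedModule.mkLinearMap (Submonoid.powers f) M) b s
      obtain ⟨m, h1, h2⟩ := hm x y (by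
        apply IsLocalizedModule.smul_injective (LocalizedModule.mkLinearMap (Submonoid.powers f) (R' ⊗[R] M)) s
        simp only [Submonoid.smul_def]
        rw [← map_smul, ← map_smul, show ((s : R) • y) = _ from IsLocalizedModule.mk'_cancel' _ b s, ht]
        exact congrArg _ hx)
      have h3 : LocalizedModule.mkLinearMap (Submonoid.powers f) M (f ^ n • m - b) = 0 := by
        rw [map_sub, map_smul, h2, show (f ^ n • y) = _ from IsLocalizedModule.mk'_cancel' _ b s, sub_self]
      obtain ⟨⟨_, k, rfl⟩, hk⟩ := (IsLocalizedModule.eq_zero_iff (Submonoid.powers f) _).mp h3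
      exact ⟨m, k, h1, hk⟩
  · intro H
    constructor
    · intro m₁ m₂ h
      rw [← sub_eq_zero]
      obtain ⟨⟨_, k, rfl⟩, hk⟩ := (IsLocalizedModule.eq_iff_exists (Submonoid.powers f) _).mp (congrArg Prod.snd h)
      refine H.inj _ k ?_ ?_
      · rw [map_sub, sub_eq_zero]; exact congrArg Prod.fst h
      · rw [smul_sub, sub_eq_zero]; exact hk
    · intro x y hxy
      obtain ⟨⟨b, s⟩, hb⟩ := IsLocalizedModule.surj (Submonoid.powers f) (LocalizedModule.mkLinearMap (Submonoid.powers f) M) y
      obtain ⟨_, n, rfl⟩ := s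
      have hb' : f ^ n • y = LocalizedModule.mkLinearMap (Submonoid.powers f) M b := hb
      have h1 : EtGlue.locOfTensor R R' f M (f ^ n • x) = EtGlue.locOfTensor R R' f M ((1 : R') ⊗ₜ[R] b) := by
        rw [map_smul, hxy, ← map_smul, hb', ht]
      obtain ⟨⟨_, d, rfl⟩, hd⟩ := (IsLocalizedModule.eq_iff_exists (Submonoid.powers f) _).mp h1
      obtain ⟨m, k, h2, h3⟩ := H.mid x (f ^ d • b) (d + n) (by
        rw [pow_add, mul_smul, TensorProduct.mk_apply, TensorProduct.tmul_smul]
        exact hd)
      refine ⟨m, h2, ?_⟩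
      apply IsLocalizedModule.smul_injective (LocalizedModule.mkLinearMap (Submonoid.powers f) M) (⟨f ^ n, n, rfl⟩ : Submonoid.powers f)
      simp only [Submonoid.smul_def]
      rw [hb', ← map_smul]
      refine (IsLocalizedModule.eq_iff_exists (Submonoid.powers f) _).mpr ⟨(⟨f ^ (k + d), k + d, rfl⟩ : Submonoid.powers f), ?_⟩
      simp only [Submonoid.smul_def]
      rw [smul_sub, sub_eq_zero] at h3
      rw [smul_smul, smul_smul] at h3
      rw [smul_smul, ← pow_add]
      rw [← pow_add, ← pow_add] at h3
      rw [show k + d + n = k + (d + n) by ring]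
      exact h3

variable (A : Type u) [CommRing A] [Algebra R A]

/-- `a ↦ a ⊗ 1`. -/
noncomputable def unitMap : A →ₗ[A] A ⊗[R] R' := LinearMap.toSpanSingleton A _ (1 ⊗ₜ 1)

@[simp] theorem unitMap_apply (a : A) : unitMap R R' A a = a ⊗ₜ 1 := by
  simp [unitMap, LinearMap.toSpanSingleton_apply, TensorProduct.smul_tmul']

theorem isGlueable_iff_algebra :
    EtGlue.IsGlueable R R' f A ↔ Good (unitMap R R' A) (algebraMap R A f) := by
  rw [isGlueable_iff_good]
  constructor
  · refine good_congr _ _ _ _ (AddEquiv.refl A) (TensorProduct.comm R R' A).toAddEquiv (fun m => by simp)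
      (fun m => (algebraMap_smul A f m).symm) (fun m => ?_)
    rw [algebraMap_smul]
    exact map_smul (TensorProduct.comm R R' A) f m
  · refine good_congr _ _ _ _ (AddEquiv.refl A) (TensorProduct.comm R R' A).symm.toAddEquiv (fun m => by simp)
      (fun m => (algebraMap_smul A f m)) (fun m => ?_)
    rw [algebraMap_smul]
    exact map_smul (TensorProduct.comm R R' A).symm f m

variable (B : Type u) [CommRing B] [Algebra R B] [Algebra A B] [IsScalarTower R A B]

theorem good_unitMap_iff :
    Good (LinearMap.lTensor B (unitMap R R' A)) (algebraMap R A f) ↔ Good (unitMap R R' B) (algebraMap R B f) := by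
  have hg : ∀ {N : Type u} [AddCommGroup N] [Module A N] [Module B N] [IsScalarTower A B N] (z : N),
      algebraMap R A f • z = algebraMap R B f • z := by
    intro N _ _ _ _ z
    rw [IsScalarTower.algebraMap_apply R A B, algebraMap_smul B]
  have hv : ∀ z : B ⊗[A] A, TensorProduct.AlgebraTensorModule.cancelBaseChange R A B B R'
      (LinearMap.lTensor B (unitMap R R' A) z) = unitMap R R' B (TensorProduct.AlgebraTensorModule.rid A B B z) := by
    intro z
    induction z using TensorProduct.induction_on with
    | zero => simp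
    | tmul b a => simp [TensorProduct.AlgebraTensorModule.cancelBaseChange_tmul, TensorProduct.smul_tmul']
    | add z w hz hw => rw [map_add, map_add, map_add, hz, hw, map_add]
  constructor
  · refine good_congr _ _ _ _ (TensorProduct.AlgebraTensorModule.rid A B B).toAddEquiv
      (TensorProduct.AlgebraTensorModule.cancelBaseChange R A B B R').toAddEquiv hv (fun m => ?_) (fun m => ?_)
    · change TensorProduct.AlgebraTensorModule.rid A B B _ = _
      rw [hg m, map_smul]
      rfl
    · change TensorProduct.AlgebraTensorModule.cancelBaseChange R A B B R' _ = _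
      rw [hg m, map_smul]
      rfl
  · refine good_congr _ _ _ _ (TensorProduct.AlgebraTensorModule.rid A B B).symm.toAddEquiv
      (TensorProduct.AlgebraTensorModule.cancelBaseChange R A B B R').symm.toAddEquiv (fun m => ?_) (fun m => ?_) (fun m => ?_)
    · change (TensorProduct.AlgebraTensorModule.cancelBaseChange R A B B R').symm _ =
        LinearMap.lTensor B _ ((TensorProduct.AlgebraTensorModule.rid A B B).symm m)
      rw [LinearEquiv.symm_apply_eq, hv, LinearEquiv.apply_symm_apply]
    · change (TensorProduct.AlgebraTensorModule.rid A B B).symm _ = _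
      rw [map_smul]
      exact (hg ((TensorProduct.AlgebraTensorModule.rid A B B).symm m)).symm
    · change (TensorProduct.AlgebraTensorModule.cancelBaseChange R A B B R').symm _ = _
      rw [map_smul]
      exact (hg ((TensorProduct.AlgebraTensorModule.cancelBaseChange R A B B R').symm m)).symm

theorem isGlueable_of_flat [Module.Flat A B] (h : EtGlue.IsGlueable R R' f A) : EtGlue.IsGlueable R R' f B :=
  (isGlueable_iff_algebra R R' f B).mpr
    ((good_unitMap_iff R R' f A B).mp (((isGlueable_iff_algebra R R' f A).mp h).baseChange B))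

theorem isGlueable_of_cover {ι : Type*} (C : ι → Type u) [∀ j, CommRing (C j)] [∀ j, Algebra R (C j)]
    [∀ j, Algebra A (C j)] [∀ j, IsScalarTower R A (C j)] [∀ j, Module.Flat A (C j)]
    (hsurj : ∀ p : PrimeSpectrum A, ∃ j, p ∈ Set.range (PrimeSpectrum.comap (algebraMap A (C j))))
    (h : ∀ j, EtGlue.IsGlueable R R' f (C j)) : EtGlue.IsGlueable R R' f A :=
  (isGlueable_iff_algebra R R' f A).mpr (good_of_cover _ _ C hsurj fun j =>
    (good_unitMap_iff R R' f A (C j)).mpr ((isGlueable_iff_algebra R R' f (C j)).mp (h j)))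

end Glueable

end GrothLib.AlgSp.GlueFlat
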