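import Groth.Agent.Lib.AlgSp.GlueFlat
import Groth.Agent.Lib.AlgSp.FormalLift
import Groth.Agent.Lib.AlgSp.Points
import Mathlib.AlgebraicGeometry.Morphisms.OpenImmersion
import Mathlib.AlgebraicGeometry.Morphisms.Etale
import Mathlib.AlgebraicGeometry.Morphisms.FlatMono

/-!
# Morphisms between glueable spaces are determined on `U` and `X'`
-/

set_option backward.isDefEq.respectTransparency false

universe u

open CategoryTheory CategoryTheory.Limits AlgebraicGeometry Opposite TensorProduct

namespace GrothLib.AlgSp.GlueHom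

open GrothLib.AlgSp

variable {R R' : Type u} [CommRing R] [CommRing R'] [Algebra R R'] {f : R}

/-! ### Commutative algebra -/

/-- A glueing pair lets every field point lift to the open part or to `R'`. -/
theorem exists_residue_hom (hRR' : EtGlue.IsGlueingPair R R' f) (A K : Type u) [CommRing A] [Field K]
    [Algebra R A] [Algebra R K] (ρ : A →ₐ[R] K) :
    (∃ χ : Localization.Away (algebraMap R A f) →+* K, ∀ a, χ (algebraMap A _ a) = ρ a) ∨
      (∃ χ : A ⊗[R] R' →+* K, ∀ a, χ (a ⊗ₜ 1) = ρ a) := by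
  by_cases h : algebraMap R K f = 0
  · right
    let J : Ideal R := Ideal.span {f ^ 1}
    have hb := hRR'.1 1 Nat.one_pos
    let e : R ⧸ J ≃+* R' ⧸ J.map (algebraMap R R') := RingEquiv.ofBijective _ hb
    let π : R ⧸ J →+* K := Ideal.Quotient.lift J (algebraMap R K) (by
      intro a ha
      obtain ⟨c, rfl⟩ := Ideal.mem_span_singleton'.mp ha
      simp [h])
    let σ : R' →+* K := (π.comp e.symm.toRingHom).comp (Ideal.Quotient.mk _)
    let σ' : R' →ₐ[R] K :=
      { σ with
        commutes' := fun r => by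
          change π (e.symm (Ideal.Quotient.mk _ (algebraMap R R' r))) = _
          have : Ideal.Quotient.mk (J.map (algebraMap R R')) (algebraMap R R' r) = e (Ideal.Quotient.mk J r) := rfl
          rw [this, RingEquiv.symm_apply_apply]
          rfl }
    refine ⟨(Algebra.TensorProduct.lift ρ σ' (fun _ _ => Commute.all _ _)).toRingHom, fun a => ?_⟩
    simp
  · left
    refine ⟨IsLocalization.Away.lift (algebraMap R A f) (g := ρ.toRingHom) ?_, fun a =>
      IsLocalization.Away.lift_eq _ _ a⟩
    simpa using isUnit_iff_ne_zero.mpr h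

theorem eq_of_span_eq {D : Type u} [CommRing D] {e e' : D} (he : IsIdempotentElem e) (he' : IsIdempotentElem e')
    (h : Ideal.span ({e} : Set D) = Ideal.span {e'}) : e = e' := by
  obtain ⟨c, hc⟩ := Ideal.mem_span_singleton'.mp (h ▸ Ideal.mem_span_singleton_self e)
  obtain ⟨c', hc'⟩ := Ideal.mem_span_singleton'.mp (h.symm ▸ Ideal.mem_span_singleton_self e')
  calc e = c * e' := hc.symm
    _ = c * e' * e' := by rw [mul_assoc, he'.eq]
    _ = e * e' := by rw [hc]
    _ = e * (c' * e) := by rw [hc']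
    _ = c' * e := by rw [mul_comm e, mul_assoc, he.eq]
    _ = e' := hc'

/-- An ideal which becomes idempotent on both parts is killed near each prime containing it. -/
theorem exists_notMem_annihilator (hRR' : EtGlue.IsGlueingPair R R' f) (C K : Type u) [CommRing C] [Field K]
    [Algebra R C] [Algebra R K] (hC : EtGlue.IsGlueable R R' f C) (I : Ideal C) (ρ : C →ₐ[R] K)
    (hIρ : ∀ x ∈ I, ρ x = 0)
    (h₁ : ∃ e, IsIdempotentElem e ∧ I.map (algebraMap C (Localization.Away (algebraMap R C f))) = Ideal.span {e})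
    (h₂ : ∃ e, IsIdempotentElem e ∧
      I.map (Algebra.TensorProduct.includeLeftRingHom : C →+* C ⊗[R] R') = Ideal.span {e}) :
    ∃ h : C, ρ h ≠ 0 ∧ ∀ x ∈ I, h * x = 0 := by
  have H := (GlueFlat.isGlueable_iff_algebra R R' f C).mp hC
  set g := algebraMap R C f with hg
  obtain ⟨e₁, he₁, hs₁⟩ := h₁
  obtain ⟨e₂, he₂, hs₂⟩ := h₂
  let ι : C →+* C ⊗[R] R' := Algebra.TensorProduct.includeLeftRingHom
  have hsmul : ∀ (c : C) (z : C ⊗[R] R'), c • z = ι c * z := by
    intro c z
    induction z using TensorProduct.induction_on with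
    | zero => simp
    | tmul a r => simp [ι, TensorProduct.smul_tmul']
    | add a b ha hb => rw [smul_add, ha, hb, mul_add]
  let D := Localization.Away (ι g)
  let lam : Localization.Away g →+* D := Localization.awayMap ι g
  have hlam : ∀ c, lam (algebraMap C _ c) = algebraMap _ D (ι c) := fun c =>
    IsLocalization.map_eq _ c
  have heq : lam e₁ = algebraMap _ D e₂ := by
    refine eq_of_span_eq (he₁.map lam) (he₂.map (algebraMap _ D)) ?_
    rw [← Set.image_singleton (f := lam), ← Ideal.map_span, ← hs₁, ← Set.image_singleton (f := algebraMap _ D), ← Ideal.map_span,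
      ← hs₂, Ideal.map_map, Ideal.map_map]
    congr 1
    exact RingHom.ext hlam
  obtain ⟨⟨b, ⟨_, n, rfl⟩⟩, hb⟩ := IsLocalization.surj (Submonoid.powers g) e₁
  simp only at hb
  have h1 : algebraMap _ D (e₂ * ι (g ^ n)) = algebraMap _ D (ι b) := by
    rw [map_mul, ← heq, ← hlam, ← hlam, ← map_mul, hb]
  obtain ⟨⟨_, d, rfl⟩, hd⟩ := (IsLocalization.eq_iff_exists (Submonoid.powers (ι g)) D).mp h1
  simp only at hd
  obtain ⟨m, k, hm, hk⟩ := H.mid e₂ (g ^ d * b) (d + n) (by
    rw [hsmul, GlueFlat.unitMap_apply]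
    change ι (g ^ (d + n)) * e₂ = ι (g ^ d * b)
    rw [pow_add, map_mul, map_mul, map_pow ι g d, mul_assoc, mul_comm (ι (g ^ n)) e₂, hd])
  rw [GlueFlat.unitMap_apply] at hm
  have hm₁ : algebraMap C (Localization.Away g) m = e₁ := by
    have h3 := congrArg (algebraMap C (Localization.Away g)) hk
    simp only [smul_eq_mul, map_mul, map_sub, map_zero] at h3
    have hu : ∀ j, IsUnit (algebraMap C (Localization.Away g) (g ^ j)) := fun j =>
      IsLocalization.map_units (Localization.Away g) (⟨g ^ j, j, rfl⟩ : Submonoid.powers g)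
    rw [(hu k).mul_right_eq_zero, sub_eq_zero] at h3
    apply (hu (d + n)).mul_left_cancel
    rw [h3, pow_add, map_mul, mul_assoc, mul_comm _ e₁, hb]
  refine ⟨1 - m, ?_, fun x hx => ?_⟩
  · rcases exists_residue_hom hRR' C K ρ with ⟨χ, hχ⟩ | ⟨χ, hχ⟩
    · have : χ e₁ = 0 := by
        have hle : I.map (algebraMap C (Localization.Away g)) ≤ RingHom.ker χ :=
          Ideal.map_le_iff_le_comap.mpr fun x hx => by
            change χ (algebraMap C _ x) = 0
            rw [hχ]; exact hIρ x hx
        exact hle (hs₁ ▸ Ideal.mem_span_singleton_self e₁)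
      rw [← hm₁, hχ] at this
      simp [this]
    · have : χ e₂ = 0 := by
        have hle : I.map ι ≤ RingHom.ker χ :=
          Ideal.map_le_iff_le_comap.mpr fun x hx => by
            change χ (x ⊗ₜ 1) = 0
            rw [hχ]; exact hIρ x hx
        exact hle (hs₂ ▸ Ideal.mem_span_singleton_self e₂)
      rw [← hm, hχ] at this
      simp [this]
  · have k₁ : algebraMap C (Localization.Away g) ((1 - m) * x) = 0 := by
      obtain ⟨c, hc⟩ := Ideal.mem_span_singleton'.mp (hs₁ ▸ Ideal.mem_map_of_mem _ hx)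
      rw [map_mul, map_sub, map_one, hm₁, ← hc, mul_left_comm, sub_mul, one_mul, he₁.eq, sub_self, mul_zero]
    have k₂ : ι ((1 - m) * x) = 0 := by
      obtain ⟨c, hc⟩ := Ideal.mem_span_singleton'.mp (hs₂ ▸ Ideal.mem_map_of_mem ι hx)
      rw [map_mul, map_sub, map_one, show ι m = e₂ from hm, ← hc, mul_left_comm, sub_mul, one_mul, he₂.eq,
        sub_self, mul_zero]
    obtain ⟨⟨_, j, rfl⟩, hj⟩ := (IsLocalization.map_eq_zero_iff (Submonoid.powers g) _ _).mp k₁
    exact H.inj _ j (by rw [GlueFlat.unitMap_apply]; exact k₂) hj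

/-! ### Geometry -/

/-- The affine scheme of an algebra as an object over the base. -/
noncomputable abbrev specOver (R : Type u) [CommRing R] (A : Type u) [CommRing A] [Algebra R A] :
    Over (Spec (CommRingCat.of R)) :=
  Over.mk (Spec.map (CommRingCat.ofHom (algebraMap R A)))

/-- Algebra homomorphisms as morphisms over the base. -/
noncomputable def specHom {A B : Type u} [CommRing A] [CommRing B] [Algebra R A] [Algebra R B] (ψ : A →ₐ[R] B) :
    specOver R B ⟶ specOver R A :=
  Over.homMk (Spec.map (CommRingCat.ofHom ψ.toRingHom)) (by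
    change Spec.map _ ≫ Spec.map _ = Spec.map _
    rw [← Spec.map_comp]
    congr 1
    ext r
    exact ψ.commutes r)

/-- The ring map of a morphism into an affine object. -/
noncomputable def ringMap {A : Type u} [CommRing A] [Algebra R A] {W : Over (Spec (CommRingCat.of R))}
    [IsAffine W.left] (k : specOver R A ⟶ W) : Γ(W.left, ⊤) ⟶ CommRingCat.of A :=
  Spec.preimage (k.left ≫ W.left.isoSpec.hom)

theorem comp_eq_iff {A B : Type u} [CommRing A] [CommRing B] [Algebra R A] [Algebra R B]
    {W : Over (Spec (CommRingCat.of R))} [IsAffine W.left] (ψ : A →ₐ[R] B) (k l : specOver R A ⟶ W) :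
    specHom ψ ≫ k = specHom ψ ≫ l ↔ ∀ w, ψ ((ringMap k).hom w) = ψ ((ringMap l).hom w) := by
  have hk : ∀ k : specOver R A ⟶ W, (specHom ψ ≫ k).left ≫ W.left.isoSpec.hom =
      Spec.map (ringMap k ≫ CommRingCat.ofHom ψ.toRingHom) := by
    intro k
    rw [Spec.map_comp, ringMap, Spec.map_preimage, Over.comp_left, Category.assoc]
    rfl
  constructor
  · intro h w
    have := hk k
    rw [h, hk l] at this
    exact (congrArg (fun m => m.hom w) (Spec.map_injective this)).symm
  · intro h
    apply Over.OverMorphism.ext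
    rw [← cancel_mono W.left.isoSpec.hom, hk, hk]
    congr 1
    ext w
    exact h w

/-- On a part where two maps to an etale chart have equal images in the space, their equaliser is open. -/
theorem exists_idempotent {Z : AlgSp.Sp (Spec (CommRingCat.of R))}
    {W : Over (Spec (CommRingCat.of R))} [IsAffine W.left] {p : (AlgSp.yon _).obj W ⟶ Z}
    (hp : AlgSp.RepWith @Etale p) {C D : Type u} [CommRing C] [CommRing D] [Algebra R C] [Algebra R D]
    (ψ : C →ₐ[R] D) (k l : specOver R C ⟶ W)
    (h : (AlgSp.yon _).map (specHom ψ ≫ k) ≫ p = (AlgSp.yon _).map (specHom ψ ≫ l) ≫ p) :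
    ∃ e, IsIdempotentElem e ∧
      (Ideal.span (Set.range fun w => (ringMap k).hom w - (ringMap l).hom w)).map ψ.toRingHom = Ideal.span {e} := by
  set I := Ideal.span (Set.range fun w => (ringMap k).hom w - (ringMap l).hom w) with hI
  set J := I.map ψ.toRingHom with hJ
  obtain ⟨V, fst, snd, sq⟩ := exists_isPullback_of_representable hp.1 p
  have hsnd : Etale snd.left := hp.2 p fst snd sq
  obtain ⟨fst, rfl⟩ := (AlgSp.yon _).map_surjective fst
  obtain ⟨δ', hδ₁, hδ₂⟩ := sq.exists_lift (𝟙 _) (𝟙 _) rfl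
  obtain ⟨δ, rfl⟩ := (AlgSp.yon _).map_surjective δ'
  rw [← Functor.map_comp] at hδ₁ hδ₂
  replace hδ₁ : δ ≫ fst = 𝟙 W := (AlgSp.yon _).map_injective (hδ₁.trans ((AlgSp.yon _).map_id W).symm)
  replace hδ₂ : δ ≫ snd = 𝟙 W := (AlgSp.yon _).map_injective (hδ₂.trans ((AlgSp.yon _).map_id W).symm)
  have hδ : IsOpenImmersion δ.left := by
    have h2 : δ.left ≫ snd.left = 𝟙 W.left := congrArg (fun z => z.left) hδ₂
    haveI : Mono δ.left := mono_of_mono_fac h2
    haveI : Etale (δ.left ≫ snd.left) := h2.symm ▸ inferInstanceAs (Etale (𝟙 W.left))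
    haveI : Etale δ.left := Etale.of_comp δ.left snd.left
    exact IsOpenImmersion.of_flat_of_mono δ.left
  obtain ⟨u', hu₁, hu₂⟩ := sq.exists_lift _ _ h
  obtain ⟨u, rfl⟩ := (AlgSp.yon _).map_surjective u'
  rw [← Functor.map_comp] at hu₁ hu₂
  replace hu₁ : u ≫ fst = specHom ψ ≫ k := (AlgSp.yon _).map_injective hu₁
  replace hu₂ : u ≫ snd = specHom ψ ≫ l := (AlgSp.yon _).map_injective hu₂
  let q : CommRingCat.of D ⟶ CommRingCat.of (D ⧸ J) := CommRingCat.ofHom (Ideal.Quotient.mk J)
  suffices hq : IsOpenImmersion (Spec.map q) by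
    obtain ⟨e, he, hk⟩ := (isOpenImmersion_SpecMap_iff_of_surjective q Ideal.Quotient.mk_surjective).mp hq
    exact ⟨e, he, by rw [← hk]; exact (Ideal.mk_ker).symm⟩
  let ι : pullback u.left δ.left ⟶ (specOver R D).left := pullback.fst _ _
  haveI : IsOpenImmersion ι := inferInstanceAs (IsOpenImmersion (pullback.fst u.left δ.left))
  let θ : specOver R (D ⧸ J) ⟶ specOver R D := specHom (Ideal.Quotient.mkₐ R J)
  have hθ : θ.left = Spec.map q := rfl
  have heq : θ ≫ specHom ψ ≫ k = θ ≫ specHom ψ ≫ l := by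
    have hcomp : θ ≫ specHom ψ = specHom ((Ideal.Quotient.mkₐ R J).comp ψ) := by
      apply Over.OverMorphism.ext
      change Spec.map _ ≫ Spec.map _ = Spec.map _
      rw [← Spec.map_comp]
      rfl
    rw [← Category.assoc, ← Category.assoc, hcomp, comp_eq_iff]
    intro w
    change Ideal.Quotient.mk J (ψ _) = Ideal.Quotient.mk J (ψ _)
    rw [Ideal.Quotient.eq, ← map_sub]
    exact Ideal.mem_map_of_mem ψ.toRingHom (Ideal.subset_span ⟨w, rfl⟩)
  have hθu : θ ≫ u = (θ ≫ specHom ψ ≫ k) ≫ δ := by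
    apply (AlgSp.yon _).map_injective
    apply sq.hom_ext
    · rw [← Functor.map_comp, ← Functor.map_comp]
      congr 1
      simp only [Category.assoc, hu₁, hδ₁, Category.comp_id]
    · rw [← Functor.map_comp, ← Functor.map_comp]
      congr 1
      simp only [Category.assoc, hu₂, hδ₂, Category.comp_id]
      exact heq.symm
  let v : Spec (CommRingCat.of (D ⧸ J)) ⟶ pullback u.left δ.left :=
    pullback.lift (Spec.map q) (θ ≫ specHom ψ ≫ k).left (by
      rw [← hθ, ← Over.comp_left, hθu, Over.comp_left])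
  let χ : CommRingCat.of D ⟶ Γ(pullback u.left δ.left, ⊤) :=
    (Scheme.ΓSpecIso (CommRingCat.of D)).inv ≫ ι.appTop
  have hχ : ι = (pullback u.left δ.left).toSpecΓ ≫ Spec.map χ := by
    rw [Spec.map_comp, ← Category.assoc, ← Scheme.toSpecΓ_naturality, Category.assoc]
    erw [toSpecΓ_SpecMap_ΓSpecIso_inv, Category.comp_id]
  let G := Γ(pullback u.left δ.left, ⊤)
  have hw : ∀ j : specOver R C ⟶ W, ι ≫ (specHom ψ ≫ j).left ≫ W.left.isoSpec.hom =
      (pullback u.left δ.left).toSpecΓ ≫ Spec.map (ringMap j ≫ CommRingCat.ofHom ψ.toRingHom ≫ χ) := by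
    intro j
    rw [Spec.map_comp, Spec.map_comp, ringMap, Spec.map_preimage, Over.comp_left, Category.assoc,
      hχ]
    simp only [Category.assoc]
    rfl
  have hkl : ι ≫ (specHom ψ ≫ k).left = ι ≫ (specHom ψ ≫ l).left := by
    rw [← hu₁, ← hu₂, Over.comp_left, Over.comp_left, pullback.condition_assoc, pullback.condition_assoc]
    rw [← Over.comp_left, ← Over.comp_left, hδ₁, hδ₂]
  have hker : ∀ x ∈ J, χ.hom x = 0 := by
    have hle : J ≤ RingHom.ker χ.hom := by
      refine Ideal.map_le_iff_le_comap.mpr (Ideal.span_le.mpr ?_)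
      rintro _ ⟨w, rfl⟩
      change χ.hom (ψ (_ - _)) = 0
      rw [map_sub, map_sub, sub_eq_zero]
      have h3 := hw k
      rw [← Category.assoc, hkl, Category.assoc, hw l] at h3
      have h4 := congrArg (fun m => (Scheme.ΓSpecIso Γ(W.left, ⊤)).inv ≫ Scheme.Hom.appTop m) h3
      simp only [Scheme.Hom.comp_appTop, Scheme.toSpecΓ_appTop, ← Scheme.ΓSpecIso_inv_naturality_assoc,
        Iso.inv_hom_id, Category.comp_id] at h4
      exact (congrArg (fun m => m.hom w) h4).symm
    exact fun x hx => hle hx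
  let v' : pullback u.left δ.left ⟶ Spec (CommRingCat.of (D ⧸ J)) :=
    (pullback u.left δ.left).toSpecΓ ≫ Spec.map (CommRingCat.ofHom (Ideal.Quotient.lift J χ.hom hker))
  have hv' : v' ≫ Spec.map q = ι := by
    rw [hχ, Category.assoc, ← Spec.map_comp]
    rfl
  have hv : v ≫ ι = Spec.map q := pullback.lift_fst _ _ _
  haveI : Mono (Spec.map q) := by
    have : IsClosedImmersion (Spec.map q) := IsClosedImmersion.spec_of_surjective q Ideal.Quotient.mk_surjective
    infer_instance
  haveI : IsIso v := ⟨v', by rw [← cancel_mono (Spec.map q), Category.assoc, hv', hv, Category.id_comp],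
    by rw [← cancel_mono ι, Category.assoc, hv, hv', Category.id_comp]⟩
  rw [← hv]
  infer_instance

theorem exists_lift_of_agree {Y : AlgSp.Sp (Spec (CommRingCat.of R))} {X₀ P : Over (Spec (CommRingCat.of R))}
    {YU : AlgSp.Sp (Spec (CommRingCat.of R))} {uY : YU ⟶ Y} {vY : YU ⟶ (AlgSp.yon _).obj X₀}
    {t : Y ⟶ (AlgSp.yon _).obj (Over.mk (𝟙 (Spec (CommRingCat.of R))))} {inU : X₀ ⟶ Over.mk (𝟙 _)}
    (hYU : IsPullback uY vY t ((AlgSp.yon _).map inU)) (ν : P ⟶ X₀) (y : (AlgSp.yon _).obj P ⟶ Y) :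
    ∃ y', y' ≫ uY = y := by
  obtain ⟨y', h, -⟩ := hYU.exists_lift y ((AlgSp.yon _).map ν) (by
    obtain ⟨z, hz⟩ := (AlgSp.yon _).map_surjective (y ≫ t)
    rw [← hz, ← Functor.map_comp]
    congr 1
    apply Over.OverMorphism.ext
    have h₁ := Over.w z
    have h₂ := Over.w (ν ≫ inU)
    simp only [Over.mk_hom, Category.comp_id] at h₁ h₂
    exact h₁.trans h₂.symm)
  exact ⟨y', h⟩

end GrothLib.AlgSp.GlueHom
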