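import Groth.Agent.Lib.AlgSp.GlueHomEq
import Groth.Agent.Lib.AlgSp.DiagAffine
import Groth.Agent.Lib.AlgSp.AffineMor
import Groth.Agent.S10724
import Groth.Agent.S10727
import Mathlib.CategoryTheory.Limits.Constructions.Over.Products

/-!
# Glueing maps from glueable affines into spaces with affine diagonal
-/

set_option backward.isDefEq.respectTransparency false

universe u

open CategoryTheory CategoryTheory.Limits AlgebraicGeometry Opposite TensorProduct

namespace GrothLib.AlgSp.GlueHom

open GrothLib.AlgSp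

variable {R : Type u} [CommRing R]

theorem specHom_injective {A B : Type u} [CommRing A] [CommRing B] [Algebra R A] [Algebra R B]
    {φ ψ : A →ₐ[R] B} (h : specHom φ = specHom ψ) : φ = ψ := by
  have h' : CommRingCat.ofHom φ.toRingHom = CommRingCat.ofHom ψ.toRingHom :=
    Spec.map_injective (congrArg (fun z => z.left) h)
  exact AlgHom.ext fun a => congrArg (fun z => z.hom a) h'

theorem etale_specHom_iff {A B : Type u} [CommRing A] [CommRing B] [Algebra R A] [Algebra R B]
    (φ : A →ₐ[R] B) : Etale (specHom φ).left ↔ φ.toRingHom.Etale :=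
  HasRingHomProperty.Spec_iff (P := @Etale)

variable {Z : AlgSp.Space (Spec (CommRingCat.of R))}

/-- Fibre products of affines over a space with affine diagonal are affine. -/
theorem exists_affine_chart (hZd : AlgSp.IsAffineMor (Limits.diag Z.obj)) {W : Over (Spec (CommRingCat.of R))}
    [IsAffine W.left] {q : (AlgSp.yon _).obj W ⟶ Z.obj} (qe : AlgSp.RepWith @Etale q) {E : Type u} [CommRing E]
    [Algebra R E] (γ : (AlgSp.yon _).obj (specOver R E) ⟶ Z.obj) :
    ∃ (A₁ : Type u) (_ : CommRing A₁) (_ : Algebra R A₁) (w₁ : specOver R A₁ ⟶ W) (τ₁ : E →ₐ[R] A₁),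
      IsPullback ((AlgSp.yon _).map w₁) ((AlgSp.yon _).map (specHom τ₁)) q γ ∧ τ₁.toRingHom.Etale := by
  obtain ⟨V, t, s, sq⟩ := exists_isPullback_of_representable qe.1 γ
  have hs : Etale s.left := qe.2 _ t s sq
  obtain ⟨t, rfl⟩ := (AlgSp.yon _).map_surjective t
  haveI : IsAffineHom (prod.lift t s).left := prop_prodLift_of_repWith_diag (isAffineMor_iff.1 hZd) sq
  haveI : IsAffine (specOver R E).left := inferInstanceAs (IsAffine (Spec _))
  haveI : IsAffine (W ⨯ specOver R E).left := .of_isIso (Over.prodLeftIsoPullback W (specOver R E)).hom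
  haveI : IsAffine V.left := isAffine_of_isAffineHom (prod.lift t s).left
  obtain ⟨A₁, _, _, ⟨e⟩⟩ := exists_specOver_iso V
  obtain ⟨τ₁, hτ₁⟩ := exists_algHom (e.hom ≫ s)
  refine ⟨A₁, inferInstance, inferInstance, e.hom ≫ t, τ₁, ?_, ?_⟩
  · rw [hτ₁, Functor.map_comp, Functor.map_comp]
    exact IsPullback.of_iso sq ((AlgSp.yon _).mapIso e.symm) (Iso.refl _) (Iso.refl _) (Iso.refl _)
      (by simp) (by simp) (by simp) (by simp)
  · rw [← etale_specHom_iff, hτ₁, Over.comp_left]
    have : Etale e.hom.left := inferInstance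
    infer_instance

/-- Ring valued points of a fibre product chart. -/
theorem exists_algHom_of_pullback {W : Over (Spec (CommRingCat.of R))} {q : (AlgSp.yon _).obj W ⟶ Z.obj}
    {E A₁ : Type u} [CommRing E] [Algebra R E] [CommRing A₁] [Algebra R A₁]
    {γ : (AlgSp.yon _).obj (specOver R E) ⟶ Z.obj} {w₁ : specOver R A₁ ⟶ W} {τ₁ : E →ₐ[R] A₁}
    (sq : IsPullback ((AlgSp.yon _).map w₁) ((AlgSp.yon _).map (specHom τ₁)) q γ) {D : Type u} [CommRing D]
    [Algebra R D] (w : specOver R D ⟶ W) (σ : E →ₐ[R] D)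
    (h : (AlgSp.yon _).map w ≫ q = (AlgSp.yon _).map (specHom σ) ≫ γ) :
    ∃ g : A₁ →ₐ[R] D, specHom g ≫ w₁ = w ∧ g.comp τ₁ = σ := by
  obtain ⟨l, h₁, h₂⟩ := sq.exists_lift _ _ h
  obtain ⟨l, rfl⟩ := (AlgSp.yon _).map_surjective l
  obtain ⟨g, rfl⟩ := exists_algHom l
  rw [← Functor.map_comp] at h₁ h₂
  replace h₁ := (AlgSp.yon _).map_injective h₁
  replace h₂ := (AlgSp.yon _).map_injective h₂
  exact ⟨g, h₁, specHom_injective (by rw [specHom_comp, h₂])⟩

theorem algHom_ext_of_pullback {W : Over (Spec (CommRingCat.of R))} {q : (AlgSp.yon _).obj W ⟶ Z.obj}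
    {E A₁ : Type u} [CommRing E] [Algebra R E] [CommRing A₁] [Algebra R A₁]
    {γ : (AlgSp.yon _).obj (specOver R E) ⟶ Z.obj} {w₁ : specOver R A₁ ⟶ W} {τ₁ : E →ₐ[R] A₁}
    (sq : IsPullback ((AlgSp.yon _).map w₁) ((AlgSp.yon _).map (specHom τ₁)) q γ) {D : Type u} [CommRing D]
    [Algebra R D] {g g' : A₁ →ₐ[R] D} (hw : specHom g ≫ w₁ = specHom g' ≫ w₁) (hσ : g.comp τ₁ = g'.comp τ₁) :
    g = g' := by
  refine specHom_injective ((AlgSp.yon _).map_injective (sq.hom_ext ?_ ?_))
  · rw [← Functor.map_comp, ← Functor.map_comp, hw]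
  · rw [← Functor.map_comp, ← Functor.map_comp, ← specHom_comp, ← specHom_comp, hσ]

variable {R' : Type u} [CommRing R'] [Algebra R R'] {f : R}

/-- Algebra maps out of a localization extending a map from `A`. -/
theorem exists_awayHom {A D : Type u} [CommRing A] [Algebra R A] [CommRing D] [Algebra R D] (σ : A →ₐ[R] D)
    (h : IsUnit (algebraMap R D f)) :
    ∃ σ₀ : Localization.Away (algebraMap R A f) →ₐ[R] D, σ₀.comp (IsScalarTower.toAlgHom R A _) = σ := by
  have hu : IsUnit (σ (algebraMap R A f)) := by rw [σ.commutes]; exact h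
  refine ⟨{ IsLocalization.Away.lift (algebraMap R A f) (g := σ.toRingHom) hu with commutes' := fun r => ?_ }, ?_⟩
  · rw [IsScalarTower.algebraMap_apply R A (Localization.Away (algebraMap R A f))]
    exact (IsLocalization.Away.lift_eq _ hu _).trans (σ.commutes r)
  · exact AlgHom.ext fun a => IsLocalization.Away.lift_eq _ hu a

theorem awayHom_ext {A D : Type u} [CommRing A] [Algebra R A] [CommRing D] [Algebra R D]
    {σ σ' : Localization.Away (algebraMap R A f) →ₐ[R] D}
    (h : σ.comp (IsScalarTower.toAlgHom R A _) = σ'.comp (IsScalarTower.toAlgHom R A _)) : σ = σ' :=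
  AlgHom.coe_ringHom_injective (IsLocalization.ringHom_ext (Submonoid.powers (algebraMap R A f))
    (RingHom.ext fun a => DFunLike.congr_fun h a))

theorem isUnit_away (A : Type u) [CommRing A] [Algebra R A] :
    IsUnit (algebraMap R (Localization.Away (algebraMap R A f)) f) := by
  rw [IsScalarTower.algebraMap_apply R A (Localization.Away (algebraMap R A f))]
  exact IsLocalization.Away.algebraMap_isUnit _

/-- The pairs `(σ, γ)` agreeing with `y` along `σA`. -/
def Piece {A B E : Type u} [CommRing A] [Algebra R A] [CommRing B] [Algebra R B] [CommRing E] [Algebra R E]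
    (ιE : A →ₐ[R] E) (σA : A →ₐ[R] B) (y : (AlgSp.yon _).obj (specOver R B) ⟶ Z.obj)
    (γ : (AlgSp.yon _).obj (specOver R E) ⟶ Z.obj) : Prop :=
  ∀ {D : Type u} [CommRing D] [Algebra R D] (g : B →ₐ[R] D) (σ : E →ₐ[R] D), σ.comp ιE = g.comp σA →
    (AlgSp.yon _).map (specHom g) ≫ y = (AlgSp.yon _).map (specHom σ) ≫ γ

variable (hRR' : EtGlue.IsGlueingPair R R' f) (hZd : AlgSp.IsAffineMor (Limits.diag Z.obj))
  {A : Type u} [CommRing A] [Algebra R A] (hA : EtGlue.IsGlueable R R' f A)
  (α : (AlgSp.yon _).obj (specOver R (Localization.Away (algebraMap R A f))) ⟶ Z.obj)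
  (β : (AlgSp.yon _).obj (specOver R (A ⊗[R] R')) ⟶ Z.obj)
  (hcompat : ∀ {D : Type u} [CommRing D] [Algebra R D] (g₁ : Localization.Away (algebraMap R A f) →ₐ[R] D)
    (g₂ : A ⊗[R] R' →ₐ[R] D), g₁.comp (IsScalarTower.toAlgHom R A _) = g₂.comp Algebra.TensorProduct.includeLeft →
    (AlgSp.yon _).map (specHom g₁) ≫ α = (AlgSp.yon _).map (specHom g₂) ≫ β)

include hRR' hZd hA hcompat

/-- A glueable etale piece over which the two maps glue. -/
theorem exists_piece (t : PrimeSpectrum A) :
    ∃ (B : Type u) (_ : CommRing B) (_ : Algebra R B) (σA : A →ₐ[R] B)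
      (y : (AlgSp.yon _).obj (specOver R B) ⟶ Z.obj), EtGlue.IsGlueable R R' f B ∧ σA.toRingHom.Etale ∧
        t ∈ Set.range (PrimeSpectrum.comap σA.toRingHom) ∧
        Piece (IsScalarTower.toAlgHom R A (Localization.Away (algebraMap R A f))) σA y α ∧
        Piece (Algebra.TensorProduct.includeLeft : A →ₐ[R] A ⊗[R] R') σA y β := by
  let ι₁ : A →ₐ[R] Localization.Away (algebraMap R A f) := IsScalarTower.toAlgHom R A _
  let ι₂ : A →ₐ[R] A ⊗[R] R' := Algebra.TensorProduct.includeLeft
  -- the field point at `t` and an affine chart around its image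
  let K := t.asIdeal.ResidueField
  let ρ : A →ₐ[R] K := IsScalarTower.toAlgHom R A K
  obtain ⟨zK, hzK₁, hzK₂⟩ : ∃ zK : (AlgSp.yon _).obj (specOver R K) ⟶ Z.obj,
      (∀ σ, σ.comp ι₁ = ρ → zK = (AlgSp.yon _).map (specHom σ) ≫ α) ∧
      (∀ σ, σ.comp ι₂ = ρ → zK = (AlgSp.yon _).map (specHom σ) ≫ β) := by
    by_cases hf : IsUnit (algebraMap R K f)
    · obtain ⟨σ₀, hσ₀⟩ := exists_awayHom ρ hf
      refine ⟨(AlgSp.yon _).map (specHom σ₀) ≫ α, fun σ hσ => ?_, fun σ hσ => hcompat σ₀ σ (hσ₀.trans hσ.symm)⟩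
      rw [awayHom_ext (hσ.trans hσ₀.symm)]
    · obtain ⟨r'⟩ := (part_field hRR' K).resolve_left hf
      let σ₀ : A ⊗[R] R' →ₐ[R] K := Algebra.TensorProduct.lift ρ r' (fun _ _ => Commute.all _ _)
      refine ⟨(AlgSp.yon _).map (specHom σ₀) ≫ β, fun σ hσ => absurd ?_ hf, fun σ hσ => ?_⟩
      · rw [← σ.commutes]
        exact (isUnit_away A).map σ
      · -- homomorphisms from `R'` to a field killing `f` are unique
        have huniq : ∀ r : R', σ ((1 : A) ⊗ₜ[R] r) = r' r := by
          intro r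
          obtain ⟨x, hx⟩ := (hRR'.1 1 Nat.one_pos).2 (Ideal.Quotient.mk _ r)
          obtain ⟨x, rfl⟩ := Ideal.Quotient.mk_surjective x
          have hmem : r - algebraMap R R' x ∈ Ideal.map (algebraMap R R') (Ideal.span {f ^ 1}) :=
            (Ideal.Quotient.eq.mp hx.symm)
          rw [Ideal.map_span, Set.image_singleton, pow_one] at hmem
          obtain ⟨c, hc⟩ := Ideal.mem_span_singleton'.mp hmem
          have hr : r = algebraMap R R' x + c * algebraMap R R' f := by rw [hc]; ring
          have hf0 : algebraMap R K f = 0 := by_contra fun h => hf (isUnit_iff_ne_zero.mpr h)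
          have h1 : ∀ g : R' →ₐ[R] K, g r = algebraMap R K x := by
            intro g
            rw [hr, map_add, map_mul, g.commutes, g.commutes, hf0, mul_zero, add_zero]
          exact (h1 (σ.comp Algebra.TensorProduct.includeRight)).trans (h1 r').symm
        congr 2
        refine congrArg specHom (Algebra.TensorProduct.ext ?_ ?_)
        · refine AlgHom.ext fun a => ?_
          have := DFunLike.congr_fun hσ a
          simpa [σ₀, ι₂] using this.symm
        · refine AlgHom.ext fun r => ?_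
          simpa [σ₀] using (huniq r).symm
  obtain ⟨W₀, q₀, q₀e, q₀s⟩ := Z.property.atlas
  let pt : ↥(specOver R K).left := IsLocalRing.closedPoint K
  obtain ⟨w₀, hw₀⟩ := surjective_ofPt_of_repWith q₀s (AlgSp.Points.ofPt zK pt)
  obtain ⟨W, jW, hW, hjW, wp, hwp⟩ := exists_affine_nhd W₀ w₀
  let q : (AlgSp.yon _).obj W ⟶ Z.obj := (AlgSp.yon _).map jW ≫ q₀
  have qe : AlgSp.RepWith @Etale q := repWith_comp (repWith_yon_map (inferInstance : Etale jW.left)) q₀e
  obtain ⟨A₁, _, _, w₁, τ₁, sq₁, hτ₁⟩ := exists_affine_chart hZd qe α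
  obtain ⟨A', _, _, w', τ', sq', hτ'⟩ := exists_affine_chart hZd qe β
  -- the `R'`-algebra structure on `A'` and the glueing isomorphism
  letI : Algebra R' A' := (τ'.comp Algebra.TensorProduct.includeRight).toRingHom.toAlgebra
  haveI : IsScalarTower R R' A' := IsScalarTower.of_algebraMap_eq fun r =>
    ((τ'.comp Algebra.TensorProduct.includeRight).commutes r).symm
  have h₁ : IsUnit (algebraMap R A₁ f) := by
    rw [← τ₁.commutes]
    exact (isUnit_away A).map τ₁
  let j₁ : A₁ →ₐ[R] R' ⊗[R] A₁ := Algebra.TensorProduct.includeRight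
  let σ : A ⊗[R] R' →ₐ[R] R' ⊗[R] A₁ := Algebra.TensorProduct.lift ((j₁.comp τ₁).comp ι₁)
    Algebra.TensorProduct.includeLeft (fun _ _ => Commute.all _ _)
  have hσ : σ.comp ι₂ = (j₁.comp τ₁).comp ι₁ := Algebra.TensorProduct.lift_comp_includeLeft _ _ _
  obtain ⟨v₀, hv₀w, hv₀σ⟩ := exists_algHom_of_pullback sq' (specHom j₁ ≫ w₁) σ (by
    rw [Functor.map_comp, Category.assoc, sq₁.w, ← Functor.map_comp_assoc, ← specHom_comp]
    exact hcompat (j₁.comp τ₁) σ hσ.symm)
  have hloc : IsUnit (algebraMap R (Localization.Away (algebraMap R A' f)) f) := isUnit_away A'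
  let l' : A' →ₐ[R] Localization.Away (algebraMap R A' f) := IsScalarTower.toAlgHom R A' _
  obtain ⟨σ₁, hσ₁⟩ := exists_awayHom (f := f) ((l'.comp τ').comp ι₂) hloc
  obtain ⟨g₁, hg₁w, hg₁σ⟩ := exists_algHom_of_pullback sq₁ (specHom l' ≫ w') σ₁ (by
    rw [Functor.map_comp, Category.assoc, sq'.w, ← Functor.map_comp_assoc, ← specHom_comp]
    exact (hcompat σ₁ (l'.comp τ') hσ₁).symm)
  have hv₀R' : ∀ r : R', v₀ (algebraMap R' A' r) = r ⊗ₜ[R] (1 : A₁) := by
    intro r
    have := DFunLike.congr_fun hv₀σ ((1 : A) ⊗ₜ[R] r)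
    simpa [σ, RingHom.algebraMap_toAlgebra] using this
  let vR : A' →ₐ[R'] R' ⊗[R] A₁ :=
    { v₀.toRingHom with commutes' := fun r => (hv₀R' r).trans rfl }
  have hvu : IsUnit (vR (algebraMap R A' f)) := by
    change IsUnit (v₀ (algebraMap R A' f))
    rw [v₀.commutes, ← j₁.commutes]
    exact h₁.map j₁
  let φf : Localization.Away (algebraMap R A' f) →ₐ[R'] R' ⊗[R] A₁ :=
    { IsLocalization.Away.lift (algebraMap R A' f) (g := vR.toRingHom) hvu with
      commutes' := fun r => by
        rw [IsScalarTower.algebraMap_apply R' A' (Localization.Away (algebraMap R A' f))]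
        exact (IsLocalization.Away.lift_eq _ hvu _).trans (vR.commutes r) }
  have hφf : ∀ x : A', φf (algebraMap A' _ x) = v₀ x := fun x => IsLocalization.Away.lift_eq _ hvu x
  let φb : R' ⊗[R] A₁ →ₐ[R'] Localization.Away (algebraMap R A' f) :=
    Algebra.TensorProduct.lift (Algebra.ofId R' _) g₁ (fun _ _ => Commute.all _ _)
  have hφb₁ : ∀ a, φb ((1 : R') ⊗ₜ[R] a) = g₁ a := fun a => by simp [φb]
  have hφb₂ : ∀ r, φb (r ⊗ₜ[R] (1 : A₁)) = algebraMap R' _ r := fun r => by simp [φb]
  have hfb : φf.comp φb = AlgHom.id R' _ := by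
    apply Algebra.TensorProduct.ext
    · exact Subsingleton.elim _ _
    · have : (φf.restrictScalars R).comp g₁ = j₁ := by
        refine algHom_ext_of_pullback sq₁ ?_ (awayHom_ext ?_)
        · rw [specHom_comp, Category.assoc, hg₁w, ← Category.assoc, ← specHom_comp,
            show (φf.restrictScalars R).comp l' = v₀ from AlgHom.ext hφf, hv₀w]
        · rw [AlgHom.comp_assoc, AlgHom.comp_assoc, ← AlgHom.comp_assoc g₁, hg₁σ, hσ₁,
            ← AlgHom.comp_assoc, ← AlgHom.comp_assoc,
            show (φf.restrictScalars R).comp l' = v₀ from AlgHom.ext hφf, hv₀σ, hσ]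
      refine AlgHom.ext fun a => ?_
      change φf (φb ((1 : R') ⊗ₜ[R] a)) = (1 : R') ⊗ₜ[R] a
      rw [hφb₁]
      exact DFunLike.congr_fun this a
  have hbf : φb.comp φf = AlgHom.id R' _ := by
    have : (φb.restrictScalars R).comp v₀ = l' := by
      refine algHom_ext_of_pullback sq' ?_ ?_
      · rw [specHom_comp, Category.assoc, hv₀w, ← Category.assoc, ← specHom_comp,
          show (φb.restrictScalars R).comp j₁ = g₁ from AlgHom.ext hφb₁, hg₁w]
      · rw [AlgHom.comp_assoc, hv₀σ]
        refine Algebra.TensorProduct.ext ?_ ?_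
        · change ((φb.restrictScalars R).comp σ).comp ι₂ = (l'.comp τ').comp ι₂
          rw [AlgHom.comp_assoc, hσ, ← hσ₁, ← hg₁σ, ← AlgHom.comp_assoc, ← AlgHom.comp_assoc,
            show (φb.restrictScalars R).comp j₁ = g₁ from AlgHom.ext hφb₁]
        · refine AlgHom.ext fun r => ?_
          change φb (σ ((1 : A) ⊗ₜ[R] r)) = algebraMap A' _ (algebraMap R' A' r)
          rw [← IsScalarTower.algebraMap_apply, ← hφb₂]
          simp [σ]
    apply AlgHom.coe_ringHom_injective
    refine IsLocalization.ringHom_ext (Submonoid.powers (algebraMap R A' f)) (RingHom.ext fun x => ?_)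
    change φb (φf (algebraMap A' _ x)) = algebraMap A' _ x
    rw [hφf]
    exact DFunLike.congr_fun this x
  let φ : Localization.Away (algebraMap R A' f) ≃ₐ[R'] R' ⊗[R] A₁ := AlgEquiv.ofAlgHom φf φb hfb hbf
  have hφ : ∀ x : A', φ (algebraMap A' _ x) = v₀ x := hφf
  obtain ⟨B, _, _, hB, e₁, e', he⟩ := Groth.Agent.S10727.result R R' f hRR' A₁ h₁ A' φ
  -- the universal property of `B`
  have HB := (GlueFlat.isGlueable_iff_good R R' f B).mp hB
  let lB : B →ₐ[R] Localization.Away (algebraMap R B f) := IsScalarTower.toAlgHom R B _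
  let p₁ : B →ₐ[R] A₁ := e₁.toAlgHom.comp lB
  let p' : B →ₐ[R] A' := (e'.toAlgHom.restrictScalars R).comp Algebra.TensorProduct.includeRight
  have hp : ∀ b, v₀ (p' b) = (1 : R') ⊗ₜ[R] p₁ b := fun b => (hφ _).symm.trans (he b)
  have hsmulR : ∀ (n : ℕ) (x : A'), algebraMap R A' f ^ n * x = f ^ n • x := fun n x => by
    rw [Algebra.smul_def, map_pow]
  have hinjB : ∀ b b', p₁ b = p₁ b' → p' b = p' b' → b = b' := by
    intro b b' h1 h2
    rw [← sub_eq_zero]
    obtain ⟨⟨_, n, rfl⟩, hn⟩ := (IsLocalization.eq_iff_exists (Submonoid.powers (algebraMap R B f))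
      (Localization.Away (algebraMap R B f))).mp (e₁.injective h1)
    refine HB.inj _ n ?_ ?_
    · rw [map_sub, sub_eq_zero]
      exact e'.injective h2
    · rw [Algebra.smul_def, map_pow, mul_sub, sub_eq_zero]
      exact hn
  have hsurjB : ∀ (x : A') (z : A₁), v₀ x = (1 : R') ⊗ₜ[R] z → ∃ b, p₁ b = z ∧ p' b = x := by
    intro x z hxz
    obtain ⟨⟨b₀, ⟨_, n, rfl⟩⟩, hb₀⟩ := IsLocalization.surj (Submonoid.powers (algebraMap R B f)) (e₁.symm z)
    have hz₀ : z * algebraMap R A₁ f ^ n = p₁ b₀ := by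
      have := congrArg e₁ hb₀
      simp only [map_mul, map_pow, AlgEquiv.apply_symm_apply, ← IsScalarTower.algebraMap_apply,
        AlgEquiv.commutes] at this
      exact this
    have h3 : v₀ (algebraMap R A' f ^ n * x) = v₀ (p' b₀) := by
      rw [hp, map_mul, map_pow, v₀.commutes, hxz, ← hz₀, ← j₁.commutes, ← map_pow]
      change ((1 : R') ⊗ₜ[R] (algebraMap R A₁ f ^ n)) * ((1 : R') ⊗ₜ[R] z) = _
      rw [Algebra.TensorProduct.tmul_mul_tmul, mul_one, mul_comm z]
    rw [← hφ, ← hφ] at h3
    obtain ⟨⟨_, d, rfl⟩, hd⟩ := (IsLocalization.eq_iff_exists (Submonoid.powers (algebraMap R A' f))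
      (Localization.Away (algebraMap R A' f))).mp (φ.injective h3)
    obtain ⟨m, k, hm, hk⟩ := HB.mid (e'.symm x) (f ^ d • b₀) (d + n) (by
      apply e'.injective
      change (e'.restrictScalars R) _ = (e'.restrictScalars R) _
      rw [map_smul, map_smul, map_smul]
      change f ^ (d + n) • e' (e'.symm x) = f ^ d • e' _
      rw [AlgEquiv.apply_symm_apply, ← hsmulR, ← hsmulR, pow_add, mul_assoc]
      exact hd)
    refine ⟨m, ?_, ?_⟩
    · have hu : ∀ j, IsUnit (algebraMap R A₁ f ^ j) := fun j => h₁.pow j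
      have h4 := congrArg p₁ hk
      simp only [map_zero, map_smul, map_sub, Algebra.smul_def, map_mul, map_pow, AlgHom.commutes] at h4
      rw [(hu k).mul_right_eq_zero, sub_eq_zero, pow_add, mul_assoc] at h4
      have h5 := (hu d).mul_left_cancel h4
      apply (hu n).mul_left_cancel
      rw [h5, mul_comm, ← hz₀]
    · change e' ((1 : R') ⊗ₜ[R] m) = x
      rw [← e'.apply_symm_apply x]
      exact congrArg e' hm
  have hlift : ∀ {X : Type u} [CommRing X] [Algebra R X] (h' : X →ₐ[R] A') (h₁ : X →ₐ[R] A₁),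
      v₀.comp h' = j₁.comp h₁ → ∃ h : X →ₐ[R] B, p₁.comp h = h₁ ∧ p'.comp h = h' := by
    intro X _ _ h' h₁' hc
    choose h hh₁ hh' using fun x => hsurjB (h' x) (h₁' x) (DFunLike.congr_fun hc x)
    refine ⟨{ toFun := h
              map_one' := hinjB _ _ (by rw [hh₁]; simp) (by rw [hh']; simp)
              map_mul' := fun a b => hinjB _ _ (by rw [hh₁, map_mul p₁, hh₁, hh₁]; simp)
                (by rw [hh', map_mul p', hh', hh']; simp)
              map_zero' := hinjB _ _ (by rw [hh₁]; simp) (by rw [hh']; simp)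
              map_add' := fun a b => hinjB _ _ (by rw [hh₁, map_add p₁, hh₁, hh₁]; simp)
                (by rw [hh', map_add p', hh', hh']; simp)
              commutes' := fun r => hinjB _ _ (by rw [hh₁]; simp) (by rw [hh']; simp) },
      AlgHom.ext hh₁, AlgHom.ext hh'⟩
  obtain ⟨σA, hσA₁, hσA'⟩ := hlift (τ'.comp ι₂) (τ₁.comp ι₁) (by
    rw [← AlgHom.comp_assoc, hv₀σ, hσ, AlgHom.comp_assoc])
  obtain ⟨G, _, _, ⟨eW⟩⟩ := exists_specOver_iso W
  obtain ⟨ω₁, hω₁⟩ := exists_algHom (w₁ ≫ eW.inv)
  obtain ⟨ω', hω'⟩ := exists_algHom (w' ≫ eW.inv)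
  obtain ⟨κ, hκ₁, hκ'⟩ := hlift ω' ω₁ (specHom_injective (by
    rw [specHom_comp, specHom_comp, hω', hω₁, ← Category.assoc, hv₀w, Category.assoc]))
  obtain ⟨wQ, hwQ⟩ : ∃ wQ : specOver R B ⟶ W, wQ = specHom κ ≫ eW.hom := ⟨_, rfl⟩
  have hwQ₁ : specHom p₁ ≫ wQ = w₁ := by
    rw [hwQ, ← Category.assoc, ← specHom_comp, hκ₁, hω₁, Category.assoc, eW.inv_hom_id, Category.comp_id]
  have hwQ' : specHom p' ≫ wQ = w' := by
    rw [hwQ, ← Category.assoc, ← specHom_comp, hκ', hω', Category.assoc, eW.inv_hom_id, Category.comp_id]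
  refine ⟨B, inferInstance, inferInstance, σA, (AlgSp.yon _).map wQ ≫ q, hB, ?_, ?_, ?_, ?_⟩
  · -- etale, detected on the two parts
    apply (Groth.Agent.S10724.result R R' f hRR' A B hA hB σA).mpr
    constructor
    · have : (Localization.awayMap σA.toRingHom (algebraMap R A f)) =
          (Localization.awayMap σA.toRingHom (algebraMap R A f)) := rfl
      have hu' : σA.toRingHom (algebraMap R A f) = algebraMap R B f := σA.commutes f
      have key : ∀ (g : B) (hg : σA.toRingHom (algebraMap R A f) = g) (e : Localization.Away g →+* A₁),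
          Function.Bijective e → (∀ a, e (algebraMap B _ (σA a)) = τ₁ (ι₁ a)) →
          (Localization.awayMap σA.toRingHom (algebraMap R A f)).Etale := by
        rintro g rfl e he hea
        have hcomp : e.comp (Localization.awayMap σA.toRingHom (algebraMap R A f)) = τ₁.toRingHom := by
          refine IsLocalization.ringHom_ext (Submonoid.powers (algebraMap R A f)) (RingHom.ext fun a => ?_)
          change e (Localization.awayMap σA.toRingHom (algebraMap R A f) (algebraMap A _ a)) = τ₁ (ι₁ a)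
          rw [Localization.awayMap, IsLocalization.Away.map, IsLocalization.map_eq]
          exact hea a
        let ee := RingEquiv.ofBijective e he
        have : Localization.awayMap σA.toRingHom (algebraMap R A f) = ee.symm.toRingHom.comp τ₁.toRingHom := by
          rw [← hcomp, ← RingHom.comp_assoc]
          ext x
          exact (ee.symm_apply_apply _).symm
        rw [this]
        exact RingHom.Etale.stableUnderComposition _ _ hτ₁ (RingHom.Etale.of_bijective ee.symm.bijective)
      exact key _ hu' e₁.toRingEquiv.toRingHom e₁.bijective (fun a => DFunLike.congr_fun hσA₁ a)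
    · let cm : R' ⊗[R] A ≃ₐ[R] A ⊗[R] R' := Algebra.TensorProduct.comm R R' A
      have : (Algebra.TensorProduct.map (AlgHom.id R R') σA).toRingHom =
          (e'.toRingEquiv.symm.toRingHom.comp τ'.toRingHom).comp cm.toRingEquiv.toRingHom := by
        have h5 : (e'.toAlgHom.restrictScalars R).comp (Algebra.TensorProduct.map (AlgHom.id R R') σA) =
            τ'.comp cm.toAlgHom := by
          refine Algebra.TensorProduct.ext ?_ ?_
          · refine AlgHom.ext fun r => ?_
            change e' (r ⊗ₜ[R] σA 1) = τ' (cm (r ⊗ₜ[R] (1 : A)))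
            rw [map_one, show r ⊗ₜ[R] (1 : B) = algebraMap R' (R' ⊗[R] B) r from rfl, e'.commutes]
            rfl
          · refine AlgHom.ext fun a => ?_
            exact DFunLike.congr_fun hσA' a
        refine RingHom.ext fun x => ?_
        have h6 := DFunLike.congr_fun h5 x
        exact e'.toRingEquiv.injective (h6.trans (e'.toRingEquiv.apply_symm_apply _).symm)
      rw [this]
      exact RingHom.Etale.stableUnderComposition _ _ (RingHom.Etale.of_bijective cm.bijective)
        (RingHom.Etale.stableUnderComposition _ _ hτ' (RingHom.Etale.of_bijective e'.toRingEquiv.symm.bijective))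
  · -- the point `t`
    have hK : Part R R' f K := part_field hRR' K
    have hW : AlgSp.Points.ofPt q wp = AlgSp.Points.ofPt zK pt := by
      rw [ofPt_map_comp, hwp, hw₀]
    have haux : ∀ {E A₀ : Type u} [CommRing E] [Algebra R E] [CommRing A₀] [Algebra R A₀]
        (γ : (AlgSp.yon _).obj (specOver R E) ⟶ Z.obj) (w : specOver R A₀ ⟶ W) (τ : E →ₐ[R] A₀)
        (ιE : A →ₐ[R] E) (σ₀ : E →ₐ[R] K) (pB : B →ₐ[R] A₀),
        IsPullback ((AlgSp.yon _).map w) ((AlgSp.yon _).map (specHom τ)) q γ → σ₀.comp ιE = ρ →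
        zK = (AlgSp.yon _).map (specHom σ₀) ≫ γ → pB.comp σA = τ.comp ιE →
        t ∈ Set.range (PrimeSpectrum.comap σA.toRingHom) := by
      intro E A₀ _ _ _ _ γ w τ ιE σ₀ pB sq hσ₀ hz hpB
      obtain ⟨r, -, hr⟩ := (ofPt_eq_ofPt_iff sq wp ((specHom σ₀).left pt)).mp
        (hW.trans ((congrArg (fun z => AlgSp.Points.ofPt z pt) hz).trans (ofPt_map_comp (specHom σ₀) γ pt)))
      refine ⟨PrimeSpectrum.comap pB.toRingHom r, ?_⟩
      change PrimeSpectrum.comap σA.toRingHom (PrimeSpectrum.comap pB.toRingHom r) = t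
      rw [← PrimeSpectrum.comap_comp_apply, show pB.toRingHom.comp σA.toRingHom = τ.toRingHom.comp ιE.toRingHom from
        congrArg AlgHom.toRingHom hpB, PrimeSpectrum.comap_comp_apply]
      change PrimeSpectrum.comap ιE.toRingHom ((specHom τ).left r) = t
      rw [hr]
      change PrimeSpectrum.comap ιE.toRingHom (PrimeSpectrum.comap σ₀.toRingHom pt) = t
      rw [← PrimeSpectrum.comap_comp_apply, show σ₀.toRingHom.comp ιE.toRingHom = ρ.toRingHom from
        congrArg AlgHom.toRingHom hσ₀]
      ext1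

      change Ideal.comap (algebraMap A K) (IsLocalRing.maximalIdeal K) = t.asIdeal
      rw [IsLocalRing.maximalIdeal_eq_bot]
      exact (RingHom.ker_eq_comap_bot _).symm.trans (Ideal.ker_algebraMap_residueField t.asIdeal)
    rcases hK with hK | ⟨⟨r'⟩⟩
    · obtain ⟨σ₀, hσ₀⟩ := exists_awayHom ρ hK
      exact haux α w₁ τ₁ ι₁ σ₀ p₁ sq₁ hσ₀ (hzK₁ σ₀ hσ₀) hσA₁
    · let σ₀ : A ⊗[R] R' →ₐ[R] K := Algebra.TensorProduct.lift ρ r' (fun _ _ => Commute.all _ _)
      have hσ₀ : σ₀.comp ι₂ = ρ := Algebra.TensorProduct.lift_comp_includeLeft _ _ _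
      exact haux β w' τ' ι₂ σ₀ p' sq' hσ₀ (hzK₂ σ₀ hσ₀) hσA'
  · -- agreement with `α`
    intro D _ _ g σ₀ hg
    have hu : IsUnit (algebraMap R D f) := by
      rw [← σ₀.commutes]
      exact (isUnit_away A).map σ₀
    obtain ⟨gB, hgB⟩ := exists_awayHom g hu
    let g₁' : A₁ →ₐ[R] D := gB.comp e₁.symm.toAlgHom
    have hg₁' : g₁'.comp p₁ = g := by
      refine AlgHom.ext fun b => ?_
      change gB (e₁.symm (e₁ (lB b))) = g b
      rw [AlgEquiv.symm_apply_apply]
      exact DFunLike.congr_fun hgB b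
    have hτ : g₁'.comp τ₁ = σ₀ := awayHom_ext (by rw [AlgHom.comp_assoc, ← hσA₁, ← AlgHom.comp_assoc, hg₁', ← hg])
    rw [← hg₁', ← hτ, specHom_comp p₁ g₁', specHom_comp τ₁ g₁', Functor.map_comp,
      Functor.map_comp, Category.assoc, Category.assoc, ← Functor.map_comp_assoc (AlgSp.yon _) (specHom p₁), hwQ₁, sq₁.w]
  · -- agreement with `β`
    intro D _ _ g σ₀ hg
    let gB : R' ⊗[R] B →ₐ[R] D :=
      Algebra.TensorProduct.lift (σ₀.comp Algebra.TensorProduct.includeRight) g (fun _ _ => Commute.all _ _)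
    let g'' : A' →ₐ[R] D := gB.comp (e'.symm.toAlgHom.restrictScalars R)
    have hg'' : g''.comp p' = g := by
      refine AlgHom.ext fun b => ?_
      change gB (e'.symm (e' ((1 : R') ⊗ₜ[R] b))) = g b
      rw [AlgEquiv.symm_apply_apply]
      simp [gB, ← Algebra.TensorProduct.one_def]
    have hτ : g''.comp τ' = σ₀ := by
      refine Algebra.TensorProduct.ext ?_ ?_
      · change (g''.comp τ').comp ι₂ = σ₀.comp ι₂
        rw [AlgHom.comp_assoc, ← hσA', ← AlgHom.comp_assoc, hg'']
        exact hg.symm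
      · refine AlgHom.ext fun r => ?_
        change gB (e'.symm (algebraMap R' A' r)) = σ₀ ((1 : A) ⊗ₜ[R] r)
        rw [e'.symm.commutes]
        simp [gB, ← Algebra.TensorProduct.one_def]
    rw [← hg'', ← hτ, specHom_comp p' g'', specHom_comp τ' g'', Functor.map_comp,
      Functor.map_comp, Category.assoc, Category.assoc, ← Functor.map_comp_assoc (AlgSp.yon _) (specHom p'), hwQ', sq'.w]

omit hRR' hZd hA hcompat in
/-- Fibre products of affines over an affine are affine. -/
theorem exists_specOver_pullback {A B C : Type u} [CommRing A] [CommRing B] [CommRing C] [Algebra R A] [Algebra R B]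
    [Algebra R C] (φ : A →ₐ[R] B) (ψ : A →ₐ[R] C) :
    ∃ (P : Type u) (_ : CommRing P) (_ : Algebra R P) (e : specOver R P ⟶ pullback (specHom φ) (specHom ψ)),
      IsIso e := by
  let sq := isPullback_left (IsPullback.of_hasPullback (specHom φ) (specHom ψ))
  haveI : IsAffine (pullback (specHom φ).left (specHom ψ).left) := by
    haveI : IsAffine (specOver R A).left := inferInstanceAs (IsAffine (Spec _))
    haveI : IsAffine (specOver R B).left := inferInstanceAs (IsAffine (Spec _))
    haveI : IsAffine (specOver R C).left := inferInstanceAs (IsAffine (Spec _))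
    infer_instance
  haveI : IsAffine (pullback (specHom φ) (specHom ψ)).left := .of_isIso sq.isoPullback.hom
  obtain ⟨P, _, _, ⟨e⟩⟩ := exists_specOver_iso (pullback (specHom φ) (specHom ψ))
  exact ⟨P, inferInstance, inferInstance, e.hom, inferInstance⟩

/-- The two maps glue to a map on `Spec A`. -/
theorem exists_hom_affine :
    ∃ φT : (AlgSp.yon _).obj (specOver R A) ⟶ Z.obj,
      (AlgSp.yon _).map (specHom (IsScalarTower.toAlgHom R A (Localization.Away (algebraMap R A f)))) ≫ φT = α ∧
      (AlgSp.yon _).map (specHom (Algebra.TensorProduct.includeLeft : A →ₐ[R] A ⊗[R] R')) ≫ φT = β := by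
  choose B iB iRB σA y hB hσA hmem hα hβ using exists_piece hRR' hZd hA α β hcompat
  have het : ∀ t, Etale (specHom (σA t)).left := fun t => (etale_specHom_iff _).mpr (hσA t)
  have hcov : ∀ x : ↥(specOver R A).left, ∃ t y, (specHom (σA t)).left y = x := fun x => ⟨x, hmem x⟩
  obtain ⟨φT, hφT, -⟩ := exists_hom_of_cover (fun t : PrimeSpectrum A => specOver R (B t)) (fun t => specHom (σA t))
    (fun t => by have := het t; infer_instance) (fun t => by have := het t; infer_instance) hcov y (by
    intro i j Z' gi gj hg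
    obtain ⟨C, _, _, e, he⟩ := exists_specOver_pullback (σA i) (σA j)
    obtain ⟨gi', hgi⟩ := exists_algHom (e ≫ pullback.fst (specHom (σA i)) (specHom (σA j)))
    obtain ⟨gj', hgj⟩ := exists_algHom (e ≫ pullback.snd (specHom (σA i)) (specHom (σA j)))
    have heq : gi'.comp (σA i) = gj'.comp (σA j) :=
      specHom_injective (by rw [specHom_comp, specHom_comp, hgi, hgj, Category.assoc, Category.assoc, pullback.condition])
    have hC : EtGlue.IsGlueable R R' f C := by
      refine glueable_of_etale (hB i) (specHom gi') ?_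
      rw [hgi, Over.comp_left]
      haveI := het j
      haveI : Etale (pullback.fst (specHom (σA i)) (specHom (σA j))).left :=
        MorphismProperty.of_isPullback (isPullback_left (IsPullback.of_hasPullback _ _)).flip (het j)
      infer_instance
    have hC' : (AlgSp.yon _).map (specHom gi') ≫ y i = (AlgSp.yon _).map (specHom gj') ≫ y j := by
      refine eq_of_agree hRR' Z hC _ _ fun {D} _ _ ψ hD => ?_
      rw [← Functor.map_comp_assoc, ← Functor.map_comp_assoc, ← specHom_comp, ← specHom_comp]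
      rcases hD with hD | ⟨⟨r'⟩⟩
      · obtain ⟨σ₀, hσ₀⟩ := exists_awayHom ((ψ.comp gi').comp (σA i)) hD
        rw [hα i (ψ.comp gi') σ₀ hσ₀, hα j (ψ.comp gj') σ₀
          (by rw [hσ₀, AlgHom.comp_assoc, heq, AlgHom.comp_assoc])]
      · let σ₀ : A ⊗[R] R' →ₐ[R] D :=
          Algebra.TensorProduct.lift ((ψ.comp gi').comp (σA i)) r' (fun _ _ => Commute.all _ _)
        have hσ₀ : σ₀.comp Algebra.TensorProduct.includeLeft = (ψ.comp gi').comp (σA i) :=
          Algebra.TensorProduct.lift_comp_includeLeft _ _ _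
        rw [hβ i (ψ.comp gi') σ₀ hσ₀, hβ j (ψ.comp gj') σ₀
          (by rw [hσ₀, AlgHom.comp_assoc, heq, AlgHom.comp_assoc])]
    rw [hgi, hgj] at hC'
    have h₁ : (pullback.lift gi gj hg ≫ inv e) ≫ e ≫ pullback.fst (specHom (σA i)) (specHom (σA j)) = gi := by simp
    have h₂ : (pullback.lift gi gj hg ≫ inv e) ≫ e ≫ pullback.snd (specHom (σA i)) (specHom (σA j)) = gj := by simp
    have h₃ := congrArg (fun z => (AlgSp.yon _).map (pullback.lift gi gj hg ≫ inv e) ≫ z) hC'
    simp only [← Functor.map_comp_assoc, h₁, h₂] at h₃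
    exact h₃)
  have hres : ∀ {E : Type u} [CommRing E] [Algebra R E] (ιE : A →ₐ[R] E)
      (γ : (AlgSp.yon _).obj (specOver R E) ⟶ Z.obj), (∀ t, Piece ιE (σA t) (y t) γ) →
      (AlgSp.yon _).map (specHom ιE) ≫ φT = γ := by
    intro E _ _ ιE γ hγ
    have key : ∀ x : ↥(specOver R E).left, ∃ (V : Over (Spec (CommRingCat.of R))) (c : V ⟶ specOver R E),
        Etale c.left ∧ x ∈ Set.range c.left ∧
          (AlgSp.yon _).map c ≫ (AlgSp.yon _).map (specHom ιE) ≫ φT = (AlgSp.yon _).map c ≫ γ := by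
      intro x
      obtain ⟨t, p, hp⟩ := hcov ((specHom ιE).left x)
      obtain ⟨C, _, _, e, he⟩ := exists_specOver_pullback ιE (σA t)
      have sq := isPullback_left (IsPullback.of_hasPullback (specHom ιE) (specHom (σA t)))
      obtain ⟨σ, hσ⟩ := exists_algHom (e ≫ pullback.fst (specHom ιE) (specHom (σA t)))
      obtain ⟨g, hg⟩ := exists_algHom (e ≫ pullback.snd (specHom ιE) (specHom (σA t)))
      refine ⟨_, specHom σ, ?_, ?_, ?_⟩
      · rw [hσ, Over.comp_left]
        haveI : Etale (pullback.fst (specHom ιE) (specHom (σA t))).left :=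
          MorphismProperty.of_isPullback sq.flip (het t)
        infer_instance
      · obtain ⟨z, hz₁, hz₂⟩ := Scheme.Pullback.exists_preimage_pullback (f := (specHom ιE).left)
          (g := (specHom (σA t)).left) x p hp.symm
        refine ⟨(inv e).left (sq.isoPullback.inv z), ?_⟩
        rw [hσ, ← Scheme.Hom.comp_apply (inv e).left, ← Over.comp_left, IsIso.inv_hom_id_assoc,
          ← Scheme.Hom.comp_apply, IsPullback.isoPullback_inv_fst]
        exact hz₁
      · have heq : σ.comp ιE = g.comp (σA t) :=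
          specHom_injective (by rw [specHom_comp, specHom_comp, hσ, hg, Category.assoc, Category.assoc, pullback.condition])
        rw [← Functor.map_comp_assoc, ← specHom_comp, heq, specHom_comp, Functor.map_comp, Category.assoc, hφT t]
        exact hγ t g σ heq
    choose V c hc hmem' heq using key
    obtain ⟨v, -, huniq⟩ := exists_hom_of_cover V c (fun t => by have := hc t; infer_instance)
      (fun t => by have := hc t; infer_instance) (fun x => ⟨x, hmem' x⟩) (fun t => (AlgSp.yon _).map (c t) ≫ γ)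
      (fun i j Z gi gj hg => by rw [← Functor.map_comp_assoc, hg, Functor.map_comp_assoc])
    exact (huniq _ heq).trans (huniq γ fun _ => rfl).symm
  exact ⟨φT, hres _ α hα, hres _ β hβ⟩

end GrothLib.AlgSp.GlueHom
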