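import Groth.Agent.Lib.AlgSp.GorSpace

/-!
# Base change of Gorenstein morphisms of algebraic spaces
-/

set_option autoImplicit false
set_option backward.isDefEq.respectTransparency false
set_option linter.style.haveILetI false

universe u

open CategoryTheory CategoryTheory.Limits AlgebraicGeometry

namespace GrothLib.AlgSp

open _root_.AlgSp

variable {S : Scheme.{u}} {X Y X' Y' : Sp S}

theorem lnFibres_baseChange {f : X ⟶ Y} {g : Y' ⟶ Y} {g' : X' ⟶ X} {f' : X' ⟶ Y'}
    (hsq : IsPullback g' f' f g) (hf : LNFibres f) : LNFibres f' := by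
  intro k Xk a b sq
  refine hf (k.map g) Xk (a ≫ g') b ?_
  rw [FieldPt.toHom_map]
  exact sq.paste_horiz hsq

/-- A point of a fibre product lifts to the fibre product of charts. -/
theorem exists_chart_of_fibreProduct (hX : IsAlgSpace X) (hY : IsAlgSpace Y) (hY' : IsAlgSpace Y')
    {f : X ⟶ Y} {g : Y' ⟶ Y} {g' : X' ⟶ X} {f' : X' ⟶ Y'} (hsq : IsPullback g' f' f g) (x' : Points X') :
    ∃ (U V U'' V'' : Over S) (a : (yon S).obj U ⟶ X) (q : (yon S).obj V ⟶ Y) (p' : (yon S).obj V'' ⟶ Y')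
      (l : (yon S).obj U'' ⟶ X') (α : U ⟶ V) (β : V'' ⟶ V) (α'' : U'' ⟶ V'') (π : U'' ⟶ U) (u : ↥U''.left),
      RepWith @Etale a ∧ RepWith @Etale q ∧ RepWith @Etale p' ∧ RepWith @Etale l ∧
      a ≫ f = (yon S).map α ≫ q ∧ p' ≫ g = (yon S).map β ≫ q ∧ l ≫ f' = (yon S).map α'' ≫ p' ∧
      l ≫ g' = (yon S).map π ≫ a ∧ IsPullback π.left α''.left α.left β.left ∧ Points.ofPt l u = x' := by
  obtain ⟨V, q, qe, qs⟩ := hY.atlas
  obtain ⟨V'', p', β, pe, hp, hps⟩ := exists_chart_over hY' hY g q qe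
  obtain ⟨U, a₁, a₁e, a₁s⟩ := (isAlgSpace_pullback' hY hX (IsAlgSpace.yon_obj V) f q).atlas
  obtain ⟨α, hα⟩ := (yon S).map_surjective (a₁ ≫ pullback.snd f q)
  have ha : (a₁ ≫ pullback.fst f q) ≫ f = (yon S).map α ≫ q := by
    rw [hα, Category.assoc, Category.assoc, pullback.condition]
  -- the part of `X'` over `V''`
  let M := pullback f' p'
  have sqM : IsPullback (pullback.fst f' p' ≫ g') (pullback.snd f' p') f ((yon S).map β ≫ q) := by
    rw [← hp]
    exact (IsPullback.of_hasPullback f' p').paste_horiz hsq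
  let m : M ⟶ pullback f q := pullback.lift (pullback.fst f' p' ≫ g') (pullback.snd f' p' ≫ (yon S).map β)
    (by rw [sqM.w, Category.assoc])
  have sqm : IsPullback m (pullback.snd f' p') (pullback.snd f q) ((yon S).map β) := by
    refine IsPullback.of_right ?_ (pullback.lift_snd _ _ _) (IsPullback.of_hasPullback f q)
    rw [pullback.lift_fst]
    exact sqM
  have sqU : IsPullback ((yon S).map (pullback.fst α β)) ((yon S).map (pullback.snd α β))
      (a₁ ≫ pullback.snd f q) ((yon S).map β) := by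
    rw [← hα]
    exact (IsPullback.of_hasPullback α β).map (yon S)
  let l₀ : (yon S).obj (pullback α β) ⟶ M := sqm.lift ((yon S).map (pullback.fst α β) ≫ a₁)
    ((yon S).map (pullback.snd α β)) (by rw [Category.assoc, sqU.w])
  have sq₀ : IsPullback ((yon S).map (pullback.fst α β)) l₀ a₁ m := by
    refine IsPullback.of_bot ?_ (sqm.lift_fst _ _ _).symm sqm
    rw [sqm.lift_snd]
    exact sqU
  let l : (yon S).obj (pullback α β) ⟶ X' := l₀ ≫ pullback.fst f' p'
  have le : RepWith @Etale l :=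
    repWith_comp (repWith_of_isPullback sq₀ a₁e) (repWith_of_isPullback (IsPullback.of_hasPullback f' p').flip pe)
  have ls : RepWith @Surjective l :=
    repWith_comp (repWith_of_isPullback sq₀ a₁s)
      (repWith_of_isPullback (IsPullback.of_hasPullback f' p').flip (hps qs))
  obtain ⟨u, hu⟩ := surjective_ofPt_of_repWith ls x'
  refine ⟨U, V, pullback α β, V'', a₁ ≫ pullback.fst f q, q, p', l, α, β, pullback.snd α β, pullback.fst α β, u,
    repWith_comp a₁e (repWith_of_isPullback (IsPullback.of_hasPullback f q).flip qe), qe, pe, le, ha, hp, ?_, ?_,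
    isPullback_left (IsPullback.of_hasPullback α β), hu⟩
  · rw [Category.assoc, pullback.condition, ← Category.assoc, sqm.lift_snd]
  · have e : l₀ ≫ m ≫ pullback.fst f q = ((yon S).map (pullback.fst α β) ≫ a₁) ≫ pullback.fst f q := by
      rw [← Category.assoc, sqm.lift_fst]
    rw [pullback.lift_fst] at e
    rw [Category.assoc, e, Category.assoc]

theorem gorAt_baseChange_iff (hX : IsAlgSpace X) (hY : IsAlgSpace Y) (hY' : IsAlgSpace Y')
    {f : X ⟶ Y} {g : Y' ⟶ Y} {g' : X' ⟶ X} {f' : X' ⟶ Y'} (hsq : IsPullback g' f' f g) (hf : LNFibres f)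
    (hg : LocP @LocallyOfFiniteType g) (x' : Points X') :
    (LocPAt (fun h u => Dual3.IsGorensteinAt h u) f (Points.map g' x') →
        LocPAt (fun h u => Dual3.IsGorensteinAt h u) f' x') ∧
      (IsFlatAtMor f (Points.map g' x') → LocPAt (fun h u => Dual3.IsGorensteinAt h u) f' x' →
        LocPAt (fun h u => Dual3.IsGorensteinAt h u) f (Points.map g' x')) ∧
      (IsFlatAtMor g (Points.map f' x') → LocPAt (fun h u => Dual3.IsGorensteinAt h u) f' x' →
        LocPAt (fun h u => Dual3.IsGorensteinAt h u) f (Points.map g' x')) := by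
  obtain ⟨U, V, U'', V'', a, q, p', l, α, β, α'', π, u, ae, qe, pe, le, ha, hp, hl, hlg, sq, hu⟩ :=
    exists_chart_of_fibreProduct hX hY hY' hsq x'
  subst hu
  have e₁ : Points.map g' (Points.ofPt l u) = Points.ofPt a (π.left u) := by
    rw [Points.map_ofPt, hlg, ofPt_map_comp]
  have e₂ : Points.map f' (Points.ofPt l u) = Points.ofPt p' (α''.left u) := by
    rw [Points.map_ofPt, hl, ofPt_map_comp]
  haveI : LocallyOfFiniteType β.left := hg p' q β pe qe hp
  rw [e₁, e₂, gorAt_iff_chart hf ae qe ha, gorAt_iff_chart (lnFibres_baseChange hsq hf) le pe hl,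
    isFlatAtMor_iff_chart ae qe ha, isFlatAtMor_iff_chart pe qe hp]
  rw [GrothLib.GorMor23.isGorensteinAt_iff, GrothLib.GorMor23.isGorensteinAt_iff]
  have h := GrothLib.GorMor23.isGorensteinAt_baseChange_iff
    (fun v => isLocallyNoetherian_fiber_chart hf ae qe ha v) sq u
  exact ⟨fun h₁ => ⟨GrothLib.CMMor6.flat_stalkMap_baseChange sq u h₁.1, h.2 h₁.2⟩,
    fun hfl h₁ => ⟨hfl, h.1 h₁.2⟩,
    fun hgfl h₁ => ⟨GrothLib.CMMor6.flat_stalkMap_descend sq u hgfl h₁.1, h.1 h₁.2⟩⟩

/-- The fibre of a chart of the fibre product with a scheme is a chart of the fibre. -/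
theorem exists_fibre_chart {f : X ⟶ Y} {U V : Over S} (b : (yon S).obj V ⟶ Y)
    {a₁ : (yon S).obj U ⟶ pullback f b} (a₁e : RepWith @Etale a₁) {α : U ⟶ V}
    (hα : (yon S).map α = a₁ ≫ pullback.snd f b) (v : ↥V.left) {Xv : Sp S} {fst : Xv ⟶ X}
    {snd : Xv ⟶ (yon S).obj (Over.mk (V.left.fromSpecResidueField v ≫ V.hom))}
    (sq : IsPullback fst snd f ((yon S).map (Over.homMk (V.left.fromSpecResidueField v) rfl :
      Over.mk (V.left.fromSpecResidueField v ≫ V.hom) ⟶ V) ≫ b)) :
    ∃ (W : Over S) (l : (yon S).obj W ⟶ Xv), RepWith @Etale l ∧ (RepWith @Surjective a₁ → RepWith @Surjective l) ∧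
      Nonempty (W.left ≅ α.left.fiber v) := by
  let j : Over.mk (V.left.fromSpecResidueField v ≫ V.hom) ⟶ V := Over.homMk (V.left.fromSpecResidueField v) rfl
  let m : Xv ⟶ pullback f b := pullback.lift fst (snd ≫ (yon S).map j) (by rw [sq.w, Category.assoc])
  have sqm : IsPullback m snd (pullback.snd f b) ((yon S).map j) := by
    refine IsPullback.of_right ?_ (pullback.lift_snd _ _ _) (IsPullback.of_hasPullback f b)
    rw [pullback.lift_fst]
    exact sq
  have sqU : IsPullback ((yon S).map (pullback.fst α j)) ((yon S).map (pullback.snd α j))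
      (a₁ ≫ pullback.snd f b) ((yon S).map j) := by
    rw [← hα]
    exact (IsPullback.of_hasPullback α j).map (yon S)
  let l₀ : (yon S).obj (pullback α j) ⟶ Xv := sqm.lift ((yon S).map (pullback.fst α j) ≫ a₁)
    ((yon S).map (pullback.snd α j)) (by rw [Category.assoc, sqU.w])
  have sq₀ : IsPullback ((yon S).map (pullback.fst α j)) l₀ a₁ m := by
    refine IsPullback.of_bot ?_ (sqm.lift_fst _ _ _).symm sqm
    rw [sqm.lift_snd]
    exact sqU
  exact ⟨pullback α j, l₀, repWith_of_isPullback sq₀ a₁e, fun h => repWith_of_isPullback sq₀ h,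
    ⟨(isPullback_left (IsPullback.of_hasPullback α j)).isoPullback⟩⟩

theorem isGorenstein_of_iso {A B : Scheme.{u}} (e : A ≅ B) (h : Dual3.IsGorenstein B) : Dual3.IsGorenstein A :=
  isGorenstein_of_etale e.hom inferInstance h

/-- The Gorenstein fibres condition for one chart of the target. -/
def GorFibresOver (f : X ⟶ Y) {V : Over S} (b : (yon S).obj V ⟶ Y) : Prop :=
  ∀ (v : ↥V.left) (Xv : Sp S) (a : Xv ⟶ X) (c : Xv ⟶ (yon S).obj (Over.mk (V.left.fromSpecResidueField v ≫ V.hom))),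
    IsPullback a c f ((yon S).map (Over.homMk (V.left.fromSpecResidueField v) rfl :
      Over.mk (V.left.fromSpecResidueField v ≫ V.hom) ⟶ V) ≫ b) →
    EtaleLocally Dual3.IsGorenstein Xv

theorem gorFibresOver_of_forall (hX : IsAlgSpace X) (hY : IsAlgSpace Y) {f : X ⟶ Y} (hf : LNFibres f)
    (h : ∀ x, LocPAt (fun h u => Dual3.IsGorensteinAt h u) f x) {V : Over S} (b : (yon S).obj V ⟶ Y)
    (hb : RepWith @Etale b) : GorFibresOver f b := by
  intro v Xv a c sq
  obtain ⟨U, a₁, a₁e, a₁s⟩ := (isAlgSpace_pullback' hY hX (IsAlgSpace.yon_obj V) f b).atlas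
  obtain ⟨α, hα⟩ := (yon S).map_surjective (a₁ ≫ pullback.snd f b)
  obtain ⟨W, l, le, ls, ⟨e⟩⟩ := exists_fibre_chart b a₁e hα v sq
  have ae : RepWith @Etale (a₁ ≫ pullback.fst f b) :=
    repWith_comp a₁e (repWith_of_isPullback (IsPullback.of_hasPullback f b).flip hb)
  have comm : (a₁ ≫ pullback.fst f b) ≫ f = (yon S).map α ≫ b := by
    rw [hα, Category.assoc, Category.assoc, pullback.condition]
  refine ⟨W, l, le, ls a₁s, isGorenstein_of_iso e ⟨isLocallyNoetherian_fiber_chart hf ae hb comm v, fun z => ?_⟩⟩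
  rw [GrothLib.GorMor23.gor_fiber_stalk_iff α.left v z _ rfl]
  exact ((GrothLib.GorMor23.isGorensteinAt_iff _ _).1
    ((gorAt_iff_chart hf ae hb comm (α.left.fiberι v z)).1 (h _))).2

theorem gorAt_of_gorFibresOver (hX : IsAlgSpace X) (hY : IsAlgSpace Y) {f : X ⟶ Y} (hf : LNFibres f)
    (hfl : LocP @Flat f) {V : Over S} {b : (yon S).obj V ⟶ Y} (hb : RepWith @Etale b)
    (hbs : RepWith @Surjective b) (h : GorFibresOver f b) (x : Points X) :
    LocPAt (fun h u => Dual3.IsGorensteinAt h u) f x := by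
  obtain ⟨v, hv⟩ := surjective_ofPt_of_repWith hbs (Points.map f x)
  obtain ⟨z, hz₁, -⟩ := exists_of_isPullback (IsPullback.of_hasPullback f b) (x := x)
    (y := Points.ofScheme V v) (by rw [← Points.ofPt_eq_map_ofScheme, hv])
  obtain ⟨U, a₁, a₁e, a₁s⟩ := (isAlgSpace_pullback' hY hX (IsAlgSpace.yon_obj V) f b).atlas
  obtain ⟨α, hα⟩ := (yon S).map_surjective (a₁ ≫ pullback.snd f b)
  obtain ⟨u, rfl⟩ := surjective_ofPt_of_repWith a₁s z
  have ae : RepWith @Etale (a₁ ≫ pullback.fst f b) :=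
    repWith_comp a₁e (repWith_of_isPullback (IsPullback.of_hasPullback f b).flip hb)
  have comm : (a₁ ≫ pullback.fst f b) ≫ f = (yon S).map α ≫ b := by
    rw [hα, Category.assoc, Category.assoc, pullback.condition]
  rw [← hz₁, Points.map_ofPt, gorAt_iff_chart hf ae hb comm u, GrothLib.GorMor23.isGorensteinAt_iff]
  haveI : Flat α.left := hfl _ b α ae hb comm
  refine ⟨Flat.stalkMap α.left u, ?_⟩
  obtain ⟨W, l, le, -, ⟨e⟩⟩ := exists_fibre_chart b a₁e hα (α.left u) (IsPullback.of_hasPullback f _)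
  have hW : Dual3.IsGorenstein (α.left.fiber (α.left u)) :=
    isGorenstein_of_iso e.symm (etaleLocally_isGorenstein_chart (h _ _ _ _ (IsPullback.of_hasPullback f _)) l le)
  exact (GrothLib.GorMor23.gor_fiber_stalk_iff α.left _ _ u (α.left.fiberι_asFiber u)).1 (hW.2 _)

theorem gorenstein_tfae (hX : IsAlgSpace X) (hY : IsAlgSpace Y) (f : X ⟶ Y) (hf : LNFibres f) :
    [∀ x, LocPAt (fun h u => Dual3.IsGorensteinAt h u) f x,
      LocP @Flat f ∧ ∃ (V : Over S) (b : (yon S).obj V ⟶ Y), RepWith @Etale b ∧ RepWith @Surjective b ∧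
        GorFibresOver f b,
      LocP @Flat f ∧ ∀ (V : Over S) (b : (yon S).obj V ⟶ Y), RepWith @Etale b → GorFibresOver f b].TFAE := by
  tfae_have 1 → 3 := fun h =>
    ⟨locP_flat_of_forall fun x U V a b k u ha hb comm hu => (h x a b k u ha hb comm hu).1,
      fun V b hb => gorFibresOver_of_forall hX hY hf h b hb⟩
  tfae_have 3 → 2 := fun h => by
    obtain ⟨V, q, qe, qs⟩ := hY.atlas
    exact ⟨h.1, V, q, qe, qs, h.2 V q qe⟩
  tfae_have 2 → 1 := fun ⟨hfl, V, b, hb, hbs, h⟩ => gorAt_of_gorFibresOver hX hY hf hfl hb hbs h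
  tfae_finish

end GrothLib.AlgSp
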