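import Groth.Agent.Lib.AlgSp.GorPoint
import Groth.Agent.Lib.Hensel.Henselization
import Groth.Agent.Lib.Hensel.Noetherian

/-!
# Composition of Gorenstein morphisms and Gorenstein algebraic spaces
-/

set_option autoImplicit false
set_option backward.isDefEq.respectTransparency false
set_option linter.style.haveILetI false

universe u

open CategoryTheory CategoryTheory.Limits AlgebraicGeometry IsLocalRing

namespace GrothLib.AlgSp

open _root_.AlgSp

variable {S : Scheme.{u}} {X Y Z : Sp S}

theorem gorAt_comp_iff (hX : IsAlgSpace X) (hY : IsAlgSpace Y) (hZ : IsAlgSpace Z) (f : X ⟶ Y) (g : Y ⟶ Z)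
    (hf : LNFibres f) (hg : LNFibres g) (hfg : LNFibres (f ≫ g)) (x : Points X) :
    (LocPAt (fun h u => Dual3.IsGorensteinAt h u) f x →
        LocPAt (fun h u => Dual3.IsGorensteinAt h u) g (Points.map f x) →
        LocPAt (fun h u => Dual3.IsGorensteinAt h u) (f ≫ g) x) ∧
      (LocPAt (fun h u => Dual3.IsGorensteinAt h u) (f ≫ g) x → IsFlatAtMor f x →
        LocPAt (fun h u => Dual3.IsGorensteinAt h u) f x ∧
          LocPAt (fun h u => Dual3.IsGorensteinAt h u) g (Points.map f x)) := by
  obtain ⟨W, c, ce, cs⟩ := hZ.atlas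
  obtain ⟨w, hw⟩ := surjective_ofPt_of_repWith cs (Points.map g (Points.map f x))
  obtain ⟨V, b, β, v, be, hb, hv, -⟩ := exists_chart_over_point hY hZ g c ce (Points.map f x) w hw
  obtain ⟨U, a, α, u, ae, ha, hu, hαv⟩ := exists_chart_over_point hX hY f b be x v hv
  subst hαv hu
  have hcomp : a ≫ f ≫ g = (yon S).map (α ≫ β) ≫ c := by
    rw [← Category.assoc, ha, Category.assoc, hb, Functor.map_comp, Category.assoc]
  have e₁ := gorAt_iff_chart hf ae be ha u
  have e₂ := gorAt_iff_chart hg be ce hb (α.left u)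
  have e₃ := gorAt_iff_chart hfg ae ce hcomp u
  rw [← hv, e₁, e₂, e₃]
  exact ⟨fun h₁ h₂ => GrothLib.GorMor23.isGorensteinAt_comp α.left β.left u
      (isLocallyNoetherian_fiber_chart hfg ae ce hcomp _) h₁ h₂,
    fun h hfl => GrothLib.GorMor23.isGorensteinAt_of_comp α.left β.left u
      (isLocallyNoetherian_fiber_chart hg be ce hb _) h (hfl a b α u ae be ha rfl)⟩

theorem isGorenstein_of_etale {A B : Scheme.{u}} (k : A ⟶ B) (_ : Etale k) (h : Dual3.IsGorenstein B) :
    Dual3.IsGorenstein A := by
  haveI := h.1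
  haveI hA : IsLocallyNoetherian A := LocallyOfFiniteType.isLocallyNoetherian k
  refine ⟨hA, fun a => ?_⟩
  algebraize [(k.stalkMap a).hom]
  haveI : IsLocalHom (algebraMap (B.presheaf.stalk (k a)) (A.presheaf.stalk a)) :=
    inferInstanceAs (IsLocalHom (k.stalkMap a).hom)
  haveI : Module.Flat (B.presheaf.stalk (k a)) (A.presheaf.stalk a) := Flat.stalkMap k a
  haveI : Algebra.FormallyUnramified (B.presheaf.stalk (k a)) (A.presheaf.stalk a) :=
    FormallyUnramified.stalkMap k _
  haveI : Algebra.EssFiniteType (B.presheaf.stalk (k a)) (A.presheaf.stalk a) :=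
    LocallyOfFiniteType.stalkMap k _
  refine (GorFlat.gorenstein_flat_local_iff (B.presheaf.stalk (k a)) (A.presheaf.stalk a)).2 ⟨h.2 _, ?_⟩
  letI := Ideal.Quotient.field (maximalIdeal (A.presheaf.stalk a))
  exact (GorFlat.gorenstein_congr (Ideal.quotEquivOfEq
    (Algebra.FormallyUnramified.map_maximalIdeal (R := B.presheaf.stalk (k a)) (S := A.presheaf.stalk a)).symm)).1
    (GorFlat.gorenstein_of_isRegularLocalRing _)

theorem isGorenstein_desc {A B : Scheme.{u}} (k : A ⟶ B) [Flat k] [LocallyOfFinitePresentation k] [Surjective k]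
    (h : Dual3.IsGorenstein A) : Dual3.IsGorenstein B := by
  haveI := h.1
  haveI hB : IsLocallyNoetherian B := GrothLib.FppfSource.isLocallyNoetherian_of_fppf k
  refine ⟨hB, fun b => ?_⟩
  obtain ⟨a, rfl⟩ := k.surjective b
  exact (GrothLib.GorMor23.isGorensteinAt_and_base_of_source k a (h.2 a)).2

theorem etaleLocally_isGorenstein_chart (h : EtaleLocally Dual3.IsGorenstein X) {U : Over S}
    (a : (yon S).obj U ⟶ X) (ha : RepWith @Etale a) : Dual3.IsGorenstein U.left :=
  etaleLocally_chart (fun _ _ k => isGorenstein_of_etale k) (fun _ _ k _ _ => isGorenstein_desc k) h a ha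

theorem gor_of_flat_gorenstein_source (hX : IsAlgSpace X) (hY : IsAlgSpace Y) (f : X ⟶ Y) (hf : LocP @Flat f)
    (hY1 : IsLocNoethSp Y) (hX2 : EtaleLocally Dual3.IsGorenstein X) :
    (∀ x : Points X, LocPAt (fun h u => Dual3.IsGorensteinAt h u) f x) ∧
      ∀ (x : Points X) (V : Over S) (b : (yon S).obj V ⟶ Y), RepWith @Etale b →
        ∀ (v : ↥V.left), Points.ofPt b v = Points.map f x →
          ∀ (R : Type u) [CommRing R] [IsLocalRing R] [Algebra ↥(V.left.presheaf.stalk v) R]
            [IsLocalHom (algebraMap ↥(V.left.presheaf.stalk v) R)]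
            [_root_.Hensel.IsStrictHenselization ↥(V.left.presheaf.stalk v) R],
            LocCoh.IsGorensteinLocalRing R := by
  have key : ∀ {U V : Over S} (a : (yon S).obj U ⟶ X) (b : (yon S).obj V ⟶ Y) (h : U ⟶ V) (u : ↥U.left),
      RepWith @Etale a → RepWith @Etale b → a ≫ f = (yon S).map h ≫ b →
      Dual3.IsGorensteinAt h.left u ∧ LocCoh.IsGorensteinLocalRing (V.left.presheaf.stalk (h.left u)) := by
    intro U V a b h u ha hb comm
    have hU := etaleLocally_isGorenstein_chart hX2 a ha
    haveI := hU.1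
    haveI : IsLocallyNoetherian V.left :=
      etaleLocally_chart (fun _ _ e => isLocallyNoetherian_of_etale e) (fun _ _ e => isLocallyNoetherian_desc e)
        hY1 b hb
    haveI : Flat h.left := hf a b h ha hb comm
    exact GrothLib.GorMor23.isGorensteinAt_and_base_of_source h.left u (hU.2 u)
  refine ⟨fun x U V a b h u ha hb comm _ => (key a b h u ha hb comm).1, fun x V b hb v hv R _ _ _ _ _ => ?_⟩
  obtain ⟨U, a, α, u, ae, ha, -, rfl⟩ := exists_chart_over_point hX hY f b hb x v hv
  have hG := (key a b α u ae hb ha).2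
  haveI : IsNoetherianRing R :=
    GrothLib.Hensel.IsStrictHenselization.isNoetherianRing_iff.1 hG.toIsNoetherian
  haveI : IsNoetherianRing (V.left.presheaf.stalk (α.left u)) := hG.toIsNoetherian
  haveI := GrothLib.Hensel.IsStrictHenselization.flat (R := V.left.presheaf.stalk (α.left u)) (S := R)
  refine (GorFlat.gorenstein_flat_local_iff (V.left.presheaf.stalk (α.left u)) R).2 ⟨hG, ?_⟩
  letI := Ideal.Quotient.field (maximalIdeal R)
  exact (GorFlat.gorenstein_congr (Ideal.quotEquivOfEq
    (GrothLib.Hensel.IsStrictHenselization.map_maximalIdeal (R := V.left.presheaf.stalk (α.left u)) (S := R)).symm)).1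
    (GorFlat.gorenstein_of_isRegularLocalRing _)

end GrothLib.AlgSp
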