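import Groth.Agent.Lib.AlgSp.TwoStructures
import Groth.Agent.Lib.AlgSp.Dim
import Groth.Agent.Lib.AlgSp.FieldFibreDim
import Groth.Agent.Lib.AlgSp.OverMapSpace
import Groth.Agent.Lib.AlgSp.GpdBasic
import Mathlib.RingTheory.Flat.FaithfullyFlat.Algebra
import Mathlib.RingTheory.RingHom.FaithfullyFlat

/-!
# Dimension of a groupoid over a field and of its stabilizer

* `dim_le_of_lqf`; `dim_le_stabilizer`; `dim_R_eq_dim_stabilizer`.
-/

set_option autoImplicit false
set_option backward.isDefEq.respectTransparency false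
universe u

open CategoryTheory CategoryTheory.Limits AlgebraicGeometry TensorProduct

namespace GrothLib.AlgSp.GpdFieldDim

open _root_.AlgSp

variable {S : Scheme.{u}}

theorem topologicalKrullDim_le_of_lqf {U V : Scheme.{u}} (f : U ⟶ V) [LocallyQuasiFinite f] :
    topologicalKrullDim ↥U ≤ topologicalKrullDim ↥V :=
  GrothLib.EtFibre.topologicalKrullDim_le_of_injOn f.continuous (GrothLib.EtFibre.eq_of_specializes_of_discrete f)

/-- Dimension does not grow along locally quasi-finite morphisms. -/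
theorem dim_le_of_lqf {X Y : Sp S} (hX : IsAlgSpace X) (hY : IsAlgSpace Y) {f : X ⟶ Y}
    (hf : LocP @LocallyQuasiFinite f) : _root_.AlgSp.dim X ≤ _root_.AlgSp.dim Y := by
  obtain ⟨V, q, qe, qs⟩ := hY.atlas
  obtain ⟨U, p, α, pe, hp, hps⟩ := exists_chart_over hX hY f q qe
  haveI : LocallyQuasiFinite α.left := hf p q α pe qe hp
  rw [dim_eq_of_atlas hX pe (hps qs), dim_eq_of_atlas hY qe qs]
  exact topologicalKrullDim_le_of_lqf α.left

/-- Dimensions of the stalks of an affine scheme are read on the quotients by primes. -/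
theorem ringKrullDim_le_of_quotients {B : Type u} [CommRing B] {d : WithBot ℕ∞}
    (h : ∀ p : PrimeSpectrum B, ringKrullDim (B ⧸ p.asIdeal) ≤ d) : ringKrullDim B ≤ d := by
  refine iSup_le fun l => le_trans ?_ (h l.head)
  have hi : ∀ i, ∃ q : PrimeSpectrum (B ⧸ l.head.asIdeal), PrimeSpectrum.comap (Ideal.Quotient.mk _) q = l i := fun i => by
    have : l i ∈ Set.range (PrimeSpectrum.comap (Ideal.Quotient.mk l.head.asIdeal)) := by
      rw [range_comap_of_surjective _ _ Ideal.Quotient.mk_surjective, PrimeSpectrum.mem_zeroLocus,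
        Ideal.mk_ker]
      exact l.head_le i
    exact this
  choose q hq using hi
  refine Order.LTSeries.length_le_krullDim ⟨l.length, q, fun i => ?_⟩
  show q i.castSucc < q i.succ
  have hlt : PrimeSpectrum.comap (Ideal.Quotient.mk _) (q i.castSucc) <
      PrimeSpectrum.comap (Ideal.Quotient.mk _) (q i.succ) := by rw [hq, hq]; exact l.step i
  rw [lt_iff_le_not_ge, ← PrimeSpectrum.asIdeal_le_asIdeal, ← PrimeSpectrum.asIdeal_le_asIdeal] at hlt ⊢
  exact ⟨(Ideal.comap_le_comap_iff_of_surjective _ Ideal.Quotient.mk_surjective _ _).1 hlt.1,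
    fun h => hlt.2 (Ideal.comap_mono h)⟩

variable {B : Sp S} (G : GroupoidSp B) {k : Type u} [Field k] {σ : Spec (CommRingCat.of k) ⟶ S}

theorem comp_lift_c {T T' : Sp S} (φ : T' ⟶ T) (a b : T ⟶ G.R) (h : a ≫ G.s = b ≫ G.t) :
    φ ≫ pullback.lift a b h ≫ G.c =
      pullback.lift (φ ≫ a) (φ ≫ b) (by rw [Category.assoc, Category.assoc, h]) ≫ G.c := by
  rw [← Category.assoc]
  congr 1
  apply pullback.hom_ext <;> simp

theorem lift_c_congr {T : Sp S} {a a' b b' : T ⟶ G.R} (ha : a = a') (hb : b = b') (h : a ≫ G.s = b ≫ G.t) :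
    pullback.lift a b h ≫ G.c = pullback.lift a' b' (ha ▸ hb ▸ h) ≫ G.c := by
  subst ha hb
  rfl

theorem exists_split {A : Type u} [CommRing A] [IsDomain A] (a₁ a₂ : CommRingCat.of k ⟶ CommRingCat.of A)
    (h₁ : a₁.hom.FiniteType) (h₂ : a₂.hom.FiniteType) :
    ∃ (AL L : CommRingCat.{u}) (iA : CommRingCat.of A ⟶ AL) (iL : L ⟶ AL) (mk : CommRingCat.of A ⟶ L),
      a₁ ≫ iA = (a₁ ≫ mk) ≫ iL ∧ a₂ ≫ iA = (a₂ ≫ mk) ≫ iL ∧ iA.hom.Finite ∧ Surjective (Spec.map iA) ∧
        (a₂ ≫ mk).hom.Finite := by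
  letI := a₁.hom.toAlgebra
  haveI : Algebra.FiniteType k A := h₁
  let K := integralClosure k A
  have hK : IsField K := isField_of_isIntegral_of_isField' (Field.toIsField k)
  letI : Field K := hK.toField
  obtain ⟨b₂, hb₂⟩ : ∃ b₂ : k →+* K, K.val.toRingHom.comp b₂ = a₂.hom :=
    ⟨a₂.hom.codRestrict K fun x => isIntegralElem_of_finiteType a₁.hom h₁ a₂.hom x, rfl⟩
  obtain ⟨m, hm⟩ := Ideal.exists_maximal A
  letI := hm
  let L := A ⧸ m
  letI : Field L := Ideal.Quotient.field m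
  haveI : Algebra.FiniteType k L := Algebra.FiniteType.trans (R := k) (S := A) inferInstance inferInstance
  haveI : Module.Finite k L := finite_of_finite_type_of_isJacobsonRing k L
  letI : Algebra K L := ((Ideal.Quotient.mk m).comp K.val.toRingHom).toAlgebra
  haveI : IsScalarTower k K L := IsScalarTower.of_algebraMap_eq fun _ => rfl
  haveI : Module.Finite K L := Module.Finite.of_restrictScalars_finite k K L
  letI : Algebra K A := K.val.toRingHom.toAlgebra
  let mk : CommRingCat.of A ⟶ CommRingCat.of L := CommRingCat.ofHom (Ideal.Quotient.mk m)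
  have key : ∀ (a : CommRingCat.of k ⟶ CommRingCat.of A) (b : k →+* K), K.val.toRingHom.comp b = a.hom →
      a ≫ CommRingCat.ofHom (Algebra.TensorProduct.includeLeftRingHom (R := K) (A := A) (B := L)) =
        (a ≫ mk) ≫ CommRingCat.ofHom (Algebra.TensorProduct.includeRight (R := K) (A := A) (B := L)).toRingHom :=
    fun a b e => CommRingCat.hom_ext (RingHom.ext fun x => by
      have ex : a.hom x = algebraMap K A (b x) := (RingHom.congr_fun e x).symm
      show (a.hom x) ⊗ₜ[K] (1 : L) = (1 : A) ⊗ₜ[K] Ideal.Quotient.mk m (a.hom x)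
      rw [ex, show Ideal.Quotient.mk m (algebraMap K A (b x)) = algebraMap K L (b x) from rfl,
        Algebra.algebraMap_eq_smul_one, Algebra.algebraMap_eq_smul_one, TensorProduct.smul_tmul])
  refine ⟨CommRingCat.of (A ⊗[K] L), CommRingCat.of L, _, _, mk, key a₁ (algebraMap k K) rfl, key a₂ b₂ hb₂,
    (RingHom.finite_algebraMap (A := A) (B := A ⊗[K] L)).mpr inferInstance,
    ⟨show Function.Surjective (PrimeSpectrum.comap (algebraMap A (A ⊗[K] L))) from
      PrimeSpectrum.comap_surjective_of_faithfullyFlat⟩, ?_⟩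
  have hf : (a₂ ≫ mk).hom.FiniteType :=
    RingHom.FiniteType.comp (RingHom.FiniteType.of_surjective _ Ideal.Quotient.mk_surjective) h₂
  letI := (a₂ ≫ mk).hom.toAlgebra
  haveI : Algebra.FiniteType k L := hf
  exact finite_of_finite_type_of_isJacobsonRing k L

theorem stabilizerι_s : G.stabilizerι ≫ G.s = G.stabilizerToU := by
  have := pullback.condition (f := G.j) (g := G.diag) =≫ pullback.snd G.pU G.pU
  simp only [Category.assoc, G.j_snd, GroupoidSp.diag, pullback.lift_snd, Category.comp_id] at this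
  exact this

/-- Translation of a family of arrows with constant source and target into the stabilizer. -/
theorem dim_translate_le (hB : IsAlgSpace B) (hR : IsAlgSpace G.R) (hU : IsAlgSpace G.U) {WL TL : Over S}
    (Q : (yon S).obj WL ⟶ G.R) (hQ : LocP @LocallyQuasiFinite Q) (r : (yon S).obj TL ⟶ G.R) (π : WL ⟶ TL)
    (hQs : Q ≫ G.s = (yon S).map π ≫ r ≫ G.s) (hQt : Q ≫ G.t = (yon S).map π ≫ r ≫ G.t)
    (hτ : RepWith @LocallyQuasiFinite (r ≫ G.t)) :
    topologicalKrullDim ↥WL.left ≤ _root_.AlgSp.dim G.stabilizer := by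
  let p := (yon S).map π
  have hc : Q ≫ G.s = (p ≫ r ≫ G.i) ≫ G.t := by rw [hQs]; simp only [p, Category.assoc, G.i_t]
  let M := pullback.lift Q (p ≫ r ≫ G.i) hc ≫ G.c
  have hMs : M ≫ G.s = p ≫ r ≫ G.t := by
    rw [G.comp_s Q (p ≫ r ≫ G.i) hc]
    simp only [Category.assoc, G.i_s]
  have hMt : M ≫ G.t = p ≫ r ≫ G.t := (G.comp_t Q (p ≫ r ≫ G.i) hc).trans hQt
  obtain ⟨M', hM'₁, hM'₂⟩ : ∃ M' : (yon S).obj WL ⟶ G.stabilizer,
      M' ≫ G.stabilizerι = M ∧ M' ≫ G.stabilizerToU = p ≫ r ≫ G.t :=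
    ⟨pullback.lift M (p ≫ r ≫ G.t) (by
      apply pullback.hom_ext
      · simp only [Category.assoc, G.j_fst, GroupoidSp.diag, pullback.lift_fst, Category.comp_id]
        exact hMt
      · simp only [Category.assoc, G.j_snd, GroupoidSp.diag, pullback.lift_snd, Category.comp_id]
        exact hMs), pullback.lift_fst _ _ _, pullback.lift_snd _ _ _⟩
  let GT := pullback G.stabilizerToU (r ≫ G.t)
  let Φ : (yon S).obj WL ⟶ GT := pullback.lift M' p hM'₂
  have hP := isAlgSpace_pullback' hB hU hU G.pU G.pU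
  have hG : IsAlgSpace G.stabilizer := isAlgSpace_pullback' hP hR hU G.j G.diag
  have hGT : IsAlgSpace GT := isAlgSpace_pullback' hU hG (IsAlgSpace.yon_obj _) _ _
  have hGTG : _root_.AlgSp.dim GT ≤ _root_.AlgSp.dim G.stabilizer :=
    dim_le_of_lqf hGT hG (f := pullback.fst G.stabilizerToU (r ≫ G.t))
      (EtLocal.lqf.locP_of_repWith hG (repWith_of_isPullback (IsPullback.of_hasPullback _ _).flip hτ))
  have hcomp : (pullback.fst G.stabilizerToU (r ≫ G.t) ≫ G.stabilizerι) ≫ G.s =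
      (pullback.snd G.stabilizerToU (r ≫ G.t) ≫ r) ≫ G.t := by
    rw [Category.assoc, stabilizerι_s, pullback.condition, Category.assoc]
  have hΦΨ : Φ ≫ pullback.lift _ _ hcomp ≫ G.c = Q := by
    rw [comp_lift_c, lift_c_congr G (a' := M) (b' := p ≫ r)
      ((Category.assoc _ _ _).symm.trans (by rw [pullback.lift_fst]; exact hM'₁))
      ((Category.assoc _ _ _).symm.trans (by rw [pullback.lift_snd]))]
    refine (G.assoc Q (p ≫ r ≫ G.i) (p ≫ r) hc (by simp only [Category.assoc, G.i_s])).trans ?_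
    refine Eq.trans ?_ (G.comp_e Q)
    refine lift_c_congr G rfl ?_ _
    rw [lift_c_congr G (a' := (p ≫ r) ≫ G.i) (b' := p ≫ r) (Category.assoc _ _ _).symm rfl]
    refine (G.i_comp (p ≫ r)).trans ?_
    simp only [p, reassoc_of% hQs, Category.assoc]
  have hW := IsAlgSpace.yon_obj WL
  have hΦ : LocP @LocallyQuasiFinite Φ := by
    refine EtLocal.lqf.locP_of_comp (fun A B C f g h => by
      haveI : LocallyQuasiFinite (f ≫ g) := h
      exact LocallyQuasiFinite.of_comp f g) hW hGT hR (g := pullback.lift _ _ hcomp ≫ G.c) ?_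
    rw [hΦΨ]
    exact hQ
  exact (topologicalKrullDim_le_dim (a := 𝟙 _) (repWith_id _ WL)).trans ((dim_le_of_lqf hW hGT hΦ).trans hGTG)

/-- An integral affine chart piece is bounded by the stabilizer. -/
theorem dim_piece_le (hB : IsAlgSpace B) (hR : IsAlgSpace G.R) (eU : G.U ≅ (yon S).obj (Over.mk σ))
    {A : Type u} [CommRing A] [IsDomain A] {str : Spec (CommRingCat.of A) ⟶ S}
    (q : (yon S).obj (Over.mk str) ⟶ G.R) (hq : LocP @LocallyQuasiFinite q)
    (hs : LocP @LocallyOfFiniteType (q ≫ G.s)) (ht : LocP @LocallyOfFiniteType (q ≫ G.t)) :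
    ringKrullDim A ≤ _root_.AlgSp.dim G.stabilizer := by
  have hU : IsAlgSpace G.U := isAlgSpace_of_iso eU (IsAlgSpace.yon_obj _)
  obtain ⟨h₁, hh₁⟩ := (yon S).map_surjective (q ≫ G.s ≫ eU.hom)
  obtain ⟨h₂, hh₂⟩ := (yon S).map_surjective (q ≫ G.t ≫ eU.hom)
  have hft : ∀ (g : (yon S).obj (Over.mk str) ⟶ G.U) (h : Over.mk str ⟶ Over.mk σ),
      (yon S).map h = g ≫ eU.hom → LocP @LocallyOfFiniteType g → LocallyOfFiniteType h.left := fun g h e hg =>
    hg (𝟙 _) eU.inv h (repWith_id _ _) (repWith_iso _)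
      (by rw [Category.id_comp, e, Category.assoc, eU.hom_inv_id, Category.comp_id])
  obtain ⟨a₁, ha₁⟩ : ∃ a₁ : CommRingCat.of k ⟶ CommRingCat.of A, Spec.map a₁ = h₁.left := ⟨_, Spec.map_preimage _⟩
  obtain ⟨a₂, ha₂⟩ : ∃ a₂ : CommRingCat.of k ⟶ CommRingCat.of A, Spec.map a₂ = h₂.left := ⟨_, Spec.map_preimage _⟩
  have hf₁ := hft (q ≫ G.s) h₁ (by rw [hh₁, Category.assoc]) hs
  have hf₂ := hft (q ≫ G.t) h₂ (by rw [hh₂, Category.assoc]) ht
  rw [← ha₁] at hf₁
  rw [← ha₂] at hf₂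
  obtain ⟨AL, L, iA, iL, mk, e₁, e₂, hfin, hsurj, hfτ⟩ := exists_split a₁ a₂
    ((HasRingHomProperty.Spec_iff (P := @LocallyOfFiniteType)).1 hf₁)
    ((HasRingHomProperty.Spec_iff (P := @LocallyOfFiniteType)).1 hf₂)
  have hw : Spec.map a₁ ≫ σ = str := by rw [ha₁]; exact Over.w h₁
  let WL : Over S := Over.mk (Spec.map iA ≫ str)
  let TL : Over S := Over.mk (Spec.map mk ≫ str)
  let pr : WL ⟶ Over.mk str := Over.homMk (Spec.map iA) rfl
  let π : WL ⟶ TL := Over.homMk (Spec.map iL) (by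
    change Spec.map iL ≫ Spec.map mk ≫ str = Spec.map iA ≫ str
    rw [← hw, ← Spec.map_comp_assoc, ← Spec.map_comp_assoc, ← Spec.map_comp_assoc, ← Category.assoc, ← e₁])
  let r₀ : TL ⟶ Over.mk str := Over.homMk (Spec.map mk) rfl
  have k₁ : pr ≫ h₁ = π ≫ r₀ ≫ h₁ := Over.OverMorphism.ext (by
    show Spec.map iA ≫ h₁.left = Spec.map iL ≫ Spec.map mk ≫ h₁.left
    rw [← ha₁, ← Spec.map_comp, ← Spec.map_comp, ← Spec.map_comp, e₁])
  have k₂ : pr ≫ h₂ = π ≫ r₀ ≫ h₂ := Over.OverMorphism.ext (by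
    show Spec.map iA ≫ h₂.left = Spec.map iL ≫ Spec.map mk ≫ h₂.left
    rw [← ha₂, ← Spec.map_comp, ← Spec.map_comp, ← Spec.map_comp, e₂])
  haveI hpr : IsFinite (Spec.map iA) := (IsFinite.SpecMap_iff _).2 hfin
  haveI : Surjective (Spec.map iA) := hsurj
  haveI : IsFinite (Spec.map (a₂ ≫ mk)) := (IsFinite.SpecMap_iff _).2 hfτ
  have hτ' : LocallyQuasiFinite (r₀ ≫ h₂).left := by
    show LocallyQuasiFinite (Spec.map mk ≫ h₂.left)
    rw [← ha₂, ← Spec.map_comp]
    infer_instance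
  have hτ : RepWith @LocallyQuasiFinite (((yon S).map r₀ ≫ q) ≫ G.t) := by
    have eτ : ((yon S).map r₀ ≫ q) ≫ G.t = (yon S).map (r₀ ≫ h₂) ≫ eU.inv := by
      simp only [Functor.map_comp, hh₂, Category.assoc, eU.hom_inv_id, Category.comp_id]
    rw [eτ]
    exact repWith_comp ((repWith_yon_map_iff _ _).2 hτ') (repWith_iso _)
  refine le_trans ?_ (dim_translate_le G hB hR hU ((yon S).map pr ≫ q)
    (EtLocal.lqf.locP_comp (IsAlgSpace.yon_obj _) (IsAlgSpace.yon_obj _) hR
      (EtLocal.lqf.locP_of_repWith (IsAlgSpace.yon_obj _)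
        ((repWith_yon_map_iff _ _).2 (inferInstanceAs (LocallyQuasiFinite (Spec.map iA))))) hq)
    ((yon S).map r₀ ≫ q) π ?_ ?_ hτ)
  · exact (PrimeSpectrum.topologicalKrullDim_eq_ringKrullDim A).symm.le.trans
      (topologicalKrullDim_le_of_isIntegralHom_surjective (Spec.map iA))
  · rw [← cancel_mono eU.hom]
    simp only [Category.assoc, ← hh₁, ← Functor.map_comp, k₁]
  · rw [← cancel_mono eU.hom]
    simp only [Category.assoc, ← hh₂, ← Functor.map_comp, k₂]

/-- A groupoid over a field has the dimension of its stabilizer. -/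
theorem dim_R_eq_dim_stabilizer (hB : IsAlgSpace B) (hR : IsAlgSpace G.R) (eU : G.U ≅ (yon S).obj (Over.mk σ))
    (hs : LocP @LocallyOfFiniteType G.s) (ht : LocP @LocallyOfFiniteType G.t) :
    _root_.AlgSp.dim G.R = _root_.AlgSp.dim G.stabilizer := by
  have hU : IsAlgSpace G.U := isAlgSpace_of_iso eU (IsAlgSpace.yon_obj _)
  have hP := isAlgSpace_pullback' hB hU hU G.pU G.pU
  have hG : IsAlgSpace G.stabilizer := isAlgSpace_pullback' hP hR hU G.j G.diag
  refine le_antisymm (iSup_le fun U => iSup_le fun a => iSup_le fun ha => ?_) ?_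
  · rw [topologicalKrullDim_eq_iSup_stalk]
    refine iSup_le fun z => ?_
    obtain ⟨W, hW, hz, -⟩ := exists_isAffineOpen_mem_and_subset (U := (⊤ : U.left.Opens)) (x := z) trivial
    rw [show z = hW.fromSpec (hW.primeIdealOf ⟨z, hz⟩) from (hW.fromSpec_primeIdealOf ⟨z, hz⟩).symm,
      ringKrullDim_eq_of_ringEquiv
        (asIso (hW.fromSpec.stalkMap (hW.primeIdealOf ⟨z, hz⟩))).commRingCatIsoToRingEquiv]
    refine le_trans ((le_iSup (fun x => ringKrullDim ((Spec Γ(U.left, W)).presheaf.stalk x)) _).trans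
      ((topologicalKrullDim_eq_iSup_stalk _).symm.trans
        (PrimeSpectrum.topologicalKrullDim_eq_ringKrullDim Γ(U.left, W))).le)
      (ringKrullDim_le_of_quotients fun p => ?_)
    let mkp : Γ(U.left, W) ⟶ CommRingCat.of (Γ(U.left, W) ⧸ p.asIdeal) := CommRingCat.ofHom (Ideal.Quotient.mk _)
    haveI : IsClosedImmersion (Spec.map mkp) := IsClosedImmersion.spec_of_surjective mkp Ideal.Quotient.mk_surjective
    let c : Over.mk (Spec.map mkp ≫ hW.fromSpec ≫ U.hom) ⟶ U :=
      Over.homMk (Spec.map mkp ≫ hW.fromSpec) (Category.assoc _ _ _)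
    have hcl : LocP @LocallyQuasiFinite ((yon S).map c) := EtLocal.lqf.locP_of_repWith (IsAlgSpace.yon_obj _)
      ((repWith_yon_map_iff _ _).2 (inferInstanceAs (LocallyQuasiFinite (Spec.map mkp ≫ hW.fromSpec))))
    have hcf : LocP @LocallyOfFiniteType ((yon S).map c) := EtLocal.lft.locP_of_repWith (IsAlgSpace.yon_obj _)
      ((repWith_yon_map_iff _ _).2 (inferInstanceAs (LocallyOfFiniteType (Spec.map mkp ≫ hW.fromSpec))))
    have hal : LocP @LocallyQuasiFinite a := EtLocal.lqf.locP_of_repWith hR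
      (repWith_mono ha fun _ _ g hg => EtLocal.lqf.of_etale g hg)
    have haf : LocP @LocallyOfFiniteType a := EtLocal.lft.locP_of_repWith hR
      (repWith_mono ha fun _ _ g hg => EtLocal.lft.of_etale g hg)
    have hqf := EtLocal.lft.locP_comp (IsAlgSpace.yon_obj _) (IsAlgSpace.yon_obj _) hR hcf haf
    exact dim_piece_le G hB hR eU ((yon S).map c ≫ a)
      (EtLocal.lqf.locP_comp (IsAlgSpace.yon_obj _) (IsAlgSpace.yon_obj _) hR hcl hal)
      (EtLocal.lft.locP_comp (IsAlgSpace.yon_obj _) hR hU hqf hs)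
      (EtLocal.lft.locP_comp (IsAlgSpace.yon_obj _) hR hU hqf ht)
  · have hΔ : LocP @LocallyQuasiFinite G.diag := EtLocal.lqf.locP_of_comp (fun A B C f g h => by
      haveI : LocallyQuasiFinite (f ≫ g) := h
      exact LocallyQuasiFinite.of_comp f g) hU hP hU (g := pullback.fst G.pU G.pU) (by
        rw [GroupoidSp.diag, pullback.lift_fst]
        exact EtLocal.lqf.locP_of_repWith hU (repWith_iso _))
    exact dim_le_of_lqf hG hR
      (EtLocal.lqf.locP_of_isPullback hU hP hR (IsPullback.of_hasPullback G.j G.diag).flip hΔ)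

end GrothLib.AlgSp.GpdFieldDim
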