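import Groth.Agent.Lib.AlgSp.GActionQuot

/-!
# Groupoids in sheaves: the algebra of points, and quotients of pre-equivalence relations (formal part)

* `mul`, `mul_assoc'`, `cancel_right`, ...: composition of points;
* `isPreEqvRelSp_gpd`;
* `exists_rel_cover`: two points with the same class in `U/R` are related fppf locally.
-/

universe u

open CategoryTheory CategoryTheory.Limits AlgebraicGeometry Opposite

namespace GrothLib.AlgSp

open _root_.AlgSp

variable {S : Scheme.{u}}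

section Gpd

variable {B : Sp S} (G : GroupoidSp B) {T T' : Sp S}

/-- Composition of points. -/
noncomputable abbrev gmul (α β : T ⟶ G.R) (h : α ≫ G.s = β ≫ G.t) : T ⟶ G.R := pullback.lift α β h ≫ G.c

theorem gmul_s (α β : T ⟶ G.R) (h : α ≫ G.s = β ≫ G.t) : gmul G α β h ≫ G.s = β ≫ G.s := G.comp_s α β h

theorem gmul_t (α β : T ⟶ G.R) (h : α ≫ G.s = β ≫ G.t) : gmul G α β h ≫ G.t = α ≫ G.t := G.comp_t α β h

theorem gmul_congr {α α' β β' : T ⟶ G.R} (ha : α = α') (hb : β = β') (h : α ≫ G.s = β ≫ G.t) :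
    gmul G α β h = gmul G α' β' (ha ▸ hb ▸ h) := by
  subst ha; subst hb; rfl

theorem comp_gmul (f : T' ⟶ T) (α β : T ⟶ G.R) (h : α ≫ G.s = β ≫ G.t) :
    f ≫ gmul G α β h = gmul G (f ≫ α) (f ≫ β) (by rw [Category.assoc, Category.assoc, h]) := by
  rw [← Category.assoc]
  congr 1
  apply pullback.hom_ext <;> simp only [Category.assoc, pullback.lift_fst, pullback.lift_snd]

theorem gmul_assoc (α β γ : T ⟶ G.R) (h₁ : α ≫ G.s = β ≫ G.t) (h₂ : β ≫ G.s = γ ≫ G.t) :
    gmul G (gmul G α β h₁) γ ((gmul_s G α β h₁).trans h₂) =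
      gmul G α (gmul G β γ h₂) (h₁.trans (gmul_t G β γ h₂).symm) := G.assoc α β γ h₁ h₂

theorem one_gmul {α β : T ⟶ G.R} (x : T ⟶ G.U) (hα : α = x ≫ G.e) (h : α ≫ G.s = β ≫ G.t) :
    gmul G α β h = β := by
  subst hα
  have hx : x = β ≫ G.t := by rw [← h, Category.assoc, G.e_s, Category.comp_id]
  subst hx
  exact (gmul_congr G (Category.assoc β G.t G.e) rfl h).trans (G.e_comp β)

theorem gmul_one {α β : T ⟶ G.R} (x : T ⟶ G.U) (hβ : β = x ≫ G.e) (h : α ≫ G.s = β ≫ G.t) :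
    gmul G α β h = α := by
  subst hβ
  have hx : x = α ≫ G.s := by rw [h, Category.assoc, G.e_t, Category.comp_id]
  subst hx
  exact (gmul_congr G rfl (Category.assoc α G.s G.e) h).trans (G.comp_e α)

theorem inv_s (α : T ⟶ G.R) : (α ≫ G.i) ≫ G.s = α ≫ G.t := by rw [Category.assoc, G.i_s]

theorem inv_t (α : T ⟶ G.R) : (α ≫ G.i) ≫ G.t = α ≫ G.s := by rw [Category.assoc, G.i_t]

theorem gmul_inv_left {α β : T ⟶ G.R} (hα : α = β ≫ G.i) (h : α ≫ G.s = β ≫ G.t) :
    gmul G α β h = (β ≫ G.s) ≫ G.e := by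
  subst hα
  exact (G.i_comp β).trans (Category.assoc _ _ _).symm

theorem gmul_inv_right {α β : T ⟶ G.R} (hβ : β = α ≫ G.i) (h : α ≫ G.s = β ≫ G.t) :
    gmul G α β h = (α ≫ G.t) ≫ G.e := by
  subst hβ
  exact (G.comp_i α).trans (Category.assoc _ _ _).symm

/-- `(α β) β⁻¹ = α`. -/
theorem cancel_right (α β : T ⟶ G.R) (h : α ≫ G.s = β ≫ G.t) {γ : T ⟶ G.R} (hγ : γ = β ≫ G.i)
    (h' : gmul G α β h ≫ G.s = γ ≫ G.t) : gmul G (gmul G α β h) γ h' = α := by
  subst hγ
  rw [gmul_assoc G α β (β ≫ G.i) h (inv_t G β).symm]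
  exact gmul_one G _ (gmul_inv_right G rfl _) _

/-- `(α β⁻¹) β = α`. -/
theorem cancel_right' (α β γ : T ⟶ G.R) (hγ : γ = β ≫ G.i) (h : α ≫ G.s = γ ≫ G.t)
    (h' : gmul G α γ h ≫ G.s = β ≫ G.t) : gmul G (gmul G α γ h) β h' = α := by
  subst hγ
  rw [gmul_assoc G α (β ≫ G.i) β h (inv_s G β)]
  exact gmul_one G _ (gmul_inv_left G rfl _) _

/-- `α⁻¹ (α β) = β`. -/
theorem cancel_left (α β : T ⟶ G.R) (h : α ≫ G.s = β ≫ G.t) {γ : T ⟶ G.R} (hγ : γ = α ≫ G.i)
    (h' : γ ≫ G.s = gmul G α β h ≫ G.t) : gmul G γ (gmul G α β h) h' = β := by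
  subst hγ
  rw [← gmul_assoc G (α ≫ G.i) α β (inv_s G α) h]
  exact one_gmul G _ (gmul_inv_left G rfl _) _

/-- `α (α⁻¹ β) = β`. -/
theorem cancel_left' (α β γ : T ⟶ G.R) (hγ : γ = α ≫ G.i) (h : γ ≫ G.s = β ≫ G.t)
    (h' : α ≫ G.s = gmul G γ β h ≫ G.t) : gmul G α (gmul G γ β h) h' = β := by
  subst hγ
  rw [← gmul_assoc G α (α ≫ G.i) β (inv_t G α).symm h]
  exact one_gmul G _ (gmul_inv_right G rfl _) _

theorem isPreEqvRelSp_gpd : IsPreEqvRelSp G.s G.t := fun T => by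
  refine ⟨fun a => ⟨a ≫ G.e, ?_, ?_⟩, ?_, ?_⟩
  · rw [Category.assoc, G.e_t, Category.comp_id]
  · rw [Category.assoc, G.e_s, Category.comp_id]
  · rintro a b ⟨r, rfl, rfl⟩
    exact ⟨r ≫ G.i, inv_t G r, inv_s G r⟩
  · rintro a b c ⟨r, rfl, rfl⟩ ⟨r', h, rfl⟩
    exact ⟨gmul G r r' h.symm, gmul_t G _ _ _, gmul_s G _ _ _⟩

end Gpd

section Quot

/-- Points agreeing on a covering sieve are equal. -/
theorem yon_hom_ext_cover {M : Sp S} {T : Over S} {Q : Sieve T} (hQ : Q ∈ J S T) {p q : (yon S).obj T ⟶ M}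
    (h : ∀ ⦃T' : Over S⦄ (f : T' ⟶ T), Q.arrows f → (yon S).map f ≫ p = (yon S).map f ≫ q) : p = q := by
  apply (J S).uliftYonedaEquiv.{u + 1}.injective
  refine ((isSheaf_iff_isSheaf_of_type (J S) M.obj).1 M.property Q hQ).isSeparatedFor.ext fun T' f hf => ?_
  have := congrArg (J S).uliftYonedaEquiv.{u + 1} (h f hf)
  rw [← GrothendieckTopology.uliftYonedaEquiv_naturality, ← GrothendieckTopology.uliftYonedaEquiv_naturality] at this
  exact this

/-- Points lift fppf locally along epimorphisms. -/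
theorem exists_lift_cover {X M : Sp S} (q : X ⟶ M) [Epi q] {T : Over S} (x : (yon S).obj T ⟶ M) :
    ∃ Q ∈ J S T, ∀ ⦃T' : Over S⦄ (f : T' ⟶ T), Q.arrows f →
      ∃ l : (yon S).obj T' ⟶ X, l ≫ q = (yon S).map f ≫ x := by
  have : Sheaf.IsLocallySurjective q := (Sheaf.isLocallySurjective_iff_epi q).2 inferInstance
  refine ⟨_, Presheaf.imageSieve_mem (J S) q.hom ((J S).uliftYonedaEquiv.{u + 1} x), fun T' f hf => ?_⟩
  obtain ⟨a, ha⟩ := hf
  refine ⟨(J S).uliftYonedaEquiv.{u + 1}.symm a, (J S).uliftYonedaEquiv.{u + 1}.injective ?_⟩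
  rw [GrothendieckTopology.uliftYonedaEquiv_comp, Equiv.apply_symm_apply,
    ← GrothendieckTopology.uliftYonedaEquiv_naturality]
  exact ha

variable {R U : Sp S} {s t : R ⟶ U}

/-- The relation on sections of a pre-equivalence relation. -/
def preSetoidSp (h : IsPreEqvRelSp s t) (T : Over S) : Setoid (U.obj.obj (op T)) where
  r x y := ∃ r : (yon S).obj T ⟶ R, r ≫ t = (J S).uliftYonedaEquiv.{u + 1}.symm x ∧
    r ≫ s = (J S).uliftYonedaEquiv.{u + 1}.symm y
  iseqv := ⟨fun _ => (h T).refl _, fun e => (h T).symm e, fun e e' => (h T).trans e e'⟩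

theorem symm_map (V : Sp S) {T T' : Over S} (f : T' ⟶ T) (x : V.obj.obj (op T)) :
    (J S).uliftYonedaEquiv.{u + 1}.symm (V.obj.map f.op x) =
      (yon S).map f ≫ (J S).uliftYonedaEquiv.{u + 1}.symm x := by
  apply (J S).uliftYonedaEquiv.{u + 1}.injective
  rw [Equiv.apply_symm_apply, ← GrothendieckTopology.uliftYonedaEquiv_naturality, Equiv.apply_symm_apply]

/-- The presheaf quotient. -/
def preQuotPresheaf (h : IsPreEqvRelSp s t) : (Over S)ᵒᵖ ⥤ Type (u + 1) where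
  obj T := Quotient (preSetoidSp h T.unop)
  map {T T'} g := ↾fun x => Quotient.map (sa := preSetoidSp h T.unop) (sb := preSetoidSp h T'.unop) (U.obj.map g)
    (fun x y e => by
      obtain ⟨r, hr₁, hr₂⟩ := e
      refine ⟨(yon S).map g.unop ≫ r, ?_, ?_⟩
      · rw [Category.assoc, hr₁]; exact (symm_map U g.unop x).symm
      · rw [Category.assoc, hr₂]; exact (symm_map U g.unop y).symm) x
  map_id T := by
    ext x
    induction x using Quotient.inductionOn with
    | h a => exact congrArg (Quotient.mk (preSetoidSp h T.unop)) (congrArg (fun k => k a) (U.obj.map_id T))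
  map_comp {T T' T''} g g' := by
    ext x
    induction x using Quotient.inductionOn with
    | h a => exact congrArg (Quotient.mk (preSetoidSp h T''.unop)) (congrArg (fun k => k a) (U.obj.map_comp g g'))

/-- Points with the same image in `U/R` are related fppf locally. -/
theorem exists_rel_cover (h : IsPreEqvRelSp s t) {T : Over S} (x y : (yon S).obj T ⟶ U)
    (e : x ≫ quotSpπ s t = y ≫ quotSpπ s t) :
    ∃ Q ∈ J S T, ∀ ⦃T' : Over S⦄ (f : T' ⟶ T), Q.arrows f →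
      ∃ r : (yon S).obj T' ⟶ R, r ≫ t = (yon S).map f ≫ x ∧ r ≫ s = (yon S).map f ≫ y := by
  let P := preQuotPresheaf h
  let π₀ : U.obj ⟶ P :=
    { app := fun T => ↾fun x => Quotient.mk (preSetoidSp h T.unop) x
      naturality := fun _ _ _ => rfl }
  have hst : s.hom ≫ π₀ = t.hom ≫ π₀ := by
    ext T r
    refine (Quotient.sound (s := preSetoidSp h T.unop) ⟨(J S).uliftYonedaEquiv.{u + 1}.symm r, ?_, ?_⟩).symm <;>
    · apply (J S).uliftYonedaEquiv.{u + 1}.injective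
      rw [GrothendieckTopology.uliftYonedaEquiv_comp, Equiv.apply_symm_apply]
      exact (Equiv.apply_symm_apply _ _).symm
  let aP : Sp S := (presheafToSheaf (J S) (Type (u + 1))).obj P
  let q : U ⟶ aP := ObjectProperty.homMk (π₀ ≫ toSheafify (J S) P)
  have hq : s ≫ q = t ≫ q := ObjectProperty.hom_ext _ ((Category.assoc _ _ _).symm.trans
    ((congrArg (· ≫ toSheafify (J S) P) hst).trans (Category.assoc _ _ _)))
  have e' : x ≫ q = y ≫ q := by
    have := e =≫ quotSpDesc q hq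
    rwa [Category.assoc, Category.assoc, quotSpπ_desc] at this
  have he := congrArg (J S).uliftYonedaEquiv.{u + 1} e'
  rw [GrothendieckTopology.uliftYonedaEquiv_comp, GrothendieckTopology.uliftYonedaEquiv_comp] at he
  refine ⟨_, Presheaf.equalizerSieve_mem (J S) (toSheafify (J S) P)
    (π₀.app _ ((J S).uliftYonedaEquiv.{u + 1} x)) (π₀.app _ ((J S).uliftYonedaEquiv.{u + 1} y)) he,
    fun T' f hf => ?_⟩
  obtain ⟨r, h₁, h₂⟩ := Quotient.exact (s := preSetoidSp h T') hf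
  exact ⟨r, h₁.trans ((symm_map U f _).trans (by rw [Equiv.symm_apply_apply])),
    h₂.trans ((symm_map U f _).trans (by rw [Equiv.symm_apply_apply]))⟩

/-- The induced map on quotients by a restricted relation is injective. -/
theorem mono_quot_map {R' U' M : Sp S} {s' t' : R' ⟶ U'} (h : IsPreEqvRelSp s t) (g : U' ⟶ U)
    (ψ : quotSp s' t' ⟶ quotSp s t) (hψ : quotSpπ s' t' ≫ ψ = g ≫ quotSpπ s t)
    (hres : ∀ ⦃T : Over S⦄ (a b : (yon S).obj T ⟶ U') (r : (yon S).obj T ⟶ R), r ≫ t = a ≫ g → r ≫ s = b ≫ g →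
      ∃ r' : (yon S).obj T ⟶ R', r' ≫ t' = a ∧ r' ≫ s' = b) : Mono ψ :=
  mono_of_yon fun T x y e => by
    have : Epi (quotSpπ s' t') := coequalizer.π_epi
    obtain ⟨Q₁, hQ₁, h₁⟩ := exists_lift_cover (quotSpπ s' t') x
    obtain ⟨Q₂, hQ₂, h₂⟩ := exists_lift_cover (quotSpπ s' t') y
    refine yon_hom_ext_cover (GrothendieckTopology.intersection_covering _ hQ₁ hQ₂) fun T' f hf => ?_
    obtain ⟨a, ha⟩ := h₁ f hf.1
    obtain ⟨b, hb⟩ := h₂ f hf.2
    rw [← ha, ← hb]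
    have e' : (a ≫ g) ≫ quotSpπ s t = (b ≫ g) ≫ quotSpπ s t := by
      rw [Category.assoc, Category.assoc, ← hψ, reassoc_of% ha, reassoc_of% hb, e]
    obtain ⟨Q, hQ, hr⟩ := exists_rel_cover h _ _ e'
    refine yon_hom_ext_cover hQ fun Z k hk => ?_
    obtain ⟨r, hr₁, hr₂⟩ := hr k hk
    obtain ⟨r', hr₁', hr₂'⟩ := hres ((yon S).map k ≫ a) ((yon S).map k ≫ b) r (by rw [hr₁, Category.assoc])
      (by rw [hr₂, Category.assoc])
    rw [← Category.assoc, ← Category.assoc, ← hr₁', ← hr₂', Category.assoc, Category.assoc, quotSp_condition]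

end Quot

end GrothLib.AlgSp
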