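import Groth.Prelude.Def_AlgSpCov
import Groth.Agent.Lib.AlgSp.OpenSub
import Groth.Agent.Lib.AlgSp.LocPPoints
import Groth.Agent.Lib.AlgSp.SmoothLocalFormal

/-!
# The largest open over which a property local on the base holds
-/

universe u

open CategoryTheory CategoryTheory.Limits AlgebraicGeometry TopologicalSpace

namespace GrothLib.AlgSp

open _root_.AlgSp

variable {S : Scheme.{u}}

/-- A class of morphisms suitable for coverings. -/
structure CovClass (C : MorphismProperty (Sp S)) : Prop where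
  openImm : ∀ ⦃X Y : Sp S⦄ (j : X ⟶ Y), IsAlgSpace Y → RepWith @IsOpenImmersion j → C j
  comp : ∀ ⦃X Y Z : Sp S⦄ (f : X ⟶ Y) (g : Y ⟶ Z), IsAlgSpace X → IsAlgSpace Y → IsAlgSpace Z → C f → C g →
    C (f ≫ g)
  pullback : ∀ ⦃X Y X' Y' : Sp S⦄ (f : X ⟶ Y) (g : Y' ⟶ Y) (g' : X' ⟶ X) (f' : X' ⟶ Y'), IsAlgSpace X →
    IsAlgSpace Y → IsAlgSpace Y' → IsPullback g' f' f g → C f → C f'
  isOpenMap : ∀ ⦃X Y : Sp S⦄ (f : X ⟶ Y), IsAlgSpace X → IsAlgSpace Y → C f → IsOpenMap (Points.map f)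

theorem CovClass.id {C : MorphismProperty (Sp S)} (hC : CovClass C) {X : Sp S} (hX : IsAlgSpace X) : C (𝟙 X) :=
  hC.openImm _ hX (repWith_iso (P := @IsOpenImmersion) (𝟙 X))

theorem CovClass.ofLocP {P : MorphismProperty Scheme.{u}} (hP : EtLocal P)
    (hopen : ∀ ⦃A B : Scheme.{u}⦄ (h : A ⟶ B), P h → IsOpenMap h) : CovClass (LocP P (S := S)) where
  openImm _ _ _ hY hj := hP.locP_of_repWith hY (repWith_mono hj fun _ _ g (_ : IsOpenImmersion g) =>
    hP.of_etale g inferInstance)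
  comp _ _ _ _ _ hX hY hZ hf hg := hP.locP_comp hX hY hZ hf hg
  pullback _ _ _ _ _ _ _ _ hX hY hY' sq hf := hP.locP_of_isPullback hX hY hY' sq hf
  isOpenMap _ _ _ hX hY hf := isOpenMap_map_of_locP hopen hX hY hf

theorem CovClass.etale : CovClass (IsEtaleMor (S := S)) where
  openImm _ _ _ hY hj := isEtaleMor_of_locP hY (EtLocal.etale.locP_of_repWith hY
    (repWith_mono hj fun _ _ g (_ : IsOpenImmersion g) => inferInstance))
  comp _ _ _ _ _ hX hY hZ hf hg := isEtaleMor_of_locP hZ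
    (EtLocal.etale.locP_comp hX hY hZ (locP_of_isEtaleMor hY hf) (locP_of_isEtaleMor hZ hg))
  pullback _ _ _ _ _ _ _ _ hX hY hY' sq hf := isEtaleMor_of_locP hY'
    (EtLocal.etale.locP_of_isPullback hX hY hY' sq (locP_of_isEtaleMor hY hf))
  isOpenMap _ _ _ hX hY hf := isOpenMap_map_of_isEtaleMor hX hY hf

theorem CovClass.fppf :
    CovClass (S := S) (fun _ _ f => LocP @Flat f ∧ LocP @LocallyOfFinitePresentation f) where
  openImm _ _ _ hY hj := ⟨EtLocal.flat.locP_of_repWith hY (repWith_mono hj fun _ _ g (_ : IsOpenImmersion g) => inferInstance),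
    EtLocal.lfp.locP_of_repWith hY (repWith_mono hj fun _ _ g (_ : IsOpenImmersion g) => inferInstance)⟩
  comp _ _ _ _ _ hX hY hZ hf hg := ⟨EtLocal.flat.locP_comp hX hY hZ hf.1 hg.1, EtLocal.lfp.locP_comp hX hY hZ hf.2 hg.2⟩
  pullback _ _ _ _ _ _ _ _ hX hY hY' sq hf :=
    ⟨EtLocal.flat.locP_of_isPullback hX hY hY' sq hf.1, EtLocal.lfp.locP_of_isPullback hX hY hY' sq hf.2⟩
  isOpenMap X Y f hX hY hf := isOpenMap_map_of_locP (P := @Flat ⊓ @LocallyOfFinitePresentation)
    (fun _ _ h hh => by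
      have : Flat h := hh.1
      have : LocallyOfFinitePresentation h := hh.2
      exact h.isOpenMap) hX hY (fun _ _ a b h ha hb e => ⟨hf.1 a b h ha hb e, hf.2 a b h ha hb e⟩)

variable {C : MorphismProperty (Sp S)} {P : MorphismProperty (Sp S)}

/-- `P` holds for `f` over the open `V`. -/
def POver (P : MorphismProperty (Sp S)) {X Y : Space S} (f : X ⟶ Y) (V : Opens (Points Y.obj)) : Prop :=
  ∀ (W₀ X₀ : Space S) (j₀ : W₀ ⟶ Y) (j₀' : X₀ ⟶ X) (f₀ : X₀ ⟶ W₀),
    RepWith @IsOpenImmersion j₀.hom → Set.range (Points.map j₀.hom) = (V : Set (Points Y.obj)) →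
    IsPullback j₀'.hom f₀.hom f.hom j₀.hom → P f₀.hom

variable (hC : CovClass C) (hP : IsLocalOnBase (fun _ _ Y g => IsCover C Y g) P)
include hC hP

/-- If a covering family of `V` has `P` after base change, then `P` holds over `V`. -/
theorem pOver_of_family {X Y : Space S} (f : X ⟶ Y) (V : Opens (Points Y.obj)) {ι : Type u}
    (Yi Xi : ι → Sp S) (g : ∀ i, Yi i ⟶ Y.obj) (q : ∀ i, Xi i ⟶ X.obj) (p : ∀ i, Xi i ⟶ Yi i)
    (hYi : ∀ i, IsAlgSpace (Yi i)) (sq : ∀ i, IsPullback (q i) (p i) f.hom (g i)) (hg : ∀ i, C (g i))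
    (hle : ∀ i, Set.range (Points.map (g i)) ⊆ (V : Set (Points Y.obj)))
    (hcov : ∀ y ∈ V, ∃ i, y ∈ Set.range (Points.map (g i))) (hp : ∀ i, P (p i)) : POver P f V := by
  intro W₀ X₀ j₀ j₀' f₀ hj hr sq₀
  choose g' hg' using fun i => (exists_factor_iff hj (g i)).2 (hr ▸ hle i)
  have := mono_of_openImmersion hj
  let q' : ∀ i, Xi i ⟶ X₀.obj := fun i => sq₀.lift (q i) (p i ≫ g' i) (by rw [(sq i).w, Category.assoc, hg'])
  have sq' : ∀ i, IsPullback (q' i) (p i) f₀.hom (g' i) := fun i => by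
    refine IsPullback.of_right ?_ (sq₀.lift_snd _ _ _) sq₀
    rw [show q' i ≫ j₀'.hom = q i from sq₀.lift_fst _ _ _, hg' i]
    exact sq i
  refine (hP Yi g' W₀.property hYi ⟨fun i => ?_, fun w => ?_⟩ f₀.hom X₀.property Xi p q'
    (fun i => isAlgSpace_pullback Y.property.diag X.property (hYi i) (sq i)) sq').2 hp
  · refine hC.pullback (g i) j₀.hom (𝟙 _) (g' i) (hYi i) Y.property W₀.property ⟨⟨by simp [hg']⟩, ⟨?_⟩⟩ (hg i)
    refine PullbackCone.IsLimit.mk _ (fun s => s.fst) (fun s => Category.comp_id _) (fun s => ?_)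
      (fun s m h1 _ => by simpa using h1)
    rw [← cancel_mono j₀.hom, Category.assoc, hg']
    exact s.condition
  · obtain ⟨i, y, hy⟩ := hcov (Points.map j₀.hom w) (hr.subset ⟨w, rfl⟩)
    refine ⟨i, y, ?_⟩
    rw [← hg' i, Points.map_comp] at hy
    obtain ⟨z, hz₁, hz₂⟩ := exists_of_isPullback (IsKernelPair.id_of_mono j₀.hom) hy
    rw [Points.map_id] at hz₁ hz₂
    exact hz₁ ▸ hz₂

theorem pOver_preimage {X Y Y' X' : Space S} (f : X ⟶ Y) (g : Y' ⟶ Y) (g' : X' ⟶ X) (f' : X' ⟶ Y')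
    (sq : IsPullback g'.hom f'.hom f.hom g.hom) (hg : C g.hom) (V : Opens (Points Y.obj)) (hV : POver P f V)
    (V' : Opens (Points Y'.obj)) (hle : (V' : Set (Points Y'.obj)) ⊆ Points.map g.hom ⁻¹' V) :
    POver P f' V' := by
  intro W₂ X₂ j₂ j₂' f₂ hj₂ hr₂ sq₂
  let j := openSubι Y.obj (V : Set (Points Y.obj))
  have hj : RepWith @IsOpenImmersion j := repWith_openSubι V.isOpen
  let W₀ : Space S := ⟨_, isAlgSpace_openSub Y.property V.isOpen⟩
  let X₀ : Space S := ⟨_, isAlgSpace_pullback' Y.property X.property W₀.property f.hom j⟩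
  have h₀ : P (pullback.snd f.hom j) := hV W₀ X₀ (ObjectProperty.homMk j)
    (ObjectProperty.homMk (pullback.fst f.hom j)) (ObjectProperty.homMk (pullback.snd f.hom j)) hj range_openSubι
    (IsPullback.of_hasPullback f.hom j)
  obtain ⟨h, hh⟩ := (exists_factor_iff hj (j₂.hom ≫ g.hom)).2 (by
    rintro _ ⟨w, rfl⟩
    rw [range_openSubι, Points.map_comp]
    exact hle (hr₂.subset ⟨w, rfl⟩))
  have := mono_of_openImmersion hj
  have hCh : C h := by
    refine hC.pullback (j₂.hom ≫ g.hom) j (𝟙 _) h W₂.property Y.property W₀.property ⟨⟨by simp [hh]⟩, ⟨?_⟩⟩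
      (hC.comp _ _ W₂.property Y'.property Y.property (hC.openImm _ Y'.property hj₂) hg)
    refine PullbackCone.IsLimit.mk _ (fun s => s.fst) (fun s => Category.comp_id _) (fun s => ?_)
      (fun s m h1 _ => by simpa using h1)
    rw [← cancel_mono j, Category.assoc, hh]
    exact s.condition
  have sqT := sq₂.paste_horiz sq
  let l : X₂.obj ⟶ X₀.obj := pullback.lift (j₂'.hom ≫ g'.hom) (f₂.hom ≫ h) (by rw [sqT.w, Category.assoc, hh])
  have sq' : IsPullback l f₂.hom (pullback.snd f.hom j) h := by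
    refine IsPullback.of_right ?_ (pullback.lift_snd _ _ _) (IsPullback.of_hasPullback f.hom j)
    rw [show l ≫ pullback.fst f.hom j = _ from pullback.lift_fst _ _ _, hh]
    exact sqT
  refine (hP (ι := ULift.{u} Bool) (fun i => if i.down then W₂.obj else W₀.obj)
    (fun ⟨i⟩ => match i with | true => h | false => 𝟙 W₀.obj) W₀.property ?_
    ⟨?_, fun y => ⟨⟨false⟩, y, Points.map_id y⟩⟩
    (pullback.snd f.hom j) X₀.property (fun i => if i.down then X₂.obj else X₀.obj)
    (fun ⟨i⟩ => match i with | true => f₂.hom | false => pullback.snd f.hom j)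
    (fun ⟨i⟩ => match i with | true => l | false => 𝟙 X₀.obj) ?_ ?_).1 h₀ ⟨true⟩
  · rintro ⟨_ | _⟩
    · exact W₀.property
    · exact W₂.property
  · rintro ⟨_ | _⟩
    · exact hC.id W₀.property
    · exact hCh
  · rintro ⟨_ | _⟩
    · exact X₀.property
    · exact X₂.property
  · rintro ⟨_ | _⟩
    · exact IsPullback.of_id_fst
    · exact sq'

theorem exists_largest_open {X Y : Space S} (f : X ⟶ Y) :
    ∃ W : Opens (Points Y.obj), POver P f W ∧ (∀ V, POver P f V → V ≤ W) ∧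
      (∀ (Y' X' : Space S) (g : Y' ⟶ Y) (g' : X' ⟶ X) (f' : X' ⟶ Y'),
        C g.hom → IsPullback g'.hom f'.hom f.hom g.hom → P f'.hom →
        Set.range (Points.map g.hom) ⊆ (W : Set (Points Y.obj))) ∧
      (∀ (Y' X' : Space S) (g : Y' ⟶ Y) (g' : X' ⟶ X) (f' : X' ⟶ Y'),
        C g.hom → IsPullback g'.hom f'.hom f.hom g.hom → ∀ W' : Opens (Points Y'.obj), POver P f' W' →
          (∀ V', POver P f' V' → V' ≤ W') →
          (W' : Set (Points Y'.obj)) = Points.map g.hom ⁻¹' (W : Set (Points Y.obj))) := by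
  let W : Opens (Points Y.obj) := sSup {V | POver P f V}
  have hW : POver P f W := by
    obtain ⟨U, a, ae, as⟩ := Y.property.atlas
    have key : ∀ u : {u : ↥U.left // Points.ofPt a u ∈ W}, ∃ V, POver P f V ∧ Points.ofPt a u.1 ∈ V := fun u => by
      obtain ⟨V, hV, hu⟩ := Opens.mem_sSup.1 u.2
      exact ⟨V, hV, hu⟩
    choose V hV hu using key
    let j := fun u => openSubι Y.obj (V u : Set (Points Y.obj))
    have hj : ∀ u, RepWith @IsOpenImmersion (j u) := fun u => repWith_openSubι (V u).isOpen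
    have hA : ∀ u, IsAlgSpace (openSub Y.obj (V u : Set (Points Y.obj))) :=
      fun u => isAlgSpace_openSub Y.property (V u).isOpen
    refine pOver_of_family hC hP f W _ _ j (fun u => pullback.fst f.hom (j u)) (fun u => pullback.snd f.hom (j u))
      hA (fun u => IsPullback.of_hasPullback _ _) (fun u => hC.openImm _ Y.property (hj u)) (fun u => ?_)
      (fun y hy => ?_) fun u => hV u ⟨_, hA u⟩ ⟨_, isAlgSpace_pullback' Y.property X.property (hA u) f.hom (j u)⟩
        (ObjectProperty.homMk (j u)) (ObjectProperty.homMk (pullback.fst f.hom (j u)))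
        (ObjectProperty.homMk (pullback.snd f.hom (j u))) (hj u) range_openSubι (IsPullback.of_hasPullback _ _)
    · rw [range_openSubι]
      exact fun y hy => Opens.mem_sSup.2 ⟨V u, hV u, hy⟩
    · obtain ⟨u, rfl⟩ := surjective_ofPt_of_repWith as y
      exact ⟨⟨u, hy⟩, by rw [range_openSubι]; exact hu ⟨u, hy⟩⟩
  have h3 : ∀ (Y' X' : Space S) (g : Y' ⟶ Y) (g' : X' ⟶ X) (f' : X' ⟶ Y'),
      C g.hom → IsPullback g'.hom f'.hom f.hom g.hom → P f'.hom →
      Set.range (Points.map g.hom) ⊆ (W : Set (Points Y.obj)) := by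
    intro Y' X' g g' f' hg sq hf'
    let V : Opens (Points Y.obj) := ⟨_, (hC.isOpenMap _ Y'.property Y.property hg).isOpen_range⟩
    have hV : POver P f V := pOver_of_family hC hP f V (ι := PUnit) (fun _ => Y'.obj) (fun _ => X'.obj)
      (fun _ => g.hom) (fun _ => g'.hom) (fun _ => f'.hom) (fun _ => Y'.property) (fun _ => sq) (fun _ => hg)
      (fun _ => le_rfl) (fun y hy => ⟨⟨⟩, hy⟩) fun _ => hf'
    exact fun y hy => Opens.mem_sSup.2 ⟨V, hV, hy⟩
  refine ⟨W, hW, fun V hV => le_sSup hV, h3, ?_⟩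
  intro Y' X' g g' f' hg sq W' hW' hmax
  refine Set.Subset.antisymm (fun y hy => ?_) fun y hy => ?_
  · let j := openSubι Y'.obj (W' : Set (Points Y'.obj))
    have hA := isAlgSpace_openSub (F := Y'.obj) Y'.property W'.isOpen
    have hj : RepWith @IsOpenImmersion j := repWith_openSubι W'.isOpen
    let W₂ : Space S := ⟨_, hA⟩
    let X₂ : Space S := ⟨_, isAlgSpace_pullback' Y'.property X'.property hA f'.hom j⟩
    have h2 : P (pullback.snd f'.hom j) := hW' W₂ X₂ (ObjectProperty.homMk j)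
      (ObjectProperty.homMk (pullback.fst f'.hom j)) (ObjectProperty.homMk (pullback.snd f'.hom j)) hj range_openSubι
      (IsPullback.of_hasPullback f'.hom j)
    obtain ⟨w, rfl⟩ := (range_openSubι (F := Y'.obj) (W := (W' : Set (Points Y'.obj)))).symm.subset hy
    refine h3 W₂ X₂ (ObjectProperty.homMk j ≫ g) (ObjectProperty.homMk (pullback.fst f'.hom j) ≫ g')
      (ObjectProperty.homMk (pullback.snd f'.hom j)) (hC.comp _ _ hA Y'.property Y.property (hC.openImm _ Y'.property hj) hg)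
      ((IsPullback.of_hasPullback f'.hom j).paste_horiz sq) h2 ⟨w, ?_⟩
    exact Points.map_comp _ _ w
  · exact hmax ⟨_, W.isOpen.preimage (Points.continuous_map g.hom)⟩
      (pOver_preimage hC hP f g g' f' sq hg W hW _ (fun _ h => h)) hy

end GrothLib.AlgSp
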