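import Groth.Prelude.Def_AlgSpGpd
import Groth.Agent.Lib.AlgSp.LargestOpen

/-!
# Invariance of the largest open over which a property local on the base holds
-/

universe u

open CategoryTheory CategoryTheory.Limits AlgebraicGeometry TopologicalSpace

namespace GrothLib.AlgSp

open _root_.AlgSp

variable {S : Scheme.{u}}

set_option backward.isDefEq.respectTransparency false

theorem covClass_of_topology {τ : CovNotion S} (hτ : τ = IsFppfCover ∨ τ = IsEtCover ∨ τ = IsSmCover) :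
    ∃ C : MorphismProperty (Sp S), CovClass C ∧ τ = fun _ _ Y g => IsCover C Y g := by
  rcases hτ with rfl | rfl | rfl
  · exact ⟨_, CovClass.fppf, rfl⟩
  · exact ⟨_, CovClass.etale, rfl⟩
  · exact ⟨_, CovClass.ofLocP EtLocal.smooth fun _ _ h (hh : Smooth h) => h.isOpenMap, rfl⟩

section

variable {C : MorphismProperty (Sp S)} {P : MorphismProperty (Sp S)}
  (hC : CovClass C) (hP : IsLocalOnBase (fun _ _ Y g => IsCover C Y g) P)
include hC hP

theorem iff_of_isPullback_id {X X' Y : Space S} (f : X ⟶ Y) (q : X'.obj ⟶ X.obj) (p : X'.obj ⟶ Y.obj)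
    (sq : IsPullback q p f.hom (𝟙 Y.obj)) : P f.hom ↔ P p := by
  have := hP (ι := PUnit) (fun _ => Y.obj) (fun _ => 𝟙 Y.obj) Y.property (fun _ => Y.property)
    ⟨fun _ => hC.id Y.property, fun y => ⟨⟨⟩, y, Points.map_id y⟩⟩ f.hom X.property (fun _ => X'.obj)
    (fun _ => p) (fun _ => q) (fun _ => X'.property) (fun _ => sq)
  exact ⟨fun h => this.1 h ⟨⟩, fun h => this.2 fun _ => h⟩

/-- If two base changes along covering maps of a morphism are isomorphic over the source, the largest open has the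
same preimages. -/
theorem preimage_largest_eq {R U X : Space S} (f : X ⟶ U) (s t : R ⟶ U) (hs : C s.hom) (ht : C t.hom)
    {W : Sp S} (hWsp : IsAlgSpace W) (w : W ⟶ U.obj) (hw : RepWith @IsOpenImmersion w)
    (hmax : ∀ (W' : Sp S) (w' : W' ⟶ U.obj), IsAlgSpace W' → RepWith @IsOpenImmersion w' →
      (P (pullback.snd f.hom w') ↔ ∃ k : W' ⟶ W, k ≫ w = w'))
    {X' : Sp S} (gs gt : X' ⟶ X.obj) (f' : X' ⟶ R.obj) (sqs : IsPullback gs f' f.hom s.hom)
    (sqt : IsPullback gt f' f.hom t.hom) :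
    Points.map t.hom ⁻¹' Set.range (Points.map w) = Points.map s.hom ⁻¹' Set.range (Points.map w) := by
  obtain ⟨W₀, hW₀, hle, -, hbc⟩ := exists_largest_open hC hP f
  have e : (W₀ : Set (Points U.obj)) = Set.range (Points.map w) := by
    refine Set.Subset.antisymm ?_ ?_
    · let j := openSubι U.obj (W₀ : Set (Points U.obj))
      have hA := isAlgSpace_openSub (F := U.obj) U.property W₀.isOpen
      have hj : RepWith @IsOpenImmersion j := repWith_openSubι W₀.isOpen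
      obtain ⟨k, hk⟩ := (hmax _ j hA hj).1 (hW₀ ⟨_, hA⟩
        ⟨_, isAlgSpace_pullback' U.property X.property hA f.hom j⟩ (ObjectProperty.homMk j)
        (ObjectProperty.homMk (pullback.fst f.hom j)) (ObjectProperty.homMk (pullback.snd f.hom j)) hj
        range_openSubι (IsPullback.of_hasPullback f.hom j))
      exact range_openSubι.symm.subset.trans ((exists_factor_iff hw j).1 ⟨k, hk⟩)
    · exact hle ⟨_, isOpen_range_openImmersion hw⟩ (pOver_of_family hC hP f _ (ι := PUnit) (fun _ => W)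
        (fun _ => pullback f.hom w) (fun _ => w) (fun _ => pullback.fst f.hom w) (fun _ => pullback.snd f.hom w)
        (fun _ => hWsp) (fun _ => IsPullback.of_hasPullback _ _) (fun _ => hC.openImm _ U.property hw)
        (fun _ => le_rfl) (fun _ hy => ⟨⟨⟩, hy⟩) fun _ => (hmax W w hWsp hw).2 ⟨𝟙 W, Category.id_comp w⟩)
  let X₁ : Space S := ⟨X', isAlgSpace_pullback U.property.diag X.property R.property sqs⟩
  let f₁ : X₁ ⟶ R := ObjectProperty.homMk f'
  obtain ⟨W', hW', hle', -, -⟩ := exists_largest_open hC hP f₁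
  rw [← e, ← hbc R X₁ t (ObjectProperty.homMk gt) f₁ ht sqt W' hW' hle',
    hbc R X₁ s (ObjectProperty.homMk gs) f₁ hs sqs W' hW' hle']

end

variable {B : Sp S} (G : GroupoidSp B)

theorem isInvariant_of_preimage_eq {W : Sp S} {w : W ⟶ G.U} (hw : RepWith @IsOpenImmersion w)
    (h : Points.map G.t ⁻¹' Set.range (Points.map w) = Points.map G.s ⁻¹' Set.range (Points.map w)) :
    G.IsInvariant w := fun T r => by
  rw [exists_factor_iff hw, exists_factor_iff hw, Set.range_subset_iff, Set.range_subset_iff]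
  refine forall_congr' fun x => ?_
  rw [Points.map_comp, Points.map_comp]
  exact Set.ext_iff.1 h (Points.map r x)

/-- Composition on points with values in a sheaf. -/
noncomputable def gcomp {T : Sp S} (α β : T ⟶ G.R) (h : α ≫ G.s = β ≫ G.t) : T ⟶ G.R :=
  pullback.lift α β h ≫ G.c

theorem gcomp_s {T : Sp S} (α β : T ⟶ G.R) (h : α ≫ G.s = β ≫ G.t) : gcomp G α β h ≫ G.s = β ≫ G.s :=
  G.comp_s α β h

theorem gcomp_t {T : Sp S} (α β : T ⟶ G.R) (h : α ≫ G.s = β ≫ G.t) : gcomp G α β h ≫ G.t = α ≫ G.t :=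
  G.comp_t α β h

theorem gcomp_congr {T : Sp S} {α α' β β' : T ⟶ G.R} (h : α ≫ G.s = β ≫ G.t) (ha : α = α') (hb : β = β') :
    gcomp G α β h = gcomp G α' β' (ha ▸ hb ▸ h) := by
  subst ha hb
  rfl

theorem gcomp_comp {T T' : Sp S} (a : T' ⟶ T) (α β : T ⟶ G.R) (h : α ≫ G.s = β ≫ G.t) :
    a ≫ gcomp G α β h = gcomp G (a ≫ α) (a ≫ β) (by rw [Category.assoc, Category.assoc, h]) := by
  rw [gcomp, gcomp, ← Category.assoc]
  congr 1
  apply pullback.hom_ext <;> simp

theorem gcomp_assoc {T : Sp S} (α β γ : T ⟶ G.R) (h₁ : α ≫ G.s = β ≫ G.t) (h₂ : β ≫ G.s = γ ≫ G.t) :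
    gcomp G (gcomp G α β h₁) γ ((gcomp_s G α β h₁).trans h₂) =
      gcomp G α (gcomp G β γ h₂) (h₁.trans (gcomp_t G β γ h₂).symm) :=
  G.assoc α β γ h₁ h₂

theorem gcomp_unit {T : Sp S} (α β : T ⟶ G.R) (h : α ≫ G.s = β ≫ G.t) (hβ : β = α ≫ G.s ≫ G.e) :
    gcomp G α β h = α := by
  subst hβ
  exact G.comp_e α

theorem unit_gcomp {T : Sp S} (α β : T ⟶ G.R) (h : α ≫ G.s = β ≫ G.t) (hα : α = β ≫ G.t ≫ G.e) :
    gcomp G α β h = β := by
  subst hα
  exact G.e_comp β

theorem gcomp_inv {T : Sp S} (α β : T ⟶ G.R) (h : α ≫ G.s = β ≫ G.t) (hβ : β = α ≫ G.i) :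
    gcomp G α β h = α ≫ G.t ≫ G.e := by
  subst hβ
  exact G.comp_i α

theorem inv_gcomp {T : Sp S} (α β : T ⟶ G.R) (h : α ≫ G.s = β ≫ G.t) (hα : α = β ≫ G.i) :
    gcomp G α β h = β ≫ G.s ≫ G.e := by
  subst hα
  exact G.i_comp β

theorem isPullback_c_snd : IsPullback G.c (pullback.snd G.s G.t) G.s G.s := by
  have hc : pullback.lift (pullback.fst G.s G.t) (pullback.snd G.s G.t) pullback.condition = 𝟙 _ := by
    apply pullback.hom_ext <;> simp
  have hcs : G.c ≫ G.s = pullback.snd G.s G.t ≫ G.s := by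
    simpa [hc] using G.comp_s _ _ pullback.condition
  have key : ∀ s : PullbackCone G.s G.s, s.fst ≫ G.s = (s.snd ≫ G.i) ≫ G.t := fun s => by
    rw [Category.assoc, G.i_t, s.condition]
  have key' : ∀ s : PullbackCone G.s G.s, gcomp G s.fst (s.snd ≫ G.i) (key s) ≫ G.s = s.snd ≫ G.t := fun s => by
    rw [gcomp_s, Category.assoc, G.i_s]
  refine ⟨⟨hcs⟩, ⟨PullbackCone.IsLimit.mk _ (fun s => pullback.lift _ s.snd (key' s))
    (fun s => ?_) (fun s => pullback.lift_snd _ _ _) (fun s m h1 h2 => ?_)⟩⟩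
  · change gcomp G (gcomp G s.fst (s.snd ≫ G.i) (key s)) s.snd (key' s) = s.fst
    rw [gcomp_assoc G _ _ _ (key s) (by rw [Category.assoc, G.i_s])]
    exact gcomp_unit G _ _ _ (by rw [inv_gcomp G _ _ _ rfl, reassoc_of% s.condition])
  · have e : gcomp G (m ≫ pullback.fst G.s G.t) (m ≫ pullback.snd G.s G.t) (by simp [pullback.condition]) =
        s.fst := by
      rw [← gcomp_comp (h := pullback.condition), gcomp, hc, Category.id_comp]
      exact h1
    apply pullback.hom_ext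
    · rw [pullback.lift_fst, gcomp_congr G (key s) e.symm (rfl : s.snd ≫ G.i = s.snd ≫ G.i),
        gcomp_assoc G _ _ _ _ (by rw [h2, Category.assoc, G.i_t]), gcomp_unit]
      rw [gcomp_inv G _ _ _ (by rw [h2])]
      simp only [Category.assoc]
      rw [pullback.condition_assoc]
    · rw [pullback.lift_snd]; exact h2

theorem stabilizerι_t : G.stabilizerι ≫ G.t = G.stabilizerToU := by
  have := congrArg (fun k => k ≫ pullback.fst G.pU G.pU) (pullback.condition (f := G.j) (g := G.diag))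
  simpa [GroupoidSp.stabilizerι, GroupoidSp.stabilizerToU, GroupoidSp.diag, GroupoidSp.stabilizer] using this

theorem stabilizerι_s : G.stabilizerι ≫ G.s = G.stabilizerToU := by
  have := congrArg (fun k => k ≫ pullback.snd G.pU G.pU) (pullback.condition (f := G.j) (g := G.diag))
  simpa [GroupoidSp.stabilizerι, GroupoidSp.stabilizerToU, GroupoidSp.diag, GroupoidSp.stabilizer] using this

/-- A loop as a point of the stabilizer. -/
noncomputable def toStab {T : Sp S} (α : T ⟶ G.R) (h : α ≫ G.t = α ≫ G.s) : T ⟶ G.stabilizer :=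
  pullback.lift α (α ≫ G.s) (by
    apply pullback.hom_ext
    · simp [GroupoidSp.diag, h]
    · simp [GroupoidSp.diag])

theorem toStab_ι {T : Sp S} (α : T ⟶ G.R) (h : α ≫ G.t = α ≫ G.s) : toStab G α h ≫ G.stabilizerι = α :=
  pullback.lift_fst _ _ _

theorem toStab_toU {T : Sp S} (α : T ⟶ G.R) (h : α ≫ G.t = α ≫ G.s) :
    toStab G α h ≫ G.stabilizerToU = α ≫ G.s :=
  pullback.lift_snd _ _ _

theorem stab_ext {T : Sp S} {x y : T ⟶ G.stabilizer} (h : x ≫ G.stabilizerι = y ≫ G.stabilizerι) : x = y := by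
  apply pullback.hom_ext h
  change x ≫ G.stabilizerToU = y ≫ G.stabilizerToU
  rw [← stabilizerι_s, ← Category.assoc, h, Category.assoc]

/-- Conjugation by an arrow. -/
noncomputable def conj {T : Sp S} (β γ : T ⟶ G.R) (hs : γ ≫ G.s = β ≫ G.t) (ht : γ ≫ G.t = β ≫ G.t) :
    T ⟶ G.R :=
  gcomp G (gcomp G (β ≫ G.i) γ (by rw [Category.assoc, G.i_s, ht])) β ((gcomp_s _ _ _ _).trans hs)

theorem conj_s {T : Sp S} (β γ : T ⟶ G.R) (hs : γ ≫ G.s = β ≫ G.t) (ht : γ ≫ G.t = β ≫ G.t) :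
    conj G β γ hs ht ≫ G.s = β ≫ G.s :=
  gcomp_s _ _ _ _

theorem conj_t {T : Sp S} (β γ : T ⟶ G.R) (hs : γ ≫ G.s = β ≫ G.t) (ht : γ ≫ G.t = β ≫ G.t) :
    conj G β γ hs ht ≫ G.t = β ≫ G.s :=
  (gcomp_t _ _ _ _).trans ((gcomp_t _ _ _ _).trans (by rw [Category.assoc, G.i_t]))

theorem conj_comp {T T' : Sp S} (a : T' ⟶ T) (β γ : T ⟶ G.R) (hs : γ ≫ G.s = β ≫ G.t)
    (ht : γ ≫ G.t = β ≫ G.t) :
    a ≫ conj G β γ hs ht =
      conj G (a ≫ β) (a ≫ γ) (by simp [hs]) (by simp [ht]) := by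
  simp only [conj, gcomp_comp, Category.assoc]

theorem inv_inv {T : Sp S} (β : T ⟶ G.R) : (β ≫ G.i) ≫ G.i = β := by
  have h₁ : β ≫ G.s = (β ≫ G.i) ≫ G.t := by rw [Category.assoc, G.i_t]
  have h₂ : (β ≫ G.i) ≫ G.s = ((β ≫ G.i) ≫ G.i) ≫ G.t := by rw [Category.assoc (f := β ≫ G.i), G.i_t]
  have := gcomp_assoc G β (β ≫ G.i) ((β ≫ G.i) ≫ G.i) h₁ h₂
  rw [unit_gcomp, gcomp_unit] at this
  · exact this
  · rw [gcomp_inv G _ _ _ rfl]; simp only [Category.assoc]; rw [reassoc_of% G.i_t]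
  · rw [gcomp_inv G _ _ _ rfl]; simp only [Category.assoc]; rw [reassoc_of% G.i_t, reassoc_of% G.i_s]

theorem conj_eq {T : Sp S} (β β' γ : T ⟶ G.R) (hb : β' = β ≫ G.i) (hs : γ ≫ G.s = β ≫ G.t)
    (ht : γ ≫ G.t = β ≫ G.t) :
    conj G β γ hs ht = gcomp G (gcomp G β' γ (by rw [hb, Category.assoc, G.i_s, ht])) β
      ((gcomp_s _ _ _ _).trans hs) := by
  subst hb
  rfl

theorem conj_congr {T : Sp S} {β γ γ' : T ⟶ G.R} (h : γ = γ') (hs : γ ≫ G.s = β ≫ G.t)
    (ht : γ ≫ G.t = β ≫ G.t) : conj G β γ hs ht = conj G β γ' (h ▸ hs) (h ▸ ht) := by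
  subst h
  rfl

theorem conj_conj {T : Sp S} (β γ : T ⟶ G.R) (hs : γ ≫ G.s = β ≫ G.s) (ht : γ ≫ G.t = β ≫ G.s) :
    conj G β (conj G (β ≫ G.i) γ (by rw [hs, Category.assoc, G.i_t]) (by rw [ht, Category.assoc, G.i_t]))
      ((conj_s _ _ _ _ _).trans (by rw [Category.assoc, G.i_s]))
      ((conj_t _ _ _ _ _).trans (by rw [Category.assoc, G.i_s])) = γ := by
  rw [conj_congr G (conj_eq G (β ≫ G.i) β γ (inv_inv G β).symm _ _), conj_eq G β (β ≫ G.i) _ rfl]
  have h₁ : β ≫ G.s = γ ≫ G.t := ht.symm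
  have h₂ : (gcomp G β γ h₁) ≫ G.s = (β ≫ G.i) ≫ G.t := by rw [gcomp_s, hs, Category.assoc, G.i_t]
  have h₀ : (β ≫ G.i) ≫ G.s = β ≫ G.t := by rw [Category.assoc, G.i_s]
  have h₃ : γ ≫ G.s = (β ≫ G.i) ≫ G.t := by rw [hs, Category.assoc, G.i_t]
  have e₁ : gcomp G (β ≫ G.i) (gcomp G β γ h₁) (h₀.trans (gcomp_t G β γ h₁).symm) = γ := by
    rw [← gcomp_assoc G (β ≫ G.i) β γ h₀ h₁, unit_gcomp]
    rw [inv_gcomp G _ _ _ rfl, reassoc_of% ht]
  have e₂ : gcomp G (β ≫ G.i) (gcomp G (gcomp G β γ h₁) (β ≫ G.i) h₂)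
      ((h₀.trans (gcomp_t G β γ h₁).symm).trans (gcomp_t G _ _ h₂).symm) = gcomp G γ (β ≫ G.i) h₃ := by
    rw [← gcomp_assoc G (β ≫ G.i) _ (β ≫ G.i) (h₀.trans (gcomp_t G β γ h₁).symm) h₂]
    exact gcomp_congr G _ e₁ rfl
  rw [gcomp_congr G _ e₂ rfl, gcomp_assoc G γ _ β h₃ h₀, gcomp_unit]
  rw [inv_gcomp G _ _ _ rfl, reassoc_of% hs]

theorem exists_isPullback_stabilizer :
    ∃ gs : pullback G.stabilizerToU G.t ⟶ G.stabilizer,
      IsPullback gs (pullback.snd G.stabilizerToU G.t) G.stabilizerToU G.s := by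
  let γ := pullback.fst G.stabilizerToU G.t ≫ G.stabilizerι
  let β := pullback.snd G.stabilizerToU G.t
  have hs : γ ≫ G.s = β ≫ G.t := by simp [γ, β, stabilizerι_s, pullback.condition]
  have ht : γ ≫ G.t = β ≫ G.t := by simp [γ, β, stabilizerι_t, pullback.condition]
  let gs := toStab G (conj G β γ hs ht) ((conj_t _ _ _ _ _).trans (conj_s _ _ _ _ _).symm)
  have w : gs ≫ G.stabilizerToU = β ≫ G.s := (toStab_toU _ _ _).trans (conj_s _ _ _ _ _)
  have k₁ : ∀ c : PullbackCone G.stabilizerToU G.s,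
      (c.fst ≫ G.stabilizerι) ≫ G.s = (c.snd ≫ G.i) ≫ G.t := fun c => by
    rw [Category.assoc, stabilizerι_s, c.condition, Category.assoc, G.i_t]
  have k₂ : ∀ c : PullbackCone G.stabilizerToU G.s,
      (c.fst ≫ G.stabilizerι) ≫ G.t = (c.snd ≫ G.i) ≫ G.t := fun c => by
    rw [Category.assoc, stabilizerι_t, c.condition, Category.assoc, G.i_t]
  let back := fun c : PullbackCone G.stabilizerToU G.s =>
    conj G (c.snd ≫ G.i) (c.fst ≫ G.stabilizerι) (k₁ c) (k₂ c)
  have k₃ : ∀ c, back c ≫ G.t = back c ≫ G.s := fun c => (conj_t _ _ _ _ _).trans (conj_s _ _ _ _ _).symm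
  have k₄ : ∀ c, toStab G (back c) (k₃ c) ≫ G.stabilizerToU = c.snd ≫ G.t := fun c =>
    ((toStab_toU _ _ _).trans (conj_s _ _ _ _ _)).trans (by rw [Category.assoc, G.i_s])
  refine ⟨gs, ⟨w⟩, ⟨PullbackCone.IsLimit.mk _ (fun c => pullback.lift _ c.snd (k₄ c)) (fun c => ?_)
    (fun c => pullback.lift_snd _ _ _) (fun c m h₁ h₂ => ?_)⟩⟩
  · apply stab_ext
    rw [Category.assoc, toStab_ι, conj_comp]
    simp only [γ, β, pullback.lift_fst_assoc, toStab_ι, pullback.lift_snd]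
    exact conj_conj G c.snd _ (by rw [Category.assoc, stabilizerι_s, c.condition])
      (by rw [Category.assoc, stabilizerι_t, c.condition])
  · apply pullback.hom_ext
    · apply stab_ext
      rw [pullback.lift_fst, toStab_ι]
      have e₁ : c.fst ≫ G.stabilizerι = conj G (m ≫ β) (m ≫ γ) (by simp [hs]) (by simp [ht]) := by
        rw [← conj_comp G m β γ hs ht, ← h₁, Category.assoc, toStab_ι]
      simp only [back, e₁]
      have e₂ : c.snd = m ≫ β := h₂.symm
      simp only [e₂]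
      have := conj_conj G ((m ≫ β) ≫ G.i) (m ≫ γ)
        (by rw [Category.assoc (f := m ≫ β), G.i_s, Category.assoc, hs, Category.assoc])
        (by rw [Category.assoc (f := m ≫ β), G.i_s, Category.assoc, ht, Category.assoc])
      simp only [inv_inv] at this
      rw [this]
      simp [γ]
    · rw [pullback.lift_snd]; exact h₂

end GrothLib.AlgSp
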