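import Groth.Agent.Lib.AlgSp.GrpLocus
import Groth.Agent.Lib.AlgSp.GpdInvariant
import Groth.Agent.Lib.AlgSp.FieldFibreDim
import Groth.Agent.Lib.AlgSp.Dim

/-!
# Equidimensionality of group and groupoid spaces over a field
-/

set_option backward.isDefEq.respectTransparency false

universe u

open CategoryTheory CategoryTheory.Limits AlgebraicGeometry

open scoped MonObj

namespace GrothLib.AlgSp

open _root_.AlgSp

variable {S : Scheme.{u}}

theorem fibreDimLocus_preimage {F G F' G' : Sp S} {f : F ⟶ G} {f' : F' ⟶ G'} {p : F' ⟶ F} {g : G' ⟶ G}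
    (hF : IsAlgSpace F) (hG : IsAlgSpace G) (hF' : IsAlgSpace F') (hG' : IsAlgSpace G')
    (hf : LocP @LocallyOfFiniteType f) (sq : IsPullback p f' f g) (Q : WithBot ℕ∞ → Prop) :
    {x : Points F' | HasAtMor (fun _ _ h u => Q (FlatMor.fibreDimAt h u)) f' x} =
      Points.map p ⁻¹' {x : Points F | HasAtMor (fun _ _ h u => Q (FlatMor.fibreDimAt h u)) f x} := by
  ext x'
  obtain ⟨U, V, U', V', a, b, a', b', h, h', q, r, u', ha, hb, ha', hb', c, c', cp, sq', rfl⟩ :=
    exists_bc_charts hF hG hG' sq x'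
  have : LocallyOfFiniteType h.left := hf a b h ha hb c
  refine (hasAtMor_fibreDim_iff hF' hG' ha' hb' c' u' Q).trans ?_
  rw [fibreDimAt_of_isPullback sq', Set.mem_preimage, Points.map_ofPt, cp, ofPt_map_comp]
  exact (hasAtMor_fibreDim_iff hF hG ha hb c _ Q).symm

theorem subsingleton_points_of_iso {U : Sp S} {T : Over S} [Subsingleton ↥T.left] (e : U ≅ (yon S).obj T) :
    Subsingleton (Points U) where
  allEq x y := by
    obtain ⟨s, hs⟩ := (Points.schemeEquiv T).surjective (Points.map e.hom x)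
    obtain ⟨t, ht⟩ := (Points.schemeEquiv T).surjective (Points.map e.hom y)
    have h : Points.map e.hom x = Points.map e.hom y := by rw [← hs, ← ht, Subsingleton.elim s t]
    have := congrArg (Points.map e.inv) h
    rwa [← Points.map_comp, ← Points.map_comp, e.hom_inv_id, Points.map_id, Points.map_id] at this

/-- A space with a morphism to a point at whose points the relative dimension is constant is equidimensional. -/
theorem localDim_eq_dim {X U : Sp S} (hX : IsAlgSpace X) (hU : IsAlgSpace U) {T : Over S} [Subsingleton ↥T.left]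
    (e : U ≅ (yon S).obj T) (f : X ⟶ U)
    (hconst : ∀ (Q : WithBot ℕ∞ → Prop) (x y : Points X),
      HasAtMor (fun _ _ h u => Q (FlatMor.fibreDimAt h u)) f x →
        HasAtMor (fun _ _ h u => Q (FlatMor.fibreDimAt h u)) f y)
    (x : Points X) : HasAt (fun V v => FlatMor.localDim ↥V v = _root_.AlgSp.dim X) X x := by
  obtain ⟨W, a, ha, has⟩ := hX.atlas
  obtain ⟨w₀, rfl⟩ := surjective_ofPt_of_repWith has x
  obtain ⟨h, hh⟩ := (yon S).map_surjective (a ≫ f ≫ e.hom)
  have c : a ≫ f = (yon S).map h ≫ e.inv := by rw [hh, Category.assoc, Category.assoc, e.hom_inv_id, Category.comp_id]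
  have key : ∀ (Q : WithBot ℕ∞ → Prop) (w : ↥W.left),
      HasAtMor (fun _ _ h u => Q (FlatMor.fibreDimAt h u)) f (Points.ofPt a w) ↔
        Q (FlatMor.localDim ↥W.left w) := fun Q w => by
    rw [hasAtMor_fibreDim_iff hX hU ha (repWith_iso _) c w Q, fibreDimAt_eq_localDim_of_subsingleton]
  have heq : ∀ w : ↥W.left, FlatMor.localDim ↥W.left w = FlatMor.localDim ↥W.left w₀ := fun w =>
    (key (fun d => d = FlatMor.localDim ↥W.left w₀) w).1 (hconst (fun d => d = FlatMor.localDim ↥W.left w₀) (Points.ofPt a w₀) _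
      ((key (fun d => d = FlatMor.localDim ↥W.left w₀) w₀).2 rfl))
  refine ⟨W, a, w₀, ha, rfl, ?_⟩
  rw [dim_eq_of_atlas hX ha has]
  exact le_antisymm (localDim_le_topologicalKrullDim w₀)
    ((topologicalKrullDim_le_iff_localDim _).2 fun w => (heq w).le)

theorem GrpLocus.mem_iff_unit' {B : Sp S} (G : Over B) [GrpObj G] (Q : WithBot ℕ∞ → Prop) (hB : IsAlgSpace B)
    (hG : IsAlgSpace G.left) (hlft : LocP @LocallyOfFiniteType G.hom) (x : Points G.left) :
    HasAtMor (fun _ _ h u => Q (FlatMor.fibreDimAt h u)) G.hom x ↔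
      HasAtMor (fun _ _ h u => Q (FlatMor.fibreDimAt h u)) G.hom
        (Points.map (GrpLocus.unitSec G) (Points.map G.hom x)) := by
  obtain ⟨K, _, str, g₀, rfl⟩ := exists_ofPt x
  obtain ⟨τ, p, hτ, hτs, hpa, hpc⟩ := GrpLocus.exists_translation G g₀
  have hT := IsAlgSpace.yon_obj (Over.mk str)
  have hP := isAlgSpace_pullback' hB hG hT G.hom (g₀ ≫ G.hom)
  have sq := IsPullback.of_hasPullback G.hom (g₀ ≫ G.hom)
  have hl := EtLocal.lft.locP_of_isPullback hG hB hT sq hlft
  have e₁ := fibreDimLocus_preimage hG hB hP hT hlft sq Q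
  have e₂ := fibreDimLocus_preimage (g := 𝟙 ((yon S).obj (Over.mk str))) (p := τ) (f' := pullback.snd G.hom (g₀ ≫ G.hom))
    hP hT hP hT hl (IsPullback.of_horiz_isIso ⟨by rw [hτs, Category.comp_id]⟩) Q
  rw [e₁] at e₂
  have := Set.ext_iff.1 e₂ (Points.map p (Points.ofScheme (Over.mk str) (IsLocalRing.closedPoint K)))
  simp only [Set.mem_preimage, ← Points.map_comp, Category.assoc, hpa, hpc] at this
  rw [Points.ofPt_eq_map_ofScheme g₀, ← Points.map_comp, ← Points.map_comp]
  exact this.symm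

theorem grp_localDim_eq_dim {T : Over S} [Subsingleton ↥T.left] (G : Over ((yon S).obj T)) [GrpObj G]
    (hG : IsAlgSpace G.left) (hlft : LocP @LocallyOfFiniteType G.hom) (x : Points G.left) :
    HasAt (fun V v => FlatMor.localDim ↥V v = _root_.AlgSp.dim G.left) G.left x := by
  refine localDim_eq_dim hG (IsAlgSpace.yon_obj T) (Iso.refl _) G.hom (fun Q x y hx => ?_) x
  have := subsingleton_points_of_iso (Iso.refl ((yon S).obj T))
  rw [GrpLocus.mem_iff_unit' G Q (IsAlgSpace.yon_obj T) hG hlft] at hx ⊢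
  rwa [Subsingleton.elim (Points.map G.hom y) (Points.map G.hom x)]

theorem gpd_localDim_eq_dim {B : Sp S} (G : GroupoidSp B) (hR : IsAlgSpace G.R) (hU : IsAlgSpace G.U)
    {T : Over S} [Subsingleton ↥T.left] (e : G.U ≅ (yon S).obj T) (hs : LocP @LocallyOfFiniteType G.s)
    (r : Points G.R) : HasAt (fun V v => FlatMor.localDim ↥V v = _root_.AlgSp.dim G.R) G.R r := by
  refine localDim_eq_dim hR hU e G.s (fun Q x y hx => ?_) r
  have := subsingleton_points_of_iso e
  have hP := isAlgSpace_pullback' hU hR hR G.s G.t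
  have e₁ := fibreDimLocus_preimage hR hU hP hR hs (IsPullback.of_hasPullback G.s G.t) Q
  have e₂ := fibreDimLocus_preimage hR hU hP hR hs (isPullback_c_snd G) Q
  rw [e₂] at e₁
  let l : G.R ⟶ pullback G.s G.t :=
    pullback.lift (G.t ≫ G.e) (𝟙 G.R) (by rw [Category.assoc, G.e_s, Category.comp_id, Category.id_comp])
  have hl : l ≫ G.c = 𝟙 G.R := by
    have := G.e_comp (𝟙 G.R)
    simp only [Category.id_comp] at this
    exact this
  have key : ∀ z : Points G.R, HasAtMor (fun _ _ h u => Q (FlatMor.fibreDimAt h u)) G.s z ↔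
      HasAtMor (fun _ _ h u => Q (FlatMor.fibreDimAt h u)) G.s (Points.map G.e (Points.map G.t z)) := fun z => by
    have := Set.ext_iff.1 e₁ (Points.map l z)
    simp only [Set.mem_preimage, ← Points.map_comp, hl, Points.map_id, l, pullback.lift_fst] at this
    rw [← Points.map_comp]
    exact this
  rw [key] at hx ⊢
  rwa [Subsingleton.elim (Points.map G.t y) (Points.map G.t x)]

end GrothLib.AlgSp
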