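import Groth.Agent.Lib.AlgSp.GrpDim
import Groth.Agent.Lib.AlgSp.GpdFormal
import Groth.Agent.Lib.BrnchBC5.Main
import Groth.Agent.S2715
import Groth.Agent.S9236

/-!
# Group spaces and groupoids over a field are geometrically unibranch

Base change along a field extension does not change geometric unibranchness, translations identify all
points with the unit, and some point has a zero dimensional local ring.
-/

universe u

set_option autoImplicit false
set_option backward.isDefEq.respectTransparency false
set_option backward.isDefEq.respectTransparency.types false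

open CategoryTheory CategoryTheory.Limits AlgebraicGeometry Opposite TensorProduct IsLocalRing

namespace GrothLib.AlgSp.GrpUnibranch

open _root_.AlgSp

/-- A local ring with a single prime ideal is geometrically unibranch. -/
theorem isGeomUnibranch_of_isMaximal_nilradical (A : Type u) [CommRing A] [IsLocalRing A]
    (h : (nilradical A).IsMaximal) : CAlg2.IsGeomUnibranch A := by
  haveI : IsDomain (CAlg2.red A) := Ideal.Quotient.isDomain _
  have hfield : IsField (CAlg2.red A) := (Ideal.Quotient.maximal_ideal_iff_isField_quotient _).1 h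
  haveI : IsLocalRing (CAlg2.red A) :=
    .of_surjective' (Ideal.Quotient.mk (nilradical A)) Ideal.Quotient.mk_surjective
  letI := hfield.toField
  haveI : IsIntegrallyClosed (CAlg2.red A) := inferInstance
  have hsurj : Function.Surjective (algebraMap (CAlg2.red A) (CAlg2.normRed A)) := by
    rintro ⟨x, hx⟩
    obtain ⟨y, rfl⟩ := IsIntegrallyClosed.isIntegral_iff.mp hx
    exact ⟨y, rfl⟩
  refine ⟨⟨inferInstance, IsLocalRing.of_surjective' _ hsurj⟩, fun m' _ x => ⟨0, ?_⟩⟩
  rw [pow_zero, pow_one]
  exact (Ideal.Quotient.mk_surjective.comp (hsurj.comp Ideal.Quotient.mk_surjective)) x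

/-- Geometric unibranchness of a point does not change under an extension of the ground field. -/
theorem numGeomBranchesAt_pullback_iff {k K : Type u} [Field k] [Field K] [Algebra k K] {U : Scheme.{u}}
    (h : U ⟶ Spec (CommRingCat.of k)) (w : ↥(pullback h (Spec.map (CommRingCat.ofHom (algebraMap k K))))) :
    Brnch.numGeomBranchesAt (pullback h (Spec.map (CommRingCat.ofHom (algebraMap k K)))) w = 1 ↔
      Brnch.numGeomBranchesAt U (pullback.fst h (Spec.map (CommRingCat.ofHom (algebraMap k K))) w) = 1 := by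
  let σ := Spec.map (CommRingCat.ofHom (algebraMap k K))
  let v := pullback.fst h σ w
  let A := U.presheaf.stalk v
  let ρ : CommRingCat.of k ⟶ A := Spec.preimage (U.fromSpecStalk v ≫ h)
  letI : Algebra k A := ρ.hom.toAlgebra
  have hρ : U.fromSpecStalk v ≫ h = Spec.map (CommRingCat.ofHom (algebraMap k A)) := (Spec.map_preimage _).symm
  let e : pullback (U.fromSpecStalk v) (pullback.fst h σ) ≅ Spec (CommRingCat.of (A ⊗[k] K)) :=
    pullbackRightPullbackFstIso h σ (U.fromSpecStalk v) ≪≫ pullback.congrHom hρ rfl ≪≫ pullbackSpecIso k A K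
  haveI : Flat (U.fromSpecStalk v) := FEt21.flat_fromSpecStalk v
  obtain ⟨z, hz1, hz2⟩ := Scheme.Pullback.exists_preimage_pullback (f := U.fromSpecStalk v) (g := pullback.fst h σ)
    (closedPoint A) w Scheme.fromSpecStalk_closedPoint
  let j := e.inv ≫ pullback.snd (U.fromSpecStalk v) (pullback.fst h σ)
  haveI : IsPreimmersion (pullback.snd (U.fromSpecStalk v) (pullback.fst h σ)) :=
    MorphismProperty.pullback_snd _ _ inferInstance
  haveI : IsPreimmersion j := inferInstance
  haveI : Flat j := inferInstance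
  let q : PrimeSpectrum (A ⊗[k] K) := e.hom z
  have hjq : j q = w := by
    show (e.inv ≫ _) (e.hom z) = w
    rw [← Scheme.Hom.comp_apply, Iso.hom_inv_id_assoc]
    exact hz2
  have hcontr : q.asIdeal.comap (algebraMap A (A ⊗[k] K)) = maximalIdeal A := by
    have h1 : e.inv ≫ pullback.fst (U.fromSpecStalk v) (pullback.fst h σ) =
        Spec.map (CommRingCat.ofHom (algebraMap A (A ⊗[k] K))) := by
      simp only [e, Iso.trans_inv, Category.assoc]
      rw [pullbackRightPullbackFstIso_inv_fst, pullback.congrHom_inv, pullback.lift_fst, Category.comp_id]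
      exact pullbackSpecIso_inv_fst' k A K
    have h2 : Spec.map (CommRingCat.ofHom (algebraMap A (A ⊗[k] K))) q = closedPoint A := by
      rw [← h1]
      show (e.inv ≫ _) (e.hom z) = _
      rw [← Scheme.Hom.comp_apply, Iso.hom_inv_id_assoc]
      exact hz1
    exact congrArg PrimeSpectrum.asIdeal h2
  have hbij : Function.Bijective (j.stalkMap q) := by
    refine ⟨?_, j.stalkMap_surjective q⟩
    have hflat : (j.stalkMap q).hom.Flat := Flat.stalkMap j q
    algebraize [(j.stalkMap q).hom]
    haveI : IsLocalHom (algebraMap ((pullback h σ).presheaf.stalk (j q))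
        ((Spec (CommRingCat.of (A ⊗[k] K))).presheaf.stalk q)) :=
      inferInstanceAs (IsLocalHom (j.stalkMap q).hom)
    haveI := Module.FaithfullyFlat.of_flat_of_isLocalHom (A := (pullback h σ).presheaf.stalk (j q))
      (B := (Spec (CommRingCat.of (A ⊗[k] K))).presheaf.stalk q)
    exact FaithfulSMul.algebraMap_injective _ _
  let E : ((pullback h σ).presheaf.stalk (j q) : Type u) ≃+* Localization.AtPrime q.asIdeal :=
    (RingEquiv.ofBijective (j.stalkMap q).hom hbij).trans
      (Spec.stalkIso (CommRingCat.of (A ⊗[k] K)) q).commRingCatIsoToRingEquiv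
  have key : Brnch.numGeomBranchesAt (pullback h σ) (j q) = 1 ↔ Brnch.numGeomBranchesAt U v = 1 := by
    show Brnch.numGeomBranches ((pullback h σ).presheaf.stalk (j q)) = 1 ↔ Brnch.numGeomBranches A = 1
    rw [BrnchBC5.numGeomBranches_ringEquiv E, Groth.Agent.S9236.result, Groth.Agent.S9236.result]
    exact (Groth.Agent.S2715.result k A K q.asIdeal hcontr).symm
  rw [hjq] at key
  exact key

variable {S : Scheme.{u}}

/-- Geometric unibranchness at a point of a sheaf. -/
abbrev GU (F : Sp S) (x : Points F) : Prop := HasAt (fun U u => Brnch.numGeomBranchesAt U u = 1) F x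

theorem hasAt_chart {F : Sp S} (hF : IsAlgSpace F) {U : Over S} {a : (yon S).obj U ⟶ F} (ha : RepWith @Etale a)
    (u : ↥U.left) : GU F (Points.ofPt a u) ↔ Brnch.numGeomBranchesAt U.left u = 1 :=
  hasAt_iff hF (Q := fun U u => Brnch.numGeomBranchesAt U u = 1)
    (fun _ _ e (_ : Etale e) z => by rw [BrnchBC5.numGeomBranchesAt_etale e z]) ha u

theorem hasAt_iso {F : Sp S} (hF : IsAlgSpace F) (τ : F ⟶ F) [IsIso τ] (x : Points F) :
    GU F (Points.map τ x) ↔ GU F x := by
  have key : ∀ (σ : F ⟶ F) [IsIso σ] (y : Points F), GU F y → GU F (Points.map σ y) := fun σ _ y => by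
    rintro ⟨U, a, u, ha, rfl, hu⟩
    exact ⟨U, a ≫ σ, u, repWith_comp ha (repWith_iso (P := @Etale) σ), (Points.map_ofPt _ _ _).symm, hu⟩
  refine ⟨fun h => ?_, key τ x⟩
  have := key (inv τ) _ h
  rwa [← Points.map_comp, IsIso.hom_inv_id, Points.map_id] at this

/-- Base change along an extension of fields does not change geometric unibranchness. -/
theorem hasAt_bc {k K : Type u} [Field k] [Field K] {str₀ : Spec (CommRingCat.of k) ⟶ S}
    {str : Spec (CommRingCat.of K) ⟶ S} {F P : Sp S} (hF : IsAlgSpace F) (hP : IsAlgSpace P)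
    {f : F ⟶ (yon S).obj (Over.mk str₀)} {p : P ⟶ F} {q : P ⟶ (yon S).obj (Over.mk str)}
    {g : (yon S).obj (Over.mk str) ⟶ (yon S).obj (Over.mk str₀)} (sq : IsPullback p q f g) (x : Points P) :
    GU P x ↔ GU F (Points.map p x) := by
  obtain ⟨s, rfl⟩ := (yon S).map_surjective g
  obtain ⟨U, a, has', has⟩ := hF.atlas
  obtain ⟨u, hu⟩ := surjective_ofPt_of_repWith has (Points.map p x)
  obtain ⟨hU, hhU⟩ := (yon S).map_surjective (a ≫ f)
  obtain ⟨R, fstR, sndR, sqR⟩ := exists_isPullback_yon (IsAlgSpace.yon_obj (Over.mk str₀)).diag ((yon S).map hU)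
    ((yon S).map s)
  let b : (yon S).obj R ⟶ P := sq.lift ((yon S).map fstR ≫ a) ((yon S).map sndR)
    (by rw [Category.assoc, ← hhU, sqR.w])
  have hbot : IsPullback ((yon S).map fstR) b a p := by
    refine IsPullback.of_bot ?_ (sq.lift_fst _ _ _).symm sq
    rw [sq.lift_snd, ← hhU]
    exact sqR
  have hb : RepWith @Etale b := repWith_of_isPullback hbot has'
  obtain ⟨r, hr₁, hr₂⟩ := exists_of_isPullback hbot (x := Points.ofScheme U u) (y := x)
    (by rw [← Points.ofPt_eq_map_ofScheme, hu])
  obtain ⟨r, rfl⟩ := (Points.schemeEquiv _).surjective r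
  have hru : fstR.left r = u := (Points.schemeEquiv _).injective ((map_yon_ofPt fstR r).symm.trans hr₁)
  have hx : Points.ofPt b r = x := by
    rw [Points.ofPt_eq_map_ofScheme]
    exact hr₂
  rw [← hx, hasAt_chart hP hb, hx, ← hu, hasAt_chart hF has', ← hru]
  -- the square of schemes
  let φ : CommRingCat.of k ⟶ CommRingCat.of K := Spec.preimage s.left
  letI : Algebra k K := φ.hom.toAlgebra
  have hφ : s.left = Spec.map (CommRingCat.ofHom (algebraMap k K)) := (Spec.map_preimage _).symm
  have sqS : IsPullback fstR.left sndR.left hU.left (Spec.map (CommRingCat.ofHom (algebraMap k K))) := by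
    rw [← hφ]
    exact (IsPullback.of_map (yon S) ((yon S).map_injective (by
      rw [Functor.map_comp, Functor.map_comp]; exact sqR.w)) sqR).map (Over.forget S)
  let e := sqS.isoPullback
  have h1 := numGeomBranchesAt_pullback_iff hU.left (e.hom r)
  rw [← BrnchBC5.numGeomBranchesAt_etale e.hom r] at h1
  rwa [show pullback.fst hU.left (Spec.map (CommRingCat.ofHom (algebraMap k K))) (e.hom r) = fstR.left r by
    rw [← Scheme.Hom.comp_apply, sqS.isoPullback_hom_fst]] at h1

/-- Some point has a zero dimensional local ring, hence is geometrically unibranch. -/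
theorem exists_unibranch_point {F : Sp S} (hF : IsAlgSpace F) (x₀ : Points F) : ∃ x, GU F x := by
  obtain ⟨U, a, ha, has⟩ := hF.atlas
  obtain ⟨u₀, -⟩ := surjective_ofPt_of_repWith has x₀
  let A := U.left.presheaf.stalk u₀
  obtain ⟨P, hP⟩ := Ideal.nonempty_minimalPrimes (R := A) (I := (⊥ : Ideal A)) bot_ne_top
  haveI := hP.1.1
  let η : ↥U.left := U.left.fromSpecStalk u₀ ⟨P, hP.1.1⟩
  refine ⟨Points.ofPt a η, U, a, η, ha, rfl, ?_⟩
  show Brnch.numGeomBranches (U.left.presheaf.stalk η) = 1
  let j := U.left.fromSpecStalk u₀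
  let q : PrimeSpectrum A := ⟨P, hP.1.1⟩
  haveI : Flat j := FEt21.flat_fromSpecStalk u₀
  have hbij : Function.Bijective (j.stalkMap q) := by
    refine ⟨?_, j.stalkMap_surjective q⟩
    have hflat : (j.stalkMap q).hom.Flat := Flat.stalkMap j q
    algebraize [(j.stalkMap q).hom]
    haveI : IsLocalHom (algebraMap (U.left.presheaf.stalk (j q)) ((Spec A).presheaf.stalk q)) :=
      inferInstanceAs (IsLocalHom (j.stalkMap q).hom)
    haveI := Module.FaithfullyFlat.of_flat_of_isLocalHom (A := U.left.presheaf.stalk (j q))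
      (B := (Spec A).presheaf.stalk q)
    exact FaithfulSMul.algebraMap_injective _ _
  let E : (U.left.presheaf.stalk (j q) : Type u) ≃+* Localization.AtPrime P :=
    (RingEquiv.ofBijective (j.stalkMap q).hom hbij).trans (Spec.stalkIso A q).commRingCatIsoToRingEquiv
  show Brnch.numGeomBranches (U.left.presheaf.stalk (j q)) = 1
  rw [BrnchBC5.numGeomBranches_ringEquiv E, Groth.Agent.S9236.result]
  apply isGeomUnibranch_of_isMaximal_nilradical
  have hsub : Subsingleton (PrimeSpectrum (Localization.AtPrime P)) := by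
    refine ⟨fun a b => ?_⟩
    let ε := IsLocalization.AtPrime.orderIsoOfPrime (Localization.AtPrime P) P
    have key : ∀ c : PrimeSpectrum (Localization.AtPrime P), (ε ⟨c.asIdeal, c.2⟩).1 = P := fun c =>
      le_antisymm (ε ⟨c.asIdeal, c.2⟩).2.2 (hP.2 ⟨(ε ⟨c.asIdeal, c.2⟩).2.1, bot_le⟩ (ε ⟨c.asIdeal, c.2⟩).2.2)
    have := ε.injective (Subtype.ext ((key a).trans (key b).symm))
    exact PrimeSpectrum.ext (congrArg Subtype.val this)
  have : nilradical (Localization.AtPrime P) = maximalIdeal _ := by
    rw [nilradical_eq_sInf]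
    refine le_antisymm (sInf_le (maximalIdeal.isMaximal _).isPrime) (le_sInf fun J hJ => ?_)
    exact (congrArg PrimeSpectrum.asIdeal
      (hsub.elim ⟨maximalIdeal _, (maximalIdeal.isMaximal _).isPrime⟩ ⟨J, hJ⟩)).le
  rw [this]
  exact maximalIdeal.isMaximal _

theorem grpObj_geomUnibranch {k : Type u} [Field k] {str₀ : Spec (CommRingCat.of k) ⟶ S}
    (G : Over ((yon S).obj (Over.mk str₀))) [GrpObj G] (hG : IsAlgSpace G.left) (x : Points G.left) :
    GU G.left x := by
  haveI : Subsingleton ↥(Over.mk str₀).left := inferInstanceAs (Subsingleton (PrimeSpectrum k))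
  haveI := subsingleton_points_of_iso (Iso.refl ((yon S).obj (Over.mk str₀)))
  have key : ∀ y : Points G.left, GU G.left y ↔
      GU G.left (Points.map (GrpLocus.unitSec G) (Points.map G.hom y)) := by
    intro y
    obtain ⟨K, _, str, g₀, rfl⟩ := exists_ofPt y
    obtain ⟨τ, p, hτ, -, hpa, hpc⟩ := GrpLocus.exists_translation G g₀
    have hP := isAlgSpace_pullback' (IsAlgSpace.yon_obj (Over.mk str₀)) hG (IsAlgSpace.yon_obj (Over.mk str))
      G.hom (g₀ ≫ G.hom)
    have sq := IsPullback.of_hasPullback G.hom (g₀ ≫ G.hom)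
    haveI := hτ
    let z := Points.map p (Points.ofScheme (Over.mk str) (IsLocalRing.closedPoint K))
    have h1 := hasAt_bc hG hP sq (Points.map τ z)
    have h2 := hasAt_bc hG hP sq z
    rw [hasAt_iso hP τ z, h2] at h1
    simp only [z, ← Points.map_comp, Category.assoc, hpa, hpc] at h1
    rw [Points.ofPt_eq_map_ofScheme g₀, ← Points.map_comp, ← Points.map_comp]
    exact h1.symm
  obtain ⟨x₁, hx₁⟩ := exists_unibranch_point hG x
  rw [key] at hx₁ ⊢
  rwa [Subsingleton.elim (Points.map G.hom x) (Points.map G.hom x₁)]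

theorem gpd_geomUnibranch {B : Sp S} (G : GroupoidSp B) (hR : IsAlgSpace G.R) {k : Type u} [Field k]
    {str₀ : Spec (CommRingCat.of k) ⟶ S} (eU : G.U ≅ (yon S).obj (Over.mk str₀)) (r : Points G.R) :
    GU G.R r := by
  have hU : IsAlgSpace G.U := IsAlgSpace.of_iso (IsAlgSpace.yon_obj _) eU.symm
  haveI : Subsingleton ↥(Over.mk str₀).left := inferInstanceAs (Subsingleton (PrimeSpectrum k))
  haveI := subsingleton_points_of_iso eU
  have key : ∀ z : Points G.R, GU G.R z ↔ GU G.R (Points.map G.e (Points.map G.t z)) := by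
    intro z
    obtain ⟨K, _, str, g₀, rfl⟩ := exists_ofPt z
    have sqa := IsPullback.of_hasPullback (pullback.snd G.s G.t) g₀
    have sq₀ := sqa.paste_horiz (IsPullback.of_hasPullback G.s G.t)
    have sqc := sqa.paste_horiz (isPullback_c_snd G)
    have toTk : ∀ {h : (yon S).obj (Over.mk str) ⟶ G.U}
        {a : pullback (pullback.snd G.s G.t) g₀ ⟶ G.R},
        IsPullback a (pullback.snd (pullback.snd G.s G.t) g₀) G.s h →
          IsPullback a (pullback.snd (pullback.snd G.s G.t) g₀) (G.s ≫ eU.hom) (h ≫ eU.hom) := fun sq =>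
      sq.of_iso (Iso.refl _) (Iso.refl _) (Iso.refl _) eU (by simp) (by simp) (by simp) (by simp)
    have hP := isAlgSpace_pullback' hR (isAlgSpace_pullback' hU hR hR G.s G.t)
      (IsAlgSpace.yon_obj (Over.mk str)) (pullback.snd G.s G.t) g₀
    let l : G.R ⟶ pullback G.s G.t :=
      pullback.lift (G.t ≫ G.e) (𝟙 G.R) (by rw [Category.assoc, G.e_s, Category.comp_id, Category.id_comp])
    have hl : l ≫ G.c = 𝟙 G.R := by
      have := G.e_comp (𝟙 G.R)
      simp only [Category.id_comp] at this
      exact this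
    let w := Points.map (pullback.lift (g₀ ≫ l) (𝟙 _) (by
        rw [Category.assoc, pullback.lift_snd, Category.id_comp, Category.comp_id]) :
        (yon S).obj (Over.mk str) ⟶ pullback (pullback.snd G.s G.t) g₀)
      (Points.ofScheme (Over.mk str) (IsLocalRing.closedPoint K))
    have h1 := hasAt_bc hR hP (toTk sq₀) w
    have h2 := hasAt_bc hR hP (toTk sqc) w
    rw [h1] at h2
    simp only [w, ← Points.map_comp, pullback.lift_fst_assoc, Category.assoc, hl, l, pullback.lift_fst,
      Category.comp_id] at h2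
    rw [Points.ofPt_eq_map_ofScheme g₀, ← Points.map_comp, ← Points.map_comp]
    exact h2.symm
  obtain ⟨r₁, hr₁⟩ := exists_unibranch_point hR r
  rw [key] at hr₁ ⊢
  rwa [Subsingleton.elim (Points.map G.t r) (Points.map G.t r₁)]

end GrothLib.AlgSp.GrpUnibranch
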