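import Groth.Agent.Lib.AlgSp.HenselLift
import Groth.Agent.Lib.AlgSp.LocP
import Groth.Agent.Lib.Hensel.Properties

/-!
# Points with values in henselian local rings
-/

universe u

open CategoryTheory CategoryTheory.Limits AlgebraicGeometry

namespace GrothLib.AlgSp

open _root_.AlgSp

variable {S : Scheme.{u}}

theorem exists_residue_lift {X : Sp S} {M : Over S} {b : (yon S).obj M ⟶ X}
    (hM : ∀ q : FieldPt X, ∃ l : q.pt ⟶ M, (yon S).map l ≫ b = q.toHom)
    (R : Type u) [CommRing R] [IsLocalRing R] (str : Spec (CommRingCat.of R) ⟶ S)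
    (x₀ : (yon S).obj (Over.mk (Spec.map (CommRingCat.ofHom (IsLocalRing.residue R)) ≫ str)) ⟶ X) :
    ∃ l, (yon S).map l ≫ b = x₀ := by
  obtain ⟨l, hl⟩ := hM ⟨IsLocalRing.ResidueField R, Spec.map (CommRingCat.ofHom (IsLocalRing.residue R)) ≫ str,
    (J S).uliftYonedaEquiv.{u + 1} x₀⟩
  exact ⟨l, hl.trans (Equiv.symm_apply_apply _ _)⟩

theorem range_subset_of_closedPoint {A : Type u} [CommRing A] [IsLocalRing A] {X : Scheme.{u}}
    (g : Spec (CommRingCat.of A) ⟶ X) (V : X.Opens) (h : g (IsLocalRing.closedPoint A) ∈ V) :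
    Set.range g ⊆ (V : Set X) := by
  have e := (IsLocalRing.closedPoint_mem_iff (g ⁻¹ᵁ V)).1 h
  rintro _ ⟨y, rfl⟩
  exact (e ▸ TopologicalSpace.Opens.mem_top y : y ∈ g ⁻¹ᵁ V)

/-- Points with values in a henselian local ring lift to affine etale charts. -/
theorem exists_affine_chart_lift {X : Sp S} (hX : IsAlgSpace X) (R : Type u) [CommRing R] [HenselianLocalRing R]
    (str : Spec (CommRingCat.of R) ⟶ S) (z : (yon S).obj (Over.mk str) ⟶ X) :
    ∃ (Z : Over S) (p : (yon S).obj Z ⟶ X) (g : Over.mk str ⟶ Z),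
      IsAffine Z.left ∧ RepWith @Etale p ∧ (yon S).map g ≫ p = z := by
  obtain ⟨M, b, -, hb, hM⟩ := exists_sep_chart_lifting_field_points hX
  let ρ : Over.mk (Spec.map (CommRingCat.ofHom (IsLocalRing.residue R)) ≫ str) ⟶ Over.mk str :=
    Over.homMk (Spec.map (CommRingCat.ofHom (IsLocalRing.residue R))) rfl
  obtain ⟨l, hl⟩ := exists_residue_lift hM R str ((yon S).map ρ ≫ z)
  obtain ⟨g, hg⟩ := exists_lift_of_residue_lift hX hb R (T := Over.mk str) rfl z
    (T₀ := Over.mk (Spec.map (CommRingCat.ofHom (IsLocalRing.residue R)) ≫ str)) rfl ρ (by simp [ρ]) l hl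
  obtain ⟨_, ⟨V, hV, rfl⟩, hxV, -⟩ := M.left.isBasis_affineOpens.exists_subset_of_mem_open
    (Set.mem_univ (g.left (IsLocalRing.closedPoint R))) isOpen_univ
  obtain ⟨g', hg'⟩ := exists_lift_opens g V (range_subset_of_closedPoint g.left V hxV)
  let j : Over.mk (Scheme.Opens.ι V ≫ M.hom) ⟶ M := Over.homMk (Scheme.Opens.ι V) rfl
  refine ⟨_, (yon S).map j ≫ b, g', hV,
    repWith_comp ((repWith_yon_map_iff @Etale j).2 (inferInstanceAs (Etale (Scheme.Opens.ι V)))) hb, ?_⟩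
  rw [← Category.assoc, ← Functor.map_comp]
  exact (congrArg (fun e => (yon S).map e ≫ b) hg').trans hg

/-- A quotient point of a smooth scheme over a henselian local ring lifts. -/
theorem exists_section_extending_quotient {R : Type u} [CommRing R] [HenselianLocalRing R] {a : Ideal R}
    (ha : a ≠ ⊤) {X : Scheme.{u}} (f : X ⟶ Spec (CommRingCat.of R)) [Smooth f]
    (u₀ : Spec (CommRingCat.of (R ⧸ a)) ⟶ X) (h₀ : u₀ ≫ f = Spec.map (CommRingCat.ofHom (Ideal.Quotient.mk a))) :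
    ∃ u : Spec (CommRingCat.of R) ⟶ X, u ≫ f = 𝟙 _ ∧ Spec.map (CommRingCat.ofHom (Ideal.Quotient.mk a)) ≫ u = u₀ := by
  have : Nontrivial (R ⧸ a) := Ideal.Quotient.nontrivial_iff.2 ha
  have : IsLocalRing (R ⧸ a) := .of_surjective' (Ideal.Quotient.mk a) Ideal.Quotient.mk_surjective
  obtain ⟨_, ⟨V, hV, rfl⟩, hxV, -⟩ := X.isBasis_affineOpens.exists_subset_of_mem_open
    (Set.mem_univ (u₀ (IsLocalRing.closedPoint (R ⧸ a)))) isOpen_univ
  have hrange : Set.range u₀ ⊆ Set.range hV.fromSpec := by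
    rw [hV.range_fromSpec]
    exact range_subset_of_closedPoint u₀ V hxV
  obtain ⟨φ, hφ⟩ := Spec.map_surjective (hV.fromSpec ≫ f)
  obtain ⟨ψ, hψ⟩ := Spec.map_surjective (IsOpenImmersion.lift hV.fromSpec u₀ hrange)
  have hψu : Spec.map ψ ≫ hV.fromSpec = u₀ := by rw [hψ, IsOpenImmersion.lift_fac]
  have hcomp : φ ≫ ψ = CommRingCat.ofHom (Ideal.Quotient.mk a) := by
    apply Spec.map_injective
    rw [Spec.map_comp, hφ, ← Category.assoc, hψu, h₀]
  have hsm : φ.hom.Smooth := (HasRingHomProperty.Spec_iff (P := @Smooth)).mp (by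
    rw [hφ]; infer_instance)
  algebraize [φ.hom]
  have : HenselianRing R (IsLocalRing.maximalIdeal R) := inferInstance
  have : HenselianRing R a := Hensel.henselianRing_of_le (IsLocalRing.le_maximalIdeal ha)
  let σ : Γ(X, V) →ₐ[R] R ⧸ a := { ψ.hom with commutes' := fun r ↦ congr($hcomp r) }
  obtain ⟨τ, hτ⟩ := Hensel.exists_algHom_lift_of_smooth (I := a) σ
  refine ⟨Spec.map (CommRingCat.ofHom τ.toRingHom) ≫ hV.fromSpec, ?_, ?_⟩
  · rw [Category.assoc, ← hφ, ← Spec.map_comp, ← Spec.map_id]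
    exact congrArg Spec.map (CommRingCat.hom_ext τ.comp_algebraMap)
  · rw [← Category.assoc, ← Spec.map_comp, ← hψu]
    congr 2
    ext b
    exact AlgHom.congr_fun hτ b

theorem exists_lift_of_smooth_quotient (R : Type u) [CommRing R] [HenselianLocalRing R]
    {X : Sp (Spec (CommRingCat.of R))} (hX : IsAlgSpace X) {U : Over (Spec (CommRingCat.of R))}
    {c : (yon _).obj U ⟶ X} (hU : Smooth U.hom) (hc : RepWith @Etale c) (hcs : RepWith @Surjective c)
    (a : Ideal R) (ha : a ≠ ⊤) {T₀ : Over (Spec (CommRingCat.of R))}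
    (e : T₀ = Over.mk (Spec.map (CommRingCat.ofHom (Ideal.Quotient.mk a)) ≫ 𝟙 _))
    (x₀ : (yon _).obj T₀ ⟶ X) :
    ∃ (x : (yon _).obj (Over.mk (𝟙 (Spec (CommRingCat.of R)))) ⟶ X) (ρ : T₀ ⟶ Over.mk (𝟙 _)),
      (yon _).map ρ ≫ x = x₀ := by
  subst e
  obtain ⟨M, b, -, hb, hM⟩ := exists_sep_chart_lifting_field_points hX
  obtain ⟨g, hg⟩ := exists_lift_quotient_point hX hb R (𝟙 _) (fun y => exists_residue_lift hM R _ y) a x₀
  obtain ⟨Q, pb, pu, sq⟩ := exists_isPullback_yon hX.diag b c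
  have h1 : Etale pb.left := hc.2 _ _ _ sq.flip
  have h2 : Surjective pb.left := hcs.2 _ _ _ sq.flip
  have h3 : Etale pu.left := hb.2 _ _ _ sq
  have hMs : Smooth M.hom := EtLocal.smooth.descend pb.left M.hom h1 h2 (by
    rw [Over.w pb, ← Over.w pu]
    exact MorphismProperty.comp_mem @Smooth _ _ inferInstance hU)
  obtain ⟨x, hx, hx'⟩ := exists_section_extending_quotient ha M.hom g.left
    ((Over.w g).trans (Category.comp_id _))
  let ξ : Over.mk (𝟙 (Spec (CommRingCat.of R))) ⟶ M := Over.homMk x hx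
  let ρ : Over.mk (Spec.map (CommRingCat.ofHom (Ideal.Quotient.mk a)) ≫ 𝟙 _) ⟶ Over.mk (𝟙 (Spec (CommRingCat.of R))) :=
    Over.homMk (Spec.map (CommRingCat.ofHom (Ideal.Quotient.mk a))) rfl
  refine ⟨(yon _).map ξ ≫ b, ρ, ?_⟩
  rw [← Category.assoc, ← Functor.map_comp]
  exact (congrArg (fun e => (yon _).map e ≫ b) (Over.OverMorphism.ext hx')).trans hg

end GrothLib.AlgSp
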