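import Groth.Agent.Lib.AlgSp.LimitImmersion
import Mathlib.AlgebraicGeometry.AffineSpace

/-!
# Immersions into an affine space over an affine base

* `exists_isImmersion_homOfVector`: an immersion into a product of affine schemes, of finite type over the second
  factor, gives an immersion into an affine space over that factor.
-/

universe u

open CategoryTheory CategoryTheory.Limits AlgebraicGeometry Opposite
set_option backward.isDefEq.respectTransparency false

noncomputable section

namespace GrothLib.AlgSp

open AffineSpace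

/-- The affine spaces on the finite subsets of an index type. -/
def finAffFunctor (B : Type u) (V : Scheme.{u}) : (Finset B)ᵒᵖ ⥤ Scheme.{u} where
  obj s := 𝔸(↥s.unop; V)
  map {s t} φ := reindex (fun b : ↥t.unop => (⟨b.1, leOfHom φ.unop b.2⟩ : ↥s.unop)) V
  map_id s := reindex_id V
  map_comp {s t t'} φ ψ := by
    refine AffineSpace.hom_ext (by simp) fun i => ?_
    simp

/-- The affine space on an index type over the finite ones. -/
def finAffCone (B : Type u) (V : Scheme.{u}) : Cone (finAffFunctor B V) where
  pt := 𝔸(B; V)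
  π :=
    { app := fun s => reindex (fun b : ↥s.unop => b.1) V
      naturality := fun s t φ => by
        refine (Category.id_comp _).trans (AffineSpace.hom_ext ?_ fun i => ?_)
        · simp [finAffFunctor]
        · simp [finAffFunctor] }

theorem nonempty_isLimit_finAffCone (B : Type u) (V : Scheme.{u}) : Nonempty (IsLimit (finAffCone B V)) := by
  classical
  let coordAt : ∀ (s : Cone (finAffFunctor B V)) (b : B), Γ(s.pt, ⊤) := fun s b =>
    (s.π.app (op {b})).appTop (coord V (⟨b, Finset.mem_singleton_self b⟩ : ↥({b} : Finset B)))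
  refine ⟨{
    lift := fun s => homOfVector (s.π.app (op ∅) ≫ (𝔸(↥(∅ : Finset B); V) ↘ V)) (coordAt s)
    fac := fun s t => AffineSpace.hom_ext ?_ fun i => ?_
    uniq := fun s m hm => AffineSpace.hom_ext ?_ fun b => ?_ }⟩
  · rw [Category.assoc, show (finAffCone B V).π.app t ≫ (𝔸(↥t.unop; V) ↘ V) = (𝔸(B; V) ↘ V) from reindex_over _ V,
      homOfVector_over, ← s.w (homOfLE (Finset.empty_subset t.unop)).op, Category.assoc]
    congr 1
    exact reindex_over _ V
  · have h := s.w (homOfLE (Finset.singleton_subset_iff.2 i.2 : ({i.1} : Finset B) ≤ t.unop)).op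
    simp [finAffCone, coordAt, ← h, finAffFunctor]
  · rw [homOfVector_over, ← hm (op ∅), Category.assoc]
    congr 1
    exact (reindex_over _ V).symm
  · have h := reindex_appTop_coord (fun b' : ↥({b} : Finset B) => b'.1) V ⟨b, Finset.mem_singleton_self b⟩
    rw [homOfVector_appTop_coord]
    simp only [coordAt, ← hm, Scheme.Hom.comp_appTop, CommRingCat.comp_apply]
    exact congrArg m.appTop h.symm

theorem homOfVector_reindex {X V : Scheme.{u}} {n m : Type u} (f : X ⟶ V) (v : n → Γ(X, ⊤)) (i : m → n) :
    homOfVector f v ≫ reindex i V = homOfVector f (fun j => v (i j)) := by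
  refine AffineSpace.hom_ext (by simp) fun j => ?_
  rw [homOfVector_appTop_coord, Scheme.Hom.comp_appTop, CommRingCat.comp_apply, reindex_appTop_coord,
    homOfVector_appTop_coord]

/-- An immersion into a product of affine schemes, of finite type over the second factor, gives an immersion into an
affine space over that factor. -/
theorem exists_isImmersion_homOfVector {R U V : Scheme.{u}} [IsAffine U] [IsAffine V] [CompactSpace R]
    (r₁ : R ⟶ U) (r₂ : R ⟶ V) [LocallyOfFiniteType r₂]
    [IsImmersion (pullback.lift r₂ r₁ (terminal.hom_ext _ _) : R ⟶ pullback (terminal.from V) (terminal.from U))] :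
    ∃ (n : ℕ) (v : ULift.{u} (Fin n) → Γ(U, ⊤)), IsImmersion (homOfVector r₂ fun j => r₁.appTop (v j)) := by
  classical
  let B : Type u := Γ(U, ⊤)
  let κ : U ⟶ Spec (CommRingCat.of (MvPolynomial B (ULift.{u} ℤ))) :=
    (AffineSpace.toSpecMvPolyIntEquiv B).symm (fun b => b)
  haveI : IsClosedImmersion κ := IsClosedImmersion.of_surjective_of_isAffine _ fun b => by
    refine ⟨(Scheme.ΓSpecIso _).inv (MvPolynomial.X b), ?_⟩
    exact congrFun ((AffineSpace.toSpecMvPolyIntEquiv B).apply_symm_apply fun b => b) b
  let c : pullback (terminal.from V) (terminal.from U) ⟶ 𝔸(B; V) :=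
    pullback.map _ _ _ _ (𝟙 V) κ (𝟙 _) (terminal.hom_ext _ _) (terminal.hom_ext _ _)
  haveI : IsClosedImmersion c := MorphismProperty.pullbackMap (P := @IsClosedImmersion) inferInstance inferInstance (terminal.hom_ext _ _) (terminal.hom_ext _ _)
  let ι : R ⟶ (finAffCone B V).pt := pullback.lift r₂ r₁ (terminal.hom_ext _ _) ≫ c
  haveI : IsImmersion ι := inferInstanceAs (IsImmersion (pullback.lift r₂ r₁ (terminal.hom_ext _ _) ≫ c))
  have hι : ι = homOfVector r₂ fun b => r₁.appTop b := by
    refine AffineSpace.hom_ext ?_ fun b => ?_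
    · rw [homOfVector_over]
      show (pullback.lift r₂ r₁ _ ≫ c) ≫ pullback.fst _ _ = r₂
      simp [c]
    · rw [homOfVector_appTop_coord]
      show (pullback.lift r₂ r₁ _ ≫ c).appTop ((toSpecMvPoly B V).appTop ((Scheme.ΓSpecIso _).inv (MvPolynomial.X b))) = _
      rw [← CommRingCat.comp_apply (toSpecMvPoly B V).appTop, ← Scheme.Hom.comp_appTop]
      have e : (pullback.lift r₂ r₁ (terminal.hom_ext _ _) ≫ c) ≫ toSpecMvPoly B V = r₁ ≫ κ := by
        show (pullback.lift r₂ r₁ _ ≫ c) ≫ pullback.snd _ _ = _
        simp [c]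
      rw [e, Scheme.Hom.comp_appTop, CommRingCat.comp_apply]
      exact congrArg _ (congrFun ((AffineSpace.toSpecMvPolyIntEquiv B).apply_symm_apply fun b => b) b)
  haveI : ∀ s, IsAffine ((finAffFunctor B V).obj s) := fun s => inferInstanceAs (IsAffine 𝔸(↥s.unop; V))
  haveI : LocallyOfFiniteType (ι ≫ (finAffCone B V).π.app (op ∅)) := by
    have h : (ι ≫ (finAffCone B V).π.app (op ∅)) ≫ (𝔸(↥(∅ : Finset B); V) ↘ V) = r₂ := by
      refine (Category.assoc _ _ _).trans ((congrArg (fun q => ι ≫ q)
        (reindex_over (fun b : ↥(∅ : Finset B) => b.1) V)).trans ?_)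
      rw [hι]
      exact homOfVector_over _ _
    haveI : LocallyOfFiniteType ((ι ≫ (finAffCone B V).π.app (op ∅)) ≫ (𝔸(↥(∅ : Finset B); V) ↘ V)) := by
      rw [h]; infer_instance
    exact locallyOfFiniteType_of_comp _ (𝔸(↥(∅ : Finset B); V) ↘ V)
  obtain ⟨k, -, hk⟩ := exists_isImmersion_into (finAffFunctor B V) (nonempty_isLimit_finAffCone B V).some ι (op ∅)
  let e : ULift.{u} (Fin k.unop.card) ≃ ↥k.unop := Equiv.ulift.trans k.unop.equivFin.symm
  refine ⟨k.unop.card, fun j => (e j).1, ?_⟩
  have hre : IsIso (reindex (fun j : ULift.{u} (Fin k.unop.card) => e j) V) := by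
    refine ⟨reindex (fun b : ↥k.unop => e.symm b) V, AffineSpace.hom_ext (by simp) (fun i => by simp),
      AffineSpace.hom_ext (by simp) (fun i => by simp)⟩
  haveI := hre
  haveI := hk
  have : homOfVector r₂ (fun j => r₁.appTop ((e j).1 : B)) =
      (ι ≫ (finAffCone B V).π.app k) ≫ reindex (fun j : ULift.{u} (Fin k.unop.card) => e j) V := by
    rw [hι]
    exact ((congrArg (fun q => q ≫ reindex (fun j : ULift.{u} (Fin k.unop.card) => e j) V)
      (homOfVector_reindex r₂ (fun b => r₁.appTop b) (fun b : ↥k.unop => b.1))).trans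
        (homOfVector_reindex r₂ (fun b : ↥k.unop => r₁.appTop b.1) (fun j => e j))).symm
  rw [this]
  infer_instance

end GrothLib.AlgSp
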