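import Groth.Agent.Lib.AlgSp.ImmersionAffSpace
import Groth.Agent.Lib.AlgSp.DiagAffine

set_option autoImplicit false
set_option backward.isDefEq.respectTransparency false
universe u
open CategoryTheory CategoryTheory.Limits AlgebraicGeometry
open AlgSp
open GrothLib.AlgSp

namespace GrothLib.AlgSp.ImmersionChart

theorem homOfVector_map {n : Type u} {R U V W : Scheme.{u}} (s : R ⟶ V) (t : R ⟶ U) (φ : V ⟶ W) (ψ : U ⟶ W)
    (h : s ≫ φ = t ≫ ψ) (v : n → Γ(U, ⊤)) :
    AffineSpace.homOfVector s (fun j => t.appTop (v j)) ≫ AffineSpace.map n φ = t ≫ AffineSpace.homOfVector ψ v := by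
  refine AffineSpace.hom_ext ?_ fun i => ?_
  · rw [Category.assoc, AffineSpace.map_over, AffineSpace.homOfVector_over_assoc, Category.assoc,
      AffineSpace.homOfVector_over, h]
  · rw [Scheme.Hom.comp_appTop, CommRingCat.comp_apply, AffineSpace.map_appTop_coord,
      AffineSpace.homOfVector_appTop_coord, Scheme.Hom.comp_appTop, CommRingCat.comp_apply,
      AffineSpace.homOfVector_appTop_coord]

theorem isImmersion_lift_terminal {S : Scheme.{u}} {R U V : Over S} (t : R ⟶ U) (s : R ⟶ V)
    [IsImmersion (prod.lift t s).left] :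
    IsImmersion (pullback.lift s.left t.left (terminal.hom_ext _ _) :
      R.left ⟶ pullback (terminal.from V.left) (terminal.from U.left)) := by
  let ψ : pullback U.hom V.hom ⟶ pullback (terminal.from V.left) (terminal.from U.left) :=
    pullback.mapDesc U.hom V.hom (terminal.from S) ≫ (pullbackSymmetry _ _).hom ≫
      (pullback.congrHom (terminal.hom_ext _ _) (terminal.hom_ext _ _)).hom
  haveI : IsImmersion ψ := inferInstance
  have e : pullback.lift s.left t.left (terminal.hom_ext _ _) =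
      (prod.lift t s).left ≫ (Over.prodLeftIsoPullback U V).hom ≫ ψ := by
    apply pullback.hom_ext
    · simp [ψ, ← Over.comp_left]
    · simp [ψ, ← Over.comp_left]
  rw [e]
  infer_instance

theorem compactSpace_chart {S : Scheme.{u}} [QuasiSeparatedSpace ↥S] {F : AlgSp.Sp S}
    (hqs : AlgSp.IsQuasiSeparatedSp F) {R U V : Over S} [IsAffine U.left] [IsAffine V.left] {t : R ⟶ U} {s : R ⟶ V}
    {f : (AlgSp.yon S).obj U ⟶ F} {a : (AlgSp.yon S).obj V ⟶ F}
    (sq : IsPullback ((AlgSp.yon S).map t) ((AlgSp.yon S).map s) f a) : CompactSpace ↥R.left := by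
  haveI : QuasiCompact (prod.lift t s).left := prop_prodLift_of_repWith_diag hqs sq
  haveI : QuasiCompact U.hom := quasiCompact_of_compactSpace _
  haveI : CompactSpace ↥(pullback U.hom V.hom) :=
    QuasiCompact.compactSpace_of_compactSpace (pullback.snd U.hom V.hom)
  haveI : CompactSpace ↥(U ⨯ V : Over S).left := (Scheme.homeoOfIso (Over.prodLeftIsoPullback U V)).symm.compactSpace
  exact QuasiCompact.compactSpace_of_compactSpace (prod.lift t s).left

theorem existsUnique_lift_yon {S : Scheme.{u}} {V' V A : Over S} {q : V' ⟶ A} {π : V' ⟶ V}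
    (sq : IsPullback q π (Over.mkIdTerminal.from A) (Over.mkIdTerminal.from V)) {T : AlgSp.Sp S}
    (p : T ⟶ (AlgSp.yon S).obj V) (r : T ⟶ (AlgSp.yon S).obj A) :
    ∃! m : T ⟶ (AlgSp.yon S).obj V', m ≫ (AlgSp.yon S).map q = r ∧ m ≫ (AlgSp.yon S).map π = p := by
  have hT : IsTerminal ((AlgSp.yon S).obj (Over.mk (𝟙 S))) := Over.mkIdTerminal.isTerminalObj (AlgSp.yon S) _
  have sq' := sq.map (AlgSp.yon S)
  exact ⟨sq'.lift r p (hT.hom_ext _ _), ⟨sq'.lift_fst _ _ _, sq'.lift_snd _ _ _⟩,
    fun m hm => sq'.hom_ext (by rw [sq'.lift_fst, hm.1]) (by rw [sq'.lift_snd, hm.2])⟩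

/-- An affine scheme locally of finite type over `X` whose fibre products with affine charts are immersed in the
absolute products immerses in an affine space over `X`. -/
theorem exists_immersion {S : Scheme.{u}} [QuasiSeparatedSpace S]
    (X : AlgSp.Space S) (hqs : AlgSp.IsQuasiSeparatedSp X.obj)
    (U : Over S) (hU : IsAffine U.left) (f : (AlgSp.yon S).obj U ⟶ X.obj) (hf : AlgSp.LocP @LocallyOfFiniteType f)
    (himm : ∀ (V R : Over S) (a : (AlgSp.yon S).obj V ⟶ X.obj) (t : R ⟶ U) (s : R ⟶ V), IsAffine V.left →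
      AlgSp.RepWith @Etale a → IsPullback ((AlgSp.yon S).map t) ((AlgSp.yon S).map s) f a →
        IsImmersion (prod.lift t s).left) :
    ∃ (n : ℕ) (i : (AlgSp.yon S).obj U ⟶ X.obj ⨯ (AlgSp.yon S).obj (Over.mk (𝔸(ULift.{u} (Fin n); S) ↘ S))),
      i ≫ prod.fst = f ∧ AlgSp.RepWith @IsImmersion i := by
  classical
  haveI := hU
  haveI : CompactSpace ↥U.left := inferInstance
  obtain ⟨V, a, hV, hae, hcov⟩ := exists_affine_chart_covering X.property (isQuasiCompactSp_yon U) f
  haveI := hV
  obtain ⟨R, t, s, sqR⟩ := exists_isPullback_yon X.property.diag f a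
  haveI : IsImmersion (prod.lift t s).left := himm _ _ _ _ _ hV hae sqR
  haveI : IsImmersion (pullback.lift s.left t.left (terminal.hom_ext _ _) :
      R.left ⟶ pullback (terminal.from V.left) (terminal.from U.left)) :=
    isImmersion_lift_terminal t s
  haveI : CompactSpace ↥R.left := compactSpace_chart hqs sqR
  have hte : AlgSp.RepWith @Etale ((AlgSp.yon S).map t) := repWith_of_isPullback sqR.flip hae
  haveI : LocallyOfFiniteType s.left := hf ((AlgSp.yon S).map t) a s hte hae sqR.w
  obtain ⟨n, v, hv⟩ := exists_isImmersion_homOfVector t.left s.left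
  let A : Over S := Over.mk (𝔸(ULift.{u} (Fin n); S) ↘ S)
  let g : U ⟶ A := Over.homMk (AffineSpace.homOfVector U.hom v) (AffineSpace.homOfVector_over _ _)
  refine ⟨n, prod.lift f ((AlgSp.yon S).map g), prod.lift_fst _ _, ?_⟩
  -- the affine space over the chart
  let V' : Over S := Over.mk ((𝔸(ULift.{u} (Fin n); V.left) ↘ V.left) ≫ V.hom)
  let π : V' ⟶ V := Over.homMk (𝔸(ULift.{u} (Fin n); V.left) ↘ V.left) rfl
  let q : V' ⟶ A := Over.homMk (AffineSpace.map (ULift.{u} (Fin n)) V.hom) (AffineSpace.map_over _)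
  let ι : R ⟶ V' := Over.homMk (AffineSpace.homOfVector s.left fun j => t.left.appTop (v j))
    (show AffineSpace.homOfVector s.left _ ≫ (𝔸(ULift.{u} (Fin n); V.left) ↘ V.left) ≫ V.hom = R.hom by
      rw [AffineSpace.homOfVector_over_assoc, Over.w s])
  have sqA : IsPullback q π (Over.mkIdTerminal.from A) (Over.mkIdTerminal.from V) := by
    refine isPullback_of_left ?_
    have h1 : (Over.mkIdTerminal.from A).left = A.hom := (Category.comp_id _).symm.trans (Over.w (Over.mkIdTerminal.from A))
    have h2 : (Over.mkIdTerminal.from V).left = V.hom := (Category.comp_id _).symm.trans (Over.w (Over.mkIdTerminal.from V))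
    rw [h1, h2]
    exact AffineSpace.isPullback_map V.hom
  -- the open subspace
  have hopen : IsOpen (Set.range (Points.ofPt a)) := (isOpenMap_ofPt_of_etale hae).isOpen_range
  let j := openSubι X.obj (Set.range (Points.ofPt a))
  have hj : AlgSp.RepWith @IsOpenImmersion j := repWith_openSubι hopen
  haveI : Mono j := mono_of_openImmersion hj
  obtain ⟨a', ha'⟩ := openSub_lift (W := Set.range (Points.ofPt a)) a fun x => ⟨x, rfl⟩
  obtain ⟨f', hf'⟩ := openSub_lift (W := Set.range (Points.ofPt a)) f fun x =>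
    hcov ⟨Points.ofPt (𝟙 _) x, by rw [Points.map_ofPt, Category.id_comp]⟩
  have ha'e : AlgSp.RepWith @Etale a' := by
    refine repWith_of_isPullback (g := j) (g' := 𝟙 _) ?_ hae
    refine isPullback_of_yon (by rw [ha', Category.id_comp]) fun T p r hpr => ?_
    refine ⟨p, ⟨Category.comp_id _, (cancel_mono j).1 (by rw [Category.assoc, ha']; exact hpr)⟩, fun z hz => ?_⟩
    rw [← hz.1, Category.comp_id]
  have ha's : AlgSp.RepWith @Surjective a' := repWith_surjective_of_ofPt ha'e.1 fun z => by
    obtain ⟨x, hx⟩ := (range_openSubι (W := Set.range (Points.ofPt a))).le ⟨z, rfl⟩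
    refine ⟨x, injective_map_of_mono j ?_⟩
    rw [Points.map_ofPt, ha', hx]
  let b : (AlgSp.yon S).obj V' ⟶ openSub X.obj (Set.range (Points.ofPt a)) ⨯ (AlgSp.yon S).obj A :=
    prod.lift ((AlgSp.yon S).map π ≫ a') ((AlgSp.yon S).map q)
  have hb : ∀ {T : AlgSp.Sp S} (p : T ⟶ (AlgSp.yon S).obj V) (r : T ⟶ (AlgSp.yon S).obj A),
      ∃! m : T ⟶ (AlgSp.yon S).obj V', m ≫ (AlgSp.yon S).map q = r ∧ m ≫ (AlgSp.yon S).map π = p :=
    fun {T} p r => existsUnique_lift_yon sqA p r
  have sqb : IsPullback ((AlgSp.yon S).map π) b a' prod.fst := by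
    refine isPullback_of_yon (prod.lift_fst _ _).symm fun T p r hpr => ?_
    obtain ⟨m, ⟨hm₁, hm₂⟩, hu⟩ := hb p (r ≫ prod.snd)
    refine ⟨m, ⟨hm₂, ?_⟩, fun m' hm' => hu m' ⟨by rw [← hm'.2, Category.assoc, prod.lift_snd], hm'.1⟩⟩
    apply prod.hom_ext
    · rw [Category.assoc, prod.lift_fst, reassoc_of% hm₂, hpr]
    · rw [Category.assoc, prod.lift_snd, hm₁]
  haveI : Sheaf.IsLocallySurjective b :=
    chart_isLocallySurjective (repWith_of_isPullback sqb ha'e) (repWith_of_isPullback sqb ha's)
  have hιπ : ι ≫ π = s := Over.OverMorphism.ext (AffineSpace.homOfVector_over _ _)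
  have hιq : ι ≫ q = t ≫ g := Over.OverMorphism.ext (by
    show AffineSpace.homOfVector s.left (fun j => t.left.appTop (v j)) ≫ AffineSpace.map _ V.hom =
      t.left ≫ AffineSpace.homOfVector U.hom v
    exact homOfVector_map s.left t.left V.hom U.hom ((Over.w s).trans (Over.w t).symm) v)
  have sqR' : IsPullback ((AlgSp.yon S).map t) ((AlgSp.yon S).map ι) (prod.lift f' ((AlgSp.yon S).map g)) b := by
    refine isPullback_of_yon ?_ fun T p r hpr => ?_
    · apply prod.hom_ext
      · rw [Category.assoc, prod.lift_fst, Category.assoc, prod.lift_fst, ← cancel_mono j, Category.assoc, hf',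
          Category.assoc, Category.assoc, ha', ← Category.assoc ((AlgSp.yon S).map ι), ← Functor.map_comp, hιπ, sqR.w]
      · rw [Category.assoc, prod.lift_snd, Category.assoc, prod.lift_snd, ← Functor.map_comp, ← Functor.map_comp, hιq]
    · have h1 := congrArg (· ≫ prod.fst ≫ j) hpr
      have h2 := congrArg (· ≫ prod.snd) hpr
      simp only [b, Category.assoc, prod.lift_fst_assoc, prod.lift_snd, hf', ha'] at h1 h2
      rw [show f' ≫ j = f from hf', show a' ≫ j = a from ha'] at h1
      have h1' : p ≫ f = (r ≫ (AlgSp.yon S).map π) ≫ a := h1.trans (Category.assoc _ _ _).symm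
      refine ⟨sqR.lift p _ h1', ⟨sqR.lift_fst _ _ _, ?_⟩, fun m hm => sqR.hom_ext (by rw [sqR.lift_fst, hm.1])
        (by rw [sqR.lift_snd, ← hm.2, Category.assoc, ← Functor.map_comp, hιπ])⟩
      refine (hb (r ≫ (AlgSp.yon S).map π) (r ≫ (AlgSp.yon S).map q)).unique ⟨?_, ?_⟩ ⟨rfl, rfl⟩
      · rw [Category.assoc, ← Functor.map_comp, hιq, Functor.map_comp, ← Category.assoc, sqR.lift_fst, h2]
      · rw [Category.assoc, ← Functor.map_comp, hιπ, sqR.lift_snd]
  have hi₀ : AlgSp.RepWith @IsImmersion (prod.lift f' ((AlgSp.yon S).map g)) :=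
    repWith_of_base_isImmersion b sqR' le_rfl fppfDescends_isImmersion ((repWith_yon_map_iff _ _).2 hv)
  have sqj : IsPullback prod.fst (prod.map j (𝟙 ((AlgSp.yon S).obj A))) j prod.fst := by
    refine isPullback_of_yon (by simp) fun T p r hpr => ?_
    refine ⟨prod.lift p (r ≫ prod.snd), ⟨prod.lift_fst _ _, ?_⟩, fun m hm => ?_⟩
    · apply prod.hom_ext <;> simp [hpr]
    · apply prod.hom_ext
      · rw [prod.lift_fst, hm.1]
      · rw [prod.lift_snd, ← hm.2]; simp
  have hpj : AlgSp.RepWith @IsImmersion (prod.map j (𝟙 ((AlgSp.yon S).obj A))) :=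
    repWith_mono (repWith_of_isPullback sqj hj) fun _ _ m (hm : IsOpenImmersion m) => (inferInstance : IsImmersion m)
  have := repWith_comp hi₀ hpj
  rw [prod.lift_map, hf', Category.comp_id] at this
  exact this

end GrothLib.AlgSp.ImmersionChart
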