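import Groth.Agent.Lib.AlgSp.UnivExist
import Groth.Agent.Lib.AlgSp.OpenSub
import Groth.Agent.Lib.AlgSp.UnivClosed

/-!
# The first infinitesimal neighbourhood is the universal first order thickening

Main results: `eq_of_comap_open`, `fot_of_ker_sq`, `isUnivFOThick_infNbhd`.
-/

universe u

open CategoryTheory CategoryTheory.Limits AlgebraicGeometry Opposite TopologicalSpace

namespace GrothLib.AlgSp

/-- Ideal sheaves are determined on an open cover. -/
theorem eq_of_comap_open {X : Scheme.{u}} (I J : X.IdealSheafData)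
    (h : ∀ x : X, ∃ (W : Scheme.{u}) (g : W ⟶ X), IsOpenImmersion g ∧ x ∈ Set.range g ∧
      I.comap g = J.comap g) : I = J := by
  have h' : ∀ x : X, ∃ U : X.affineOpens, x ∈ U.1 ∧ I.ideal U = J.ideal U := by
    intro x
    obtain ⟨W, g, hg, ⟨w, rfl⟩, hJ⟩ := h x
    obtain ⟨_, ⟨V, hV, rfl⟩, hwV, -⟩ :=
      W.isBasis_affineOpens.exists_subset_of_mem_open (Set.mem_univ w) isOpen_univ
    refine ⟨⟨g ''ᵁ V, hV.image_of_isOpenImmersion g⟩, ⟨w, hwV, rfl⟩, ?_⟩
    have e := congrArg (fun K => K.ideal ⟨V, hV⟩) hJ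
    simp only [Scheme.IdealSheafData.ideal_comap_of_isOpenImmersion] at e
    exact Ideal.comap_injective_of_surjective _ (ConcreteCategory.bijective_of_isIso (g.appIso V).inv).2 e
  choose U hxU hU using h'
  exact Scheme.IdealSheafData.ext_of_iSup_eq_top U
    (top_unique fun x _ => TopologicalSpace.Opens.mem_iSup.mpr ⟨x, hxU x⟩) hU

/-- The closed subscheme of the square of the ideal is a first order thickening. -/
theorem fot_of_ker_sq {W Wn V : Scheme.{u}} {s : W ⟶ Wn} {n : Wn ⟶ V} {m : W ⟶ V} [IsClosedImmersion n]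
    [IsClosedImmersion m] (e : s ≫ n = m) (hk : n.ker = m.ker ^ 2) : MoreMor.IsFirstOrderThickening s := by
  have : IsClosedImmersion (s ≫ n) := by rw [e]; infer_instance
  have hs : IsClosedImmersion s := IsClosedImmersion.of_comp s n
  have hr : Set.range n = Set.range m := by
    rw [← n.isClosedEmbedding.isClosed_range.closure_eq, ← m.isClosedEmbedding.isClosed_range.closure_eq,
      ← Scheme.Hom.support_ker, ← Scheme.Hom.support_ker, hk, Scheme.IdealSheafData.support_pow _ _ two_ne_zero]
  refine ⟨⟨hs, ⟨fun x => ?_⟩⟩, ?_⟩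
  · obtain ⟨w, hw⟩ : n x ∈ Set.range m := hr ▸ ⟨x, rfl⟩
    exact ⟨w, n.isEmbedding.injective (by rw [← hw, ← Scheme.Hom.comp_apply, e])⟩
  · have h1 : s.ker = m.ker.comap n := by
      refine GrothLib.UnivThick.ker_of_isPullback (k := 𝟙 W) ?_
      refine ⟨⟨by simp [e]⟩, ⟨PullbackCone.IsLimit.mk _ (fun t => t.fst) (fun t => Category.comp_id _)
        (fun t => (cancel_mono n).1 (by rw [Category.assoc, e]; exact t.condition))
        fun t l h₁ _ => by rw [← h₁, Category.comp_id]⟩⟩
    rw [h1, ← GrothLib.UnivThick.comap_mul, ← pow_two, ← hk]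
    exact le_bot_iff.1 (Scheme.IdealSheafData.le_map_iff_comap_le.1
      (le_of_eq (Scheme.IdealSheafData.map_bot n).symm))

open _root_.AlgSp

variable {S : Scheme.{u}}

theorem isUnivFOThick_infNbhd {Z U X Z₁ : Sp S} (hU : IsAlgSpace U) {c : Z ⟶ U} {u : U ⟶ X}
    (hu : RepWith @IsOpenImmersion u) {j : Z ⟶ Z₁} {k : Z₁ ⟶ U} (hN : IsInfNbhd 1 c j k) :
    IsUnivFOThick (c ≫ u) j (k ≫ u) := by
  obtain ⟨w, hc, hk, hker⟩ := hN
  have hkm : Mono k := mono_of_repWith_mono (repWith_mono hk fun A B g (hg : IsClosedImmersion g) =>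
    (inferInstance : Mono g))
  have hum := mono_of_openImmersion hu
  have hjk : IsPullback (𝟙 Z) j c k := by
    refine ⟨⟨by rw [Category.id_comp, w]⟩, ⟨PullbackCone.IsLimit.mk _ (fun t => t.fst) (fun t => Category.comp_id _)
      (fun t => (cancel_mono k).1 (by rw [Category.assoc, w]; exact t.condition))
      fun t l h₁ _ => by rw [← h₁, Category.comp_id]⟩⟩
  -- the kernels agree on every etale chart
  have hall : ∀ {V W Wn : Over S} (b : (yon S).obj V ⟶ U) (fst : (yon S).obj W ⟶ Z) (snd : W ⟶ V)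
      (fstn : (yon S).obj Wn ⟶ Z₁) (sndn : Wn ⟶ V), RepWith @Etale b → IsPullback fst ((yon S).map snd) c b →
        IsPullback fstn ((yon S).map sndn) k b → sndn.left.ker = snd.left.ker ^ 2 := by
    intro V W Wn b fst snd fstn sndn hb sq sqn
    have : IsClosedImmersion snd.left := hc.2 _ _ _ sq
    have : IsClosedImmersion sndn.left := hk.2 _ _ _ sqn
    refine eq_of_comap_open _ _ fun x => ?_
    obtain ⟨ι, Vi, e, hV, he, hs⟩ := exists_affine_cover V
    obtain ⟨l, y, hy⟩ := hs x
    have hb' : RepWith @Etale ((yon S).map (e l) ≫ b) :=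
      repWith_comp ((repWith_yon_map_iff _ _).2 (have := he l; inferInstance)) hb
    have q := IsPullback.of_hasPullback snd (e l)
    have qn := IsPullback.of_hasPullback sndn (e l)
    refine ⟨_, (e l).left, he l, ⟨y, hy⟩, ?_⟩
    rw [pow_two, GrothLib.UnivThick.comap_mul, ← GrothLib.UnivThick.ker_of_isPullback (isPullback_left q),
      ← GrothLib.UnivThick.ker_of_isPullback (isPullback_left qn), ← pow_two]
    exact hker _ _ _ _ _ (hV l) hb' (isPullback_stack sq q) (isPullback_stack sqn qn)
  obtain ⟨V, b, be, bs⟩ := hU.atlas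
  obtain ⟨Wn, fstn, sndn, sqn⟩ := exists_isPullback_of_representable hk.1 b
  obtain ⟨W, fst, snd, sq⟩ := exists_isPullback_of_representable hc.1 b
  have : IsClosedImmersion snd.left := hc.2 _ _ _ sq
  have : IsClosedImmersion sndn.left := hk.2 _ _ _ sqn
  obtain ⟨s, hs⟩ := (yon S).map_surjective (sqn.lift (fst ≫ j) ((yon S).map snd) (by
    rw [Category.assoc, w, sq.w]))
  have hs1 : (yon S).map s ≫ fstn = fst ≫ j := by rw [hs]; exact sqn.lift_fst _ _ _
  have hs2 : s ≫ sndn = snd := (yon S).map_injective (by rw [Functor.map_comp, hs]; exact sqn.lift_snd _ _ _)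
  have sqs : IsPullback fst ((yon S).map s) j fstn := by
    refine IsPullback.of_bot ?_ hs1.symm sqn
    rw [← Functor.map_comp, hs2, w]
    exact sq
  have hfot : FOT s := fot_of_ker_sq (congrArg CommaMorphism.left hs2) (hall b fst snd fstn sndn be sq sqn)
  have hqe : RepWith @Etale fstn := repWith_of_isPullback sqn.flip be
  have hqs : RepWith @Surjective fstn := repWith_of_isPullback sqn.flip bs
  have hjc : RepWith @IsClosedImmersion j := repWith_of_isPullback hjk hc
  have hjt : IsThickMor j := repWith_inf_iff.2 ⟨hjc, (repWith_surjective_iff hjc.1).2 fun z => by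
    obtain ⟨v, rfl⟩ := surjective_ofPt_of_repWith hqs z
    obtain ⟨v₀, rfl⟩ := hfot.1.2.surj v
    exact ⟨Points.ofPt fst v₀, by rw [Points.map_ofPt, ← hs1, ofPt_map_comp]⟩⟩
  refine isUnivFOThick_of_aff (isFOThick_of_chart hjt hqe hqs sqs hfot)
    (by rw [← Category.assoc, w]) ⟨fun T T' t a l l' _ _ _ _ h3 => ?_, fun T T' t a bT _ ht hw => ?_⟩
  · exact (cancel_mono (k ≫ u)).1 h3
  obtain ⟨b', rfl⟩ : ∃ b' : (yon S).obj T' ⟶ U, b' ≫ u = bT := by
    rw [exists_factor_iff hu]
    rintro _ ⟨y, rfl⟩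
    obtain ⟨y, rfl⟩ := surjective_ofPt_of_repWith (repWith_id _ T') y
    obtain ⟨x, rfl⟩ := ht.1.2.surj y
    refine ⟨Points.map (a ≫ c) (Points.ofPt (𝟙 _) x), ?_⟩
    rw [← Points.map_comp, Category.assoc, ← hw, Points.map_comp, Points.map_ofPt (𝟙 _) ((yon S).map t),
      Category.id_comp, ← ofPt_map_comp, Category.comp_id]
  have hw' : (yon S).map t ≫ b' = a ≫ c := (cancel_mono u).1 (by rw [Category.assoc, hw, Category.assoc])
  obtain ⟨P, p, π, sqP⟩ := exists_isPullback_of_representable hk.1 b'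
  have : IsClosedImmersion π.left := hk.2 _ _ _ sqP
  obtain ⟨T'', g, q, sqT⟩ := exists_isPullback_of_representable be.1 b'
  obtain ⟨g, rfl⟩ := (yon S).map_surjective g
  have : Etale q.left := be.2 _ _ _ sqT
  have : Surjective q.left := bs.2 _ _ _ sqT
  have hiso : IsIso π.left := by
    rw [IsClosedImmersion.isIso_iff_ker_eq_bot]
    refine eq_bot_of_comap_fppf q.left _ ?_
    have qP := isPullback_stack sqP (IsPullback.of_hasPullback π q)
    rw [← sqT.w] at qP
    obtain ⟨m, hm⟩ := (yon S).map_surjective (sqn.lift ((yon S).map (pullback.fst π q) ≫ p)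
      ((yon S).map (pullback.snd π q ≫ g)) (by rw [qP.w, Functor.map_comp, Category.assoc]))
    have sm : IsPullback m (pullback.snd π q) sndn g := by
      refine isPullback_of_isPullback_yon (IsPullback.of_right (h₁₂ := fstn) (v₁₃ := k) (h₂₂ := b) ?_ ?_ sqn)
      · rw [hm, sqn.lift_fst]; exact qP
      · rw [hm, sqn.lift_snd, Functor.map_comp]
    rw [← GrothLib.UnivThick.ker_of_isPullback (isPullback_left (IsPullback.of_hasPullback π q)),
      GrothLib.UnivThick.ker_of_isPullback (isPullback_left sm), hall b fst snd fstn sndn be sq sqn, pow_two,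
      GrothLib.UnivThick.comap_mul]
    have qt := IsPullback.of_hasPullback t q
    have hq2 : (((yon S).map (pullback.fst t q) ≫ a) ≫ c) = (yon S).map (pullback.snd t q ≫ g) ≫ b := by
      rw [Category.assoc, ← hw', Functor.map_comp, Category.assoc, sqT.w, ← Category.assoc, ← Category.assoc,
        ← Functor.map_comp, ← Functor.map_comp, pullback.condition]
    obtain ⟨v, hv⟩ := (yon S).map_surjective (sq.lift _ _ hq2)
    have hv2 : v ≫ snd = pullback.snd t q ≫ g := (yon S).map_injective (by
      rw [Functor.map_comp, hv]; exact sq.lift_snd _ _ _)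
    have hle : snd.left.ker.comap g.left ≤ (pullback.snd t q).left.ker := by
      rw [← Scheme.IdealSheafData.map_bot (pullback.snd t q).left, Scheme.IdealSheafData.le_map_iff_comap_le,
        ← Scheme.IdealSheafData.comap_comp, ← Over.comp_left, ← hv2, Over.comp_left,
        Scheme.IdealSheafData.comap_comp, le_bot_iff.1 (Scheme.IdealSheafData.le_map_iff_comap_le.1
          (le_of_eq (Scheme.IdealSheafData.map_bot snd.left).symm)), Scheme.IdealSheafData.comap_bot]
    refine le_bot_iff.1 ((mul_le_mul' hle hle).trans_eq ?_)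
    exact (fot_pullback_snd ht q).2
  have : IsIso π := by
    have : IsIso ((Over.forget S).map π) := hiso
    exact isIso_of_reflects_iso π (Over.forget S)
  have hl : (yon S).map (inv π) ≫ p ≫ k = b' := by
    rw [sqP.w, ← Category.assoc, ← Functor.map_comp, IsIso.inv_hom_id, CategoryTheory.Functor.map_id, Category.id_comp]
  refine ⟨(yon S).map (inv π) ≫ p, (cancel_mono k).1 ?_, ?_⟩
  · rw [Category.assoc, Category.assoc, hl, hw', Category.assoc, w]
  · rw [Category.assoc, ← Category.assoc p, ← Category.assoc, hl]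

end GrothLib.AlgSp
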