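import Groth.Agent.Lib.AlgSp.UnramMono
import Groth.Agent.Lib.AlgSp.FlatMono
import Groth.Agent.Lib.AlgSp.LocPPoints
import Groth.Agent.Lib.AlgSp.AffineMor
import Groth.Agent.Lib.AlgSp.UnivClosed
import Groth.Agent.Lib.AlgSp.OpenSub
import Groth.Agent.Lib.EtSite.UHEquiv

/-!
# Etale spaces along universal homeomorphisms

* `univInjective_of_surjective_bc`: universal injectivity descends along surjective base change;
* `existsUnique_section`, `existsUnique_lift_hom`: sections and morphisms of etale spaces lift uniquely;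
* `exists_scheme_lift`: etale schemes lift along universal homeomorphisms of schemes.
-/

set_option autoImplicit false
universe u
open CategoryTheory CategoryTheory.Limits AlgebraicGeometry
set_option backward.isDefEq.respectTransparency false

namespace GrothLib.AlgSp

open _root_.AlgSp

variable {S : Scheme.{u}}

/-- Integral, universally injective and surjective. -/
def IsIntUH {W U : Sp S} (k : W ⟶ U) : Prop :=
  RepWith @IsIntegralHom k ∧ IsUnivInjectiveMor k ∧ IsSurjectiveMor k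

theorem IsIntUH.of_isPullback {W U W' U' : Sp S} {k : W ⟶ U} (hk : IsIntUH k) {g : U' ⟶ U} {fst : W' ⟶ W}
    {k' : W' ⟶ U'} (sq : IsPullback fst k' k g) : IsIntUH k' :=
  ⟨repWith_of_isPullback sq hk.1, univSp_of_isPullback sq hk.2.1, surjective_of_pullback sq hk.2.2⟩

theorem IsIntUH.isClosedMap {W U : Sp S} {k : W ⟶ U} (hk : IsIntUH k) (hU : IsAlgSpace U) :
    IsClosedMap (Points.map k) :=
  isUnivClosedMor_of_repWith (repWith_mono hk.1 fun _ _ m (hm : IsIntegralHom m) => inferInstance) hU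
    (𝟙 U) (𝟙 W) k IsPullback.of_id_fst

theorem IsIntUH.injective {W U : Sp S} {k : W ⟶ U} (hk : IsIntUH k) (hU : IsAlgSpace U) :
    Function.Injective (Points.map k) :=
  hk.2.1 hU (𝟙 U) (𝟙 W) k IsPullback.of_id_fst

/-- Universal injectivity descends along surjective base change. -/
theorem univInjective_of_surjective_bc {O U O' W : Sp S} (hU : IsAlgSpace U) (hW : IsAlgSpace W) {q : O ⟶ U}
    {k : W ⟶ U} (hk : IsSurjectiveMor k) {fst : O' ⟶ O} {q' : O' ⟶ W} (sq : IsPullback fst q' q k)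
    (hq : IsUnivInjectiveMor q') : IsUnivInjectiveMor q := by
  intro T P hT g a b sqT z z' e
  obtain ⟨TW, w, tp, sqW⟩ : ∃ (TW : Sp S) (w : TW ⟶ W) (tp : TW ⟶ T), IsPullback w tp k g :=
    ⟨_, _, _, IsPullback.of_hasPullback k g⟩
  have hTW : IsAlgSpace TW := isAlgSpace_pullback hU.diag hW hT sqW
  obtain ⟨PW, pT, pP, sqP⟩ : ∃ (PW : Sp S) (pT : PW ⟶ P) (pP : PW ⟶ TW), IsPullback pT pP b tp :=
    ⟨_, _, _, IsPullback.of_hasPullback b tp⟩
  obtain ⟨t', ht'⟩ := surjective_of_pullback sqW hk (Points.map b z)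
  obtain ⟨y, hy, hy'⟩ := exists_of_isPullback sqP (x := z) (y := t') ht'.symm
  obtain ⟨y', hy₂, hy₂'⟩ := exists_of_isPullback sqP (x := z') (y := t') (by rw [← e]; exact ht'.symm)
  let l := sq.lift (pT ≫ a) (pP ≫ w) (by
    rw [Category.assoc, sqT.w, ← Category.assoc, sqP.w, Category.assoc, Category.assoc, sqW.w])
  have big : IsPullback (pT ≫ a) pP q (w ≫ k) := by
    rw [sqW.w]
    exact sqP.paste_horiz sqT
  have sql : IsPullback l pP q' w := IsPullback.of_right (by rw [sq.lift_fst]; exact big) (sq.lift_snd _ _ _) sq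
  have : y = y' := hq hTW w l pP sql (hy'.trans hy₂'.symm)
  rw [← hy, ← hy₂, this]

/-- Sections of etale spaces over the source of a universal homeomorphism descend uniquely. -/
theorem existsUnique_section {Z W U : Sp S} (hZ : IsAlgSpace Z) (hW : IsAlgSpace W) (hU : IsAlgSpace U)
    {p : Z ⟶ U} (hp : IsEtaleMor p) {k : W ⟶ U} (hk : IsIntUH k) (s : W ⟶ Z) (hs : s ≫ p = k) :
    ∃! σ : U ⟶ Z, σ ≫ p = 𝟙 U ∧ k ≫ σ = s := by
  obtain ⟨ZW, pr₁, pr₂, sq⟩ : ∃ (ZW : Sp S) (pr₁ : ZW ⟶ Z) (pr₂ : ZW ⟶ W), IsPullback pr₁ pr₂ p k :=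
    ⟨_, _, _, IsPullback.of_hasPullback p k⟩
  have hZW : IsAlgSpace ZW := isAlgSpace_pullback hU.diag hZ hW sq
  have hk₁ := hk.of_isPullback sq.flip
  let σ₀ := sq.lift s (𝟙 W) (by rw [hs, Category.id_comp])
  have hσ₀ : σ₀ ≫ pr₂ = 𝟙 W := sq.lift_snd _ _ _
  have hpl := locP_of_isEtaleMor hU hp
  have hpr₂ : LocP @Etale pr₂ := EtLocal.etale.locP_of_isPullback hZ hU hW sq hpl
  have hσe : LocP @Etale σ₀ := EtLocal.locP_cancel EtLocal.etale
    (fun A B C f g h1 h2 => by haveI := h1; haveI := h2; exact Etale.of_comp f g) hW hZW hW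
    (by rw [hσ₀]; exact EtLocal.locP_of_repWith .etale hW (repWith_iso (𝟙 W))) hpr₂
  -- the open image
  let O : Set (Points Z) := Set.range (Points.map s)
  have hO : IsOpen O := by
    have hb : Function.Bijective (Points.map pr₁) := ⟨hk₁.injective hZ, hk₁.2.2⟩
    have hσo : IsOpen (Set.range (Points.map σ₀)) :=
      (isOpenMap_map_of_locP (fun _ _ h (hh : Etale h) => h.isOpenMap) hW hZW hσe).isOpen_range
    have : O = (Points.map pr₁ '' (Set.range (Points.map σ₀))ᶜ)ᶜ := by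
      rw [Set.image_compl_eq hb, compl_compl, ← Set.range_comp]
      exact congrArg Set.range (funext fun x => by
        rw [Function.comp_apply, ← Points.map_comp, sq.lift_fst])
    rw [this]
    exact (hk₁.isClosedMap hZ _ hσo.isClosed_compl).isOpen_compl
  let ι := openSubι Z O
  haveI : Mono ι := mono_openSubι _ _
  have hι : RepWith @IsOpenImmersion ι := repWith_openSubι hO
  have hO' : IsAlgSpace (openSub Z O) := isAlgSpace_openSub hZ hO
  let q := ι ≫ p
  have hql : LocP @Etale q := EtLocal.locP_comp .etale hO' hZ hU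
    (EtLocal.locP_of_repWith .etale hZ (repWith_mono hι fun A B m (hm : IsOpenImmersion m) => inferInstance)) hpl
  obtain ⟨s', hs'⟩ := (exists_factor_iff hι s).2 range_openSubι.ge
  -- the base change of `q` along `k` is an isomorphism
  obtain ⟨OW, o₁, o₂, sqO⟩ : ∃ (OW : Sp S) (o₁ : OW ⟶ openSub Z O) (o₂ : OW ⟶ W), IsPullback o₁ o₂ q k :=
    ⟨_, _, _, IsPullback.of_hasPullback q k⟩
  have hOW : IsAlgSpace OW := isAlgSpace_pullback hU.diag hO' hW sqO
  have hs'q : s' ≫ q = k := by rw [← Category.assoc, hs', hs]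
  let σ₁ := sqO.lift s' (𝟙 W) (by rw [hs'q, Category.id_comp])
  have hσ₁ : σ₁ ≫ o₂ = 𝟙 W := sqO.lift_snd _ _ _
  haveI : Mono σ₁ := (SplitMono.mk o₂ hσ₁).mono
  have ho₂ : LocP @Etale o₂ := EtLocal.etale.locP_of_isPullback hO' hU hW sqO hql
  have hσ₁e : LocP @Etale σ₁ := EtLocal.locP_cancel EtLocal.etale
    (fun A B C f g h1 h2 => by haveI := h1; haveI := h2; exact Etale.of_comp f g) hW hOW hW
    (by rw [hσ₁]; exact EtLocal.locP_of_repWith .etale hW (repWith_iso (𝟙 W))) ho₂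
  haveI : IsIso σ₁ := isIso_of_openImmersion_surjective
    (repWith_openImmersion_of_etale_univInjective hW hOW (isEtaleMor_of_locP hOW hσ₁e)
      (isUnivInjectiveMor_of_mono σ₁)) (fun z => by
      obtain ⟨w, hw⟩ : Points.map ι (Points.map o₁ z) ∈ O := range_openSubι.le ⟨_, rfl⟩
      refine ⟨w, (hk.of_isPullback sqO.flip).injective hO' (injective_map_of_mono ι ?_)⟩
      rw [← Points.map_comp σ₁ o₁, sqO.lift_fst, ← Points.map_comp, hs']
      exact hw)
  have ho₂i : IsIso o₂ := by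
    have e : o₂ = inv σ₁ := IsIso.eq_inv_of_hom_inv_id hσ₁
    rw [e]; infer_instance
  haveI := ho₂i
  haveI : IsIso q := isIso_of_openImmersion_surjective
    (repWith_openImmersion_of_etale_univInjective hO' hU (isEtaleMor_of_locP hU hql)
      (univInjective_of_surjective_bc hU hW hk.2.2 sqO (isUnivInjectiveMor_of_mono o₂))) (fun x => by
      obtain ⟨w, rfl⟩ := hk.2.2 x
      exact ⟨Points.map s' w, by rw [← Points.map_comp, hs'q]⟩)
  refine ⟨inv q ≫ ι, ⟨by rw [Category.assoc]; exact IsIso.inv_hom_id q, ?_⟩, fun σ ⟨h₁, h₂⟩ => ?_⟩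
  · rw [← Category.assoc, ← hs'q, Category.assoc s', IsIso.hom_inv_id, Category.comp_id, hs']
  · obtain ⟨σ', hσ'⟩ := (exists_factor_iff hι σ).2 (by
      rw [range_openSubι]
      rintro _ ⟨x, rfl⟩
      obtain ⟨w, rfl⟩ := hk.2.2 x
      exact ⟨w, by rw [← h₂, Points.map_comp]⟩)
    have h3 : σ' ≫ q = 𝟙 U := by rw [← Category.assoc, hσ', h₁]
    rw [← hσ', IsIso.eq_inv_of_inv_hom_id h3]

/-- Morphisms of etale spaces lift uniquely along universal homeomorphisms. -/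
theorem existsUnique_lift_hom {X Y V₁' V₂' V₁ V₂ : Sp S} (hY : IsAlgSpace Y) (hV₁' : IsAlgSpace V₁')
    (hV₂' : IsAlgSpace V₂') (hV₁ : IsAlgSpace V₁) {f : X ⟶ Y} (hf : IsIntUH f) {a₁ : V₁' ⟶ Y} {a₂ : V₂' ⟶ Y}
    (ha₂ : IsEtaleMor a₂) {b₁ : V₁ ⟶ X} {b₂ : V₂ ⟶ X} {c₁ : V₁ ⟶ V₁'} {c₂ : V₂ ⟶ V₂'}
    (sq₁ : IsPullback b₁ c₁ f a₁) (sq₂ : IsPullback b₂ c₂ f a₂) (φ : V₁ ⟶ V₂) (hφ : φ ≫ b₂ = b₁) :
    ∃! φ' : V₁' ⟶ V₂', φ' ≫ a₂ = a₁ ∧ c₁ ≫ φ' = φ ≫ c₂ := by
  have hw : c₁ ≫ a₁ = (φ ≫ c₂) ≫ a₂ := by rw [Category.assoc, ← sq₂.w, ← Category.assoc, hφ, sq₁.w]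
  have sqZ := IsPullback.of_hasPullback a₁ a₂
  obtain ⟨σ, ⟨h₁, h₂⟩, huniq⟩ := existsUnique_section (isAlgSpace_pullback hY.diag hV₁' hV₂' sqZ) hV₁ hV₁'
    (isEtaleMor_of_locP hV₁' (EtLocal.etale.locP_of_isPullback hV₂' hY hV₁' sqZ.flip (locP_of_isEtaleMor hY ha₂)))
    (hf.of_isPullback sq₁) (sqZ.lift c₁ (φ ≫ c₂) hw) (sqZ.lift_fst _ _ _)
  refine ⟨σ ≫ pullback.snd a₁ a₂, ⟨?_, ?_⟩, fun ψ ⟨h₃, h₄⟩ => ?_⟩
  · rw [Category.assoc, ← sqZ.w, ← Category.assoc, h₁, Category.id_comp]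
  · rw [← Category.assoc, h₂, sqZ.lift_snd]
  · have e := huniq (sqZ.lift (𝟙 V₁') ψ (by rw [Category.id_comp, h₃]))
      ⟨sqZ.lift_fst _ _ _, sqZ.hom_ext
        (by rw [Category.assoc, sqZ.lift_fst, sqZ.lift_fst, Category.comp_id])
        (by rw [Category.assoc, sqZ.lift_snd, sqZ.lift_snd, h₄])⟩
    rw [← e, sqZ.lift_snd]

/-- Etale schemes lift along integral universal homeomorphisms of schemes. -/
theorem exists_scheme_lift {W U E : Over S} (k : W ⟶ U) (hk : IsIntUH ((yon S).map k)) (e : E ⟶ W) [Etale e.left] :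
    ∃ (E' : Over S) (e' : E' ⟶ U) (el : E ⟶ E'), Etale e'.left ∧
      IsPullback ((yon S).map e) ((yon S).map el) ((yon S).map k) ((yon S).map e') := by
  haveI : IsIntegralHom k.left := (repWith_yon_map_iff _ k).1 hk.1
  haveI : Surjective k.left := ⟨(surjective_map_yon_iff k).1 hk.2.2⟩
  haveI : UniversallyInjective k.left := by
    exact ⟨fun P T i₁ g i₂ sqs => by
      let T₁ : Over S := Over.mk (g ≫ U.hom)
      let P₁ : Over S := Over.mk (i₂ ≫ g ≫ U.hom)
      let g₁ : T₁ ⟶ U := Over.homMk g rfl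
      let j₁ : P₁ ⟶ W := Over.homMk i₁ (by
        show i₁ ≫ W.hom = i₂ ≫ g ≫ U.hom
        rw [← Over.w k, reassoc_of% sqs.w])
      let j₂ : P₁ ⟶ T₁ := Over.homMk i₂ rfl
      have sq₁ : IsPullback j₁ j₂ k g₁ := isPullback_of_left sqs.flip
      exact (injective_map_yon_iff j₂).1 (hk.2.1 (IsAlgSpace.yon_obj T₁) _ _ _ (isPullback_yon sq₁))⟩
  obtain ⟨M, hM, m, hm, hw⟩ := GrothLib.UHQuot.exists_descent_all (g := k.left) (f := e.left)
  haveI := hm
  let E' : Over S := Over.mk (M.hom ≫ U.hom)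
  let e' : E' ⟶ U := Over.homMk M.hom rfl
  let el : E ⟶ E' := Over.homMk (inv m ≫ pullback.fst M.hom k.left) (by
    show (inv m ≫ pullback.fst M.hom k.left) ≫ M.hom ≫ U.hom = E.hom
    rw [Category.assoc, pullback.condition_assoc, ← hw, Category.assoc, IsIso.inv_hom_id_assoc, Over.w k, Over.w e])
  refine ⟨E', e', el, hM, isPullback_yon (isPullback_of_left ?_)⟩
  refine (IsPullback.of_hasPullback M.hom k.left).flip.of_iso (asIso m) (Iso.refl _) (Iso.refl _) (Iso.refl _)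
    (by simp [hw]) (by simp [el]) (by simp) (by simp [e'])

end GrothLib.AlgSp
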