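import Groth.Agent.Lib.AlgSp.ClosedPushEssImage
import Groth.Agent.Lib.AlgSp.UHEtale

/-!
# Base change along integral universally injective morphisms

* `exists_etale_lift_int`: étale morphisms lift along integral universally injective morphisms.
* `IntPush.isCoverDense_bc`, `IntPush.isLocallyFull_bc`, `IntPush.isLocallyFaithful_bc`, `IntPush.isSheaf_induced`.
-/

universe u

open CategoryTheory CategoryTheory.Limits AlgebraicGeometry Opposite
set_option backward.isDefEq.respectTransparency false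

noncomputable section

namespace GrothLib.AlgSp

open _root_.AlgSp

/-- Integral and universally injective. -/
abbrev IntUI : MorphismProperty Scheme.{u} := @IsIntegralHom ⊓ @UniversallyInjective

/-- Étale morphisms lift locally along integral universally injective morphisms. -/
theorem exists_etale_lift_int {Z X W : Scheme.{u}} (i : Z ⟶ X) [IsIntegralHom i] [UniversallyInjective i]
    (g : W ⟶ Z) [Etale g] (w : W) :
    ∃ (V : Scheme.{u}) (v : V ⟶ X) (_ : Etale v) (W₀ : Scheme.{u}) (j : W₀ ⟶ W)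
      (_ : IsOpenImmersion j) (w₀ : W₀) (a : W₀ ⟶ V),
      j.base w₀ = w ∧ IsPullback a (j ≫ g) v i := by
  let k := i.toImage
  let ι := i.imageι
  have fac : k ≫ ι = i := i.toImage_imageι
  haveI : IsIntegralHom k := MorphismProperty.of_postcomp (W := @IsIntegralHom) (W' := @IsSeparated) k ι
    (inferInstanceAs (IsSeparated ι)) (by rw [fac]; infer_instance)
  haveI : UniversallyInjective k := by
    refine ((tfae_universallyInjective k).out 0 1 rfl rfl).2 ?_
    intro K _ a b h
    apply ((tfae_universallyInjective i).out 0 1 rfl rfl).1 (inferInstanceAs (UniversallyInjective i)) K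
    show a ≫ i = b ≫ i
    rw [← fac, ← Category.assoc, ← Category.assoc]
    exact congrArg (· ≫ ι) h
  haveI : Surjective k := ⟨fun y => by
    have hd : DenseRange k := k.denseRange
    have hc : IsClosed (Set.range k) := k.isClosedMap.isClosed_range
    show y ∈ Set.range k
    rw [← hc.closure_eq]
    exact hd y⟩
  obtain ⟨M, hM, m, hmI, hm⟩ := GrothLib.UHQuot.exists_descent_all (g := k) (f := g)
  haveI := hmI
  let q : W ⟶ M.left := inv m ≫ pullback.fst M.hom k
  have sqW : IsPullback q g M.hom k :=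
    (IsPullback.of_hasPullback M.hom k).of_iso (asIso m) (Iso.refl _) (Iso.refl _) (Iso.refl _)
      (by simp [q]) (by simp [hm]) (by simp) (by simp)
  obtain ⟨V, v, hv, M₀, j, hj, m₀, a, hm₀, hpb⟩ := GrothLib.EtSite.exists_etale_lift ι M.hom (q w)
  haveI := hj
  obtain ⟨w₀, -, hw₀⟩ := Scheme.Pullback.exists_preimage_pullback (f := j) (g := q) m₀ w hm₀
  refine ⟨V, v, hv, pullback j q, pullback.snd j q, inferInstance, w₀, pullback.fst j q ≫ a, hw₀, ?_⟩
  have sq₁ : IsPullback (pullback.fst j q) (pullback.snd j q ≫ g) (j ≫ M.hom) k :=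
    (IsPullback.of_hasPullback j q).paste_vert sqW
  exact (congrArg (IsPullback _ _ v) fac) ▸ sq₁.paste_horiz hpb

variable {S : Scheme.{u}}

/-- Integral and universally injective representable morphisms. -/
theorem repWith_intUI {Z X : Sp S} {f : Z ⟶ X} (hi : RepWith @IsIntegralHom f) (hu : IsUnivInjectiveMor f) :
    RepWith IntUI f := by
  refine ⟨hi.1, fun {U V} g fst snd sq => ⟨hi.2 g fst snd sq, ?_⟩⟩
  have hu' : IsUnivInjectiveMor ((yon S).map snd) := univSp_of_isPullback sq hu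
  exact ⟨fun P T i₁ g' i₂ sqs => by
    let T₁ : Over S := Over.mk (g' ≫ U.hom)
    let P₁ : Over S := Over.mk (i₂ ≫ g' ≫ U.hom)
    let g₁ : T₁ ⟶ U := Over.homMk g' rfl
    let j₁ : P₁ ⟶ _ := Over.homMk i₁ (by
      show i₁ ≫ _ = i₂ ≫ g' ≫ U.hom
      rw [← Over.w snd]
      exact ((reassoc_of% sqs.w) U.hom).symm)
    let j₂ : P₁ ⟶ T₁ := Over.homMk i₂ rfl
    have sq₁ : IsPullback j₁ j₂ snd g₁ := isPullback_of_left sqs.flip
    exact (injective_map_yon_iff j₂).1 (hu' (IsAlgSpace.yon_obj T₁) _ _ _ (isPullback_yon sq₁))⟩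

namespace IntPush

variable {Z X : Space S} (i : Z ⟶ X) (hi : RepWith IntUI i.hom)

section Points

variable (z : FieldPt Z.obj)

/-- The lift of the point to a base changed neighbourhood. -/
def bcLift (E : EtOver X.obj) (l : (FieldPt.liftsTo (z.map i.hom)).obj E) :
    (FieldPt.liftsTo z).obj ((EtOver.bc hi.1).obj E) :=
  ⟨hi.1.lift z.toHom l.1 ((l.2.trans (FieldPt.toHom_map i.hom z)).symm), hi.1.lift_fst _ _ _⟩

theorem bcLift_snd (E : EtOver X.obj) (l : (FieldPt.liftsTo (z.map i.hom)).obj E) :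
    (bcLift i hi z E l).1 ≫ hi.1.snd E.obj.hom = l.1 := hi.1.lift_snd _ _ _

theorem bcLift_map {E E' : EtOver X.obj} (g : E ⟶ E') (l : (FieldPt.liftsTo (z.map i.hom)).obj E) :
    (FieldPt.liftsTo z).map ((EtOver.bc hi.1).map g) (bcLift i hi z E l) =
      bcLift i hi z E' ((FieldPt.liftsTo (z.map i.hom)).map g l) := by
  refine Subtype.ext (hi.1.hom_ext ?_ ?_)
  · exact (((FieldPt.liftsTo z).map ((EtOver.bc hi.1).map g) (bcLift i hi z E l)).2).trans
      (bcLift i hi z E' ((FieldPt.liftsTo (z.map i.hom)).map g l)).2.symm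
  · show ((bcLift i hi z E l).1 ≫ (EtOver.bcMap hi.1 g).hom.left) ≫ hi.1.snd E'.obj.hom = _
    rw [Category.assoc, EtOver.bcMap_snd, ← Category.assoc, bcLift_snd, bcLift_snd]
    rfl

/-- A neighbourhood over a base changed one is refined by a base changed one. -/
theorem exists_refine (hz : z.IsGeometric) (E : EtOver X.obj) (l : (FieldPt.liftsTo (z.map i.hom)).obj E)
    (V : EtOver Z.obj) (v : (FieldPt.liftsTo z).obj V) (m : V ⟶ (EtOver.bc hi.1).obj E)
    (hm : (FieldPt.liftsTo z).map m v = bcLift i hi z E l) :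
    ∃ (M : EtOver X.obj) (g : M ⟶ E) (lM : (FieldPt.liftsTo (z.map i.hom)).obj M)
      (k : (EtOver.bc hi.1).obj M ⟶ V),
      (FieldPt.liftsTo (z.map i.hom)).map g lM = l ∧ k ≫ m = (EtOver.bc hi.1).map g ∧
        (FieldPt.liftsTo z).map k (bcLift i hi z M lM) = v := by
  have hE := hi.2 _ _ _ (hi.1.isPullback E.obj.hom)
  haveI : IsIntegralHom (hi.1.snd E.obj.hom).left := hE.1
  haveI : UniversallyInjective (hi.1.snd E.obj.hom).left := hE.2
  haveI := EtOver.etale_left m
  obtain ⟨T, t, ht, W₀, j, hj, w₀, a, hw₀, hpb⟩ :=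
    exists_etale_lift_int (hi.1.snd E.obj.hom).left m.hom.left.left (v.1.left (IsLocalRing.closedPoint z.K))
  haveI := ht
  haveI := hj
  let q : Over.mk (t ≫ E.obj.left.hom) ⟶ E.obj.left := Over.homMk t rfl
  let M : EtOver X.obj := EtOver.mk ((yon S).map q ≫ E.obj.hom)
    (repWith_comp ((repWith_yon_map_iff _ _).2 (show Etale t from inferInstance)) E.property)
  let g : M ⟶ E := EtOver.homMk q rfl
  let sq := EtOver.isPullback_bcMap_left hi.1 g
  -- the lift to the new neighbourhood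
  let v₀ : Spec (CommRingCat.of z.K) ⟶ W₀ := IsOpenImmersion.lift j v.1.left (by
    rintro _ ⟨x, rfl⟩
    exact ⟨w₀, hw₀.trans (congrArg v.1.left (Subsingleton.elim (α := PrimeSpectrum z.K) _ _))⟩)
  have hv₀ : v₀ ≫ j = v.1.left := IsOpenImmersion.lift_fac _ _ _
  have hvm : v.1 ≫ m.hom.left = (bcLift i hi z E l).1 := congrArg Subtype.val hm
  have hl₀ : v₀ ≫ a ≫ t = l.1.left := by
    rw [hpb.w, Category.assoc, reassoc_of% hv₀, ← Over.comp_left, ← Over.comp_left, ← Category.assoc, hvm,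
      bcLift_snd]
  let lm : z.pt ⟶ Over.mk (t ≫ E.obj.left.hom) := Over.homMk (v₀ ≫ a) (by
    show (v₀ ≫ a) ≫ t ≫ E.obj.left.hom = z.str
    rw [Category.assoc, ← Category.assoc a, ← Category.assoc v₀, hl₀]
    exact Over.w l.1)
  have hlq : lm ≫ q = l.1 := Over.OverMorphism.ext ((Category.assoc _ _ _).trans hl₀)
  have hlM : (yon S).map lm ≫ M.obj.hom = (z.map i.hom).toHom := by
    show (yon S).map lm ≫ (yon S).map q ≫ E.obj.hom = _
    exact ((Category.assoc _ _ _).symm.trans (congrArg (· ≫ E.obj.hom)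
      (((yon S).map_comp lm q).symm.trans (congrArg (yon S).map hlq)))).trans l.2
  -- the comparison of the base change with the lifted scheme
  let e := sq.isoIsPullback _ _ hpb.flip
  have he₁ : e.hom ≫ j ≫ m.hom.left.left = ((EtOver.bc hi.1).map g).hom.left.left :=
    sq.isoIsPullback_hom_fst _ _ hpb.flip
  have he₂ : e.hom ≫ a = (hi.1.snd M.obj.hom).left := sq.isoIsPullback_hom_snd _ _ hpb.flip
  let kl : ((EtOver.bc hi.1).obj M).obj.left ⟶ V.obj.left := Over.homMk (e.hom ≫ j) (by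
    show (e.hom ≫ j) ≫ V.obj.left.hom = _
    rw [← Over.w m.hom.left, ← Category.assoc, Category.assoc e.hom, he₁]
    exact Over.w ((EtOver.bc hi.1).map g).hom.left)
  have hkl : kl ≫ m.hom.left = ((EtOver.bc hi.1).map g).hom.left :=
    Over.OverMorphism.ext ((Category.assoc _ _ _).trans he₁)
  let k : (EtOver.bc hi.1).obj M ⟶ V := EtOver.homMk kl (by
    exact ((congrArg ((yon S).map kl ≫ ·) (EtOver.w m)).symm.trans ((Category.assoc _ _ _).symm.trans
      (congrArg (· ≫ ((EtOver.bc hi.1).obj E).obj.hom)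
        (((yon S).map_comp kl m.hom.left).symm.trans (congrArg (yon S).map hkl))))).trans
      (EtOver.w ((EtOver.bc hi.1).map g)))
  have hgl : (FieldPt.liftsTo (z.map i.hom)).map g ⟨lm, hlM⟩ = l := Subtype.ext hlq
  refine ⟨M, g, ⟨lm, hlM⟩, k, hgl, EtOver.hom_ext _ _ hkl, Subtype.ext ?_⟩
  -- the two lifts of the point to the base changed neighbourhood agree
  have hb : (bcLift i hi z M ⟨lm, hlM⟩).1.left ≫ e.hom = v₀ := by
    refine hpb.hom_ext ?_ ?_
    · rw [Category.assoc, he₂]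
      exact congrArg CommaMorphism.left (bcLift_snd i hi z M ⟨lm, hlM⟩)
    · rw [Category.assoc, he₁]
      refine Eq.trans ?_ ((congrArg CommaMorphism.left hvm).symm.trans ((congrArg (· ≫ m.hom.left.left) hv₀.symm).trans
        (Category.assoc _ _ _)))
      exact congrArg (fun k => k.1.left) ((bcLift_map i hi z g ⟨lm, hlM⟩).trans (congrArg (bcLift i hi z E) hgl))
  refine Over.OverMorphism.ext ?_
  show (bcLift i hi z M ⟨lm, hlM⟩).1.left ≫ e.hom ≫ j = v.1.left
  rw [← Category.assoc, hb, hv₀]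

end Points

theorem isCoverDense_bc : (EtOver.bc hi.1).IsCoverDense (etTop Z.obj) := by
  constructor
  intro B
  refine mem_etTop_of_points Z _ fun z hz v => ?_
  obtain ⟨E, ⟨l⟩⟩ := nonempty_liftsTo (z.map i.hom) X.property hz
  let c := bcLift i hi z E l
  let t := B.property.1.lift' v.1 c.1 (v.2.trans c.2.symm)
  have ht₁ : t ≫ (EtOver.prodFst ((EtOver.bc hi.1).obj E) B).hom.left = c.1 :=
    Functor.relativelyRepresentable.lift'_snd _ _ _ _
  have ht₂ : t ≫ (EtOver.prodSnd ((EtOver.bc hi.1).obj E) B).hom.left = v.1 :=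
    Functor.relativelyRepresentable.lift'_fst _ _ _ _
  let P := EtOver.prodObj ((EtOver.bc hi.1).obj E) B
  have htP : (yon S).map t ≫ P.obj.hom = z.toHom :=
    ((congrArg ((yon S).map t ≫ ·) (EtOver.w (EtOver.prodFst ((EtOver.bc hi.1).obj E) B)).symm).trans
      ((Category.assoc _ _ _).symm.trans (congrArg (· ≫ ((EtOver.bc hi.1).obj E).obj.hom)
        (((yon S).map_comp t _).symm.trans (congrArg (yon S).map ht₁))))).trans c.2
  obtain ⟨M, g, lM, k, -, -, hk⟩ := exists_refine i hi z hz E l P ⟨t, htP⟩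
    (EtOver.prodFst ((EtOver.bc hi.1).obj E) B) (Subtype.ext ht₁)
  refine ⟨(EtOver.bc hi.1).obj M, k ≫ EtOver.prodSnd ((EtOver.bc hi.1).obj E) B,
    ⟨⟨M, 𝟙 _, k ≫ EtOver.prodSnd _ _, Category.id_comp _⟩⟩, bcLift i hi z M lM, ?_⟩
  rw [Functor.map_comp_apply, hk]
  exact Subtype.ext ht₂

theorem isLocallyFull_bc : (EtOver.bc hi.1).IsLocallyFull (etTop Z.obj) := by
  constructor
  intro U V f
  refine mem_etTop_of_points Z _ fun z hz v => ?_
  let π := EtOver.bcπ hi.1 U
  let π' := EtOver.bcπ hi.1 V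
  -- the graph of `f` as a map to the base change of the product
  have hs : (yon S).map (f.hom.left ≫ π') ≫ V.obj.hom = (yon S).map π ≫ U.obj.hom := by
    rw [Functor.map_comp, Category.assoc, ← (EtOver.isPullback_bcObj hi.1 V).w, ← Category.assoc]
    exact (congrArg (· ≫ i.hom) (EtOver.w f)).trans (EtOver.isPullback_bcObj hi.1 U).w
  let s := V.property.1.lift' (f.hom.left ≫ π') π hs
  have hs₁ : s ≫ (EtOver.prodFst U V).hom.left = π := Functor.relativelyRepresentable.lift'_snd _ _ _ _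
  have hs₂ : s ≫ (EtOver.prodSnd U V).hom.left = f.hom.left ≫ π' := Functor.relativelyRepresentable.lift'_fst _ _ _ _
  let P := EtOver.prodObj U V
  have hsP : (yon S).map s ≫ P.obj.hom = (yon S).map π ≫ U.obj.hom :=
    (congrArg ((yon S).map s ≫ ·) (EtOver.w (EtOver.prodFst U V)).symm).trans ((Category.assoc _ _ _).symm.trans
      (congrArg (· ≫ U.obj.hom) (((yon S).map_comp _ _).symm.trans (congrArg (yon S).map hs₁))))
  let m : (EtOver.bc hi.1).obj U ⟶ (EtOver.bc hi.1).obj P :=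
    EtOver.homMk (E' := EtOver.bcObj hi.1 P) (hi.1.lift ((EtOver.bc hi.1).obj U).obj.hom s
      ((EtOver.isPullback_bcObj hi.1 U).w.trans hsP.symm)) (hi.1.lift_fst _ _ _)
  have hm₁ : m ≫ (EtOver.bc hi.1).map (EtOver.prodFst U V) = 𝟙 _ := by
    refine EtOver.hom_ext _ _ (hi.1.hom_ext ?_ ?_)
    · exact (EtOver.w (m ≫ (EtOver.bc hi.1).map (EtOver.prodFst U V))).trans
        (EtOver.w (𝟙 ((EtOver.bc hi.1).obj U))).symm
    · show (m.hom.left ≫ (EtOver.bcMap hi.1 (EtOver.prodFst U V)).hom.left) ≫ hi.1.snd U.obj.hom = 𝟙 _ ≫ π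
      rw [Category.assoc, EtOver.bcMap_snd, ← Category.assoc]
      exact ((congrArg (· ≫ _) (hi.1.lift_snd _ _ _)).trans hs₁).trans (Category.id_comp _).symm
  have hm₂ : m ≫ (EtOver.bc hi.1).map (EtOver.prodSnd U V) = f := by
    refine EtOver.hom_ext _ _ (hi.1.hom_ext ?_ ?_)
    · exact (EtOver.w (m ≫ (EtOver.bc hi.1).map (EtOver.prodSnd U V))).trans (EtOver.w f).symm
    · show (m.hom.left ≫ (EtOver.bcMap hi.1 (EtOver.prodSnd U V)).hom.left) ≫ hi.1.snd V.obj.hom = f.hom.left ≫ π'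
      rw [Category.assoc, EtOver.bcMap_snd, ← Category.assoc]
      exact (congrArg (· ≫ _) (hi.1.lift_snd _ _ _)).trans hs₂
  have hl : (yon S).map (v.1 ≫ s) ≫ P.obj.hom = (z.map i.hom).toHom := by
    rw [Functor.map_comp, Category.assoc, hsP, ← (EtOver.isPullback_bcObj hi.1 U).w, ← Category.assoc]
    exact (congrArg (· ≫ i.hom) v.2).trans (FieldPt.toHom_map i.hom z).symm
  let l : (FieldPt.liftsTo (z.map i.hom)).obj P := ⟨v.1 ≫ s, hl⟩
  have hm : (FieldPt.liftsTo z).map m v = bcLift i hi z P l := by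
    refine Subtype.ext (hi.1.hom_ext ?_ ?_)
    · exact ((FieldPt.liftsTo z).map m v).2.trans (bcLift i hi z P l).2.symm
    · rw [bcLift_snd]
      exact (Category.assoc _ _ _).trans (congrArg (v.1 ≫ ·) (hi.1.lift_snd _ _ _))
  obtain ⟨M, g, lM, k, -, hk, hkv⟩ := exists_refine i hi z hz P l _ v m hm
  have hk₁ : k = (EtOver.bc hi.1).map (g ≫ EtOver.prodFst U V) := by
    rw [Functor.map_comp, ← hk, Category.assoc, hm₁, Category.comp_id]
  refine ⟨(EtOver.bc hi.1).obj M, (EtOver.bc hi.1).map (g ≫ EtOver.prodFst U V),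
    ⟨M, g ≫ EtOver.prodFst U V, 𝟙 _, ⟨g ≫ EtOver.prodSnd U V, ?_⟩, (Category.id_comp _).symm⟩,
    bcLift i hi z M lM, ?_⟩
  · rw [← hk₁, Functor.map_comp, ← hk, Category.assoc, hm₂]
  · rw [← hk₁]; exact hkv

theorem isLocallyFaithful_bc : (EtOver.bc hi.1).IsLocallyFaithful (etTop Z.obj) := by
  constructor
  intro U V f₁ f₂ e
  refine mem_etTop_of_points Z _ fun z hz v => ?_
  let l : (FieldPt.liftsTo (z.map i.hom)).obj U :=
    ⟨v.1 ≫ EtOver.bcπ hi.1 U, by
      rw [Functor.map_comp, Category.assoc, ← (EtOver.isPullback_bcObj hi.1 U).w, ← Category.assoc]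
      exact (congrArg (· ≫ i.hom) v.2).trans (FieldPt.toHom_map i.hom z).symm⟩
  have hv : bcLift i hi z U l = v := Subtype.ext (hi.1.hom_ext
    ((bcLift i hi z U l).2.trans v.2.symm) (bcLift_snd i hi z U l))
  have hf : (FieldPt.liftsTo (z.map i.hom)).map f₁ l = (FieldPt.liftsTo (z.map i.hom)).map f₂ l := by
    have h1 := bcLift_map i hi z f₁ l
    rw [e, bcLift_map] at h1
    exact Subtype.ext ((bcLift_snd i hi z V _).symm.trans ((congrArg (fun t => t.1 ≫ hi.1.snd V.obj.hom) h1).symm.trans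
      (bcLift_snd i hi z V _)))
  -- the diagonal of an étale morphism is open: equalize by the fibre product over the product
  haveI : IsCofiltered ((FieldPt.liftsTo (z.map i.hom)).Elements) := Groth.Agent.S10217.result X (z.map i.hom) hz
  let q₁ : (FieldPt.liftsTo (z.map i.hom)).elementsMk U l ⟶
      (FieldPt.liftsTo (z.map i.hom)).elementsMk V ((FieldPt.liftsTo (z.map i.hom)).map f₁ l) :=
    ⟨f₁, rfl⟩
  let q₂ : (FieldPt.liftsTo (z.map i.hom)).elementsMk U l ⟶
      (FieldPt.liftsTo (z.map i.hom)).elementsMk V ((FieldPt.liftsTo (z.map i.hom)).map f₁ l) :=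
    ⟨f₂, hf.symm⟩
  obtain ⟨⟨M, lM⟩, ⟨g, hg⟩, hgg⟩ := IsCofilteredOrEmpty.cone_maps q₁ q₂
  refine ⟨(EtOver.bc hi.1).obj M, (EtOver.bc hi.1).map g,
    ⟨M, g, 𝟙 _, congrArg Subtype.val hgg, (Category.id_comp _).symm⟩, bcLift i hi z M lM, ?_⟩
  rw [bcLift_map, hg, hv]

open QCohEt in
/-- A sheaf which is terminal away from the image is a sheaf for the induced topology. -/
theorem isSheaf_induced [(EtOver.bc hi.1).IsCoverDense (etTop Z.obj)] [(EtOver.bc hi.1).IsLocallyFull (etTop Z.obj)]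
    [(EtOver.bc hi.1).IsLocallyFaithful (etTop Z.obj)] (F : EtSh X.obj (Type (u + 1)))
    (hF : ∀ E : EtOver X.obj, IsEmpty ↥(EtOver.bcObj hi.1 E).obj.left.left → Nonempty (Unique (F.obj.obj (op E)))) :
    Presheaf.IsSheaf ((EtOver.bc hi.1).inducedTopology (etTop Z.obj)) F.obj := by
  rw [isSheaf_iff_isSheaf_of_type]
  intro U T hT
  rw [Functor.mem_inducedTopology_iff_of_isCoverDense] at hT
  classical
  have down : ∀ {W W' : EtOver X.obj}, (W' ⟶ W) → IsEmpty ↥(EtOver.bcObj hi.1 W).obj.left.left →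
      IsEmpty ↥(EtOver.bcObj hi.1 W').obj.left.left :=
    fun v h => @Function.isEmpty _ _ h ((EtOver.bcMap hi.1 v).hom.left.left)
  have sub : ∀ {E : EtOver X.obj}, IsEmpty ↥(EtOver.bcObj hi.1 E).obj.left.left →
      ∀ a b : F.obj.obj (op E), a = b := fun {E} h a b => by
    obtain ⟨hu⟩ := hF E h
    exact (hu.eq_default a).trans (hu.eq_default b).symm
  let T' : Sieve U :=
    { arrows := fun W w => T w ∨ IsEmpty ↥(EtOver.bcObj hi.1 W).obj.left.left
      downward_closed := fun {W W'} w hw v => hw.imp (fun h => T.downward_closed h v) (down v) }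
  have hU := hi.2 _ _ _ (hi.1.isPullback U.obj.hom)
  haveI : IsIntegralHom (EtOver.bcπ hi.1 U).left := hU.1
  let π := (EtOver.bcπ hi.1 U).left
  let O : U.obj.left.left.Opens := ⟨(Set.range π)ᶜ, π.isClosedMap.isClosed_range.isOpen_compl⟩
  have hO : T'.arrows (opensInc U O) := by
    refine Or.inr ⟨fun b => ?_⟩
    have h := congrArg (fun k => k.left) (EtOver.bcMap_snd hi.1 (opensInc U O))
    simp only [Over.comp_left] at h
    have h1 := congrArg (fun k => k b) h
    exact ((EtOver.bcπ hi.1 (opensObj U O)).left b).2 ⟨(EtOver.bcMap hi.1 (opensInc U O)).hom.left.left b, h1⟩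
  have hT' : T' ∈ etTop X.obj U := by
    have key : ∀ y : ↥U.obj.left.left, ∃ (W : EtOver X.obj) (w : W ⟶ U), T'.arrows w ∧ y ∈ Set.range w.hom.left.left := by
      intro y
      by_cases hy : y ∈ Set.range π
      · obtain ⟨p, rfl⟩ := hy
        obtain ⟨B, b, ⟨W, w, k, hw, rfl⟩, x, rfl⟩ := exists_hit hT p
        refine ⟨W, w, Or.inl hw, (EtOver.bcπ hi.1 W).left (k.hom.left.left x), ?_⟩
        have h := congrArg (fun k => k.left) (EtOver.bcMap_snd hi.1 w)
        simp only [Over.comp_left] at h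
        exact (congrArg (fun t => t (k.hom.left.left x)) h).symm
      · exact ⟨_, _, hO, ⟨y, hy⟩, rfl⟩
    choose W w hw hy using key
    refine (etTop X.obj).superset_covering ?_ (ofArrows_mem_etTop W w fun y => ⟨y, hy y⟩)
    rw [Sieve.generate_le_iff]
    rintro _ _ ⟨y⟩
    exact hw y
  have hFs := ((isSheaf_iff_isSheaf_of_type _ _).1 F.property) T' hT'
  intro x hx
  let x' : Presieve.FamilyOfElements F.obj T'.arrows := fun W w hw =>
    if h : T w then x w h else (hF W (hw.resolve_left h)).some.default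
  have hx' : x'.Compatible := by
    intro W₁ W₂ A g₁ g₂ w₁ w₂ k₁ k₂ e
    by_cases hT₁ : T w₁
    · by_cases hT₂ : T w₂
      · simp only [x', dif_pos hT₁, dif_pos hT₂]
        exact hx g₁ g₂ hT₁ hT₂ e
      · exact sub (down g₂ (k₂.resolve_left hT₂)) _ _
    · exact sub (down g₁ (k₁.resolve_left hT₁)) _ _
  obtain ⟨y, hy, huniq⟩ := hFs x' hx'
  refine ⟨y, fun W w hw => (hy w (Or.inl hw)).trans (dif_pos hw), fun y' hy' => huniq y' fun W w hw => ?_⟩
  by_cases h : T w
  · exact (hy' w h).trans (dif_pos h).symm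
  · exact sub (hw.resolve_left h) _ _

/-- A section on an object with empty base change is unique. -/
theorem unique_of_isEmpty {A : Type (u + 2)} [Category.{u + 1} A] (G : Sheaf (etTop Z.obj) A) (E : EtOver X.obj)
    (h : IsEmpty ↥(EtOver.bcObj hi.1 E).obj.left.left) :
    Nonempty (IsTerminal (G.obj.obj (op ((EtOver.bc hi.1).obj E)))) := by
  refine ⟨Sheaf.isTerminalOfBotCover G _ ?_⟩
  refine (etTop Z.obj).superset_covering ?_ (ofArrows_mem_etTop
    (fun e : PEmpty.{u + 1} => (e.elim : EtOver Z.obj)) (fun e => e.elim) fun x => h.elim x)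
  rw [Sieve.generate_le_iff]
  rintro _ _ ⟨e⟩
  exact e.elim

/-- Missing the image is having empty base change. -/
theorem disjoint_iff_isEmpty (E : EtOver X.obj) :
    Disjoint (Set.range (Points.map E.obj.hom)) (Set.range (Points.map i.hom)) ↔
      IsEmpty ↥(EtOver.bcObj hi.1 E).obj.left.left := by
  constructor
  · intro h
    refine ⟨fun b => ?_⟩
    let p := Points.schemeEquiv (EtOver.bcObj hi.1 E).obj.left b
    have e : Points.map i.hom (Points.map (EtOver.bcObj hi.1 E).obj.hom p) =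
        Points.map E.obj.hom (Points.map ((yon S).map (EtOver.bcπ hi.1 E)) p) := by
      rw [← Points.map_comp, ← Points.map_comp]
      exact congrArg (Points.map · p) (EtOver.isPullback_bcObj hi.1 E).w
    exact Set.disjoint_iff.1 h ⟨⟨_, rfl⟩, ⟨_, e⟩⟩
  · intro h
    rw [Set.disjoint_iff]
    rintro _ ⟨⟨e, rfl⟩, ⟨z, hz⟩⟩
    obtain ⟨b, -, -⟩ := exists_of_isPullback (EtOver.isPullback_bcObj hi.1 E) (x := z) (y := e) hz
    exact h.elim ((Points.schemeEquiv _).symm b)

end IntPush

end GrothLib.AlgSp
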