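import Groth.Agent.Lib.AlgSp.IdealEtLib
import Groth.Agent.Lib.AlgSp.AffineMor
import Groth.Agent.Lib.EtSite.PushExact
import Groth.Prelude.Def_AlgSpOX2

/-!
# Direct image along integral morphisms is exact

* `exists_split_bc`: coverings of base changes split over étale neighbourhoods.
* `pushEt_preservesEpimorphisms`, `preservesHomology_pushEt`.
-/

universe u

open CategoryTheory CategoryTheory.Limits AlgebraicGeometry Opposite
set_option backward.isDefEq.respectTransparency false

noncomputable section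

namespace GrothLib.AlgSp

open _root_.AlgSp

variable {S : Scheme.{u}} {X Y : Sp S} {f : X ⟶ Y} (hf : RepWith @IsIntegralHom f)

/-- Coverings of base changes along integral morphisms split over étale neighbourhoods. -/
theorem exists_split_bc (E : EtOver Y) {ι : Type u} (B : ι → EtOver X) (g : ∀ i, B i ⟶ EtOver.bcObj hf.1 E)
    (hsurj : ∀ x, ∃ i, x ∈ Set.range (g i).hom.left.left) (y : ↥E.obj.left.left) :
    ∃ (M : EtOver Y) (n : M ⟶ E) (O : ι → (EtOver.bcObj hf.1 M).obj.left.left.Opens)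
      (k : ∀ i, opensObj (EtOver.bcObj hf.1 M) (O i) ⟶ B i),
      y ∈ Set.range n.hom.left.left ∧ (∀ a b, a ≠ b → Disjoint (O a) (O b)) ∧ (⨆ i, O i) = ⊤ ∧
      ∀ i, k i ≫ g i = opensInc (EtOver.bcObj hf.1 M) (O i) ≫ EtOver.bcMap hf.1 n := by
  let φ := (EtOver.bcπ hf.1 E).left
  haveI : IsIntegralHom φ := hf.2 _ _ _ (hf.1.isPullback E.obj.hom)
  let U : ι → Scheme.{u} := fun i => (B i).obj.left.left
  let G : (∐ U) ⟶ (EtOver.bcObj hf.1 E).obj.left.left := Sigma.desc fun i => (g i).hom.left.left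
  haveI : Etale G := IsZariskiLocalAtSource.sigmaDesc fun i => EtOver.etale_left (g i)
  obtain ⟨T, t, ht, r, hr, -⟩ := EtSite.exists_nbhd_section φ (EtSite.gpt y) G
    (fun x _ => by
      obtain ⟨i, z, hz⟩ := hsurj x
      exact ⟨(Sigma.ι U i).base z, by rw [← Scheme.Hom.comp_apply, Sigma.ι_desc]; exact hz⟩)
    (ι := Fin 0) Fin.elim0 (fun i => i.elim0) (fun i => i.elim0) Fin.elim0 (fun i => i.elim0)
  haveI : Etale T.hom := T.prop
  let q : Over.mk (T.hom ≫ E.obj.left.hom) ⟶ E.obj.left := Over.homMk T.hom rfl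
  let M : EtOver Y := EtOver.mk ((yon S).map q ≫ E.obj.hom)
    (repWith_comp ((repWith_yon_map_iff _ _).2 (show Etale T.hom from inferInstance)) E.property)
  let n : M ⟶ E := EtOver.homMk q rfl
  let sq := EtOver.isPullback_bcMap_left hf.1 n
  let c : (EtOver.bcObj hf.1 M).obj.left.left ⟶ pullback T.hom φ :=
    pullback.lift (EtOver.bcπ hf.1 M).left (EtOver.bcMap hf.1 n).hom.left.left sq.w.symm
  let r' := c ≫ r
  have hr' : r' ≫ G = (EtOver.bcMap hf.1 n).hom.left.left :=
    (Category.assoc _ _ _).trans ((congrArg (c ≫ ·) hr).trans (pullback.lift_snd _ _ _))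
  let O : ι → (EtOver.bcObj hf.1 M).obj.left.left.Opens := fun i => r' ⁻¹ᵁ (Sigma.ι U i).opensRange
  have hsub : ∀ i, Set.range ((O i).ι ≫ r').base ⊆ Set.range (Sigma.ι U i).base := by
    rintro i _ ⟨x, rfl⟩
    exact x.2
  let k₀ (i : ι) : (O i).toScheme ⟶ U i := IsOpenImmersion.lift (Sigma.ι U i) _ (hsub i)
  have hk₀ : ∀ i, k₀ i ≫ (g i).hom.left.left = (O i).ι ≫ (EtOver.bcMap hf.1 n).hom.left.left := fun i => by
    have h : k₀ i ≫ Sigma.ι U i ≫ G = (O i).ι ≫ r' ≫ G := IsOpenImmersion.lift_fac_assoc _ _ _ _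
    rw [hr', Sigma.ι_desc] at h
    exact h
  let k₁ : ∀ i, (opensObj (EtOver.bcObj hf.1 M) (O i)).obj.left ⟶ (B i).obj.left := fun i => Over.homMk (k₀ i) (by
    show k₀ i ≫ (B i).obj.left.hom = _
    rw [← Over.w (g i).hom.left, ← Category.assoc, hk₀, Category.assoc, Over.w (EtOver.bcMap hf.1 n).hom.left]
    rfl)
  have hk₁ : ∀ i, k₁ i ≫ (g i).hom.left =
      (opensInc (EtOver.bcObj hf.1 M) (O i) ≫ EtOver.bcMap hf.1 n).hom.left :=
    fun i => Over.OverMorphism.ext (hk₀ i)
  let k : ∀ i, opensObj (EtOver.bcObj hf.1 M) (O i) ⟶ B i := fun i => EtOver.homMk (k₁ i) (by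
    rw [← EtOver.w (g i), ← Category.assoc, ← Functor.map_comp, hk₁]
    exact EtOver.w (opensInc (EtOver.bcObj hf.1 M) (O i) ≫ EtOver.bcMap hf.1 n))
  refine ⟨M, n, O, k, ⟨t.base default, ?_⟩, fun a b hab => ?_, ?_, fun i => EtOver.hom_ext _ _ (hk₁ i)⟩
  · show T.hom.base (t.base default) = y
    exact ((Scheme.Hom.comp_apply _ _ _).symm.trans (congrArg (fun m => m.base default) ht)).trans
      (EtSite.gpt_default y)
  · rw [disjoint_iff_inf_le]
    exact fun x hx => ((disjoint_opensRange_sigmaι U a b hab).le_bot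
      (show r' x ∈ (Sigma.ι U a).opensRange ⊓ (Sigma.ι U b).opensRange from hx)).elim
  · rw [eq_top_iff]
    intro x _
    obtain ⟨⟨i, z⟩, hz⟩ := (sigmaMk U).surjective (r' x)
    exact TopologicalSpace.Opens.mem_iSup.2 ⟨i, z, (sigmaMk_mk U i z).symm.trans hz⟩

/-- A sheaf has one section over an object with empty scheme. -/
theorem subsingleton_of_isEmpty (P : EtSh X (Type (u + 1))) (E : EtOver X) [h : IsEmpty ↥E.obj.left.left] :
    Subsingleton (P.obj.obj (op E)) := by
  have hb : (⊥ : Sieve E) ∈ etTop X E := by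
    refine (etTop X).superset_covering ?_ (ofArrows_mem_etTop
      (fun e : PEmpty.{u + 1} => (e.elim : EtOver X)) (fun e => e.elim) fun x => h.elim x)
    rw [Sieve.generate_le_iff]
    rintro _ _ ⟨e⟩
    exact e.elim
  exact ⟨fun a b => ((isSheaf_iff_isSheaf_of_type _ _).1 P.property _ hb).isSeparatedFor.ext fun _ _ hg => hg.elim⟩

/-- Sections on the pieces of a disjoint open cover glue. -/
theorem exists_glue (P : EtSh X (Type (u + 1))) (E : EtOver X) {ι : Type u} (O : ι → E.obj.left.left.Opens)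
    (hdisj : ∀ a b, a ≠ b → Disjoint (O a) (O b)) (hsup : (⨆ i, O i) = ⊤)
    (s : ∀ i, P.obj.obj (op (opensObj E (O i)))) :
    ∃ z : P.obj.obj (op E), ∀ i, P.obj.map (opensInc E (O i)).op z = s i := by
  have hcov : Sieve.generate (Presieve.ofArrows _ fun i => opensInc E (O i)) ∈ etTop X E :=
    ofArrows_mem_etTop (fun i => opensObj E (O i)) (fun i => opensInc E (O i)) fun x => by
      obtain ⟨i, hi⟩ := TopologicalSpace.Opens.mem_iSup.1 (hsup ▸ trivial : x ∈ ⨆ i, O i)
      exact ⟨i, ⟨x, hi⟩, rfl⟩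
  obtain ⟨z, hz, -⟩ := (Presieve.isSheafFor_arrows_iff _ _).1
    ((Presieve.isSheafFor_iff_generate _).2 ((isSheaf_iff_isSheaf_of_type _ _).1 P.property _ hcov)) s
    fun a b C p q hpq => by
      by_cases hab : a = b
      · subst hab
        have : p = q := EtOver.hom_ext _ _ (Over.OverMorphism.ext
          ((cancel_mono (O a).ι).1 (congrArg (fun k : C ⟶ E => k.hom.left.left) hpq)))
        rw [this]
      · haveI : IsEmpty ↥C.obj.left.left := ⟨fun z => by
          have h1 : (O a).ι (p.hom.left.left z) = (O b).ι (q.hom.left.left z) :=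
            congrArg (fun k : C ⟶ E => k.hom.left.left z) hpq
          have h2 : (O a).ι (p.hom.left.left z) ∈ O b := by rw [h1]; exact (q.hom.left.left z).2
          have h3 : (O a).ι (p.hom.left.left z) ∈ O a ⊓ O b := ⟨(p.hom.left.left z).2, h2⟩
          rw [(hdisj a b hab).eq_bot] at h3
          exact h3⟩
        exact (subsingleton_of_isEmpty P C).elim _ _
  exact ⟨z, hz⟩

include hf in
/-- Direct image along integral morphisms preserves locally surjective maps. -/
theorem imageSieve_push_mem {P Q : EtSh X (Type (u + 1))} (a : P.obj ⟶ Q.obj)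
    (ha : Presheaf.IsLocallySurjective (etTop X) a) (E : EtOver Y)
    (s : Q.obj.obj (op (EtOver.bcObj hf.1 E))) :
    Presheaf.imageSieve (Functor.whiskerLeft (EtOver.bc hf.1).op a) (U := E) s ∈ etTop Y E := by
  have key : ∀ x : ↥(EtOver.bcObj hf.1 E).obj.left.left, ∃ (B : EtOver X) (g : B ⟶ EtOver.bcObj hf.1 E),
      (Presheaf.imageSieve a (U := EtOver.bcObj hf.1 E) s).arrows g ∧ x ∈ Set.range g.hom.left.left := by
    intro x
    have hQ := Presheaf.imageSieve_mem (etTop X) a (U := op (EtOver.bcObj hf.1 E)) s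
    obtain ⟨R, hR, hle⟩ := Precoverage.mem_toGrothendieck_iff_of_isStableUnderComposition.1
      (show _ ∈ (etPre X).toGrothendieck _ from hQ)
    obtain ⟨ι, W, w, rfl⟩ := Presieve.exists_eq_ofArrows R
    obtain ⟨j, b, hb⟩ := (ofArrows_mem_etPre_iff W w).1 hR x
    exact ⟨W j, w j, hle _ _ ⟨j⟩, b, hb⟩
  choose B g hg hx using key
  choose z hz using hg
  choose M n O k hy hdisj hsup hk using fun y => exists_split_bc hf E B g (fun x => ⟨x, hx x⟩) y
  refine (etTop Y).superset_covering ?_ (ofArrows_mem_etTop M n fun y => ⟨y, hy y⟩)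
  rw [Sieve.generate_le_iff]
  rintro _ _ ⟨y⟩
  obtain ⟨t, ht⟩ := exists_glue P (EtOver.bcObj hf.1 (M y)) (O y) (hdisj y) (hsup y)
    fun i => P.obj.map (k y i).op (z i)
  refine ⟨t, ?_⟩
  have hcov : Sieve.generate (Presieve.ofArrows _ fun i => opensInc (EtOver.bcObj hf.1 (M y)) (O y i)) ∈
      etTop X (EtOver.bcObj hf.1 (M y)) :=
    ofArrows_mem_etTop (fun i => opensObj _ (O y i)) (fun i => opensInc _ (O y i)) fun x => by
      obtain ⟨i, hi⟩ := TopologicalSpace.Opens.mem_iSup.1 (hsup y ▸ trivial : x ∈ ⨆ i, O y i)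
      exact ⟨i, ⟨x, hi⟩, rfl⟩
  refine ((Presieve.isSheafFor_iff_generate _).2
    ((isSheaf_iff_isSheaf_of_type _ _).1 Q.property _ hcov)).isSeparatedFor.ext ?_
  rintro _ _ ⟨i⟩
  show Q.obj.map _ (a.app _ t) = Q.obj.map _ (Q.obj.map (EtOver.bcMap hf.1 (n y)).op s)
  rw [← NatTrans.naturality_apply, ht i, NatTrans.naturality_apply, hz i, ← Functor.map_comp_apply,
    ← Functor.map_comp_apply, ← op_comp, ← op_comp, hk y i]

include hf in
/-- Direct image along integral morphisms preserves epimorphisms. -/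
theorem pushEt_preservesEpimorphisms : (pushEt hf.1 AddCommGrpCat.{u + 1}).PreservesEpimorphisms := by
  refine ⟨fun {F G} a ha => ?_⟩
  have h1 : Sheaf.IsLocallySurjective a := (Sheaf.isLocallySurjective_iff_epi' _ a).2 ha
  have h2 : Presheaf.IsLocallySurjective (etTop X) (Functor.whiskerRight a.hom (forget AddCommGrpCat.{u + 1})) :=
    (Presheaf.isLocallySurjective_iff_whisker_forget _ a.hom).1 h1
  haveI : Sheaf.IsLocallySurjective ((pushEt hf.1 AddCommGrpCat.{u + 1}).map a) := ⟨fun {E} s => by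
    rw [← Presheaf.imageSieve_whisker_forget]
    exact imageSieve_push_mem hf (P := (sheafCompose (etTop X) (forget AddCommGrpCat.{u + 1})).obj F)
      (Q := (sheafCompose (etTop X) (forget AddCommGrpCat.{u + 1})).obj G)
      (Functor.whiskerRight a.hom (forget AddCommGrpCat.{u + 1})) h2 E s⟩
  exact Sheaf.epi_of_isLocallySurjective _

include hf in
/-- Direct image along integral morphisms is exact. -/
theorem preservesHomology_pushEt : (pushEt hf.1 AddCommGrpCat.{u + 1}).PreservesHomology := by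
  haveI := pushEt_preservesEpimorphisms hf
  haveI : (pushEt hf.1 AddCommGrpCat.{u + 1}).IsRightAdjoint :=
    (pullPushAdjEt hf.1 AddCommGrpCat.{u + 1}).isRightAdjoint
  exact Functor.preservesHomology_of_preservesEpis_and_kernels _

end GrothLib.AlgSp
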