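import Groth.Agent.Lib.AlgSp.Space
import Groth.Agent.Lib.AlgSp.LocP
import Groth.Agent.Lib.LCI6.Koszul
import Groth.Agent.S8662
import Groth.Prelude.Def_AlgSpMor6

/-!
# Local complete intersection morphisms on etale charts
-/

universe u

open CategoryTheory CategoryTheory.Limits AlgebraicGeometry

namespace GrothLib.AlgSp

open _root_.AlgSp GrothLib.LCI6

/-- Being LCI at every point descends along etale surjective base change. -/
theorem inLocus_of_etale_baseChange {X Y X' Y' : Scheme.{u}} (f : X ⟶ Y) (g : Y' ⟶ Y) [Etale g] [Surjective g]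
    (f' : X' ⟶ Y') (g' : X' ⟶ X) (sq : IsPullback g' f' f g) (hf' : ∀ x', InLocus f' x') (x : X) :
    InLocus f x := by
  obtain ⟨V, hV, hy, -⟩ := GrothLib.LCI6.exists_affine_le (x := f x) (O := (⊤ : Y.Opens)) trivial
  obtain ⟨y', hy'⟩ := g.surjective (f x)
  obtain ⟨A, hA, hyA, hAV⟩ := GrothLib.LCI6.exists_affine_le (x := y') (O := g ⁻¹ᵁ V) (by
    show g y' ∈ V
    rw [hy']; exact hy)
  obtain ⟨s, hs, hfs⟩ := hV.exists_basicOpen_le
    (V := (⟨g '' (A : Set Y'), g.isOpenMap _ A.isOpen⟩ : Y.Opens)) ⟨f x, ⟨y', hyA, hy'⟩⟩ hy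
  let V' := Y.basicOpen s
  let A' : Y'.Opens := A ⊓ g ⁻¹ᵁ V'
  have hA' : IsAffineOpen A' := by
    have e : A' = Y'.basicOpen (g.appLE V A hAV s) := by
      rw [Scheme.basicOpen_appLE]
    rw [e]
    exact hA.basicOpen _
  have : IsAffine (A' : Scheme) := hA'
  have : IsAffine (V' : Scheme) := hV.basicOpen s
  let gA : (A' : Scheme) ⟶ (V' : Scheme) := g.resLE V' A' inf_le_right
  have : Etale gA := inferInstance
  have : Surjective gA := ⟨fun v => by
    obtain ⟨w, hw, hwv⟩ := hs v.2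
    have hwA : w ∈ A' := ⟨hw, by show g w ∈ V'; rw [hwv]; exact v.2⟩
    refine ⟨⟨w, hwA⟩, Subtype.ext ?_⟩
    rw [← hwv]
    change (V'.ι (gA ⟨w, hwA⟩)) = _
    rw [← Scheme.Hom.comp_apply, Scheme.Hom.resLE_comp_ι]
    rfl⟩
  have sqA := (IsPullback.of_hasPullback f' A'.ι).paste_horiz sq
  have hgA : A'.ι ≫ g = gA ≫ V'.ι := (Scheme.Hom.resLE_comp_ι g inf_le_right).symm
  have sqB := isPullback_morphismRestrict f V'
  rw [hgA] at sqA
  let m : pullback f' A'.ι ⟶ (f ⁻¹ᵁ V' : X.Opens) := sqB.flip.lift (pullback.fst _ _ ≫ g')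
    (pullback.snd _ _ ≫ gA) (by rw [sqA.w, Category.assoc])
  have sqC : IsPullback m (pullback.snd f' A'.ι) (f ∣_ V') gA :=
    IsPullback.of_right (h₁₂ := (f ⁻¹ᵁ V').ι) (h₂₂ := V'.ι) (v₁₃ := f)
      (by rw [sqB.flip.lift_fst]; exact sqA) (sqB.flip.lift_snd _ _ _) sqB.flip
  have hK : ∀ w, InLocus (pullback.snd f' A'.ι) w := fun w =>
    inLocus_baseChange_flat (IsPullback.of_hasPullback f' A'.ι) (hf' _)
  have hR := Groth.Agent.S8662.result (f ∣_ V') gA (pullback.snd f' A'.ι) m sqC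
    ((inLocus_iff_of_isKoszul _).2 hK) ⟨x, hfs⟩
  rw [isKoszulAt_iff_inLocus] at hR
  have h2 : InLocus ((f ∣_ V') ≫ V'.ι) ⟨x, hfs⟩ := inLocus_comp hR (inLocus_of_smooth V'.ι _)
  rw [morphismRestrict_ι] at h2
  exact (inLocus_openImmersion_comp_iff _ f).1 h2

/-- On etale charts, LCI cancels a smooth morphism. -/
theorem inLocus_of_comp_smooth_chart {S : Scheme.{u}} {X Y Z : Sp S} (hY : IsAlgSpace Y) (hZ : IsAlgSpace Z)
    {p : X ⟶ Z} {q : Y ⟶ Z} (hp : IsLCIMor p) (hq : LocP @Smooth q)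
    {U V : Over S} {a : (yon S).obj U ⟶ X} {b : (yon S).obj V ⟶ Y} {h : U ⟶ V}
    (ha : RepWith @Etale a) (hb : RepWith @Etale b) (w : a ≫ p = (yon S).map h ≫ b ≫ q) (x : U.left) :
    InLocus h.left x := by
  obtain ⟨W, r, re, rs⟩ := hZ.atlas
  obtain ⟨V', c, β, sqV⟩ := exists_isPullback_yon hZ.diag (b ≫ q) r
  have hc : Etale c.left := re.2 _ _ _ sqV.flip
  have hcs : Surjective c.left := rs.2 _ _ _ sqV.flip
  have hb' : RepWith @Etale ((yon S).map c ≫ b) := repWith_comp ((repWith_yon_map_iff _ _).2 hc) hb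
  have : Smooth β.left := hq _ r β hb' re (by rw [Category.assoc, sqV.w])
  have sq₁ := IsPullback.of_hasPullback h c
  have sqL := isPullback_left sq₁
  have : Etale (pullback.fst h c).left := MorphismProperty.of_isPullback sqL.flip hc
  have ha' : RepWith @Etale ((yon S).map (pullback.fst h c) ≫ a) :=
    repWith_comp ((repWith_yon_map_iff _ _).2 this) ha
  have hl : lci (pullback.snd h c ≫ β).left := hp _ r (pullback.snd h c ≫ β) ha' re (by
    rw [Category.assoc, w, ← Category.assoc, ← Functor.map_comp, pullback.condition, Functor.map_comp,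
      Category.assoc, sqV.w, Functor.map_comp, Category.assoc])
  refine inLocus_of_etale_baseChange h.left c.left _ _ sqL (fun z => ?_) x
  refine inLocus_cancel_smooth _ β.left ?_
  rw [← Over.comp_left]
  exact (isKoszulAt_iff_inLocus _ _).1 (hl z)

end GrothLib.AlgSp
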