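import Groth.Agent.Lib.AlgSp.LciChart
import Groth.Agent.Lib.AlgSp.PointProps
import Groth.Agent.Lib.AlgSp.OpenSub
import Groth.Agent.Lib.LCI6.Cancel
import Groth.Agent.Lib.LCI6.InLocus

/-!
# The Koszul locus of a morphism of algebraic spaces

* `inLocus_of_etale_comp`: LCI at a point descends along etale maps to the source.
* `inLocus_iff_of_square`: invariance under etale maps of source and target.
* `lciLocus`, `isOpen_lciLocus`, `mem_lciLocus_iff`: the locus read on charts.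
* `locPNear_lci_iff`, `isLCIMor_iff`: comparison with `LocPNear lci` and `IsLCIMor`.
-/

universe u

open CategoryTheory CategoryTheory.Limits AlgebraicGeometry

namespace GrothLib.AlgSp

open _root_.AlgSp GrothLib.LCI6

set_option backward.isDefEq.respectTransparency false

/-- LCI at a point descends along an etale map to the source. -/
theorem inLocus_of_etale_comp {U' U Y : Scheme.{u}} (a : U' ⟶ U) [Etale a] (h : U ⟶ Y) {u : U'}
    (hu : InLocus (a ≫ h) u) : InLocus h (a u) := by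
  obtain ⟨V, hV, hy, -⟩ := exists_affine_le (x := h (a u)) (O := (⊤ : Y.Opens)) trivial
  obtain ⟨B, hB, hx, hBV⟩ := exists_affine_le (x := a u) (O := h ⁻¹ᵁ V) hy
  obtain ⟨C, hC, hu', hCB⟩ := exists_affine_le (x := u) (O := a ⁻¹ᵁ B) hx
  have hCV : C ≤ (a ≫ h) ⁻¹ᵁ V := fun z hz => hBV (hCB hz)
  obtain ⟨s, hus, hl⟩ := inLocus_exists hu hC hV hCV hu'
  let C₁ := U'.basicOpen s
  have hC₁ : IsAffineOpen C₁ := hC.basicOpen s
  have hC₁B : C₁ ≤ a ⁻¹ᵁ B := (U'.basicOpen_le s).trans hCB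
  obtain ⟨r, hr, hxr⟩ := hB.exists_basicOpen_le
    (V := (⟨a '' (C₁ : Set U'), a.isOpenMap _ C₁.isOpen⟩ : U.Opens)) ⟨a u, ⟨u, hus, rfl⟩⟩ hx
  let B₂ := U.basicOpen r
  let C₂ := U'.basicOpen (a.appLE B C₁ hC₁B r)
  have hC₂ : C₂ = C₁ ⊓ a ⁻¹ᵁ B₂ := Scheme.basicOpen_appLE ..
  have hC₂B₂ : C₂ ≤ a ⁻¹ᵁ B₂ := hC₂.le.trans inf_le_right
  have hB₂ : IsAffineOpen B₂ := hB.basicOpen r
  have hC₂a : IsAffineOpen C₂ := hC₁.basicOpen _
  have hB₂V : B₂ ≤ h ⁻¹ᵁ V := (U.basicOpen_le r).trans hBV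
  have hC₂V : C₂ ≤ (a ≫ h) ⁻¹ᵁ V := fun z hz => hB₂V (hC₂B₂ hz)
  refine ⟨B₂, V, hB₂, hV, hB₂V, hxr, ?_⟩
  letI : Algebra Γ(Y, V) Γ(U, B₂) := (h.appLE V B₂ hB₂V).hom.toAlgebra
  letI : Algebra Γ(U, B₂) Γ(U', C₂) := (a.appLE B₂ C₂ hC₂B₂).hom.toAlgebra
  letI : Algebra Γ(Y, V) Γ(U', C₁) := ((a ≫ h).appLE V C₁ fun z hz => hCV (U'.basicOpen_le s hz)).hom.toAlgebra
  letI : Algebra Γ(Y, V) Γ(U', C₂) := ((a ≫ h).appLE V C₂ hC₂V).hom.toAlgebra
  letI : Algebra Γ(U', C₁) Γ(U', C₂) := (U'.presheaf.map (homOfLE (U'.basicOpen_le _)).op).hom.toAlgebra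
  haveI : IsScalarTower Γ(Y, V) Γ(U, B₂) Γ(U', C₂) := IsScalarTower.of_algebraMap_eq' (by
    show _ = (a.appLE B₂ C₂ hC₂B₂).hom.comp (h.appLE V B₂ hB₂V).hom
    rw [← CommRingCat.hom_comp, Scheme.Hom.appLE_comp_appLE]
    rfl)
  haveI : IsScalarTower Γ(Y, V) Γ(U', C₁) Γ(U', C₂) := IsScalarTower.of_algebraMap_eq' (by
    show _ = (U'.presheaf.map (homOfLE (U'.basicOpen_le _)).op).hom.comp ((a ≫ h).appLE V C₁ _).hom
    rw [← CommRingCat.hom_comp, Scheme.Hom.appLE_map]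
    rfl)
  haveI := hC₁.isLocalization_basicOpen (a.appLE B C₁ hC₁B r)
  have hAC : LCI.IsLCI Γ(Y, V) Γ(U', C₂) := isLCI_comp (Cc := Γ(U', C₁)) hl (isLCI_away (a.appLE B C₁ hC₁B r) _)
  haveI : Smooth a := inferInstance
  haveI : Algebra.Smooth Γ(U, B₂) Γ(U', C₂) := a.smooth_appLE hB₂ hC₂a hC₂B₂
  haveI : Module.Flat Γ(U, B₂) Γ(U', C₂) := Flat.flat_appLE a hB₂ hC₂a hC₂B₂
  haveI : Module.FaithfullyFlat Γ(U, B₂) Γ(U', C₂) := Module.FaithfullyFlat.of_comap_surjective fun p => by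
    have hp : hB₂.fromSpec p ∈ B₂ := by
      have h' : hB₂.fromSpec p ∈ Set.range hB₂.fromSpec := ⟨p, rfl⟩
      rwa [hB₂.range_fromSpec] at h'
    obtain ⟨c, hc, hce⟩ := hr hp
    have hc2 : c ∈ C₂ := by
      rw [hC₂]
      exact ⟨hc, by show a c ∈ B₂; rw [hce]; exact hp⟩
    obtain ⟨q, rfl⟩ : c ∈ Set.range hC₂a.fromSpec := by rw [hC₂a.range_fromSpec]; exact hc2
    refine ⟨q, hB₂.fromSpec.isOpenEmbedding.injective ?_⟩
    rw [← hce]
    show (Spec.map (a.appLE B₂ C₂ hC₂B₂) ≫ hB₂.fromSpec) q = _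
    rw [hB₂.SpecMap_appLE_fromSpec a hC₂a hC₂B₂]
    rfl
  exact isLCI_of_faithfullyFlat_comp (isLCI_of_smooth Γ(U, B₂) Γ(U', C₂)) hAC

/-- LCI at a point is invariant under etale maps of source and target. -/
theorem inLocus_iff_of_square {W Q U V : Scheme.{u}} (m : W ⟶ Q) (h : U ⟶ V) (w : W ⟶ U) (q : Q ⟶ V)
    [Etale w] [Etale q] (e : m ≫ q = w ≫ h) (x : W) : InLocus m x ↔ InLocus h (w x) := by
  refine ⟨fun hm => inLocus_of_etale_comp w h ?_, fun hh => inLocus_cancel_smooth m q ?_⟩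
  · rw [← e]
    exact inLocus_comp hm (inLocus_of_smooth q _)
  · rw [e]
    exact inLocus_comp (inLocus_of_smooth w _) hh

variable {S : Scheme.{u}} {F G : Sp S}

/-- Being LCI at a point does not depend on the chart diagram. -/
theorem inLocus_iff_of_charts (hF : IsAlgSpace F) (hG : IsAlgSpace G) {f : F ⟶ G} {U U' V V' : Over S}
    {a : (yon S).obj U ⟶ F} {a' : (yon S).obj U' ⟶ F} {b : (yon S).obj V ⟶ G} {b' : (yon S).obj V' ⟶ G}
    {h : U ⟶ V} {h' : U' ⟶ V'} (ha : RepWith @Etale a) (ha' : RepWith @Etale a') (hb : RepWith @Etale b)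
    (hb' : RepWith @Etale b') (c : a ≫ f = (yon S).map h ≫ b) (c' : a' ≫ f = (yon S).map h' ≫ b')
    {u : ↥U.left} {u' : ↥U'.left} (e : Points.ofPt a u = Points.ofPt a' u') :
    InLocus h.left u ↔ InLocus h'.left u' := by
  obtain ⟨W, Q, m, w₁, w₂, q₁, q₂, w, i₁, i₂, i₃, i₄, m₁, m₂, rfl, rfl⟩ :=
    exists_common_charts hF hG ha ha' hb hb' c c' e
  rw [← inLocus_iff_of_square m.left h.left w₁.left q₁.left m₁ w,
    ← inLocus_iff_of_square m.left h'.left w₂.left q₂.left m₂ w]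

/-- The points at which a morphism is LCI on some chart diagram. -/
def lciLocus (f : F ⟶ G) : Set (Points F) :=
  {x | ∃ (U V : Over S) (a : (yon S).obj U ⟶ F) (b : (yon S).obj V ⟶ G) (h : U ⟶ V) (u : ↥U.left),
    RepWith @Etale a ∧ RepWith @Etale b ∧ a ≫ f = (yon S).map h ≫ b ∧ Points.ofPt a u = x ∧ InLocus h.left u}

theorem mem_lciLocus_iff (hF : IsAlgSpace F) (hG : IsAlgSpace G) {f : F ⟶ G} {U V : Over S}
    {a : (yon S).obj U ⟶ F} {b : (yon S).obj V ⟶ G} {h : U ⟶ V} (ha : RepWith @Etale a)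
    (hb : RepWith @Etale b) (c : a ≫ f = (yon S).map h ≫ b) (u : ↥U.left) :
    Points.ofPt a u ∈ lciLocus f ↔ InLocus h.left u := by
  refine ⟨fun ⟨U', V', a', b', h', u', ha', hb', c', hu', hl⟩ => ?_, fun hl => ⟨U, V, a, b, h, u, ha, hb, c, rfl, hl⟩⟩
  exact (inLocus_iff_of_charts hF hG ha ha' hb hb' c c' hu'.symm).2 hl

theorem isOpen_lciLocus (f : F ⟶ G) : IsOpen (lciLocus f) := by
  refine isOpen_iff_forall_mem_open.2 ?_
  rintro x ⟨U, V, a, b, h, u, ha, hb, c, rfl, hl⟩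
  refine ⟨Points.ofPt a '' {u | InLocus h.left u}, ?_, ?_, ⟨u, hl, rfl⟩⟩
  · rintro _ ⟨v, hv, rfl⟩
    exact ⟨U, V, a, b, h, v, ha, hb, c, rfl, hv⟩
  · exact isOpenMap_ofPt_of_repWith (fun A B k (hk : Etale k) => k.isOpenMap) ha _ (isOpen_inLocus _)

/-- Chart diagrams exist through every point. -/
theorem exists_chart_diagram (hF : IsAlgSpace F) (hG : IsAlgSpace G) (f : F ⟶ G) :
    ∃ (U V : Over S) (a : (yon S).obj U ⟶ F) (b : (yon S).obj V ⟶ G) (h : U ⟶ V),
      RepWith @Etale a ∧ RepWith @Surjective a ∧ RepWith @Etale b ∧ RepWith @Surjective b ∧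
        a ≫ f = (yon S).map h ≫ b := by
  obtain ⟨V, b, hb, hbs⟩ := hG.atlas
  obtain ⟨U, a, ha, has⟩ := (isAlgSpace_pullback' hG hF (IsAlgSpace.yon_obj V) f b).atlas
  obtain ⟨h, hh⟩ := (yon S).map_surjective (a ≫ pullback.snd f b)
  refine ⟨U, V, a ≫ pullback.fst f b, b, h,
    repWith_comp ha (repWith_of_isPullback (IsPullback.of_hasPullback f b).flip hb),
    repWith_comp has (repWith_of_isPullback (IsPullback.of_hasPullback f b).flip hbs), hb, hbs, ?_⟩
  rw [Category.assoc, pullback.condition, hh, Category.assoc]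

/-- A morphism is LCI iff it is LCI at every point. -/
theorem isLCIMor_iff (hF : IsAlgSpace F) (hG : IsAlgSpace G) {f : F ⟶ G} :
    IsLCIMor f ↔ ∀ x, x ∈ lciLocus f := by
  constructor
  · intro hf x
    obtain ⟨U, V, a, b, h, ha, has, hb, -, c⟩ := exists_chart_diagram hF hG f
    obtain ⟨u, rfl⟩ := surjective_ofPt_of_repWith has x
    exact (mem_lciLocus_iff hF hG ha hb c u).2 ((isKoszulAt_iff_inLocus _ _).1 (hf a b h ha hb c u))
  · intro hall U V a b h ha hb c u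
    exact (isKoszulAt_iff_inLocus _ _).2 ((mem_lciLocus_iff hF hG ha hb c u).1 (hall _))

/-- LCI of a morphism from one surjective chart diagram. -/
theorem isLCIMor_of_chart (hF : IsAlgSpace F) (hG : IsAlgSpace G) {f : F ⟶ G} {U V : Over S}
    {a : (yon S).obj U ⟶ F} {b : (yon S).obj V ⟶ G} {h : U ⟶ V} (ha : RepWith @Etale a)
    (has : RepWith @Surjective a) (hb : RepWith @Etale b) (c : a ≫ f = (yon S).map h ≫ b)
    (hh : ∀ u, InLocus h.left u) : IsLCIMor f :=
  (isLCIMor_iff hF hG).2 fun x => by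
    obtain ⟨u, rfl⟩ := surjective_ofPt_of_repWith has x
    exact (mem_lciLocus_iff hF hG ha hb c u).2 (hh u)

/-- The locus of an open subspace. -/
theorem mem_lciLocus_comp_openImmersion_iff (hF : IsAlgSpace F) (hG : IsAlgSpace G) {W : Sp S} {j : W ⟶ F}
    (hj : RepWith @IsOpenImmersion j) (f : F ⟶ G) (w : Points W) :
    w ∈ lciLocus (j ≫ f) ↔ Points.map j w ∈ lciLocus f := by
  have hW : IsAlgSpace W := isAlgSpace_of_representable hF hj.1
  obtain ⟨U, V, a, b, h, ha, has, hb, -, c⟩ := exists_chart_diagram hW hG (j ≫ f)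
  obtain ⟨u, rfl⟩ := surjective_ofPt_of_repWith has w
  rw [mem_lciLocus_iff hW hG ha hb c u, Points.map_ofPt]
  exact (mem_lciLocus_iff hF hG (repWith_comp ha (repWith_mono hj fun _ _ k (hk : IsOpenImmersion k) => inferInstance))
    hb (by rw [Category.assoc, c]) u).symm

theorem locPNear_lci_iff (hF : IsAlgSpace F) (hG : IsAlgSpace G) (f : F ⟶ G) (x : Points F) :
    LocPNear lci f x ↔ x ∈ lciLocus f := by
  constructor
  · rintro ⟨W, j, hj, ⟨w, rfl⟩, hl⟩
    exact (mem_lciLocus_comp_openImmersion_iff hF hG hj f w).1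
      ((isLCIMor_iff (isAlgSpace_of_representable hF hj.1) hG).1 hl w)
  · intro hx
    have ho := isOpen_lciLocus f
    have hr := range_openSubι (F := F) (W := lciLocus f)
    refine ⟨openSub F (lciLocus f), openSubι F _, repWith_openSubι ho, hr.symm ▸ hx, ?_⟩
    refine (isLCIMor_iff (isAlgSpace_openSub hF ho) hG).2 fun w => ?_
    rw [mem_lciLocus_comp_openImmersion_iff hF hG (repWith_openSubι ho)]
    exact hr.le ⟨w, rfl⟩

end GrothLib.AlgSp

namespace GrothLib.AlgSp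

open _root_.AlgSp

variable {S : Scheme.{u}}

set_option backward.isDefEq.respectTransparency false

/-- Base change of a chart diagram along a chart of the new target. -/
theorem exists_chart_baseChange {X Y X' Y' : Sp S} {f : X ⟶ Y} {g : Y' ⟶ Y} {gX : X' ⟶ X} {f' : X' ⟶ Y'}
    (sq : IsPullback gX f' f g) {U V V' : Over S} {b : (yon S).obj V ⟶ Y} {a₀ : (yon S).obj U ⟶ pullback f b}
    (hae : RepWith @Etale a₀) (has : RepWith @Surjective a₀) {h : U ⟶ V}
    (hh : (yon S).map h = a₀ ≫ pullback.snd f b) {b' : (yon S).obj V' ⟶ Y'} (hbe : RepWith @Etale b')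
    (hbs : RepWith @Surjective b') (κ : V' ⟶ V) (hκ : b' ≫ g = (yon S).map κ ≫ b) :
    ∃ (U' : Over S) (p : U' ⟶ U) (h' : U' ⟶ V') (a' : (yon S).obj U' ⟶ X'),
      IsPullback p.left h'.left h.left κ.left ∧ a' ≫ gX = (yon S).map p ≫ a₀ ≫ pullback.fst f b ∧
        a' ≫ f' = (yon S).map h' ≫ b' ∧ RepWith @Etale a' ∧ RepWith @Surjective a' := by
  let U' : Over S := Over.mk (pullback.fst h.left κ.left ≫ U.hom)
  let p : U' ⟶ U := Over.homMk (pullback.fst h.left κ.left) rfl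
  let h' : U' ⟶ V' := Over.homMk (pullback.snd h.left κ.left) (by
    show pullback.snd h.left κ.left ≫ V'.hom = pullback.fst h.left κ.left ≫ U.hom
    rw [← Over.w κ, ← Over.w h, pullback.condition_assoc])
  have sqy := isPullback_yon (S := S)
    (IsPullback.of_map_of_faithful (Over.forget S) (IsPullback.of_hasPullback h.left κ.left) :
      IsPullback p h' h κ)
  have sqQ := IsPullback.of_hasPullback (pullback.snd f b) ((yon S).map κ)
  let d : (yon S).obj U' ⟶ pullback (pullback.snd f b) ((yon S).map κ) :=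
    pullback.lift ((yon S).map p ≫ a₀) ((yon S).map h') (by rw [Category.assoc, ← hh]; exact sqy.w)
  have sqd : IsPullback ((yon S).map p) d a₀ (pullback.fst (pullback.snd f b) ((yon S).map κ)) := by
    refine IsPullback.of_bot (h₂₁ := pullback.fst (pullback.snd f b) ((yon S).map κ))
      (v₂₂ := pullback.snd f b) ?_ (pullback.lift_fst _ _ _).symm sqQ
    rw [pullback.lift_snd, ← hh]
    exact sqy
  let e : pullback (pullback.snd f b) ((yon S).map κ) ⟶ X' :=
    sq.lift (pullback.fst (pullback.snd f b) ((yon S).map κ) ≫ pullback.fst f b)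
      (pullback.snd (pullback.snd f b) ((yon S).map κ) ≫ b') (by
        rw [Category.assoc, pullback.condition, pullback.condition_assoc, Category.assoc, hκ])
  have sqP : IsPullback (pullback.fst (pullback.snd f b) ((yon S).map κ) ≫ pullback.fst f b)
      (pullback.snd (pullback.snd f b) ((yon S).map κ)) f (b' ≫ g) := by
    rw [hκ]
    exact sqQ.paste_horiz (IsPullback.of_hasPullback f b)
  have sqe : IsPullback e (pullback.snd (pullback.snd f b) ((yon S).map κ)) f' b' :=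
    IsPullback.of_right (by rw [sq.lift_fst]; exact sqP) (sq.lift_snd _ _ _) sq
  refine ⟨U', p, h', d ≫ e, IsPullback.of_hasPullback h.left κ.left, ?_, ?_,
    repWith_comp (repWith_of_isPullback sqd hae) (repWith_of_isPullback sqe.flip hbe),
    repWith_comp (repWith_of_isPullback sqd has) (repWith_of_isPullback sqe.flip hbs)⟩
  · rw [Category.assoc, sq.lift_fst, pullback.lift_fst_assoc, Category.assoc]
  · rw [Category.assoc, sq.lift_snd, pullback.lift_snd_assoc]

end GrothLib.AlgSp
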