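import Groth.Prelude.Def_AlgSpMor5
import Groth.Agent.Lib.AlgSp.TrivLocus
import Groth.Agent.Lib.AlgSp.PointsUniv
import Groth.Agent.Lib.Misc6.LiftClosed
import Groth.Agent.Lib.SchDense.Basic
import Mathlib.AlgebraicGeometry.Morphisms.LocalFlatDescent
import Mathlib.RingTheory.Flat.TorsionFree

/-!
# Valuation ring points of separated spaces descend along dominating extensions

* `exists_prod_separated`: fibre products over a separated space are closed in fibre products over the base.
* `exists_section_of_dominating`: a section over the fraction field extending over a dominating valuation ring extends.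
-/

universe u

open CategoryTheory CategoryTheory.Limits AlgebraicGeometry

namespace GrothLib.AlgSp

open _root_.AlgSp

variable {S : Scheme.{u}} {P : Sp S} {T : Over S} {π : P ⟶ (yon S).obj T}

theorem exists_prod_separated (hπ : IsSeparatedMor π) {A B : Over S} {p : A ⟶ T} {q : B ⟶ T}
    (a : (yon S).obj A ⟶ P) (b : (yon S).obj B ⟶ P) (ha : a ≫ π = (yon S).map p) (hb : b ≫ π = (yon S).map q) :
    ∃ (Z : Over S) (c : Z ⟶ pullback p q), IsClosedImmersion c.left ∧
      IsPullback ((yon S).map (c ≫ pullback.fst p q)) ((yon S).map (c ≫ pullback.snd p q)) a b := by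
  let g : (yon S).obj (pullback p q) ⟶ pullback π π :=
    pullback.lift ((yon S).map (pullback.fst p q) ≫ a) ((yon S).map (pullback.snd p q) ≫ b) (by
      rw [Category.assoc, Category.assoc, ha, hb, ← Functor.map_comp, ← Functor.map_comp, pullback.condition])
  have hπ' : RepWith @IsClosedImmersion (pullback.diagonal π) := hπ
  obtain ⟨Z, fst, c, sq⟩ := exists_isPullback_of_representable hπ'.1 g
  refine ⟨Z, c, hπ'.2 g fst c sq, isPullback_of_yon ?_ fun R x y hxy => ?_⟩
  · have h1 := congrArg (fun q => q ≫ pullback.fst π π) sq.w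
    have h2 := congrArg (fun q => q ≫ pullback.snd π π) sq.w
    simp only [g, Category.assoc, pullback.diagonal_fst, pullback.diagonal_snd, pullback.lift_fst,
      pullback.lift_snd, Category.comp_id] at h1 h2
    rw [Functor.map_comp, Functor.map_comp, Category.assoc, Category.assoc, ← h1, ← h2]
  obtain ⟨x, rfl⟩ := (yon S).map_surjective x
  obtain ⟨y, rfl⟩ := (yon S).map_surjective y
  have hpq : x ≫ p = y ≫ q := (yon S).map_injective (by
    rw [Functor.map_comp, Functor.map_comp, ← ha, ← hb, ← Category.assoc, ← Category.assoc, hxy])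
  have hw : ((yon S).map x ≫ a) ≫ pullback.diagonal π = (yon S).map (pullback.lift x y hpq) ≫ g := by
    apply pullback.hom_ext
    · simp only [g, Category.assoc, pullback.diagonal_fst, pullback.lift_fst, Category.comp_id]
      rw [← Category.assoc, ← Functor.map_comp, pullback.lift_fst]
    · simp only [g, Category.assoc, pullback.diagonal_snd, pullback.lift_snd, Category.comp_id]
      rw [hxy, ← Category.assoc, ← Functor.map_comp, pullback.lift_snd]
  have hl : sq.lift _ _ hw ≫ (yon S).map c = (yon S).map (pullback.lift x y hpq) := sq.lift_snd _ _ _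
  refine ⟨sq.lift _ _ hw, ⟨?_, ?_⟩, ?_⟩
  · rw [Functor.map_comp, ← Category.assoc, hl, ← Functor.map_comp, pullback.lift_fst]
  · rw [Functor.map_comp, ← Category.assoc, hl, ← Functor.map_comp, pullback.lift_snd]
  · rintro w ⟨hw₁, hw₂⟩
    haveI : IsClosedImmersion c.left := hπ'.2 g fst c sq
    haveI : Mono c := (Over.forget S).mono_of_mono_map (inferInstanceAs (Mono c.left))
    obtain ⟨w, rfl⟩ := (yon S).map_surjective w
    obtain ⟨l, hl'⟩ := (yon S).map_surjective (sq.lift _ _ hw)
    rw [← hl'] at hl ⊢
    refine congrArg _ ((cancel_mono c).1 ((yon S).map_injective ?_))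
    rw [Functor.map_comp, Functor.map_comp, hl, ← Functor.map_comp]
    refine congrArg _ (pullback.hom_ext ?_ ?_)
    · exact (yon S).map_injective (by rw [pullback.lift_fst, Category.assoc, ← hw₁, Functor.map_comp])
    · exact (yon S).map_injective (by rw [pullback.lift_snd, Category.assoc, ← hw₂, Functor.map_comp])

/-- A map which factors through a closed immersion on a dense subscheme factors through it. -/
theorem exists_lift_of_dense {V W Z U : Over S} (z : Z ⟶ U) [IsClosedImmersion z.left] (j : V ⟶ W)
    [IsSchemeTheoreticallyDominant j.left] (q : W ⟶ U) (l : V ⟶ Z) (h : l ≫ z = j ≫ q) :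
    ∃ m : W ⟶ Z, m ≫ z = q := by
  haveI : IsClosedImmersion (pullback.snd z q).left :=
    MorphismProperty.of_isPullback (isPullback_left (IsPullback.of_hasPullback z q)) inferInstance
  haveI := GrothLib.SchDense.isIso_of_factor (pullback.snd z q).left j.left (pullback.lift l j h).left
    (by rw [← Over.comp_left, pullback.lift_snd])
  haveI : IsIso ((Over.forget S).map (pullback.snd z q)) := ‹IsIso (pullback.snd z q).left›
  haveI : IsIso (pullback.snd z q) := isIso_of_reflects_iso _ (Over.forget S)
  exact ⟨inv (pullback.snd z q) ≫ pullback.fst z q, by rw [Category.assoc, pullback.condition, IsIso.inv_hom_id_assoc]⟩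

theorem flat_of_generic_dominant {A K : Type u} [CommRing A] [IsDomain A] [ValuationRing A] [Field K] [Algebra A K]
    [IsFractionRing A K] {Z U : Scheme.{u}} [IsAffine Z] (f : Z ⟶ Spec (.of A)) (e : U ⟶ Z) [QuasiCompact e]
    [IsSchemeTheoreticallyDominant e] (g : U ⟶ Spec (.of K))
    (h : e ≫ f = g ≫ Spec.map (CommRingCat.ofHom (algebraMap A K))) : Flat f := by
  obtain ⟨φ, hφ⟩ : ∃ φ : CommRingCat.of A ⟶ Γ(Z, ⊤), Z.isoSpec.inv ≫ f = Spec.map φ :=
    ⟨Spec.preimage _, (Spec.map_preimage _).symm⟩
  have hf : f = Z.isoSpec.hom ≫ Spec.map φ := by rw [← hφ, Iso.hom_inv_id_assoc]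
  suffices φ.hom.Flat by
    haveI : Flat (Spec.map φ) := (HasRingHomProperty.Spec_iff (P := @Flat)).2 this
    rw [hf]; infer_instance
  let α : A →+* Γ(Z, ⊤) := φ.hom
  have hinj : Function.Injective e.appTop := e.app_injective ⊤
  have hunit : ∀ a : A, a ≠ 0 → IsUnit (e.appTop (α a)) := by
    intro a ha
    have he : (e ≫ f).appTop = (g ≫ Spec.map (CommRingCat.ofHom (algebraMap A K))).appTop := by rw [h]
    have h1 : f.appTop ((Scheme.ΓSpecIso (.of A)).inv a) = α a := by
      rw [hf]
      show (Z.isoSpec.hom.appTop) ((Spec.map φ).appTop ((Scheme.ΓSpecIso (.of A)).inv a)) = _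
      have := ConcreteCategory.congr_hom (Scheme.ΓSpecIso_inv_naturality φ) a
      erw [← this]
      exact ConcreteCategory.congr_hom (show (Scheme.ΓSpecIso Γ(Z, ⊤)).inv ≫ Z.isoSpec.hom.appTop = 𝟙 _ by
        rw [Scheme.isoSpec_hom, Scheme.toSpecΓ_appTop, Iso.inv_hom_id]) (φ a)
    rw [← h1]
    have := ConcreteCategory.congr_hom he ((Scheme.ΓSpecIso (.of A)).inv a)
    rw [Scheme.Hom.comp_appTop, Scheme.Hom.comp_appTop, CategoryTheory.comp_apply, CategoryTheory.comp_apply] at this
    rw [this]
    erw [← ConcreteCategory.congr_hom (Scheme.ΓSpecIso_inv_naturality (CommRingCat.ofHom (algebraMap A K))) a]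
    exact ((IsUnit.mk0 _ fun h0 => ha ((map_eq_zero_iff _ (IsFractionRing.injective A K)).1 h0)).map
      (Scheme.ΓSpecIso (.of K)).inv.hom).map g.appTop.hom
  algebraize [α]
  show Module.Flat A Γ(Z, ⊤)
  rw [Module.Flat.flat_iff_torsion_eq_bot_of_isBezout, eq_bot_iff]
  rintro m ⟨⟨a, ha⟩, hm⟩
  refine hinj ?_
  have h2 : e.appTop (α a) * e.appTop m = 0 := by
    have h3 : α a * m = 0 := (Algebra.smul_def a m).symm.trans hm
    rw [← map_mul, h3, map_zero]
  rw [map_zero]
  exact (hunit a (nonZeroDivisors.ne_zero ha)).mul_right_eq_zero.1 h2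

/-- Sections over the fraction field which extend over a dominating valuation ring extend. -/
theorem exists_section_of_dominating (hP : IsAlgSpace P) (hπ : IsSeparatedMor π) {A K : Type u} [CommRing A]
    [IsDomain A] [ValuationRing A] [Field K] [Algebra A K] [IsFractionRing A K]
    (eT : T.left ⟶ Spec (.of A)) [IsIso eT] {TK : Over S} (eK : TK.left ⟶ Spec (.of K)) [IsIso eK] (j : TK ⟶ T)
    (hj : j.left ≫ eT = eK ≫ Spec.map (CommRingCat.ofHom (algebraMap A K)))
    (k : (yon S).obj TK ⟶ P) (hk : k ≫ π = (yon S).map j)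
    {T' T'K : Over S} (φ : T' ⟶ T) (ψ : T'K ⟶ TK) (j' : T'K ⟶ T') [IsSchemeTheoreticallyDominant j'.left]
    [QuasiCompact j'.left]
    (hcomm : ψ ≫ j = j' ≫ φ) (t : ↥T'.left) (ht : eT (φ.left t) = IsLocalRing.closedPoint A)
    (l' : (yon S).obj T' ⟶ P) (hl' : l' ≫ π = (yon S).map φ) (hlk : (yon S).map j' ≫ l' = (yon S).map ψ ≫ k) :
    ∃ l : (yon S).obj T ⟶ P, (yon S).map j ≫ l = k ∧ l ≫ π = 𝟙 _ := by
  haveI : IsAffine T.left := .of_isIso eT
  haveI : IsAffine TK.left := .of_isIso eK
  haveI : QuasiCompact j.left := inferInstance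
  haveI : IsAffineHom j.left := isAffineHom_of_isAffine _
  obtain ⟨ι, U₀, r, hUa, hr, hcov, -⟩ := exists_affine_charts hP
  obtain ⟨i, u, hu⟩ := hcov (Points.ofPt l' t)
  let U := U₀ i
  let a : (yon S).obj U ⟶ P := r i
  haveI : IsAffine U.left := hUa i
  have ae : RepWith @Etale a := hr i
  obtain ⟨γ, hγ⟩ := (yon S).map_surjective (a ≫ π)
  -- the generic fibre
  obtain ⟨Uk, c, hc, sqk⟩ := exists_prod_separated hπ a k hγ.symm hk
  let d : Uk ⟶ U := c ≫ pullback.fst γ j
  let e : Uk ⟶ TK := c ≫ pullback.snd γ j
  have hde : d ≫ γ = e ≫ j := by simp only [d, e, Category.assoc, pullback.condition]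
  haveI : IsAffineHom (pullback.fst γ j).left :=
    MorphismProperty.of_isPullback (isPullback_left (IsPullback.of_hasPullback γ j)).flip ‹IsAffineHom j.left›
  haveI : QuasiCompact d.left := inferInstanceAs (QuasiCompact (c.left ≫ (pullback.fst γ j).left))
  -- its closure
  let Z : Over S := Over.mk (d.left.imageι ≫ U.hom)
  let z : Z ⟶ U := Over.homMk d.left.imageι rfl
  let ε : Uk ⟶ Z := Over.homMk d.left.toImage (by
    change d.left.toImage ≫ d.left.imageι ≫ U.hom = _
    rw [Scheme.Hom.toImage_imageι_assoc]; exact Over.w d)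
  have hεz : ε ≫ z = d := Over.OverMorphism.ext (Scheme.Hom.toImage_imageι _)
  haveI : IsClosedImmersion z.left := inferInstanceAs (IsClosedImmersion d.left.imageι)
  haveI : Mono z := (Over.forget S).mono_of_mono_map (inferInstanceAs (Mono z.left))
  haveI : IsAffine Z.left := isAffine_of_isAffineHom z.left
  haveI : IsSchemeTheoreticallyDominant ε.left := GrothLib.Misc6.isSchemeTheoreticallyDominant_toImage d.left
  haveI : QuasiCompact ε.left := inferInstanceAs (QuasiCompact d.left.toImage)
  let ζ : Z ⟶ T := z ≫ γ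
  haveI : Flat ζ.left := by
    haveI := flat_of_generic_dominant (A := A) (K := K) (ζ.left ≫ eT) ε.left (e.left ≫ eK) (by
      rw [Category.assoc, ← hj, ← Category.assoc, ← Category.assoc, ← Over.comp_left, ← Over.comp_left,
        show ε ≫ ζ = e ≫ j by rw [← hde, ← hεz, Category.assoc]])
    have : ζ.left = (ζ.left ≫ eT) ≫ inv eT := by rw [Category.assoc, IsIso.hom_inv_id, Category.comp_id]
    rw [this]; infer_instance
  haveI : IsSchemeTheoreticallyDominant j.left := by
    haveI : IsDominant (Spec.map (CommRingCat.ofHom (algebraMap A K))) :=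
      ⟨(PrimeSpectrum.denseRange_comap_iff_ker_le_nilRadical _).2 fun x hx => by
        rw [show x = 0 from IsFractionRing.injective A K (by simpa using hx)]; exact Ideal.zero_mem _⟩
    haveI : IsSchemeTheoreticallyDominant (Spec.map (CommRingCat.ofHom (algebraMap A K))) :=
      .of_isDominant _
    have : j.left = eK ≫ Spec.map (CommRingCat.ofHom (algebraMap A K)) ≫ inv eT := by
      rw [← Category.assoc, IsIso.eq_comp_inv, hj]
    rw [this]; infer_instance
  haveI : Mono j := by
    haveI : Mono (CommRingCat.ofHom (algebraMap A K)).op :=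
      haveI : Epi (CommRingCat.ofHom (algebraMap A K)) := IsLocalization.epi (nonZeroDivisors A) K
      inferInstance
    haveI : Mono (Spec.map (CommRingCat.ofHom (algebraMap A K))) :=
      inferInstanceAs (Mono (Scheme.Spec.map (CommRingCat.ofHom (algebraMap A K)).op))
    haveI : Mono j.left := by
      haveI : Mono (j.left ≫ eT) := by rw [hj]; infer_instance
      exact mono_of_mono j.left eT
    exact (Over.forget S).mono_of_mono_map (inferInstanceAs (Mono j.left))
  -- over the generic point the closure lies over the section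
  let η : Uk ⟶ pullback ζ j := pullback.lift ε e (by rw [← hde, ← hεz, Category.assoc])
  have hgen : (yon S).map (pullback.fst ζ j ≫ z) ≫ a = (yon S).map (pullback.snd ζ j) ≫ k := by
    haveI : IsSchemeTheoreticallyDominant η.left := by
      haveI : Flat j.left := by
        haveI : Flat (Spec.map (CommRingCat.ofHom (algebraMap A K))) := (HasRingHomProperty.Spec_iff (P := @Flat)).2
          (RingHom.flat_algebraMap_iff.2 (IsLocalization.flat K (nonZeroDivisors A)))
        have : j.left = eK ≫ Spec.map (CommRingCat.ofHom (algebraMap A K)) ≫ inv eT := by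
          rw [← Category.assoc, IsIso.eq_comp_inv, hj]
        rw [this]; infer_instance
      haveI : Flat (pullback.fst ζ j).left :=
        MorphismProperty.of_isPullback (isPullback_left (IsPullback.of_hasPullback ζ j)).flip ‹Flat j.left›
      have sq : IsPullback (𝟙 Uk) η ε (pullback.fst ζ j) := by
        refine ⟨⟨by rw [Category.id_comp, pullback.lift_fst]⟩,
          ⟨PullbackCone.IsLimit.mk _ (fun s => s.fst) (fun s => Category.comp_id _) (fun s => ?_)
            fun s m h₁ _ => by rw [← h₁]; exact (Category.comp_id m).symm⟩⟩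
        apply pullback.hom_ext
        · rw [Category.assoc, pullback.lift_fst, s.condition]
        · rw [← cancel_mono j, Category.assoc, Category.assoc, Category.assoc, ← pullback.condition,
            ← Category.assoc s.snd, ← s.condition, pullback.lift_fst_assoc, Category.assoc]
      exact IsSchemeTheoreticallyDominant.of_isPullback (isPullback_left sq)
    refine TrivLocus.eq_of_agree hπ η _ _ ?_ ?_
    · rw [Category.assoc, Category.assoc, ← hγ, hk, ← Functor.map_comp, ← Functor.map_comp, Category.assoc,
        pullback.condition]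
    · rw [← Category.assoc, ← Category.assoc, ← Functor.map_comp, ← Functor.map_comp, pullback.lift_fst_assoc,
        pullback.lift_snd, hεz, sqk.w]
  -- test maps from generic points into the closure
  have hfac : ∀ {W : Over S} (w : W ⟶ T) (q : W ⟶ U), Flat w.left →
      (yon S).map (pullback.snd j w ≫ q) ≫ a = (yon S).map (pullback.fst j w) ≫ k → ∃ m : W ⟶ Z, m ≫ z = q := by
    intro W w q hw hq
    haveI := hw
    haveI : IsSchemeTheoreticallyDominant (pullback.snd j w).left :=
      IsSchemeTheoreticallyDominant.of_isPullback (isPullback_left (IsPullback.of_hasPullback j w))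
    obtain ⟨u₀, hu₀⟩ := (yon S).map_surjective (sqk.lift _ _ hq)
    refine exists_lift_of_dense z (pullback.snd j w) q (u₀ ≫ ε) ((yon S).map_injective ?_)
    rw [Category.assoc, hεz, Functor.map_comp, hu₀, sqk.lift_fst]
  -- the closure over itself
  have hsame : (yon S).map (pullback.fst ζ ζ ≫ z) ≫ a = (yon S).map (pullback.snd ζ ζ ≫ z) ≫ a := by
    let ω := pullback.fst ζ ζ ≫ ζ
    haveI : Flat (pullback.fst ζ ζ).left :=
      MorphismProperty.of_isPullback (isPullback_left (IsPullback.of_hasPullback ζ ζ)).flip ‹Flat ζ.left›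
    haveI : Flat ω.left := inferInstanceAs (Flat ((pullback.fst ζ ζ).left ≫ ζ.left))
    haveI : IsSchemeTheoreticallyDominant (pullback.snd j ω).left :=
      IsSchemeTheoreticallyDominant.of_isPullback (isPullback_left (IsPullback.of_hasPullback j ω))
    refine TrivLocus.eq_of_agree hπ (pullback.snd j ω) _ _ ?_ ?_
    · rw [Category.assoc, Category.assoc, ← hγ, ← Functor.map_comp, ← Functor.map_comp, Category.assoc,
        Category.assoc, pullback.condition]
    · have h₁ : (pullback.snd j ω ≫ pullback.fst ζ ζ) ≫ ζ = pullback.fst j ω ≫ j := by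
        rw [pullback.condition, Category.assoc]
      have h₂ : (pullback.snd j ω ≫ pullback.snd ζ ζ) ≫ ζ = pullback.fst j ω ≫ j := by
        rw [pullback.condition, Category.assoc, ← pullback.condition (f := ζ) (g := ζ)]
      have e1 := congrArg ((yon S).map (pullback.lift _ _ h₁) ≫ ·) hgen
      have e2 := congrArg ((yon S).map (pullback.lift _ _ h₂) ≫ ·) hgen
      simp only [← Category.assoc, ← Functor.map_comp, pullback.lift_fst, pullback.lift_snd] at e1 e2
      simp only [← Category.assoc, ← Functor.map_comp]
      exact e1.trans e2.symm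
  haveI : Surjective ζ.left := by
    obtain ⟨R, p', q', sqR⟩ := exists_isPullback_of_representable ae.1 l'
    obtain ⟨p', rfl⟩ := (yon S).map_surjective p'
    haveI : Etale q'.left := ae.2 _ _ _ sqR
    obtain ⟨v, -, hv⟩ := (ofPt_eq_ofPt_iff sqR u t).1 hu
    haveI := IsSchemeTheoreticallyDominant.of_isPullback (isPullback_left (IsPullback.of_hasPullback j' q'))
    obtain ⟨u₀, hu₀⟩ := (yon S).map_surjective (sqk.lift ((yon S).map (pullback.snd j' q' ≫ p'))
      ((yon S).map (pullback.fst j' q' ≫ ψ)) (by
        rw [Functor.map_comp, Category.assoc, sqR.w, ← Category.assoc, ← Functor.map_comp, ← pullback.condition,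
          Functor.map_comp, Category.assoc, hlk, Functor.map_comp, Category.assoc]))
    obtain ⟨m', hm'⟩ := exists_lift_of_dense z (pullback.snd j' q') p' (u₀ ≫ ε) ((yon S).map_injective (by
      rw [Category.assoc, hεz, Functor.map_comp, hu₀, sqk.lift_fst]))
    have heq : m' ≫ ζ = q' ≫ φ := (yon S).map_injective (by
      rw [show m' ≫ ζ = p' ≫ γ by rw [← hm', Category.assoc], Functor.map_comp, hγ, reassoc_of% sqR.w, hl',
        Functor.map_comp])
    have hcl : eT (ζ.left (m'.left v)) = IsLocalRing.closedPoint A := by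
      rw [← ht, ← hv]
      exact congrArg (fun f : R ⟶ T => eT (f.left v)) heq
    refine ⟨fun y => ?_⟩
    have hs : y ⤳ ζ.left (m'.left v) := by
      have : eT y ⤳ eT (ζ.left (m'.left v)) := hcl ▸ IsLocalRing.specializes_closedPoint (eT y)
      exact (Scheme.Hom.homeomorph eT).isInducing.specializes_iff.1 this
    obtain ⟨z', -, hz'⟩ := Flat.generalizingMap ζ.left hs
    exact ⟨z', hz'⟩
  -- etale
  haveI : Etale ζ.left := by
    obtain ⟨W, p, q, sq⟩ := exists_isPullback_of_representable ae.1 ((yon S).map z ≫ a)
    obtain ⟨p, rfl⟩ := (yon S).map_surjective p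
    haveI hq : Etale q.left := ae.2 _ _ _ sq
    haveI : Flat (q ≫ ζ).left := inferInstanceAs (Flat (q.left ≫ ζ.left))
    obtain ⟨m, hm⟩ := hfac (q ≫ ζ) p inferInstance (by
      have h₁ : (pullback.snd j (q ≫ ζ) ≫ q) ≫ ζ = pullback.fst j (q ≫ ζ) ≫ j := by
        rw [pullback.condition, Category.assoc]
      have e1 := congrArg ((yon S).map (pullback.lift _ _ h₁) ≫ ·) hgen
      simp only [← Category.assoc, ← Functor.map_comp, pullback.lift_fst, pullback.lift_snd] at e1
      rw [← e1, Functor.map_comp, Category.assoc, sq.w, Functor.map_comp, Functor.map_comp]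
      simp only [Category.assoc])
    have sq' : IsPullback m q ζ ζ := by
      refine isPullback_of_isPullback_yon (isPullback_of_yon ?_ fun R x y hxy => ?_)
      · rw [← Functor.map_comp, ← Functor.map_comp]
        apply congrArg
        rw [show m ≫ ζ = p ≫ γ by rw [← hm, Category.assoc]]
        apply (yon S).map_injective
        rw [Functor.map_comp, Functor.map_comp, Functor.map_comp, hγ, reassoc_of% sq.w]
      · obtain ⟨x, rfl⟩ := (yon S).map_surjective x
        obtain ⟨y, rfl⟩ := (yon S).map_surjective y
        rw [← Functor.map_comp, ← Functor.map_comp] at hxy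
        have e1 := congrArg ((yon S).map (pullback.lift x y ((yon S).map_injective hxy)) ≫ ·) hsame
        simp only [← Category.assoc, ← Functor.map_comp, pullback.lift_fst, pullback.lift_snd] at e1
        have hxy' : ((yon S).map (x ≫ z)) ≫ a = (yon S).map y ≫ (yon S).map z ≫ a := by
          rw [e1, Functor.map_comp, Category.assoc]
        refine ⟨sq.lift _ _ hxy', ⟨?_, sq.lift_snd _ _ _⟩, fun w ⟨hw₁, hw₂⟩ => sq.hom_ext ?_ ?_⟩
        · haveI := (yon S).map_mono z
          rw [← cancel_mono ((yon S).map z), Category.assoc, ← Functor.map_comp, hm, sq.lift_fst, Functor.map_comp]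
        · rw [sq.lift_fst, ← hm, Functor.map_comp, ← Category.assoc, hw₁, Functor.map_comp]
        · rw [sq.lift_snd, hw₂]
    exact MorphismProperty.of_isPullback_of_descendsAlong (P := @Etale)
      (Q := @Surjective ⊓ @Flat ⊓ @QuasiCompact) (isPullback_left sq').flip
      ⟨⟨‹Surjective ζ.left›, ‹Flat ζ.left›⟩, inferInstance⟩ hq
  -- descend
  haveI : Sheaf.IsLocallySurjective ((yon S).map ζ) := TrivLocus.isLocallySurjective_of_etale ζ
  haveI := IsRegularEpiCategory.regularEpiOfEpi ((yon S).map ζ)
  obtain ⟨l, hl⟩ := IsRegularEpi.exists_of_isKernelPair ((yon S).map ζ)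
    (isPullback_yon (IsPullback.of_hasPullback ζ ζ)) ((yon S).map z ≫ a)
    (by rw [← Category.assoc, ← Category.assoc, ← Functor.map_comp, ← Functor.map_comp]; exact hsame)
  refine ⟨l, ?_, ?_⟩
  · haveI : Etale (pullback.snd ζ j).left :=
      MorphismProperty.of_isPullback (isPullback_left (IsPullback.of_hasPullback ζ j)) ‹Etale ζ.left›
    haveI : Surjective (pullback.snd ζ j).left :=
      MorphismProperty.of_isPullback (isPullback_left (IsPullback.of_hasPullback ζ j)) ‹Surjective ζ.left›
    haveI : Sheaf.IsLocallySurjective ((yon S).map (pullback.snd ζ j)) := TrivLocus.isLocallySurjective_of_etale _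
    rw [← cancel_epi ((yon S).map (pullback.snd ζ j)), ← hgen, ← Category.assoc, ← Functor.map_comp,
      ← pullback.condition, Functor.map_comp, Category.assoc, hl, Functor.map_comp, Category.assoc]
  · rw [← cancel_epi ((yon S).map ζ), ← Category.assoc, hl, Category.assoc, ← hγ, Category.comp_id,
      ← Functor.map_comp]

end GrothLib.AlgSp
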