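import Groth.Agent.Lib.AlgSp.AffineMor
import Groth.Agent.Lib.AlgSp.Space
import Mathlib.AlgebraicGeometry.AffineScheme
import Mathlib.AlgebraicGeometry.AffineTransitionLimit
import Mathlib.CategoryTheory.Filtered.Final
import Mathlib.CategoryTheory.Limits.Constructions.Over.Connected

/-!
# Cofiltered limits of algebraic spaces along affine morphisms

* `exists_affine_chart_limit`: the pullback of the limit along an affine scheme over a stage is the
  limit of the affine pullbacks;
* `isAffineMor_limit_π`, `isAlgSpace_limit`;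
* `isReduced_of_isLimit`, `exists_appTop_π_eq`: affine limits in `Over S` on global functions.
-/

universe u

open CategoryTheory CategoryTheory.Limits AlgebraicGeometry

namespace GrothLib.AlgSp

open _root_.AlgSp

variable {S : Scheme.{u}} {I : Type u} [SmallCategory I] [IsCofiltered I]
  {D : I ⥤ Sp S} (hDa : ∀ (i j : I) (φ : i ⟶ j), IsAffineMor (D.map φ))

set_option backward.isDefEq.respectTransparency false

/-- A cofiltered system of affine schemes over `S` has a limit, which is affine. -/
theorem exists_isLimit_of_isAffine {J : Type u} [SmallCategory J] [IsCofiltered J] (E : J ⥤ Over S)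
    (h : ∀ j, IsAffine (E.obj j).left) : ∃ cW : Cone E, Nonempty (IsLimit cW) ∧ IsAffine cW.pt.left := by
  haveI := IsCofiltered.isConnected J
  let E' : J ⥤ AffineScheme.{u} :=
    ObjectProperty.lift _ (E ⋙ Over.forget S) fun j => essImage_Spec.2 (h j)
  let c' : Cone (E ⋙ Over.forget S) := AffineScheme.forgetToScheme.mapCone (limit.cone E')
  let hc' : IsLimit c' := isLimitOfPreserves AffineScheme.forgetToScheme (limit.isLimit E')
  refine ⟨liftLimit hc', ⟨liftedLimitIsLimit hc'⟩, ?_⟩
  have e := (Cone.forget _).mapIso (liftedLimitMapsToOriginal (K := E) (F := Over.forget S) hc')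
  haveI : IsAffine ((Cone.forget _).obj c') := essImage_Spec.1 (limit E').property
  exact IsAffine.of_isIso e.hom

/-- Functions on an affine limit come from a stage. -/
theorem exists_appTop_π_eq {J : Type u} [SmallCategory J] [IsCofiltered J] {E : J ⥤ Over S} {c : Cone E}
    (hc : IsLimit c) (h : ∀ j, IsAffine (E.obj j).left) (s : Γ(c.pt.left, ⊤)) :
    ∃ (j : J) (t : Γ((E.obj j).left, ⊤)), (c.π.app j).left.appTop t = s := by
  haveI := IsCofiltered.isConnected J
  haveI : ∀ j, IsAffine ((E ⋙ Over.forget S).obj j) := h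
  exact exists_appTop_π_eq_of_isAffine_of_isLimit _ _ (isLimitOfPreserves (Over.forget S) hc) s

/-- An affine cofiltered limit of reduced affine schemes is reduced. -/
theorem isReduced_of_isLimit {J : Type u} [SmallCategory J] [IsCofiltered J] {E : J ⥤ Over S} {c : Cone E}
    (hc : IsLimit c) (h : ∀ j, IsAffine (E.obj j).left) (hr : ∀ j, IsReduced (E.obj j).left)
    [IsAffine c.pt.left] : IsReduced c.pt.left := by
  haveI := IsCofiltered.isConnected J
  haveI : ∀ j, IsAffine ((E ⋙ Over.forget S).obj j) := h
  let hc' := isLimitOfPreserves (Over.forget S) hc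
  haveI : _root_.IsReduced Γ(c.pt.left, ⊤) := ⟨fun s hs => by
    obtain ⟨n, hn⟩ := hs
    obtain ⟨i, t, rfl⟩ := exists_appTop_π_eq_of_isAffine_of_isLimit _ _ hc' s
    obtain ⟨j, f, hj⟩ := exists_appTop_map_eq_zero_of_isAffine_of_isLimit _ _ hc' i (t ^ n)
      ((map_pow _ t n).trans hn)
    rw [map_pow] at hj
    haveI : IsReduced ((E ⋙ Over.forget S).obj j) := hr j
    rw [show ((Over.forget S).mapCone c).π.app i = ((Over.forget S).mapCone c).π.app j ≫
      (E ⋙ Over.forget S).map f from (((Over.forget S).mapCone c).w f).symm]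
    rw [Scheme.Hom.comp_appTop, CommRingCat.comp_apply, (IsReduced.eq_zero _ ⟨n, hj⟩), map_zero]⟩
  exact isReduced_of_isAffine_isReduced c.pt.left

include hDa in
/-- The pullback of a cofiltered limit with affine transition maps along an affine scheme over a stage. -/
theorem exists_affine_chart_limit {c : Cone D} (hc : IsLimit c) (i : I) {Z : Over S} (hZ : IsAffine Z.left)
    (g : (yon S).obj Z ⟶ D.obj i) :
    ∃ (E : CategoryTheory.Over i ⥤ Over S) (cW : Cone E) (f : ∀ j, (yon S).obj (E.obj j) ⟶ D.obj j.left)
      (w : ∀ j, E.obj j ⟶ Z) (fst : (yon S).obj cW.pt ⟶ c.pt) (snd : cW.pt ⟶ Z),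
      Nonempty (IsLimit cW) ∧ IsAffine cW.pt.left ∧
      (∀ j, IsAffine (E.obj j).left ∧ IsPullback (f j) ((yon S).map (w j)) (D.map j.hom) g) ∧
      (∀ ⦃j j'⦄ (m : j ⟶ j'), (yon S).map (E.map m) ≫ f j' = f j ≫ D.map m.left ∧ E.map m ≫ w j' = w j) ∧
      (∀ j, fst ≫ c.π.app j.left = (yon S).map (cW.π.app j) ≫ f j ∧ cW.π.app j ≫ w j = snd) ∧
      IsPullback fst ((yon S).map snd) (c.π.app i) g := by
  choose W w f sq aff using fun j : CategoryTheory.Over i => hDa _ _ j.hom hZ g
  have hm : ∀ {j j' : CategoryTheory.Over i} (m : j ⟶ j'), ∃ n : W j ⟶ W j',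
      (yon S).map n ≫ f j' = f j ≫ D.map m.left ∧ n ≫ w j' = w j := by
    intro j j' m
    obtain ⟨n, hn⟩ := (yon S).map_surjective ((sq j').lift (f j ≫ D.map m.left) ((yon S).map (w j))
      (by rw [Category.assoc, ← D.map_comp, CategoryTheory.Over.w, (sq j).w]))
    refine ⟨n, by rw [hn, (sq j').lift_fst], (yon S).map_injective ?_⟩
    rw [Functor.map_comp, hn, (sq j').lift_snd]
  choose n hn₁ hn₂ using @hm
  have hext : ∀ {T : Over S} (j : CategoryTheory.Over i) (a b : T ⟶ W j),
      (yon S).map a ≫ f j = (yon S).map b ≫ f j → a ≫ w j = b ≫ w j → a = b :=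
    fun j a b h₁ h₂ => (yon S).map_injective ((sq j).hom_ext h₁
      (by rw [← Functor.map_comp, ← Functor.map_comp, h₂]))
  let E : CategoryTheory.Over i ⥤ Over S :=
    { obj := W
      map := fun m => n m
      map_id := fun j => hext j _ _ (by rw [hn₁]; simp) (by rw [hn₂, Category.id_comp])
      map_comp := fun {j j' j''} m m' => hext j'' _ _
        (by rw [hn₁, Functor.map_comp, Category.assoc, hn₁, reassoc_of% (hn₁ m)]; simp)
        (by rw [hn₂, Category.assoc, hn₂, hn₂]) }
  obtain ⟨cW, ⟨hcW⟩, hWa⟩ := exists_isLimit_of_isAffine E aff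
  -- the map to the limit
  let F : CategoryTheory.Over i ⥤ I := CategoryTheory.Over.forget i
  let cF : Cone (F ⋙ D) :=
    { pt := (yon S).obj cW.pt
      π := { app := fun j => (yon S).map (cW.π.app j) ≫ f j
             naturality := fun j j' m => by
               have := (Category.assoc ((yon S).map (cW.π.app j)) (f j) (D.map m.left)).trans
                 ((congrArg ((yon S).map (cW.π.app j) ≫ ·) (hn₁ m).symm).trans
                   ((Category.assoc _ _ _).symm.trans (congrArg (· ≫ f j') ((yon S).map_comp _ _).symm)))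
               dsimp [F]
               rw [Category.id_comp, this]
               exact congrArg (fun t => (yon S).map t ≫ f j') (cW.w m).symm } }
  let hcF : IsLimit (c.whisker F) := (Functor.Initial.isLimitWhiskerEquiv F c).symm hc
  let i₀ : CategoryTheory.Over i := CategoryTheory.Over.mk (𝟙 i)
  refine ⟨E, cW, f, w, hcF.lift cF, cW.π.app i₀ ≫ w i₀, ⟨hcW⟩, hWa, fun j => ⟨aff j, sq j⟩,
    fun j j' m => ⟨hn₁ m, hn₂ m⟩, ?_, ?_⟩
  · intro j
    refine ⟨hcF.fac cF j, ?_⟩
    have := cW.w (CategoryTheory.Over.homMk j.hom : j ⟶ i₀)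
    rw [← this, Category.assoc]
    exact congrArg (cW.π.app j ≫ ·) (hn₂ _).symm
  · have hsnd : ∀ j, cW.π.app j ≫ w j = cW.π.app i₀ ≫ w i₀ := fun j => by
      rw [← cW.w (CategoryTheory.Over.homMk j.hom : j ⟶ i₀), Category.assoc]
      exact congrArg (cW.π.app j ≫ ·) (hn₂ _).symm
    have hfst : ∀ j, hcF.lift cF ≫ c.π.app j.left = (yon S).map (cW.π.app j) ≫ f j := fun j => hcF.fac cF j
    let cY : IsLimit ((yon S).mapCone cW) := isLimitOfPreserves (yon S) hcW
    have hw : hcF.lift cF ≫ c.π.app i = (yon S).map (cW.π.app i₀ ≫ w i₀) ≫ g := by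
      have := hfst i₀
      rw [Functor.map_comp, Category.assoc, ← (sq i₀).w]
      simpa [i₀, ← reassoc_of% this] using this
    refine ⟨⟨hw⟩, ⟨PullbackCone.IsLimit.mk _ (fun s => cY.lift
      { pt := s.pt
        π := { app := fun j => (sq j).lift (s.fst ≫ c.π.app j.left) s.snd
                 (by rw [Category.assoc, c.w]; exact s.condition)
               naturality := fun j j' m => by
                 dsimp
                 rw [Category.id_comp]
                 apply (sq j').hom_ext
                 · refine ((sq j').lift_fst _ _ _).trans (Eq.symm ?_)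
                   rw [Category.assoc, hn₁ m, IsPullback.lift_fst_assoc, Category.assoc, c.w]
                 · refine ((sq j').lift_snd _ _ _).trans (Eq.symm ?_)
                   rw [Category.assoc, ← Functor.map_comp, hn₂ m, (sq j).lift_snd] } }) ?_ ?_ ?_⟩⟩
    · intro s
      refine hcF.hom_ext fun j => ?_
      rw [Category.assoc]
      erw [hfst j, cY.fac_assoc]
      exact (sq j).lift_fst _ _ _
    · intro s
      rw [Functor.map_comp]
      erw [cY.fac_assoc]
      exact (sq i₀).lift_snd _ _ _
    · intro s m h₁ h₂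
      refine cY.hom_ext fun j => ?_
      erw [cY.fac]
      apply (sq j).hom_ext
      · rw [(sq j).lift_fst, Category.assoc]
        erw [← hfst j]
        rw [← h₁, Category.assoc]
      · rw [(sq j).lift_snd, Category.assoc, ← h₂]
        exact congrArg (m ≫ ·) (((yon S).map_comp _ _).symm.trans (congrArg (yon S).map (hsnd j)))

include hDa in
/-- The projections of a cofiltered limit with affine transition maps are affine. -/
theorem isAffineMor_limit_π {c : Cone D} (hc : IsLimit c) (i : I) : IsAffineMor (c.π.app i) := by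
  intro Z hZ g
  obtain ⟨E, cW, f, w, fst, snd, -, hWa, -, -, -, sq⟩ := exists_affine_chart_limit hDa hc i hZ g
  exact ⟨cW.pt, snd, fst, sq, hWa⟩

include hDa in
/-- A cofiltered limit of algebraic spaces with affine transition maps is an algebraic space. -/
theorem isAlgSpace_limit (hD : ∀ i, IsAlgSpace (D.obj i)) {c : Cone D} (hc : IsLimit c) : IsAlgSpace c.pt :=
  have i : I := IsCofiltered.nonempty.some
  isAlgSpace_of_representable (hD i) (isAffineMor_iff.1 (isAffineMor_limit_π hDa hc i)).1

end GrothLib.AlgSp
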