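import Groth.Agent.Lib.AlgSp.LimitDesc
import Groth.Agent.Lib.AlgSp.DiagChart
import Groth.Agent.Lib.AlgSp.FlatMono
import Groth.Agent.S9938

/-!
# Descending properties of the diagonal to a stage of a limit

* `isQuasiCompactMor_of_qc_qs`: maps from quasi-compact to quasi-separated spaces are quasi-compact;
* `descend_mono`, `descend_univInjective`, `descend_isIso`: monomorphisms, universally injective morphisms
  and isomorphisms descend to a stage.
-/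

universe u

open CategoryTheory CategoryTheory.Limits AlgebraicGeometry

namespace GrothLib.AlgSp

open _root_.AlgSp

variable {S : Scheme.{u}}

set_option backward.isDefEq.respectTransparency false

/-- A map from a quasi-compact space to a quasi-separated one is quasi-compact. -/
theorem isQuasiCompactMor_of_qc_qs [QuasiSeparatedSpace ↥S] {X Y : Sp S} (hY : IsAlgSpace Y)
    (hXqc : IsQuasiCompactSp X) (hYqs : IsQuasiSeparatedSp Y) (f : X ⟶ Y) : IsQuasiCompactMor f := by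
  refine isQuasiCompactMor_of_affine fun T hT g P fst snd sq => ?_
  obtain ⟨A, pA, pAe, pAs, hA⟩ := hXqc
  haveI := hA
  haveI := hT
  have hq := repWith_quasiCompact_chart hY hYqs g
  obtain ⟨R, r, s, sqR⟩ := exists_isPullback_of_representable hq.1 (pA ≫ f)
  haveI : QuasiCompact s.left := hq.2 _ _ _ sqR
  haveI : CompactSpace ↥R.left := QuasiCompact.compactSpace_of_compactSpace s.left
  let m : (yon S).obj R ⟶ P := sq.lift ((yon S).map s ≫ pA) r (by rw [Category.assoc]; exact sqR.w.symm)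
  have sqm : IsPullback ((yon S).map s) m pA fst :=
    IsPullback.of_bot (v₂₁ := snd) (v₂₂ := f) (by rw [sq.lift_snd]; exact sqR.flip)
      (sq.lift_fst _ _ _).symm sq
  exact ⟨R, m, repWith_of_isPullback sqm pAe, repWith_of_isPullback sqm pAs, inferInstance⟩

/-- The diagonal of a map out of a quasi-separated space is quasi-compact. -/
theorem isQuasiSeparatedMor_of_qs {X Y : Sp S} (hX : IsQuasiSeparatedSp X) (f : X ⟶ Y) :
    IsQuasiSeparatedMor f :=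
  repWith_diagonal f hX

/-- Fibre products of a base change are the base change of the fibre product. -/
theorem isPullback_map_fibreProduct {X₀ Y₀ W Z : Sp S} {f₀ : X₀ ⟶ Y₀} {g : W ⟶ Z} {pW : W ⟶ X₀} {pZ : Z ⟶ Y₀}
    (hW : IsPullback pW g f₀ pZ) :
    IsPullback (pullback.map g g f₀ f₀ pW pW pZ hW.w.symm hW.w.symm) (pullback.fst g g ≫ g)
      (pullback.fst f₀ f₀ ≫ f₀) pZ := by
  refine isPullback_of_yon (by simp [hW.w]) fun T a b hab => ?_
  let a₁ := hW.lift (a ≫ pullback.fst f₀ f₀) b (by rw [Category.assoc, hab])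
  let a₂ := hW.lift (a ≫ pullback.snd f₀ f₀) b (by rw [Category.assoc, ← pullback.condition, hab])
  have ha : a₁ ≫ g = a₂ ≫ g := by simp [a₁, a₂]
  refine ⟨pullback.lift a₁ a₂ ha, ⟨?_, by simp [a₁]⟩, fun k hk => ?_⟩
  · apply pullback.hom_ext <;> simp [a₁, a₂]
  · obtain ⟨k₁, k₂⟩ := hk
    have h₁ := congrArg (· ≫ pullback.fst f₀ f₀) k₁
    have h₂ := congrArg (· ≫ pullback.snd f₀ f₀) k₁
    simp only [pullback.map, Category.assoc, pullback.lift_fst, pullback.lift_snd] at h₁ h₂ k₂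
    apply pullback.hom_ext
    · rw [pullback.lift_fst]
      apply hW.hom_ext
      · rw [hW.lift_fst, Category.assoc, h₁]
      · rw [hW.lift_snd, Category.assoc, k₂]
    · rw [pullback.lift_snd]
      apply hW.hom_ext
      · rw [hW.lift_fst, Category.assoc, h₂]
      · rw [hW.lift_snd, Category.assoc, ← pullback.condition, k₂]

/-- Fibre products of quasi-compact quasi-separated spaces are quasi-compact and quasi-separated. -/
theorem qc_qs_fibreProduct [QuasiSeparatedSpace ↥S] {X₀ Y₀ : Sp S} (hX₀ : IsAlgSpace X₀) (hY₀ : IsAlgSpace Y₀)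
    (f₀ : X₀ ⟶ Y₀) (hXqc : IsQuasiCompactSp X₀) (hXqs : IsQuasiSeparatedSp X₀) (hYqs : IsQuasiSeparatedSp Y₀) :
    IsQuasiCompactSp (pullback f₀ f₀) ∧ IsQuasiSeparatedSp (pullback f₀ f₀) :=
  ⟨isQuasiCompactMor_of_qc_qs hY₀ hXqc hYqs f₀ hX₀ hXqc f₀ _ _ (IsPullback.of_hasPullback f₀ f₀),
    isQuasiSeparatedSp_of_mor (f := pullback.snd f₀ f₀)
      (repWith_of_isPullback (isPullback_diagonal_of_isPullback (IsPullback.of_hasPullback f₀ f₀))
        (isQuasiSeparatedMor_of_qs hXqs f₀)) hXqs⟩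

variable {I : Type u} [SmallCategory I] [IsCofiltered I] {D : I ⥤ Sp S}

/-- The hypotheses of the descent statements for the diagonal. -/
theorem exists_stage_diagonal [QuasiSeparatedSpace ↥S] (hD : ∀ i, IsAlgSpace (D.obj i))
    (hDa : ∀ (i j : I) (φ : i ⟶ j), IsAffineMor (D.map φ)) {c : Cone D} (hc : IsLimit c) {i₀ : I}
    {X₀ Y₀ : Sp S} (hX₀ : IsAlgSpace X₀) (hY₀ : IsAlgSpace Y₀) (f₀ : X₀ ⟶ Y₀) (b₀ : Y₀ ⟶ D.obj i₀)
    (hXqc : IsQuasiCompactSp X₀) (hXqs : IsQuasiSeparatedSp X₀) (hYqs : IsQuasiSeparatedSp Y₀)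
    {X Y : Sp S} {f : X ⟶ Y} {pY : Y ⟶ Y₀} {qY : Y ⟶ c.pt}
    (hY : IsPullback pY qY b₀ (c.π.app i₀)) {pX : X ⟶ X₀} (hX : IsPullback pX f f₀ pY)
    (hf₀ : LocP @LocallyOfFiniteType f₀)
    (Q : MorphismProperty Scheme.{u}) [Q.IsStableUnderBaseChange] (H : LimDesc.AffineCase Q)
    (hQ : ∀ ⦃U V : Over S⦄ (a : (yon S).obj U ⟶ X) (b : (yon S).obj V ⟶ pullback f f) (h : U ⟶ V),
      RepWith @Etale a → RepWith @Etale b → RepWith @Surjective b →
      a ≫ pullback.diagonal f = (yon S).map h ≫ b →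
      (∀ v, Points.ofPt b v ∈ Set.range (Points.map (pullback.diagonal f)) → v ∈ Set.range h.left) → Q h.left) :
    ∃ (i : I) (φ : i ⟶ i₀), ∀ (Xi Yi : Sp S) (fi : Xi ⟶ Yi) (pYi : Yi ⟶ Y₀) (qYi : Yi ⟶ D.obj i)
      (_ : IsPullback pYi qYi b₀ (D.map φ)) (pXi : Xi ⟶ X₀) (_ : IsPullback pXi fi f₀ pYi),
      ∃ (U V : Over S) (a : (yon S).obj U ⟶ Xi) (b : (yon S).obj V ⟶ pullback fi fi) (h : U ⟶ V),
        RepWith @Etale a ∧ RepWith @Surjective a ∧ RepWith @Etale b ∧ RepWith @Surjective b ∧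
        a ≫ pullback.diagonal fi = (yon S).map h ≫ b ∧ Q h.left := by
  have hP₀ : IsAlgSpace (pullback f₀ f₀) := isAlgSpace_pullback' hY₀ hX₀ hX₀ f₀ f₀
  obtain ⟨hPqc, hPqs⟩ := qc_qs_fibreProduct hX₀ hY₀ f₀ hXqc hXqs hYqs
  obtain ⟨i, φ, hi⟩ := exists_stage_chart hDa hc hX₀ hP₀ (pullback.diagonal f₀) (pullback.fst f₀ f₀ ≫ f₀ ≫ b₀)
    hXqc hPqc hPqs (qY := (pullback.fst f f ≫ f) ≫ qY)
    (by rw [← Category.assoc]; exact (isPullback_map_fibreProduct hX).paste_vert hY) (isPullback_diagonal_of_isPullback hX)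
    (locP_lfp_diagonal hX₀ hY₀ hf₀) Q H hQ
  refine ⟨i, φ, fun Xi Yi fi pYi qYi hYi pXi hXi => ?_⟩
  exact hi Xi (pullback fi fi) (pullback.diagonal fi) _ ((pullback.fst fi fi ≫ fi) ≫ qYi)
    (by rw [← Category.assoc]; exact (isPullback_map_fibreProduct hXi).paste_vert hYi) pXi (isPullback_diagonal_of_isPullback hXi)

end GrothLib.AlgSp

namespace GrothLib.AlgSp

open _root_.AlgSp GrothLib.LimDesc

variable {S : Scheme.{u}} {I : Type u} [SmallCategory I] [IsCofiltered I] {D : I ⥤ Sp S}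

set_option backward.isDefEq.respectTransparency false

theorem affineCase_inf {P Q : MorphismProperty Scheme.{u}} [P.IsStableUnderBaseChange]
    [Q.IsStableUnderBaseChange] (hP : AffineCase P) (hQ : AffineCase Q) : AffineCase (P ⊓ Q) := by
  intro J _ _ E _ c hc j₀ _ U _ a _ X f q hX hf
  obtain ⟨j, hj⟩ := hP E c hc j₀ a hX hf.1
  obtain ⟨k, hk⟩ := hQ E c hc j₀ a hX hf.2
  obtain ⟨l, u, v, -⟩ := IsCofilteredOrEmpty.cone_objs j k
  exact ⟨l, snd_of_hom E a P u hj, snd_of_hom E a Q v hk⟩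

omit [IsCofiltered I] in
/-- Later stages are base changes of earlier ones. -/
theorem exists_isPullback_stage {i₀ : I} {X₀ Y₀ : Sp S} {f₀ : X₀ ⟶ Y₀} {b₀ : Y₀ ⟶ D.obj i₀} {i k : I}
    (φ : i ⟶ i₀) (ψ : k ⟶ i) {Xk Yk : Sp S} {fk : Xk ⟶ Yk} {pYk : Yk ⟶ Y₀} {qYk : Yk ⟶ D.obj k}
    (hYk : IsPullback pYk qYk b₀ (D.map (ψ ≫ φ))) {pXk : Xk ⟶ X₀} (hXk : IsPullback pXk fk f₀ pYk) :
    ∃ (Xi Yi : Sp S) (fi : Xi ⟶ Yi) (pYi : Yi ⟶ Y₀) (qYi : Yi ⟶ D.obj i) (pXi : Xi ⟶ X₀)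
      (rX : Xk ⟶ Xi) (rY : Yk ⟶ Yi),
      IsPullback pYi qYi b₀ (D.map φ) ∧ IsPullback pXi fi f₀ pYi ∧ IsPullback rX fk fi rY := by
  let rY : Yk ⟶ pullback b₀ (D.map φ) :=
    pullback.lift pYk (qYk ≫ D.map ψ) (by rw [Category.assoc, ← D.map_comp, hYk.w])
  let rX : Xk ⟶ pullback f₀ (pullback.fst b₀ (D.map φ)) :=
    pullback.lift pXk (fk ≫ rY) (by simp [rY, hXk.w])
  refine ⟨_, _, _, _, _, _, rX, rY, IsPullback.of_hasPullback _ _, IsPullback.of_hasPullback _ _, ?_⟩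
  refine IsPullback.of_right ?_ (by simp [rX]) (IsPullback.of_hasPullback _ _)
  rw [pullback.lift_fst, pullback.lift_fst]
  exact hXk

section
variable [QuasiSeparatedSpace ↥S] (hD : ∀ i, IsAlgSpace (D.obj i))
  (hDa : ∀ (i j : I) (φ : i ⟶ j), IsAffineMor (D.map φ)) {c : Cone D} (hc : IsLimit c) {i₀ : I}
  {X₀ Y₀ : Sp S} (hX₀ : IsAlgSpace X₀) (hY₀ : IsAlgSpace Y₀) (f₀ : X₀ ⟶ Y₀) (b₀ : Y₀ ⟶ D.obj i₀)
  (hXqc : IsQuasiCompactSp X₀) (hXqs : IsQuasiSeparatedSp X₀) (hYqs : IsQuasiSeparatedSp Y₀)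
  {X Y : Sp S} {f : X ⟶ Y} {pY : Y ⟶ Y₀} {qY : Y ⟶ c.pt}
  (hY : IsPullback pY qY b₀ (c.π.app i₀)) {pX : X ⟶ X₀} (hX : IsPullback pX f f₀ pY)

include hD hDa hc hX₀ hY₀ hXqc hXqs hYqs hY hX in
/-- Monomorphisms of finite type descend to a stage. -/
theorem descend_mono [Mono f] (hf₀ : LocP @LocallyOfFiniteType f₀) :
    ∃ (i : I) (φ : i ⟶ i₀), ∀ (Xi Yi : Sp S) (fi : Xi ⟶ Yi) (pYi : Yi ⟶ Y₀) (qYi : Yi ⟶ D.obj i)
      (_ : IsPullback pYi qYi b₀ (D.map φ)) (pXi : Xi ⟶ X₀) (_ : IsPullback pXi fi f₀ pYi), Mono fi := by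
  haveI : IsIso (pullback.diagonal f) := (pullback.isIso_diagonal_iff f).2 ‹_›
  have hYs : IsAlgSpace Y := isAlgSpace_pullback (hD i₀).diag hY₀ (isAlgSpace_limit hDa hD hc) hY
  have hXs : IsAlgSpace X := isAlgSpace_pullback hY₀.diag hX₀ hYs hX
  have hl : LocP @Etale (pullback.diagonal f) :=
    EtLocal.etale.locP_of_repWith (isAlgSpace_pullback' hYs hXs hXs f f) (repWith_iso _)
  have hs : Function.Surjective (Points.map (pullback.diagonal f)) := fun y =>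
    ⟨Points.map (inv (pullback.diagonal f)) y, by rw [← Points.map_comp, IsIso.inv_hom_id, Points.map_id]⟩
  obtain ⟨i, φ, hi⟩ := exists_stage_diagonal hD hDa hc hX₀ hY₀ f₀ b₀ hXqc hXqs hYqs hY hX hf₀
    (@Surjective ⊓ @Etale) (affineCase_inf affineCase_surjective LimSmooth.affineCase_etale)
    (fun U V a b h ae be bs comm hv => ⟨⟨fun v => hv v (hs _)⟩, hl a b h ae be comm⟩)
  refine ⟨i, φ, fun Xi Yi fi pYi qYi hYi pXi hXi => ?_⟩
  obtain ⟨U, V, a, b, h, ae, as, be, bs, comm, hh⟩ := hi Xi Yi fi pYi qYi hYi pXi hXi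
  have hYi' : IsAlgSpace Yi := isAlgSpace_pullback (hD i₀).diag hY₀ (hD i) hYi
  have hXi' : IsAlgSpace Xi := isAlgSpace_pullback hY₀.diag hX₀ hYi' hXi
  haveI : Etale h.left := hh.2
  have hflat : LocP @Flat (pullback.diagonal fi) :=
    EtLocal.flat.locP_of_chart ae as be comm inferInstance
  have hsi : IsSurjectiveMor (pullback.diagonal fi) := fun y => by
    obtain ⟨v, rfl⟩ := surjective_ofPt_of_repWith bs y
    obtain ⟨u, rfl⟩ := hh.1.surj v
    exact ⟨Points.ofPt a u, by rw [Points.map_ofPt, comm, ofPt_map_comp]⟩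
  have hqc : IsQuasiCompactMor (pullback.diagonal fi) := isQuasiCompactMor_of_repWith
    (repWith_of_isPullback (isPullback_diagonal_of_isPullback hXi) (isQuasiSeparatedMor_of_qs hXqs f₀))
  haveI := isIso_of_flat_mono hXi' (isAlgSpace_pullback' hYi' hXi' hXi' fi fi) hqc hflat hsi
  exact (pullback.isIso_diagonal_iff fi).1 inferInstance

include hD hDa hc hX₀ hY₀ hXqc hXqs hYqs hY hX in
/-- Universally injective morphisms of finite type descend to a stage. -/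
theorem descend_univInjective (hf : IsUnivInjectiveMor f) (hf₀ : LocP @LocallyOfFiniteType f₀) :
    ∃ (i : I) (φ : i ⟶ i₀), ∀ (Xi Yi : Sp S) (fi : Xi ⟶ Yi) (pYi : Yi ⟶ Y₀) (qYi : Yi ⟶ D.obj i)
      (_ : IsPullback pYi qYi b₀ (D.map φ)) (pXi : Xi ⟶ X₀) (_ : IsPullback pXi fi f₀ pYi),
      IsUnivInjectiveMor fi := by
  have hYs : IsAlgSpace Y := isAlgSpace_pullback (hD i₀).diag hY₀ (isAlgSpace_limit hDa hD hc) hY
  have hXs : IsAlgSpace X := isAlgSpace_pullback hY₀.diag hX₀ hYs hX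
  have hs : IsSurjectiveMor (pullback.diagonal f) :=
    (Groth.Agent.S9938.result (X := ⟨X, hXs⟩) (Y := ⟨Y, hYs⟩) (InducedCategory.homMk f)).2.1 hf
  obtain ⟨i, φ, hi⟩ := exists_stage_diagonal hD hDa hc hX₀ hY₀ f₀ b₀ hXqc hXqs hYqs hY hX hf₀
    @Surjective affineCase_surjective (fun U V a b h ae be bs comm hv => ⟨fun v => hv v (hs _)⟩)
  refine ⟨i, φ, fun Xi Yi fi pYi qYi hYi pXi hXi => ?_⟩
  obtain ⟨U, V, a, b, h, ae, as, be, bs, comm, hh⟩ := hi Xi Yi fi pYi qYi hYi pXi hXi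
  have hYi' : IsAlgSpace Yi := isAlgSpace_pullback (hD i₀).diag hY₀ (hD i) hYi
  refine (Groth.Agent.S9938.result (X := ⟨Xi, isAlgSpace_pullback hY₀.diag hX₀ hYi' hXi⟩)
    (Y := ⟨Yi, hYi'⟩) (InducedCategory.homMk fi)).2.2 fun y => ?_
  obtain ⟨v, rfl⟩ := surjective_ofPt_of_repWith bs y
  obtain ⟨u, rfl⟩ := hh.surj v
  exact ⟨Points.ofPt a u, (Points.map_ofPt _ _ _).trans
    ((congrArg (fun k => Points.ofPt k u) comm).trans (ofPt_map_comp _ _ _))⟩

include hD hDa hc hX₀ hY₀ hXqc hXqs hYqs hY hX in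
/-- Isomorphisms descend to a stage. -/
theorem descend_isIso [IsIso f] (hYqc : IsQuasiCompactSp Y₀) (hf₀ : LocP @LocallyOfFinitePresentation f₀) :
    ∃ (i : I) (φ : i ⟶ i₀), ∀ (Xi Yi : Sp S) (fi : Xi ⟶ Yi) (pYi : Yi ⟶ Y₀) (qYi : Yi ⟶ D.obj i)
      (_ : IsPullback pYi qYi b₀ (D.map φ)) (pXi : Xi ⟶ X₀) (_ : IsPullback pXi fi f₀ pYi), IsIso fi := by
  have hft : LocP @LocallyOfFiniteType f₀ :=
    GrothLib.AlgSp.locP_mono (P := @LocallyOfFinitePresentation) (fun _ _ g (_ : LocallyOfFinitePresentation g) => (inferInstance : LocallyOfFiniteType g)) hf₀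
  obtain ⟨j, ψ, hj⟩ := descend_mono hD hDa hc hX₀ hY₀ f₀ b₀ hXqc hXqs hYqs hY hX hft
  have hYs : IsAlgSpace Y := isAlgSpace_pullback (hD i₀).diag hY₀ (isAlgSpace_limit hDa hD hc) hY
  have hl : LocP @Etale f := EtLocal.etale.locP_of_repWith hYs (repWith_iso _)
  have hs : Function.Surjective (Points.map f) := fun y =>
    ⟨Points.map (inv f) y, by rw [← Points.map_comp, IsIso.inv_hom_id, Points.map_id]⟩
  obtain ⟨i, φ, hi⟩ := exists_stage_chart hDa hc hX₀ hY₀ f₀ b₀ hXqc hYqc hYqs hY hX hf₀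
    (@Surjective ⊓ @Etale) (affineCase_inf affineCase_surjective LimSmooth.affineCase_etale)
    (fun U V a b h ae be bs comm hv => ⟨⟨fun v => hv v (hs _)⟩, hl a b h ae be comm⟩)
  obtain ⟨k, u, v, -⟩ := IsCofilteredOrEmpty.cone_objs (CategoryTheory.Over.mk φ) (CategoryTheory.Over.mk ψ)
  refine ⟨k.left, k.hom, fun Xk Yk fk pYk qYk hYk pXk hXk => ?_⟩
  obtain ⟨Xi, Yi, fi, pYi, qYi, pXi, rX, rY, hYi, hXi, sq⟩ :=
    exists_isPullback_stage φ u.left (by rw [show u.left ≫ φ = k.hom from CategoryTheory.Over.w u]; exact hYk) hXk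
  obtain ⟨Xj, Yj, fj, pYj, qYj, pXj, rX', rY', hYj, hXj, sq'⟩ :=
    exists_isPullback_stage ψ v.left (by rw [show v.left ≫ ψ = k.hom from CategoryTheory.Over.w v]; exact hYk) hXk
  haveI := hj Xj Yj fj pYj qYj hYj pXj hXj
  haveI : Mono fk := sq'.mono_snd_of_mono ‹_›
  obtain ⟨U, V, a, b, h, ae, as, be, bs, comm, hh⟩ := hi Xi Yi fi pYi qYi hYi pXi hXi
  have hYi' : IsAlgSpace Yi := isAlgSpace_pullback (hD i₀).diag hY₀ (hD i) hYi
  have hXi' : IsAlgSpace Xi := isAlgSpace_pullback hY₀.diag hX₀ hYi' hXi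
  have hYk' : IsAlgSpace Yk := isAlgSpace_pullback (hD i₀).diag hY₀ (hD _) hYk
  have hXk' : IsAlgSpace Xk := isAlgSpace_pullback hY₀.diag hX₀ hYk' hXk
  haveI : Etale h.left := hh.2
  have hflat : LocP @Flat fk := EtLocal.flat.locP_of_isPullback hXi' hYi' hYk' sq
    (EtLocal.flat.locP_of_chart ae as be comm inferInstance)
  have hsi : IsSurjectiveMor fk := fun y => by
    obtain ⟨v, hv⟩ := surjective_ofPt_of_repWith bs (Points.map rY y)
    obtain ⟨w, rfl⟩ := hh.1.surj v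
    obtain ⟨x, -, hx⟩ := exists_of_isPullback sq (x := Points.ofPt a w) (y := y)
      (by rw [Points.map_ofPt, comm, ofPt_map_comp, hv])
    exact ⟨x, hx⟩
  have hqc : IsQuasiCompactMor fk := by
    intro Z Z' hZ hZc g fst snd sqZ
    exact isQuasiCompactMor_of_qc_qs hY₀ hXqc hYqs f₀ hZ hZc (g ≫ pYk) (fst ≫ pXk) snd (sqZ.paste_horiz hXk)
  exact isIso_of_flat_mono hXk' hYk' hqc hflat hsi

end

end GrothLib.AlgSp
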