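import Groth.Agent.Lib.AlgSp.EtaleModel
import Groth.Agent.Lib.AlgSp.LimitDescDiag
import Groth.Agent.Lib.AlgSp.QuasiAffineDescent

/-!
# If the limit is affine, then a stage is affine

* `overS`: the product of a scheme with the base;
* `exists_iso_yon_of_model`: a sheaf over a model of an étale cover with affine pullback is a scheme;
* `exists_stage_affine`: a stage of a limit with affine limit is affine.
-/

universe u

open CategoryTheory CategoryTheory.Limits AlgebraicGeometry

namespace GrothLib.AlgSp

open _root_.AlgSp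

variable {S : Scheme.{u}}

set_option backward.isDefEq.respectTransparency false

/-- The product of a scheme with the base, over the base. -/
noncomputable abbrev overS (S X : Scheme.{u}) : Over S :=
  Over.mk (pullback.snd (terminal.from X) (terminal.from S))

/-- A morphism of schemes gives a morphism to the product with the base. -/
noncomputable abbrev toOverS {X : Scheme.{u}} {Z : Over S} (h : Z.left ⟶ X) : Z ⟶ overS S X :=
  Over.homMk (pullback.lift h Z.hom (Subsingleton.elim _ _)) (pullback.lift_snd _ _ _)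

/-- The projection from the product with the base. -/
noncomputable abbrev prS (S X : Scheme.{u}) : (overS S X).left ⟶ X := pullback.fst _ _

theorem toOverS_ext {X : Scheme.{u}} {Z : Over S} {a b : Z ⟶ overS S X}
    (h : a.left ≫ prS S X = b.left ≫ prS S X) : a = b :=
  Over.OverMorphism.ext (pullback.hom_ext h ((Over.w a).trans (Over.w b).symm))

/-- The base change of a morphism of schemes to the base. -/
noncomputable abbrev mapOverS {X Y : Scheme.{u}} (π : X ⟶ Y) : overS S X ⟶ overS S Y :=
  toOverS (prS S X ≫ π)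

theorem isPullback_mapOverS {X Y : Scheme.{u}} (π : X ⟶ Y) :
    IsPullback (prS S X) (mapOverS (S := S) π).left π (prS S Y) := by
  refine IsPullback.of_bot (v₂₁ := pullback.snd _ _) (v₂₂ := terminal.from Y) ?_ (pullback.lift_fst _ _ _).symm
    (IsPullback.of_hasPullback (terminal.from Y) (terminal.from S))
  rw [show (mapOverS (S := S) π).left ≫ pullback.snd _ _ = pullback.snd _ _ from pullback.lift_snd _ _ _,
    terminal.comp_from]
  exact IsPullback.of_hasPullback _ _

/-- Pullback squares along the base change to the base. -/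
theorem isPullback_toOverS {X Y : Scheme.{u}} {π : X ⟶ Y} {W T : Over S} {ψ : W ⟶ T} {υ : W.left ⟶ X}
    {τ : T.left ⟶ Y} (sq : IsPullback υ ψ.left π τ) :
    IsPullback (toOverS υ) ψ (mapOverS π) (toOverS τ) := by
  have w : toOverS υ ≫ mapOverS π = ψ ≫ toOverS τ := toOverS_ext (by simp [sq.w])
  refine IsPullback.of_map (Over.forget S) w ?_
  refine IsPullback.of_right ?_ (congrArg (fun k => k.left) w) (isPullback_mapOverS π)
  simpa using sq

/-- A sheaf with an affine base change along a model of an etale cover is a scheme. -/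
theorem exists_iso_yon_of_model [QuasiSeparatedSpace ↥S] {G : Sp S} {U₀ T₀ : Scheme.{u}} [IsAffine U₀] [IsAffine T₀]
    (π₀ : U₀ ⟶ T₀) [Etale π₀] [Surjective π₀] (a₀ : G ⟶ (yon S).obj (overS S T₀)) {W : Over S} [IsAffine W.left]
    (pr : (yon S).obj W ⟶ G) (w : W ⟶ overS S U₀)
    (sq : IsPullback pr ((yon S).map w) a₀ ((yon S).map (mapOverS π₀))) :
    ∃ V : Over S, Nonempty ((yon S).obj V ≅ G) := by
  let π := mapOverS (S := S) π₀
  haveI : IsAffineHom π₀ := isAffineHom_of_isAffine _
  haveI : IsAffineHom π.left := MorphismProperty.of_isPullback (isPullback_mapOverS π₀) ‹IsAffineHom π₀›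
  haveI : Etale π.left := MorphismProperty.of_isPullback (isPullback_mapOverS π₀) ‹Etale π₀›
  haveI : Surjective π.left := MorphismProperty.of_isPullback (isPullback_mapOverS π₀) ‹Surjective π₀›
  have hrep : Representable a₀ := by
    refine representable_of_forall_affine fun Z hZ g => ?_
    haveI := hZ
    obtain ⟨g, rfl⟩ := (yon S).map_surjective g
    let Z' := pullback π g
    have sqZ : IsPullback (pullback.fst π g) (pullback.snd π g) π g := IsPullback.of_hasPullback π g
    have sqZl := sqZ.map (Over.forget S)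
    haveI : IsAffineHom (pullback.snd π g).left := MorphismProperty.of_isPullback sqZl ‹IsAffineHom π.left›
    haveI : Etale (pullback.snd π g).left := MorphismProperty.of_isPullback sqZl ‹Etale π.left›
    haveI : Surjective (pullback.snd π g).left := MorphismProperty.of_isPullback sqZl ‹Surjective π.left›
    haveI : IsAffine Z'.left := isAffine_of_isAffineHom (pullback.snd π g).left
    -- the quasi-affine pullback
    let P := pullback w (pullback.fst π g)
    have sqP := (IsPullback.of_hasPullback w (pullback.fst π g)).map (Over.forget S)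
    haveI : QuasiSeparated (prS S U₀) := by
      haveI : QuasiSeparated (terminal.from S) := (quasiSeparatedSpace_iff_quasiSeparated _).1 ‹_›
      exact MorphismProperty.pullback_fst _ _ inferInstance
    have sqd := pullback_map_diagonal_isPullback w.left (pullback.fst π g).left (prS S U₀)
    let m := pullback.map w.left (pullback.fst π g).left (w.left ≫ prS S U₀) ((pullback.fst π g).left ≫ prS S U₀)
      (𝟙 _) (𝟙 _) (prS S U₀) (Category.id_comp _).symm (Category.id_comp _).symm
    haveI : IsImmersion m := MorphismProperty.of_isPullback sqd inferInstance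
    haveI : QuasiCompact m := MorphismProperty.of_isPullback sqd inferInstance
    haveI : IsAffine (pullback (w.left ≫ prS S U₀) ((pullback.fst π g).left ≫ prS S U₀)) := inferInstance
    haveI : CompactSpace ↥(pullback w.left (pullback.fst π g).left) := QuasiCompact.compactSpace_of_compactSpace m
    haveI : (pullback w.left (pullback.fst π g).left).IsQuasiAffine := .of_isImmersion m
    let eP : P.left ≅ pullback w.left (pullback.fst π g).left := sqP.isoPullback
    haveI : CompactSpace ↥P.left := (Scheme.homeoOfIso eP.symm).compactSpace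
    haveI : P.left.IsQuasiAffine := .of_isImmersion eP.hom
    -- descent
    have sqG := IsPullback.of_hasPullback a₀ ((yon S).map g)
    have big : IsPullback ((yon S).map (pullback.fst w (pullback.fst π g)) ≫ pr)
        ((yon S).map (pullback.snd w (pullback.fst π g))) a₀ ((yon S).map (pullback.fst π g) ≫ (yon S).map π) :=
      (isPullback_yon (IsPullback.of_hasPullback w (pullback.fst π g))).paste_horiz sq
    have hcomm : (yon S).map (pullback.fst π g) ≫ (yon S).map π = (yon S).map (pullback.snd π g) ≫ (yon S).map g := by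
      rw [← Functor.map_comp, ← Functor.map_comp, pullback.condition]
    rw [hcomm] at big
    let l := sqG.lift ((yon S).map (pullback.fst w (pullback.fst π g)) ≫ pr)
      ((yon S).map (pullback.snd w (pullback.fst π g)) ≫ (yon S).map (pullback.snd π g))
      (by rw [Category.assoc]; exact big.w.trans (Category.assoc _ _ _).symm)
    have sqG' : IsPullback l ((yon S).map (pullback.snd w (pullback.fst π g))) (pullback.snd a₀ ((yon S).map g))
        ((yon S).map (pullback.snd π g)) :=
      IsPullback.of_right (by rw [sqG.lift_fst]; exact big) (sqG.lift_snd _ _ _) sqG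
    obtain ⟨V, -, ⟨eV⟩⟩ := exists_iso_yon_of_isPullback_quasiAffine _ _ l _ sqG'
    refine ⟨V, (yon S).preimage (eV.hom ≫ pullback.snd a₀ ((yon S).map g)), eV.hom ≫ pullback.fst _ _, ?_⟩
    refine sqG.of_iso eV.symm (Iso.refl _) (Iso.refl _) (Iso.refl _) ?_ ?_ ?_ ?_ <;> simp
  obtain ⟨V, fst, snd, sqV⟩ := exists_isPullback_of_representable hrep (𝟙 _)
  haveI : IsIso fst :=
    MorphismProperty.of_isPullback (P := MorphismProperty.isomorphisms _) sqV.flip (IsIso.id _)
  exact ⟨V, ⟨asIso fst⟩⟩

section
variable [QuasiSeparatedSpace ↥S] {I : Type u} [SmallCategory I] [IsCofiltered I] {D : I ⥤ Sp S}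

/-- **If the limit is affine, then a stage is affine.** -/
theorem exists_stage_affine (hD : ∀ i, IsAlgSpace (D.obj i))
    (hDa : ∀ (i j : I) (φ : i ⟶ j), IsAffineMor (D.map φ))
    (hqc : ∀ i, IsQuasiCompactSp (D.obj i)) (hqs : ∀ i, IsQuasiSeparatedSp (D.obj i))
    {c : Cone D} (hc : IsLimit c) {T : Over S} [IsAffine T.left] (e : (yon S).obj T ≅ c.pt) :
    ∃ (i : I) (T' : Over S), IsAffine T'.left ∧ Nonempty ((yon S).obj T' ≅ D.obj i) := by
  haveI := IsCofiltered.isConnected I
  obtain ⟨i₁⟩ := (IsCofiltered.nonempty : Nonempty I)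
  obtain ⟨U₁, a, hU₁, ae, as⟩ := exists_affine_atlas_of_qc (hqc i₁)
  obtain ⟨E, cW, f, w, fst, snd, ⟨hcW⟩, hWa, hE, hEm, hEπ, sqW⟩ := exists_affine_chart_limit hDa hc i₁ hU₁ a
  haveI := hWa
  have sqk : ∀ k, IsPullback fst ((yon S).map (cW.π.app k)) (c.π.app k.left) (f k) := fun k => by
    refine IsPullback.of_bot ?_ (hEπ k).1 (hE k).2
    rw [← Functor.map_comp, (hEπ k).2, show c.π.app k.left ≫ D.map k.hom = c.π.app i₁ from c.w _]
    exact sqW
  obtain ⟨ψ, hψ⟩ := (yon S).map_surjective (fst ≫ e.inv)
  have hψe : (yon S).map ψ ≫ e.hom = fst := by rw [hψ, Category.assoc, Iso.inv_hom_id, Category.comp_id]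
  haveI : Etale ψ.left := (repWith_yon_map_iff _ ψ).1
    (hψ ▸ repWith_comp (repWith_of_isPullback sqW.flip ae) (repWith_iso e.inv))
  haveI : Surjective ψ.left := (repWith_yon_map_iff _ ψ).1
    (hψ ▸ repWith_comp (repWith_of_isPullback sqW.flip as) (repWith_iso e.inv))
  obtain ⟨T₀, U₀, π₀, τ, υ, hT₀, hU₀, hlfp, hπe, hπs, sq₀⟩ := exists_model_etale_surjective ψ.left
  haveI := hT₀
  haveI := hU₀
  haveI := hlfp
  haveI := hπe
  haveI := hπs
  -- the map from a stage to the model
  haveI : CategoryTheory.IsConnected (CategoryTheory.Over i₁) := IsCofiltered.isConnected _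
  let E' : CategoryTheory.Over i₁ ⥤ Scheme.{u} := E ⋙ Over.forget S
  haveI : ∀ j, IsAffine (E'.obj j) := fun j => (hE j).1
  haveI : ∀ {j k : CategoryTheory.Over i₁} (φ : j ⟶ k), IsAffineHom (E'.map φ) := fun φ => isAffineHom_of_isAffine _
  haveI : LocallyOfFinitePresentation (terminal.from U₀) := by
    rw [show terminal.from U₀ = π₀ ≫ terminal.from T₀ from Subsingleton.elim _ _]
    infer_instance
  let tS : E' ⟶ (Functor.const _).obj (⊤_ Scheme.{u}) :=
    { app := fun j => terminal.from _
      naturality := fun _ _ _ => terminalIsTerminal.hom_ext _ _ }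
  have hcW' := isLimitOfPreserves (Over.forget S) hcW
  obtain ⟨k, gk, hgk, -⟩ := Scheme.exists_π_app_comp_eq_of_locallyOfFinitePresentation E' tS
    (terminal.from U₀) _ hcW' υ (by ext j; exact terminalIsTerminal.hom_ext _ _)
  let Wk : Over S := E.obj k
  let gk' : Wk.left ⟶ U₀ := gk
  have hgk' : (cW.π.app k).left ≫ gk' = υ := hgk
  let hk : Wk.left ⟶ T₀ := gk' ≫ π₀
  -- the relation at the stage
  have hfe : RepWith @Etale (f k) := repWith_of_isPullback (hE k).2.flip ae
  have hfs : RepWith @Surjective (f k) := repWith_of_isPullback (hE k).2.flip as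
  obtain ⟨R, r₁, r₂, sqR⟩ := exists_isPullback_of_representable hfe.1 (f k)
  obtain ⟨r₁, rfl⟩ := (yon S).map_surjective r₁
  haveI : IsAffine Wk.left := (hE k).1
  haveI : QuasiCompact r₂.left := (repWith_quasiCompact_chart (hD k.left) (hqs k.left) (f k)).2 _ _ _ sqR
  haveI : CompactSpace ↥R.left := QuasiCompact.compactSpace_of_compactSpace r₂.left
  obtain ⟨Z, ez, hZ, hze, hzs⟩ := exists_affine_cover_etale R
  obtain ⟨E₂, cZ, f₂, w₂, fst₂, snd₂, ⟨hcZ⟩, -, hE₂, hEm₂, hEπ₂, sqZ⟩ :=
    exists_affine_chart_limit hDa hc k.left hZ ((yon S).map (ez ≫ r₂) ≫ f k)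
  have hlim : snd₂.left ≫ (ez ≫ r₁).left ≫ hk = snd₂.left ≫ (ez ≫ r₂).left ≫ hk := by
    have h1 : fst₂ ≫ c.π.app k.left = ((yon S).map (snd₂ ≫ ez ≫ r₁)) ≫ f k := by
      rw [sqZ.w]
      simp only [Functor.map_comp, Category.assoc]
      rw [sqR.w]
    have h2 : fst₂ ≫ c.π.app k.left = ((yon S).map (snd₂ ≫ ez ≫ r₂)) ≫ f k := by
      rw [sqZ.w]; simp
    obtain ⟨P, hP⟩ := (yon S).map_surjective ((sqk k).lift fst₂ _ h1)
    obtain ⟨Q, hQ⟩ := (yon S).map_surjective ((sqk k).lift fst₂ _ h2)
    have hPQ : P ≫ ψ = Q ≫ ψ := (yon S).map_injective (by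
      rw [← cancel_mono e.hom, Functor.map_comp, Functor.map_comp, Category.assoc, Category.assoc, hψe, hP, hQ,
        (sqk k).lift_fst, (sqk k).lift_fst])
    have hP2 : P ≫ cW.π.app k = snd₂ ≫ ez ≫ r₁ := (yon S).map_injective (by
      rw [Functor.map_comp, hP, (sqk k).lift_snd])
    have hQ2 : Q ≫ cW.π.app k = snd₂ ≫ ez ≫ r₂ := (yon S).map_injective (by
      rw [Functor.map_comp, hQ, (sqk k).lift_snd])
    have hπτ : (cW.π.app k).left ≫ hk = ψ.left ≫ τ := by rw [← sq₀.w, ← hgk', Category.assoc]
    calc snd₂.left ≫ (ez ≫ r₁).left ≫ hk = (P ≫ cW.π.app k).left ≫ hk := by rw [hP2]; simp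
      _ = (P ≫ ψ).left ≫ τ := by rw [Over.comp_left, Over.comp_left, Category.assoc, hπτ, Category.assoc]
      _ = (Q ≫ ψ).left ≫ τ := by rw [hPQ]
      _ = (Q ≫ cW.π.app k).left ≫ hk := by rw [Over.comp_left, Over.comp_left, Category.assoc, Category.assoc, hπτ]
      _ = _ := by rw [hQ2]; simp
  haveI : CategoryTheory.IsConnected (CategoryTheory.Over k.left) := IsCofiltered.isConnected _
  let E₂' : CategoryTheory.Over k.left ⥤ Scheme.{u} := E₂ ⋙ Over.forget S
  haveI : ∀ j, IsAffine (E₂'.obj j) := fun j => (hE₂ j).1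
  haveI : ∀ {j l : CategoryTheory.Over k.left} (φ : j ⟶ l), IsAffineHom (E₂'.map φ) := fun φ => isAffineHom_of_isAffine _
  let tS₂ : E₂' ⟶ (Functor.const _).obj (⊤_ Scheme.{u}) :=
    { app := fun j => terminal.from _
      naturality := fun _ _ _ => terminalIsTerminal.hom_ext _ _ }
  let top₂ : CategoryTheory.Over k.left := CategoryTheory.Over.mk (𝟙 k.left)
  obtain ⟨l, φl, hl⟩ := Scheme.exists_hom_comp_eq_comp_of_locallyOfFiniteType E₂' tS₂ (terminal.from T₀) _
    (isLimitOfPreserves (Over.forget S) hcZ) (i := top₂)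
    ((w₂ top₂).left ≫ (ez ≫ r₁).left ≫ hk) ((w₂ top₂).left ≫ (ez ≫ r₂).left ≫ hk)
    (terminalIsTerminal.hom_ext _ _) (terminalIsTerminal.hom_ext _ _) (by
      show (cZ.π.app top₂).left ≫ _ = (cZ.π.app top₂).left ≫ _
      have e0 : (cZ.π.app top₂).left ≫ (w₂ top₂).left = snd₂.left := congrArg (fun q => q.left) (hEπ₂ top₂).2
      rw [reassoc_of% e0, reassoc_of% e0]
      exact hlim)
  have hl' : (w₂ l).left ≫ (ez ≫ r₁).left ≫ hk = (w₂ l).left ≫ (ez ≫ r₂).left ≫ hk := by
    have e2 : (E₂.map φl).left ≫ (w₂ top₂).left = (w₂ l).left := by rw [← Over.comp_left, (hEm₂ φl).2]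
    rw [← e2, Category.assoc, Category.assoc]
    exact hl
  -- the map from the stage `l` to the model
  let lk : CategoryTheory.Over i₁ := CategoryTheory.Over.mk (l.hom ≫ k.hom)
  let m : lk ⟶ k := CategoryTheory.Over.homMk l.hom
  let b : (yon S).obj (E.obj lk) ⟶ D.obj l.left := f lk
  have hbe : RepWith @Etale b := repWith_of_isPullback (hE lk).2.flip ae
  have hbs : RepWith @Surjective b := repWith_of_isPullback (hE lk).2.flip as
  haveI : Sheaf.IsLocallySurjective b := chart_isLocallySurjective hbe hbs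
  haveI : Epi b := Sheaf.epi_of_isLocallySurjective b
  let hb : E.obj lk ⟶ overS S T₀ := toOverS ((E.map m).left ≫ hk)
  have hbm : (yon S).map (E.map m) ≫ f k = b ≫ D.map l.hom := (hEm m).1
  have sqb : IsPullback b ((yon S).map (E.map m)) (D.map l.hom) (f k) := by
    refine IsPullback.of_bot ?_ hbm.symm (hE k).2
    rw [← Functor.map_comp, (hEm m).2, ← D.map_comp]
    exact (hE lk).2
  have hker : pullback.fst b b ≫ (yon S).map hb = pullback.snd b b ≫ (yon S).map hb := by
    have sql := (hE₂ l).2
    have h1 : f₂ l ≫ D.map l.hom = (yon S).map (w₂ l ≫ ez ≫ r₁) ≫ f k := by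
      rw [sql.w]; simp only [Functor.map_comp, Category.assoc]; rw [sqR.w]
    have h2 : f₂ l ≫ D.map l.hom = (yon S).map (w₂ l ≫ ez ≫ r₂) ≫ f k := by
      rw [sql.w]; simp
    let A := sqb.lift (f₂ l) _ h1
    let B := sqb.lift (f₂ l) _ h2
    let M : (yon S).obj (E₂.obj l) ⟶ pullback b b :=
      pullback.lift A B (by rw [sqb.lift_fst, sqb.lift_fst])
    let μ : pullback b b ⟶ (yon S).obj R := sqR.lift (pullback.fst b b ≫ (yon S).map (E.map m))
      (pullback.snd b b ≫ (yon S).map (E.map m))
      (by rw [Category.assoc, Category.assoc, hbm, pullback.condition_assoc])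
    have sqμ : IsPullback μ (pullback.fst b b ≫ b) ((yon S).map r₂ ≫ f k) (D.map l.hom) := by
      refine isPullback_of_yon (by rw [sqR.lift_snd_assoc, Category.assoc, hbm, Category.assoc, pullback.condition_assoc])
        fun X x y hxy => ?_
      have hy₁ : y ≫ D.map l.hom = (x ≫ (yon S).map r₁) ≫ f k := by
        rw [← hxy, Category.assoc, sqR.w]
      have hy₂ : y ≫ D.map l.hom = (x ≫ (yon S).map r₂) ≫ f k := by rw [← hxy, Category.assoc]
      let p₁ := sqb.lift y _ hy₁
      let p₂ := sqb.lift y _ hy₂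
      refine ⟨pullback.lift p₁ p₂ (by rw [sqb.lift_fst, sqb.lift_fst]), ⟨?_, ?_⟩, fun z hz => ?_⟩
      · apply sqR.hom_ext
        · rw [Category.assoc, sqR.lift_fst, pullback.lift_fst_assoc, sqb.lift_snd]
        · rw [Category.assoc, sqR.lift_snd, pullback.lift_snd_assoc, sqb.lift_snd]
      · rw [pullback.lift_fst_assoc, sqb.lift_fst]
      · apply pullback.hom_ext
        · rw [pullback.lift_fst]
          apply sqb.hom_ext
          · rw [sqb.lift_fst, Category.assoc]; exact hz.2
          · rw [sqb.lift_snd, ← hz.1, Category.assoc, Category.assoc, sqR.lift_fst]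
        · rw [pullback.lift_snd]
          apply sqb.hom_ext
          · rw [sqb.lift_fst, Category.assoc, ← pullback.condition]; exact hz.2
          · rw [sqb.lift_snd, ← hz.1, Category.assoc, Category.assoc, sqR.lift_snd]
    have hMμ : M ≫ μ = (yon S).map (w₂ l ≫ ez) := by
      apply sqR.hom_ext
      · rw [Category.assoc, sqR.lift_fst, pullback.lift_fst_assoc, sqb.lift_snd, ← Functor.map_comp, Category.assoc]
      · rw [Category.assoc, sqR.lift_snd, pullback.lift_snd_assoc, sqb.lift_snd, ← Functor.map_comp, Category.assoc]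
    have sqM : IsPullback ((yon S).map (w₂ l)) M ((yon S).map ez) μ := by
      refine IsPullback.of_bot (v₂₁ := pullback.fst b b ≫ b) (v₂₂ := (yon S).map r₂ ≫ f k) ?_
        (by rw [hMμ, Functor.map_comp]) sqμ
      rw [← Category.assoc, pullback.lift_fst, sqb.lift_fst, ← Category.assoc, ← Functor.map_comp]
      exact sql.flip
    haveI : Sheaf.IsLocallySurjective M := chart_isLocallySurjective
      (repWith_of_isPullback sqM ((repWith_yon_map_iff _ ez).2 hze))
      (repWith_of_isPullback sqM ((repWith_yon_map_iff _ ez).2 hzs))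
    haveI : Epi M := Sheaf.epi_of_isLocallySurjective M
    refine (cancel_epi M).1 ?_
    obtain ⟨A', hA'⟩ := (yon S).map_surjective A
    obtain ⟨B', hB'⟩ := (yon S).map_surjective B
    rw [pullback.lift_fst_assoc, pullback.lift_snd_assoc, ← hA', ← hB', ← Functor.map_comp, ← Functor.map_comp]
    refine congrArg (yon S).map (toOverS_ext ?_)
    have eA : A' ≫ E.map m = w₂ l ≫ ez ≫ r₁ := (yon S).map_injective (by rw [Functor.map_comp, hA', sqb.lift_snd])
    have eB : B' ≫ E.map m = w₂ l ≫ ez ≫ r₂ := (yon S).map_injective (by rw [Functor.map_comp, hB', sqb.lift_snd])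
    simp only [Over.comp_left, Category.assoc, hb, Over.homMk_left, pullback.lift_fst]
    rw [← Over.comp_left_assoc, ← Over.comp_left_assoc, eA, eB]
    simpa using hl'
  haveI := IsRegularEpiCategory.regularEpiOfEpi b
  obtain ⟨a₀, ha₀⟩ := IsRegularEpi.exists_of_isKernelPair b (IsPullback.of_hasPullback b b) _ hker
  -- the comparison with the model
  let π := mapOverS (S := S) π₀
  haveI : IsAffineHom π₀ := isAffineHom_of_isAffine _
  have hπa : RepWith @IsAffineHom ((yon S).map π) :=
    (repWith_yon_map_iff _ _).2 (MorphismProperty.of_isPullback (isPullback_mapOverS π₀) ‹IsAffineHom π₀›)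
  have hπe' : RepWith @Etale ((yon S).map π) :=
    (repWith_yon_map_iff _ _).2 (MorphismProperty.of_isPullback (isPullback_mapOverS π₀) hπe)
  let V := pullback a₀ ((yon S).map π)
  have sqV : IsPullback (pullback.fst a₀ ((yon S).map π)) (pullback.snd a₀ ((yon S).map π)) a₀ ((yon S).map π) :=
    IsPullback.of_hasPullback _ _
  have hVa : RepWith @IsAffineHom (pullback.fst a₀ ((yon S).map π)) := repWith_of_isPullback sqV.flip hπa
  have hV : IsAlgSpace V := isAlgSpace_of_representable (hD _) hVa.1
  have hVqc : IsQuasiCompactSp V :=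
    isQuasiCompactMor_of_repWith (repWith_mono hVa fun _ _ h (_ : IsAffineHom h) => (inferInstance : QuasiCompact h))
      (hD _) (hqc _) (𝟙 _) (𝟙 _) (pullback.fst a₀ ((yon S).map π)) (IsPullback.of_horiz_isIso ⟨by simp⟩)
  have hVqs : IsQuasiSeparatedSp V := isQuasiSeparatedSp_of_mor
    ((isQuasiSeparatedMor_iff_repWith hVa.1).2
      (repWith_mono hVa fun _ _ h (_ : IsAffineHom h) => (inferInstance : QuasiSeparated h))) (hqs _)
  let gl : E.obj lk ⟶ overS S U₀ := toOverS ((E.map m).left ≫ gk')
  have hgl : gl ≫ π = hb := toOverS_ext (by simp [gl, π, hb, hk])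
  let f₀ : (yon S).obj (E.obj lk) ⟶ V := pullback.lift b ((yon S).map gl)
    (by rw [ha₀, ← Functor.map_comp, hgl])
  have hf₀ : LocP @LocallyOfFinitePresentation f₀ := by
    refine EtLocal.lfp.locP_cancel (fun A B C f g (h₁ : LocallyOfFinitePresentation (f ≫ g))
      (h₂ : LocallyOfFinitePresentation g) => GrothLib.DiagGrp.lfp_of_comp_of_lft f g h₁ inferInstance)
      (IsAlgSpace.yon_obj _) hV (hD l.left) (g := pullback.fst a₀ ((yon S).map π)) ?_ ?_
    · rw [pullback.lift_fst]
      exact EtLocal.lfp.locP_of_repWith (hD _)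
        (repWith_mono hbe fun _ _ h (_ : Etale h) => (inferInstance : LocallyOfFinitePresentation h))
    · exact EtLocal.lfp.locP_of_repWith (hD _)
        (repWith_mono (repWith_of_isPullback sqV.flip hπe')
          fun _ _ h (_ : Etale h) => (inferInstance : LocallyOfFinitePresentation h))
  have hcomp : cW.π.app lk ≫ gl = toOverS υ := toOverS_ext (by
    simp only [Over.comp_left, Category.assoc, gl, Over.homMk_left, pullback.lift_fst]
    rw [← Over.comp_left_assoc, cW.w m, hgk'])
  have hbase : c.π.app l.left ≫ a₀ = e.inv ≫ (yon S).map (toOverS τ) := by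
    have hWepi : Sheaf.IsLocallySurjective fst :=
      chart_isLocallySurjective (repWith_of_isPullback sqW.flip ae) (repWith_of_isPullback sqW.flip as)
    haveI : Epi fst := Sheaf.epi_of_isLocallySurjective fst
    refine (cancel_epi fst).1 ?_
    rw [show fst ≫ c.π.app l.left ≫ a₀ = (yon S).map (cW.π.app lk) ≫ b ≫ a₀ from by
      rw [← Category.assoc, ← Category.assoc]; exact congrArg (fun q => q ≫ a₀) (hEπ lk).1, ha₀, ← reassoc_of% hψ, ← Functor.map_comp,
      ← Functor.map_comp, ← hgl, ← Category.assoc, hcomp]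
    exact congrArg (yon S).map (toOverS_ext (by simp [π, sq₀.w]))
  have sqlim : IsPullback ((yon S).map (toOverS υ)) fst ((yon S).map π) (c.π.app l.left ≫ a₀) := by
    rw [hbase]
    refine (isPullback_yon (isPullback_toOverS sq₀)).of_iso (Iso.refl _) (Iso.refl _) e (Iso.refl _) ?_ ?_ ?_ ?_
    · simp
    · simp [hψe]
    · simp [π]
    · simp
  let pY : (yon S).obj cW.pt ⟶ V := pullback.lift (fst ≫ c.π.app l.left) ((yon S).map (toOverS υ))
    (by rw [Category.assoc]; exact sqlim.w.symm)
  have hY : IsPullback pY fst (pullback.fst a₀ ((yon S).map π)) (c.π.app l.left) :=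
    IsPullback.of_right (by rw [pullback.lift_snd]; exact sqlim) (pullback.lift_fst _ _ _) sqV.flip
  have hX : IsPullback ((yon S).map (cW.π.app lk)) (𝟙 ((yon S).obj cW.pt)) f₀ pY := by
    have w : (yon S).map (cW.π.app lk) ≫ f₀ = 𝟙 _ ≫ pY := by
      rw [Category.id_comp]
      apply pullback.hom_ext
      · rw [Category.assoc, pullback.lift_fst, pullback.lift_fst]; exact (hEπ lk).1.symm
      · rw [Category.assoc, pullback.lift_snd, pullback.lift_snd, ← Functor.map_comp, hcomp]
    refine isPullback_of_yon w fun X x y hxy => ⟨y, ⟨?_, Category.comp_id _⟩, fun z hz => (Category.comp_id z).symm.trans hz.2⟩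
    have h1 : (y ≫ fst) ≫ c.π.app l.left = x ≫ b := by
      have := congrArg (fun q => q ≫ pullback.fst a₀ ((yon S).map π)) hxy
      simpa [f₀, pY] using this.symm
    have sqlk := sqk lk
    have h2 := congrArg (fun q => q ≫ pullback.snd a₀ ((yon S).map π)) hxy
    obtain ⟨x, rfl⟩ := (yon S).map_surjective x
    obtain ⟨y, rfl⟩ := (yon S).map_surjective y
    simp only [f₀, pY, Category.assoc, pullback.lift_snd, ← Functor.map_comp] at h2
    obtain ⟨z, hz⟩ := (yon S).map_surjective (sqlk.lift ((yon S).map y ≫ fst) ((yon S).map x) h1)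
    have hz1 : (yon S).map z ≫ fst = (yon S).map y ≫ fst := by rw [hz, sqlk.lift_fst]
    have hz2 : z ≫ cW.π.app lk = x := (yon S).map_injective (by rw [Functor.map_comp, hz, sqlk.lift_snd])
    have hzy : z = y := by
      refine (yon S).map_injective (hY.hom_ext ?_ hz1)
      apply pullback.hom_ext
      · simp only [Category.assoc, pY, pullback.lift_fst]; rw [reassoc_of% hz1]
      · simp only [Category.assoc, pY, pullback.lift_snd, ← Functor.map_comp]
        exact congrArg (yon S).map (by rw [← hcomp, reassoc_of% hz2, (yon S).map_injective h2, hcomp])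
    rw [← Functor.map_comp, ← hzy, hz2]
  haveI : IsIso (𝟙 ((yon S).obj cW.pt)) := IsIso.id _
  have hWqs : IsQuasiSeparatedSp ((yon S).obj (E.obj lk)) := by
    haveI : IsAffine (E.obj lk).left := (hE lk).1
    haveI : QuasiSeparated (E.obj lk).hom := inferInstance
    exact (repWith_diag_yon_iff _ _).2 (inferInstance : QuasiCompact (pullback.diagonal (E.obj lk).hom))
  obtain ⟨n, φn, hn⟩ := descend_isIso hD hDa hc (IsAlgSpace.yon_obj (E.obj lk)) hV f₀
    (pullback.fst a₀ ((yon S).map π)) (by
      haveI : IsAffine (E.obj lk).left := (hE lk).1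
      exact isQuasiCompactSp_yon _)
    hWqs hVqs hY hX hVqc hf₀
  -- the stage `n` is a scheme
  let nk : CategoryTheory.Over i₁ := CategoryTheory.Over.mk (φn ≫ lk.hom)
  let mn : nk ⟶ lk := CategoryTheory.Over.homMk φn
  let Vn := pullback (D.map φn ≫ a₀) ((yon S).map π)
  have sqVn : IsPullback (pullback.fst (D.map φn ≫ a₀) ((yon S).map π))
      (pullback.snd (D.map φn ≫ a₀) ((yon S).map π)) (D.map φn ≫ a₀) ((yon S).map π) := IsPullback.of_hasPullback _ _
  let pV : Vn ⟶ V := pullback.lift (pullback.fst _ _ ≫ D.map φn) (pullback.snd _ _)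
    (by rw [Category.assoc, sqVn.w])
  have hYn : IsPullback pV (pullback.fst (D.map φn ≫ a₀) ((yon S).map π)) (pullback.fst a₀ ((yon S).map π)) (D.map φn) :=
    IsPullback.of_right (by rw [pullback.lift_snd]; exact sqVn.flip) (pullback.lift_fst _ _ _) sqV.flip
  have sqn : IsPullback (f nk) ((yon S).map (E.map mn)) (D.map φn) b := by
    refine IsPullback.of_bot ?_ (hEm mn).1.symm (hE lk).2
    rw [← Functor.map_comp, (hEm mn).2, ← D.map_comp]
    exact (hE nk).2
  let fn : (yon S).obj (E.obj nk) ⟶ Vn := pullback.lift (f nk) ((yon S).map (E.map mn ≫ gl))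
    (by rw [reassoc_of% sqn.w, ha₀, ← Functor.map_comp, ← Functor.map_comp, Category.assoc, hgl])
  have hXn : IsPullback ((yon S).map (E.map mn)) fn f₀ pV := by
    refine IsPullback.of_bot (v₂₁ := pullback.fst _ _) (v₂₂ := pullback.fst _ _) ?_ ?_ hYn
    · rw [pullback.lift_fst, pullback.lift_fst]; exact sqn.flip
    · apply pullback.hom_ext
      · simp only [Category.assoc, f₀, pV, fn, pullback.lift_fst, pullback.lift_fst_assoc]; exact sqn.w.symm
      · simp only [Category.assoc, f₀, pV, fn, pullback.lift_snd, ← Functor.map_comp]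
  haveI := hn _ Vn fn pV _ hYn _ hXn
  have sqG : IsPullback (f nk) ((yon S).map (E.map mn ≫ gl)) (D.map φn ≫ a₀) ((yon S).map (mapOverS π₀)) :=
    sqVn.of_iso (asIso fn).symm (Iso.refl _) (Iso.refl _) (Iso.refl _) (by simp [fn]) (by simp [fn]) (by simp)
      (by simp [π])
  haveI : IsAffine (E.obj nk).left := (hE nk).1
  obtain ⟨V₀, ⟨eV⟩⟩ := exists_iso_yon_of_model π₀ _ _ _ sqG
  -- schemes at all later stages
  have hrep : ∀ j : CategoryTheory.Over n, ∃ (V : Over S), Nonempty ((yon S).obj V ≅ D.obj j.left) := fun j => by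
    obtain ⟨V, fst', snd', sq'⟩ := exists_isPullback_of_representable (isAffineMor_iff.1 (hDa _ _ j.hom)).1 eV.hom
    haveI : IsIso fst' :=
      MorphismProperty.of_isPullback (P := MorphismProperty.isomorphisms _) sq'.flip
        (show IsIso eV.hom from inferInstance)
    exact ⟨V, ⟨asIso fst'⟩⟩
  choose V' eV' using hrep
  let ev := fun j => (eV' j).some
  let G : CategoryTheory.Over n ⥤ Over S :=
    { obj := V'
      map := fun {j j'} μ => (yon S).preimage ((ev j).hom ≫ D.map μ.left ≫ (ev j').inv)
      map_id := fun j => (yon S).map_injective (by simp)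
      map_comp := fun μ μ' => (yon S).map_injective (by simp) }
  haveI : CategoryTheory.IsConnected (CategoryTheory.Over n) := IsCofiltered.isConnected _
  let cG : Cone G :=
    { pt := T
      π := { app := fun j => (yon S).preimage (e.hom ≫ c.π.app j.left ≫ (ev j).inv)
             naturality := fun j j' μ => (yon S).map_injective (by simp [G]) } }
  let F := CategoryTheory.Over.forget n
  let α : F ⋙ D ≅ G ⋙ yon S := NatIso.ofComponents (fun j => (ev j).symm) (fun μ => by simp [G, F])
  have hG : IsLimit cG := isLimitOfReflects (yon S)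
    (IsLimit.ofIsoLimit ((IsLimit.postcomposeHomEquiv α (c.whisker F)).symm
      ((Functor.Initial.isLimitWhiskerEquiv F c).symm hc))
      (Cone.ext e.symm (fun j => by simp [cG, α, F])))
  let G' : CategoryTheory.Over n ⥤ Scheme.{u} := G ⋙ Over.forget S
  haveI : ∀ j, CompactSpace ↥(G'.obj j) := fun j =>
    compactSpace_of_isQuasiCompactSp_yon _ (isQuasiCompactSp_of_iso (hqc j.left) (ev j).symm)
  haveI : ∀ j, QuasiSeparatedSpace ↥(G'.obj j) := fun j => by
    have h := isQuasiSeparatedSp_of_mor (f := (ev j).hom) ((isQuasiSeparatedMor_iff_repWith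
      (repWith_iso (P := @IsAffineHom) (ev j).hom).1).2 (repWith_iso (P := @QuasiSeparated) (ev j).hom)) (hqs j.left)
    haveI : QuasiSeparated (V' j).hom := ⟨(repWith_diag_yon_iff _ _).1 h⟩
    exact quasiSeparatedSpace_of_quasiSeparated (V' j).hom
  haveI : ∀ {j j' : CategoryTheory.Over n} (μ : j ⟶ j'), IsAffineHom (G'.map μ) := fun {j j'} μ => by
    have : RepWith @IsAffineHom ((yon S).map (G.map μ)) := by
      simp only [G, Functor.map_preimage]
      exact repWith_comp (repWith_iso _) (repWith_comp (isAffineMor_iff.1 (hDa _ _ _)) (repWith_iso _))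
    exact (repWith_yon_map_iff _ _).1 this
  haveI : IsAffine ((Over.forget S).mapCone cG).pt := ‹IsAffine T.left›
  obtain ⟨j, hj⟩ := Scheme.exists_isAffine_of_isLimit G' _ (isLimitOfPreserves (Over.forget S) hG)
  exact ⟨j.left, V' j, hj, ⟨ev j⟩⟩

end

end GrothLib.AlgSp
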