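import Groth.Agent.Lib.AlgSp.LimitAffine
import Groth.Agent.Lib.LimDesc.Finite
import Groth.Agent.Lib.LimDesc.EventualClosed

/-!
# Morphisms out of a limit which are affine are affine at a stage

* `eventually_isAffineMor`: if the limit is affine over `Y`, then the stages are eventually affine;
* `descend_isAffineMor`: an affine base change to the limit is affine at a stage;
* `descend_isFiniteMor`: a finite base change to the limit is finite at a stage;
* `eventually_isFiniteMor`: if the limit is integral over `Y`, then the stages are eventually finite.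
-/

universe u

open CategoryTheory CategoryTheory.Limits AlgebraicGeometry

namespace GrothLib.AlgSp

open _root_.AlgSp

variable {S : Scheme.{u}} [QuasiSeparatedSpace ↥S]

set_option backward.isDefEq.respectTransparency false

theorem isQuasiSeparatedSp_yon_of_isAffine (V : Over S) [IsAffine V.left] :
    IsQuasiSeparatedSp ((yon S).obj V) :=
  (repWith_diag_yon_iff _ _).2 (inferInstance : QuasiCompact (pullback.diagonal V.hom))

/-- A space affine over a quasi-compact quasi-separated one is quasi-compact and quasi-separated. -/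
theorem qc_qs_of_isAffineHom {X Y : Sp S} (hY : IsAlgSpace Y) {f : X ⟶ Y} (hf : RepWith @IsAffineHom f)
    (hqc : IsQuasiCompactSp Y) (hqs : IsQuasiSeparatedSp Y) : IsQuasiCompactSp X ∧ IsQuasiSeparatedSp X :=
  ⟨isQuasiCompactMor_of_repWith (repWith_mono hf fun _ _ h (_ : IsAffineHom h) => (inferInstance : QuasiCompact h))
      hY hqc (𝟙 _) (𝟙 _) f (IsPullback.of_horiz_isIso ⟨by simp⟩),
    isQuasiSeparatedSp_of_mor ((isQuasiSeparatedMor_iff_repWith hf.1).2
      (repWith_mono hf fun _ _ h (_ : IsAffineHom h) => (inferInstance : QuasiSeparated h))) hqs⟩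

variable {I : Type u} [SmallCategory I] [IsCofiltered I] {D : I ⥤ Sp S}

/-- If the limit is affine over `Y`, then the stages are eventually affine over `Y`. -/
theorem eventually_isAffineMor (hD : ∀ i, IsAlgSpace (D.obj i))
    (hDa : ∀ (i j : I) (φ : i ⟶ j), IsAffineMor (D.map φ))
    (hqc : ∀ i, IsQuasiCompactSp (D.obj i)) (hqs : ∀ i, IsQuasiSeparatedSp (D.obj i))
    {Y : Sp S} (hY : IsAlgSpace Y) (hYqc : IsQuasiCompactSp Y) (hYqs : IsQuasiSeparatedSp Y)
    (t : D ⟶ (Functor.const I).obj Y) {c : Cone D} (hc : IsLimit c) (g : c.pt ⟶ Y)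
    (hg : ∀ i, c.π.app i ≫ t.app i = g) (hX : IsAffineMor g) :
    ∃ i₀ : I, ∀ (i : I) (_ : i ⟶ i₀), IsAffineMor (t.app i) := by
  haveI := IsCofiltered.isConnected I
  obtain ⟨V, a, hV, ae, as⟩ := exists_affine_atlas_of_qc hYqc
  haveI := hV
  have hnat : ∀ {i j : I} (φ : i ⟶ j), D.map φ ≫ t.app j = t.app i := fun φ => by simpa using t.naturality φ
  let D' : I ⥤ Sp S :=
    { obj := fun i => pullback (t.app i) a
      map := fun {i j} φ => pullback.lift (pullback.fst _ _ ≫ D.map φ) (pullback.snd _ _)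
        (by rw [Category.assoc, hnat, pullback.condition])
      map_id := fun i => by apply pullback.hom_ext <;> simp
      map_comp := fun φ ψ => by apply pullback.hom_ext <;> simp }
  have hsq : ∀ i, IsPullback (pullback.fst (t.app i) a) (pullback.snd (t.app i) a) (t.app i) a :=
    fun i => IsPullback.of_hasPullback _ _
  have hbc : ∀ {i j : I} (φ : i ⟶ j),
      IsPullback (D'.map φ) (pullback.fst (t.app i) a) (pullback.fst (t.app j) a) (D.map φ) := fun {i j} φ =>
    IsPullback.of_right (by simp only [D', pullback.lift_snd, hnat]; exact (hsq i).flip)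
      (pullback.lift_fst _ _ _) (hsq j).flip
  let W := pullback g a
  let c' : Cone D' :=
    { pt := W
      π :=
        { app := fun i => pullback.lift (pullback.fst g a ≫ c.π.app i) (pullback.snd g a)
            (by rw [Category.assoc, hg, pullback.condition])
          naturality := fun i j φ => by
            dsimp only [D', Functor.const_obj_obj, Functor.const_obj_map]
            rw [Category.id_comp]
            apply pullback.hom_ext
            · simp
            · simp } }
  have hs : ∀ (s : Cone D') (i j : I),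
      s.π.app i ≫ pullback.snd (t.app i) a = s.π.app j ≫ pullback.snd (t.app j) a := fun s =>
    constant_of_preserves_morphisms (fun i => s.π.app i ≫ pullback.snd (t.app i) a) fun i j φ => by
      rw [← s.w φ]; simp [D']
  let sc : Cone D' → Cone D := fun s =>
    { pt := s.pt
      π := { app := fun i => s.π.app i ≫ pullback.fst (t.app i) a
             naturality := fun i j φ => by
               dsimp
               rw [Category.id_comp, ← s.w φ]
               simp [D'] } }
  obtain ⟨i₁⟩ := (IsCofiltered.nonempty : Nonempty I)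
  have hlw : ∀ s : Cone D', hc.lift (sc s) ≫ g = (s.π.app i₁ ≫ pullback.snd (t.app i₁) a) ≫ a := fun s => by
    rw [← hg i₁, hc.fac_assoc, Category.assoc]
    simp [sc, pullback.condition]
  have hc' : IsLimit c' :=
    { lift := fun s => pullback.lift (hc.lift (sc s)) (s.π.app i₁ ≫ pullback.snd (t.app i₁) a) (hlw s)
      fac := fun s i => by
        apply pullback.hom_ext
        · simp [c', sc]
        · simp [c', hs s i₁ i]
      uniq := fun s m hm => by
        apply pullback.hom_ext
        · rw [pullback.lift_fst]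
          refine hc.hom_ext fun i => ?_
          rw [hc.fac, Category.assoc]
          have := congrArg (fun q => q ≫ pullback.fst (t.app i) a) (hm i)
          simpa [c', sc] using this
        · rw [pullback.lift_snd]
          have := congrArg (fun q => q ≫ pullback.snd (t.app i₁) a) (hm i₁)
          simpa [c'] using this }
  obtain ⟨T, fstT, sndT, sqT⟩ := exists_isPullback_of_representable (isAffineMor_iff.1 hX).1 a
  haveI : IsAffineHom sndT.left := (isAffineMor_iff.1 hX).2 _ _ _ sqT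
  haveI : IsAffine T.left := isAffine_of_isAffineHom sndT.left
  let eT : (yon S).obj T ≅ W := sqT.isoPullback
  have haq : RepWith @QuasiCompact a := repWith_quasiCompact_chart hY hYqs a
  have hqc' : ∀ i, IsQuasiCompactSp (D'.obj i) := fun i =>
    isQuasiCompactMor_of_repWith (repWith_of_isPullback (hsq i).flip haq) (hD i) (hqc i) (𝟙 _) (𝟙 _)
      (pullback.fst (t.app i) a) (IsPullback.of_horiz_isIso ⟨by simp⟩)
  have hqs' : ∀ i, IsQuasiSeparatedSp (D'.obj i) := fun i =>
    isQuasiSeparatedSp_of_mor (f := pullback.fst (t.app i) a)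
      (repWith_of_isPullback (isPullback_diagonal_of_isPullback (hsq i).flip)
        (isQuasiSeparatedMor_of_qs (isQuasiSeparatedSp_yon_of_isAffine V) a)) (hqs i)
  have hDa' : ∀ (i j : I) (φ : i ⟶ j), IsAffineMor (D'.map φ) := fun i j φ =>
    isAffineMor_iff.2 (repWith_of_isPullback (hbc φ).flip (isAffineMor_iff.1 (hDa i j φ)))
  obtain ⟨i₀, T', hT', ⟨e⟩⟩ := exists_stage_affine (D := D')
    (fun i => isAlgSpace_pullback' hY (hD i) (IsAlgSpace.yon_obj V) (t.app i) a) hDa' hqc' hqs' hc' eT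
  refine ⟨i₀, fun i φ => ?_⟩
  haveI : Sheaf.IsLocallySurjective a := chart_isLocallySurjective ae as
  haveI := hT'
  obtain ⟨h, hh⟩ := (yon S).map_surjective (e.hom ≫ pullback.snd (t.app i₀) a)
  haveI : IsAffineHom h.left := isAffineHom_of_isAffine _
  have ha₀ : RepWith @IsAffineHom (pullback.snd (t.app i₀) a) := by
    rw [show pullback.snd (t.app i₀) a = e.inv ≫ (yon S).map h by rw [hh, Iso.inv_hom_id_assoc]]
    exact repWith_comp (repWith_iso _) ((repWith_yon_map_iff _ h).2 ‹_›)
  rw [isAffineMor_iff, ← hnat φ]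
  exact repWith_comp (isAffineMor_iff.1 (hDa i i₀ φ))
    (repWith_of_base_isAffineHom a (hsq i₀) le_rfl fppfDescends_isAffineHom ha₀)

/-- An affine morphism with a separated second factor has an affine first factor. -/
theorem isAffineMor_of_comp {X Y Z : Sp S} (f : X ⟶ Y) (g : Y ⟶ Z) (hg : RepWith @IsSeparated g)
    (h : IsAffineMor (f ≫ g)) : IsAffineMor f :=
  isAffineMor_iff.2 (repWith_of_comp_diagonal f g
    (repWith_mono ((isSeparatedMor_iff_repWith hg.1).2 hg)
      fun _ _ k (_ : IsClosedImmersion k) => (inferInstance : IsAffineHom k))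
    (isAffineMor_iff.1 h))

/-- The system of base changes of a space over the stage `i₀`. -/
theorem exists_baseChange_system (hD : ∀ i, IsAlgSpace (D.obj i))
    (hDa : ∀ (i j : I) (φ : i ⟶ j), IsAffineMor (D.map φ)) {c : Cone D} (hc : IsLimit c) {i₀ : I}
    {X₀ : Sp S} (hX₀ : IsAlgSpace X₀) (hXqc : IsQuasiCompactSp X₀) (hXqs : IsQuasiSeparatedSp X₀)
    (g₀ : X₀ ⟶ D.obj i₀) {X : Sp S} {pX : X ⟶ X₀} {qX : X ⟶ c.pt}
    (hX : IsPullback pX qX g₀ (c.π.app i₀)) :
    ∃ (E : CategoryTheory.Over i₀ ⥤ Sp S) (p : E ⟶ (Functor.const _).obj X₀) (q : E ⟶ CategoryTheory.Over.forget i₀ ⋙ D)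
      (cE : Cone E) (e : cE.pt ≅ X), Nonempty (IsLimit cE) ∧ (∀ j, IsAlgSpace (E.obj j)) ∧
      (∀ j, IsQuasiCompactSp (E.obj j)) ∧ (∀ j, IsQuasiSeparatedSp (E.obj j)) ∧
      (∀ j k (φ : j ⟶ k), IsAffineMor (E.map φ)) ∧
      (∀ j, IsPullback (p.app j) (q.app j) g₀ (D.map j.hom)) ∧ (∀ j, cE.π.app j ≫ p.app j = e.hom ≫ pX) := by
  haveI : CategoryTheory.IsConnected (CategoryTheory.Over i₀) := IsCofiltered.isConnected _
  let E : CategoryTheory.Over i₀ ⥤ Sp S :=
    { obj := fun j => pullback g₀ (D.map j.hom)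
      map := fun {j k} φ => pullback.lift (pullback.fst _ _) (pullback.snd _ _ ≫ D.map φ.left)
        (by rw [Category.assoc, ← D.map_comp, CategoryTheory.Over.w, pullback.condition])
      map_id := fun j => by apply pullback.hom_ext <;> simp
      map_comp := fun φ ψ => by apply pullback.hom_ext <;> simp }
  have hsq : ∀ j : CategoryTheory.Over i₀, IsPullback (pullback.fst g₀ (D.map j.hom)) (pullback.snd g₀ (D.map j.hom))
      g₀ (D.map j.hom) := fun j => IsPullback.of_hasPullback _ _
  let p : E ⟶ (Functor.const _).obj X₀ :=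
    { app := fun j => pullback.fst _ _
      naturality := fun j k φ => by simp [E] }
  let q : E ⟶ CategoryTheory.Over.forget i₀ ⋙ D :=
    { app := fun j => pullback.snd _ _
      naturality := fun j k φ => by simp [E] }
  let cE : Cone E :=
    { pt := X
      π :=
        { app := fun j => pullback.lift pX (qX ≫ c.π.app j.left) (by rw [Category.assoc, c.w, hX.w])
          naturality := fun j k φ => by
            dsimp only [E, Functor.const_obj_obj, Functor.const_obj_map]
            rw [Category.id_comp]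
            apply pullback.hom_ext
            · simp
            · simp } }
  have hc₀ := (Functor.Initial.isLimitWhiskerEquiv (CategoryTheory.Over.forget i₀) c).symm hc
  let top : CategoryTheory.Over i₀ := CategoryTheory.Over.mk (𝟙 i₀)
  have hp : ∀ (s : Cone E) (j : CategoryTheory.Over i₀),
      s.π.app j ≫ pullback.fst g₀ (D.map j.hom) = s.π.app top ≫ pullback.fst g₀ (D.map top.hom) := fun s j => by
    refine constant_of_preserves_morphisms
      (fun j => s.π.app j ≫ pullback.fst g₀ (D.map j.hom)) (fun a b φ => ?_) j top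
    rw [← s.w φ]; simp [E]
  let sc : Cone E → Cone (CategoryTheory.Over.forget i₀ ⋙ D) := fun s =>
    { pt := s.pt
      π :=
        { app := fun j => s.π.app j ≫ pullback.snd g₀ (D.map j.hom)
          naturality := fun j k φ => by
            dsimp
            rw [Category.id_comp, ← s.w φ]
            simp [E] } }
  have hlw : ∀ s : Cone E, (s.π.app top ≫ pullback.fst g₀ (D.map top.hom)) ≫ g₀ = hc₀.lift (sc s) ≫ c.π.app i₀ :=
    fun s => by
      have := hc₀.fac (sc s) top
      dsimp at this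
      erw [this]
      simp [sc, top, pullback.condition]
  have hcE : IsLimit cE :=
    { lift := fun s => hX.lift (s.π.app top ≫ pullback.fst g₀ (D.map top.hom)) (hc₀.lift (sc s)) (hlw s)
      fac := fun s j => by
        apply pullback.hom_ext
        · simp [cE, hp s j]
        · simp only [cE, Category.assoc, pullback.lift_snd, IsPullback.lift_snd_assoc]
          exact hc₀.fac (sc s) j
      uniq := fun s m hm => by
        apply hX.hom_ext
        · rw [hX.lift_fst]
          have := congrArg (fun z => z ≫ pullback.fst g₀ (D.map top.hom)) (hm top)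
          simpa [cE] using this
        · rw [hX.lift_snd]
          refine hc₀.hom_ext fun j => ?_
          rw [hc₀.fac]
          have := congrArg (fun z => z ≫ pullback.snd g₀ (D.map j.hom)) (hm j)
          simpa [cE, sc] using this }
  have hEa : ∀ j : CategoryTheory.Over i₀, RepWith @IsAffineHom (pullback.fst g₀ (D.map j.hom)) := fun j =>
    repWith_of_isPullback (hsq j).flip (isAffineMor_iff.1 (hDa _ _ j.hom))
  refine ⟨E, p, q, cE, Iso.refl _, ⟨hcE⟩,
    fun j => isAlgSpace_pullback' (hD _) hX₀ (hD _) g₀ (D.map j.hom),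
    fun j => (qc_qs_of_isAffineHom hX₀ (hEa j) hXqc hXqs).1,
    fun j => (qc_qs_of_isAffineHom hX₀ (hEa j) hXqc hXqs).2,
    fun j k φ => ?_, hsq, fun j => by simp [cE, p]⟩
  have sq : IsPullback (E.map φ) (q.app j) (q.app k) (D.map φ.left) := by
    refine IsPullback.of_right ?_ (by simp [q, E]) (hsq k)
    simp only [E, q, pullback.lift_fst]
    rw [← D.map_comp, CategoryTheory.Over.w]
    exact hsq j
  exact isAffineMor_iff.2 (repWith_of_isPullback sq.flip (isAffineMor_iff.1 (hDa _ _ _)))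

/-- An affine base change to the limit is affine at a stage. -/
theorem descend_isAffineMor (hD : ∀ i, IsAlgSpace (D.obj i))
    (hDa : ∀ (i j : I) (φ : i ⟶ j), IsAffineMor (D.map φ)) {c : Cone D} (hc : IsLimit c) {i₀ : I}
    {X₀ Y₀ : Sp S} (hX₀ : IsAlgSpace X₀) (hY₀ : IsAlgSpace Y₀) (f₀ : X₀ ⟶ Y₀) (b₀ : Y₀ ⟶ D.obj i₀)
    (hXqc : IsQuasiCompactSp X₀) (hXqs : IsQuasiSeparatedSp X₀)
    (hYqc : IsQuasiCompactSp Y₀) (hYqs : IsQuasiSeparatedSp Y₀)
    {X Y : Sp S} {f : X ⟶ Y} {pY : Y ⟶ Y₀} {qY : Y ⟶ c.pt}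
    (hY : IsPullback pY qY b₀ (c.π.app i₀)) {pX : X ⟶ X₀} (hX : IsPullback pX f f₀ pY) (hf : IsAffineMor f) :
    ∃ (i : I) (φ : i ⟶ i₀), ∀ (i' : I) (ψ : i' ⟶ i) (Xi Yi : Sp S) (fi : Xi ⟶ Yi) (pYi : Yi ⟶ Y₀)
      (qYi : Yi ⟶ D.obj i') (_ : IsPullback pYi qYi b₀ (D.map (ψ ≫ φ))) (pXi : Xi ⟶ X₀)
      (_ : IsPullback pXi fi f₀ pYi), IsAffineMor fi := by
  have hXc : IsPullback pX (f ≫ qY) (f₀ ≫ b₀) (c.π.app i₀) := hX.paste_vert hY
  obtain ⟨E, p, q, cE, e, ⟨hcE⟩, hE, hEqc, hEqs, hEa, hsq, hπ⟩ :=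
    exists_baseChange_system hD hDa hc hX₀ hXqc hXqs (f₀ ≫ b₀) hXc
  have hpY : IsAffineMor pY :=
    isAffineMor_iff.2 (repWith_of_isPullback hY.flip (isAffineMor_iff.1 (isAffineMor_limit_π hDa hc i₀)))
  have hg : IsAffineMor (e.hom ≫ f ≫ pY) := isAffineMor_iff.2
    (repWith_comp (repWith_iso _) (repWith_comp (isAffineMor_iff.1 hf) (isAffineMor_iff.1 hpY)))
  let t : E ⟶ (Functor.const _).obj Y₀ :=
    { app := fun j => p.app j ≫ f₀
      naturality := fun j k φ => by simpa using congrArg (· ≫ f₀) (p.naturality φ) }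
  obtain ⟨j₀, hj₀⟩ := eventually_isAffineMor hE hEa hEqc hEqs hY₀ hYqc hYqs t hcE _
    (fun j => by simp only [t]; rw [reassoc_of% (hπ j), hX.w]) hg
  refine ⟨j₀.left, j₀.hom, fun i' ψ Xi Yi fi pYi qYi hYi pXi hXi => ?_⟩
  let j : CategoryTheory.Over i₀ := CategoryTheory.Over.mk (ψ ≫ j₀.hom)
  have hj := hj₀ j (CategoryTheory.Over.homMk ψ)
  have hXi' : IsPullback pXi (fi ≫ qYi) (f₀ ≫ b₀) (D.map j.hom) := hXi.paste_vert hYi
  refine isAffineMor_of_comp fi pYi ?_ ?_
  · exact repWith_mono (repWith_of_isPullback hYi.flip (isAffineMor_iff.1 (hDa _ _ _)))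
      fun _ _ k (_ : IsAffineHom k) => (inferInstance : IsSeparated k)
  · let eX := hXi'.isoIsPullback _ _ (hsq j)
    have he : eX.hom ≫ p.app j = pXi := hXi'.isoIsPullback_hom_fst _ _ (hsq j)
    rw [← hXi.w, ← he, Category.assoc]
    exact isAffineMor_iff.2 (repWith_comp (repWith_iso _) (isAffineMor_iff.1 hj))

/-- A finite base change to the limit of a morphism of finite type is finite at a stage. -/
theorem descend_isFiniteMor (hD : ∀ i, IsAlgSpace (D.obj i))
    (hDa : ∀ (i j : I) (φ : i ⟶ j), IsAffineMor (D.map φ)) {c : Cone D} (hc : IsLimit c) {i₀ : I}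
    {X₀ Y₀ : Sp S} (hX₀ : IsAlgSpace X₀) (hY₀ : IsAlgSpace Y₀) (f₀ : X₀ ⟶ Y₀) (b₀ : Y₀ ⟶ D.obj i₀)
    (hXqc : IsQuasiCompactSp X₀) (hXqs : IsQuasiSeparatedSp X₀)
    (hYqc : IsQuasiCompactSp Y₀) (hYqs : IsQuasiSeparatedSp Y₀)
    {X Y : Sp S} {f : X ⟶ Y} {pY : Y ⟶ Y₀} {qY : Y ⟶ c.pt}
    (hY : IsPullback pY qY b₀ (c.π.app i₀)) {pX : X ⟶ X₀} (hX : IsPullback pX f f₀ pY) (hf : IsFiniteMor f)
    (hf₀ : LocP @LocallyOfFiniteType f₀) :
    ∃ (i : I) (φ : i ⟶ i₀), ∀ (Xi Yi : Sp S) (fi : Xi ⟶ Yi) (pYi : Yi ⟶ Y₀) (qYi : Yi ⟶ D.obj i)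
      (_ : IsPullback pYi qYi b₀ (D.map φ)) (pXi : Xi ⟶ X₀) (_ : IsPullback pXi fi f₀ pYi), IsFiniteMor fi := by
  obtain ⟨i, φ, hi⟩ := descend_isAffineMor hD hDa hc hX₀ hY₀ f₀ b₀ hXqc hXqs hYqc hYqs hY hX
    (isAffineMor_iff.2 (repWith_mono (isFiniteMor_iff.1 hf)
      fun _ _ h (_ : IsFinite h) => (inferInstance : IsAffineHom h)))
  have sqY₁ : IsPullback (pullback.fst b₀ (D.map φ)) (pullback.snd b₀ (D.map φ)) b₀ (D.map φ) :=
    IsPullback.of_hasPullback _ _
  have sqX₁ : IsPullback (pullback.fst f₀ (pullback.fst b₀ (D.map φ)))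
      (pullback.snd f₀ (pullback.fst b₀ (D.map φ))) f₀ (pullback.fst b₀ (D.map φ)) :=
    IsPullback.of_hasPullback _ _
  set Y₁ := pullback b₀ (D.map φ)
  set pY₁ := pullback.fst b₀ (D.map φ)
  set qY₁ := pullback.snd b₀ (D.map φ)
  set f₁ := pullback.snd f₀ pY₁
  set pX₁ := pullback.fst f₀ pY₁
  have hf₁ : RepWith @IsAffineHom f₁ :=
    isAffineMor_iff.1 (hi i (𝟙 i) _ _ f₁ pY₁ qY₁ (by rw [Category.id_comp]; exact sqY₁) pX₁ sqX₁)
  have hY₁ : IsAlgSpace Y₁ := isAlgSpace_pullback (hD i₀).diag hY₀ (hD i) sqY₁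
  have hl₁ : LocP @LocallyOfFiniteType f₁ := EtLocal.lft.locP_of_isPullback hX₀ hY₀ hY₁ sqX₁ hf₀
  obtain ⟨hY₁qc, -⟩ := qc_qs_of_isAffineHom hY₀ (repWith_of_isPullback sqY₁.flip (isAffineMor_iff.1 (hDa _ _ φ)))
    hYqc hYqs
  obtain ⟨V, v, hV, ve, vs⟩ := exists_affine_atlas_of_qc hY₁qc
  haveI := hV
  obtain ⟨W, pW, a, sqW⟩ := exists_isPullback_of_representable hf₁.1 v
  haveI : IsAffineHom a.left := hf₁.2 _ _ _ sqW
  haveI : IsAffine W.left := isAffine_of_isAffineHom a.left
  haveI : LocallyOfFiniteType a.left := hl₁ pW v a (repWith_of_isPullback sqW.flip ve) ve sqW.w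
  -- the limit
  obtain ⟨E, cW, f', w, fst, snd, ⟨hcW⟩, -, hE, hEm, hEπ, sqV⟩ := exists_affine_chart_limit hDa hc i hV (v ≫ qY₁)
  let rY : Y ⟶ Y₁ := sqY₁.lift pY (qY ≫ c.π.app i) (by rw [Category.assoc, c.w, hY.w])
  have hY' : IsPullback rY qY qY₁ (c.π.app i) :=
    IsPullback.of_right (by rw [sqY₁.lift_fst, c.w]; exact hY) (sqY₁.lift_snd _ _ _) sqY₁
  let rX : X ⟶ pullback f₀ pY₁ := sqX₁.lift pX (f ≫ rY) (by rw [Category.assoc, sqY₁.lift_fst, hX.w])
  have hX' : IsPullback rX f f₁ rY :=
    IsPullback.of_right (by rw [sqX₁.lift_fst, sqY₁.lift_fst]; exact hX) (sqX₁.lift_snd _ _ _) sqX₁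
  let eW : (yon S).obj cW.pt ⟶ Y := hY'.lift ((yon S).map snd ≫ v) fst (by rw [Category.assoc, ← sqV.w])
  have sqP : IsPullback ((yon S).map (pullback.fst a snd) ≫ pW) ((yon S).map (pullback.snd a snd)) f₁ (eW ≫ rY) := by
    rw [hY'.lift_fst]
    exact (isPullback_yon (IsPullback.of_hasPullback a snd)).paste_horiz sqW
  let lX := hX'.lift ((yon S).map (pullback.fst a snd) ≫ pW) ((yon S).map (pullback.snd a snd) ≫ eW)
    (by rw [sqP.w, Category.assoc])
  have sqlim : IsPullback lX ((yon S).map (pullback.snd a snd)) f eW :=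
    IsPullback.of_right (by rw [hX'.lift_fst]; exact sqP) (hX'.lift_snd _ _ _) hX'
  haveI : IsFinite ((Over.forget S).map (pullback.snd a snd)) := (isFiniteMor_iff.1 hf).2 _ _ _ sqlim
  -- descend
  haveI : CategoryTheory.IsConnected (CategoryTheory.Over i) := IsCofiltered.isConnected _
  let E' : CategoryTheory.Over i ⥤ Scheme.{u} := E ⋙ Over.forget S
  haveI : ∀ j, IsAffine (E'.obj j) := fun j => (hE j).1
  haveI : ∀ (j k : CategoryTheory.Over i) (φ : j ⟶ k), IsAffineHom (E'.map φ) :=
    fun j k φ => isAffineHom_of_isAffine _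
  let top : CategoryTheory.Over i := CategoryTheory.Over.mk (𝟙 i)
  let a' := pullback.snd a (w top)
  have sqt := (IsPullback.of_hasPullback a (w top)).map (Over.forget S)
  haveI : IsAffineHom a'.left := MorphismProperty.of_isPullback (P := @IsAffineHom) sqt ‹_›
  haveI : LocallyOfFiniteType a'.left := MorphismProperty.of_isPullback (P := @LocallyOfFiniteType) sqt ‹_›
  haveI : IsAffine (pullback a (w top)).left := by
    haveI : IsAffine (E.obj top).left := (hE top).1
    exact isAffine_of_isAffineHom a'.left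
  have hsndtop : cW.π.app top ≫ w top = snd := (hEπ top).2
  let q' : pullback a snd ⟶ pullback a (w top) :=
    pullback.lift (pullback.fst _ _) (pullback.snd _ _ ≫ cW.π.app top)
      (by rw [Category.assoc, hsndtop, pullback.condition])
  have sq' : IsPullback q' (pullback.snd a snd) a' (cW.π.app top) := by
    refine IsPullback.of_right ?_ (pullback.lift_snd _ _ _) (IsPullback.of_hasPullback a (w top))
    rw [pullback.lift_fst, hsndtop]
    exact IsPullback.of_hasPullback _ _
  obtain ⟨j, hj⟩ := LimDesc.exists_isFinite_snd_of_isAffine E' (isLimitOfPreserves (Over.forget S) hcW) a'.left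
    (sq'.map (Over.forget S))
  refine ⟨j.left.left, j.left.hom ≫ φ, fun Xi Yi fi pYi qYi hYi pXi hXi => ?_⟩
  let rYi : Yi ⟶ Y₁ := sqY₁.lift pYi (qYi ≫ D.map j.left.hom) (by rw [Category.assoc, ← D.map_comp, hYi.w])
  have hYi' : IsPullback rYi qYi qY₁ (D.map j.left.hom) :=
    IsPullback.of_right (by rw [sqY₁.lift_fst, ← D.map_comp]; exact hYi) (sqY₁.lift_snd _ _ _) sqY₁
  let rXi : Xi ⟶ pullback f₀ pY₁ := sqX₁.lift pXi (fi ≫ rYi) (by rw [Category.assoc, sqY₁.lift_fst, hXi.w])
  have hXi' : IsPullback rXi fi f₁ rYi :=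
    IsPullback.of_right (by rw [sqX₁.lift_fst, sqY₁.lift_fst]; exact hXi) (sqX₁.lift_snd _ _ _) sqX₁
  have sqj := (hE j.left).2
  let ej : (yon S).obj (E.obj j.left) ⟶ Yi := hYi'.lift ((yon S).map (w j.left) ≫ v) (f' j.left)
    (by rw [Category.assoc, ← sqj.w])
  have sqej : IsPullback ((yon S).map (w j.left)) ej v rYi :=
    IsPullback.of_bot (v₂₁ := qYi) (v₂₂ := qY₁) (by rw [hYi'.lift_snd]; exact sqj.flip)
      (hYi'.lift_fst _ _ _).symm hYi'
  have sqPj : IsPullback ((yon S).map (pullback.fst a (w j.left)) ≫ pW)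
      ((yon S).map (pullback.snd a (w j.left))) f₁ (ej ≫ rYi) := by
    rw [hYi'.lift_fst]
    exact (isPullback_yon (IsPullback.of_hasPullback a (w j.left))).paste_horiz sqW
  let lj := hXi'.lift ((yon S).map (pullback.fst a (w j.left)) ≫ pW)
    ((yon S).map (pullback.snd a (w j.left)) ≫ ej) (by rw [sqPj.w, Category.assoc])
  have sqlj : IsPullback lj ((yon S).map (pullback.snd a (w j.left))) fi ej :=
    IsPullback.of_right (by rw [hXi'.lift_fst]; exact sqPj) (hXi'.lift_snd _ _ _) hXi'
  have hwj : E.map j.hom ≫ w top = w j.left := (hEm j.hom).2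
  let qj : pullback a (w j.left) ⟶ pullback a (w top) :=
    pullback.lift (pullback.fst _ _) (pullback.snd _ _ ≫ E.map j.hom)
      (by rw [Category.assoc, hwj, pullback.condition])
  have sqj' : IsPullback qj (pullback.snd a (w j.left)) a' (E.map j.hom) := by
    refine IsPullback.of_right ?_ (pullback.lift_snd _ _ _) (IsPullback.of_hasPullback a (w top))
    rw [pullback.lift_fst, hwj]
    exact IsPullback.of_hasPullback _ _
  have hfin : IsFinite ((Over.forget S).map (pullback.snd a (w j.left))) := by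
    rw [← (sqj'.map (Over.forget S)).isoPullback_hom_snd]
    exact (MorphismProperty.cancel_left_of_respectsIso @IsFinite _ _).2 hj
  haveI : Sheaf.IsLocallySurjective ej :=
    chart_isLocallySurjective (repWith_of_isPullback sqej ve) (repWith_of_isPullback sqej vs)
  exact isFiniteMor_iff.2 (repWith_of_base_isAffineHom ej sqlj
    (fun _ _ h (_ : IsFinite h) => (inferInstance : IsAffineHom h)) fppfDescends_isFinite
    ((repWith_yon_map_iff _ _).2 hfin))

/-- If the limit is integral over `Y`, the transition maps are finite and the stages are of finite type over `Y`,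
then the stages are eventually finite over `Y`. -/
theorem eventually_isFiniteMor (hD : ∀ i, IsAlgSpace (D.obj i))
    (hDf : ∀ (i j : I) (φ : i ⟶ j), IsFiniteMor (D.map φ))
    (hqc : ∀ i, IsQuasiCompactSp (D.obj i)) (hqs : ∀ i, IsQuasiSeparatedSp (D.obj i))
    {Y : Sp S} (hY : IsAlgSpace Y) (hYqc : IsQuasiCompactSp Y) (hYqs : IsQuasiSeparatedSp Y)
    (t : D ⟶ (Functor.const I).obj Y) {c : Cone D} (hc : IsLimit c) (g : c.pt ⟶ Y)
    (hg : ∀ i, c.π.app i ≫ t.app i = g) (hft : ∀ i, LocP @LocallyOfFiniteType (t.app i))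
    (hX : IsIntegralMor g) :
    ∃ i₀ : I, ∀ (i : I) (_ : i ⟶ i₀), IsFiniteMor (t.app i) := by
  have hDa : ∀ (i j : I) (φ : i ⟶ j), IsAffineMor (D.map φ) := fun i j φ =>
    isAffineMor_iff.2 (repWith_mono (isFiniteMor_iff.1 (hDf i j φ))
      fun _ _ h (_ : IsFinite h) => (inferInstance : IsAffineHom h))
  have hXa : IsAffineMor g := isAffineMor_iff.2 (repWith_mono (isIntegralMor_iff.1 hX)
      fun _ _ h (_ : IsIntegralHom h) => (inferInstance : IsAffineHom h))
  obtain ⟨i₁, hi₁⟩ := eventually_isAffineMor hD hDa hqc hqs hY hYqc hYqs t hc g hg hXa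
  have haff : RepWith @IsAffineHom (t.app i₁) := isAffineMor_iff.1 (hi₁ i₁ (𝟙 i₁))
  have hnat : ∀ {i j : I} (φ : i ⟶ j), D.map φ ≫ t.app j = t.app i := fun φ => by simpa using t.naturality φ
  obtain ⟨V, v, hV, ve, vs⟩ := exists_affine_atlas_of_qc hYqc
  haveI := hV
  obtain ⟨U, pU, a, sqU⟩ := exists_isPullback_of_representable haff.1 v
  haveI : IsAffineHom a.left := haff.2 _ _ _ sqU
  haveI : IsAffine U.left := isAffine_of_isAffineHom a.left
  obtain ⟨E, cW, f, w, fst, snd, ⟨hcW⟩, hWa, hE, hEm, hEπ, sqW⟩ := exists_affine_chart_limit hDa hc i₁ ‹_› pU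
  haveI := hWa
  haveI : CategoryTheory.IsConnected (CategoryTheory.Over i₁) := IsCofiltered.isConnected _
  let E' : CategoryTheory.Over i₁ ⥤ Scheme.{u} := E ⋙ Over.forget S
  haveI : ∀ j, IsAffine (E'.obj j) := fun j => (hE j).1
  haveI : ∀ (j k : CategoryTheory.Over i₁) (φ : j ⟶ k), IsAffineHom (E'.map φ) :=
    fun j k φ => isAffineHom_of_isAffine _
  have sqm : ∀ {j k : CategoryTheory.Over i₁} (m : j ⟶ k),
      IsPullback (f j) ((yon S).map (E.map m)) (D.map m.left) (f k) := fun {j k} m => by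
    refine IsPullback.of_bot ?_ (hEm m).1.symm (hE k).2
    rw [← Functor.map_comp, (hEm m).2, ← D.map_comp, CategoryTheory.Over.w]
    exact (hE j).2
  haveI : ∀ (j k : CategoryTheory.Over i₁) (φ : j ⟶ k), IsFinite (E'.map φ) :=
    fun j k φ => (isFiniteMor_iff.1 (hDf _ _ φ.left)).2 _ _ _ (sqm φ)
  let tU : E' ⟶ (Functor.const _).obj V.left :=
    { app := fun j => (w j).left ≫ a.left
      naturality := fun j k m => by
        have := congrArg (fun q => q.left ≫ a.left) (hEm m).2
        simpa [E', Functor.const_obj_map] using this }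
  have sqv : ∀ j : CategoryTheory.Over i₁,
      IsPullback (f j) ((yon S).map (w j ≫ a)) (t.app j.left) v := fun j => by
    rw [Functor.map_comp, ← hnat j.hom]
    exact ((hE j).2.flip.paste_horiz sqU.flip).flip
  haveI : ∀ j, LocallyOfFiniteType (tU.app j : E'.obj j ⟶ V.left) := fun j =>
    hft _ (f j) v (w j ≫ a) (repWith_of_isPullback (sqv j).flip ve) ve (sqv j).w
  let top : CategoryTheory.Over i₁ := CategoryTheory.Over.mk (𝟙 i₁)
  haveI : IsIntegralHom (((Over.forget S).mapCone cW).π.app top ≫ tU.app top) := by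
    have sqg : IsPullback fst ((yon S).map (cW.π.app top ≫ w top ≫ a)) g v := by
      rw [← Category.assoc, (hEπ top).2, Functor.map_comp, ← hg i₁]
      exact (sqW.flip.paste_horiz sqU.flip).flip
    exact (isIntegralMor_iff.1 hX).2 _ _ _ sqg
  obtain ⟨k, hk⟩ := LimDesc.eventually_isFinite_of_isAffine E' (isLimitOfPreserves (Over.forget S) hcW) tU top
  haveI : Sheaf.IsLocallySurjective v := chart_isLocallySurjective ve vs
  have htk : RepWith @IsFinite (t.app k.left) :=
    repWith_of_base_isAffineHom v (sqv k) (fun _ _ h (_ : IsFinite h) => (inferInstance : IsAffineHom h))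
      fppfDescends_isFinite ((repWith_yon_map_iff _ _).2 hk)
  refine ⟨k.left, fun i φ => isFiniteMor_iff.2 ?_⟩
  rw [← hnat φ]
  exact repWith_comp (isFiniteMor_iff.1 (hDf _ _ φ)) htk

end GrothLib.AlgSp
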