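import Groth.Agent.Lib.AlgSp.LimitScheme
import Groth.Agent.Lib.AlgSp.LimitEventually
import Groth.Agent.Lib.AlgSp.NormBasic

/-!
# Schemes and base changes to limits

* `exists_stage_baseChange_isRepresentable`: if the base change to the limit is a scheme, then so is the
  base change to a stage.
-/

universe u

open CategoryTheory CategoryTheory.Limits AlgebraicGeometry

namespace GrothLib.AlgSp

open _root_.AlgSp

variable {S : Scheme.{u}} [QuasiSeparatedSpace ↥S] {I : Type u} [SmallCategory I] [IsCofiltered I] {D : I ⥤ Sp S}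

set_option backward.isDefEq.respectTransparency false

/-- If the base change to the limit is a scheme, then so is the base change to some stage. -/
theorem exists_stage_baseChange_isRepresentable (hD : ∀ i, IsAlgSpace (D.obj i))
    (hDa : ∀ (i j : I) (φ : i ⟶ j), IsAffineMor (D.map φ)) {c : Cone D} (hc : IsLimit c) {i₀ : I}
    {X₀ : Sp S} (hX₀ : IsAlgSpace X₀) (hXqc : IsQuasiCompactSp X₀) (hXqs : IsQuasiSeparatedSp X₀)
    (g₀ : X₀ ⟶ D.obj i₀) {X : Sp S} {pX : X ⟶ X₀} {qX : X ⟶ c.pt}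
    (hX : IsPullback pX qX g₀ (c.π.app i₀)) (hr : X.obj.IsRepresentable) :
    ∃ (i : I) (φ : i ⟶ i₀) (P : Sp S) (p : P ⟶ X₀) (q : P ⟶ D.obj i),
      IsPullback p q g₀ (D.map φ) ∧ P.obj.IsRepresentable := by
  obtain ⟨E, p, q, cE, e, ⟨hcE⟩, hE, hEqc, hEqs, hEa, hsq, -⟩ :=
    exists_baseChange_system hD hDa hc hX₀ hXqc hXqs g₀ hX
  obtain ⟨M, ⟨r⟩⟩ := hr.has_representation
  obtain ⟨j, hj⟩ := exists_stage_isRepresentable hE hEa hEqc hEqs hcE (isoOfRepresentableBy r ≪≫ e.symm)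
  exact ⟨j.left, j.hom, E.obj j, p.app j, q.app j, hsq j, hj⟩

/-- Quasi-compact and quasi-separated morphisms pull back quasi-compact and quasi-separated spaces. -/
theorem qc_qs_of_isPullback {X G Z P : Sp S} {f : X ⟶ G} {g : Z ⟶ G} {fst : P ⟶ X} {snd : P ⟶ Z}
    (sq : IsPullback fst snd f g) (hqc : IsQuasiCompactMor f) (hqs : IsQuasiSeparatedMor f)
    (hZ : IsAlgSpace Z) (hZqc : IsQuasiCompactSp Z) (hZqs : IsQuasiSeparatedSp Z) :
    IsQuasiCompactSp P ∧ IsQuasiSeparatedSp P := by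
  exact ⟨hqc hZ hZqc g fst snd sq,
    isQuasiSeparatedSp_of_mor (f := snd) (isQuasiSeparatedMor_of_isPullback' sq hqs) hZqs⟩

end GrothLib.AlgSp
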