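import Groth.Agent.Lib.AlgSp.LimitDescDiag
import Groth.Agent.Lib.AlgSp.UnramMono
import Groth.Agent.Lib.AlgSp.ClosedSub
import Groth.Agent.Lib.AlgSp.ImmersionDescent
import Groth.Agent.Lib.LimDesc.Closed

/-!
# Closed immersions descend to a stage

* `descend_closedImmersion`: closed immersions of finite type descend to a stage;
* `descend_isSeparatedMor`: separated morphisms descend to a stage.
-/

universe u

open CategoryTheory CategoryTheory.Limits AlgebraicGeometry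

namespace GrothLib.AlgSp

open _root_.AlgSp GrothLib.LimDesc

variable {S : Scheme.{u}} {I : Type u} [SmallCategory I] [IsCofiltered I] {D : I ⥤ Sp S}

set_option backward.isDefEq.respectTransparency false

section
variable [QuasiSeparatedSpace ↥S] (hD : ∀ i, IsAlgSpace (D.obj i))
  (hDa : ∀ (i j : I) (φ : i ⟶ j), IsAffineMor (D.map φ)) {c : Cone D} (hc : IsLimit c) {i₀ : I}
  {X₀ Y₀ : Sp S} (hX₀ : IsAlgSpace X₀) (hY₀ : IsAlgSpace Y₀) (f₀ : X₀ ⟶ Y₀) (b₀ : Y₀ ⟶ D.obj i₀)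
  (hXqc : IsQuasiCompactSp X₀) (hXqs : IsQuasiSeparatedSp X₀)
  (hYqc : IsQuasiCompactSp Y₀) (hYqs : IsQuasiSeparatedSp Y₀)
  {X Y : Sp S} {f : X ⟶ Y} {pY : Y ⟶ Y₀} {qY : Y ⟶ c.pt}
  (hY : IsPullback pY qY b₀ (c.π.app i₀)) {pX : X ⟶ X₀} (hX : IsPullback pX f f₀ pY)

include hD hDa hc hX₀ hY₀ hXqc hXqs hYqc hYqs hY hX in
/-- Closed immersions of finite type descend to a stage. -/
theorem descend_closedImmersion (hf : RepWith @IsClosedImmersion f) (hf₀ : LocP @LocallyOfFiniteType f₀) :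
    ∃ (i : I) (φ : i ⟶ i₀), ∀ (Xi Yi : Sp S) (fi : Xi ⟶ Yi) (pYi : Yi ⟶ Y₀) (qYi : Yi ⟶ D.obj i)
      (_ : IsPullback pYi qYi b₀ (D.map φ)) (pXi : Xi ⟶ X₀) (_ : IsPullback pXi fi f₀ pYi),
      RepWith @IsClosedImmersion fi := by
  haveI : Mono f := mono_of_closedImmersion hf
  obtain ⟨j, ψ, hj⟩ := descend_mono hD hDa hc hX₀ hY₀ f₀ b₀ hXqc hXqs hYqs hY hX hf₀
  -- the stage `j`
  let Yj := pullback b₀ (D.map ψ)
  let pYj : Yj ⟶ Y₀ := pullback.fst b₀ (D.map ψ)
  let Xj := pullback f₀ pYj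
  let fj : Xj ⟶ Yj := pullback.snd f₀ pYj
  have sYj : IsPullback pYj (pullback.snd b₀ (D.map ψ)) b₀ (D.map ψ) := IsPullback.of_hasPullback _ _
  have sXj : IsPullback (pullback.fst f₀ pYj) fj f₀ pYj := IsPullback.of_hasPullback _ _
  haveI : Mono fj := hj Xj Yj fj _ _ sYj _ sXj
  have hYj' : IsAlgSpace Yj := isAlgSpace_pullback (hD i₀).diag hY₀ (hD j) sYj
  have hXj' : IsAlgSpace Xj := isAlgSpace_pullback hY₀.diag hX₀ hYj' sXj
  have hftj : LocP @LocallyOfFiniteType fj := EtLocal.lft.locP_of_isPullback hX₀ hY₀ hYj' sXj hf₀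
  have hrj : Representable fj := representable_of_lft_mono hXj' hYj' hftj
  have hqcj : IsQuasiCompactMor fj := fun Z Z' hZ hZc g fst snd sqZ =>
    isQuasiCompactMor_of_qc_qs hY₀ hXqc hYqs f₀ hZ hZc (g ≫ pYj) (fst ≫ pullback.fst f₀ pYj) snd
      (sqZ.paste_horiz sXj)
  -- affine charts
  obtain ⟨V₀, q, hV₀, qe, qs⟩ := exists_affine_atlas_of_qc hYqc
  haveI := hV₀
  obtain ⟨E, cW, f', w, fst, snd, ⟨hcW⟩, -, hE, hEm, hEπ, sqW⟩ :=
    exists_affine_chart_limit hDa hc i₀ hV₀ (q ≫ b₀)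
  let jj : CategoryTheory.Over i₀ := CategoryTheory.Over.mk ψ
  have ex : ∀ {k : CategoryTheory.Over i₀} {Yk : Sp S} {pYk : Yk ⟶ Y₀} {qYk : Yk ⟶ D.obj k.left}
      (_ : IsPullback pYk qYk b₀ (D.map k.hom)), ∃ ek : (yon S).obj (E.obj k) ⟶ Yk,
      IsPullback ((yon S).map (w k)) ek q pYk ∧ ek ≫ qYk = f' k := by
    intro k Yk pYk qYk hYk
    refine ⟨hYk.lift ((yon S).map (w k) ≫ q) (f' k) (by rw [Category.assoc, ← (hE k).2.w]), ?_, hYk.lift_snd _ _ _⟩
    exact IsPullback.of_bot (v₂₁ := qYk) (v₂₂ := b₀) (by rw [hYk.lift_snd]; exact (hE k).2.flip)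
      (hYk.lift_fst _ _ _).symm hYk
  obtain ⟨ej, sqej, hej⟩ := ex (k := jj) sYj
  obtain ⟨T, t', t, sqT⟩ := exists_isPullback_of_representable hrj ej
  haveI : QuasiCompact t.left := (repWith_quasiCompact_of_isQuasiCompactMor hrj hqcj).2 _ _ _ sqT
  haveI : LocallyOfFiniteType t.left := (EtLocal.repWith_of_locP EtLocal.lft hYj' hrj hftj).2 _ _ _ sqT
  haveI : Mono t.left := (repWith_monomorphisms_of_mono hrj).2 _ _ _ sqT
  haveI : IsAffine (E.obj jj).left := (hE jj).1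
  haveI : CompactSpace ↥T.left := QuasiCompact.compactSpace_of_compactSpace t.left
  haveI : QuasiSeparatedSpace ↥T.left := quasiSeparatedSpace_of_quasiSeparated t.left
  -- the limit chart
  let eW : (yon S).obj cW.pt ⟶ Y := hY.lift ((yon S).map snd ≫ q) fst (by rw [Category.assoc, ← sqW.w])
  let rY : Y ⟶ Yj := sYj.lift pY (qY ≫ c.π.app j) (by rw [Category.assoc, c.w, hY.w])
  let rX : X ⟶ Xj := sXj.lift pX (f ≫ rY) (by rw [Category.assoc, sYj.lift_fst, hX.w])
  have sqr : IsPullback rX f fj rY := IsPullback.of_right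
    (by rw [sXj.lift_fst, sYj.lift_fst]; exact hX) (sXj.lift_snd _ _ _) sXj
  have hcomm : eW ≫ rY = (yon S).map (cW.π.app jj) ≫ ej := by
    apply sYj.hom_ext
    · rw [Category.assoc, sYj.lift_fst, hY.lift_fst, Category.assoc, ← sqej.w, ← Functor.map_comp_assoc,
        (hEπ jj).2]
    · rw [Category.assoc, sYj.lift_snd, hY.lift_snd_assoc, Category.assoc, hej]
      exact (hEπ jj).1
  have sqL := IsPullback.of_hasPullback t (cW.π.app jj)
  have big : IsPullback ((yon S).map (pullback.fst t (cW.π.app jj)) ≫ t')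
      ((yon S).map (pullback.snd t (cW.π.app jj))) fj (eW ≫ rY) := by
    rw [hcomm]
    exact (isPullback_yon sqL).paste_horiz sqT
  let m := sqr.lift ((yon S).map (pullback.fst t (cW.π.app jj)) ≫ t')
    ((yon S).map (pullback.snd t (cW.π.app jj)) ≫ eW) (by rw [Category.assoc]; exact big.w)
  have sqm : IsPullback m ((yon S).map (pullback.snd t (cW.π.app jj))) f eW :=
    IsPullback.of_right (by rw [sqr.lift_fst]; exact big) (sqr.lift_snd _ _ _) sqr
  haveI : IsClosedImmersion ((Over.forget S).map (pullback.snd t (cW.π.app jj))) := hf.2 _ _ _ sqm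
  -- descend on the chart
  haveI : CategoryTheory.IsConnected (CategoryTheory.Over i₀) := IsCofiltered.isConnected _
  let E' : CategoryTheory.Over i₀ ⥤ Scheme.{u} := E ⋙ Over.forget S
  haveI : ∀ (j k : CategoryTheory.Over i₀) (φ : j ⟶ k), IsAffineHom (E'.map φ) := fun j k φ => by
    haveI : IsAffine (E'.obj j) := (hE j).1
    haveI : IsAffine (E'.obj k) := (hE k).1
    exact isAffineHom_of_isAffine _
  haveI : IsAffine (E'.obj jj) := (hE jj).1
  obtain ⟨k, hk⟩ := LimDesc.exists_isClosedImmersion_snd E' (isLimitOfPreserves (Over.forget S) hcW) t.left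
    (sqL.map (Over.forget S))
  refine ⟨k.left.left, k.left.hom, fun Xk Yk fk pYk qYk hYk pXk hXk => ?_⟩
  obtain ⟨ek, sqek, hek⟩ := ex hYk
  haveI : Sheaf.IsLocallySurjective ek :=
    chart_isLocallySurjective (repWith_of_isPullback sqek qe) (repWith_of_isPullback sqek qs)
  have hu : k.hom.left ≫ ψ = k.left.hom := CategoryTheory.Over.w k.hom
  let sY : Yk ⟶ Yj := sYj.lift pYk (qYk ≫ D.map k.hom.left)
    (by rw [Category.assoc, ← D.map_comp, hu, hYk.w])
  let sX : Xk ⟶ Xj := sXj.lift pXk (fk ≫ sY) (by rw [Category.assoc, sYj.lift_fst, hXk.w])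
  have sqs : IsPullback sX fk fj sY := IsPullback.of_right
    (by rw [sXj.lift_fst, sYj.lift_fst]; exact hXk) (sXj.lift_snd _ _ _) sXj
  have hcommk : ek ≫ sY = (yon S).map (E.map k.hom) ≫ ej := by
    apply sYj.hom_ext
    · rw [Category.assoc, sYj.lift_fst, ← sqek.w, Category.assoc, ← sqej.w, ← Functor.map_comp_assoc,
        (hEm k.hom).2]
    · rw [Category.assoc, sYj.lift_snd, reassoc_of% hek, Category.assoc, hej]
      exact (hEm k.hom).1.symm
  have sqK := IsPullback.of_hasPullback t (E.map k.hom)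
  have bigk : IsPullback ((yon S).map (pullback.fst t (E.map k.hom)) ≫ t')
      ((yon S).map (pullback.snd t (E.map k.hom))) fj (ek ≫ sY) := by
    rw [hcommk]
    exact (isPullback_yon sqK).paste_horiz sqT
  let mk' := sqs.lift ((yon S).map (pullback.fst t (E.map k.hom)) ≫ t')
    ((yon S).map (pullback.snd t (E.map k.hom)) ≫ ek) (by rw [Category.assoc]; exact bigk.w)
  have sqmk : IsPullback mk' ((yon S).map (pullback.snd t (E.map k.hom))) fk ek :=
    IsPullback.of_right (by rw [sqs.lift_fst]; exact bigk) (sqs.lift_snd _ _ _) sqs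
  refine repWith_of_base_isAffineHom ek sqmk (fun _ _ g (_ : IsClosedImmersion g) => inferInstance)
    fppfDescends_isClosedImmersion ((repWith_yon_map_iff _ _).2 ?_)
  haveI : IsClosedImmersion (pullback.snd t.left (E'.map k.hom)) := hk
  have := (sqK.map (Over.forget S)).isoPullback_hom_snd
  change IsClosedImmersion ((Over.forget S).map (pullback.snd t (E.map k.hom)))
  rw [← this]
  exact (MorphismProperty.cancel_left_of_respectsIso @IsClosedImmersion _ _).2 hk

include hD hDa hc hX₀ hY₀ hXqc hXqs hYqs hY hX in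
/-- Separated morphisms descend to a stage (the diagonal is always locally of finite type). -/
theorem descend_isSeparatedMor (hf : IsSeparatedMor f) :
    ∃ (i : I) (φ : i ⟶ i₀), ∀ (Xi Yi : Sp S) (fi : Xi ⟶ Yi) (pYi : Yi ⟶ Y₀) (qYi : Yi ⟶ D.obj i)
      (_ : IsPullback pYi qYi b₀ (D.map φ)) (pXi : Xi ⟶ X₀) (_ : IsPullback pXi fi f₀ pYi),
      IsSeparatedMor fi := by
  obtain ⟨hPqc, hPqs⟩ := qc_qs_fibreProduct hX₀ hY₀ f₀ hXqc hXqs hYqs
  obtain ⟨i, φ, hi⟩ := descend_closedImmersion hD hDa hc hX₀ (isAlgSpace_pullback' hY₀ hX₀ hX₀ f₀ f₀)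
    (pullback.diagonal f₀) (pullback.fst f₀ f₀ ≫ f₀ ≫ b₀) hXqc hXqs hPqc hPqs
    (qY := (pullback.fst f f ≫ f) ≫ qY)
    (by rw [← Category.assoc]; exact (isPullback_map_fibreProduct hX).paste_vert hY)
    (isPullback_diagonal_of_isPullback hX) hf
    (EtLocal.lft.locP_of_repWith (isAlgSpace_pullback' hY₀ hX₀ hX₀ f₀ f₀)
      (repWith_diagonal f₀ (repWith_diag_lft hX₀)))
  refine ⟨i, φ, fun Xi Yi fi pYi qYi hYi pXi hXi => ?_⟩
  exact hi Xi (pullback fi fi) (pullback.diagonal fi) _ ((pullback.fst fi fi ≫ fi) ≫ qYi)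
    (by rw [← Category.assoc]; exact (isPullback_map_fibreProduct hXi).paste_vert hYi) pXi
    (isPullback_diagonal_of_isPullback hXi)

end

end GrothLib.AlgSp
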