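import Groth.Agent.Lib.AlgSp.LimitLift
import Groth.Agent.Lib.AlgSp.LimitDesc
import Groth.Agent.Lib.AlgSp.Limit
import Groth.Agent.Lib.AlgSp.FpqcSheaf
import Groth.Agent.Lib.AlgSp.FppfCover

/-!
# Morphisms of finite presentation and limits of algebraic spaces

* `exists_stage_eq_affine`, `exists_stage_eq_space`: maps agreeing on the limit agree at a stage;
* `exists_stage_hom`: maps out of a limit of spaces come from a stage.
-/

set_option autoImplicit false

universe u

open CategoryTheory CategoryTheory.Limits AlgebraicGeometry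

namespace GrothLib.AlgSp.LimitHom

open _root_.AlgSp GrothLib.AlgSp

set_option backward.isDefEq.respectTransparency false

variable {S : Scheme.{u}} {I : Type u} [SmallCategory I] [IsCofiltered I] {D : I ⥤ Sp S}
  (hDa : ∀ (i j : I) (φ : i ⟶ j), IsAffineMor (D.map φ)) {c : Cone D} (hc : IsLimit c)
  {X Y : Sp S} (hX : IsAlgSpace X) (hY : IsAlgSpace Y) {f : X ⟶ Y} (hf : LocP @LocallyOfFinitePresentation f)

theorem epi_of_atlas {F : Sp S} {U : Over S} {p : (yon S).obj U ⟶ F} (pe : RepWith @Etale p)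
    (ps : RepWith @Surjective p) : Epi p :=
  (Sheaf.isLocallySurjective_iff_epi _).1 (chart_isLocallySurjective pe ps)

include hDa hc hX hY hf in
/-- Maps from an affine scheme over a stage which agree over the limit agree over a later stage. -/
theorem exists_stage_eq_affine {i : I} {W : Over S} (hW : IsAffine W.left) (r : (yon S).obj W ⟶ D.obj i)
    (x x' : (yon S).obj W ⟶ X) (h₁ : x ≫ f = x' ≫ f)
    (h₂ : ∀ ⦃T : Sp S⦄ (t : T ⟶ c.pt) (s : T ⟶ (yon S).obj W), s ≫ r = t ≫ c.π.app i → s ≫ x = s ≫ x') :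
    ∃ (j : I) (φ : j ⟶ i), ∀ ⦃T : Sp S⦄ (t : T ⟶ D.obj j) (s : T ⟶ (yon S).obj W),
      s ≫ r = t ≫ D.map φ → s ≫ x = s ≫ x' := by
  haveI : CategoryTheory.IsConnected (CategoryTheory.Over i) := IsCofiltered.isConnected _
  obtain ⟨E, cW, g, w, fst, snd, ⟨hcW⟩, hWa, hEj, hEn, hEπ, sqW⟩ := exists_affine_chart_limit hDa hc i hW r
  let top : CategoryTheory.Over i := CategoryTheory.Over.mk (𝟙 i)
  obtain ⟨j, φ, hj⟩ := exists_stage_eq (isLimitOfPreserves (Over.forget S) hcW) (fun j => (hEj j).1) hX hY hf top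
    ((yon S).map (w top) ≫ x) ((yon S).map (w top) ≫ x') (by rw [Category.assoc, Category.assoc, h₁]) (by
      rw [← Functor.map_comp_assoc, ← Functor.map_comp_assoc, (hEπ top).2]
      exact h₂ fst _ sqW.w.symm)
  refine ⟨j.left, j.hom, fun T t s hs => ?_⟩
  obtain ⟨l, -, hl⟩ := (hEj j).2.exists_lift t s hs.symm
  rw [← Functor.map_comp_assoc, ← Functor.map_comp_assoc, (hEn φ).2] at hj
  rw [← hl, Category.assoc, Category.assoc, hj]

include hDa hc hX hY hf in
/-- Maps from a stage which agree on the limit agree at a later stage. -/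
theorem exists_stage_eq_space {i : I} (hqc : IsQuasiCompactSp (D.obj i)) (x x' : D.obj i ⟶ X)
    (h₁ : x ≫ f = x' ≫ f) (h₂ : c.π.app i ≫ x = c.π.app i ≫ x') :
    ∃ (j : I) (φ : j ⟶ i), D.map φ ≫ x = D.map φ ≫ x' := by
  obtain ⟨W, p, hW, pe, ps⟩ := exists_affine_atlas_of_qc hqc
  obtain ⟨j, φ, hj⟩ := exists_stage_eq_affine hDa hc hX hY hf hW p (p ≫ x) (p ≫ x')
    (by rw [Category.assoc, Category.assoc, h₁]) (fun T t s hs => by
      rw [reassoc_of% hs, reassoc_of% hs, h₂])
  obtain ⟨Z, w, g, sq, -⟩ := hDa _ _ φ hW p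
  haveI := epi_of_atlas (repWith_of_isPullback sq.flip pe) (repWith_of_isPullback sq.flip ps)
  refine ⟨j, φ, ?_⟩
  have := hj g ((yon S).map w) sq.w.symm
  rw [← cancel_epi g, ← Category.assoc, ← Category.assoc, sq.w, Category.assoc, Category.assoc]
  exact this

include hDa hc hX hY hf in
/-- Maps out of a limit of algebraic spaces into a space of finite presentation come from a stage. -/
theorem exists_stage_hom [QuasiSeparatedSpace ↥S] (hD : ∀ i, IsAlgSpace (D.obj i))
    (hqc : ∀ i, IsQuasiCompactSp (D.obj i)) (hqs : ∀ i, IsQuasiSeparatedSp (D.obj i))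
    (x : c.pt ⟶ X) (i : I) (y : D.obj i ⟶ Y) (hxy : x ≫ f = c.π.app i ≫ y) :
    ∃ (j : I) (φ : j ⟶ i) (x' : D.obj j ⟶ X), c.π.app j ≫ x' = x ∧ x' ≫ f = D.map φ ≫ y := by
  haveI : CategoryTheory.IsConnected (CategoryTheory.Over i) := IsCofiltered.isConnected _
  obtain ⟨A, p, hA, pe, ps⟩ := exists_affine_atlas_of_qc (hqc i)
  obtain ⟨E, cW, g, w, fst, snd, ⟨hcW⟩, hWa, hEj, hEn, hEπ, sqW⟩ := exists_affine_chart_limit hDa hc i hA p
  haveI := hWa
  let top : CategoryTheory.Over i := CategoryTheory.Over.mk (𝟙 i)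
  have hnat : ∀ j : CategoryTheory.Over i, (yon S).map (cW.π.app j) ≫ g j ≫ D.map j.hom = fst ≫ c.π.app i :=
    fun j => by rw [← Category.assoc, ← (hEπ j).1, Category.assoc, c.w]
  obtain ⟨j, φ, x', hx, hxf⟩ := exists_stage_point (isLimitOfPreserves (Over.forget S) hcW) (fun j => (hEj j).1)
    hX hY hf (fst ≫ x) top ((g top ≫ D.map top.hom) ≫ y)
    (by rw [Category.assoc, hxy, ← Category.assoc, ← hnat top]; simp only [Category.assoc])
  have hxf' : x' ≫ f = g j ≫ D.map j.hom ≫ y := by
    rw [hxf, ← Category.assoc, ← Category.assoc, (hEn φ).1, Category.assoc, Category.assoc, ← D.map_comp_assoc]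
    exact congrArg (fun e => g j ≫ D.map e ≫ y) (CategoryTheory.Over.w φ)
  have sqj : IsPullback fst ((yon S).map (cW.π.app j)) (c.π.app j.left) (g j) := by
    refine IsPullback.of_bot (v₂₁ := (yon S).map (w j)) (v₂₂ := D.map j.hom) (h₃₁ := p) ?_ (hEπ j).1 (hEj j).2
    rw [← Functor.map_comp, (hEπ j).2, c.w]
    exact sqW
  have hge : RepWith @Etale (g j) := repWith_of_isPullback (hEj j).2.flip pe
  have hgs : RepWith @Surjective (g j) := repWith_of_isPullback (hEj j).2.flip ps
  haveI : IsAffine (E.obj j).left := (hEj j).1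
  -- agreement on the overlaps over the limit
  obtain ⟨R, r₁, r₂, sqR⟩ := exists_isPullback_yon (hD j.left).diag (g j) (g j)
  haveI : QuasiCompact r₂.left := (repWith_quasiCompact_chart (hD j.left) (hqs j.left) (g j)).2 _ _ _ sqR
  haveI : CompactSpace ↥R.left := QuasiCompact.compactSpace_of_compactSpace r₂.left
  obtain ⟨W, o, hW, hoe, hos⟩ := exists_affine_cover_etale R
  obtain ⟨j₂, φ₂, hj₂⟩ := exists_stage_eq_affine hDa hc hX hY hf (i := j.left) hW ((yon S).map (o ≫ r₁) ≫ g j)
    ((yon S).map (o ≫ r₁) ≫ x') ((yon S).map (o ≫ r₂) ≫ x') (by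
      rw [Category.assoc, Category.assoc, hxf']
      simp only [Functor.map_comp, Category.assoc]
      rw [reassoc_of% sqR.w])
    (fun T t s hs => by
      obtain ⟨l, hl, hl'⟩ := sqj.exists_lift t (s ≫ (yon S).map (o ≫ r₁)) (by rw [Category.assoc]; exact hs.symm)
      obtain ⟨m, hm, hm'⟩ := sqj.exists_lift t (s ≫ (yon S).map (o ≫ r₂)) (by
        rw [← hs]
        simp only [Functor.map_comp, Category.assoc]
        rw [sqR.w])
      rw [← Category.assoc, ← Category.assoc, ← hl', ← hm', Category.assoc, Category.assoc, hx,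
        reassoc_of% hl, reassoc_of% hm])
  let k : CategoryTheory.Over i := CategoryTheory.Over.mk (φ₂ ≫ j.hom)
  let μ : k ⟶ j := CategoryTheory.Over.homMk φ₂ rfl
  have hke : RepWith @Etale (g k) := repWith_of_isPullback (hEj k).2.flip pe
  have hks : RepWith @Surjective (g k) := repWith_of_isPullback (hEj k).2.flip ps
  have hkc : IsFpqcCover (fun _ : PUnit.{u + 1} => (yon S).obj (E.obj k)) (fun _ => g k) := by
    have he := isEtaleMor_of_locP (hD k.left) (EtLocal.etale.locP_of_repWith (hD k.left) hke)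
    refine isFpqcCover_of_isFppfCover (hD k.left) (fun _ => IsAlgSpace.yon_obj _)
      ⟨fun _ => ⟨locP_mono (fun _ _ e (_ : Etale e) => (inferInstance : Flat e)) (locP_of_isEtaleMor (hD k.left) he),
        locP_mono (fun _ _ e (_ : Etale e) => (inferInstance : LocallyOfFinitePresentation e))
          (locP_of_isEtaleMor (hD k.left) he)⟩, fun z => ?_⟩
    obtain ⟨v, hv⟩ := surjective_ofPt_of_repWith hks z
    exact ⟨PUnit.unit, Points.ofScheme _ v, by rw [← Points.ofPt_eq_map_ofScheme]; exact hv⟩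
  have hagree : pullback.fst (g k) (g k) ≫ (yon S).map (E.map μ) ≫ x' =
      pullback.snd (g k) (g k) ≫ (yon S).map (E.map μ) ≫ x' := by
    have hμ : (yon S).map (E.map μ) ≫ g j = g k ≫ D.map φ₂ := (hEn μ).1
    obtain ⟨l, hl₁, hl₂⟩ := sqR.exists_lift (pullback.fst (g k) (g k) ≫ (yon S).map (E.map μ))
      (pullback.snd (g k) (g k) ≫ (yon S).map (E.map μ)) (by
        rw [Category.assoc, Category.assoc, hμ, pullback.condition_assoc])
    have sqo := IsPullback.of_hasPullback ((yon S).map o) l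
    haveI := hoe
    haveI := hos
    haveI : Etale o.left := hoe
    have hoe' : RepWith @Etale ((yon S).map o) := (repWith_yon_map_iff _ _).2 hoe
    have hos' : RepWith @Surjective ((yon S).map o) := (repWith_yon_map_iff _ _).2 hos
    haveI : Epi (pullback.snd ((yon S).map o) l) := (Sheaf.isLocallySurjective_iff_epi _).1
      (isLocallySurjective_of_repWith
        (repWith_mono (repWith_of_isPullback sqo hoe') fun _ _ e (_ : Etale e) => (inferInstance : Flat e))
        (repWith_mono (repWith_of_isPullback sqo hoe') fun _ _ e (_ : Etale e) =>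
          (inferInstance : LocallyOfFinitePresentation e))
        (repWith_of_isPullback sqo hos'))
    have := hj₂ (pullback.snd _ l ≫ pullback.fst (g k) (g k) ≫ g k) (pullback.fst ((yon S).map o) l) (by
      rw [Functor.map_comp, Category.assoc, pullback.condition_assoc, reassoc_of% hl₁, hμ]
      simp only [Category.assoc])
    simp only [Functor.map_comp, Category.assoc] at this
    rw [pullback.condition_assoc, pullback.condition_assoc, reassoc_of% hl₁, reassoc_of% hl₂] at this
    exact (cancel_epi _).1 this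
  obtain ⟨β, hβ⟩ := exists_hom_of_isFpqcCover hkc hX (b := fun _ => (yon S).map (E.map μ) ≫ x') fun _ _ => hagree
  haveI := epi_of_atlas hke hks
  refine ⟨k.left, k.hom, β, ?_, ?_⟩
  · have sqk : IsPullback fst ((yon S).map (cW.π.app k)) (c.π.app k.left) (g k) := by
      refine IsPullback.of_bot (v₂₁ := (yon S).map (w k)) (v₂₂ := D.map k.hom) (h₃₁ := p) ?_ (hEπ k).1 (hEj k).2
      rw [← Functor.map_comp, (hEπ k).2, c.w]
      exact sqW
    haveI := epi_of_atlas (repWith_of_isPullback sqk.flip hke) (repWith_of_isPullback sqk.flip hks)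
    rw [← cancel_epi fst, ← Category.assoc, sqk.w, Category.assoc, hβ PUnit.unit, ← Functor.map_comp_assoc, cW.w, hx]
  · rw [← cancel_epi (g k), ← Category.assoc, hβ PUnit.unit, Category.assoc, hxf', ← Category.assoc, (hEn μ).1,
      Category.assoc, ← D.map_comp_assoc]
    rfl

end GrothLib.AlgSp.LimitHom
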