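import Groth.Agent.Lib.AlgSp.LocP
import Groth.Agent.Lib.AlgSp.Space
import Groth.Agent.Lib.FPCrit.Basic

/-!
# Limit preservation and local finite presentation

* `locP_lfp_of_lifts`: a morphism of spaces along which points lift from limits is of finite presentation.
-/

universe u

open CategoryTheory CategoryTheory.Limits AlgebraicGeometry Opposite

namespace GrothLib.AlgSp

open _root_.AlgSp

variable {S : Scheme.{u}}

set_option backward.isDefEq.respectTransparency false

/-- Points over limits of affine schemes lift to a stage. -/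
def LiftsPoints {X Y : Sp S} (f : X ⟶ Y) : Prop :=
  ∀ ⦃I : Type u⦄ [SmallCategory I] [IsCofiltered I] (D : I ⥤ Over S) (c : Cone D),
    IsLimit ((Over.forget S).mapCone c) → (∀ i, IsAffine (D.obj i).left) → IsAffine c.pt.left →
    ∀ (x : (yon S).obj c.pt ⟶ X) (i : I) (y : (yon S).obj (D.obj i) ⟶ Y),
      x ≫ f = (yon S).map (c.π.app i) ≫ y →
      ∃ (i' : I) (φ : i' ⟶ i) (x' : (yon S).obj (D.obj i') ⟶ X),
        (yon S).map (c.π.app i') ≫ x' = x ∧ x' ≫ f = (yon S).map (D.map φ) ≫ y

/-- A morphism along which points of limits lift is locally of finite presentation. -/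
theorem locP_lfp_of_lifts {X Y : Sp S} (hX : IsAlgSpace X) (hY : IsAlgSpace Y) (f : X ⟶ Y) (h : LiftsPoints f) :
    LocP @LocallyOfFinitePresentation f := by
  obtain ⟨V, b, be, bs⟩ := hY.atlas
  obtain ⟨U, a, α, ae, hab, has⟩ := exists_chart_over hX hY f b be
  refine EtLocal.lfp.locP_of_chart ae (has bs) be hab ?_
  refine FPCrit.locallyOfFinitePresentation_of_lifts α.left fun W hW J _ _ _ F cF hcF G hG => ?_
  -- the system
  have hspec : ∀ {A B : Under Γ(V.left, W)} (q : A ⟶ B), Spec.map q.right ≫ Spec.map A.hom = Spec.map B.hom :=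
    fun q => by rw [← Spec.map_comp, Under.w]
  let D : Jᵒᵖ ⥤ Over S :=
    { obj := fun j => Over.mk (Spec.map (F.obj j.unop).hom ≫ hW.fromSpec ≫ V.hom)
      map := fun {j k} φ => Over.homMk (Spec.map (F.map φ.unop).right) (by
        simp only [Over.mk_hom]
        rw [reassoc_of% hspec])
      map_id := fun j => Over.OverMorphism.ext (by simp)
      map_comp := fun φ ψ => Over.OverMorphism.ext (by simp) }
  let c : Cone D :=
    { pt := Over.mk (Spec.map cF.pt.hom ≫ hW.fromSpec ≫ V.hom)
      π :=
        { app := fun j => Over.homMk (Spec.map (cF.ι.app j.unop).right) (by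
            simp only [Functor.const_obj_obj, Over.mk_hom, D]
            rw [reassoc_of% hspec])
          naturality := fun j k φ => Over.OverMorphism.ext (by
            simp only [Functor.const_obj_map, Category.id_comp, Over.id_left, Over.homMk_left, Over.comp_left, D]
            rw [← Spec.map_comp, ← Under.comp_right, cF.w]
            exact Category.id_comp _) } }
  have hc : IsLimit ((Over.forget S).mapCone c) :=
    let D' : Jᵒᵖ ⥤ Scheme.{u} := (F ⋙ Under.forget _).op ⋙ Scheme.Spec
    let e : D' ≅ D ⋙ Over.forget S := NatIso.ofComponents (fun j => Iso.refl _) (fun φ => by simp [D, D'])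
    IsLimit.ofIsoLimit ((IsLimit.postcomposeHomEquiv e _).symm (isLimitOfPreserves Scheme.Spec hcF.op))
      (Cone.ext (Iso.refl _) (fun j => by simp [c, e, D']))
  have hDaff : ∀ j, IsAffine (D.obj j).left := fun j => inferInstanceAs (IsAffine (Spec _))
  have hTaff : IsAffine c.pt.left := inferInstanceAs (IsAffine (Spec _))
  let v : ∀ j, D.obj j ⟶ V := fun j => Over.homMk (Spec.map (F.obj j.unop).hom ≫ hW.fromSpec)
    (by simp [D])
  have hv : ∀ {j k} (φ : j ⟶ k), D.map φ ≫ v k = v j := fun {j k} φ => Over.OverMorphism.ext (by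
    simp only [Over.comp_left, v, D, Over.homMk_left]
    rw [reassoc_of% hspec])
  let G' : c.pt ⟶ U := Over.homMk G (by
    rw [← Over.w α, ← Category.assoc, hG, Category.assoc]
    rfl)
  obtain ⟨i⟩ := (IsCofiltered.nonempty : Nonempty Jᵒᵖ)
  have hGv : ∀ j, c.π.app j ≫ v j = G' ≫ α := fun j => Over.OverMorphism.ext (by
    simp only [Over.comp_left, v, Over.homMk_left, c, G', hG]
    rw [reassoc_of% hspec]
    rfl)
  obtain ⟨i', φ, x', hx', hx'f⟩ := h D c hc hDaff hTaff ((yon S).map G' ≫ a) i ((yon S).map (v i) ≫ b) (by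
    rw [Category.assoc, hab, ← Functor.map_comp_assoc, ← Functor.map_comp_assoc, hGv])
  rw [← Functor.map_comp_assoc, hv] at hx'f
  -- `U ⟶ X ×_Y V` is etale
  let P := pullback f b
  have hP : IsAlgSpace P := isAlgSpace_pullback' hY hX (IsAlgSpace.yon_obj V) f b
  let l : (yon S).obj U ⟶ P := pullback.lift a ((yon S).map α) hab
  have hl : LocP @Etale l := by
    refine EtLocal.etale.locP_cancel (fun A B C f g (h₁ : Etale (f ≫ g)) (h₂ : Etale g) => Etale.of_comp f g)
      (IsAlgSpace.yon_obj U) hP hX (g := pullback.fst f b) ?_ ?_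
    · rw [pullback.lift_fst]; exact EtLocal.etale.locP_of_repWith hX ae
    · exact EtLocal.etale.locP_of_repWith hX (repWith_of_isPullback (IsPullback.of_hasPullback f b).flip be)
  have hle : RepWith @Etale l := EtLocal.etale.repWith_of_locP hP (representable_of_source_scheme hP l) hl
  let y : (yon S).obj (D.obj i') ⟶ P := pullback.lift x' ((yon S).map (v i')) hx'f
  obtain ⟨R, r₁, r₂, sqR⟩ := exists_isPullback_of_representable hle.1 y
  obtain ⟨r₁, rfl⟩ := (yon S).map_surjective r₁
  haveI : Etale r₂.left := hle.2 _ _ _ sqR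
  have hsec : (yon S).map G' ≫ l = (yon S).map (c.π.app i') ≫ y := by
    apply pullback.hom_ext
    · simp only [Category.assoc, l, y, pullback.lift_fst]; exact hx'.symm
    · simp only [Category.assoc, l, y, pullback.lift_snd, ← Functor.map_comp, hGv]
  obtain ⟨sI, hsI⟩ := (yon S).map_surjective (sqR.lift _ _ hsec)
  have hsI₁ : sI ≫ r₁ = G' := (yon S).map_injective (by rw [Functor.map_comp, hsI, sqR.lift_fst])
  have hsI₂ : sI ≫ r₂ = c.π.app i' := (yon S).map_injective (by rw [Functor.map_comp, hsI, sqR.lift_snd])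
  -- descend the section
  haveI : CategoryTheory.IsConnected Jᵒᵖ := IsCofiltered.isConnected _
  haveI : CategoryTheory.IsConnected (CategoryTheory.Over i') := IsCofiltered.isConnected _
  let E := CategoryTheory.Over.forget i' ⋙ D ⋙ Over.forget S
  have hE : IsLimit (((Over.forget S).mapCone c).whisker (CategoryTheory.Over.forget i')) :=
    (Functor.Initial.isLimitWhiskerEquiv (CategoryTheory.Over.forget i') _).symm hc
  let t : E ⟶ (Functor.const _).obj (D.obj i').left :=
    { app := fun j => (D.map j.hom).left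
      naturality := fun j k ψ => by
        show (D.map ψ.left).left ≫ (D.map k.hom).left = (D.map j.hom).left ≫ 𝟙 _
        rw [Category.comp_id, ← Over.comp_left, ← D.map_comp, CategoryTheory.Over.w] }
  haveI : ∀ j, IsAffine (E.obj j) := fun j => hDaff j.left
  haveI : ∀ {j k} (ψ : j ⟶ k), IsAffineHom (E.map ψ) := fun ψ => isAffineHom_of_isAffine _
  haveI : ∀ j, CompactSpace ↥(E.obj j) := fun j => inferInstance
  haveI : ∀ j, QuasiSeparatedSpace ↥(E.obj j) := fun j => inferInstance
  obtain ⟨k, g, hg, hg'⟩ := Scheme.exists_π_app_comp_eq_of_locallyOfFinitePresentation E t r₂.left _ hE sI.left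
    (by
      ext j
      show (c.π.app j.left).left ≫ (D.map j.hom).left = sI.left ≫ r₂.left
      rw [← Over.comp_left, ← Over.comp_left, c.w, hsI₂])
  refine ⟨k.left.unop, g ≫ r₁.left, ?_, ?_⟩
  · have e : r₁ ≫ α = r₂ ≫ v i' := (yon S).map_injective (by
      have := congrArg (fun z => z ≫ pullback.snd f b) sqR.w
      simpa [l, y] using this)
    have e' := congrArg (fun z => z.left) e
    simp only [Over.comp_left] at e'
    rw [Category.assoc, e', reassoc_of% hg']
    exact congrArg (fun z => z.left) (hv k.hom)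
  · show (c.π.app k.left).left ≫ g ≫ r₁.left = G
    have hg2 : (c.π.app k.left).left ≫ g = sI.left := hg
    rw [reassoc_of% hg2, ← Over.comp_left, hsI₁]
    rfl

end GrothLib.AlgSp
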