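import Mathlib.CategoryTheory.Filtered.Final
import Mathlib.CategoryTheory.Limits.Types.Filtered
import Mathlib.CategoryTheory.Limits.Types.Pullbacks
import Groth.Prelude.Def_AlgSpRep

/-!
# Relatively limit preserving maps of presheaves, elementwise

* `relLim_of_isRelLimitPreserving`, `isRelLimitPreserving_of_relLim`: `IsRelLimitPreserving a` says exactly that
  relative sections over a limit of affines come from a finite stage, essentially uniquely.
-/

universe u

open CategoryTheory CategoryTheory.Limits AlgebraicGeometry Opposite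

namespace GrothLib.AlgSp

open _root_.AlgSp

variable {S : Scheme.{u}} {F G : PSp S}

/-- A leg of a cone, at the type `c.pt ⟶ D.obj i`. -/
def leg {I : Type u} [SmallCategory I] {D : I ⥤ Over S} (c : Cone D) (i : I) : c.pt ⟶ D.obj i := c.π.app i

theorem leg_w {I : Type u} [SmallCategory I] {D : I ⥤ Over S} (c : Cone D) {i j : I} (f : j ⟶ i) :
    leg c j ≫ D.map f = leg c i := c.w f

/-- The elementwise form of being relatively limit preserving. -/
def RelLim (a : F ⟶ G) : Prop :=
  ∀ ⦃I : Type u⦄ [SmallCategory I] [IsCofiltered I] (D : I ⥤ Over S) (c : Cone D),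
    IsLimit ((Over.forget S).mapCone c) → (∀ i, IsAffine (D.obj i).left) → IsAffine c.pt.left →
      (∀ (i : I) (x : F.obj (op c.pt)) (g : G.obj (op (D.obj i))), a.app _ x = G.map (leg c i).op g →
        ∃ (j : I) (f : j ⟶ i) (xj : F.obj (op (D.obj j))),
          a.app _ xj = G.map (D.map f).op g ∧ F.map (leg c j).op xj = x) ∧
      (∀ (i : I) (x x' : F.obj (op (D.obj i))), a.app _ x = a.app _ x' →
        F.map (leg c i).op x = F.map (leg c i).op x' →
        ∃ (j : I) (f : j ⟶ i), F.map (D.map f).op x = F.map (D.map f).op x')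

theorem isRelLimitPreserving_of_relLim {a : F ⟶ G} (h : RelLim a) : IsRelLimitPreserving a := by
  intro T y I _ _ D c hc hD hT
  let M := Over.map T.hom
  obtain ⟨hsurj, hinj⟩ := h (D ⋙ M) (M.mapCone c) hc hD hT
  refine ⟨Types.FilteredColimit.isColimitOf' _ _ (fun x => ?_) (fun i x x' hxx' => ?_)⟩
  · let i₀ : I := IsCofiltered.nonempty.some
    obtain ⟨j, f, xj, hxj, hx⟩ := hsurj i₀ x.1 (G.map (overHom T (D.obj i₀)).op y) (by
      refine x.2.trans ?_
      rw [← Functor.map_comp_apply, ← op_comp]
      exact congrArg (fun e => G.map e.op y) (map_comp_overHom T (c.π.app i₀)).symm)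
    refine ⟨op j, ⟨xj, ?_⟩, Subtype.ext hx.symm⟩
    refine hxj.trans ?_
    rw [← Functor.map_comp_apply, ← op_comp]
    exact congrArg (fun e => G.map e.op y) (map_comp_overHom T (D.map f))
  · obtain ⟨j, f, hf⟩ := hinj i.unop x.1 x'.1 (x.2.trans x'.2.symm) (congrArg Subtype.val hxx')
    exact ⟨op j, f.op, Subtype.ext hf⟩

theorem relLim_of_isRelLimitPreserving {a : F ⟶ G} (h : IsRelLimitPreserving a) : RelLim a := by
  intro I _ _ D c hc hD hT
  have key : ∀ (i : I) (g : G.obj (op (D.obj i))),
      (∀ x : F.obj (op c.pt), a.app _ x = G.map (leg c i).op g →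
        ∃ (j : I) (f : j ⟶ i) (xj : F.obj (op (D.obj j))),
          a.app _ xj = G.map (D.map f).op g ∧ F.map (leg c j).op xj = x) ∧
      (∀ x x' : F.obj (op (D.obj i)), a.app _ x = g → a.app _ x' = g →
        F.map (leg c i).op x = F.map (leg c i).op x' →
        ∃ (j : I) (f : j ⟶ i), F.map (D.map f).op x = F.map (D.map f).op x') := by
    intro i g
    let T := D.obj i
    let M := Over.map T.hom
    let D' : Over i ⥤ Over T.left :=
      { obj := fun j => Over.mk (D.map j.hom).left
        map := fun {j k} φ => Over.homMk (D.map φ.left).left (by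
          show (D.map φ.left).left ≫ (D.map k.hom).left = (D.map j.hom).left
          rw [← Over.comp_left, ← Functor.map_comp, Over.w φ])
        map_id := fun j => by ext; simp
        map_comp := fun φ ψ => by ext; simp }
    let c' : Cone D' :=
      { pt := Over.mk (leg c i).left
        π :=
          { app := fun j => Over.homMk (leg c j.left).left (by
              show (leg c j.left).left ≫ (D.map j.hom).left = (leg c i).left
              rw [← Over.comp_left, leg_w])
            naturality := fun j k φ => by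
              ext
              show 𝟙 _ ≫ (leg c k.left).left = (leg c j.left).left ≫ (D.map φ.left).left
              rw [Category.id_comp, ← Over.comp_left, leg_w] } }
    have hc' : IsLimit ((Over.forget T.left).mapCone c') := by
      refine IsLimit.ofIsoLimit ((Functor.Initial.isLimitWhiskerEquiv (Over.forget i) _).symm hc)
        (Cone.ext (Iso.refl _) fun j => ?_)
      show (leg c j.left).left = 𝟙 _ ≫ (leg c j.left).left
      rw [Category.id_comp]
    obtain ⟨hcol⟩ := h T g D' c' hc' (fun j => hD j.left) hT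
    let e : ∀ j : Over i, M.obj (D'.obj j) ≅ D.obj j.left := fun j => Over.isoMk (Iso.refl _) (by
      show 𝟙 _ ≫ (D.obj j.left).hom = (D.map j.hom).left ≫ (D.obj i).hom
      rw [Category.id_comp, Over.w])
    let ep : M.obj c'.pt ≅ c.pt := Over.isoMk (Iso.refl _) (by
      show 𝟙 _ ≫ c.pt.hom = (leg c i).left ≫ (D.obj i).hom
      rw [Category.id_comp, Over.w])
    have heT : ∀ j : Over i, (e j).hom ≫ D.map j.hom = overHom T (D'.obj j) := fun j => by
      ext
      show 𝟙 _ ≫ (D.map j.hom).left = (D.map j.hom).left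
      rw [Category.id_comp]
    have hepT : ep.hom ≫ leg c i = overHom T c'.pt := by
      ext
      show 𝟙 _ ≫ (leg c i).left = (leg c i).left
      rw [Category.id_comp]
    have hπ : ∀ j : Over i, ep.inv ≫ M.map (c'.π.app j) ≫ (e j).hom = leg c j.left := fun j => by
      ext
      show 𝟙 _ ≫ (leg c j.left).left ≫ 𝟙 _ = (leg c j.left).left
      rw [Category.id_comp, Category.comp_id]
    refine ⟨fun x hx => ?_, fun x x' hx hx' hxx' => ?_⟩
    · let z : (fiberFun a T g).obj (op c'.pt) := ⟨F.map ep.hom.op x, by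
        rw [NatTrans.naturality_apply, hx, ← Functor.map_comp_apply, ← op_comp]
        exact congrArg (fun e => G.map e.op g) hepT⟩
      obtain ⟨j, xj, hxj⟩ := Types.jointly_surjective _ hcol z
      refine ⟨j.unop.left, j.unop.hom, F.map (e j.unop).inv.op xj.1, ?_, ?_⟩
      · have hxj2 : a.app (op (M.obj (D'.obj j.unop))) xj.1 = G.map (overHom T (D'.obj j.unop)).op g := xj.2
        rw [NatTrans.naturality_apply, hxj2, ← Functor.map_comp_apply, ← op_comp, ← heT, Iso.inv_hom_id_assoc]
      · have := congrArg (F.map ep.inv.op) (congrArg Subtype.val hxj)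
        change F.map ep.inv.op (F.map (M.map (c'.π.app j.unop)).op xj.1) = F.map ep.inv.op (F.map ep.hom.op x) at this
        rw [← Functor.map_comp_apply, ← Functor.map_comp_apply, ← op_comp, ← op_comp, Iso.inv_hom_id, op_id,
          Functor.map_id_apply] at this
        rw [← this, ← Functor.map_comp_apply, ← op_comp, ← hπ, Category.assoc, Category.assoc, Iso.hom_inv_id,
          Category.comp_id]
    · let j₀ : Over i := Over.mk (𝟙 i)
      have hj₀ : ∀ u : F.obj (op (D.obj i)), a.app _ u = g →
          a.app _ (F.map (e j₀).hom.op u) = G.map (overHom T (D'.obj j₀)).op g := fun u hu => by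
        rw [NatTrans.naturality_apply]
        show G.map (e j₀).hom.op (a.app (op (D.obj i)) u) = _
        rw [hu, ← heT]
        simp [j₀]
      let z : (fiberFun a T g).obj (op (D'.obj j₀)) := ⟨F.map (e j₀).hom.op x, hj₀ x hx⟩
      let z' : (fiberFun a T g).obj (op (D'.obj j₀)) := ⟨F.map (e j₀).hom.op x', hj₀ x' hx'⟩
      have hzz' : ((fiberFun a T g).mapCocone c'.op).ι.app (op j₀) z =
          ((fiberFun a T g).mapCocone c'.op).ι.app (op j₀) z' := by
        refine Subtype.ext ?_
        show F.map (M.map (c'.π.app j₀)).op (F.map (e j₀).hom.op x) =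
          F.map (M.map (c'.π.app j₀)).op (F.map (e j₀).hom.op x')
        rw [← Functor.map_comp_apply, ← Functor.map_comp_apply, ← op_comp,
          show M.map (c'.π.app j₀) ≫ (e j₀).hom = ep.hom ≫ leg c i from (Iso.inv_comp_eq ep).1 (hπ j₀), op_comp, Functor.map_comp_apply, Functor.map_comp_apply, hxx']
      obtain ⟨k, f, hf⟩ := (Types.FilteredColimit.isColimit_eq_iff' hcol z z').1 hzz'
      refine ⟨k.unop.left, f.unop.left, ?_⟩
      have := congrArg (F.map (e k.unop).inv.op) (congrArg Subtype.val hf)
      change F.map (e k.unop).inv.op (F.map (M.map (D'.map f.unop)).op (F.map (e j₀).hom.op x)) =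
        F.map (e k.unop).inv.op (F.map (M.map (D'.map f.unop)).op (F.map (e j₀).hom.op x')) at this
      rw [← Functor.map_comp_apply, ← Functor.map_comp_apply, ← Functor.map_comp_apply,
        ← Functor.map_comp_apply, ← op_comp, ← op_comp] at this
      have e2 : (e k.unop).inv ≫ M.map (D'.map f.unop) ≫ (e j₀).hom = D.map f.unop.left := by
        ext
        show 𝟙 _ ≫ (D.map f.unop.left).left ≫ 𝟙 _ = (D.map f.unop.left).left
        rw [Category.id_comp, Category.comp_id]
      rw [Category.assoc, e2] at this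
      exact this
  exact ⟨fun i x g => (key i g).1 x,
    fun i x x' hxx => (key i (a.app _ x')).2 x x' hxx rfl⟩

theorem relLim_comp {H : PSp S} {a : F ⟶ G} {b : G ⟶ H} (ha : RelLim a) (hb : RelLim b) : RelLim (a ≫ b) := by
  intro I _ _ D c hc hD hT
  obtain ⟨as, ai⟩ := ha D c hc hD hT
  obtain ⟨bs, bi⟩ := hb D c hc hD hT
  refine ⟨fun i x g hx => ?_, fun i x x' hab hxx' => ?_⟩
  · rw [NatTrans.comp_app_apply] at hx
    obtain ⟨j, f, gj, hgj, hgx⟩ := bs i _ g hx
    obtain ⟨k, f', xk, hxk, hkx⟩ := as j x gj hgx.symm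
    refine ⟨k, f' ≫ f, xk, ?_, hkx⟩
    rw [NatTrans.comp_app_apply, hxk, NatTrans.naturality_apply, hgj, ← Functor.map_comp_apply,
      ← op_comp, ← Functor.map_comp]
  · rw [NatTrans.comp_app_apply, NatTrans.comp_app_apply] at hab
    obtain ⟨j, f, hf⟩ := bi i _ _ hab (by
      rw [← NatTrans.naturality_apply, ← NatTrans.naturality_apply, hxx'])
    obtain ⟨k, f', hf'⟩ := ai j (F.map (D.map f).op x) (F.map (D.map f).op x') (by rw [NatTrans.naturality_apply, NatTrans.naturality_apply, hf]) (by
      rw [← Functor.map_comp_apply, ← Functor.map_comp_apply, ← op_comp, leg_w, hxx'])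
    refine ⟨k, f' ≫ f, ?_⟩
    rw [Functor.map_comp, op_comp, Functor.map_comp_apply, Functor.map_comp_apply, hf']

theorem relLim_of_comp {H : PSp S} {a : F ⟶ G} {b : G ⟶ H} (hab : RelLim (a ≫ b)) (hb : RelLim b) :
    RelLim a := by
  intro I _ _ D c hc hD hT
  obtain ⟨as, ai⟩ := hab D c hc hD hT
  obtain ⟨-, bi⟩ := hb D c hc hD hT
  refine ⟨fun i x g hx => ?_, fun i x x' h hxx' => ai i x x' (by simp only [NatTrans.comp_app_apply, h]) hxx'⟩
  obtain ⟨j, f, xj, hxj, hjx⟩ := as i x (b.app _ g) (by
    rw [NatTrans.comp_app_apply, hx, NatTrans.naturality_apply])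
  rw [NatTrans.comp_app_apply] at hxj
  obtain ⟨k, f', hf'⟩ := bi j (a.app _ xj) (G.map (D.map f).op g)
    (by rw [hxj, NatTrans.naturality_apply]) (by
      rw [← NatTrans.naturality_apply, hjx, hx, ← Functor.map_comp_apply, ← op_comp, leg_w])
  refine ⟨k, f' ≫ f, F.map (D.map f').op xj, ?_, ?_⟩
  · rw [NatTrans.naturality_apply, hf', ← Functor.map_comp_apply, ← op_comp, ← Functor.map_comp]
  · rw [← Functor.map_comp_apply, ← op_comp, leg_w, hjx]

theorem relLim_of_isPullback {H P : PSp S} {a : F ⟶ G} {b : H ⟶ G} {fst : P ⟶ F} {snd : P ⟶ H}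
    (hP : IsPullback fst snd a b) (hb : RelLim b) : RelLim fst := by
  have sq : ∀ T, IsPullback (fst.app T) (snd.app T) (a.app T) (b.app T) := fun T =>
    hP.map ((evaluation _ _).obj T)
  intro I _ _ D c hc hD hT
  obtain ⟨bs, bi⟩ := hb D c hc hD hT
  refine ⟨fun i x g hx => ?_, fun i x x' h hxx' => ?_⟩
  · obtain ⟨j, f, hj, hhj, hjx⟩ := bs i (snd.app _ x) (a.app _ g) (by
      rw [← NatTrans.comp_app_apply, ← hP.w, NatTrans.comp_app_apply, hx, NatTrans.naturality_apply])
    obtain ⟨p, hp₁, hp₂⟩ := Types.exists_of_isPullback (sq _) (F.map (D.map f).op g) hj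
      (by rw [hhj, NatTrans.naturality_apply])
    refine ⟨j, f, p, hp₁, Types.ext_of_isPullback (sq _) ?_ ?_⟩
    · rw [NatTrans.naturality_apply, hp₁, ← Functor.map_comp_apply, ← op_comp, leg_w, hx]
    · rw [NatTrans.naturality_apply, hp₂, hjx]
  · obtain ⟨j, f, hf⟩ := bi i (snd.app _ x) (snd.app _ x') (by
      simp only [← NatTrans.comp_app_apply, ← hP.w]
      simp only [NatTrans.comp_app_apply, h]) (by
      rw [← NatTrans.naturality_apply, ← NatTrans.naturality_apply, hxx'])
    exact ⟨j, f, Types.ext_of_isPullback (sq _) (by rw [NatTrans.naturality_apply, NatTrans.naturality_apply, h])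
      (by rw [NatTrans.naturality_apply, NatTrans.naturality_apply, hf])⟩

end GrothLib.AlgSp
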