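import Groth.Agent.Lib.AlgSp.EtaleModel
import Groth.Agent.Lib.AlgSp.LimitImmersion
import Groth.Agent.Lib.AlgSp.DiagChart
import Groth.Agent.Lib.AlgSp.Diag
import Groth.Agent.Lib.AlgSp.RelLim
import Groth.Agent.Lib.AlgSp.LimitPreserving

/-!
# Morphisms of finite presentation are limit preserving

* `exists_stage_lift`, `exists_stage_eq`, `exists_stage_point`: points over limits come from stages;
* `relLim_of_locP_lfp`: morphisms locally of finite presentation are limit preserving.
-/

universe u

open CategoryTheory CategoryTheory.Limits AlgebraicGeometry Opposite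

namespace GrothLib.AlgSp

open _root_.AlgSp

variable {S : Scheme.{u}}

set_option backward.isDefEq.respectTransparency false

section

variable {I : Type u} [SmallCategory I] [IsCofiltered I] {D : I ⥤ Over S} {c : Cone D}
  (hc : IsLimit ((Over.forget S).mapCone c)) (hD : ∀ i, IsAffine (D.obj i).left)

include hc hD in
/-- Maps from a limit to a scheme of finite presentation over a stage come from a stage. -/
theorem exists_stage_lift {U V : Over S} (h : U ⟶ V) [LocallyOfFinitePresentation h.left] (i : I)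
    (x : c.pt ⟶ U) (y : D.obj i ⟶ V) (w : x ≫ h = c.π.app i ≫ y) :
    ∃ (j : I) (φ : j ⟶ i) (g : D.obj j ⟶ U), c.π.app j ≫ g = x ∧ g ≫ h = D.map φ ≫ y := by
  haveI : CategoryTheory.IsConnected I := IsCofiltered.isConnected _
  haveI : CategoryTheory.IsConnected (CategoryTheory.Over i) := IsCofiltered.isConnected _
  let E := CategoryTheory.Over.forget i ⋙ D ⋙ Over.forget S
  have hE : IsLimit (((Over.forget S).mapCone c).whisker (CategoryTheory.Over.forget i)) :=
    (Functor.Initial.isLimitWhiskerEquiv (CategoryTheory.Over.forget i) _).symm hc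
  let t : E ⟶ (Functor.const _).obj V.left :=
    { app := fun j => (D.map j.hom ≫ y).left
      naturality := fun j k ψ => by
        show (D.map ψ.left).left ≫ (D.map k.hom ≫ y).left = (D.map j.hom ≫ y).left ≫ 𝟙 _
        rw [Category.comp_id, ← Over.comp_left, ← Category.assoc, ← D.map_comp, CategoryTheory.Over.w] }
  haveI : ∀ j, IsAffine (E.obj j) := fun j => hD j.left
  haveI : ∀ {j k} (ψ : j ⟶ k), IsAffineHom (E.map ψ) := fun ψ => isAffineHom_of_isAffine _
  haveI : ∀ j, CompactSpace ↥(E.obj j) := fun j => inferInstance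
  haveI : ∀ j, QuasiSeparatedSpace ↥(E.obj j) := fun j => inferInstance
  obtain ⟨k, g, hg, hg'⟩ := Scheme.exists_π_app_comp_eq_of_locallyOfFinitePresentation E t h.left _ hE x.left
    (by
      ext j
      show (c.π.app j.left).left ≫ (D.map j.hom ≫ y).left = x.left ≫ h.left
      rw [← Over.comp_left, ← Over.comp_left, ← Category.assoc, c.w, w])
  have hg'' : g ≫ h.left = (D.map k.hom ≫ y).left := hg'
  refine ⟨k.left, k.hom, Over.homMk g (by rw [← Over.w h, reassoc_of% hg'', Over.w]),
    Over.OverMorphism.ext hg, Over.OverMorphism.ext hg''⟩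

include hc hD in
/-- The base change of a limit of affine schemes along an affine scheme over a stage. -/
theorem exists_bc_system (k : I) {A : Over S} [IsAffine A.left] (q : A ⟶ D.obj k) {P : Over S} {p₁ : P ⟶ A}
    {p₂ : P ⟶ c.pt} (sq : IsPullback p₁ p₂ q (c.π.app k)) :
    ∃ (E : CategoryTheory.Over k ⥤ Over S) (cE : Cone E) (e : cE.pt ⟶ P) (_ : IsIso e)
      (a : ∀ j, E.obj j ⟶ A) (b : ∀ j, E.obj j ⟶ D.obj j.left),
      Nonempty (IsLimit ((Over.forget S).mapCone cE)) ∧ (∀ j, IsAffine (E.obj j).left) ∧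
      (∀ j, IsPullback (a j) (b j) q (D.map j.hom)) ∧
      (∀ ⦃j l⦄ (φ : j ⟶ l), E.map φ ≫ a l = a j ∧ E.map φ ≫ b l = b j ≫ D.map φ.left) ∧
      (∀ j, cE.π.app j ≫ a j = e ≫ p₁ ∧ cE.π.app j ≫ b j = e ≫ p₂ ≫ c.π.app j.left) := by
  haveI : CategoryTheory.IsConnected I := IsCofiltered.isConnected _
  haveI : CategoryTheory.IsConnected (CategoryTheory.Over k) := IsCofiltered.isConnected _
  let E : CategoryTheory.Over k ⥤ Over S :=
    { obj := fun j => pullback q (D.map j.hom)
      map := fun {j l} φ => pullback.lift (pullback.fst _ _) (pullback.snd _ _ ≫ D.map φ.left)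
        (by rw [Category.assoc, ← D.map_comp, CategoryTheory.Over.w, pullback.condition])
      map_id := fun j => by apply pullback.hom_ext <;> simp
      map_comp := fun φ ψ => by apply pullback.hom_ext <;> simp }
  have hsq : ∀ j : CategoryTheory.Over k, IsPullback (pullback.fst q (D.map j.hom)) (pullback.snd q (D.map j.hom))
      q (D.map j.hom) := fun j => IsPullback.of_hasPullback _ _
  let cE : Cone E :=
    { pt := P
      π :=
        { app := fun j => pullback.lift p₁ (p₂ ≫ c.π.app j.left) (by rw [Category.assoc, c.w, sq.w])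
          naturality := fun j l φ => by
            dsimp only [E, Functor.const_obj_obj, Functor.const_obj_map]
            rw [Category.id_comp]
            apply pullback.hom_ext
            · simp
            · simp } }
  have hc₀ : IsLimit (c.whisker (CategoryTheory.Over.forget k)) :=
    (Functor.Initial.isLimitWhiskerEquiv (CategoryTheory.Over.forget k) c).symm (isLimitOfReflects (Over.forget S) hc)
  let top : CategoryTheory.Over k := CategoryTheory.Over.mk (𝟙 k)
  have hp : ∀ (s : Cone E) (j : CategoryTheory.Over k),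
      s.π.app j ≫ pullback.fst q (D.map j.hom) = s.π.app top ≫ pullback.fst q (D.map top.hom) := fun s j => by
    refine constant_of_preserves_morphisms
      (fun j => s.π.app j ≫ pullback.fst q (D.map j.hom)) (fun a b φ => ?_) j top
    rw [← s.w φ]; simp [E]
  let sc : Cone E → Cone (CategoryTheory.Over.forget k ⋙ D) := fun s =>
    { pt := s.pt
      π :=
        { app := fun j => s.π.app j ≫ pullback.snd q (D.map j.hom)
          naturality := fun j l φ => by
            dsimp
            rw [Category.id_comp, ← s.w φ]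
            simp [E] } }
  have hlw : ∀ s : Cone E, (s.π.app top ≫ pullback.fst q (D.map top.hom)) ≫ q = hc₀.lift (sc s) ≫ c.π.app k :=
    fun s => by
      have := hc₀.fac (sc s) top
      dsimp at this
      erw [this]
      simp [sc, top, pullback.condition]
  have hcE : IsLimit cE :=
    { lift := fun s => sq.lift (s.π.app top ≫ pullback.fst q (D.map top.hom)) (hc₀.lift (sc s)) (hlw s)
      fac := fun s j => by
        apply pullback.hom_ext
        · simp [cE, hp s j]
        · simp only [cE, Category.assoc, pullback.lift_snd, IsPullback.lift_snd_assoc]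
          exact hc₀.fac (sc s) j
      uniq := fun s m hm => by
        apply sq.hom_ext
        · rw [sq.lift_fst]
          have := congrArg (fun z => z ≫ pullback.fst q (D.map top.hom)) (hm top)
          simpa [cE] using this
        · rw [sq.lift_snd]
          refine hc₀.hom_ext fun j => ?_
          rw [hc₀.fac]
          have := congrArg (fun z => z ≫ pullback.snd q (D.map j.hom)) (hm j)
          simpa [cE, sc] using this }
  refine ⟨E, cE, 𝟙 P, IsIso.id P, fun j => pullback.fst _ _, fun j => pullback.snd _ _,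
    ⟨isLimitOfPreserves (Over.forget S) hcE⟩, fun j => ?_, hsq, fun j l φ => ⟨by simp [E], by simp [E]⟩,
    fun j => ⟨by simp [cE], by simp [cE]⟩⟩
  haveI : IsAffine ((Over.forget S).obj (D.obj j.left)) := hD j.left
  haveI : IsAffine ((Over.forget S).obj (D.obj k)) := hD k
  haveI : IsAffineHom ((Over.forget S).map (D.map j.hom)) := isAffineHom_of_isAffine _
  haveI : IsAffineHom ((Over.forget S).map (pullback.fst q (D.map j.hom))) :=
    MorphismProperty.of_isPullback (P := @IsAffineHom) ((hsq j).map (Over.forget S)).flip ‹_›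
  haveI : IsAffine ((Over.forget S).obj A) := ‹IsAffine A.left›
  exact isAffine_of_isAffineHom ((Over.forget S).map (pullback.fst q (D.map j.hom)))

variable {X Y : Sp S} {f : X ⟶ Y}

include hc hD in
/-- Points of a space of finite presentation which agree in the limit agree at a stage. -/
theorem exists_stage_eq (hX : IsAlgSpace X) (hY : IsAlgSpace Y) (hf : LocP @LocallyOfFinitePresentation f)
    (i : I) (x x' : (yon S).obj (D.obj i) ⟶ X) (h₁ : x ≫ f = x' ≫ f)
    (h₂ : (yon S).map (c.π.app i) ≫ x = (yon S).map (c.π.app i) ≫ x') :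
    ∃ (j : I) (φ : j ⟶ i), (yon S).map (D.map φ) ≫ x = (yon S).map (D.map φ) ≫ x' := by
  have hP : IsAlgSpace (pullback f f) := isAlgSpace_pullback' hY hX hX f f
  have hdl : RepWith @LocallyOfFinitePresentation (pullback.diagonal f) :=
    EtLocal.lfp.repWith_of_locP hP (repWith_diagonal f (repWith_diag_lft hX)).1
      (locP_lfp_diagonal hX hY (locP_mono (fun A B g (_ : LocallyOfFinitePresentation g) =>
        (inferInstance : LocallyOfFiniteType g)) hf))
  obtain ⟨R, r₁, r₂, sqR⟩ := exists_isPullback_of_representable hdl.1 (pullback.lift x x' h₁)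
  haveI : LocallyOfFinitePresentation r₂.left := hdl.2 _ _ _ sqR
  obtain ⟨s, hs⟩ := (yon S).map_surjective (sqR.lift ((yon S).map (c.π.app i) ≫ x) ((yon S).map (c.π.app i)) (by
    apply pullback.hom_ext
    · simp only [Category.assoc, pullback.diagonal_fst, pullback.lift_fst, Category.comp_id]
    · simp only [Category.assoc, pullback.diagonal_snd, pullback.lift_snd, Category.comp_id, h₂]))
  obtain ⟨j, φ, g, -, hg⟩ := exists_stage_lift hc hD r₂ i s (𝟙 _) (by
    rw [Category.comp_id]
    exact (yon S).map_injective (by rw [Functor.map_comp, hs, sqR.lift_snd]))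
  rw [Category.comp_id] at hg
  refine ⟨j, φ, ?_⟩
  have e₁ := congrArg (fun z => z ≫ pullback.fst f f) sqR.w
  have e₂ := congrArg (fun z => z ≫ pullback.snd f f) sqR.w
  simp only [Category.assoc, pullback.diagonal_fst, pullback.diagonal_snd, pullback.lift_fst, pullback.lift_snd,
    Category.comp_id] at e₁ e₂
  rw [← hg, Functor.map_comp, Category.assoc, Category.assoc, ← e₁, ← e₂]

include hc hD in
/-- Points over a limit of a space of finite presentation come from a stage. -/
theorem exists_stage_point (hX : IsAlgSpace X) (hY : IsAlgSpace Y) (hf : LocP @LocallyOfFinitePresentation f)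
    [IsAffine c.pt.left] (x : (yon S).obj c.pt ⟶ X) (i : I) (y : (yon S).obj (D.obj i) ⟶ Y)
    (hxy : x ≫ f = (yon S).map (c.π.app i) ≫ y) :
    ∃ (j : I) (φ : j ⟶ i) (x' : (yon S).obj (D.obj j) ⟶ X),
      (yon S).map (c.π.app j) ≫ x' = x ∧ x' ≫ f = (yon S).map (D.map φ) ≫ y := by
  classical
  haveI : CategoryTheory.IsConnected I := IsCofiltered.isConnected _
  let Z := pullback f y
  let t : Z ⟶ (yon S).obj (D.obj i) := pullback.snd f y
  have hZ : IsAlgSpace Z := isAlgSpace_pullback' hY hX (IsAlgSpace.yon_obj _) f y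
  have hT := IsAlgSpace.yon_obj (D.obj i)
  have hl : LocP @LocallyOfFinitePresentation t :=
    EtLocal.lfp.locP_of_isPullback hX hY hT (IsPullback.of_hasPullback f y) hf
  let s : (yon S).obj c.pt ⟶ Z := pullback.lift x ((yon S).map (c.π.app i)) hxy
  obtain ⟨U, u, hU, ue, hcov⟩ := exists_affine_chart_covering hZ (isQuasiCompactSp_yon c.pt) s
  obtain ⟨R, r₁, r₂, sqR⟩ := exists_isPullback_of_representable ue.1 s
  obtain ⟨r₁, rfl⟩ := (yon S).map_surjective r₁
  haveI : Etale r₂.left := ue.2 _ _ _ sqR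
  -- an affine etale cover of the limit
  let 𝒰 := R.left.affineCover
  have hcovR : ∀ p : ↥c.pt.left, ∃ (n : 𝒰.I₀) (z : 𝒰.X n), r₂.left (𝒰.f n z) = p := fun p => by
    obtain ⟨v, hv⟩ := hcov ⟨Points.schemeHomeo c.pt p, rfl⟩
    rw [Points.ofPt_eq_map_ofScheme] at hv
    obtain ⟨q, -, hq⟩ := exists_of_isPullback sqR hv
    obtain ⟨q', rfl⟩ := (Points.schemeHomeo R).surjective q
    rw [Points.map_yon_map_apply] at hq
    obtain ⟨n, z, rfl⟩ := 𝒰.exists_eq q'
    exact ⟨n, z, (Points.schemeHomeo c.pt).injective hq⟩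
  obtain ⟨σ, hσ⟩ := isCompact_univ.elim_finite_subcover (fun n => Set.range (𝒰.f n ≫ r₂.left))
    (fun n => (𝒰.f n ≫ r₂.left).isOpenMap.isOpen_range)
    fun p _ => by obtain ⟨n, z, hz⟩ := hcovR p; exact Set.mem_iUnion.mpr ⟨n, z, hz⟩
  let V : {n // n ∈ σ} → Over S := fun n => Over.mk (𝒰.f n.1 ≫ R.hom)
  let v : ∀ n, V n ⟶ R := fun n => Over.homMk (𝒰.f n.1) rfl
  obtain ⟨ψ', hψ', -⟩ := exists_hom_of_sigma V (fun n => (yon S).map (v n ≫ r₂))
  obtain ⟨w', hw', -⟩ := exists_hom_of_sigma V (fun n => (yon S).map (v n ≫ r₁))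
  obtain ⟨ψ, rfl⟩ := (yon S).map_surjective ψ'
  obtain ⟨w, rfl⟩ := (yon S).map_surjective w'
  haveI : Etale ψ.left := (repWith_yon_map_iff _ ψ).1 (repWith_sigma (IsAlgSpace.yon_obj c.pt).diag V _ _ hψ' @Etale
    fun n => (repWith_yon_map_iff _ _).2 (by
      haveI : Etale (v n).left := inferInstanceAs (Etale (𝒰.f n.1))
      exact inferInstanceAs (Etale ((v n).left ≫ r₂.left))))
  haveI : Surjective ψ.left := ⟨fun p => by
    obtain ⟨n, hn, z, hz⟩ := Set.mem_iUnion₂.mp (hσ (Set.mem_univ p))
    refine ⟨(sigmaι V ⟨n, hn⟩).left z, ?_⟩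
    rw [← Scheme.Hom.comp_apply, ← Over.comp_left,
      show sigmaι V ⟨n, hn⟩ ≫ ψ = v ⟨n, hn⟩ ≫ r₂ from (yon S).map_injective ((Functor.map_comp _ _ _).trans (hψ' _))]
    exact hz⟩
  haveI : ∀ n, IsAffine (V n).left := fun n => inferInstanceAs (IsAffine (Spec _))
  haveI : IsAffine (sigmaOver V).left := inferInstanceAs (IsAffine (∐ fun n => (V n).left))
  have hwu : (yon S).map w ≫ u = (yon S).map ψ ≫ s := by
    obtain ⟨l, -, hlu⟩ := exists_hom_of_sigma V (fun n => (yon S).map (v n ≫ r₁) ≫ u)
    rw [hlu ((yon S).map w ≫ u) fun n => by rw [reassoc_of% (hw' n)],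
      hlu ((yon S).map ψ ≫ s) fun n => by
        rw [reassoc_of% (hψ' n), Functor.map_comp, Functor.map_comp, Category.assoc, Category.assoc, sqR.w]]
  -- the model
  obtain ⟨T₀, U₀, π₀, τ, υ, hT₀, hU₀, hlfp, hπe, hπs, sq₀⟩ := exists_model_etale_surjective ψ.left
  haveI := hT₀
  haveI := hU₀
  haveI := hlfp
  haveI := hπe
  haveI := hπs
  haveI : ∀ j, IsAffine ((D ⋙ Over.forget S).obj j) := hD
  haveI : ∀ {j l} (φ : j ⟶ l), IsAffineHom ((D ⋙ Over.forget S).map φ) := fun φ => isAffineHom_of_isAffine _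
  let tS : (D ⋙ Over.forget S) ⟶ (Functor.const _).obj (⊤_ Scheme.{u}) :=
    { app := fun j => terminal.from _
      naturality := fun _ _ _ => terminalIsTerminal.hom_ext _ _ }
  obtain ⟨k₁, τ₁, hτ₁, -⟩ := Scheme.exists_π_app_comp_eq_of_locallyOfFinitePresentation (D ⋙ Over.forget S) tS
    (terminal.from T₀) _ hc τ (by ext j; exact terminalIsTerminal.hom_ext _ _)
  obtain ⟨k, φi, φ₁, -⟩ := IsCofilteredOrEmpty.cone_objs i k₁
  let τk : (D.obj k).left ⟶ T₀ := (D.map φ₁).left ≫ τ₁
  have hτk : (c.π.app k).left ≫ τk = τ := by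
    simp only [τk]; rw [← Category.assoc, ← Over.comp_left, c.w]; exact hτ₁
  let Wk : Over S := Over.mk (pullback.snd π₀ τk ≫ (D.obj k).hom)
  let ψk : Wk ⟶ D.obj k := Over.homMk (pullback.snd π₀ τk) rfl
  haveI : IsAffine (D.obj k).left := hD k
  haveI : IsAffine Wk.left := inferInstanceAs (IsAffine (pullback π₀ τk))
  haveI : Etale ψk.left := inferInstanceAs (Etale (pullback.snd π₀ τk))
  haveI : Surjective ψk.left := inferInstanceAs (Surjective (pullback.snd π₀ τk))
  have hw₀ : υ ≫ π₀ = (ψ.left ≫ (c.π.app k).left) ≫ τk := by rw [Category.assoc, hτk]; exact sq₀.w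
  let ωk : sigmaOver V ⟶ Wk := Over.homMk (pullback.lift υ (ψ.left ≫ (c.π.app k).left) hw₀) (by
    show pullback.lift υ _ hw₀ ≫ pullback.snd π₀ τk ≫ (D.obj k).hom = _
    rw [pullback.lift_snd_assoc, ← Over.comp_left, Over.w])
  have sqW : IsPullback ωk ψ ψk (c.π.app k) := by
    refine IsPullback.of_map (Over.forget S) (Over.OverMorphism.ext (pullback.lift_snd _ _ _)) ?_
    refine IsPullback.of_right ?_ (pullback.lift_snd _ _ _) (IsPullback.of_hasPullback π₀ τk)
    show IsPullback (pullback.lift υ _ hw₀ ≫ pullback.fst π₀ τk) ψ.left π₀ ((c.π.app k).left ≫ τk)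
    rw [pullback.lift_fst, hτk]
    exact sq₀
  obtain ⟨E, cE, e, he, a, b, ⟨hcE⟩, hEa, hEsq, hEm, hEπ⟩ := exists_bc_system hc hD k ψk sqW
  -- descend the lift to the chart
  obtain ⟨α, hα⟩ := (yon S).map_surjective (u ≫ t)
  haveI : LocallyOfFinitePresentation α.left :=
    hl u (𝟙 _) α ue (repWith_id _ _) (by rw [Category.comp_id, hα])
  let top : CategoryTheory.Over k := CategoryTheory.Over.mk (𝟙 k)
  obtain ⟨m, φm, g, hg, hgα⟩ := exists_stage_lift hcE hEa α top (e ≫ w) (b top ≫ D.map φi) (by
    rw [← Category.assoc (cE.π.app top), (hEπ top).2, Category.assoc, Category.assoc]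
    congr 1
    refine (yon S).map_injective ?_
    rw [Functor.map_comp, hα, reassoc_of% hwu, pullback.lift_snd, Functor.map_comp, Functor.map_comp]
    rw [← Functor.map_comp, ← Functor.map_comp, ← Functor.map_comp]
    exact congrArg (yon S).map (congrArg (ψ ≫ ·) (c.w φi).symm))
  have hgα' : g ≫ α = b m ≫ D.map (m.hom ≫ φi) := by
    rw [hgα, ← Category.assoc, (hEm φm).2, Category.assoc, ← D.map_comp]
    congr 2
    rw [← CategoryTheory.Over.w φm]
    simp [top]
  -- the double overlap
  haveI : IsAffine (E.obj m).left := hEa m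
  haveI : IsAffine ((Over.forget S).obj (E.obj m)) := hEa m
  haveI : IsAffine ((Over.forget S).obj (D.obj m.left)) := hD m.left
  haveI : IsAffineHom ((Over.forget S).map (b m)) := isAffineHom_of_isAffine _
  let R₂ := pullback (b m) (b m)
  let q₂ : R₂ ⟶ D.obj m.left := pullback.fst (b m) (b m) ≫ b m
  haveI : IsAffineHom ((Over.forget S).map (pullback.fst (b m) (b m))) :=
    MorphismProperty.of_isPullback (P := @IsAffineHom)
      ((IsPullback.of_hasPullback (b m) (b m)).map (Over.forget S)).flip ‹_›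
  haveI : IsAffine R₂.left := isAffine_of_isAffineHom ((Over.forget S).map (pullback.fst (b m) (b m)))
  obtain ⟨E₂, cE₂, e₂, -, a₂, b₂, ⟨hcE₂⟩, hE₂a, hE₂sq, hE₂m, hE₂π⟩ :=
    exists_bc_system hc hD m.left q₂ (IsPullback.of_hasPullback q₂ (c.π.app m.left))
  let top₂ : CategoryTheory.Over m.left := CategoryTheory.Over.mk (𝟙 m.left)
  let x₁ : (yon S).obj (E₂.obj top₂) ⟶ Z := (yon S).map (a₂ top₂ ≫ pullback.fst (b m) (b m) ≫ g) ≫ u
  let x₂ : (yon S).obj (E₂.obj top₂) ⟶ Z := (yon S).map (a₂ top₂ ≫ pullback.snd (b m) (b m) ≫ g) ≫ u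
  -- the square of `E m` over the limit
  have sqm : IsPullback (cE.π.app m) (e ≫ ψ) (b m) (c.π.app m.left) := by
    haveI := he
    refine IsPullback.of_right (h₁₂ := a m) (h₂₂ := D.map m.hom) ?_ ((hEπ m).2.trans (Category.assoc _ _ _).symm)
      (hEsq m)
    rw [(hEπ m).1, c.w]
    exact IsPullback.of_iso sqW (asIso e).symm (Iso.refl _) (Iso.refl _) (Iso.refl _) (by simp) (by simp) (by simp)
      (by simp)
  have h₁ : x₁ ≫ t = x₂ ≫ t := by
    simp only [x₁, x₂, Category.assoc]
    rw [← hα, ← Functor.map_comp, ← Functor.map_comp]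
    simp only [Category.assoc, hgα', pullback.condition_assoc]
  have h₂ : (yon S).map (cE₂.π.app top₂) ≫ x₁ = (yon S).map (cE₂.π.app top₂) ≫ x₂ := by
    have hb : ∀ (p : cE₂.pt ⟶ E.obj m), p ≫ b m = (e₂ ≫ pullback.snd q₂ (c.π.app m.left)) ≫ c.π.app m.left →
        (yon S).map (p ≫ g) ≫ u = (yon S).map (e₂ ≫ pullback.snd q₂ (c.π.app m.left)) ≫ s := by
      intro p hp
      let l := sqm.lift p (e₂ ≫ pullback.snd q₂ (c.π.app m.left)) hp
      rw [show p = l ≫ cE.π.app m from (sqm.lift_fst _ _ _).symm, Category.assoc, hg, ← Category.assoc l,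
        Functor.map_comp, Category.assoc, hwu, ← Functor.map_comp_assoc, Category.assoc, sqm.lift_snd]
    simp only [x₁, x₂, ← Functor.map_comp_assoc]
    simp only [← Category.assoc _ (a₂ top₂), (hE₂π top₂).1]
    rw [← Category.assoc _ _ g, ← Category.assoc _ _ g, hb, hb]
    · simp [q₂, pullback.condition, ← pullback.condition (f := q₂) (g := c.π.app m.left)]
    · simp [q₂, ← pullback.condition (f := q₂) (g := c.π.app m.left)]
  obtain ⟨n, φn, hn⟩ := exists_stage_eq hcE₂ hE₂a hZ hT hl top₂ x₁ x₂ h₁ h₂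
  -- descend
  let nk : CategoryTheory.Over k := CategoryTheory.Over.mk (n.hom ≫ m.hom)
  let μ : nk ⟶ m := CategoryTheory.Over.homMk n.hom
  let en := b nk
  haveI : IsAffine (E.obj nk).left := hEa nk
  have hene : Etale ((Over.forget S).map en) :=
    MorphismProperty.of_isPullback (P := @Etale) ((hEsq nk).map (Over.forget S)) (show Etale ψk.left from inferInstance)
  have hens : Surjective ((Over.forget S).map en) :=
    MorphismProperty.of_isPullback (P := @Surjective) ((hEsq nk).map (Over.forget S))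
      (show Surjective ψk.left from inferInstance)
  haveI : Sheaf.IsLocallySurjective ((yon S).map en) :=
    chart_isLocallySurjective ((repWith_yon_map_iff _ _).2 hene) ((repWith_yon_map_iff _ _).2 hens)
  haveI : Epi ((yon S).map en) := Sheaf.epi_of_isLocallySurjective _
  haveI := IsRegularEpiCategory.regularEpiOfEpi ((yon S).map en)
  let gn := E.map μ ≫ g
  have hμb : E.map μ ≫ b m = en ≫ D.map n.hom := (hEm μ).2
  have hker : (yon S).map (pullback.fst en en) ≫ (yon S).map gn ≫ u =
      (yon S).map (pullback.snd en en) ≫ (yon S).map gn ≫ u := by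
    let p : pullback en en ⟶ R₂ := pullback.lift (pullback.fst en en ≫ E.map μ) (pullback.snd en en ≫ E.map μ)
      (by rw [Category.assoc, Category.assoc, hμb, pullback.condition_assoc])
    let l := (hE₂sq n).lift p (pullback.fst en en ≫ en) (by
      simp only [p, q₂, pullback.lift_fst_assoc, Category.assoc, hμb])
    have key : l ≫ E₂.map φn ≫ a₂ top₂ = p := by rw [(hE₂m φn).1, (hE₂sq n).lift_fst]
    have := congrArg (fun z => (yon S).map l ≫ z) hn
    simp only [x₁, x₂] at this
    rw [← Functor.map_comp_assoc, ← Functor.map_comp_assoc, ← Functor.map_comp_assoc, ← Functor.map_comp_assoc] at this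
    simp only [Category.assoc] at this
    rw [reassoc_of% key, reassoc_of% key] at this
    simp only [p, pullback.lift_fst_assoc, pullback.lift_snd_assoc, Category.assoc] at this
    simpa only [gn, ← Functor.map_comp_assoc] using this
  obtain ⟨xn, hxn⟩ := IsRegularEpi.exists_of_isKernelPair ((yon S).map en)
    (isPullback_yon (IsPullback.of_hasPullback en en)) _ hker
  refine ⟨n.left, n.hom ≫ m.hom ≫ φi, xn ≫ pullback.fst f y, ?_, ?_⟩
  · -- in the limit
    haveI : Sheaf.IsLocallySurjective ((yon S).map ψ) :=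
      chart_isLocallySurjective ((repWith_yon_map_iff _ _).2 ‹Etale ψ.left›)
        ((repWith_yon_map_iff _ _).2 ‹Surjective ψ.left›)
    haveI : Epi ((yon S).map ψ) := Sheaf.epi_of_isLocallySurjective _
    haveI := he
    suffices h : (yon S).map (c.π.app n.left) ≫ xn = s by rw [reassoc_of% h, pullback.lift_fst]
    rw [← cancel_epi ((yon S).map ψ), ← cancel_epi ((yon S).map e)]
    have hbn : e ≫ ψ ≫ c.π.app n.left = cE.π.app nk ≫ en := (hEπ nk).2.symm
    rw [← Functor.map_comp_assoc, ← Functor.map_comp_assoc, Category.assoc, hbn, Functor.map_comp_assoc, hxn,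
      ← Functor.map_comp_assoc, ← Category.assoc, cE.w μ, hg, Functor.map_comp, Category.assoc, hwu]
  · rw [Category.assoc, pullback.condition, ← Category.assoc]
    refine congrArg (· ≫ y) ?_
    rw [← cancel_epi ((yon S).map en), ← Category.assoc, hxn, Category.assoc, ← hα, ← Functor.map_comp,
      ← Functor.map_comp]
    refine congrArg (yon S).map ?_
    rw [Category.assoc, hgα', reassoc_of% hμb, ← D.map_comp]

end

/-- Morphisms locally of finite presentation are relatively limit preserving. -/
theorem relLim_of_locP_lfp {X Y : Sp S} (hX : IsAlgSpace X) (hY : IsAlgSpace Y) (f : X ⟶ Y)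
    (hf : LocP @LocallyOfFinitePresentation f) : RelLim f.hom := by
  intro I _ _ D c hc hD hT
  refine ⟨fun i x g h => ?_, fun i x x' h h' => ?_⟩
  · obtain ⟨x, rfl⟩ := (J S).uliftYonedaEquiv.{u + 1}.surjective x
    obtain ⟨g, rfl⟩ := (J S).uliftYonedaEquiv.{u + 1}.surjective g
    rw [← GrothendieckTopology.uliftYonedaEquiv_comp, GrothendieckTopology.uliftYonedaEquiv_naturality] at h
    haveI : IsAffine c.pt.left := hT
    obtain ⟨j, φ, x', hx, hxf⟩ := exists_stage_point hc hD hX hY hf x i g
      ((J S).uliftYonedaEquiv.{u + 1}.injective h)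
    refine ⟨j, φ, (J S).uliftYonedaEquiv.{u + 1} x', ?_, ?_⟩
    · rw [← GrothendieckTopology.uliftYonedaEquiv_comp, GrothendieckTopology.uliftYonedaEquiv_naturality, hxf]
    · rw [GrothendieckTopology.uliftYonedaEquiv_naturality]
      exact congrArg _ hx
  · obtain ⟨x, rfl⟩ := (J S).uliftYonedaEquiv.{u + 1}.surjective x
    obtain ⟨x', rfl⟩ := (J S).uliftYonedaEquiv.{u + 1}.surjective x'
    rw [← GrothendieckTopology.uliftYonedaEquiv_comp, ← GrothendieckTopology.uliftYonedaEquiv_comp] at h
    rw [GrothendieckTopology.uliftYonedaEquiv_naturality, GrothendieckTopology.uliftYonedaEquiv_naturality] at h'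
    obtain ⟨j, φ, hj⟩ := exists_stage_eq hc hD hX hY hf i x x' ((J S).uliftYonedaEquiv.{u + 1}.injective h)
      ((J S).uliftYonedaEquiv.{u + 1}.injective h')
    refine ⟨j, φ, ?_⟩
    rw [GrothendieckTopology.uliftYonedaEquiv_naturality, GrothendieckTopology.uliftYonedaEquiv_naturality]
    exact congrArg _ hj

/-- Relatively limit preserving morphisms lift points along limits. -/
theorem liftsPoints_of_relLim {X Y : Sp S} (f : X ⟶ Y) (h : RelLim f.hom) : LiftsPoints f := by
  intro I _ _ D c hc hD hT x i y hxy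
  obtain ⟨j, φ, xj, hxj, hjx⟩ := (h D c hc hD hT).1 i ((J S).uliftYonedaEquiv.{u + 1} x)
    ((J S).uliftYonedaEquiv.{u + 1} y) (by
      rw [← GrothendieckTopology.uliftYonedaEquiv_comp, GrothendieckTopology.uliftYonedaEquiv_naturality, hxy]
      rfl)
  obtain ⟨xj, rfl⟩ := (J S).uliftYonedaEquiv.{u + 1}.surjective xj
  rw [← GrothendieckTopology.uliftYonedaEquiv_comp, GrothendieckTopology.uliftYonedaEquiv_naturality] at hxj
  rw [GrothendieckTopology.uliftYonedaEquiv_naturality] at hjx
  exact ⟨j, φ, xj, (J S).uliftYonedaEquiv.{u + 1}.injective hjx, (J S).uliftYonedaEquiv.{u + 1}.injective hxj⟩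

end GrothLib.AlgSp
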