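import Groth.Agent.Lib.AlgSp.SchImage
import Groth.Agent.Lib.AlgSp.LocPPoints

/-!
# Scheme theoretic images of reduced spaces

* `exists_factor_of_reduced`, `isRedInduced_of_isSchImage`, `isSchImage_of_isRedInduced`,
  `isSchImage_etale_of_reduced`.
-/

universe u

open CategoryTheory CategoryTheory.Limits AlgebraicGeometry

namespace GrothLib.AlgSp

open _root_.AlgSp

variable {S : Scheme.{u}} {F X Z : Sp S} {f : F ⟶ X} {i : Z ⟶ X}

/-- Points of a chart over a closed subspace lie in its ideal's subscheme. -/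
theorem mem_range_subscheme_of_mem_range {U : Over S} {a : (yon S).obj U ⟶ X} {J : U.left.IdealSheafData}
    {p : (yon S).obj (Over.mk (J.subschemeι ≫ U.hom)) ⟶ Z}
    (sq : IsPullback p ((yon S).map (Over.homMk J.subschemeι rfl : Over.mk (J.subschemeι ≫ U.hom) ⟶ U)) i a)
    {u : ↥U.left} (h : Points.ofPt a u ∈ Set.range (Points.map i)) : u ∈ Set.range J.subschemeι := by
  obtain ⟨z, hz⟩ := h
  rw [Points.ofPt_eq_map_ofScheme] at hz
  obtain ⟨c, -, hc⟩ := exists_of_isPullback sq hz
  let η := Points.schemeHomeo (Over.mk (J.subschemeι ≫ U.hom))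
  have e : Points.map ((yon S).map (Over.homMk J.subschemeι rfl : Over.mk (J.subschemeι ≫ U.hom) ⟶ U))
      (η (η.symm c)) = Points.schemeHomeo U (J.subschemeι (η.symm c)) := Points.map_yon_map_apply _ _
  rw [η.apply_symm_apply, hc] at e
  exact ⟨_, (Points.schemeHomeo U).injective e.symm⟩

/-- Reduced spaces factor through closed subspaces containing their image. -/
theorem exists_factor_of_reduced (hF : IsAlgSpace F) (hX : IsAlgSpace X) (hr : IsReducedSp F)
    (hi : RepWith @IsClosedImmersion i) (h : Set.range (Points.map f) ⊆ Set.range (Points.map i)) :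
    ∃ k, k ≫ i = f := by
  obtain ⟨U, a, hae, has⟩ := hX.atlas
  obtain ⟨W, b, g, hbe, hg, hbs⟩ := exists_chart_over hF hX f a hae
  haveI : Sheaf.IsLocallySurjective b := chart_isLocallySurjective hbe (hbs has)
  haveI : Mono i := mono_of_closedImmersion hi
  obtain ⟨J, p, -, sq⟩ := exists_chart_ideal hi a
  haveI : IsReduced W.left := etaleLocally_chart (Q := fun T => IsReduced T) (fun A B k => isReduced_of_etale k) (fun A B k => isReduced_desc k) hr b hbe
  refine (exists_factor_ideal_iff sq hg).2 ?_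
  obtain ⟨l, hl⟩ := RedSub.exists_lift g.left J.subschemeι (by
    rintro _ ⟨w, rfl⟩
    refine mem_range_subscheme_of_mem_range sq ?_
    obtain ⟨z, hz⟩ := h ⟨Points.ofPt b w, rfl⟩
    refine ⟨z, hz.trans ?_⟩
    rw [Points.map_ofPt, hg, ofPt_map_comp])
  exact (exists_factor_subscheme_iff J g).1 ⟨Over.homMk l (by
    change l ≫ J.subschemeι ≫ U.hom = W.hom
    rw [reassoc_of% hl, Over.w]), Over.OverMorphism.ext hl⟩

/-- The reduced closure of the image is the scheme theoretic image. -/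
theorem isSchImage_of_isRedInduced (hF : IsAlgSpace F) (hX : IsAlgSpace X) (hZ : IsAlgSpace Z) (hr : IsReducedSp F)
    (h : IsRedInduced (closure (Set.range (Points.map f))) i) : IsSchImage f i := by
  refine ⟨h.1, exists_factor_of_reduced hF hX hr h.1 (h.2.1.symm ▸ subset_closure), fun Z' i' _ hi' ⟨f', hf'⟩ => ?_⟩
  refine exists_factor_of_reduced hZ hX h.2.2 hi' (h.2.1.le.trans ?_)
  refine closure_minimal ?_ (isClosedEmbedding_of_closedImmersion hi').isClosed_range
  rintro _ ⟨x, rfl⟩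
  exact ⟨Points.map f' x, by rw [← Points.map_comp, hf']⟩

/-- Scheme theoretic images of reduced spaces are reduced closures. -/
theorem isRedInduced_of_isSchImage (hF : IsAlgSpace F) (hX : IsAlgSpace X) (hZ : IsAlgSpace Z)
    (hr : IsReducedSp F) (h : IsSchImage f i) : IsRedInduced (closure (Set.range (Points.map f))) i := by
  obtain ⟨Z₀, i₀, hZ₀, hi₀⟩ := exists_isRedInduced_sp hX (T := closure (Set.range (Points.map f))) isClosed_closure
  have h₀ := isSchImage_of_isRedInduced hF hX hZ₀ hr hi₀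
  obtain ⟨k, hk⟩ := h.2.2 i₀ hZ₀ h₀.1 h₀.2.1
  obtain ⟨l, hl⟩ := h₀.2.2 i hZ h.1 h.2.1
  haveI : Mono i := mono_of_closedImmersion h.1
  haveI : Mono i₀ := mono_of_closedImmersion h₀.1
  let e : Z₀ ≅ Z := ⟨l, k, by rw [← cancel_mono i₀, Category.assoc, hk, hl, Category.id_comp],
    by rw [← cancel_mono i, Category.assoc, hl, hk, Category.id_comp]⟩
  refine ⟨h.1, ?_, ?_⟩
  · rw [← hi₀.2.1, ← hl]
    ext x
    constructor
    · rintro ⟨z, rfl⟩
      exact ⟨Points.map e.inv z, by rw [← Points.map_comp]; exact congrArg (fun q => Points.map q z) (e.inv_hom_id_assoc i)⟩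
    · rintro ⟨z, rfl⟩
      exact ⟨Points.map l z, (Points.map_comp _ _ _).symm⟩
  · obtain ⟨U, p, pe, ps, hU⟩ := hi₀.2.2
    haveI : IsIso l := ⟨k, e.hom_inv_id, e.inv_hom_id⟩
    exact ⟨U, p ≫ l, repWith_comp pe (repWith_iso l), repWith_comp ps (repWith_iso l), hU⟩

/-- Etale base change of scheme theoretic images of reduced spaces. -/
theorem isSchImage_etale_of_reduced {X' F' Z' : Sp S} (hF : IsAlgSpace F) (hX : IsAlgSpace X) (hZ : IsAlgSpace Z)
    (hX' : IsAlgSpace X') (hr : IsReducedSp F) (h : IsSchImage f i) {φ : X' ⟶ X} (hφ : IsEtaleMor φ)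
    {f₁ : F' ⟶ F} {f' : F' ⟶ X'} (sqF : IsPullback f₁ f' f φ)
    {i₁ : Z' ⟶ Z} {i' : Z' ⟶ X'} (sqZ : IsPullback i₁ i' i φ) : IsSchImage f' i' := by
  have hF' : IsAlgSpace F' := isAlgSpace_pullback hX.diag hF hX' sqF
  have hZ' : IsAlgSpace Z' := isAlgSpace_pullback hX.diag hZ hX' sqZ
  have hsm : ∀ {A B : Sp S} {g : A ⟶ B}, LocP @Etale g → LocP @Smooth g := fun hg =>
    locP_mono (P := @Etale) (Q := @Smooth) (fun _ _ g (_ : Etale g) => inferInstance) hg
  have hl := locP_of_isEtaleMor hX hφ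
  have hri := isRedInduced_of_isSchImage hF hX hZ hr h
  refine isSchImage_of_isRedInduced hF' hX' hZ'
    (isReducedSp_of_smooth hF' hF (hsm (EtLocal.locP_of_isPullback EtLocal.etale hX' hX hF sqF.flip hl)) hr)
    ⟨repWith_of_isPullback sqZ h.1, ?_,
      isReducedSp_of_smooth hZ' hZ (hsm (EtLocal.locP_of_isPullback EtLocal.etale hX' hX hZ sqZ.flip hl)) hri.2.2⟩
  have himg : ∀ {A A' : Sp S} {q : A ⟶ X} {q₁ : A' ⟶ A} {q' : A' ⟶ X'}, IsPullback q₁ q' q φ →
      Set.range (Points.map q') = Points.map φ ⁻¹' Set.range (Points.map q) := fun {A A' q q₁ q'} sq => by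
    rw [← Set.image_univ, ← Set.image_univ, preimage_image_of_isPullback sq, Set.preimage_univ]
  rw [himg sqZ, himg sqF, hri.2.1]
  exact (isOpenMap_map_of_isEtaleMor hX' hX hφ).preimage_closure_eq_closure_preimage (Points.continuous_map φ) _

end GrothLib.AlgSp
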