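import Groth.Agent.Lib.AlgSp.Limit
import Groth.Agent.Lib.AlgSp.SchImageRed
import Groth.Agent.Lib.AlgSp.EtaleLocallyProps
import Groth.Agent.Lib.AlgSp.FlatMono
import Groth.Agent.Lib.AlgSp.SigmaChart
import Groth.Agent.Lib.AlgSp.PointsUniv
import Groth.Agent.Lib.AlgSp.AffineMor
import Groth.Agent.Lib.AlgSp.Diag
import Groth.Agent.Lib.LimStage.Points

/-!
# Points of a limit of algebraic spaces

* `exists_basic_nhd`, `closure_singleton_eq`: the topology of the limit;
* `points_limit_injective`, `points_limit_surjective`: the points of a limit of decent spaces;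
* `isReducedSp_limit`, `nonempty_isLimit_redInduced`: limits of reduced closed subspaces.
-/

universe u

open CategoryTheory CategoryTheory.Limits AlgebraicGeometry

namespace GrothLib.AlgSp

open _root_.AlgSp

variable {S : Scheme.{u}} {I : Type u} [SmallCategory I] [IsCofiltered I] {D : I ⥤ Sp S}

set_option backward.isDefEq.respectTransparency false

/-- Points of the limit with the same image at a stage of a chart. -/
theorem isPullback_chart_stage {c : Cone D} {i : I} {Z : Over S} {g : (yon S).obj Z ⟶ D.obj i}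
    {E : CategoryTheory.Over i ⥤ Over S} {cW : Cone E} {f : ∀ j, (yon S).obj (E.obj j) ⟶ D.obj j.left}
    {w : ∀ j, E.obj j ⟶ Z} {fst : (yon S).obj cW.pt ⟶ c.pt} {snd : cW.pt ⟶ Z}
    (hE : ∀ j, IsAffine (E.obj j).left ∧ IsPullback (f j) ((yon S).map (w j)) (D.map j.hom) g)
    (hEπ : ∀ j, fst ≫ c.π.app j.left = (yon S).map (cW.π.app j) ≫ f j ∧ cW.π.app j ≫ w j = snd)
    (sq : IsPullback fst ((yon S).map snd) (c.π.app i) g) (j : CategoryTheory.Over i) :
    IsPullback fst ((yon S).map (cW.π.app j)) (c.π.app j.left) (f j) := by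
  refine IsPullback.of_bot ?_ (hEπ j).1 (hE j).2
  rw [← Functor.map_comp, (hEπ j).2, c.w]
  exact sq

/-- A basis of the topology of the limit. -/
theorem exists_basic_nhd (hD : ∀ i, IsAlgSpace (D.obj i))
    (hDa : ∀ (i j : I) (φ : i ⟶ j), IsAffineMor (D.map φ)) {c : Cone D} (hc : IsLimit c)
    {W : Set (Points c.pt)} (hW : IsOpen W) {x : Points c.pt} (hx : x ∈ W) :
    ∃ (j : I) (O : Set (Points (D.obj j))), IsOpen O ∧ Points.map (c.π.app j) x ∈ O ∧
      Points.map (c.π.app j) ⁻¹' O ⊆ W := by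
  haveI := IsCofiltered.isConnected I
  obtain ⟨i⟩ := (IsCofiltered.nonempty : Nonempty I)
  obtain ⟨κ, Z, r, hZ, hr, hcov, -⟩ := exists_affine_charts (hD i)
  obtain ⟨n, z, hz⟩ := hcov (Points.map (c.π.app i) x)
  obtain ⟨E, cW, f, w, fst, snd, ⟨hcW⟩, -, hE, hEm, hEπ, sq⟩ := exists_affine_chart_limit hDa hc i (hZ n) (r n)
  rw [Points.ofPt_eq_map_ofScheme] at hz
  obtain ⟨p, hp, -⟩ := exists_of_isPullback sq hz.symm
  obtain ⟨t, rfl⟩ := (Points.schemeHomeo cW.pt).surjective p
  let E' : CategoryTheory.Over i ⥤ Scheme.{u} := E ⋙ Over.forget S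
  haveI : ∀ j, IsAffine (E'.obj j) := fun j => (hE j).1
  haveI : ∀ (j k : CategoryTheory.Over i) (φ : j ⟶ k), IsAffineHom (E'.map φ) :=
    fun j k φ => isAffineHom_of_isAffine _
  haveI : CategoryTheory.IsConnected (CategoryTheory.Over i) := IsCofiltered.isConnected _
  have htW : t ∈ Points.ofPt fst ⁻¹' W := by
    rw [Set.mem_preimage, Points.ofPt_eq_map_ofScheme]
    exact (show Points.map fst (Points.ofScheme cW.pt t) = x from hp).symm ▸ hx
  obtain ⟨j, V, hV, htV, hsub⟩ := LimStage.isInducing_π E' _ (isLimitOfPreserves (Over.forget S) hcW)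
    (Points.ofPt fst ⁻¹' W) (hW.preimage (Points.continuous_ofPt fst)) t htW
  have sqj := isPullback_chart_stage hE hEπ sq j
  have hfe : RepWith @Etale (f j) := repWith_of_isPullback (hE j).2.flip (hr n)
  refine ⟨j.left, Points.ofPt (f j) '' V,
    (isOpenMap_ofPt_of_repWith (fun _ _ g (_ : Etale g) => g.isOpenMap) hfe) V hV,
    ⟨(cW.π.app j).left t, htV, ?_⟩, ?_⟩
  · rw [← ofPt_map_comp, ← (hEπ j).1, ← hp, ← Points.map_comp]
    exact Points.ofPt_eq_map_ofScheme _ _
  · rintro x' ⟨v, hv, hvx⟩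
    rw [Points.ofPt_eq_map_ofScheme] at hvx
    obtain ⟨p', hp', hq'⟩ := exists_of_isPullback sqj hvx.symm
    obtain ⟨t', rfl⟩ := (Points.schemeHomeo cW.pt).surjective p'
    have e : (cW.π.app j).left t' = v := by
      exact (Points.schemeHomeo (E.obj j)).injective
        ((Points.map_yon_map_apply (cW.π.app j) t').symm.trans hq')
    have h' : t' ∈ Points.ofPt fst ⁻¹' W := hsub (show (cW.π.app j).left t' ∈ V from e.symm ▸ hv)
    rw [Set.mem_preimage, Points.ofPt_eq_map_ofScheme] at h'
    exact hp' ▸ h'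

/-- The topology of the limit is induced by the projections. -/
theorem topology_limit_eq (hD : ∀ i, IsAlgSpace (D.obj i))
    (hDa : ∀ (i j : I) (φ : i ⟶ j), IsAffineMor (D.map φ)) {c : Cone D} (hc : IsLimit c) :
    Points.topologicalSpace c.pt =
      ⨅ i, TopologicalSpace.induced (Points.map (c.π.app i)) (Points.topologicalSpace (D.obj i)) := by
  refine le_antisymm (le_iInf fun i => continuous_iff_le_induced.1 (Points.continuous_map _)) fun W hW => ?_
  refine (@isOpen_iff_forall_mem_open _ (⨅ i, TopologicalSpace.induced (Points.map (c.π.app i))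
    (Points.topologicalSpace (D.obj i))) W).2 fun x hx => ?_
  obtain ⟨j, O, hO, hxO, hsub⟩ := exists_basic_nhd hD hDa hc hW hx
  exact ⟨_, hsub, (iInf_le (fun i => TopologicalSpace.induced (Points.map (c.π.app i))
    (Points.topologicalSpace (D.obj i))) j) _ (isOpen_induced hO), hxO⟩

/-- The closure of a point of the limit. -/
theorem closure_singleton_eq (hD : ∀ i, IsAlgSpace (D.obj i))
    (hDa : ∀ (i j : I) (φ : i ⟶ j), IsAffineMor (D.map φ)) {c : Cone D} (hc : IsLimit c) (x : Points c.pt) :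
    closure {x} = {x' | ∀ i, Points.map (c.π.app i) x' ∈ closure {Points.map (c.π.app i) x}} := by
  ext x'
  constructor
  · intro h i
    have := map_mem_closure (Points.continuous_map (c.π.app i)) h
      (show Set.MapsTo (Points.map (c.π.app i)) {x} {Points.map (c.π.app i) x} from fun y hy => by
        rw [Set.mem_singleton_iff.1 hy]; rfl)
    exact this
  · intro h
    refine mem_closure_iff.2 fun W hW hx' => ⟨x, ?_, rfl⟩
    obtain ⟨j, O, hO, hxO, hsub⟩ := exists_basic_nhd hD hDa hc hW hx'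
    obtain ⟨y, hy, hy'⟩ := mem_closure_iff.1 (h j) O hO hxO
    rw [Set.mem_singleton_iff] at hy'
    exact hsub (show Points.map (c.π.app j) x ∈ O from hy' ▸ hy)

/-- Points of a limit of decent spaces with the same images are equal. -/
theorem points_limit_injective (hD : ∀ i, IsAlgSpace (D.obj i))
    (hDa : ∀ (i j : I) (φ : i ⟶ j), IsAffineMor (D.map φ)) {c : Cone D} (hc : IsLimit c)
    (hdec : ∀ i, IsDecent (D.obj i)) {x x' : Points c.pt}
    (h : ∀ i, Points.map (c.π.app i) x = Points.map (c.π.app i) x') : x = x' := by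
  haveI := IsCofiltered.isConnected I
  obtain ⟨i⟩ := (IsCofiltered.nonempty : Nonempty I)
  obtain ⟨q, hq, hqm, -⟩ := hdec i (Points.map (c.π.app i) x)
  obtain ⟨E, cW, f, w, fst, snd, ⟨hcW⟩, -, hE, hEm, hEπ, sq⟩ := exists_affine_chart_limit hDa hc i
    (inferInstanceAs (IsAffine (Spec (CommRingCat.of q.K)))) q.toHom
  rw [← Points.ofPt_toHom q (IsLocalRing.closedPoint q.K), Points.ofPt_eq_map_ofScheme] at hq
  obtain ⟨p, hp, -⟩ := exists_of_isPullback sq hq.symm
  obtain ⟨p', hp', -⟩ := exists_of_isPullback sq ((h i).symm.trans hq.symm)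
  obtain ⟨t, rfl⟩ := (Points.schemeHomeo cW.pt).surjective p
  obtain ⟨t', rfl⟩ := (Points.schemeHomeo cW.pt).surjective p'
  let E' : CategoryTheory.Over i ⥤ Scheme.{u} := E ⋙ Over.forget S
  haveI : ∀ j, IsAffine (E'.obj j) := fun j => (hE j).1
  haveI : ∀ (j k : CategoryTheory.Over i) (φ : j ⟶ k), IsAffineHom (E'.map φ) :=
    fun j k φ => isAffineHom_of_isAffine _
  haveI : CategoryTheory.IsConnected (CategoryTheory.Over i) := IsCofiltered.isConnected _
  have key : t = t' := LimStage.eq_of_forall_π_eq E' _ (isLimitOfPreserves (Over.forget S) hcW) fun j => by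
    haveI := hqm
    haveI : Mono (f j) := by
      refine mono_of_yon fun T a b hab => ?_
      refine (hE j).2.hom_ext hab ((cancel_mono q.toHom).1 ?_)
      rw [Category.assoc, Category.assoc, ← (hE j).2.w, reassoc_of% hab]
    refine (Points.schemeHomeo (E.obj j)).injective (injective_map_of_mono (f j) ?_)
    show Points.map (f j) (Points.schemeHomeo _ ((cW.π.app j).left t)) =
      Points.map (f j) (Points.schemeHomeo _ ((cW.π.app j).left t'))
    rw [← Points.map_yon_map_apply, ← Points.map_yon_map_apply, ← Points.map_comp, ← Points.map_comp,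
      ← (hEπ j).1, Points.map_comp, Points.map_comp]
    exact (congrArg _ hp).trans ((h j.left).trans (congrArg _ hp').symm)
  rw [← hp, ← hp', key]

/-- Compatible families of points of decent spaces come from the limit. -/
theorem points_limit_surjective (hD : ∀ i, IsAlgSpace (D.obj i))
    (hDa : ∀ (i j : I) (φ : i ⟶ j), IsAffineMor (D.map φ)) {c : Cone D} (hc : IsLimit c)
    (hdec : ∀ i, IsDecent (D.obj i)) (s : ∀ i, Points (D.obj i))
    (hs : ∀ (i j : I) (φ : i ⟶ j), Points.map (D.map φ) (s i) = s j) :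
    ∃ x : Points c.pt, ∀ i, Points.map (c.π.app i) x = s i := by
  haveI := IsCofiltered.isConnected I
  obtain ⟨i⟩ := (IsCofiltered.nonempty : Nonempty I)
  obtain ⟨q, hq, hqm, -⟩ := hdec i (s i)
  obtain ⟨E, cW, f, w, fst, snd, ⟨hcW⟩, -, hE, hEm, hEπ, sq⟩ := exists_affine_chart_limit hDa hc i
    (inferInstanceAs (IsAffine (Spec (CommRingCat.of q.K)))) q.toHom
  rw [← Points.ofPt_toHom q (IsLocalRing.closedPoint q.K), Points.ofPt_eq_map_ofScheme] at hq
  have hfm : ∀ j, Mono (f j) := fun j => by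
    haveI := hqm
    refine mono_of_yon fun T a b hab => ?_
    refine (hE j).2.hom_ext hab ((cancel_mono q.toHom).1 ?_)
    rw [Category.assoc, Category.assoc, ← (hE j).2.w, reassoc_of% hab]
  have hex : ∀ j : CategoryTheory.Over i, ∃ t : ↥(E.obj j).left,
      Points.map (f j) (Points.schemeHomeo _ t) = s j.left := fun j => by
    obtain ⟨p, hp, -⟩ := exists_of_isPullback (hE j).2 ((hs _ _ j.hom).trans hq.symm)
    obtain ⟨t, rfl⟩ := (Points.schemeHomeo (E.obj j)).surjective p
    exact ⟨t, hp⟩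
  choose t ht using hex
  let E' : CategoryTheory.Over i ⥤ Scheme.{u} := E ⋙ Over.forget S
  haveI : ∀ j, IsAffine (E'.obj j) := fun j => (hE j).1
  haveI : ∀ (j k : CategoryTheory.Over i) (φ : j ⟶ k), IsAffineHom (E'.map φ) :=
    fun j k φ => isAffineHom_of_isAffine _
  haveI : CategoryTheory.IsConnected (CategoryTheory.Over i) := IsCofiltered.isConnected _
  obtain ⟨t₀, ht₀⟩ := LimStage.exists_π_eq E' _ (isLimitOfPreserves (Over.forget S) hcW) t fun {j k} φ => by
    haveI := hfm k
    refine (Points.schemeHomeo (E.obj k)).injective (injective_map_of_mono (f k) ?_)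
    show Points.map (f k) (Points.schemeHomeo _ ((E.map φ).left (t j))) = _
    rw [ht k, ← Points.map_yon_map_apply, ← Points.map_comp, (hEm φ).1, Points.map_comp, ht j, hs]
  refine ⟨Points.map fst (Points.schemeHomeo _ t₀), fun j => ?_⟩
  obtain ⟨m, u, v, -⟩ := IsCofilteredOrEmpty.cone_objs i j
  have hm : Points.map (c.π.app m) (Points.map fst (Points.schemeHomeo _ t₀)) = s m := by
    rw [← Points.map_comp, show fst ≫ c.π.app m = _ from (hEπ (CategoryTheory.Over.mk u)).1, Points.map_comp]
    exact (congrArg (Points.map (f (CategoryTheory.Over.mk u))) ((Points.map_yon_map_apply _ _).trans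
      (congrArg (Points.schemeHomeo _) (ht₀ (CategoryTheory.Over.mk u))))).trans (ht _)
  rw [← c.w v, Points.map_comp, hm, hs]

/-- A limit of reduced spaces is reduced. -/
theorem isReducedSp_limit (hD : ∀ i, IsAlgSpace (D.obj i))
    (hDa : ∀ (i j : I) (φ : i ⟶ j), IsAffineMor (D.map φ)) {c : Cone D} (hc : IsLimit c)
    (hr : ∀ i, IsReducedSp (D.obj i)) : IsReducedSp c.pt := by
  haveI := IsCofiltered.isConnected I
  obtain ⟨i⟩ := (IsCofiltered.nonempty : Nonempty I)
  obtain ⟨κ, Z, r, hZ, hre, hcov, -⟩ := exists_affine_charts (hD i)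
  choose E cW f w fst snd hcW hWa hE hEm hEπ sq using fun n : κ => exists_affine_chart_limit hDa hc i (hZ n) (r n)
  have hX := isAlgSpace_limit hDa hD hc
  let V : κ → Over S := fun n => (cW n).pt
  obtain ⟨a, ha, -⟩ := exists_hom_of_sigma V fst
  have hae : RepWith @Etale a :=
    repWith_sigma hX.diag V fst a ha @Etale fun n => repWith_of_isPullback (sq n).flip (hre n)
  refine ⟨sigmaOver V, a, hae, repWith_surjective_of_ofPt hae.1 fun x => ?_, ?_⟩
  · obtain ⟨n, z, hz⟩ := hcov (Points.map (c.π.app i) x)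
    rw [Points.ofPt_eq_map_ofScheme] at hz
    obtain ⟨p, hp, -⟩ := exists_of_isPullback (sq n) hz.symm
    obtain ⟨t, rfl⟩ := (Points.schemeHomeo (V n)).surjective p
    refine ⟨(sigmaι V n).left t, ?_⟩
    rw [← ofPt_map_comp, ha, Points.ofPt_eq_map_ofScheme, ← hp]
    rfl
  · haveI : ∀ n, IsReduced (V n).left := fun n => by
      haveI := hWa n
      exact isReduced_of_isLimit (hcW n).some (fun j => (hE n j).1) fun j =>
        etaleLocally_chart (Q := fun T => IsReduced T) (fun A B k => isReduced_of_etale k)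
          (fun A B k => isReduced_desc k) (hr j.left) (f n j) (repWith_of_isPullback (hE n j).2.flip (hre n))
    haveI : ∀ n, IsReduced ((sigmaOpenCover fun n => (V n).left).X n) := fun n => ‹∀ n, IsReduced (V n).left› n
    exact IsReduced.of_openCover _ (sigmaOpenCover fun n => (V n).left)

/-- The reduced closure of a point of a limit is the limit of the reduced closures of its images. -/
theorem nonempty_isLimit_redInduced (hD : ∀ i, IsAlgSpace (D.obj i))
    (hDa : ∀ (i j : I) (φ : i ⟶ j), IsAffineMor (D.map φ)) {c : Cone D} (hc : IsLimit c) (x : Points c.pt)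
    {Z : Sp S} (zι : Z ⟶ c.pt) (hz : IsRedInduced (closure {x}) zι) {DZ : I ⥤ Sp S}
    (hDZ : ∀ i, IsAlgSpace (DZ.obj i)) (ι : DZ ⟶ D)
    (hι : ∀ i, IsRedInduced (closure {Points.map (c.π.app i) x}) (ι.app i))
    (ξ : (Functor.const I).obj Z ⟶ DZ) (hξ : ∀ i, ξ.app i ≫ ι.app i = zι ≫ c.π.app i) :
    Nonempty (IsLimit (Cone.mk Z ξ)) := by
  have hm : ∀ i, Mono (ι.app i) := fun i => mono_of_closedImmersion (hι i).1
  have hDZa : ∀ (i j : I) (φ : i ⟶ j), IsAffineMor (DZ.map φ) := fun i j φ => by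
    refine isAffineMor_iff.2 (repWith_of_comp_diagonal (DZ.map φ) (ι.app j) ?_ ?_)
    · exact repWith_mono ((isSeparatedMor_iff_repWith (hι j).1.1).2
        (repWith_mono (hι j).1 fun _ _ k (_ : IsClosedImmersion k) => (inferInstance : IsSeparated k)))
        fun _ _ k (_ : IsClosedImmersion k) => (inferInstance : IsAffineHom k)
    · rw [ι.naturality φ]
      exact repWith_comp (repWith_mono (hι i).1 fun _ _ k (_ : IsClosedImmersion k) => (inferInstance : IsAffineHom k))
        (isAffineMor_iff.1 (hDa i j φ))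
  let C := limit.cone DZ
  have hC : IsLimit C := limit.isLimit DZ
  let l : C.pt ⟶ c.pt := hc.lift ((Cone.postcompose ι).obj C)
  have hl : ∀ i, l ≫ c.π.app i = C.π.app i ≫ ι.app i := fun i => hc.fac _ i
  haveI : Mono zι := mono_of_closedImmersion hz.1
  obtain ⟨k, hk⟩ := exists_factor_of_reduced (f := l) (isAlgSpace_limit hDZa hDZ hC) (isAlgSpace_limit hDa hD hc)
    (isReducedSp_limit hDZ hDZa hC fun i => (hι i).2.2) hz.1 (by
      rintro _ ⟨y, rfl⟩
      rw [hz.2.1, closure_singleton_eq hD hDa hc x]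
      intro i
      rw [← (hι i).2.1, ← Points.map_comp, hl, Points.map_comp]
      exact ⟨_, rfl⟩)
  let m : Z ⟶ C.pt := hC.lift (Cone.mk Z ξ)
  have hml : m ≫ l = zι := hc.hom_ext fun i => by
    rw [Category.assoc, hl, hC.fac_assoc]
    exact hξ i
  have hmk : m ≫ k = 𝟙 Z := by rw [← cancel_mono zι, Category.assoc, hk, hml, Category.id_comp]
  have hkm : k ≫ m = 𝟙 C.pt := hC.hom_ext fun i => by
    haveI := hm i
    rw [Category.assoc, hC.fac, Category.id_comp, ← cancel_mono (ι.app i), Category.assoc, ← hl]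
    show k ≫ ξ.app i ≫ ι.app i = _
    rw [hξ, reassoc_of% hk]
  exact ⟨hC.ofIsoLimit (Cone.ext ⟨k, m, hkm, hmk⟩ fun i => by
    show C.π.app i = k ≫ ξ.app i
    rw [← hC.fac (Cone.mk Z ξ) i, reassoc_of% hkm])⟩

end GrothLib.AlgSp
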