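import Groth.Agent.Lib.AlgSp.ThickAffine
import Groth.Agent.Lib.AlgSp.Glue
import Groth.Agent.Lib.Thickening.Affine

/-!
# An algebraic space thickening a scheme is a scheme

* `exists_affine_of_thick_over`: thickenings of affine schemes over an affine open of the base;
* `exists_scheme_of_thick`: thickenings of schemes are schemes;
* `exists_affine_of_thick`: thickenings of affine schemes are affine.
-/

set_option autoImplicit false
universe u
open CategoryTheory CategoryTheory.Limits AlgebraicGeometry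
set_option backward.isDefEq.respectTransparency false

namespace GrothLib.AlgSp

open _root_.AlgSp

variable {S : Scheme.{u}}

/-- Thickenings of affine schemes over an affine scheme are affine. -/
theorem exists_affine_of_thick_over {X' : Sp S} (hX' : IsAlgSpace X') {U V : Over S} [IsAffine U.left]
    [IsAffine V.left] (h : U ⟶ V) {i : (yon S).obj U ⟶ X'} (hi : IsThickMor i) (f : X' ⟶ (yon S).obj V)
    (hf : i ≫ f = (yon S).map h) : ∃ Q : Over S, IsAffine Q.left ∧ Nonempty ((yon S).obj Q ≅ X') := by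
  have hid : IsThickMor (𝟙 ((yon S).obj V)) := by
    rw [← CategoryTheory.Functor.map_id]
    exact (isThickMor_yon_map_iff _).2 ⟨inferInstanceAs (IsClosedImmersion (𝟙 V.left)),
      inferInstanceAs (Surjective (𝟙 V.left))⟩
  have w : i ≫ f = (yon S).map h ≫ 𝟙 _ := by rw [Category.comp_id, hf]
  haveI : IsAffineHom h.left := isAffineHom_of_isAffine h.left
  have hsep : IsSeparatedMor f := (isSeparatedMor_thick_iff hX' (IsAlgSpace.yon_obj V) hi hid w).1
    ((isSeparatedMor_yon_map_iff h).2 inferInstance)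
  have hqc : IsQuasiCompactMor f := (quasiCompact_thick_iff hX' (IsAlgSpace.yon_obj V) hi hid w).1
    (isQuasiCompactMor_of_repWith ((repWith_yon_map_iff _ h).2 inferInstance))
  obtain ⟨W, R, p, t, t', hW, hR, pe, ps, sq⟩ := exists_affine_atlas_separated hX' f hqc hsep
  obtain ⟨B, sB, ⟨eW⟩⟩ := exists_specIso_of_affine hW
  obtain ⟨C, sC, ⟨eR⟩⟩ := exists_specIso_of_affine hR
  obtain ⟨A, sA, ⟨eU⟩⟩ := exists_specIso_of_affine (Q := U) inferInstance
  obtain ⟨RV, sV, ⟨eV⟩⟩ := exists_specIso_of_affine (Q := V) inferInstance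
  obtain ⟨l, hl, hl'⟩ := exists_specMap (eR.hom ≫ t ≫ eW.inv)
  subst hl
  obtain ⟨r, hr, hr'⟩ := exists_specMap (eR.hom ≫ t' ≫ eW.inv)
  let a := (yon S).map eW.hom ≫ p
  have sq' : IsPullback ((yon S).map (specMap l rfl)) ((yon S).map (specMap r hr)) a a := by
    rw [← hl', ← hr']
    refine sq.of_iso ((yon S).mapIso eR.symm) ((yon S).mapIso eW.symm) ((yon S).mapIso eW.symm) (Iso.refl _)
      ?_ ?_ ?_ ?_ <;> simp [a, ← Functor.map_comp_assoc, ← Functor.map_comp]
  have hel : RepWith @Etale ((yon S).map eW.hom) := repWith_iso _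
  have hes : RepWith @Surjective ((yon S).map eW.hom) := repWith_iso _
  let P : AffPres X' := ⟨B, C, sB, l, r, hr, a, repWith_comp hel pe, repWith_comp hes ps, sq'⟩
  obtain ⟨g, hg⟩ := (yon S).map_surjective (a ≫ f ≫ (yon S).map eV.inv)
  obtain ⟨v, hv, rfl⟩ := exists_specMap g
  have hvl : v ≫ P.l = v ≫ P.r := Spec.map_injective (by
    rw [Spec.map_comp, Spec.map_comp]
    refine congrArg (·.left) ((yon S).map_injective (X := Over.mk (Spec.map l ≫ sB)) (Y := Over.mk sV) ?_ :
      specMap l rfl ≫ specMap v hv = specMap r hr ≫ specMap v hv)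
    rw [Functor.map_comp, Functor.map_comp, hg, ← Category.assoc, sq'.w, Category.assoc])
  have sqe : IsPullback ((yon S).map eU.hom) ((yon S).map eU.hom ≫ i) i (𝟙 _) :=
    IsPullback.of_horiz_isIso ⟨by simp⟩
  exact exists_affine_of_thick_pres hX' P hvl hv (repWith_of_isPullback sqe hi)

/-- **A thickening of a scheme is a scheme.** -/
theorem exists_scheme_of_thick {X' : Sp S} (hX' : IsAlgSpace X') {T : Over S} {i : (yon S).obj T ⟶ X'}
    (hi : IsThickMor i) : ∃ M : Over S, Nonempty ((yon S).obj M ≅ X') := by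
  have key : ∀ t : T.left, ∃ (Q : Over S) (j : (yon S).obj Q ⟶ X'),
      RepWith @IsOpenImmersion j ∧ Points.ofPt i t ∈ Set.range (Points.map j) := by
    intro t
    obtain ⟨_, ⟨V₀, hV₀, rfl⟩, htV, -⟩ :=
      S.isBasis_affineOpens.exists_subset_of_mem_open (Set.mem_univ (T.hom t)) isOpen_univ
    obtain ⟨_, ⟨U₀, hU₀, rfl⟩, htU, hUV⟩ :=
      T.left.isBasis_affineOpens.exists_subset_of_mem_open
        (show t ∈ ((T.hom ⁻¹ᵁ V₀ : T.left.Opens) : Set T.left) from htV) (T.hom ⁻¹ᵁ V₀).isOpen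
    let U : Over S := Over.mk (Scheme.Opens.ι U₀ ≫ T.hom)
    let V : Over S := Over.mk (Scheme.Opens.ι V₀)
    haveI : IsAffine U.left := hU₀
    haveI : IsAffine V.left := hV₀
    let ιU : U ⟶ T := Over.homMk (Scheme.Opens.ι U₀) rfl
    let h : U ⟶ V := Over.homMk (Scheme.homOfLE _ (show U₀ ≤ T.hom ⁻¹ᵁ V₀ from hUV) ≫ T.hom ∣_ V₀) (by
      show (Scheme.homOfLE _ _ ≫ T.hom ∣_ V₀) ≫ (Scheme.Opens.ι V₀) = (Scheme.Opens.ι U₀) ≫ T.hom
      rw [Category.assoc, morphismRestrict_ι, Scheme.homOfLE_ι_assoc])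
    have hh := homeo_of_thick hi hX'
    have hιU : RepWith @IsOpenImmersion ((yon S).map ιU) :=
      (repWith_yon_map_iff _ ιU).2 (inferInstanceAs (IsOpenImmersion (Scheme.Opens.ι U₀)))
    let O := Points.map i '' Set.range (Points.map ((yon S).map ιU))
    have hO : IsOpen O := hh.isOpenMap _ (isOpen_range_openImmersion hιU)
    let j := openSubι X' O
    have hj : RepWith @IsOpenImmersion j := repWith_openSubι hO
    haveI := mono_openSubι X' O
    haveI := mono_of_thick hi
    obtain ⟨i', hi'⟩ := (exists_factor_iff hj ((yon S).map ιU ≫ i)).2 (by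
      rw [range_openSubι]
      rintro _ ⟨y, rfl⟩
      exact ⟨_, ⟨y, rfl⟩, (Points.map_comp _ _ y).symm⟩)
    -- the restriction is the base change of `i`
    obtain ⟨P₀, q₁, q₂, sqP⟩ : ∃ (P₀ : Sp S) (q₁ : P₀ ⟶ (yon S).obj T) (q₂ : P₀ ⟶ openSub X' O),
        IsPullback q₁ q₂ i j := ⟨_, _, _, IsPullback.of_hasPullback i j⟩
    have hq₁ : RepWith @IsOpenImmersion q₁ := repWith_of_isPullback sqP.flip hj
    have hrange : Set.range (Points.map ((yon S).map ιU)) = Set.range (Points.map q₁) := by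
      ext x
      constructor
      · intro hx
        obtain ⟨z, hz⟩ : Points.map i x ∈ Set.range (Points.map j) := by
          rw [range_openSubι]; exact ⟨x, hx, rfl⟩
        obtain ⟨p, hp, -⟩ := exists_of_isPullback sqP hz.symm
        exact ⟨p, hp⟩
      · rintro ⟨p, rfl⟩
        have hm : Points.map i (Points.map q₁ p) ∈ O := by
          rw [← Points.map_comp, sqP.w, Points.map_comp]
          exact range_openSubι.le ⟨_, rfl⟩
        obtain ⟨y, hy, he⟩ := hm
        rwa [← hh.bijective.1 he]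
    obtain ⟨e, he⟩ := exists_iso_of_range_eq hιU hq₁ hrange
    have hi'q : i' = e.hom ≫ q₂ := by
      rw [← cancel_mono j, hi', Category.assoc, ← sqP.w, reassoc_of% he]
    have hi't : IsThickMor i' := by
      rw [hi'q]
      have sq0 : IsPullback e.hom (e.hom ≫ q₂) q₂ (𝟙 _) := IsPullback.of_horiz_isIso ⟨by simp⟩
      exact repWith_of_isPullback sq0 (repWith_of_isPullback sqP hi)
    -- the structure map
    let e₀ : V ⟶ Over.mk (𝟙 S) := Over.homMk (Scheme.Opens.ι V₀) (Category.comp_id _)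
    have he₀ : RepWith @IsOpenImmersion ((yon S).map e₀) :=
      (repWith_yon_map_iff _ e₀).2 (inferInstanceAs (IsOpenImmersion (Scheme.Opens.ι V₀)))
    have hterm : IsTerminal ((yon S).obj (Over.mk (𝟙 S))) :=
      IsTerminal.isTerminalObj (yon S) _ Over.mkIdTerminal
    haveI := mono_of_openImmersion he₀
    obtain ⟨f, hf⟩ := (exists_factor_iff he₀ (hterm.from (openSub X' O))).2 (by
      rintro _ ⟨y, rfl⟩
      obtain ⟨u, rfl⟩ := (homeo_of_thick hi't (isAlgSpace_openSub hX' hO)).bijective.2 y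
      exact ⟨Points.map ((yon S).map h) u, by
        rw [← Points.map_comp, ← Points.map_comp]
        exact congrArg (fun φ => Points.map φ u) (hterm.hom_ext _ _)⟩)
    obtain ⟨Q, hQ, ⟨eQ⟩⟩ := exists_affine_of_thick_over (isAlgSpace_openSub hX' hO) h hi't f
      ((cancel_mono ((yon S).map e₀)).1 (hterm.hom_ext _ _))
    refine ⟨Q, eQ.hom ≫ j, repWith_comp (repWith_iso eQ.hom) hj, ?_⟩
    obtain ⟨y, hy⟩ : Points.ofPt i t ∈ Set.range (Points.map j) := by
      rw [range_openSubι, Points.ofPt_eq_map_ofScheme]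
      refine ⟨_, ⟨Points.ofScheme U (⟨t, htU⟩ : U₀), ?_⟩, rfl⟩
      exact map_yon_ofPt ιU _
    exact ⟨Points.map eQ.inv y, by rw [← Points.map_comp, eQ.inv_hom_id_assoc, hy]⟩
  choose Q j hj hm using key
  obtain ⟨M, e, -, -⟩ := exists_iso_yon_of_openCover Q j hj fun x => by
    obtain ⟨y, rfl⟩ := (homeo_of_thick hi hX').bijective.2 x
    obtain ⟨t, rfl⟩ := (Points.schemeEquiv T).surjective y
    exact ⟨t, by rw [show Points.map i (Points.schemeEquiv T t) = Points.ofPt i t from
      (Points.ofPt_eq_map_ofScheme i t).symm]; exact hm t⟩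
  exact ⟨M, ⟨e⟩⟩

/-- **A thickening of an affine scheme is an affine scheme.** -/
theorem exists_affine_of_thick {X' : Sp S} (hX' : IsAlgSpace X') {T : Over S} [IsAffine T.left]
    {i : (yon S).obj T ⟶ X'} (hi : IsThickMor i) :
    ∃ M : Over S, IsAffine M.left ∧ Nonempty ((yon S).obj M ≅ X') := by
  obtain ⟨M, ⟨e⟩⟩ := exists_scheme_of_thick hX' hi
  have sqe : IsPullback (𝟙 _) (i ≫ e.inv) i e.hom := IsPullback.of_horiz_isIso ⟨by simp⟩
  obtain ⟨m, hm⟩ := (yon S).map_surjective (i ≫ e.inv)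
  have ht : MoreMor.IsThickening m.left := (isThickMor_yon_map_iff m).1 (by
    rw [hm]; exact repWith_of_isPullback sqe hi)
  haveI := ht.1
  haveI := ht.2
  exact ⟨M, GrothLib.Thickening.isAffine_of_thickening m.left, ⟨e⟩⟩

theorem isRepresentable_of_iso {X : Sp S} {M : Over S} (e : (yon S).obj M ≅ X) : X.obj.IsRepresentable :=
  ⟨M, ⟨representableByOfIso e⟩⟩

end GrothLib.AlgSp
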