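import Groth.Agent.Lib.AlgSp.LimitEventually
import Groth.Agent.Lib.AlgSp.OpenSub
import Groth.Agent.Lib.AlgSp.Glue
import Groth.Agent.Lib.AlgSp.ThickScheme
import Groth.Agent.S10086

/-!
# If a limit is a scheme, then a stage is a scheme

* `exists_stage_mem_of_isOpen`: an open set which contains the preimage of the limit contains a stage;
* `exists_stage_isRepresentable`: a stage of a representable limit is representable.
-/

universe u

open CategoryTheory CategoryTheory.Limits AlgebraicGeometry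

namespace GrothLib.AlgSp

open _root_.AlgSp

variable {S : Scheme.{u}} {I : Type u} [SmallCategory I] [IsCofiltered I] {D : I ⥤ Sp S}

set_option backward.isDefEq.respectTransparency false

/-- An open set pulling back to the whole limit pulls back to a whole stage. -/
theorem exists_stage_mem_of_isOpen (hDa : ∀ (i j : I) (φ : i ⟶ j), IsAffineMor (D.map φ))
    {c : Cone D} (hc : IsLimit c) {k : I} (hqc : IsQuasiCompactSp (D.obj k)) {O : Set (Points (D.obj k))}
    (hO : IsOpen O) (h : ∀ x, Points.map (c.π.app k) x ∈ O) :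
    ∃ (m : I) (φ : m ⟶ k), ∀ y, Points.map (D.map φ) y ∈ O := by
  haveI := IsCofiltered.isConnected I
  obtain ⟨U, a, hU, ae, as⟩ := exists_affine_atlas_of_qc hqc
  haveI := hU
  obtain ⟨E, cW, f, w, fst, snd, ⟨hcW⟩, -, hE, hEm, hEπ, sq⟩ := exists_affine_chart_limit hDa hc k hU a
  let E' : CategoryTheory.Over k ⥤ Scheme.{u} := E ⋙ Over.forget S
  haveI : ∀ j, IsAffine (E'.obj j) := fun j => (hE j).1
  haveI : ∀ {i j : CategoryTheory.Over k} (φ : i ⟶ j), IsAffineHom (E'.map φ) :=
    fun φ => isAffineHom_of_isAffine _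
  haveI : ∀ j, CompactSpace ↥(E'.obj j) := fun j => inferInstance
  let top : CategoryTheory.Over k := CategoryTheory.Over.mk (𝟙 k)
  let V : (E'.obj top).Opens :=
    ⟨Points.ofPt ((yon S).map (w top) ≫ a) ⁻¹' O, hO.preimage (Points.continuous_ofPt _)⟩
  obtain ⟨l, φ, hl⟩ := exists_map_eq_top E' _ (isLimitOfPreserves (Over.forget S) hcW) (i := top) V (by
    ext t
    simp only [TopologicalSpace.Opens.coe_top, Set.mem_univ, iff_true]
    show Points.ofPt ((yon S).map (w top) ≫ a) ((cW.π.app top).left t) ∈ O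
    rw [← ofPt_map_comp, ← Functor.map_comp_assoc, (hEπ top).2, ← sq.w, ← Points.map_ofPt]
    exact h _)
  refine ⟨l.left, l.hom, fun y => ?_⟩
  obtain ⟨u, rfl⟩ := surjective_ofPt_of_repWith (repWith_of_isPullback (hE l).2.flip as) y
  have hu : (E.map φ).left u ∈ V := hl.ge (show u ∈ (⊤ : (E'.obj l).Opens) from trivial)
  have hu' : Points.ofPt ((yon S).map (w top) ≫ a) ((E.map φ).left u) ∈ O := hu
  rw [← ofPt_map_comp, ← Functor.map_comp_assoc, (hEm φ).2, ← (hE l).2.w, ← Points.map_ofPt] at hu'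
  exact hu'

variable [QuasiSeparatedSpace ↥S]

/-- An affine open of the limit comes from an affine open of a stage. -/
theorem exists_stage_affine_open (hD : ∀ i, IsAlgSpace (D.obj i))
    (hDa : ∀ (i j : I) (φ : i ⟶ j), IsAffineMor (D.map φ))
    (hqc : ∀ i, IsQuasiCompactSp (D.obj i)) (hqs : ∀ i, IsQuasiSeparatedSp (D.obj i))
    {c : Cone D} (hc : IsLimit c) {U : Over S} [IsAffine U.left] (j : (yon S).obj U ⟶ c.pt)
    (hj : RepWith @IsOpenImmersion j) :
    ∃ (i : I) (V : Over S) (_ : IsAffine V.left) (v : (yon S).obj V ⟶ D.obj i),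
      RepWith @IsOpenImmersion v ∧
      ∀ z, Points.map (c.π.app i) (Points.map j z) ∈ Set.range (Points.map v) := by
  obtain ⟨i, Ui, ji, q, hji, hUi, sq⟩ := Groth.Agent.S10086.result S D hD hDa hqc hqs c hc _ j hj (isQuasiCompactSp_yon U)
  have hUa : IsAlgSpace Ui := isAlgSpace_of_representable (hD i) hji.1
  have hUqs : IsQuasiSeparatedSp Ui := isQuasiSeparatedSp_of_mor ((isQuasiSeparatedMor_iff_repWith hji.1).2
    (repWith_mono hji fun _ _ g (_ : IsOpenImmersion g) => (inferInstance : QuasiSeparated g))) (hqs i)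
  obtain ⟨E, p, qE, cE, e, ⟨hcE⟩, hE, hEqc, hEqs, hEa, hsq, -⟩ :=
    exists_baseChange_system hD hDa hc hUa hUi hUqs ji sq.flip
  obtain ⟨l, V, hV, ⟨eV⟩⟩ := exists_stage_affine hE hEa hEqc hEqs hcE e.symm
  refine ⟨l.left, V, hV, eV.hom ≫ qE.app l,
    repWith_comp (repWith_iso _) (repWith_of_isPullback (hsq l) hji), fun z => ?_⟩
  obtain ⟨r, -, hr⟩ := exists_of_isPullback (hsq l) (x := Points.map q z)
    (y := Points.map (c.π.app l.left) (Points.map j z)) (by
      rw [← Points.map_comp, ← sq.w, ← Points.map_comp, ← Points.map_comp]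
      exact congrArg (fun w => Points.map (j ≫ w) z) (c.w l.hom).symm)
  exact ⟨Points.map eV.inv r, by rw [← Points.map_comp, Iso.inv_hom_id_assoc, hr]⟩

/-- If the limit is a scheme, then a stage is a scheme. -/
theorem exists_stage_isRepresentable (hD : ∀ i, IsAlgSpace (D.obj i))
    (hDa : ∀ (i j : I) (φ : i ⟶ j), IsAffineMor (D.map φ))
    (hqc : ∀ i, IsQuasiCompactSp (D.obj i)) (hqs : ∀ i, IsQuasiSeparatedSp (D.obj i))
    {c : Cone D} (hc : IsLimit c) {M : Over S} (e : (yon S).obj M ≅ c.pt) :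
    ∃ i, (D.obj i).obj.IsRepresentable := by
  classical
  haveI := IsCofiltered.isConnected I
  obtain ⟨i₁⟩ := (IsCofiltered.nonempty : Nonempty I)
  haveI : CompactSpace ↥M.left := compactSpace_of_isQuasiCompactSp_yon M
    (isQuasiCompactSp_of_iso ((qc_qs_of_isAffineHom (hD i₁) (isAffineMor_iff.1 (isAffineMor_limit_π hDa hc i₁))
      (hqc i₁) (hqs i₁)).1) e.symm)
  let 𝒰 := M.left.affineCover.finiteSubcover
  let W : 𝒰.I₀ → Over S := fun n => Over.mk (𝒰.f n ≫ M.hom)
  haveI : ∀ n, IsAffine (W n).left := fun n => inferInstanceAs (IsAffine (Spec _))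
  let j : ∀ n, (yon S).obj (W n) ⟶ c.pt :=
    fun n => (yon S).map (Over.homMk (𝒰.f n) rfl : W n ⟶ M) ≫ e.hom
  have hj : ∀ n, RepWith @IsOpenImmersion (j n) := fun n =>
    repWith_comp ((repWith_yon_map_iff _ _).2 (inferInstanceAs (IsOpenImmersion (𝒰.f n)))) (repWith_iso _)
  choose i V hV v hv hcov using fun n => exists_stage_affine_open hD hDa hqc hqs hc (j n) (hj n)
  have hmin : ∀ n, ∃ (m : I) (_ : m ⟶ i₁), Nonempty (m ⟶ i n) := fun n => by
    obtain ⟨m, u, v, -⟩ := IsCofilteredOrEmpty.cone_objs i₁ (i n)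
    exact ⟨m, u, ⟨v⟩⟩
  choose mn un hvn using hmin
  haveI : Fintype 𝒰.I₀ := Fintype.ofFinite _
  obtain ⟨k, -, g, -⟩ := IsCofiltered.wideCospan un
  let φ : ∀ n, k ⟶ i n := fun n => g n ≫ (hvn n).some
  -- the union of the opens at the stage `k`
  let O : Set (Points (D.obj k)) := ⋃ n, Points.map (D.map (φ n)) ⁻¹' Set.range (Points.map (v n))
  have hO : IsOpen O :=
    isOpen_iUnion fun n => (isOpen_range_openImmersion (hv n)).preimage (Points.continuous_map _)
  have hall : ∀ x, Points.map (c.π.app k) x ∈ O := fun x => by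
    obtain ⟨t, ht⟩ := (Points.schemeHomeo M).surjective (Points.map e.inv x)
    obtain ⟨n, y, hy⟩ := 𝒰.exists_eq t
    refine Set.mem_iUnion.2 ⟨n, ?_⟩
    rw [Set.mem_preimage, ← Points.map_comp, c.w]
    have : Points.map (j n) (Points.schemeHomeo _ y) = x := by
      rw [Points.map_comp, Points.map_yon_map_apply,
        show (Over.homMk (𝒰.f n) rfl : W n ⟶ M).left y = t from hy, ht, ← Points.map_comp, e.inv_hom_id,
        Points.map_id]
    rw [← this]
    exact hcov n _
  obtain ⟨m, ψ, hm⟩ := exists_stage_mem_of_isOpen hDa hc (hqc k) hO hall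
  -- the opens at the stage `m`
  have hex : ∀ n, ∃ (T : Over S) (fT : (yon S).obj T ⟶ D.obj m), RepWith @IsOpenImmersion fT ∧
      ∀ y, Points.map (D.map (ψ ≫ φ n)) y ∈ Set.range (Points.map (v n)) → y ∈ Set.range (Points.map fT) := fun n => by
    obtain ⟨T, h, fst, sqT, -⟩ := hDa _ _ (ψ ≫ φ n) (hV n) (v n)
    refine ⟨T, fst, repWith_of_isPullback sqT.flip (hv n), fun y hy => ?_⟩
    obtain ⟨z, hz⟩ := hy
    obtain ⟨r, hr, -⟩ := exists_of_isPullback sqT hz.symm
    exact ⟨r, hr⟩
  choose T fT hfT hcovT using hex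
  obtain ⟨N, eN, -⟩ := exists_iso_yon_of_openCover T fT hfT fun y => by
    obtain ⟨n, hn⟩ := Set.mem_iUnion.1 (hm y)
    refine ⟨n, hcovT n y ?_⟩
    rw [D.map_comp, Points.map_comp]
    exact hn
  exact ⟨m, isRepresentable_of_iso eN⟩

end GrothLib.AlgSp
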