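import Groth.Agent.Lib.AlgSp.WhereLocus
import Groth.Agent.Lib.AlgSp.Unramified
import Groth.Agent.Lib.AlgSp.UnramMono
import Groth.Agent.Lib.AlgSp.FlatMono
import Groth.Agent.Lib.AlgSp.LocPPoints

/-!
# Where a morphism is unramified and universally injective
-/

universe u

open CategoryTheory CategoryTheory.Limits AlgebraicGeometry Opposite

namespace GrothLib.AlgSp

open _root_.AlgSp UnramLocus

variable {S : Scheme.{u}}

theorem repWith_map_left {P : MorphismProperty Scheme.{u}} {A X Y Z : Sp S} {ι : A ⟶ X} (h : RepWith P ι)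
    (f : X ⟶ Z) (g : Y ⟶ Z) :
    RepWith P (pullback.map (ι ≫ f) g f g ι (𝟙 Y) (𝟙 Z) (Category.comp_id _) (by simp)) := by
  refine repWith_of_isPullback (g' := pullback.fst _ _) ?_ h (g := pullback.fst f g)
  refine (IsPullback.of_right ?_ (pullback.lift_fst _ _ _) (IsPullback.of_hasPullback f g).flip).flip
  rw [pullback.lift_snd, Category.comp_id]
  exact (IsPullback.of_hasPullback (ι ≫ f) g).flip

theorem repWith_map_right {P : MorphismProperty Scheme.{u}} {A X Y Z : Sp S} {ι : A ⟶ Y} (h : RepWith P ι)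
    (f : X ⟶ Z) (g : Y ⟶ Z) :
    RepWith P (pullback.map f (ι ≫ g) f g (𝟙 X) ι (𝟙 Z) (by simp) (Category.comp_id _)) := by
  refine repWith_of_isPullback (g' := pullback.snd _ _) ?_ h (g := pullback.snd f g)
  refine (IsPullback.of_right ?_ (pullback.lift_snd _ _ _) (IsPullback.of_hasPullback f g)).flip
  rw [pullback.lift_fst, Category.comp_id]
  exact IsPullback.of_hasPullback f (ι ≫ g)

/-- Maps from schemes landing in an open immersion factor through it. -/
theorem exists_lift_of_range {A F : Sp S} {j : A ⟶ F} (hj : RepWith @IsOpenImmersion j) {T : Over S}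
    (g : (yon S).obj T ⟶ F) (h : ∀ t, Points.ofPt g t ∈ Set.range (Points.map j)) :
    ∃ g' : (yon S).obj T ⟶ A, g' ≫ j = g := by
  have : Function.Surjective (Points.map (pullback.snd j g)) := fun q => by
    obtain ⟨t, rfl⟩ := (Points.schemeHomeo T).surjective q
    obtain ⟨y, hy⟩ := h t
    obtain ⟨z, -, hz⟩ := exists_of_isPullback (IsPullback.of_hasPullback j g) (x := y)
      (y := Points.schemeHomeo T t) (hy.trans (Points.ofPt_eq_map_ofScheme g t))
    exact ⟨z, hz⟩
  have := isIso_of_openImmersion_surjective (repWith_of_isPullback (IsPullback.of_hasPullback j g) hj) this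
  exact ⟨inv (pullback.snd j g) ≫ pullback.fst j g, by
    rw [Category.assoc, pullback.condition, IsIso.inv_hom_id_assoc]⟩

/-- The open where the base change is unramified and universally injective. -/
theorem exists_open_where_unramified_univInjective {X Y Z : Space S} (f : X ⟶ Y) (p : X ⟶ Z) (q : Y ⟶ Z)
    (hc : f ≫ q = p) (XX : Space S) (pr0 pr1 : XX ⟶ X) (hXX : IsPullback pr0.hom pr1.hom f.hom f.hom)
    (hp1 : LocP @LocallyOfFiniteType p.hom) (hp3 : IsClosedMor (pr1 ≫ p).hom) :
    ∃ (W : Space S) (w : W ⟶ Z), RepWith @IsOpenImmersion w.hom ∧ ∀ (Z' : Space S) (g : Z' ⟶ Z),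
      (∃ k : Z' ⟶ W, k ≫ w = g) ↔
        ∀ (Y' : Space S) (gY : Y' ⟶ Y) (q' : Y' ⟶ Z'), IsPullback gY.hom q'.hom q.hom g.hom →
          ∀ (X' : Space S) (gX : X' ⟶ X) (f' : X' ⟶ Y'), IsPullback gX.hom f'.hom f.hom gY.hom →
            (LocP (@LocallyOfFiniteType ⊓ @FormallyUnramified) f'.hom ∧ IsUnivInjectiveMor f'.hom) := by
  have hfq : f.hom ≫ q.hom = p.hom := congrArg (fun k => k.hom) hc
  have hf : LocP @LocallyOfFiniteType f.hom :=
    EtLocal.locP_of_comp .lft (fun _ _ _ f g h => locallyOfFiniteType_of_comp f g)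
      X.property Y.property Z.property (g := q.hom) (hfq ▸ hp1)
  let U : Set (Points X.obj) := {x | HasAtMor UnrAt f.hom x}
  have hU : IsOpen U := isOpen_hasAtMor X.property Y.property hf
  let ι := openSubι X.obj U
  have hι : RepWith @IsOpenImmersion ι := repWith_openSubι hU
  have hA := isAlgSpace_openSub X.property hU
  have hιf : LocP @LocallyOfFiniteType (ι ≫ f.hom) :=
    EtLocal.lft.locP_comp hA X.property Y.property
      (EtLocal.lft.locP_of_repWith X.property (repWith_mono hι fun _ _ g (hg : IsOpenImmersion g) => inferInstance)) hf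
  have hιe : RepWith @Etale ι := repWith_mono hι fun _ _ g (hg : IsOpenImmersion g) => inferInstance
  have hu : LocP (@LocallyOfFiniteType ⊓ @FormallyUnramified) (ι ≫ f.hom) := by
    refine (UnramLocus.locP_iff_forall hA Y.property hιf).2 fun y => ?_
    obtain ⟨V, b, hb, hbs⟩ := Y.property.atlas
    obtain ⟨T, a, h, ha, c, has⟩ := exists_chart_over hA Y.property (ι ≫ f.hom) b hb
    obtain ⟨t, rfl⟩ := surjective_ofPt_of_repWith (has hbs) y
    have : LocallyOfFiniteType h.left := hιf a b h ha hb c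
    refine (UnramLocus.hasAtMor_iff hA Y.property hιf ha hb c t).2 ?_
    refine (UnramLocus.hasAtMor_iff X.property Y.property hf (repWith_comp ha hιe) hb
      (by rw [Category.assoc]; exact c) t).1 (openSub_mem a t)
  let m₁ := pullback.map (ι ≫ f.hom) (ι ≫ f.hom) f.hom (ι ≫ f.hom) ι (𝟙 _) (𝟙 _) (Category.comp_id _) (by simp)
  let m₂ := pullback.map f.hom (ι ≫ f.hom) f.hom f.hom (𝟙 _) ι (𝟙 _) (by simp) (Category.comp_id _)
  let Δ : openSub X.obj U ⟶ XX.obj := pullback.diagonal (ι ≫ f.hom) ≫ m₁ ≫ m₂ ≫ hXX.isoPullback.inv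
  have : (@IsOpenImmersion : MorphismProperty Scheme.{u}).IsStableUnderComposition := inferInstance
  have hΔ : RepWith @IsOpenImmersion Δ :=
    repWith_comp (repWith_openImmersion_diagonal_of_unramified hA Y.property hu)
      (repWith_comp (repWith_map_left hι _ _) (repWith_comp (repWith_map_right hι _ _) (repWith_iso _)))
  have hΔ0 : Δ ≫ pr0.hom = ι := by
    simp [Δ, m₁, m₂, pullback.map]
    erw [pullback.lift_fst, pullback.lift_fst, pullback.diagonal_fst_assoc]
  have hΔ1 : Δ ≫ pr1.hom = ι := by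
    simp [Δ, m₁, m₂, pullback.map]
    erw [pullback.lift_snd, pullback.lift_snd_assoc, pullback.diagonal_snd_assoc]
  have hO : IsOpen (Set.range (Points.map Δ)) :=
    (isOpenMap_map_of_locP (fun _ _ h hh => by have : Etale h := hh; exact h.isOpenMap) hA XX.property
      (EtLocal.etale.locP_of_repWith XX.property
        (repWith_mono hΔ fun _ _ g (hg : IsOpenImmersion g) => (inferInstance : Etale g)))).isOpen_range
  obtain ⟨W, w, hw, hW⟩ := exists_open_where (pr1 ≫ p) hp3 hO
  refine ⟨W, w, hw, fun Z' g => (hW Z' g).trans ⟨fun h Y' gY q' sq1 X' gX f' sq2 => ?_, fun h ξ z e => ?_⟩⟩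
  · have hm : Mono f'.hom := mono_of_yon fun T a b hab => by
      let ξ : (yon S).obj T ⟶ XX.obj := hXX.lift (a ≫ gX.hom) (b ≫ gX.hom)
        (by rw [Category.assoc, Category.assoc, sq2.w, reassoc_of% hab])
      obtain ⟨ξ', hξ⟩ := exists_lift_of_range hΔ ξ fun t => by
        refine h _ (Points.ofPt (b ≫ f'.hom ≫ q'.hom) t) ?_
        rw [Points.map_ofPt, Points.map_ofPt]
        congr 1
        change ξ ≫ pr1.hom ≫ p.hom = _
        rw [hXX.lift_snd_assoc, Category.assoc, ← hfq, reassoc_of% sq2.w, sq1.w, Category.assoc, Category.assoc]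
      apply sq2.hom_ext
      · have h0 := congrArg (fun k => k ≫ pr0.hom) hξ
        have h1 := congrArg (fun k => k ≫ pr1.hom) hξ
        simp only [Category.assoc, hΔ0, hΔ1, ξ, hXX.lift_fst, hXX.lift_snd] at h0 h1
        exact h0.symm.trans h1
      · exact hab
    refine ⟨unramified_of_mono (f := f'.hom) (EtLocal.lft.locP_of_isPullback X.property Y.property Y'.property sq2 hf),
      isUnivInjectiveMor_of_mono f'.hom⟩
  · let Y' : Space S := ⟨pullback q.hom g.hom, isAlgSpace_pullback' Z.property Y.property Z'.property _ _⟩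
    let gY : Y' ⟶ Y := ObjectProperty.homMk (pullback.fst q.hom g.hom)
    let q' : Y' ⟶ Z' := ObjectProperty.homMk (pullback.snd q.hom g.hom)
    let X' : Space S := ⟨pullback f.hom gY.hom, isAlgSpace_pullback' Y.property X.property Y'.property _ _⟩
    let gX : X' ⟶ X := ObjectProperty.homMk (pullback.fst f.hom gY.hom)
    let f' : X' ⟶ Y' := ObjectProperty.homMk (pullback.snd f.hom gY.hom)
    have sq2 : IsPullback gX.hom f'.hom f.hom gY.hom := IsPullback.of_hasPullback _ _
    have sq1 : IsPullback gY.hom q'.hom q.hom g.hom := IsPullback.of_hasPullback _ _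
    obtain ⟨hu', hinj⟩ := h Y' gY q' sq1 X' gX f' sq2
    have : Mono f'.hom := mono_of_unramified_univInjective X'.property Y'.property hu' hinj
    obtain ⟨Ω, _, str, a, b, hab, rfl, rfl⟩ := exists_common_field e
    have hab' : (a ≫ pr0.hom) ≫ p.hom = b ≫ g.hom := by
      refine Eq.trans ?_ hab
      change _ = a ≫ pr1.hom ≫ p.hom
      rw [← hfq, Category.assoc, reassoc_of% hXX.w]
    have sqT := sq2.paste_vert sq1
    rw [hfq] at sqT
    have hab'' : (a ≫ pr1.hom) ≫ p.hom = b ≫ g.hom := by
      rw [Category.assoc]; exact hab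
    let a₀ := sqT.lift (a ≫ pr0.hom) b hab'
    let a₁ := sqT.lift (a ≫ pr1.hom) b hab''
    have e₀₁ : a₀ = a₁ := by
      rw [← cancel_mono f'.hom]
      apply sq1.hom_ext
      · simp only [Category.assoc, ← sq2.w, a₀, a₁, sqT.lift_fst_assoc, hXX.w]
      · simp only [Category.assoc, a₀, a₁, sqT.lift_snd]
    have hx : Points.map gX.hom (Points.ofPt a₀ (IsLocalRing.closedPoint Ω)) ∈ U :=
      (preimage_hasAtMor X.property Y.property X'.property Y'.property hf sq2).subset
        ((UnramLocus.locP_iff_forall X'.property Y'.property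
          (EtLocal.lft.locP_of_isPullback X.property Y.property Y'.property sq2 hf)).1 hu' _)
    rw [Points.map_ofPt, sqT.lift_fst] at hx
    obtain ⟨c, hc'⟩ := openSub_lift (W := U) (a ≫ pr0.hom) fun t => by
      have : Subsingleton ↥(Over.mk str).left := inferInstanceAs (Subsingleton (PrimeSpectrum Ω))
      rwa [Subsingleton.elim t (IsLocalRing.closedPoint Ω)]
    have e' : a ≫ pr0.hom = a ≫ pr1.hom := by
      rw [← sqT.lift_fst (a ≫ pr0.hom) b hab', ← sqT.lift_fst (a ≫ pr1.hom) b hab'']
      exact congrArg (fun k => k ≫ gX.hom) e₀₁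
    have ea : c ≫ Δ = a := hXX.hom_ext (by rw [Category.assoc, hΔ0, hc']) (by rw [Category.assoc, hΔ1, hc', e'])
    exact ⟨Points.ofPt c (IsLocalRing.closedPoint Ω), by rw [Points.map_ofPt, ea]⟩

end GrothLib.AlgSp
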