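import Groth.Agent.Lib.AlgSp.LimitEventually
import Groth.Agent.Lib.AlgSp.WhereUnramInj
import Groth.Agent.Lib.AlgSp.UnivClosed

/-!
# Morphisms out of a limit which are separated are separated at a stage

* `eventually_isSeparatedMor`: if the limit is separated over `Y`, then the stages are eventually separated.
-/

universe u

open CategoryTheory CategoryTheory.Limits AlgebraicGeometry

namespace GrothLib.AlgSp

open _root_.AlgSp

variable {S : Scheme.{u}}

set_option backward.isDefEq.respectTransparency false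

/-- A property stable under composition passes to maps of fibre products. -/
theorem repWith_map₂ {P : MorphismProperty Scheme.{u}} [P.IsStableUnderComposition] {A A' X Y Z : Sp S}
    {ι : A ⟶ X} {ι' : A' ⟶ Y} (h : RepWith P ι) (h' : RepWith P ι') {f : X ⟶ Z} {g : Y ⟶ Z}
    {f' : A ⟶ Z} {g' : A' ⟶ Z} (hf : ι ≫ f = f') (hg : ι' ≫ g = g') :
    RepWith P (pullback.map f' g' f g ι ι' (𝟙 Z) (by simp [hf]) (by simp [hg])) := by
  subst hf hg
  have e : pullback.map (ι ≫ f) (ι' ≫ g) f g ι ι' (𝟙 Z) (by simp) (by simp) =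
      pullback.map (ι ≫ f) (ι' ≫ g) (ι ≫ f) g (𝟙 A) ι' (𝟙 Z) (by simp) (by simp) ≫
        pullback.map (ι ≫ f) g f g ι (𝟙 Y) (𝟙 Z) (by simp) (by simp) := by
    apply pullback.hom_ext <;> simp
  rw [e]
  exact repWith_comp (repWith_map_right h' _ _) (repWith_map_left h _ _)

variable {I : Type u} [SmallCategory I] [IsCofiltered I] {D : I ⥤ Sp S}

section
variable {Y : Sp S} (t : D ⟶ (Functor.const I).obj Y)

/-- Transition maps commute with the maps to `Y`. -/
theorem map_comp_structure {i j : I} (φ : i ⟶ j) : D.map φ ≫ t.app j = t.app i := by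
  simpa using t.naturality φ

/-- The system of fibre squares over `Y`. -/
noncomputable def squareSystem : I ⥤ Sp S where
  obj i := pullback (t.app i) (t.app i)
  map {i j} φ := pullback.map _ _ _ _ (D.map φ) (D.map φ) (𝟙 Y)
    (by simp [map_comp_structure t φ]) (by simp [map_comp_structure t φ])
  map_id i := by apply pullback.hom_ext <;> simp
  map_comp φ ψ := by apply pullback.hom_ext <;> simp

theorem isAffineMor_squareSystem (hDa : ∀ (i j : I) (φ : i ⟶ j), IsAffineMor (D.map φ)) {i j : I}
    (φ : i ⟶ j) : IsAffineMor ((squareSystem t).map φ) :=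
  isAffineMor_iff.2 (repWith_map₂ (isAffineMor_iff.1 (hDa i j φ)) (isAffineMor_iff.1 (hDa i j φ))
    (map_comp_structure t φ) (map_comp_structure t φ))

variable (c : Cone D) (g : c.pt ⟶ Y) (hg : ∀ i, c.π.app i ≫ t.app i = g)

/-- The fibre square of the limit is a cone over the fibre squares. -/
noncomputable def squareCone : Cone (squareSystem t) where
  pt := pullback g g
  π :=
    { app := fun i => pullback.map _ _ _ _ (c.π.app i) (c.π.app i) (𝟙 Y) (by simp [hg]) (by simp [hg])
      naturality := fun i j φ => by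
        dsimp [squareSystem]
        rw [Category.id_comp]
        apply pullback.hom_ext <;> simp }

theorem nonempty_isLimit_squareCone (hc : IsLimit c) : Nonempty (IsLimit (squareCone t c g hg)) := by
  haveI := IsCofiltered.isConnected I
  obtain ⟨i₁⟩ := (IsCofiltered.nonempty : Nonempty I)
  let s₁ : Cone (squareSystem t) → Cone D := fun s =>
    { pt := s.pt
      π := { app := fun i => s.π.app i ≫ pullback.fst (t.app i) (t.app i)
             naturality := fun i j φ => by
               dsimp
               rw [Category.id_comp, ← s.w φ]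
               simp [squareSystem] } }
  let s₂ : Cone (squareSystem t) → Cone D := fun s =>
    { pt := s.pt
      π := { app := fun i => s.π.app i ≫ pullback.snd (t.app i) (t.app i)
             naturality := fun i j φ => by
               dsimp
               rw [Category.id_comp, ← s.w φ]
               simp [squareSystem] } }
  have hw : ∀ s, hc.lift (s₁ s) ≫ g = hc.lift (s₂ s) ≫ g := fun s => by
    rw [← hg i₁, hc.fac_assoc, hc.fac_assoc]
    simp [s₁, s₂, pullback.condition]
  exact ⟨{
    lift := fun s => pullback.lift (hc.lift (s₁ s)) (hc.lift (s₂ s)) (hw s)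
    fac := fun s i => by
      dsimp only [squareCone]
      apply pullback.hom_ext <;> simp [s₁, s₂, squareSystem]
    uniq := fun s m hm => by
      apply pullback.hom_ext
      · rw [pullback.lift_fst]
        refine hc.hom_ext fun i => ?_
        rw [hc.fac, Category.assoc]
        have := congrArg (fun q => q ≫ pullback.fst (t.app i) (t.app i)) (hm i)
        simpa [squareCone, squareSystem, s₁] using this
      · rw [pullback.lift_snd]
        refine hc.hom_ext fun i => ?_
        rw [hc.fac, Category.assoc]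
        have := congrArg (fun q => q ≫ pullback.snd (t.app i) (t.app i)) (hm i)
        simpa [squareCone, squareSystem, s₂] using this }⟩

variable [QuasiSeparatedSpace ↥S]

include hg in
/-- The affine step: separatedness at a stage, given an affine chart of a diagonal. -/
theorem exists_stage_isSeparated_of_chart (hDa : ∀ (i j : I) (φ : i ⟶ j), IsAffineMor (D.map φ))
    (hc : IsLimit c) (hX : IsSeparatedMor g) (hD : ∀ i, IsAlgSpace (D.obj i))
    (i : I) {V R : Over S} [IsAffine V.left] [IsAffine R.left]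
    (v : (yon S).obj V ⟶ pullback (t.app i) (t.app i)) (ve : RepWith @Etale v) (vs : RepWith @Surjective v)
    (r : (yon S).obj R ⟶ D.obj i) (a : R ⟶ V)
    (sqR : IsPullback r ((yon S).map a) (pullback.diagonal (t.app i)) v) :
    ∃ (j : I) (_ : j ⟶ i), IsSeparatedMor (t.app j) := by
  classical
  haveI := IsCofiltered.isConnected I
  let DP := squareSystem t
  obtain ⟨hcP⟩ := nonempty_isLimit_squareCone t c g hg hc
  have hDPa : ∀ (i j : I) (φ : i ⟶ j), IsAffineMor (DP.map φ) := fun i j φ => isAffineMor_squareSystem t hDa φ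
  obtain ⟨ER, cR, fR, wR, fstR, sndR, ⟨hcR⟩, hRa, hER, hERm, hERπ, sqR'⟩ :=
    exists_affine_chart_limit hDa hc i ‹IsAffine R.left› r
  obtain ⟨EV, cV, fV, wV, fstV, sndV, ⟨hcV⟩, hVa, hEV, hEVm, hEVπ, sqV'⟩ :=
    exists_affine_chart_limit (D := DP) hDPa hcP i ‹IsAffine V.left› v
  haveI := hRa
  haveI := hVa
  haveI : CategoryTheory.IsConnected (CategoryTheory.Over i) := IsCofiltered.isConnected _
  -- the diagonal charts
  have hnatj : ∀ {j k : I} (φ : j ⟶ k), D.map φ ≫ pullback.diagonal (t.app k) =
      pullback.diagonal (t.app j) ≫ DP.map φ := fun φ => by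
    dsimp [DP, squareSystem]
    apply pullback.hom_ext <;> simp
  have hnatI : c.π.app i ≫ pullback.diagonal (t.app i) = pullback.diagonal g ≫ (squareCone t c g hg).π.app i := by
    dsimp [squareCone]
    apply pullback.hom_ext <;> simp
  have hal : ∀ j, ∃ a' : ER.obj j ⟶ EV.obj j,
      IsPullback (fR j) ((yon S).map a') (pullback.diagonal (t.app j.left)) (fV j) ∧ a' ≫ wV j = wR j ≫ a := by
    intro j
    have big : IsPullback (fR j) ((yon S).map (wR j ≫ a))
        (pullback.diagonal (t.app j.left) ≫ DP.map j.hom) v := by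
      rw [Functor.map_comp, ← hnatj]
      exact ((hER j).2.flip.paste_horiz sqR.flip).flip
    obtain ⟨a', ha'⟩ := (yon S).map_surjective ((hEV j).2.lift (fR j ≫ pullback.diagonal (t.app j.left))
      ((yon S).map (wR j ≫ a)) (by rw [Category.assoc]; exact big.w))
    refine ⟨a', ?_, (yon S).map_injective (by rw [Functor.map_comp, ha', (hEV j).2.lift_snd])⟩
    rw [ha']
    exact IsPullback.of_bot (by rw [(hEV j).2.lift_snd]; exact big) ((hEV j).2.lift_fst _ _ _).symm (hEV j).2
  choose al hal₁ hal₂ using hal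
  have bigI : IsPullback fstR ((yon S).map (sndR ≫ a)) (pullback.diagonal g ≫ (squareCone t c g hg).π.app i) v := by
    rw [Functor.map_comp, ← hnatI]
    exact (sqR'.flip.paste_horiz sqR.flip).flip
  obtain ⟨alI, halI⟩ := (yon S).map_surjective (sqV'.lift (fstR ≫ pullback.diagonal g)
    ((yon S).map (sndR ≫ a)) (by rw [Category.assoc]; exact bigI.w))
  have halI₁ : IsPullback fstR ((yon S).map alI) (pullback.diagonal g) fstV := by
    rw [halI]
    exact IsPullback.of_bot (by rw [sqV'.lift_snd]; exact bigI) (sqV'.lift_fst _ _ _).symm sqV'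
  haveI : IsClosedImmersion alI.left := hX.2 _ _ _ halI₁
  -- compatibility
  have hproj : ∀ j, cR.π.app j ≫ al j = alI ≫ cV.π.app j := fun j => by
    refine (yon S).map_injective ((hEV j).2.hom_ext ?_ ?_)
    · rw [Functor.map_comp, Functor.map_comp, Category.assoc, Category.assoc, ← (hal₁ j).w, ← (hEVπ j).1,
        ← Category.assoc, ← (hERπ j).1, halI, sqV'.lift_fst_assoc, Category.assoc, Category.assoc]
      congr 1
      dsimp [squareCone]
      apply pullback.hom_ext <;> simp
    · simp only [← Functor.map_comp, Category.assoc, hal₂, (hEVπ j).2]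
      rw [reassoc_of% (hERπ j).2]
      exact congrArg (yon S).map ((yon S).map_injective (by rw [eq_comm, Functor.map_comp, halI, sqV'.lift_snd]))
  have hnat : ∀ ⦃j k : CategoryTheory.Over i⦄ (m : j ⟶ k), ER.map m ≫ al k = al j ≫ EV.map m := fun j k m => by
    refine (yon S).map_injective ((hEV k).2.hom_ext ?_ ?_)
    · rw [Functor.map_comp, Functor.map_comp, Category.assoc, Category.assoc, ← (hal₁ k).w, (hEVm m).1,
        ← Category.assoc, (hERm m).1, Category.assoc, hnatj, reassoc_of% (hal₁ j).w]
    · simp only [← Functor.map_comp, Category.assoc, hal₂, (hEVm m).2]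
      rw [reassoc_of% (hERm m).2]
  haveI : LocallyOfFiniteType a.left := (repWith_diagonal (t.app i) (repWith_diag_lft (hD i))).2 _ _ _ sqR
  have hft : a.left.appTop.hom.FiniteType := HasRingHomProperty.appTop @LocallyOfFiniteType a.left inferInstance
  algebraize [a.left.appTop.hom]
  obtain ⟨s, hs⟩ := hft
  let ER' : CategoryTheory.Over i ⥤ Scheme.{u} := ER ⋙ Over.forget S
  haveI : ∀ j, IsAffine (ER'.obj j) := fun j => (hER j).1
  haveI : ∀ j, CompactSpace ↥(ER'.obj j) := fun j => inferInstance
  haveI : ∀ (j k : CategoryTheory.Over i) (φ : j ⟶ k), IsAffineHom (ER'.map φ) :=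
    fun j k φ => isAffineHom_of_isAffine _
  let top : CategoryTheory.Over i := CategoryTheory.Over.mk (𝟙 i)
  have happ : ∀ {X Y Z : Over S} (p : X ⟶ Y) (q : Y ⟶ Z) (x : Γ(Z.left, ⊤)),
      p.left.appTop (q.left.appTop x) = (p ≫ q).left.appTop x := fun p q x => rfl
  have key : ∀ b : Γ(R.left, ⊤), ∃ j : CategoryTheory.Over i, (wR j).left.appTop b ∈ (al j).left.appTop.hom.range := by
    intro b
    obtain ⟨α, hα⟩ := (IsClosedImmersion.isAffine_surjective_of_isAffine (f := alI.left)).2
      (sndR.left.appTop b)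
    obtain ⟨j, α', rfl⟩ := exists_appTop_π_eq hcV (fun j => (hEV j).1) α
    have he : (cR.π.app j).left.appTop ((wR j).left.appTop b - (al j).left.appTop α') = 0 := by
      rw [map_sub, sub_eq_zero, happ, happ, hproj, (hERπ j).2]
      exact hα.symm
    obtain ⟨k, φ, hk⟩ := exists_appTop_map_eq_zero_of_isLimit ER' _ (isLimitOfPreserves (Over.forget S) hcR) _ he
    refine ⟨k, (EV.map φ).left.appTop α', ?_⟩
    have hk' : (ER.map φ).left.appTop ((wR j).left.appTop b - (al j).left.appTop α') = 0 := hk
    rw [map_sub, sub_eq_zero, happ, happ, hnat, (hERm φ).2, ← happ (al k)] at hk'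
    exact hk'.symm
  choose jb hjb using key
  obtain ⟨k, -, mk', -⟩ := IsCofiltered.wideCospan (I := {b // b ∈ s}) (i := top)
    (fun b => (CategoryTheory.Over.homMk (jb b.1).hom : jb b.1 ⟶ top))
  have hA : ∀ b : Γ(R.left, ⊤), (wR k).left.appTop b ∈ (al k).left.appTop.hom.range := by
    intro b
    have hb : b ∈ Algebra.adjoin Γ(V.left, ⊤) (s : Set Γ(R.left, ⊤)) := hs ▸ Algebra.mem_top
    induction hb using Algebra.adjoin_induction with
    | mem b hb =>
      obtain ⟨y, hy⟩ := hjb b
      refine ⟨(EV.map (mk' ⟨b, hb⟩)).left.appTop y, ?_⟩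
      show (al k).left.appTop ((EV.map (mk' ⟨b, hb⟩)).left.appTop y) = (wR k).left.appTop b
      rw [happ, ← hnat, ← happ, show (al (jb b)).left.appTop y = _ from hy, happ, (hERm _).2]
    | algebraMap x =>
      refine ⟨(wV k).left.appTop x, ?_⟩
      show (al k).left.appTop ((wV k).left.appTop x) = (wR k).left.appTop (a.left.appTop x)
      rw [happ, happ, hal₂]
    | add x y _ _ hx hy => rw [map_add]; exact add_mem hx hy
    | mul x y _ _ hx hy => rw [map_mul]; exact mul_mem hx hy
  -- `R_k ⟶ R ×_V V_k` is a closed immersion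
  let Q := pullback a (wV k)
  let m : ER.obj k ⟶ Q := pullback.lift (wR k) (al k) (hal₂ k).symm
  let q₁ : (yon S).obj Q ⟶ D.obj k.left :=
    (yon S).map (pullback.snd a (wV k)) ≫ fV k ≫ pullback.fst (t.app k.left) (t.app k.left)
  let q₂ : (yon S).obj Q ⟶ D.obj k.left :=
    (yon S).map (pullback.snd a (wV k)) ≫ fV k ≫ pullback.snd (t.app k.left) (t.app k.left)
  have hQ : ((yon S).map (pullback.fst a (wV k)) ≫ r) ≫ pullback.diagonal (t.app i) =
      (yon S).map (pullback.snd a (wV k)) ≫ fV k ≫ DP.map k.hom := by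
    rw [Category.assoc, sqR.w, ← Functor.map_comp_assoc, pullback.condition, Functor.map_comp, Category.assoc,
      (hEV k).2.w]
  have hq₁ : q₁ ≫ D.map k.hom = (yon S).map (pullback.fst a (wV k)) ≫ r := by
    have := congrArg (fun z => z ≫ pullback.fst (t.app i) (t.app i)) hQ
    simpa [q₁, DP, squareSystem] using this.symm
  have hq₂ : q₂ ≫ D.map k.hom = (yon S).map (pullback.fst a (wV k)) ≫ r := by
    have := congrArg (fun z => z ≫ pullback.snd (t.app i) (t.app i)) hQ
    simpa [q₂, DP, squareSystem] using this.symm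
  have hm₁ : (yon S).map m ≫ q₁ = fR k ∧ (yon S).map m ≫ q₂ = fR k := by
    constructor <;>
    · simp only [q₁, q₂, ← Functor.map_comp_assoc, m, pullback.lift_snd]
      rw [← reassoc_of% (hal₁ k).w]
      simp
  have sqm : IsPullback (fR k) ((yon S).map m) (pullback.diagonal (D.map k.hom))
      (pullback.lift q₁ q₂ (hq₁.trans hq₂.symm)) := by
    refine isPullback_of_yon ?_ fun T x y hxy => ?_
    · apply pullback.hom_ext <;> simp [hm₁.1, hm₁.2]
    · have h1 : x = y ≫ q₁ := by simpa using congrArg (fun z => z ≫ pullback.fst (D.map k.hom) (D.map k.hom)) hxy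
      have h2 : x = y ≫ q₂ := by simpa using congrArg (fun z => z ≫ pullback.snd (D.map k.hom) (D.map k.hom)) hxy
      have h3 : x ≫ D.map k.hom = (y ≫ (yon S).map (pullback.fst a (wV k))) ≫ r := by
        rw [h1, Category.assoc, hq₁, Category.assoc]
      refine ⟨(hER k).2.lift x _ h3, ⟨(hER k).2.lift_fst _ _ _, ?_⟩, fun z hz => ?_⟩
      · have e2 : ((hER k).2.lift x _ h3 ≫ (yon S).map (al k)) = y ≫ (yon S).map (pullback.snd a (wV k)) := by
          apply (hEV k).2.hom_ext
          · apply pullback.hom_ext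
            · rw [Category.assoc ((hER k).2.lift x _ h3), ← (hal₁ k).w, (hER k).2.lift_fst_assoc]
              simp only [Category.assoc, pullback.diagonal_fst, Category.comp_id]
              simpa [q₁] using h1
            · rw [Category.assoc ((hER k).2.lift x _ h3), ← (hal₁ k).w, (hER k).2.lift_fst_assoc]
              simp only [Category.assoc, pullback.diagonal_snd, Category.comp_id]
              simpa [q₂] using h2
          · simp only [Category.assoc, ← Functor.map_comp, hal₂]
            rw [Functor.map_comp, (hER k).2.lift_snd_assoc, ← pullback.condition, Functor.map_comp, Category.assoc]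
        refine (isPullback_yon (IsPullback.of_hasPullback a (wV k))).hom_ext ?_ ?_
        · rw [Category.assoc, ← Functor.map_comp, pullback.lift_fst, (hER k).2.lift_snd]
        · rw [Category.assoc, ← Functor.map_comp, pullback.lift_snd, e2]
      · apply (hER k).2.hom_ext
        · rw [(hER k).2.lift_fst]; exact hz.1
        · rw [(hER k).2.lift_snd, ← hz.2, Category.assoc, ← Functor.map_comp, pullback.lift_fst]
  haveI : IsClosedImmersion m.left :=
    ((isSeparatedMor_iff_repWith (isAffineMor_iff.1 (hDa _ _ k.hom)).1).2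
      (repWith_mono (isAffineMor_iff.1 (hDa _ _ k.hom))
        fun _ _ h (_ : IsAffineHom h) => (inferInstance : IsSeparated h))).2 _ _ _ sqm
  -- `Γ(Q)` is generated by `Γ(R)` and `Γ(V_k)`
  haveI : IsAffine (EV.obj k).left := (hEV k).1
  haveI : IsAffine (ER.obj k).left := (hER k).1
  have sqQ := (IsPullback.of_hasPullback a (wV k)).map (Over.forget S)
  haveI : IsAffine Q.left := by
    haveI : IsAffineHom a.left := isAffineHom_of_isAffine _
    haveI : IsAffineHom (pullback.snd a (wV k)).left :=
      MorphismProperty.of_isPullback (P := @IsAffineHom) sqQ ‹_›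
    exact isAffine_of_isAffineHom (pullback.snd a (wV k)).left
  let Rg := (al k).left.appTop.hom.range
  haveI : IsAffine ((Over.forget S).obj R) := ‹IsAffine R.left›
  haveI : IsAffine ((Over.forget S).obj (EV.obj k)) := (hEV k).1
  haveI : IsAffine ((Over.forget S).obj V) := ‹IsAffine V.left›
  have hpo := isPushout_appTop_of_isPullback sqQ
  let i1 : Γ(R.left, ⊤) ⟶ CommRingCat.of Rg := CommRingCat.ofHom ((wR k).left.appTop.hom.codRestrict Rg hA)
  let i2 : Γ((EV.obj k).left, ⊤) ⟶ CommRingCat.of Rg := CommRingCat.ofHom (al k).left.appTop.hom.rangeRestrict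
  have w : a.left.appTop ≫ i1 = (wV k).left.appTop ≫ i2 := by
    ext x
    show (wR k).left.appTop (a.left.appTop x) = (al k).left.appTop ((wV k).left.appTop x)
    rw [happ, happ, hal₂]
  have hid : hpo.desc i1 i2 w ≫ CommRingCat.ofHom Rg.subtype = m.left.appTop := by
    apply hpo.hom_ext
    · rw [hpo.inl_desc_assoc]
      ext x
      show (wR k).left.appTop x = m.left.appTop ((pullback.fst a (wV k)).left.appTop x)
      rw [happ, pullback.lift_fst]
    · rw [hpo.inr_desc_assoc]
      ext x
      show (al k).left.appTop x = m.left.appTop ((pullback.snd a (wV k)).left.appTop x)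
      rw [happ, pullback.lift_snd]
  haveI : IsClosedImmersion (al k).left := IsClosedImmersion.of_surjective_of_isAffine _ fun y => by
    obtain ⟨z, rfl⟩ := (IsClosedImmersion.isAffine_surjective_of_isAffine (f := m.left)).2 y
    have h := congr($(hid).hom z)
    obtain ⟨x, hx⟩ := (hpo.desc i1 i2 w z).2
    exact ⟨x, hx.trans h⟩
  -- descend
  have sqk : IsPullback ((yon S).map (wV k)) (fV k) v (DP.map k.hom) := (hEV k).2.flip
  haveI : Sheaf.IsLocallySurjective (fV k) :=
    chart_isLocallySurjective (repWith_of_isPullback sqk ve) (repWith_of_isPullback sqk vs)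
  exact ⟨k.left, k.hom, repWith_of_base_isAffineHom (fV k) (hal₁ k)
    (fun _ _ h (_ : IsClosedImmersion h) => (inferInstance : IsAffineHom h)) fppfDescends_isClosedImmersion
    ((repWith_yon_map_iff _ _).2 ‹_›)⟩

/-- If the limit is separated over `Y`, then the stages are eventually separated over `Y`. -/
theorem eventually_isSeparatedMor (hD : ∀ i, IsAlgSpace (D.obj i))
    (hDa : ∀ (i j : I) (φ : i ⟶ j), IsAffineMor (D.map φ))
    (hqc : ∀ i, IsQuasiCompactSp (D.obj i)) (hqs : ∀ i, IsQuasiSeparatedSp (D.obj i))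
    (hY : IsAlgSpace Y) (hYqs : IsQuasiSeparatedSp Y) (hc : IsLimit c) (hg : ∀ i, c.π.app i ≫ t.app i = g)
    (hX : IsSeparatedMor g) :
    ∃ i₀ : I, ∀ (i : I) (_ : i ⟶ i₀), IsSeparatedMor (t.app i) := by
  haveI := IsCofiltered.isConnected I
  obtain ⟨i⟩ := (IsCofiltered.nonempty : Nonempty I)
  let DP := squareSystem t
  obtain ⟨hPqc, -⟩ := qc_qs_fibreProduct (hD i) hY (t.app i) (hqc i) (hqs i) hYqs
  obtain ⟨V, v, hV, ve, vs⟩ := exists_affine_atlas_of_qc hPqc
  haveI := hV
  have hΔ : RepWith @LocallyOfFiniteType (pullback.diagonal (t.app i)) :=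
    repWith_diagonal (t.app i) (repWith_diag_lft (hD i))
  obtain ⟨R, r, a, sqR⟩ := exists_isPullback_of_representable hΔ.1 v
  haveI : QuasiCompact a.left := (isQuasiSeparatedMor_of_qs (hqs i) (t.app i)).2 _ _ _ sqR
  haveI : CompactSpace ↥R.left := QuasiCompact.compactSpace_of_compactSpace a.left
  haveI : IsSeparated a.left := (repWith_diagonal (t.app i) (repWith_diag_separated (hD i))).2 _ _ _ sqR
  haveI : QuasiSeparated V.hom := inferInstance
  haveI : QuasiSeparated R.hom := Over.w a ▸ inferInstance
  -- the limit chart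
  obtain ⟨hcP⟩ := nonempty_isLimit_squareCone t c g hg hc
  have hDPa : ∀ (i j : I) (φ : i ⟶ j), IsAffineMor (DP.map φ) := fun i j φ => isAffineMor_squareSystem t hDa φ
  obtain ⟨T₀, hT₀, fstT, sqT₀, hT₀a⟩ := isAffineMor_limit_π hDPa hcP i hV v
  haveI := hT₀a
  obtain ⟨T, fstR, aT, sqT⟩ := exists_isPullback_of_representable hX.1 fstT
  haveI : IsClosedImmersion aT.left := hX.2 _ _ _ sqT
  haveI : IsAffine T.left := isAffine_of_isAffineHom aT.left
  have hnatI : c.π.app i ≫ pullback.diagonal (t.app i) = pullback.diagonal g ≫ (squareCone t c g hg).π.app i := by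
    dsimp [squareCone]
    apply pullback.hom_ext <;> simp
  have big : IsPullback fstR ((yon S).map (aT ≫ hT₀)) (c.π.app i ≫ pullback.diagonal (t.app i)) v := by
    rw [hnatI, Functor.map_comp]
    exact sqT.paste_vert sqT₀
  let rT := sqR.lift (fstR ≫ c.π.app i) ((yon S).map (aT ≫ hT₀)) (by rw [Category.assoc]; exact big.w)
  have hXT : IsPullback rT fstR r (c.π.app i) :=
    (IsPullback.of_bot (by rw [sqR.lift_snd]; exact big) (sqR.lift_fst _ _ _).symm sqR).flip
  obtain ⟨E, p, q, cE, e, ⟨hcE⟩, hE, hEqc, hEqs, hEa, hsq, -⟩ :=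
    exists_baseChange_system hD hDa hc (IsAlgSpace.yon_obj R)
      (isQuasiCompactSp_yon _) ((repWith_diag_yon_iff _ _).2 (inferInstance : QuasiCompact (pullback.diagonal R.hom)))
      r hXT
  obtain ⟨j, R₁, hR₁, ⟨e₁⟩⟩ := exists_stage_affine hE hEa hEqc hEqs hcE e.symm
  haveI := hR₁
  obtain ⟨V₁, w₁, v₁, sqV₁, hV₁⟩ := hDPa _ _ j.hom hV v
  haveI := hV₁
  have hnatj : D.map j.hom ≫ pullback.diagonal (t.app i) = pullback.diagonal (t.app j.left) ≫ DP.map j.hom := by
    dsimp [DP, squareSystem]
    apply pullback.hom_ext <;> simp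
  have bigj : IsPullback (q.app j) (p.app j ≫ (yon S).map a)
      (pullback.diagonal (t.app j.left) ≫ DP.map j.hom) v := by
    rw [← hnatj]
    exact ((hsq j).paste_horiz sqR.flip).flip
  have sq₁ : IsPullback (q.app j) (sqV₁.lift (q.app j ≫ pullback.diagonal (t.app j.left))
      (p.app j ≫ (yon S).map a) (by rw [Category.assoc]; exact bigj.w)) (pullback.diagonal (t.app j.left)) v₁ :=
    IsPullback.of_bot (by rw [sqV₁.lift_snd]; exact bigj) (sqV₁.lift_fst _ _ _).symm sqV₁
  obtain ⟨a₁, ha₁⟩ := (yon S).map_surjective (e₁.hom ≫ sqV₁.lift (q.app j ≫ pullback.diagonal (t.app j.left))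
      (p.app j ≫ (yon S).map a) (by rw [Category.assoc]; exact bigj.w))
  have sq₂ : IsPullback (e₁.hom ≫ q.app j) ((yon S).map a₁) (pullback.diagonal (t.app j.left)) v₁ := by
    refine sq₁.of_iso e₁.symm (Iso.refl _) (Iso.refl _) (Iso.refl _) ?_ ?_ ?_ ?_ <;> simp [ha₁]
  obtain ⟨k, φ, hk⟩ := exists_stage_isSeparated_of_chart t c g hg hDa hc hX hD j.left v₁
    (repWith_of_isPullback sqV₁.flip ve) (repWith_of_isPullback sqV₁.flip vs) _ a₁ sq₂
  refine ⟨k, fun l ψ => ?_⟩
  rw [← map_comp_structure t ψ]
  exact isSeparatedMor_comp ((isSeparatedMor_iff_repWith (isAffineMor_iff.1 (hDa _ _ ψ)).1).2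
    (repWith_mono (isAffineMor_iff.1 (hDa _ _ ψ)) fun _ _ h (_ : IsAffineHom h) => (inferInstance : IsSeparated h))) hk

end

end GrothLib.AlgSp
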