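import Groth.Agent.Lib.AlgSp.Strata
import Groth.Agent.Lib.AlgSp.DecentBridge
import Mathlib.LinearAlgebra.Dimension.Constructions
import Mathlib.AlgebraicGeometry.Morphisms.Immersion
import Mathlib.AlgebraicGeometry.AlgClosed.Basic
import Mathlib.FieldTheory.IsAlgClosed.AlgebraicClosure

/-!
# Locally separated spaces are decent

* `exists_bound_of_immersion`: the fibres of an affine chart with locally closed relation are bounded.
* `isDecent_of_isLocallySeparatedSp'`.
-/

universe u

open CategoryTheory CategoryTheory.Limits AlgebraicGeometry TensorProduct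

namespace GrothLib.AlgSp

open _root_.AlgSp

/-- A relation with bounded rows and columns has a large independent set. -/
theorem exists_independent {ι : Type*} [DecidableEq ι] (r : ι → ι → Prop) (d : ℕ)
    (s : Finset ι)
    (hrow : ∀ i, ∀ t ⊆ s, (∀ j ∈ t, r i j) → t.card ≤ d)
    (hcol : ∀ i, ∀ t ⊆ s, (∀ j ∈ t, r j i) → t.card ≤ d) :
    ∃ I ⊆ s, s.card ≤ I.card * (2 * d + 1) ∧ ∀ i ∈ I, ∀ j ∈ I, i ≠ j → ¬ r i j := by
  classical
  induction h : s.card using Nat.strong_induction_on generalizing s with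
  | _ m ih =>
    rcases s.eq_empty_or_nonempty with rfl | ⟨i, hi⟩
    · exact ⟨∅, le_rfl, by simp only [Finset.card_empty] at h; omega, by simp⟩
    let s' := s.filter fun j => j ≠ i ∧ ¬ r i j ∧ ¬ r j i
    have hlt : s'.card < m := h ▸ Finset.card_lt_card (Finset.filter_ssubset.2 ⟨i, hi, by simp⟩)
    have hs' : s' ⊆ s := Finset.filter_subset _ _
    obtain ⟨I, hI, hc, hind⟩ := ih _ hlt s' (fun a t ht => hrow a t (ht.trans hs'))
      (fun a t ht => hcol a t (ht.trans hs')) rfl
    refine ⟨insert i I, Finset.insert_subset hi (hI.trans hs'), ?_, fun c hc₁ b hb hab => ?_⟩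
    · have hni : i ∉ I := fun h' => (Finset.mem_filter.1 (hI h')).2.1 rfl
      have h1 := hrow i (s.filter fun j => r i j) (Finset.filter_subset _ _) fun j hj => (Finset.mem_filter.1 hj).2
      have h2 := hcol i (s.filter fun j => r j i) (Finset.filter_subset _ _) fun j hj => (Finset.mem_filter.1 hj).2
      have hsub : s ⊆ (s' ∪ {i}) ∪ ((s.filter fun j => r i j) ∪ s.filter fun j => r j i) := fun j hj => by
        simp only [s', Finset.mem_union, Finset.mem_filter, Finset.mem_singleton]
        tauto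
      have h3 := (Finset.card_le_card hsub).trans ((Finset.card_union_le _ _).trans
        (add_le_add (Finset.card_union_le _ _) (Finset.card_union_le _ _)))
      rw [Finset.card_singleton] at h3
      rw [Finset.card_insert_of_notMem hni, add_mul, one_mul]
      omega
    · rcases Finset.mem_insert.1 hc₁ with h₁ | h₁ <;> rcases Finset.mem_insert.1 hb with h₂ | h₂
      · exact absurd (h₁.trans h₂.symm) hab
      · rw [h₁]; exact (Finset.mem_filter.1 (hI h₂)).2.2.1
      · rw [h₂]; exact (Finset.mem_filter.1 (hI h₁)).2.2.2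
      · exact hind c h₁ b h₂ hab

/-- A diagonal invertible matrix of values of a sum of `m` products has size at most `m`. -/
theorem card_le_of_diag {A Ω ι κ : Type*} [CommRing A] [Field Ω] (P : Finset κ) (a b : κ → A) (I : Finset ι)
    (ψ : ι → A →+* Ω) (h₀ : ∀ i ∈ I, ∑ k ∈ P, ψ i (a k) * ψ i (b k) ≠ 0)
    (h₁ : ∀ i ∈ I, ∀ j ∈ I, i ≠ j → ∑ k ∈ P, ψ i (a k) * ψ j (b k) = 0) : I.card ≤ P.card := by
  classical
  let v : I → (P → Ω) := fun i k => ψ i (a k)
  have hv : LinearIndependent Ω v := by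
    rw [Fintype.linearIndependent_iff]
    intro g hg j
    let w : P → Ω := fun k => ψ j (b k)
    have e : ∀ i : I, ∑ k, v i k * w k = ∑ k ∈ P, ψ i (a k) * ψ j (b k) := fun i =>
      P.sum_coe_sort fun k => ψ i (a k) * ψ j (b k)
    have h : ∑ i, g i * ∑ k, v i k * w k = 0 := by
      simp only [Finset.mul_sum]
      rw [Finset.sum_comm]
      refine Finset.sum_eq_zero fun k _ => ?_
      have hk := congrFun hg k
      simp only [Finset.sum_apply, Pi.smul_apply, smul_eq_mul, Pi.zero_apply] at hk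
      rw [← zero_mul (w k), ← hk, Finset.sum_mul]
      exact Finset.sum_congr rfl fun i _ => by rw [mul_assoc]
    rw [Finset.sum_eq_single j (fun i _ hij => by rw [e, h₁ _ i.2 _ j.2 (fun he => hij (Subtype.ext he)), mul_zero])
      (fun hj => absurd (Finset.mem_univ j) hj), e] at h
    exact (mul_eq_zero.1 h).resolve_right (h₀ _ j.2)
  have := hv.fintype_card_le_finrank
  rwa [Fintype.card_coe, Module.finrank_fintype_fun_eq_card, Fintype.card_coe] at this

variable {S : Scheme.{u}} {X : Sp S}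

/-- Distinct sections of a morphism of bounded degree. -/
theorem card_sections_le {A B : Scheme.{u}} (p : A ⟶ B) [Etale p] [IsSeparated p]
    {n : ℕ} (hn : BddFib.FibreDegLE p n) {L : Type u} [Field L] (g : Spec (CommRingCat.of L) ⟶ B)
    {ι : Type*} (t : Finset ι) (μ : ι → (Spec (CommRingCat.of L) ⟶ A)) (hμ : ∀ i ∈ t, μ i ≫ p = g)
    (hinj : Set.InjOn μ t) : t.card ≤ n := by
  classical
  let σ : t → (Spec (CommRingCat.of L) ⟶ pullback p g) := fun i =>
    pullback.lift (μ i) (𝟙 _) (by rw [Category.id_comp]; exact hμ i i.2)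
  have hσ : ∀ i, σ i ≫ pullback.snd p g = 𝟙 _ := fun i => pullback.lift_snd _ _ _
  have hi : Function.Injective fun i => σ i (IsLocalRing.closedPoint L) := fun i j hij => by
    have e : σ i = σ j := EtBasicB.section_ext (pullback.snd p g) (hσ i) (hσ j) (by
      ext z
      constructor <;> rintro ⟨q, rfl⟩ <;>
        exact ⟨IsLocalRing.closedPoint L, by
          rw [Subsingleton.elim (α := PrimeSpectrum L) q (IsLocalRing.closedPoint L)]
          first | exact hij | exact hij.symm⟩)
    have e2 := congrArg (· ≫ pullback.fst p g) e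
    simp only [σ, pullback.lift_fst] at e2
    exact Subtype.ext (hinj i.2 j.2 e2)
  have h := (BddFibre.fibreDegLE_iff p n).mp hn L g
  haveI : Finite ↥(pullback p g) := (BddFibre.finite_discrete_of_finiteOfDegLE _ (Field.toIsField L) h).1
  have h1 := Nat.card_le_card_of_injective _ hi
  have h2 : Nat.card ↥(pullback p g) ≤ n := BddFibre.natCard_le _ (Field.toIsField L) h
  rw [Nat.card_eq_fintype_card, Fintype.card_coe] at h1
  exact h1.trans h2

set_option maxHeartbeats 4000000 in
/-- The lifts of a field valued point to an affine chart of a locally separated space are bounded. -/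
theorem exists_bound_of_immersion_aux (hX : IsAlgSpace X) (hls : IsLocallySeparatedSp X) {U : Over S}
    [IsAffine U.left] {a : (yon S).obj U ⟶ X} (ha : RepWith @Etale a) (K : Type u) [CommRing K]
    (hK : IsTerminal (Spec (CommRingCat.of K))) (κ : K →+* Γ(U.left, ⊤)) : ∃ N, degGE a N = ∅ := by
  classical
  obtain ⟨R, t, s, sq⟩ := exists_isPullback_yon hX.diag a a
  let A : CommRingCat.{u} := Γ(U.left, ⊤)
  letI : Algebra K A := κ.toAlgebra
  let B : Type u := A ⊗[K] A
  letI : CommRing B := inferInstanceAs (CommRing (A ⊗[K] A))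
  let e := U.left.isoSpec
  let σ : Spec A ⟶ Spec (CommRingCat.of K) := Spec.map (CommRingCat.ofHom (algebraMap K A))
  let τ : S ⟶ Spec (CommRingCat.of K) := hK.from S
  have heq : (U.hom ≫ τ) ≫ 𝟙 _ = e.hom ≫ σ := hK.hom_ext _ _
  let i₀ : R.left ⟶ pullback U.hom U.hom := pullback.lift t.left s.left ((Over.w t).trans (Over.w s).symm)
  haveI : IsImmersion i₀ := by
    haveI : IsImmersion (prod.lift t s).left := prop_prodLift_of_repWith_diag hls sq
    have : i₀ = (prod.lift t s).left ≫ (Over.prodLeftIsoPullback U U).hom := by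
      apply pullback.hom_ext
      · rw [pullback.lift_fst, Category.assoc, Over.prodLeftIsoPullback_hom_fst, ← Over.comp_left, prod.lift_fst]
      · rw [pullback.lift_snd, Category.assoc, Over.prodLeftIsoPullback_hom_snd, ← Over.comp_left, prod.lift_snd]
    rw [this]; infer_instance
  haveI : IsImmersion (pullback.map U.hom U.hom (U.hom ≫ τ) (U.hom ≫ τ) (𝟙 _) (𝟙 _) τ
      (Category.id_comp _).symm (Category.id_comp _).symm) :=
    MorphismProperty.of_isPullback (pullback_map_diagonal_isPullback U.hom U.hom τ)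
      (inferInstanceAs (IsImmersion (pullback.diagonal τ)))
  let i₁ : pullback U.hom U.hom ⟶ Spec (CommRingCat.of B) :=
    pullback.map U.hom U.hom (U.hom ≫ τ) (U.hom ≫ τ) (𝟙 _) (𝟙 _) τ
      (Category.id_comp _).symm (Category.id_comp _).symm ≫
    pullback.map (U.hom ≫ τ) (U.hom ≫ τ) σ σ e.hom e.hom (𝟙 _) heq heq ≫ (pullbackSpecIso K A A).hom
  let j : R.left ⟶ Spec (CommRingCat.of B) := i₀ ≫ i₁
  haveI : IsImmersion i₁ := inferInstance
  haveI : IsImmersion j := inferInstanceAs (IsImmersion (i₀ ≫ i₁))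
  let inl : A ⟶ CommRingCat.of B := CommRingCat.ofHom Algebra.TensorProduct.includeLeftRingHom
  let inr : A ⟶ CommRingCat.of B :=
    CommRingCat.ofHom (R := A) (S := B) Algebra.TensorProduct.includeRight.toRingHom
  have hj₁ : j ≫ Spec.map inl = t.left ≫ e.hom := by
    simp only [j, i₁, inl, Category.assoc]
    erw [pullbackSpecIso_hom_fst]
    erw [pullback.lift_fst]
    erw [pullback.lift_fst_assoc]
    rw [Category.comp_id]
    exact pullback.lift_fst_assoc _ _ _ _
  have hj₂ : j ≫ Spec.map inr = s.left ≫ e.hom := by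
    simp only [j, i₁, inr, Category.assoc]
    erw [pullbackSpecIso_hom_snd]
    erw [pullback.lift_snd]
    erw [pullback.lift_snd_assoc]
    rw [Category.comp_id]
    exact pullback.lift_snd_assoc _ _ _ _
  -- a quasi-compact open around the diagonal
  obtain ⟨δ, hδ₁, hδ₂⟩ := exists_lift_yon sq (𝟙 U) (𝟙 U) rfl
  have hcl := j.isLocallyClosed_range
  have hb : ∀ u : ↥U.left, ∃ g : B, (j (δ.left u) : PrimeSpectrum B) ∈ PrimeSpectrum.basicOpen g ∧
      (PrimeSpectrum.basicOpen g : Set (PrimeSpectrum B)) ⊆ coborder (Set.range j) := fun u => by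
    obtain ⟨_, ⟨g, rfl⟩, hg, hgO⟩ := PrimeSpectrum.isTopologicalBasis_basic_opens.exists_subset_of_mem_open
      (subset_coborder ⟨δ.left u, rfl⟩ : (j (δ.left u) : PrimeSpectrum B) ∈ coborder (Set.range j)) hcl.isOpen_coborder
    exact ⟨g, hg, hgO⟩
  choose g hg hgO using hb
  obtain ⟨F, hF⟩ := isCompact_univ.elim_finite_subcover
    (fun u : ↥U.left => (fun z => (j (δ.left z) : PrimeSpectrum B)) ⁻¹' (PrimeSpectrum.basicOpen (g u) : Set (PrimeSpectrum B)))
    (fun u => (PrimeSpectrum.basicOpen (g u)).isOpen.preimage (j.continuous.comp δ.left.continuous))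
    fun u _ => Set.mem_iUnion.2 ⟨u, hg u⟩
  let W : TopologicalSpace.Opens (Spec (CommRingCat.of B)) :=
    ⟨⋃ u ∈ (F : Set ↥U.left), (PrimeSpectrum.basicOpen (g u) : Set (PrimeSpectrum B)),
      isOpen_biUnion fun u _ => (PrimeSpectrum.basicOpen (g u)).isOpen⟩
  have hWco : (W : Set (Spec (CommRingCat.of B))) ⊆ coborder (Set.range j) :=
    Set.iUnion₂_subset fun u _ => hgO u
  have hWc : IsCompact (W : Set (Spec (CommRingCat.of B))) :=
    F.finite_toSet.isCompact_biUnion fun u _ => PrimeSpectrum.isCompact_basicOpen (g u)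
  let Ro : R.left.Opens := j ⁻¹ᵁ W
  haveI : CompactSpace ↥(Ro : Scheme.{u}) := by
    refine isCompact_iff_compactSpace.1 (j.isEmbedding.isInducing.isCompact_iff.2 ?_)
    have hI : j '' (Ro : Set ↥R.left) = (W : Set (Spec (CommRingCat.of B))) ∩ Set.range j := by
      ext z
      constructor
      · rintro ⟨y, hy, rfl⟩; exact ⟨hy, y, rfl⟩
      · rintro ⟨hz, y, rfl⟩; exact ⟨y, hz, rfl⟩
    rw [hI]
    have e' : (W : Set (Spec (CommRingCat.of B))) ∩ Set.range j = (W : Set _) ∩ closure (Set.range j) := by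
      refine subset_antisymm (Set.inter_subset_inter_right _ subset_closure) fun z hz => ⟨hz.1, ?_⟩
      rw [← coborder_inter_closure (s := Set.range j)]
      exact ⟨hWco hz.1, hz.2⟩
    rw [e']
    exact hWc.inter_right isClosed_closure
  haveI : Etale t.left := ha.2 _ _ _ sq.flip
  haveI : Etale s.left := ha.2 _ _ _ sq
  haveI := isSeparated_of_pullback_chart sq
  haveI := isSeparated_of_pullback_chart sq.flip
  haveI : LocallyQuasiFinite (Ro.ι ≫ t.left) := locallyQuasiFinite_of_unramified _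
  haveI : LocallyQuasiFinite (Ro.ι ≫ s.left) := locallyQuasiFinite_of_unramified _
  obtain ⟨n₁, hn₁⟩ := BddFibre.univBounded_of_locallyQuasiFinite (Ro.ι ≫ t.left)
  obtain ⟨n₂, hn₂⟩ := BddFibre.univBounded_of_locallyQuasiFinite (Ro.ι ≫ s.left)
  choose P hP using fun u => TensorProduct.exists_finset (g u)
  let d := max n₁ n₂
  let M := F.sup fun u => (P u).card
  refine ⟨F.card * (M * (2 * d + 1)) + 1, Set.eq_empty_iff_forall_notMem.2 ?_⟩
  rintro x ⟨Ω, _, w, γ, l, -, hl, hc⟩
  choose ρ hρ₁ hρ₂ using fun i i' => exists_lift_yon sq (l i) (l i') ((hc i).trans (hc i').symm)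
  let φ := fun i i' => Spec.preimage ((ρ i i').left ≫ j)
  have hφ : ∀ i i', Spec.map (φ i i') = (ρ i i').left ≫ j := fun i i' => Spec.map_preimage _
  let ψ := fun i => Spec.preimage ((l i).left ≫ e.hom)
  have hψ₁ : ∀ i i', inl ≫ φ i i' = ψ i := fun i i' => Spec.map_injective (by
    rw [Spec.map_comp, hφ, Category.assoc, hj₁, Spec.map_preimage, ← Category.assoc, ← Over.comp_left, hρ₁])
  have hψ₂ : ∀ i i', inr ≫ φ i i' = ψ i' := fun i i' => Spec.map_injective (by
    rw [Spec.map_comp, hφ, Category.assoc, hj₂, Spec.map_preimage, ← Category.assoc, ← Over.comp_left, hρ₂])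
  have hval : ∀ u i i', (φ i i').hom (g u) = ∑ p ∈ P u, (ψ i).hom p.1 * (ψ i').hom p.2 := fun u i i' => by
    rw [hP u, map_sum]
    refine Finset.sum_congr rfl fun p _ => ?_
    have e₁ : (φ i i').hom (p.1 ⊗ₜ (1 : A)) = (ψ i).hom p.1 := congr($(hψ₁ i i').hom p.1)
    have e₂ : (φ i i').hom ((1 : A) ⊗ₜ p.2) = (ψ i').hom p.2 := congr($(hψ₂ i i').hom p.2)
    rw [← e₁, ← e₂, ← map_mul, Algebra.TensorProduct.tmul_mul_tmul, one_mul, mul_one]
  have hmem : ∀ u i i', (j ((ρ i i').left (IsLocalRing.closedPoint Ω)) : PrimeSpectrum B) ∈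
      PrimeSpectrum.basicOpen (g u) ↔ (φ i i').hom (g u) ≠ 0 := fun u i i' => by
    rw [← Scheme.Hom.comp_apply, ← hφ]
    change g u ∉ Ideal.comap (φ i i').hom (IsLocalRing.maximalIdeal Ω) ↔ _
    rw [Ideal.mem_comap, IsLocalRing.maximalIdeal_eq_bot (R := Ω), Ideal.mem_bot]
  let r : Fin _ → Fin _ → Prop := fun i i' => (ρ i i').left (IsLocalRing.closedPoint Ω) ∈ Ro
  have hdiag : ∀ i, ∃ u ∈ F, (φ i i).hom (g u) ≠ 0 := fun i => by
    have hu := hF (Set.mem_univ ((l i).left (IsLocalRing.closedPoint Ω)))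
    obtain ⟨u, hu₁, hu₂⟩ := Set.mem_iUnion₂.1 hu
    refine ⟨u, Finset.mem_coe.1 hu₁, (hmem u i i).1 ?_⟩
    have hρd : ρ i i = l i ≫ δ := (yon S).map_injective (sq.hom_ext
      (by rw [← Functor.map_comp, ← Functor.map_comp, hρ₁, Category.assoc, hδ₁, Category.comp_id])
      (by rw [← Functor.map_comp, ← Functor.map_comp, hρ₂, Category.assoc, hδ₂, Category.comp_id]))
    rw [hρd]
    exact hu₂
  choose uu huF hu using hdiag
  -- a fibre of `uu`
  obtain ⟨u₀, -, hu₀⟩ := Finset.exists_lt_card_fiber_of_mul_lt_card_of_maps_to (s := Finset.univ) (t := F)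
    (fun i _ => huF i) (n := M * (2 * d + 1)) (by rw [Finset.card_univ, Fintype.card_fin]; omega)
  have hbound : ∀ (q : R.left ⟶ U.left) [Etale q] [IsSeparated q] (n : ℕ), BddFib.FibreDegLE (Ro.ι ≫ q) n →
      ∀ (h : Spec (CommRingCat.of Ω) ⟶ U.left) (T : Finset (Fin (F.card * (M * (2 * d + 1)) + 1)))
        (m : Fin (F.card * (M * (2 * d + 1)) + 1) → (Spec (CommRingCat.of Ω) ⟶ R.left)),
        (∀ i ∈ T, m i (IsLocalRing.closedPoint Ω) ∈ Ro ∧ m i ≫ q = h) → Set.InjOn m T → T.card ≤ n := by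
    intro q _ _ n hn h T m hm hinj
    let m' : T → (Spec (CommRingCat.of Ω) ⟶ (Ro : Scheme.{u})) := fun i =>
      IsOpenImmersion.lift Ro.ι (m i) (by
        rintro _ ⟨z, rfl⟩
        rw [Scheme.Opens.range_ι, Subsingleton.elim (α := PrimeSpectrum Ω) z (IsLocalRing.closedPoint Ω)]
        exact (hm i i.2).1)
    have hm' : ∀ i, m' i ≫ Ro.ι = m i := fun i => IsOpenImmersion.lift_fac _ _ _
    rw [← T.card_attach]
    exact card_sections_le (Ro.ι ≫ q) hn h T.attach m'
      (fun i _ => by rw [reassoc_of% hm', (hm i i.2).2])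
      fun i _ i' _ e' => Subtype.ext (hinj i.2 i'.2 (by rw [← hm' i, ← hm' i', e']))
  obtain ⟨I, hI, hIc, hind⟩ := exists_independent r d (Finset.univ.filter fun i => uu i = u₀)
    (fun i T _ hT => (hbound t.left n₁ hn₁ (l i).left T (fun i' => (ρ i i').left)
      (fun i' hi' => ⟨hT i' hi', congrArg (fun q : Over.mk w ⟶ U => q.left) (hρ₁ i i')⟩)
      fun a₁ _ a₂ _ e' => hl (by rw [← hρ₂ i a₁, ← hρ₂ i a₂, Over.OverMorphism.ext e'])).trans (le_max_left _ _))
    (fun i T _ hT => (hbound s.left n₂ hn₂ (l i).left T (fun i' => (ρ i' i).left)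
      (fun i' hi' => ⟨hT i' hi', congrArg (fun q : Over.mk w ⟶ U => q.left) (hρ₂ i' i)⟩)
      fun a₁ _ a₂ _ e' => hl (by rw [← hρ₁ a₁ i, ← hρ₁ a₂ i, Over.OverMorphism.ext e'])).trans (le_max_right _ _))
  have hu₀F : u₀ ∈ F := by
    obtain ⟨i, hi⟩ := Finset.card_pos.1 (Nat.zero_lt_of_lt hu₀)
    exact (Finset.mem_filter.1 hi).2 ▸ huF i
  have hIM : I.card ≤ M := by
    refine le_trans (card_le_of_diag (P u₀) (fun p => p.1) (fun p => p.2) I (fun i => (ψ i).hom)
      (fun i hi => ?_) fun i hi i' hi' hne => ?_) (Finset.le_sup (f := fun u => (P u).card) hu₀F)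
    · rw [← hval]
      exact (Finset.mem_filter.1 (hI hi)).2 ▸ hu i
    · rw [← hval]
      by_contra h0
      refine hind i hi i' hi' hne ?_
      show (j ((ρ i i').left (IsLocalRing.closedPoint Ω))) ∈ W
      exact Set.mem_iUnion₂.2 ⟨u₀, hu₀F, (hmem u₀ i i').2 h0⟩
  have := hIc.trans (Nat.mul_le_mul_right (2 * d + 1) hIM)
  omega

theorem exists_bound_of_immersion (hX : IsAlgSpace X) (hls : IsLocallySeparatedSp X) {U : Over S}
    [IsAffine U.left] {a : (yon S).obj U ⟶ X} (ha : RepWith @Etale a) : ∃ N, degGE a N = ∅ :=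
  exists_bound_of_immersion_aux hX hls ha (ULift.{u} ℤ) specULiftZIsTerminal
    ((Int.castRingHom _).comp (ULift.ringEquiv : ULift.{u} ℤ ≃+* ℤ).toRingHom)

/-- A space whose affine charts have bounded degree at each point is decent. -/
theorem isDecent_of_degGE_bounded (hX : IsAlgSpace X)
    (h : ∀ (U : Over S) (a : (yon S).obj U ⟶ X), IsAffine U.left → RepWith @Etale a →
      ∀ x : Points X, ∃ N, x ∉ degGE a N) : IsDecent X := by
  intro x
  induction x using Points.ind with | h q => ?_
  refine exists_mono_qc_of_compact hX q fun U φ hU hφ W c d sq => ?_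
  haveI := hU
  obtain ⟨hc, hA, -⟩ := discrete_fibre hφ q sq
  haveI := hc
  haveI := hA
  obtain ⟨N, hN⟩ := h U φ hU hφ (Points.mk q)
  let Ω := AlgebraicClosure q.K
  let ω : Over.mk (Spec.map (CommRingCat.ofHom (algebraMap q.K Ω)) ≫ q.str) ⟶ q.pt :=
    Over.homMk (Spec.map (CommRingCat.ofHom (algebraMap q.K Ω))) rfl
  let P := pullback c.left ω.left
  let π : P ⟶ Spec (CommRingCat.of Ω) := pullback.snd c.left ω.left
  haveI : LocallyQuasiFinite π := locallyQuasiFinite_of_unramified _
  haveI : IsLocallyArtinian P := .of_locallyQuasiFinite π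
  haveI : Surjective ω.left := ⟨fun z => ⟨IsLocalRing.closedPoint Ω,
    Subsingleton.elim (α := PrimeSpectrum q.K) _ z⟩⟩
  haveI : Surjective (pullback.fst c.left ω.left) := MorphismProperty.pullback_fst _ _ inferInstance
  suffices Finite ↥W.left from Finite.compactSpace
  by_contra hinf
  rw [not_finite_iff_infinite] at hinf
  let e : Fin N ↪ ↥W.left := (Fin.valEmbedding).trans (Infinite.natEmbedding _)
  choose z hz using fun i => (pullback.fst c.left ω.left).surjective (e i)
  let l : Fin N → (Over.mk (Spec.map (CommRingCat.ofHom (algebraMap q.K Ω)) ≫ q.str) ⟶ W) := fun i =>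
    Over.homMk (pointOfClosedPoint π (z i) (isClosed_discrete _) ≫ pullback.fst c.left ω.left) (by
      show (_ ≫ _) ≫ W.hom = _
      rw [← Over.w c, Category.assoc, pullback.condition_assoc, ← Category.assoc,
        pointOfClosedPoint_comp]
      exact (Category.id_comp _).trans (Over.w ω))
  have hlc : ∀ i, l i ≫ c = ω := fun i => Over.OverMorphism.ext (by
    change (_ ≫ pullback.fst c.left ω.left) ≫ c.left = ω.left
    rw [Category.assoc, pullback.condition, ← Category.assoc, pointOfClosedPoint_comp]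
    exact Category.id_comp _)
  have hle : ∀ i, (l i).left (IsLocalRing.closedPoint Ω) = e i := fun i => by
    change (pointOfClosedPoint π (z i) _ ≫ _) _ = _
    rw [Scheme.Hom.comp_apply, pointOfClosedPoint_apply, hz]
  refine hN ⟨Ω, inferInstance, _, (yon S).map ω ≫ q.toHom, fun i => l i ≫ d, ?_, fun i j hij => ?_, fun i => ?_⟩
  · rw [ofPt_map_comp, Points.ofPt_toHom]
  · have : l i = l j := (yon S).map_injective (sq.hom_ext
      (by rw [← Functor.map_comp, ← Functor.map_comp, hlc, hlc])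
      (by rw [← Functor.map_comp, ← Functor.map_comp]; exact congrArg _ hij))
    apply e.injective
    rw [← hle, ← hle, this]
  · rw [← hlc i, Functor.map_comp, Category.assoc, ← sq.w, Functor.map_comp, Category.assoc]

/-- Locally separated spaces are decent. -/
theorem isDecent_of_isLocallySeparatedSp' (hX : IsAlgSpace X) (hls : IsLocallySeparatedSp X) : IsDecent X :=
  isDecent_of_degGE_bounded hX fun U a hU ha x => by
    haveI := hU
    obtain ⟨N, hN⟩ := exists_bound_of_immersion hX hls ha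
    exact ⟨N, hN ▸ Set.notMem_empty x⟩

end GrothLib.AlgSp
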