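import Groth.Agent.Lib.AlgSp.Coproduct
import Groth.Agent.Lib.AlgSp.SourceLocal
import Groth.Agent.Lib.AlgSp.LocP
import Groth.Agent.Lib.Misc6.Small
import Groth.Agent.Lib.DiagGrp.KernelFP

/-!
# Properties descending along surjections of sheaves
-/

universe u

open CategoryTheory CategoryTheory.Limits AlgebraicGeometry

namespace GrothLib.AlgSp

open _root_.AlgSp

variable {S : Scheme.{u}}

theorem lft_of_retract {X P T : Scheme.{u}} (s : X ⟶ P) (p : P ⟶ X) (hs : s ≫ p = 𝟙 X) (f : X ⟶ T)
    [LocallyOfFiniteType (p ≫ f)] : LocallyOfFiniteType f := by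
  haveI : LocallyOfFiniteType p := locallyOfFiniteType_of_comp p f
  haveI : LocallyOfFiniteType (s ≫ p) := hs ▸ inferInstance
  haveI : LocallyOfFiniteType s := locallyOfFiniteType_of_comp s p
  rw [← Category.id_comp f, ← hs, Category.assoc]
  infer_instance

theorem lfp_of_retract {X P T : Scheme.{u}} (s : X ⟶ P) (p : P ⟶ X) (hs : s ≫ p = 𝟙 X) (f : X ⟶ T)
    [LocallyOfFinitePresentation (p ≫ f)] : LocallyOfFinitePresentation f := by
  haveI : LocallyOfFiniteType p := locallyOfFiniteType_of_comp p f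
  haveI : LocallyOfFinitePresentation s :=
    GrothLib.DiagGrp.lfp_of_comp_of_lft s p (hs ▸ inferInstance) inferInstance
  rw [← Category.id_comp f, ← hs, Category.assoc]
  infer_instance

/-- If a composite with a surjection of sheaves has `P`, so does the second map. -/
theorem locP_of_locallySurjective {P : MorphismProperty Scheme.{u}} (hP : EtLocal P)
    (hCP : ∀ ⦃A B : Scheme.{u}⦄ (c : A ⟶ B), Flat c → LocallyOfFinitePresentation c → P c)
    (hR : ∀ ⦃A B T : Scheme.{u}⦄ (s : A ⟶ B) (p : B ⟶ A) (f : A ⟶ T), s ≫ p = 𝟙 A → P (p ≫ f) → P f)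
    (hD : SrcDescends (@Flat ⊓ @LocallyOfFinitePresentation) P)
    {X Y Z : Sp S} (hX : IsAlgSpace X) (hY : IsAlgSpace Y) (hZ : IsAlgSpace Z) (g : X ⟶ Y) (h : Y ⟶ Z)
    [Sheaf.IsLocallySurjective g] (hgh : LocP P (g ≫ h)) : LocP P h := by
  obtain ⟨W, r, re, rs⟩ := hZ.atlas
  obtain ⟨V, q, α, qe, hq, qs⟩ := exists_chart_over hY hZ h r re
  obtain ⟨U, b, be, bs⟩ := (isAlgSpace_pullback' hY hX (IsAlgSpace.yon_obj V) g q).atlas
  let β : U ⟶ V := (yon S).preimage (b ≫ pullback.snd g q)
  have hβ : (yon S).map β = b ≫ pullback.snd g q := (yon S).map_preimage _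
  have pe : RepWith @Etale (b ≫ pullback.fst g q) :=
    repWith_comp be (repWith_of_isPullback (IsPullback.of_hasPullback g q).flip qe)
  have comm : (b ≫ pullback.fst g q) ≫ g ≫ h = (yon S).map (β ≫ α) ≫ r := by
    rw [Functor.map_comp, hβ, Category.assoc, Category.assoc, pullback.condition_assoc, hq, Category.assoc]
  have hu : P (β ≫ α).left := hgh _ r (β ≫ α) pe re comm
  obtain ⟨V₁, c, l, hcf, hcp, hcs, hl⟩ := exists_fppf_lift g q
  have : Sheaf.IsLocallySurjective b := isLocallySurjective_of_repWith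
    (repWith_mono be fun _ _ k (hk : Etale k) => (inferInstance : Flat k))
    (repWith_mono be fun _ _ k (hk : Etale k) => (inferInstance : LocallyOfFinitePresentation k)) bs
  obtain ⟨V₂, d, l', hdf, hdp, hds, hl'⟩ := exists_fppf_lift b (pullback.lift l ((yon S).map c) hl)
  obtain ⟨l', rfl⟩ := (yon S).map_surjective l'
  have he : l' ≫ β = d ≫ c := (yon S).map_injective (by
    rw [Functor.map_comp, hβ, reassoc_of% hl', pullback.lift_snd, Functor.map_comp])
  let e := d.left ≫ c.left
  have he' : l'.left ≫ β.left = 𝟙 _ ≫ e := by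
    rw [Category.id_comp, ← Over.comp_left, he]; rfl
  let s : V₂.left ⟶ pullback β.left e := pullback.lift l'.left (𝟙 _) he'
  have hfst : P (pullback.fst β.left e) := hCP _ (MorphismProperty.pullback_fst _ _ (inferInstanceAs (Flat e)))
    (MorphismProperty.pullback_fst _ _ (inferInstanceAs (LocallyOfFinitePresentation e)))
  have hve : P (e ≫ α.left) := by
    refine hR s (pullback.snd β.left e) _ (pullback.lift_snd _ _ _) ?_
    rw [← pullback.condition_assoc]
    exact hP.comp_mem _ _ hfst hu
  have hv : P α.left := hD e α.left ⟨inferInstanceAs (Flat e), inferInstanceAs (LocallyOfFinitePresentation e)⟩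
    (inferInstanceAs (Surjective (d.left ≫ c.left))) hve
  exact hP.locP_of_chart qe (qs rs) re hq hv

end GrothLib.AlgSp
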