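import Groth.Agent.Lib.KInj.SiteMod
import Mathlib.Algebra.Category.ModuleCat.Sheaf.PushforwardContinuous
import Mathlib.CategoryTheory.Category.ULift
import Mathlib.CategoryTheory.Sites.Equivalence
import Mathlib.CategoryTheory.Abelian.GrothendieckCategory.EnoughInjectives

/-!
# Modules on sites with small hom sets one universe down form a Grothendieck abelian category

* `liftEquiv`, `isGrothendieckAbelian_siteMod`.
-/

set_option autoImplicit false
set_option backward.isDefEq.respectTransparency false
universe u

open CategoryTheory CategoryTheory.Limits Opposite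

noncomputable section

namespace GrothLib.AlgSp.SiteModGroth

variable {C : Type (u + 1)} [Category.{u} C] (J : GrothendieckTopology C)

/-- The equivalence with the small model. -/
abbrev eL (C : Type (u + 1)) [Category.{u} C] : C ≌ ULiftHom.{u + 1} C := ULiftHom.equiv

/-- The topology on the small model. -/
abbrev JL : GrothendieckTopology (ULiftHom.{u + 1} C) := (eL C).inverse.inducedTopology J

variable {J} (R : Sheaf J RingCat.{u + 1})

/-- The ring on the small model. -/
abbrev ringL : Sheaf (JL J) RingCat.{u + 1} :=
  ((eL C).inverse.sheafPushforwardContinuous RingCat.{u + 1} (JL J) J).obj R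

/-- Modules on the small model agree with modules on the site. -/
def liftEquiv : SheafOfModules.{u + 1} (ringL R) ≌ SheafOfModules.{u + 1} R :=
  SheafOfModules.pushforwardPushforwardEquivalence (J := J) (K := JL J) (eL C) (S := R) (R := ringL R)
    (ObjectProperty.homMk
      { app := fun U => 𝟙 _
        naturality := fun U V g => by
          refine (Category.comp_id _).trans (Eq.trans ?_ (Category.id_comp _).symm)
          rfl })
    (𝟙 _)
    (by
      ext U : 2
      refine Eq.trans ?_ (Category.comp_id _).symm
      exact R.obj.map_id _)
    (by
      ext U : 2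
      show 𝟙 _ ≫ 𝟙 _ ≫ R.obj.map (𝟙 _) = 𝟙 _
      rw [Category.id_comp, Category.id_comp]
      exact R.obj.map_id _)

instance isGrothendieckAbelian_siteMod [HasSheafify J AddCommGrpCat.{u + 1}]
    [J.WEqualsLocallyBijective AddCommGrpCat.{u + 1}] : IsGrothendieckAbelian.{u + 1} (SheafOfModules.{u + 1} R) := by
  haveI := GrothLib.KInj.isGrothendieckAbelian_sheafOfModules (ringL R)
  exact IsGrothendieckAbelian.of_equivalence (liftEquiv R)

end GrothLib.AlgSp.SiteModGroth
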