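import Groth.Agent.Lib.AlgSp.QCohAcyclic
import Groth.Agent.Lib.AlgSp.EtColimSections
import Groth.Agent.Lib.AlgSp.QCohAbelian
import Groth.Agent.Lib.AlgSp.QCohFPEt
import Groth.Agent.Lib.AlgSp.SiteModGroth
import Groth.Agent.Lib.FibPow.ModInjective
import Groth.Agent.Lib.QCoh.ToSheaf
import Groth.Prelude.Def_AlgSpD
import Mathlib.CategoryTheory.Functor.OfSequence

/-!
# Ext vanishing for Čech acyclic modules, slices, and inverse limits

* `ext_vanish_mod`, `sliceCover`, `vanishes_of_tower`.
-/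

universe u

open CategoryTheory CategoryTheory.Limits CategoryTheory.Abelian AlgebraicGeometry Opposite
set_option backward.isDefEq.respectTransparency false

noncomputable section

namespace GrothLib.AlgSp.QCohEt

open _root_.AlgSp
open GrothLib

section Generic

variable {C : Type (u + 1)} [Category.{u} C] {J : GrothendieckTopology C}
  [HasSheafify J AddCommGrpCat.{u + 1}] [J.WEqualsLocallyBijective AddCommGrpCat.{u + 1}]
  [J.HasSheafCompose (forget AddCommGrpCat.{u + 1})] {R : Sheaf J RingCat.{u + 1}}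
  (K : FibPow.CoverClass.{u + 1} J) {Y : C} (hY : IsTerminal Y) (hB : K.B Y)

theorem acyclic_of_injective_mod (I : SheafOfModules.{u + 1} R) [Injective I] :
    K.Acyclic ((SheafOfModules.toSheaf R).obj I) := fun T Y f E _ => by
  haveI : Injective ((SheafOfModules.forget R ⋙ PresheafOfModules.restrictScalars (𝟙 R.obj)).obj I) :=
    Injective.injective_of_adjoint (PresheafOfModules.sheafificationAdjunction (𝟙 R.obj)) I
  exact FibPow.vanishes_of_injective_mod E R.obj
    ((SheafOfModules.forget R ⋙ PresheafOfModules.restrictScalars (𝟙 R.obj)).obj I)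

theorem shortExact_toSheaf {S : ShortComplex (SheafOfModules.{u + 1} R)} (hS : S.ShortExact) :
    (S.map (SheafOfModules.toSheaf R)).ShortExact := by
  haveI : (SheafOfModules.toSheaf.{u + 1} R).PreservesEpimorphisms := ⟨fun g _ => GrothLib.QCoh.toSheaf_map_epi g⟩
  haveI : (SheafOfModules.toSheaf.{u + 1} R).PreservesHomology :=
    Functor.preservesHomology_of_preservesEpis_and_kernels _
  haveI := hS.mono_f
  haveI := hS.epi_g
  exact { exact := hS.exact.map _
          mono_f := inferInstanceAs (Mono ((SheafOfModules.toSheaf R).map S.f))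
          epi_g := inferInstanceAs (Epi ((SheafOfModules.toSheaf R).map S.g)) }

include hY hB

/-- Čech acyclic modules receive no higher extensions from the structure sheaf. -/
theorem ext_vanish_mod [HasExt.{u + 1} (SheafOfModules.{u + 1} R)] [EnoughInjectives (SheafOfModules.{u + 1} R)] :
    ∀ (q : ℕ) (N : SheafOfModules.{u + 1} R), K.Acyclic ((SheafOfModules.toSheaf R).obj N) →
      ∀ x : Ext (SheafOfModules.unit R) N (q + 1), x = 0 := by
  intro q
  induction q with
  | zero =>
    intro N hN x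
    let S : ShortComplex (SheafOfModules.{u + 1} R) :=
      ShortComplex.mk (Injective.ι N) (cokernel.π _) (cokernel.condition _)
    have hS : S.ShortExact := { exact := ShortComplex.exact_of_g_is_cokernel S (cokernelIsCokernel _) }
    obtain ⟨x₃, hx⟩ := Ext.covariant_sequence_exact₁ _ hS x (Ext.eq_zero_of_injective _) rfl
    obtain ⟨φ, rfl⟩ : ∃ φ, Ext.mk₀ φ = x₃ := ⟨_, Ext.mk₀_homEquiv₀_apply x₃⟩
    obtain ⟨r, hr⟩ := K.surjective (shortExact_toSheaf hS) hN hB ((S.X₃.unitHomEquiv φ).val (op Y))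
    let σ : S.X₂.sections := PresheafOfModules.sectionsMk
      (fun V => S.X₂.val.presheaf.map (hY.from V.unop).op r) fun V W g => by
        show S.X₂.val.presheaf.map g (S.X₂.val.presheaf.map (hY.from V.unop).op r) = _
        rw [← Functor.map_comp_apply, show (hY.from V.unop).op ≫ g = (hY.from W.unop).op from
          Quiver.Hom.unop_inj (hY.hom_ext _ _)]
    have h : S.X₂.unitHomEquiv.symm σ ≫ S.g = φ := by
      refine S.X₃.unitHomEquiv.injective ?_
      rw [SheafOfModules.unitHomEquiv_comp_apply, Equiv.apply_symm_apply]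
      refine PresheafOfModules.sections_ext _ _ fun V => ?_
      refine (PresheafOfModules.naturality_apply S.g.val (hY.from V.unop).op r).trans ?_
      refine Eq.trans ?_ ((S.X₃.unitHomEquiv φ).property (hY.from V.unop).op)
      exact congrArg _ hr
    rw [← hx, ← h, ← Ext.mk₀_comp_mk₀, Ext.comp_assoc_of_second_deg_zero, ShortComplex.ShortExact.comp_extClass,
      Ext.comp_zero]
  | succ n ih =>
    intro N hN x
    let S : ShortComplex (SheafOfModules.{u + 1} R) :=
      ShortComplex.mk (Injective.ι N) (cokernel.π _) (cokernel.condition _)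
    have hS : S.ShortExact := { exact := ShortComplex.exact_of_g_is_cokernel S (cokernelIsCokernel _) }
    obtain ⟨x₃, hx⟩ := Ext.covariant_sequence_exact₁ _ hS x (Ext.eq_zero_of_injective _) rfl
    have h₃ := K.acyclic_X₃ (shortExact_toSheaf hS) hN (acyclic_of_injective_mod K (Injective.under N))
    rw [← hx, ih S.X₃ h₃ x₃, Ext.zero_comp]

end Generic

variable {S : Scheme.{u}} {X : Sp S}

/-- Powers in a slice as powers. -/
def overPow {U : EtOver X} {T Y : Over U} {f : T ⟶ Y} (E : FibPow f) : FibPow f.left where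
  P n := (E.P n).left
  π n i := (E.π n i).left
  w n i j := congrArg (·.left) (E.w n i j)
  exists_lift {W} n a h := by
    have hw : ∀ i, a i ≫ T.hom = a 0 ≫ T.hom := fun i => by
      rw [← Over.w f, ← Category.assoc, h i 0, Category.assoc]
    let W' : Over U := Over.mk (a 0 ≫ T.hom)
    obtain ⟨l, hl⟩ := E.exists_lift (W := W') n (fun i => Over.homMk (a i) (hw i))
      fun i j => Over.OverMorphism.ext (h i j)
    exact ⟨l.left, fun i => congrArg (·.left) (hl i)⟩
  hom_ext {W} n l l' h := by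
    let W' : Over U := Over.mk (l ≫ (E.P n).hom)
    have hl' : l' ≫ (E.P n).hom = l ≫ (E.P n).hom := by
      rw [← Over.w (E.π n 0)]
      exact (Category.assoc _ _ _).symm.trans ((congrArg (· ≫ T.hom) (h 0).symm).trans (Category.assoc _ _ _))
    have := E.hom_ext (W := W') n (Over.homMk l rfl) (Over.homMk l' hl') fun i => Over.OverMorphism.ext (h i)
    exact congrArg (·.left) this

theorem overPow_δ {U : EtOver X} {T Y : Over U} {f : T ⟶ Y} (E : FibPow f) (n : ℕ) (k : Fin (n + 2)) :
    (overPow E).δ n k = (E.δ n k).left :=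
  (overPow E).hom_ext _ _ _ fun i => ((overPow E).δ_π n k i).trans (congrArg (·.left) (E.δ_π n k i)).symm

theorem vanishes_over {U : EtOver X} {T Y : Over U} {f : T ⟶ Y} (E : FibPow f) (G : (EtOver X)ᵒᵖ ⥤ AddCommGrpCat.{u + 1})
    (h : (overPow E).Vanishes G) : E.Vanishes ((Over.forget U).op ⋙ G) := by
  have e : ∀ n x, E.d ((Over.forget U).op ⋙ G) n x = (overPow E).d G n x := fun n x => by
    rw [FibPow.d_apply, FibPow.d_apply]
    refine Finset.sum_congr rfl fun k _ => ?_
    rw [overPow_δ]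
    rfl
  intro n c hc
  obtain ⟨b, hb⟩ := h n c ((e (n + 1) c).symm.trans hc)
  exact ⟨b, (e n b).trans hb⟩

theorem exists_affine_cover_lift_over {U : EtOver X} {Y : Over U} [IsAffine Y.left.obj.left.left]
    {F G : Sheaf ((etTop X).over U) AddCommGrpCat.{u + 1}} (φ : F ⟶ G) (s : G.obj.obj (op Y))
    (hs : Presheaf.imageSieve φ.hom s ∈ (etTop X).over U Y) :
    ∃ (T : Over U) (f : T ⟶ Y) (_ : FibPow f), (IsAffine T.left.obj.left.left ∧ IsAffine Y.left.obj.left.left ∧
      Surjective f.left.hom.left.left) ∧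
      Sieve.generate (Presieve.singleton f) ∈ (etTop X).over U Y ∧ ∃ r, φ.hom.app (op T) r = G.obj.map f.op s := by
  classical
  have hs' := ((etTop X).mem_over_iff _).1 hs
  obtain ⟨n, hn, W, w, hw, hsurj⟩ := GrothLib.AlgSp.EtColim.exists_affine_family (U := Y.left) hs'
  let Z : n → Scheme.{u} := fun k => (W k).obj.left.left
  haveI : ∀ k, IsAffine (Z k) := fun k => (hw k).1
  let b : ∀ k, Z k ⟶ Y.left.obj.left.left := fun k => (w k).hom.left.left
  haveI : ∀ k, Etale (b k) := fun k => EtOver.etale_left (w k)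
  haveI : Etale (Sigma.desc b) := IsZariskiLocalAtSource.sigmaDesc fun k => inferInstance
  haveI hA : IsAffine (∐ Z) := inferInstance
  let g : Over.mk (Sigma.desc b ≫ Y.left.obj.left.hom) ⟶ Y.left.obj.left := Over.homMk (Sigma.desc b) rfl
  let T₀ : EtOver X := EtOver.mk ((yon S).map g ≫ Y.left.obj.hom)
    (repWith_comp ((repWith_yon_map_iff _ _).2 (show Etale (Sigma.desc b) by infer_instance)) Y.left.property)
  let f₀ : T₀ ⟶ Y.left := EtOver.homMk g rfl
  let j : ∀ k, W k ⟶ T₀ := fun k => EtOver.homMk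
    (Over.homMk (Sigma.ι Z k) (by
      show Sigma.ι Z k ≫ Sigma.desc b ≫ Y.left.obj.left.hom = (W k).obj.left.hom
      rw [Sigma.ι_desc_assoc]
      exact Over.w (w k).hom.left)) (by
      show (yon S).map _ ≫ (yon S).map g ≫ Y.left.obj.hom = (W k).obj.hom
      rw [← Functor.map_comp_assoc, ← EtOver.w (w k)]
      congr 2
      exact Over.OverMorphism.ext (Sigma.ι_desc _ _))
  have hjf : ∀ k, j k ≫ f₀ = w k := fun k =>
    EtOver.hom_ext _ _ (Over.OverMorphism.ext (Sigma.ι_desc _ _))
  haveI hf : Surjective f₀.hom.left.left := ⟨fun y => by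
    obtain ⟨k, z, hz⟩ := hsurj y
    refine ⟨Sigma.ι Z k z, ?_⟩
    show Sigma.desc b (Sigma.ι Z k z) = y
    rw [← Scheme.Hom.comp_apply, Sigma.ι_desc]
    exact hz⟩
  let T : Over U := Over.mk (f₀ ≫ Y.hom)
  let f : T ⟶ Y := Over.homMk f₀
  let W' : n → Over U := fun k => Over.mk (j k ≫ f₀ ≫ Y.hom)
  let j' : ∀ k, W' k ⟶ T := fun k => Over.homMk (j k)
  have hcov₀ : Sieve.ofArrows (fun _ : PUnit.{u + 1} => T₀) (fun _ => f₀) ∈ etTop X Y.left :=
    ofArrows_mem_etTop _ _ fun y => ⟨⟨⟩, f₀.hom.left.left.surjective y⟩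
  refine ⟨T, f, FibPow.ofPullbacks f, ⟨hA, inferInstance, hf⟩, ?_, ?_⟩
  · rw [(etTop X).mem_over_iff]
    refine (etTop X).superset_covering ((Sieve.generate_le_iff _ _).2 ?_) hcov₀
    rintro Z₀ z ⟨⟨⟩⟩
    rw [Sieve.overEquiv_iff]
    exact ⟨T, 𝟙 T, f, Presieve.singleton.mk, Category.id_comp _⟩
  have hcT : Sieve.generate (Presieve.ofArrows W' j') ∈ (etTop X).over U T := by
    rw [(etTop X).mem_over_iff]
    refine (etTop X).superset_covering ((Sieve.generate_le_iff _ _).2 ?_) (ofArrows_mem_etTop W j fun z => by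
      obtain ⟨k, x, hx⟩ := (sigmaOpenCover Z).exists_eq z
      exact ⟨k, x, hx⟩)
    rintro Z₀ z ⟨k⟩
    rw [Sieve.overEquiv_iff]
    exact ⟨W' k, Over.homMk (𝟙 (W k)) (Category.id_comp _), j' k, ⟨k⟩, Over.OverMorphism.ext (Category.id_comp _)⟩
  let FT := (sheafCompose ((etTop X).over U) (forget AddCommGrpCat.{u + 1})).obj F
  let GT := (sheafCompose ((etTop X).over U) (forget AddCommGrpCat.{u + 1})).obj G
  have hsh : ∀ H : Sheaf ((etTop X).over U) (Type (u + 1)), (Presieve.ofArrows W' j').IsSheafFor H.obj :=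
    fun H => (Presieve.isSheafFor_iff_generate _).2 ((isSheaf_iff_isSheaf_of_type _ _).1 H.property _ hcT)
  have hmem : ∀ k, (Presheaf.imageSieve φ.hom s).arrows (j' k ≫ f) := fun k => by
    have h := (Sieve.overEquiv_iff _ _).1 (hw k).2
    let e : W' k ⟶ Over.mk (w k ≫ Y.hom) := Over.homMk (𝟙 (W k)) (by
      show 𝟙 (W k) ≫ w k ≫ Y.hom = j k ≫ f₀ ≫ Y.hom
      rw [Category.id_comp, ← hjf k, Category.assoc])
    have e' : j' k ≫ f = e ≫ (Over.homMk (w k) : Over.mk (w k ≫ Y.hom) ⟶ Y) := Over.OverMorphism.ext (by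
      show j k ≫ f₀ = 𝟙 _ ≫ w k
      rw [Category.id_comp, hjf])
    rw [e']
    exact Sieve.downward_closed _ h e
  choose r₁ hr₁ using hmem
  obtain ⟨r₀, hr₀, -⟩ := (Presieve.isSheafFor_arrows_iff _ _).1 (hsh FT) r₁ (fun i i' Z' gi gj hij => by
    by_cases h : i = i'
    · subst h
      haveI : Mono (j i).hom.left.left := inferInstanceAs (Mono (Sigma.ι Z i))
      obtain rfl : gi = gj := Over.OverMorphism.ext (EtOver.hom_ext _ _ (Over.OverMorphism.ext
        ((cancel_mono (j i).hom.left.left).1 (congrArg (fun m : Z' ⟶ T => m.left.hom.left.left) hij))))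
      rfl
    · haveI : IsEmpty Z'.left.obj.left.left := ⟨fun z =>
        (disjoint_opensRange_sigmaι Z i i' h).le_bot
          ⟨⟨gi.left.hom.left.left z, rfl⟩, ⟨gj.left.hom.left.left z, (congr($(hij).left.hom.left.left.base z)).symm⟩⟩⟩
      have hbot : (⊥ : Sieve Z') ∈ (etTop X).over U Z' := by
        rw [(etTop X).mem_over_iff]
        have := ofArrows_mem_etTop (E := Z'.left) (fun e : PEmpty.{u + 1} => e.elim) (fun e => e.elim)
          (fun z => isEmptyElim z)
        refine (etTop X).superset_covering ?_ this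
        exact (Sieve.generate_le_iff _ _).2 fun _ _ hh => by rcases hh with ⟨e⟩; exact e.elim
      exact (((isSheaf_iff_isSheaf_of_type _ _).1 FT.property ⊥ hbot).isSeparatedFor).ext fun _ _ h => h.elim)
  change F.obj.obj (op T) at r₀
  refine ⟨r₀, (hsh GT).isSeparatedFor.ext ?_⟩
  rintro _ _ ⟨k⟩
  show G.obj.map (j' k).op (φ.hom.app (op T) r₀) = G.obj.map (j' k).op (G.obj.map f.op s)
  rw [← Functor.map_comp_apply, ← op_comp, ← hr₁ k]
  refine (ConcreteCategory.congr_hom (φ.hom.naturality (j' k).op) r₀).symm.trans ?_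
  exact congrArg (φ.hom.app (op (W' k))) (hr₀ k)

/-- Affine objects of a slice with their surjective affine covers. -/
def sliceCover (U : EtOver X) : FibPow.CoverClass.{u + 1} ((etTop X).over U) where
  B Y := IsAffine Y.left.obj.left.left
  Cov T Y f := IsAffine T.left.obj.left.left ∧ IsAffine Y.left.obj.left.left ∧ Surjective f.left.hom.left.left
  mem _ _ f E := fun ⟨h₁, h₂, _⟩ n => isAffine_pow (hT := h₁) (hY := h₂) (overPow E) n
  refine' Y hY F G φ s hs := by
    haveI : IsAffine Y.left.obj.left.left := hY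
    exact exists_affine_cover_lift_over φ s hs

theorem acyclic_slice {U : EtOver X} (N : ModEt X) (h : (affCover X).Acyclic ((toAbEt X).obj N)) :
    (sliceCover U).Acyclic ((SheafOfModules.toSheaf (OEtOn U)).obj ((resModEt U).obj N)) :=
  fun T Y f E hf => vanishes_over E ((toAbEt X).obj N).obj (h f.left (overPow E) hf)

/-- Acyclic modules have no higher extensions from the structure sheaf over affine objects. -/
theorem subsingleton_HEtDOn_of_acyclic {U : EtOver X} (hU : IsAffine U.obj.left.left) (N : ModEt X)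
    (h : (affCover X).Acyclic ((toAbEt X).obj N)) (p : ℤ) (hp : 0 < p) :
    letI := HasDerivedCategory.standard (ModEt X)
    letI := HasDerivedCategory.standard (ModEtOn U)
    Subsingleton (HEtDOn U (DCoh.inDMod (OEtRing X) N) p) := by
  letI := HasDerivedCategory.standard (ModEt X)
  letI := HasDerivedCategory.standard (ModEtOn U)
  haveI : HasExt.{u + 1} (ModEtOn U) := hasExt_of_enoughInjectives _
  obtain ⟨q, rfl⟩ : ∃ q : ℕ, p = ((q + 1 : ℕ) : ℤ) := ⟨(p - 1).toNat, by omega⟩
  let e : ((resDEt U).obj (DCoh.inDMod (OEtRing X) N))⟦((q + 1 : ℕ) : ℤ)⟧ ≅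
      ((DerivedCategory.singleFunctor (ModEtOn U) 0).obj ((resModEt U).obj N))⟦((q + 1 : ℕ) : ℤ)⟧ :=
    (shiftFunctor _ _).mapIso (((resModEt U).mapDerivedCategorySingleFunctor 0).app N)
  haveI : Subsingleton (Ext.{u + 1} (SheafOfModules.unit (OEtOn U)) ((resModEt U).obj N) (q + 1)) :=
    ⟨fun a b => by
      rw [ext_vanish_mod (sliceCover U) Over.mkIdTerminal hU q _ (acyclic_slice N h) a,
        ext_vanish_mod (sliceCover U) Over.mkIdTerminal hU q _ (acyclic_slice N h) b]⟩
  exact (Ext.homEquiv.symm.injective.comp e.homToEquiv.injective).subsingleton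

/-- The tower of a family of modules. -/
theorem sections_limit {M : ℕ → ModEt X} (t : ∀ n, M (n + 1) ⟶ M n) (V : EtOver X) :
    (∀ x y : Sec (O := OEt X) (limit (Functor.ofOpSequence t)) V,
      (∀ n, app (O := OEt X) (limit.π (Functor.ofOpSequence t) (op n)) V x =
        app (O := OEt X) (limit.π (Functor.ofOpSequence t) (op n)) V y) → x = y) ∧
    (∀ s : ∀ n, Sec (O := OEt X) (M n) V, (∀ n, app (O := OEt X) (t n) V (s (n + 1)) = s n) →
      ∃ x : Sec (O := OEt X) (limit (Functor.ofOpSequence t)) V,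
        ∀ n, app (O := OEt X) (limit.π (Functor.ofOpSequence t) (op n)) V x = s n) := by
  let D := Functor.ofOpSequence t
  haveI : PreservesLimitsOfSize.{0, 0} (SheafOfModules.forget.{u + 1} (OEtRing X)) :=
    preservesLimitsOfSize_shrink.{0, u + 1, 0, u + 1} _
  haveI : PreservesLimitsOfSize.{0, 0} (PresheafOfModules.evaluation.{u + 1} (OEtRing X).obj (op V)) :=
    preservesLimitsOfSize_shrink.{0, u + 1, 0, u + 1} _
  let F : ModEt X ⥤ Type (u + 1) := SheafOfModules.forget (OEtRing X) ⋙
    PresheafOfModules.evaluation (OEtRing X).obj (op V) ⋙ forget _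
  have hL := isLimitOfPreserves F (limit.isLimit D)
  constructor
  · intro x y h
    exact (Types.isLimit_iff_bijective_sectionOfCone _).1 ⟨hL⟩ |>.1 (Subtype.ext (funext fun ⟨n⟩ => h n))
  · intro s hs
    let σ : (D ⋙ F).sections := ⟨fun j => s j.unop, fun {i j} g => by
      obtain ⟨⟨⟨hle⟩⟩⟩ := g
      obtain ⟨a⟩ := i
      obtain ⟨b⟩ := j
      show app (O := OEt X) (D.map (homOfLE hle).op) V (s a) = s b
      induction a, hle using Nat.le_induction with
      | base =>
        rw [show (homOfLE (le_refl b)).op = 𝟙 (op b) from rfl, CategoryTheory.Functor.map_id]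
        rfl
      | succ a hle ih =>
        rw [show (homOfLE (hle.trans (Nat.le_succ a))).op = (homOfLE (Nat.le_succ a)).op ≫ (homOfLE hle).op from rfl,
          Functor.map_comp, app_comp, Functor.ofOpSequence_map_homOfLE_succ]
        exact (congrArg _ (hs a)).trans ih⟩
    obtain ⟨x, hx⟩ := ((Types.isLimit_iff_bijective_sectionOfCone _).1 ⟨hL⟩).2 σ
    exact ⟨x, fun n => congrArg (fun τ : (D ⋙ F).sections => τ.1 (op n)) hx⟩

theorem surjective_app_affine {M N : ModEt X} [M.IsQuasicoherent] [N.IsQuasicoherent] (φ : M ⟶ N) [Epi φ]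
    {V : EtOver X} (hV : IsAffine V.obj.left.left) : Function.Surjective (app (O := OEt X) φ V) :=
  surjective_app_of_epi (O := OEt X) (affEt X) φ hV (good_of_isQuasicoherent M hV) (good_of_isQuasicoherent N hV)

/-- Limits of quasi-coherent towers with epimorphic transition maps are Čech acyclic. -/
theorem acyclic_limit {M : ℕ → ModEt X} (t : ∀ n, M (n + 1) ⟶ M n) (hM : ∀ n, (M n).IsQuasicoherent)
    (ht : ∀ n, Epi (t n)) : (affCover X).Acyclic ((toAbEt X).obj (limit (Functor.ofOpSequence t))) := by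
  intro T Y f E hf k c hc
  haveI := hM
  haveI := ht
  have hP : ∀ i, IsAffine (E.P i).obj.left.left := isAffine_pow (hT := hf.1) (hY := hf.2.1) E
  let dS : ∀ (A : ModEt X) (i : ℕ), Sec (O := OEt X) A (E.P i) →+ Sec (O := OEt X) A (E.P (i + 1)) :=
    fun A i => (E.d ((toAbEt X).obj A).obj i).hom
  have dd : ∀ (A : ModEt X) (i : ℕ) x, dS A (i + 1) (dS A i x) = 0 := fun A i x => E.d_d ((toAbEt X).obj A).obj i x
  have nat : ∀ {A B : ModEt X} (φ : A ⟶ B) (i : ℕ) (x : Sec (O := OEt X) A (E.P i)),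
      app (O := OEt X) φ (E.P (i + 1)) (dS A i x) = dS B i (app (O := OEt X) φ (E.P i) x) :=
    fun φ i x => E.d_naturality _ ((toAbEt X).map φ).hom i x
  have van : ∀ (A : ModEt X), A.IsQuasicoherent → ∀ (i : ℕ) (z : Sec (O := OEt X) A (E.P (i + 1))),
      dS A (i + 1) z = 0 → ∃ h, dS A i h = z := fun A hA i z hz => acyclic_of_isQuasicoherent A f E hf i z hz
  let π := fun n => limit.π (Functor.ofOpSequence t) (op n)
  have hπ : ∀ n, π (n + 1) ≫ t n = π n := fun n => by
    have := limit.w (Functor.ofOpSequence t) (homOfLE (Nat.le_succ n)).op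
    rw [Functor.ofOpSequence_map_homOfLE_succ] at this
    exact this
  have key : ∀ n (e : Sec (O := OEt X) (M n) (E.P k)), dS (M n) k e = 0 →
      ∃ e' : Sec (O := OEt X) (M (n + 1)) (E.P k), dS (M (n + 1)) k e' = 0 ∧
        app (O := OEt X) (t n) (E.P k) e' = e := by
    intro n e he
    obtain ⟨x, hx⟩ := surjective_app_affine (t n) (hP k) e
    have h0 : app (O := OEt X) (t n) (E.P (k + 1)) (dS (M (n + 1)) k x) = 0 := by rw [nat, hx, he]
    obtain ⟨z, hz⟩ := exact_kernel (O := OEt X) (t n) (E.P (k + 1)) _ h0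
    let T' : ShortComplex (ModEt X) := ShortComplex.mk (kernel.ι (t n)) (t n) (kernel.condition _)
    haveI : Mono T'.f := inferInstanceAs (Mono (kernel.ι (t n)))
    have hK : (kernel (t n)).IsQuasicoherent := isQuasicoherent_of_good _ fun V hV =>
      good_left (O := OEt X) (affEt X) (T := T') (ShortComplex.exact_of_f_is_kernel T' (kernelIsKernel _)) hV
        (good_of_isQuasicoherent (M (n + 1)) hV) (good_of_isQuasicoherent (M n) hV)
    have hdz : dS (kernel (t n)) (k + 1) z = 0 := app_injective (O := OEt X) (kernel.ι (t n)) (E.P (k + 1 + 1)) (by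
      rw [nat, hz, dd, map_zero])
    obtain ⟨h, hh⟩ := van _ hK k z hdz
    refine ⟨x - app (O := OEt X) (kernel.ι (t n)) (E.P k) h, ?_, ?_⟩
    · rw [map_sub, ← nat, hh, hz, sub_self]
    · rw [map_sub, hx, ← app_comp, kernel.condition]
      exact sub_zero _
  choose lift hlift₀ hlift using key
  let cn : ∀ n, Sec (O := OEt X) (M n) (E.P (k + 1)) := fun n => app (O := OEt X) (π n) (E.P (k + 1)) c
  have hcn : ∀ n, dS (M n) (k + 1) (cn n) = 0 := fun n =>
    (nat (π n) (k + 1) c).symm.trans ((congrArg (app (O := OEt X) (π n) (E.P (k + 1 + 1))) hc).trans (map_zero _))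
  choose b₀ hb₀ using fun n => van (M n) (hM n) k (cn n) (hcn n)
  have hcne : ∀ n, app (O := OEt X) (t n) (E.P (k + 1)) (cn (n + 1)) = cn n := fun n =>
    congrArg (fun φ => app (O := OEt X) φ (E.P (k + 1)) c) (hπ n)
  have hstep : ∀ n (b : {b : Sec (O := OEt X) (M n) (E.P k) // dS (M n) k b = cn n}),
      ∃ b' : {b : Sec (O := OEt X) (M (n + 1)) (E.P k) // dS (M (n + 1)) k b = cn (n + 1)},
        app (O := OEt X) (t n) (E.P k) b'.1 = b.1 := by
    intro n b
    have he : dS (M n) k (app (O := OEt X) (t n) (E.P k) (b₀ (n + 1)) - b.1) = 0 := by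
      rw [map_sub, ← nat, hb₀, b.2, hcne, sub_self]
    refine ⟨⟨b₀ (n + 1) - lift n _ he, by rw [map_sub, hb₀, hlift₀, sub_zero]⟩, ?_⟩
    rw [map_sub, hlift, sub_sub_cancel]
  choose next hnext using hstep
  let b : ∀ n, {b : Sec (O := OEt X) (M n) (E.P k) // dS (M n) k b = cn n} :=
    fun n => Nat.rec (motive := fun n => {b : Sec (O := OEt X) (M n) (E.P k) // dS (M n) k b = cn n})
      ⟨b₀ 0, hb₀ 0⟩ (fun m x => next m x) n
  obtain ⟨x, hx⟩ := (sections_limit t (E.P k)).2 (fun n => (b n).1) fun n => hnext n (b n)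
  refine ⟨x, (sections_limit t (E.P (k + 1))).1 _ _ fun n => ?_⟩
  exact (nat (π n) k x).trans ((congrArg (dS (M n) k) (hx n)).trans (b n).2)

end GrothLib.AlgSp.QCohEt
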