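import Groth.Agent.Lib.AlgSp.ModGen
import Groth.Agent.Lib.HoCat.Product
import Groth.Prelude.Def_CohCx

/-!
# Maps from affine generators into objects with quasi-coherent cohomology on a space

* `hom_gen_single_eq_zero`, `isRlimVia_trunc_qcoh`, `theta_bijective`.
-/

set_option autoImplicit false
set_option backward.isDefEq.respectTransparency false
set_option maxHeartbeats 400000
universe u

open CategoryTheory CategoryTheory.Limits AlgebraicGeometry Opposite Pretriangulated DerivedCategory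
open GrothLib.SiteDer (theta IsLocGen)

attribute [local instance] HasDerivedCategory.standard

noncomputable section

namespace GrothLib.AlgSp.ModDer

open _root_.AlgSp
open GrothLib.AlgSp.QCohEt

variable {S : Scheme.{u}} {X : Sp S}

/-- The generators of `ModEt X`. -/
abbrev G (X : Sp S) : EtOver X ⥤ ModEt X := ModGen.gen (OEtRing X)

theorem isLocGen_G : IsLocGen (etTop X) (G X) := ModGen.isLocGen_gen _

theorem locally_affine (V : EtOver X) {P : ∀ ⦃W : EtOver X⦄, (W ⟶ V) → Prop}
    (hP : ∀ ⦃W W'⦄ (a : W ⟶ V) (b : W' ⟶ W), P a → P (b ≫ a))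
    (h : ∀ (W : EtOver X) (a : W ⟶ V), IsAffine W.obj.left.left → P a) : SiteDer.Locally (etTop X) V P := by
  obtain ⟨T, hT, hfac⟩ := affCovers_affEt (X := X) V
  refine ⟨T, hT, fun Z z hz => ?_⟩
  obtain ⟨W, a, b, hW, rfl⟩ := hfac z hz
  exact hP b a (h W b hW)

/-- Affine objects cover. -/
theorem exists_affine_ofArrows (V : EtOver X) :
    ∃ (ι : Type (u + 1)) (Y : ι → EtOver X) (g : ∀ i, Y i ⟶ V),
      Sieve.ofArrows Y g ∈ etTop X V ∧ ∀ i, IsAffine (Y i).obj.left.left := by
  obtain ⟨T, hT, hfac⟩ := affCovers_affEt (X := X) V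
  refine ⟨Σ W : EtOver X, {g : W ⟶ V // IsAffine W.obj.left.left}, fun i => i.1, fun i => i.2.1,
    (etTop X).superset_covering (fun Z z hz => ?_) hT, fun i => i.2.2⟩
  obtain ⟨W, a, b, hW, rfl⟩ := hfac z hz
  exact (Sieve.ofArrows _ _).downward_closed (Sieve.ofArrows_mk (fun i : Σ W : EtOver X,
    {g : W ⟶ V // IsAffine W.obj.left.left} => i.1) (fun i => i.2.1) ⟨W, b, hW⟩) a

theorem isQuasicoherent_of_isZero {M : ModEt X} (h : IsZero M) : M.IsQuasicoherent := by
  refine isQuasicoherent_of_good M fun E _ V _ => ?_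
  haveI hs : ∀ W, Subsingleton (Sec (O := OEt X) M W) := fun W =>
    ModuleCat.subsingleton_of_isZero
      (Functor.map_isZero (SheafOfModules.forget.{u + 1} (OEtRing X) ⋙ PresheafOfModules.evaluation _ (op W)) h)
  refine ⟨fun x y _ => ?_, fun z => ⟨0, (hs _).elim _ _⟩⟩
  have h0 : ∀ t : TensorProduct (Ob (OEt X) E) (Ov (OEt X) V) (Sec (O := OEt X) M E), t = 0 := fun t => by
    induction t using TensorProduct.induction_on with
    | zero => rfl
    | tmul b m => rw [Subsingleton.elim m 0, TensorProduct.tmul_zero]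
    | add a b ha hb => rw [ha, hb, add_zero]
  exact (h0 x).trans (h0 y).symm

/-- Quasi-coherence is invariant under isomorphisms. -/
theorem isQuasicoherent_of_iso {M N : ModEt X} (e : M ≅ N) (h : M.IsQuasicoherent) : N.IsQuasicoherent :=
  (SheafOfModules.isQuasicoherent (OEtRing X)).prop_of_iso e h

theorem hom_gen_single_eq_zero {U : EtOver X} (hU : IsAffine U.obj.left.left) (M : ModEt X)
    (hM : M.IsQuasicoherent) {k q : ℤ} (hkq : k ≠ q)
    (ψ : (singleFunctor (ModEt X) k).obj ((G X).obj U) ⟶ (singleFunctor (ModEt X) q).obj M) : ψ = 0 :=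
  ModGen.hom_single_eq_zero (affCover X) (Y := U) hU M (haveI := hM; acyclic_of_isQuasicoherent M) hkq ψ

/-- No maps into objects whose cohomology lives below. -/
theorem hom_gen_eq_zero {U : EtOver X} (hU : IsAffine U.obj.left.left) (k a : ℤ) (W : DModEt X) [W.IsGE a]
    (hq : ∀ q, q < k → (DCoh.HDMod (OEtRing X) W q).IsQuasicoherent) (hz : IsZero (DCoh.HDMod (OEtRing X) W k))
    (φ : (singleFunctor (ModEt X) k).obj ((G X).obj U) ⟶ W) : φ = 0 :=
  SiteDer.eq_zero_of_isGE' _ k a W (fun q _ hqk ψ => by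
    rcases lt_or_eq_of_le hqk with h | rfl
    · exact hom_gen_single_eq_zero hU _ (hq q h) (ne_of_gt h) ψ
    · exact ((singleFunctor (ModEt X) q).map_isZero hz).eq_of_tgt _ _) φ

/-- The bijectivity statement. -/
def ThetaBij (U : EtOver X) (j : ℤ) (E : DModEt X) : Prop :=
  Function.Bijective (fun φ : (singleFunctor (ModEt X) j).obj ((G X).obj U) ⟶ E => theta φ)

theorem thetaBij_of_comp {U : EtOver X} {j : ℤ} {E E' : DModEt X} (a : E ⟶ E')
    (hH : IsIso ((homologyFunctor (ModEt X) j).map a))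
    (hb : Function.Bijective (fun φ : (singleFunctor (ModEt X) j).obj ((G X).obj U) ⟶ E => φ ≫ a))
    (h : ThetaBij U j E') : ThetaBij U j E := by
  have hp : Function.Bijective (fun g : (G X).obj U ⟶ (homologyFunctor (ModEt X) j).obj E =>
      g ≫ (homologyFunctor (ModEt X) j).map a) := by
    refine ⟨fun g g' e => (cancel_mono ((homologyFunctor (ModEt X) j).map a)).1 e,
      fun g => ⟨g ≫ inv ((homologyFunctor (ModEt X) j).map a), by simp⟩⟩
  refine (Function.Bijective.of_comp_iff' hp _).1 ?_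
  have e : ((fun g : (G X).obj U ⟶ (homologyFunctor (ModEt X) j).obj E =>
        g ≫ (homologyFunctor (ModEt X) j).map a) ∘
      fun φ : (singleFunctor (ModEt X) j).obj ((G X).obj U) ⟶ E => theta φ) =
      (fun φ : (singleFunctor (ModEt X) j).obj ((G X).obj U) ⟶ E' => theta φ) ∘ fun φ => φ ≫ a :=
    funext fun φ => (SiteDer.theta_comp φ a).symm
  rw [e]
  exact h.comp hb

theorem thetaBij_of_isGE_self (U : EtOver X) (j : ℤ) (E : DModEt X) [E.IsGE j] : ThetaBij U j E := by
  let A := (TStructure.t.truncLT (j + 1)).obj E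
  let B := (TStructure.t.truncGE (j + 1)).obj E
  let ι : A ⟶ E := (TStructure.t.truncLTι (j + 1)).app E
  have hB : B.IsGE (j + 1) := inferInstanceAs (TStructure.t.IsGE ((TStructure.t.truncGE (j + 1)).obj E) (j + 1))
  have hAle : A.IsLE j := inferInstanceAs (TStructure.t.IsLE ((TStructure.t.truncLT (j + 1)).obj E) j)
  have hAge : A.IsGE j := inferInstanceAs (TStructure.t.IsGE ((TStructure.t.truncLT (j + 1)).obj E) j)
  have hHι : IsIso ((homologyFunctor (ModEt X) j).map ι) := DerTrunc.isIso_homology_truncLTι E (j + 1) j (by omega)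
  let P := (singleFunctor (ModEt X) j).obj ((G X).obj U)
  have hb : Function.Bijective (fun φ : P ⟶ A => φ ≫ ι) := by
    refine SiteDer.bijective_comp_of_cone (TStructure.t.triangleLTGE_distinguished (j + 1) E) P
      (fun φ => (TStructure.t (C := ModEt X)).zero_of_isLE_of_isGE φ j (j + 1) (by omega)
        inferInstance hB)
      (fun φ => ?_)
    refine (cancel_epi (SiteDer.singleShiftOne ((G X).obj U) j).inv).1 (Eq.trans ?_ comp_zero.symm)
    exact (TStructure.t (C := ModEt X)).zero_of_isLE_of_isGE _ (j - 1) (j + 1) (by omega) inferInstance hB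
  obtain ⟨e⟩ := DerTrunc.nonempty_iso_single A j
  have hA : ThetaBij U j A := by
    refine thetaBij_of_comp e.hom inferInstance
      ⟨fun φ φ' h => (cancel_mono e.hom).1 h, fun φ => ⟨φ ≫ e.inv, by simp⟩⟩ ?_
    let i := (singleFunctorCompHomologyFunctorIso (ModEt X) j)
    refine ⟨fun φ φ' h => ?_, fun g => ⟨(singleFunctor (ModEt X) j).map (g ≫ i.hom.app _), ?_⟩⟩
    · obtain ⟨g, rfl⟩ := (singleFunctor (ModEt X) j).map_surjective φ
      obtain ⟨g', rfl⟩ := (singleFunctor (ModEt X) j).map_surjective φ'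
      have hn : ∀ g : (G X).obj U ⟶ DCoh.HDMod (OEtRing X) A j, theta ((singleFunctor (ModEt X) j).map g) =
          g ≫ i.inv.app (DCoh.HDMod (OEtRing X) A j) := fun g => (i.inv.naturality g).symm
      exact congrArg _ ((cancel_mono (i.inv.app (DCoh.HDMod (OEtRing X) A j))).1 (((hn g).symm.trans h).trans (hn g')))
    · refine (i.inv.naturality (g ≫ i.hom.app _)).symm.trans ?_
      exact (Category.assoc _ _ _).trans ((congrArg (g ≫ ·) (i.hom_inv_id_app _)).trans (Category.comp_id _))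
  refine ⟨fun φ φ' h => ?_, fun g => ?_⟩
  · obtain ⟨ψ, rfl⟩ := hb.2 φ
    obtain ⟨ψ', rfl⟩ := hb.2 φ'
    refine congrArg (· ≫ ι) (hA.1 ?_)
    simpa [SiteDer.theta_comp, cancel_mono] using h
  · obtain ⟨ψ, hψ⟩ := hA.2 (g ≫ inv ((homologyFunctor (ModEt X) j).map ι))
    exact ⟨ψ ≫ ι, by simp only [SiteDer.theta_comp]; simp only at hψ; rw [hψ]; simp⟩

theorem isQuasicoherent_HD_truncGE {E : DModEt X} (hE : DCoh.IsQCohDMod (OEtRing X) E) (n q : ℤ) :
    (DCoh.HDMod (OEtRing X) ((TStructure.t.truncGE n).obj E) q).IsQuasicoherent := by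
  rcases lt_or_ge q n with h | h
  · have : ((TStructure.t.truncGE n).obj E).IsGE n :=
      inferInstanceAs (TStructure.t.IsGE ((TStructure.t.truncGE n).obj E) n)
    exact isQuasicoherent_of_isZero (DerivedCategory.isZero_of_isGE _ n q h)
  · have := DerTrunc.isIso_homology_truncGEπ E n q h
    exact isQuasicoherent_of_iso (asIso ((homologyFunctor (ModEt X) q).map ((TStructure.t.truncGEπ n).app E))) (hE q)

/-- The bounded below case. -/
theorem thetaBij_of_isGE {U : EtOver X} (hU : IsAffine U.obj.left.left) (j a : ℤ) (E : DModEt X) [E.IsGE a]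
    (hE : DCoh.IsQCohDMod (OEtRing X) E) : ThetaBij U j E := by
  by_cases hja : j ≤ a
  · have : E.IsGE j := (TStructure.t (C := ModEt X)).isGE_of_ge E j a hja
    exact thetaBij_of_isGE_self U j E
  let A := (TStructure.t.truncLT j).obj E
  let B := (TStructure.t.truncGE j).obj E
  have hBj : B.IsGE j := inferInstanceAs (TStructure.t.IsGE ((TStructure.t.truncGE j).obj E) j)
  have hAle : A.IsLE (j - 1) := inferInstanceAs (TStructure.t.IsLE ((TStructure.t.truncLT j).obj E) (j - 1))
  have hAge : A.IsGE a := inferInstanceAs (TStructure.t.IsGE ((TStructure.t.truncLT j).obj E) a)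
  have hA1 : (A⟦(1 : ℤ)⟧).IsGE (a - 1) :=
    (TStructure.t (C := ModEt X)).isGE_shift A a 1 (a - 1) (by omega)
  have hz : ∀ q, j ≤ q → IsZero (DCoh.HDMod (OEtRing X) A q) := fun q hq =>
    DerivedCategory.isZero_of_isLE A (j - 1) q (by omega)
  have hqA : ∀ q, (DCoh.HDMod (OEtRing X) A q).IsQuasicoherent := fun q => by
    rcases lt_or_ge q j with h | h
    · have := DerTrunc.isIso_homology_truncLTι E j q h
      exact isQuasicoherent_of_iso
        (asIso ((homologyFunctor (ModEt X) q).map ((TStructure.t.truncLTι j).app E))).symm (hE q)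
    · exact isQuasicoherent_of_isZero (hz q h)
  let s : ∀ q, DCoh.HDMod (OEtRing X) (A⟦(1 : ℤ)⟧) q ≅ DCoh.HDMod (OEtRing X) A (q + 1) := fun q =>
    ((homologyFunctor (ModEt X) 0).shiftIso 1 q (q + 1) (by omega)).app A
  refine thetaBij_of_comp ((TStructure.t.truncGEπ j).app E) (DerTrunc.isIso_homology_truncGEπ E j j le_rfl)
    ?_ (thetaBij_of_isGE_self U j B)
  refine SiteDer.bijective_comp_of_cone (rot_of_distTriang _ (TStructure.t.triangleLTGE_distinguished j E))
    _ (fun φ => ?_) (fun φ => ?_)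
  · exact hom_gen_eq_zero hU j (a - 1) (A⟦(1 : ℤ)⟧) (fun q _ => isQuasicoherent_of_iso (s q).symm (hqA _))
      ((hz (j + 1) (by omega)).of_iso (s j)) φ
  · exact (cancel_epi (SiteDer.singleShiftOne ((G X).obj U) j).inv).1 ((hom_gen_eq_zero hU (j - 1) (a - 1)
      (A⟦(1 : ℤ)⟧) (fun q _ => isQuasicoherent_of_iso (s q).symm (hqA _))
      ((hz (j - 1 + 1) (by omega)).of_iso (s (j - 1))) _).trans comp_zero.symm)

theorem goodAt_trunc {U : EtOver X} (hU : IsAffine U.obj.left.left) {E : DModEt X}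
    (hE : DCoh.IsQCohDMod (OEtRing X) E) (j : ℤ) :
    SiteDer.GoodAt (K := fun n : ℕ => (TStructure.t.truncGE (-(n : ℤ))).obj E)
      (fun n => (TStructure.t.natTransTruncGEOfLE (-((n + 1 : ℕ) : ℤ)) (-(n : ℤ)) (by omega)).app E)
      (G X) j (-j).toNat U := by
  refine SiteDer.goodAt_of_homology j _ U fun n hn => ?_
  obtain ⟨Z, g, c, hZT, hZ, hz, ⟨e⟩⟩ := SiteDer.exists_cone_truncMap E n
  refine ⟨Z, g, c, _, hZT, hZ, fun k q hk hqk ψ => ?_⟩
  by_cases hq : q = -(n : ℤ) - 2
  · subst hq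
    exact hom_gen_single_eq_zero hU _ (isQuasicoherent_of_iso e.symm (hE _)) (by omega) ψ
  · exact ((singleFunctor (ModEt X) q).map_isZero (hz q hq)).eq_of_tgt _ _

/-- An object with quasi-coherent cohomology is the derived limit of its truncations. -/
theorem isRlimVia_trunc_qcoh {E : DModEt X} (hE : DCoh.IsQCohDMod (OEtRing X) E)
    [HasProduct fun n : ℕ => (TStructure.t.truncGE (-(n : ℤ))).obj E] :
    CohCx.IsRlimVia (fun n : ℕ => (TStructure.t.truncGE (-(n : ℤ))).obj E)
      (fun n => (TStructure.t.natTransTruncGEOfLE (-((n + 1 : ℕ) : ℤ)) (-(n : ℤ)) (by omega)).app E)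
      E (fun n => (TStructure.t.truncGEπ (-(n : ℤ))).app E) := by
  refine SiteDer.isRlimVia_trunc isLocGen_G E {V : EtOver X | IsAffine V.obj.left.left}
    (fun W => exists_affine_ofArrows W) fun V _ j => ⟨(-j).toNat, fun T hT => ?_⟩
  choose ι Yc gc hg hY using fun (W : EtOver X) => exists_affine_ofArrows W
  refine ⟨Σ (p : Σ W : EtOver X, {f : W ⟶ V // T f}), ι p.1, fun i => Yc i.1.1 i.2,
    fun i => gc i.1.1 i.2 ≫ i.1.2.1, fun i => T.downward_closed i.1.2.2 _, ?_,
    fun i => goodAt_trunc (hY i.1.1 i.2) hE j⟩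
  refine (etTop X).transitive hT _ fun W f hf => ?_
  refine (etTop X).superset_covering ?_ (hg W)
  rintro Z z ⟨Z', a, b, ⟨i⟩, rfl⟩
  show (Sieve.ofArrows _ _).arrows ((a ≫ gc W i) ≫ f)
  rw [Category.assoc]
  exact (Sieve.ofArrows _ _).downward_closed (Sieve.ofArrows_mk
    (fun i : Σ (p : Σ W : EtOver X, {f : W ⟶ V // T f}), ι p.1 => Yc i.1.1 i.2)
    (fun i => gc i.1.1 i.2 ≫ i.1.2.1) ⟨⟨W, f, hf⟩, i⟩) a

/-- Maps from the generator at an affine object are sections of the cohomology sheaf. -/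
theorem theta_bijective {U : EtOver X} (hU : IsAffine U.obj.left.left) {E : DModEt X}
    (hE : DCoh.IsQCohDMod (OEtRing X) E) (j : ℤ) : ThetaBij U j E := by
  have := HoCat.derivedCategory_hasLimitsOfShape (A := ModEt X) ℕ
  have : HasProduct fun n : ℕ => (TStructure.t.truncGE (-(n : ℤ))).obj E := inferInstance
  let n := (-j).toNat
  have : ((TStructure.t.truncGE (-(n : ℤ))).obj E).IsGE (-(n : ℤ)) := SiteDer.isGE_truncTower E n
  exact thetaBij_of_comp ((TStructure.t.truncGEπ (-(n : ℤ))).app E)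
    (DerTrunc.isIso_homology_truncGEπ E _ j (by omega))
    ((goodAt_trunc hU hE j).bijective (isRlimVia_trunc_qcoh hE) n le_rfl)
    (thetaBij_of_isGE hU j (-(n : ℤ)) _ (fun q => isQuasicoherent_HD_truncGE hE _ q))

end GrothLib.AlgSp.ModDer
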