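import Groth.Agent.Lib.AlgSp.ModRlim
import Groth.Agent.Lib.AlgSp.EtModGroth
import Groth.Agent.Lib.CohDer22.Rlim
import Groth.Agent.Lib.RDerBound20.Abstract
import Groth.Agent.Lib.CohDer19.InjAmp
import Groth.Agent.Lib.KInj.Derived

/-!
# Cohomological bounds for right derived functors on objects with quasi-coherent cohomology

* `isZero_RK_of_isGE`, `isZero_RK_above`, `isIso_RK_truncGE`.
-/

set_option autoImplicit false
set_option backward.isDefEq.respectTransparency false
set_option linter.style.haveILetI false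
set_option maxHeartbeats 800000
universe u

open CategoryTheory CategoryTheory.Limits AlgebraicGeometry Opposite Pretriangulated DerivedCategory
open GrothLib.SiteDer (theta)

attribute [local instance] HasDerivedCategory.standard

noncomputable section

namespace GrothLib.AlgSp.ModBound

open _root_.AlgSp
open GrothLib.AlgSp.ModDer
open GrothLib.CohDer22 (RK)

/-- The free group on one generator. -/
abbrev P : AddCommGrpCat.{u + 1} := AddCommGrpCat.of (ULift.{u + 1} ℤ)

theorem exists_hom_P {A : AddCommGrpCat.{u + 1}} (x : A) : ∃ f : P.{u} ⟶ A, f (ULift.up 1) = x :=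
  ⟨AddCommGrpCat.ofHom ((zmultiplesHom A x).comp AddEquiv.ulift.toAddMonoidHom), by
    show (1 : ℤ) • x = x
    exact one_zsmul x⟩

theorem hom_P_ext {A : AddCommGrpCat.{u + 1}} {f g : P.{u} ⟶ A} (h : f (ULift.up 1) = g (ULift.up 1)) : f = g := by
  ext ⟨n⟩
  have e : (ULift.up n : ULift.{u + 1} ℤ) = n • ULift.up 1 := by
    ext
    simp
  change f (ULift.up n) = g (ULift.up n)
  rw [e, map_zsmul, map_zsmul, h]

/-- Countable products of groups preserve surjections. -/
theorem preservesEpimorphisms_limNat :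
    (lim : (Discrete ℕ ⥤ AddCommGrpCat.{u + 1}) ⥤ AddCommGrpCat.{u + 1}).PreservesEpimorphisms := by
  refine ⟨fun {A B} f hf => ?_⟩
  rw [AddCommGrpCat.epi_iff_surjective]
  intro y
  obtain ⟨h, hh⟩ := exists_hom_P y
  choose x hx using fun j => (AddCommGrpCat.epi_iff_surjective (f.app j)).1
    ((NatTrans.epi_iff_epi_app f).1 hf j) ((h ≫ limit.π B j) (ULift.up 1))
  choose g hg using fun j => exists_hom_P (x j)
  refine ⟨limit.lift A ⟨P.{u}, Discrete.natTrans fun j => g j⟩ (ULift.up 1), ?_⟩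
  have e : limit.lift A ⟨P.{u}, Discrete.natTrans fun j => g j⟩ ≫ lim.map f = h := limit.hom_ext fun j => by
    rw [Category.assoc, lim_map, limMap_π, limit.lift_π_assoc]
    refine hom_P_ext ?_
    show f.app j (g j (ULift.up 1)) = _
    rw [hg, hx]
  exact (congrArg (fun φ : P.{u} ⟶ _ => φ (ULift.up 1)) e).trans hh

/-- The constant generator on a point. -/
abbrev GP : Discrete PUnit.{u + 1} ⥤ AddCommGrpCat.{u + 1} := (Functor.const _).obj P

/-- The trivial site. -/
abbrev J0 : GrothendieckTopology (Discrete PUnit.{u + 1}) := GrothendieckTopology.trivial _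

theorem locally_iff {U : Discrete PUnit.{u + 1}} {Q : ∀ ⦃V : Discrete PUnit.{u + 1}⦄, (V ⟶ U) → Prop} :
    SiteDer.Locally J0.{u} U Q → Q (𝟙 U) := by
  rintro ⟨S, hS, h⟩
  obtain rfl : S = ⊤ := hS
  exact h (𝟙 U) trivial

theorem isLocGen_GP : SiteDer.IsLocGen J0.{u} GP.{u} where
  lift {M N} p _ U g := SiteDer.Locally.of_forall fun V f => by
    obtain ⟨x, hx⟩ := (AddCommGrpCat.epi_iff_surjective p).1 inferInstance (g (ULift.up 1))
    obtain ⟨h, hh⟩ := exists_hom_P x
    refine ⟨h, hom_P_ext ?_⟩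
    show p (h (ULift.up 1)) = g (ULift.up 1)
    rw [hh, hx]
  sep {M U} g h := by
    have h' := locally_iff h
    simpa using h'
  mono {M N} p h := by
    rw [AddCommGrpCat.mono_iff_injective, injective_iff_map_eq_zero]
    intro x hx
    obtain ⟨f, hf⟩ := exists_hom_P x
    have h0 := h ⟨PUnit.unit⟩ f (hom_P_ext (by show p (f (ULift.up 1)) = 0; rw [hf, hx]))
    rw [← hf, h0]
    rfl
  epi {M N} p h := by
    rw [AddCommGrpCat.epi_iff_surjective]
    intro y
    obtain ⟨g, hg⟩ := exists_hom_P y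
    obtain ⟨k, hk⟩ := locally_iff (h ⟨PUnit.unit⟩ g)
    refine ⟨k (ULift.up 1), ?_⟩
    rw [← hg]
    exact congrArg (fun φ : P.{u} ⟶ N => φ (ULift.up 1)) (hk.trans (Category.id_comp g))

/-- Maps from the free group in degree `j` are classes in degree `j`. -/
theorem theta_bijective_P (Y : DerivedCategory AddCommGrpCat.{u + 1}) (j : ℤ) :
    Function.Bijective (fun φ : (singleFunctor AddCommGrpCat.{u + 1} j).obj P.{u} ⟶ Y => theta φ) := by
  refine ⟨(injective_iff_map_eq_zero (AddMonoidHom.mk' (fun φ : (singleFunctor AddCommGrpCat.{u + 1} j).obj P.{u} ⟶ Y =>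
    theta φ) fun a b => by simp [theta])).2 fun φ hφ => ?_, fun g => ?_⟩
  · have h := locally_iff (isLocGen_GP.eq_zero_of_theta (G := GP) (U := ⟨PUnit.unit⟩) φ hφ)
    simpa using h
  · obtain ⟨φ, hφ⟩ := locally_iff (isLocGen_GP.exists_theta (U := ⟨PUnit.unit⟩) g)
    exact ⟨φ, hφ.trans (Category.id_comp g)⟩

theorem isZero_iff_hom_P (Y : DerivedCategory AddCommGrpCat.{u + 1}) (j : ℤ) :
    IsZero ((homologyFunctor AddCommGrpCat.{u + 1} j).obj Y) ↔
      ∀ φ : (singleFunctor AddCommGrpCat.{u + 1} j).obj P.{u} ⟶ Y, φ = 0 := by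
  refine ⟨fun h φ => (theta_bijective_P Y j).1 (h.eq_of_tgt _ _), fun h => isLocGen_GP.isZero fun U g => ?_⟩
  obtain ⟨φ, rfl⟩ := (theta_bijective_P Y j).2 g
  show theta φ = 0
  rw [h φ, SiteDer.theta_zero]

/-- Cohomology of a derived limit in degrees where the members vanish. -/
theorem isZero_homology_rlim {K : ℕ → DerivedCategory AddCommGrpCat.{u + 1}} {t : ∀ n, K (n + 1) ⟶ K n}
    [HasProduct K] {L : DerivedCategory AddCommGrpCat.{u + 1}} {a : ∀ n, L ⟶ K n}
    (hL : CohCx.IsRlimVia K t L a) (i : ℤ)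
    (hz : ∀ n, IsZero ((homologyFunctor AddCommGrpCat.{u + 1} i).obj (K n)))
    (hepi : ∀ n, Epi ((homologyFunctor AddCommGrpCat.{u + 1} (i - 1)).map (t n))) :
    IsZero ((homologyFunctor AddCommGrpCat.{u + 1} i).obj L) := by
  obtain ⟨c, hT⟩ := hL
  rw [isZero_iff_hom_P]
  intro φ
  have hx : φ⟦(1 : ℤ)⟧' ≫ (Pi.lift a)⟦(1 : ℤ)⟧' = 0 := by
    rw [← Functor.map_comp, show φ ≫ Pi.lift a = 0 from Pi.hom_ext _ _ fun n => by
      rw [zero_comp, Category.assoc, Pi.lift_π]
      exact (isZero_iff_hom_P (K n) i).1 (hz n) _, Functor.map_zero]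
  obtain ⟨y, hy⟩ := Triangle.coyoneda_exact₁ _ hT _ hx
  let e := SiteDer.singleShiftOne P.{u} i
  obtain ⟨z, hzt⟩ := SiteDer.exists_telescope _ 0 K t (fun m _ ψ => by
    haveI := hepi m
    obtain ⟨r, hr⟩ := (AddCommGrpCat.epi_iff_surjective
      ((homologyFunctor AddCommGrpCat.{u + 1} (i - 1)).map (t m))).1 inferInstance (theta ψ (ULift.up 1))
    obtain ⟨f, hf⟩ := exists_hom_P r
    obtain ⟨χ, hχ⟩ := (theta_bijective_P (K (m + 1)) (i - 1)).2 f
    refine ⟨χ, (theta_bijective_P (K m) (i - 1)).1 (hom_P_ext ?_)⟩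
    simp only at hχ ⊢
    rw [SiteDer.theta_comp, hχ]
    exact (congrArg _ hf).trans hr) (fun m => e.inv ≫ y ≫ Pi.π K m)
  have hzy : Pi.lift z ≫ (Pi.lift fun n => Pi.π K n - Pi.π K (n + 1) ≫ t n) = e.inv ≫ y :=
    Pi.hom_ext _ _ fun m => by
      simp only [Category.assoc, Pi.lift_π, Preadditive.comp_sub, Pi.lift_π_assoc]
      exact hzt m
  have h0 : (Pi.lift fun n => Pi.π K n - Pi.π K (n + 1) ≫ t n) ≫ c = 0 := comp_distTriang_mor_zero₂₃ _ hT
  apply (shiftFunctor (DerivedCategory AddCommGrpCat.{u + 1}) (1 : ℤ)).map_injective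
  rw [Functor.map_zero, hy, ← cancel_epi e.inv, comp_zero]
  show e.inv ≫ y ≫ c = 0
  rw [← Category.assoc, ← hzy, Category.assoc, h0, comp_zero]

variable {S : Scheme.{u}} {X : Sp S} (F : ModEt X ⥤ AddCommGrpCat.{u + 1}) [F.Additive]

/-- The cohomology of the derived functor. -/
abbrev HR (i : ℤ) (E : DModEt X) : AddCommGrpCat.{u + 1} :=
  (homologyFunctor AddCommGrpCat.{u + 1} i).obj ((RK F).obj E)

theorem exists_rep [EnoughInjectives (ModEt X)] (E : DModEt X) (a : ℤ) [E.IsGE a] (i : ℤ) :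
    ∃ M : CochainComplex (ModEt X) ℤ, M.IsStrictlyGE a ∧ (∀ n, Injective (M.X n)) ∧
      Nonempty (DerivedCategory.Q.obj M ≅ E) ∧
      Nonempty (HR F i E ≅ ((F.mapHomologicalComplex (ComplexShape.up ℤ)).obj M).homology i) := by
  obtain ⟨M, hMge, hM, ⟨eM⟩⟩ := CohDer19.InjAmp.exists_injective_rep E a
  haveI : M.IsKInjective := CochainComplex.isKInjective_of_injective M a
  let G := F.mapHomotopyCategory (ComplexShape.up ℤ) ⋙ DerivedCategory.Qh
  let qM := (HomotopyCategory.quotient (ModEt X) (ComplexShape.up ℤ)).obj M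
  haveI := KInj.isIso_unit_of_rightOrthogonal (X := qM) (CochainComplex.IsKInjective.rightOrthogonal M)
  let eR : (RK F).obj E ≅ G.obj qM :=
    (RK F).mapIso (eM.symm ≪≫ ((DerivedCategory.quotientCompQhIso (ModEt X)).app M).symm) ≪≫
      (asIso (G.map ((KInj.resAdj (ModEt X)).unit.app qM))).symm
  let FM := (F.mapHomologicalComplex (ComplexShape.up ℤ)).obj M
  let eQ : G.obj qM ≅ DerivedCategory.Q.obj FM :=
    DerivedCategory.Qh.mapIso ((F.mapHomotopyCategoryFactors (ComplexShape.up ℤ)).app M) ≪≫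
      (DerivedCategory.quotientCompQhIso AddCommGrpCat.{u + 1}).app FM
  exact ⟨M, hMge, hM, ⟨eM⟩, ⟨(homologyFunctor AddCommGrpCat.{u + 1} i).mapIso (eR ≪≫ eQ) ≪≫
    (homologyFunctorFactors AddCommGrpCat.{u + 1} i).app FM⟩⟩

theorem isZero_RK_of_isGE [EnoughInjectives (ModEt X)] (E : DModEt X) (a : ℤ) [E.IsGE a] (i : ℤ) (hi : i < a) :
    IsZero (HR F i E) := by
  obtain ⟨M, hMge, _, _, ⟨e⟩⟩ := exists_rep F E a i
  exact IsZero.of_iso (ShortComplex.isZero_homology_of_isZero_X₂ _ (F.map_isZero (M.isZero_of_isStrictlyGE a i hi))) e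

variable (N : ℕ) [EnoughInjectives (ModEt X)]
  (hF : ∀ G : ModEt X, G.IsQuasicoherent → ∀ p : ℕ, N ≤ p → IsZero ((F.rightDerived p).obj G))

include hF in
theorem isZero_RK_bounded (E : DModEt X) (hE : DCoh.IsQCohDMod (OEtRing X) E) (a b : ℤ) [E.IsGE a]
    (hb : ∀ q : ℤ, b < q → IsZero (DCoh.HDMod (OEtRing X) E q)) (i : ℤ) (hi : b + N - 1 < i) :
    IsZero (HR F i E) := by
  obtain ⟨M, hMge, hM, ⟨eM⟩, ⟨e⟩⟩ := exists_rep F E a i
  refine IsZero.of_iso ?_ e
  rw [← HomologicalComplex.exactAt_iff_isZero_homology]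
  have hHD : ∀ n, DCoh.HDMod (OEtRing X) E n ≅ M.homology n := fun n =>
    (homologyFunctor (ModEt X) n).mapIso eM.symm ≪≫ (homologyFunctorFactors (ModEt X) n).app M
  exact RDerBound20.exactAt_map F M hM N b (fun n _ p hp => hF _ (isQuasicoherent_of_iso (hHD n) (hE n)) p hp)
    (fun n hn => (hb n hn).of_iso (hHD n).symm) a i (by omega)

theorem isQCohDMod_truncGE (E : DModEt X) (hE : DCoh.IsQCohDMod (OEtRing X) E) (n : ℤ) :
    DCoh.IsQCohDMod (OEtRing X) ((TStructure.t.truncGE n).obj E) :=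
  fun q => isQuasicoherent_HD_truncGE hE n q

omit [EnoughInjectives (ModEt X)] in
theorem isZero_truncGE (E : DModEt X) (b : ℤ) (hb : ∀ q : ℤ, b < q → IsZero (DCoh.HDMod (OEtRing X) E q))
    (n q : ℤ) (hq : b < q) : IsZero (DCoh.HDMod (OEtRing X) ((TStructure.t.truncGE n).obj E) q) := by
  rcases lt_or_ge q n with h | h
  · have : ((TStructure.t.truncGE n).obj E).IsGE n :=
      inferInstanceAs (TStructure.t.IsGE ((TStructure.t.truncGE n).obj E) n)
    exact DerivedCategory.isZero_of_isGE _ n q h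
  · have := DerTrunc.isIso_homology_truncGEπ E n q h
    exact (hb q hq).of_iso
      (asIso ((homologyFunctor (ModEt X) q).map ((TStructure.t.truncGEπ n).app E))).symm

variable [PreservesLimitsOfShape (Discrete ℕ) F]

include hF in
/-- The upper bound, without boundedness below. -/
theorem isZero_RK_above (E : DModEt X) (hE : DCoh.IsQCohDMod (OEtRing X) E) (b : ℤ)
    (hb : ∀ q : ℤ, b < q → IsZero (DCoh.HDMod (OEtRing X) E q)) (i : ℤ) (hi : b + N - 1 < i) :
    IsZero (HR F i E) := by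
  haveI := HoCat.derivedCategory_hasLimitsOfShape (A := ModEt X) ℕ
  haveI : HasLimitsOfShape (Discrete ℕ) (DerivedCategory AddCommGrpCat.{u + 1}) :=
    HoCat.derivedCategory_hasLimitsOfShape ℕ
  let K : ℕ → DModEt X := fun n => (TStructure.t.truncGE (-(n : ℤ))).obj E
  haveI : HasProduct K := inferInstance
  haveI : HasProduct fun n => (RK F).obj (K n) := inferInstance
  haveI : (RK F).IsTriangulated := GrothLib.SiteDer.isTriangulated_res_map F
  haveI : HasProductsOfShape ℕ AddCommGrpCat.{u + 1} := (inferInstance : HasLimitsOfShape (Discrete ℕ) AddCommGrpCat.{u + 1})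
  haveI := preservesEpimorphisms_limNat.{u}
  haveI : HasProductsOfShape ℕ (ModEt X) := inferInstance
  have hL := isRlimVia_trunc_qcoh (X := X) hE
  have hR := GrothLib.SiteDer.isRlimVia_map (RK F) hL (GrothLib.CohDer22.isIso_piComparison_RK F K)
  have hn : ∀ n : ℕ, ((TStructure.t.truncGE (-(n : ℤ))).obj E).IsGE (-(n : ℤ)) := SiteDer.isGE_truncTower E
  refine isZero_homology_rlim hR i (fun n => ?_) (fun n => ?_)
  · haveI := hn n
    exact isZero_RK_bounded F N hF _ (isQCohDMod_truncGE E hE _) (-(n : ℤ)) b (isZero_truncGE E b hb _) i hi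
  · obtain ⟨Z, g, c, hT, hZ, hz, ⟨e⟩⟩ := SiteDer.exists_cone_truncMap E n
    have hqc : DCoh.IsQCohDMod (OEtRing X) Z := fun q => by
      by_cases hq : q = -(n : ℤ) - 2
      · subst hq
        exact isQuasicoherent_of_iso e.symm (hE _)
      · exact isQuasicoherent_of_isZero (hz q hq)
    haveI := hZ
    refine (HomologySequence.exact₂ _ ((RK F).map_distinguished _ hT) (i - 1)).epi_f (IsZero.eq_of_tgt ?_ _ _)
    refine isZero_RK_bounded F N hF Z hqc (-(n : ℤ) - 2) (b - 1) (fun q hq => ?_) (i - 1) (by omega)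
    by_cases hq' : q = -(n : ℤ) - 2
    · subst hq'
      exact (hb _ (by omega)).of_iso e
    · exact hz q hq'

include hF in
/-- Truncations compute the derived functor in high degrees. -/
theorem isIso_RK_truncGE (E : DModEt X) (hE : DCoh.IsQCohDMod (OEtRing X) E) (b i : ℤ) (hi : b ≤ i) :
    IsIso ((homologyFunctor AddCommGrpCat.{u + 1} i).map
      ((RK F).map ((TStructure.t.truncGEπ (b - N + 1)).app E))) := by
  haveI : (RK F).IsTriangulated := GrothLib.SiteDer.isTriangulated_res_map F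
  let m : ℤ := b - N + 1
  let A := (TStructure.t.truncLT m).obj E
  haveI hAle : A.IsLE (m - 1) := inferInstanceAs (TStructure.t.IsLE ((TStructure.t.truncLT m).obj E) (m - 1))
  have hqA : DCoh.IsQCohDMod (OEtRing X) A := fun q => by
    rcases lt_or_ge q m with h | h
    · have := DerTrunc.isIso_homology_truncLTι E m q h
      exact isQuasicoherent_of_iso
        (asIso ((homologyFunctor (ModEt X) q).map ((TStructure.t.truncLTι m).app E))).symm (hE q)
    · exact isQuasicoherent_of_isZero (DerivedCategory.isZero_of_isLE A (m - 1) q (by omega))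
  have hA : ∀ j, b ≤ j → IsZero (HR F j A) := fun j hj =>
    isZero_RK_above F N hF A hqA (m - 1) (fun q hq => DerivedCategory.isZero_of_isLE A (m - 1) q hq) j (by omega)
  have hT := (RK F).map_distinguished _ (TStructure.t.triangleLTGE_distinguished m E)
  haveI : Mono ((homologyFunctor AddCommGrpCat.{u + 1} i).map ((RK F).map ((TStructure.t.truncGEπ m).app E))) :=
    (HomologySequence.exact₂ _ hT i).mono_g ((hA i hi).eq_of_src _ _)
  haveI : Epi ((homologyFunctor AddCommGrpCat.{u + 1} i).map ((RK F).map ((TStructure.t.truncGEπ m).app E))) :=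
    (HomologySequence.exact₃ _ hT i (i + 1) rfl).epi_f ((hA (i + 1) (by omega)).eq_of_tgt _ _)
  exact isIso_of_mono_of_epi _

end GrothLib.AlgSp.ModBound
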