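import Groth.Agent.Lib.AlgSp.ModCartan
import Groth.Agent.Lib.SiteDer.LocGen
import Groth.Agent.Lib.SiteDer.RlimTower
import Groth.Agent.Lib.ColimHom20.Main
import Groth.Agent.Lib.QCoh.ToSheaf

/-!
# The generators of modules on a large site

* `gen R U`: the sheafified free module on `U`, with `sec` and `isLocGen_gen`.
* `ext_vanish_gen`, `hom_single_eq_zero`: no higher maps into Čech acyclic modules.
-/

set_option autoImplicit false
set_option backward.isDefEq.respectTransparency false
universe w u

open CategoryTheory CategoryTheory.Limits CategoryTheory.Abelian Opposite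

noncomputable section

namespace GrothLib.AlgSp.ModGen

variable {C : Type (u + 1)} [Category.{u} C] {J : GrothendieckTopology C}
  [HasSheafify J AddCommGrpCat.{u + 1}] [J.WEqualsLocallyBijective AddCommGrpCat.{u + 1}]
  (R : Sheaf J RingCat.{u + 1})

/-- The free presheaves of modules on the representable ones. -/
def genP : C ⥤ PresheafOfModules.{u + 1} R.obj :=
  uliftYoneda.{u + 1} ⋙ PresheafOfModules.free R.obj

/-- The generators. -/
def gen : C ⥤ SheafOfModules.{u + 1} R :=
  genP R ⋙ PresheafOfModules.sheafification (𝟙 R.obj)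

variable {R}

/-- Maps out of the free presheaf on `U` are the sections over `U`. -/
def secP (G : PresheafOfModules.{u + 1} R.obj) (U : C) :
    ((genP R).obj U ⟶ G) ≃ G.presheaf.obj (op U) :=
  PresheafOfModules.freeHomEquiv.trans uliftYonedaEquiv

theorem secP_comp {G G' : PresheafOfModules.{u + 1} R.obj} (U : C) (φ : (genP R).obj U ⟶ G) (g : G ⟶ G') :
    secP G' U (φ ≫ g) = ((PresheafOfModules.toPresheaf R.obj).map g).app (op U) (secP G U φ) := rfl

theorem secP_map (G : PresheafOfModules.{u + 1} R.obj) {U V : C} (f : V ⟶ U) (φ : (genP R).obj U ⟶ G) :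
    secP G V ((genP R).map f ≫ φ) = G.presheaf.map f.op (secP G U φ) := by
  have h := (PresheafOfModules.freeAdjunction R.obj).homEquiv_naturality_left (uliftYoneda.{u + 1}.map f) φ
  simp only [PresheafOfModules.freeAdjunction_homEquiv] at h
  exact (congrArg uliftYonedaEquiv h).trans (uliftYonedaEquiv_naturality (PresheafOfModules.freeHomEquiv φ) f.op).symm

/-- Maps out of the generator at `U` are the sections over `U`. -/
def sec (M : SheafOfModules.{u + 1} R) (U : C) :
    ((gen R).obj U ⟶ M) ≃ ((SheafOfModules.toSheaf R).obj M).obj.obj (op U) :=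
  ((PresheafOfModules.sheafificationAdjunction (𝟙 R.obj)).homEquiv _ M).trans
    (secP ((SheafOfModules.forget R ⋙ PresheafOfModules.restrictScalars (𝟙 R.obj)).obj M) U)

theorem sec_comp {M N : SheafOfModules.{u + 1} R} (U : C) (φ : (gen R).obj U ⟶ M) (g : M ⟶ N) :
    sec N U (φ ≫ g) = ((SheafOfModules.toSheaf R).map g).hom.app (op U) (sec M U φ) := by
  have h := (PresheafOfModules.sheafificationAdjunction (𝟙 R.obj)).homEquiv_naturality_right
    (X := (genP R).obj U) φ g
  exact (congrArg (secP _ U) h).trans (secP_comp U _ _)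

theorem sec_map (M : SheafOfModules.{u + 1} R) {U V : C} (f : V ⟶ U) (φ : (gen R).obj U ⟶ M) :
    sec M V ((gen R).map f ≫ φ) = ((SheafOfModules.toSheaf R).obj M).obj.map f.op (sec M U φ) := by
  have h := (PresheafOfModules.sheafificationAdjunction (𝟙 R.obj)).homEquiv_naturality_left ((genP R).map f) φ
  exact (congrArg (secP _ V) h).trans (secP_map _ f _)

theorem sec_zero (M : SheafOfModules.{u + 1} R) (U : C) : sec M U 0 = 0 := by
  rw [← comp_zero (f := (0 : (gen R).obj U ⟶ M)) (Z := M), sec_comp, Functor.map_zero]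
  rfl

variable (R) in
theorem isLocGen_gen : SiteDer.IsLocGen J (gen R) where
  lift {M N} p _ U g := by
    let q := (SheafOfModules.toSheaf R).map p
    haveI : (SheafOfModules.toSheaf.{u + 1} R).PreservesEpimorphisms :=
      ⟨fun g _ => GrothLib.QCoh.toSheaf_map_epi g⟩
    have : Sheaf.IsLocallySurjective q :=
      (Sheaf.isLocallySurjective_iff_epi' AddCommGrpCat.{u + 1} q).2 inferInstance
    refine ⟨Presheaf.imageSieve q.hom (sec N U g), Presheaf.imageSieve_mem J q.hom _, fun V f hf => ?_⟩
    obtain ⟨t, ht⟩ := hf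
    refine ⟨(sec M V).symm t, (sec N V).injective ?_⟩
    rw [sec_comp, Equiv.apply_symm_apply, sec_map]
    exact ht
  sep {M U} g h := by
    obtain ⟨S, hS, hS'⟩ := h
    apply (sec M U).injective
    rw [sec_zero]
    refine Presheaf.IsSheaf.isSeparated ((SheafOfModules.toSheaf R).obj M).2 U S hS _ _ fun V f hf => ?_
    rw [map_zero, ← sec_map, hS' f hf, sec_zero]
  mono {M N} p h := by
    apply Functor.mono_of_mono_map (SheafOfModules.toSheaf R)
    have hm : ∀ U : Cᵒᵖ, Mono (((SheafOfModules.toSheaf R).map p).hom.app U) := fun U => by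
      rw [AddCommGrpCat.mono_iff_injective, injective_iff_map_eq_zero]
      intro x hx
      have h0 := h U.unop ((sec M U.unop).symm x) ((sec N U.unop).injective (by
        rw [sec_comp, Equiv.apply_symm_apply, sec_zero]; exact hx))
      rw [← (sec M U.unop).apply_symm_apply x, h0, sec_zero]
    have : Mono ((SheafOfModules.toSheaf R).map p).hom := NatTrans.mono_of_mono_app _
    exact (sheafToPresheaf J AddCommGrpCat.{u + 1}).mono_of_mono_map this
  epi {M N} p h := by
    haveI : (SheafOfModules.toSheaf.{u + 1} R).ReflectsEpimorphisms :=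
      CategoryTheory.Functor.reflectsEpimorphisms_of_faithful _
    apply Functor.epi_of_epi_map (SheafOfModules.toSheaf R)
    let q := (SheafOfModules.toSheaf R).map p
    refine (Sheaf.isLocallySurjective_iff_epi' AddCommGrpCat.{u + 1} q).1 ⟨fun {U} s => ?_⟩
    obtain ⟨S, hS, hS'⟩ := h U ((sec N U).symm s)
    refine J.superset_covering (fun V f hf => ?_) hS
    obtain ⟨t, ht⟩ := hS' f hf
    refine ⟨sec M V t, ?_⟩
    rw [← sec_comp, ht, sec_map, Equiv.apply_symm_apply]

variable [J.HasSheafCompose (forget AddCommGrpCat.{u + 1})] (K : FibPow.CoverClass.{u + 1} J) {Y : C}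
  (hB : K.B Y)

include hB

/-- Čech acyclic modules receive no higher extensions from the generator at a basic object. -/
theorem ext_vanish_gen [HasExt.{u + 1} (SheafOfModules.{u + 1} R)] :
    ∀ (q : ℕ) (N : SheafOfModules.{u + 1} R), K.Acyclic ((SheafOfModules.toSheaf R).obj N) →
      ∀ x : Ext ((gen R).obj Y) N (q + 1), x = 0 := by
  intro q
  induction q with
  | zero =>
    intro N hN x
    let S : ShortComplex (SheafOfModules.{u + 1} R) :=
      ShortComplex.mk (Injective.ι N) (cokernel.π _) (cokernel.condition _)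
    have hS : S.ShortExact := { exact := ShortComplex.exact_of_g_is_cokernel S (cokernelIsCokernel _) }
    obtain ⟨x₃, hx⟩ := Ext.covariant_sequence_exact₁ _ hS x (Ext.eq_zero_of_injective _) rfl
    obtain ⟨φ, rfl⟩ : ∃ φ, Ext.mk₀ φ = x₃ := ⟨_, Ext.mk₀_homEquiv₀_apply x₃⟩
    obtain ⟨r, hr⟩ := K.surjective (QCohEt.shortExact_toSheaf hS) hN hB (sec S.X₃ Y φ)
    have h : (sec S.X₂ Y).symm r ≫ S.g = φ := (sec S.X₃ Y).injective (by
      rw [sec_comp, Equiv.apply_symm_apply]; exact hr)
    rw [← hx, ← h, ← Ext.mk₀_comp_mk₀, Ext.comp_assoc_of_second_deg_zero, ShortComplex.ShortExact.comp_extClass,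
      Ext.comp_zero]
  | succ n ih =>
    intro N hN x
    let S : ShortComplex (SheafOfModules.{u + 1} R) :=
      ShortComplex.mk (Injective.ι N) (cokernel.π _) (cokernel.condition _)
    have hS : S.ShortExact := { exact := ShortComplex.exact_of_g_is_cokernel S (cokernelIsCokernel _) }
    obtain ⟨x₃, hx⟩ := Ext.covariant_sequence_exact₁ _ hS x (Ext.eq_zero_of_injective _) rfl
    have h₃ := K.acyclic_X₃ (QCohEt.shortExact_toSheaf hS) hN
      (QCohEt.acyclic_of_injective_mod K (Injective.under N))
    rw [← hx, ih S.X₃ h₃ x₃, Ext.zero_comp]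

/-- Maps between objects placed in different degrees. -/
theorem hom_single_eq_zero [HasDerivedCategory.{w} (SheafOfModules.{u + 1} R)] (N : SheafOfModules.{u + 1} R)
    (hN : K.Acyclic ((SheafOfModules.toSheaf R).obj N)) {k q : ℤ} (hkq : k ≠ q)
    (ψ : (DerivedCategory.singleFunctor (SheafOfModules.{u + 1} R) k).obj ((gen R).obj Y) ⟶
      (DerivedCategory.singleFunctor (SheafOfModules.{u + 1} R) q).obj N) : ψ = 0 := by
  rcases lt_or_gt_of_ne hkq with h | h
  · exact DerivedCategory.TStructure.t.zero_of_isLE_of_isGE ψ k q h inferInstance inferInstance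
  · haveI : HasExt.{u + 1} (SheafOfModules.{u + 1} R) := hasExt_of_enoughInjectives _
    obtain ⟨n, hn⟩ : ∃ n : ℕ, q + ((n + 1 : ℕ) : ℤ) = k := ⟨(k - q - 1).toNat, by omega⟩
    obtain ⟨x, rfl⟩ := (ColimHom20.extEquiv ((gen R).obj Y) (n + 1) q k hn N).surjective ψ
    obtain ⟨z, hz⟩ := (ColimHom20.extEquiv ((gen R).obj Y) (n + 1) q k hn N).surjective 0
    rw [ext_vanish_gen K hB n N hN x, ← hz, ext_vanish_gen K hB n N hN z]

end GrothLib.AlgSp.ModGen
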