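import Groth.Agent.Lib.AlgSp.QCohAbelian

/-!
# Extensions of good modules

* `exists_glue`, `surjective_app_of_extension`, `good_middle`.
-/

universe u

open CategoryTheory CategoryTheory.Limits Opposite TensorProduct
set_option backward.isDefEq.respectTransparency false

noncomputable section

namespace GrothLib.AlgSp.QCohEt

variable {C : Type (u + 1)} [Category.{u} C] {J : GrothendieckTopology C} {O : Sheaf J CommRingCat.{u + 1}}
  [HasSheafify J AddCommGrpCat.{u + 1}] [J.WEqualsLocallyBijective AddCommGrpCat.{u + 1}]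
  {M N : SheafOfModules.{u + 1} (RR O)}

variable (S : AffSite O)

/-- Sheaves on an affine cover glue along affine overlaps. -/
theorem exists_glue {E : C} (hE : S.Aff E) {n : Type u} {W : n → C} (w : ∀ k, W k ⟶ E)
    (hcov : Sieve.ofArrows W w ∈ J E) (y : ∀ k, Sec M (W k)) (Q : n × n → Over E)
    (r : ∀ kl, Q kl ⟶ Over.mk (w kl.1)) (r' : ∀ kl, Q kl ⟶ Over.mk (w kl.2))
    (hlQ : ∀ kl (Z : Over E) (a : Z ⟶ Over.mk (w kl.1)) (b : Z ⟶ Over.mk (w kl.2)),
      ∃ q : Z ⟶ Q kl, q ≫ r kl = a ∧ q ≫ r' kl = b)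
    (h : ∀ kl, mres M (r kl).left (y kl.1) = mres M (r' kl).left (y kl.2)) :
    ∃ s : Sec M E, ∀ k, mres M (w k) s = y k := by
  let F := M.val.presheaf ⋙ CategoryTheory.forget AddCommGrpCat.{u + 1}
  have hF : Presieve.IsSheafFor F (Presieve.ofArrows W w) := by
    have h := (isSheaf_iff_isSheaf_of_type _ _).1
      ((Presheaf.isSheaf_iff_isSheaf_forget J M.val.presheaf (CategoryTheory.forget AddCommGrpCat.{u + 1})).1
        M.isSheaf) _ hcov
    rwa [Sieve.ofArrows, ← Presieve.isSheafFor_iff_generate] at h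
  obtain ⟨s, hs, -⟩ := (Presieve.isSheafFor_arrows_iff _ _).1 hF y
    (fun k l Z a b hab => by
      obtain ⟨q, hq, hq'⟩ := hlQ (k, l) (Over.mk (a ≫ w k)) (Over.homMk a rfl) (Over.homMk b hab.symm)
      have e := congrArg CommaMorphism.left hq
      have e' := congrArg CommaMorphism.left hq'
      simp only [Over.comp_left, Over.homMk_left] at e e'
      show mres M a (y k) = mres M b (y l)
      rw [← e, ← e', mres_comp, mres_comp]
      exact congrArg (mres M q.left) (h (k, l)))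
  exact ⟨s, fun k => hs k⟩

/-- Vanishing of first cohomology on affine objects: sections lift along extensions by good modules. -/
theorem surjective_app_of_extension {T : ShortComplex (SheafOfModules.{u + 1} (RR O))} (hT : T.Exact) [Mono T.f]
    [Epi T.g] {E : C} (hE : S.Aff E) (h₁ : ∀ ⦃Z : C⦄, (Z ⟶ E) → S.Aff Z → Good T.X₁ S Z) :
    Function.Surjective (app T.g E) := by
  classical
  intro x
  obtain ⟨U, hU, hlift⟩ := exists_lift_of_epi T.g x
  obtain ⟨n, _, W, w, hw, hcov, hS⟩ := S.fam E hE U hU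
  haveI := fun k => (hw k).2.2
  haveI := Fintype.ofFinite n
  choose y hy using fun k => hlift (w k) (hw k).2.1
  let Wk : n → Over E := fun k => Over.mk (w k)
  choose Q r r' hQ hbQ hlQ using fun kl : n × n => S.ov (Wk kl.1) (Wk kl.2) hE (hw kl.1).1 (hw kl.2).1
  have hg0 : ∀ kl, app T.g (Q kl).left (mres T.X₂ (r kl).left (y kl.1) - mres T.X₂ (r' kl).left (y kl.2)) = 0 := by
    intro kl
    have hy' : ∀ k, app T.g (Wk k).left (y k) = mres T.X₃ (w k) x := hy
    rw [map_sub, app_mres, app_mres, hy' kl.1, hy' kl.2, sub_eq_zero]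
    exact ((mres_comp T.X₃ (w kl.1) (r kl).left x).symm.trans ((congrArg (fun f => mres T.X₃ f x)
      ((Over.w (r kl)).trans (Over.w (r' kl)).symm)).trans (mres_comp T.X₃ (w kl.2) (r' kl).left x)))
  choose d hd using fun kl => exact_app hT (Q kl).left _ (hg0 kl)
  let D : (∀ k, SecO T.X₁ (Wk k)) →ₗ[Ob O E] (∀ kl, SecO T.X₁ (Q kl)) := LinearMap.pi fun kl =>
    (mresA T.X₁ (r kl)).comp (LinearMap.proj kl.1) - (mresA T.X₁ (r' kl)).comp (LinearMap.proj kl.2)
  let dd : ∀ kl, SecO T.X₁ (Q kl) := fun kl => d kl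
  suffices hmem : dd ∈ LinearMap.range D by
    obtain ⟨c, hc⟩ := hmem
    obtain ⟨s, hs⟩ := exists_glue S hE w hcov (fun k => y k - app T.f (W k) (c k)) Q r r' hlQ (fun kl => by
      have e : mres T.X₁ (r kl).left (c kl.1) - mres T.X₁ (r' kl).left (c kl.2) = d kl := congrFun hc kl
      have e2 := hd kl
      rw [← e, map_sub, app_mres, app_mres] at e2
      rw [map_sub, map_sub]
      exact sub_eq_sub_iff_sub_eq_sub.1 e2.symm)
    refine ⟨s, sec_ext_fam T.X₃ w hcov fun k => ?_⟩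
    rw [← app_mres, hs, map_sub, hy]
    show _ - app T.g (W k) (app T.f (W k) (c k)) = _
    rw [show app T.g (W k) (app T.f (W k) (c k)) = 0 from congrArg (fun ψ => app ψ (W k) (c k)) T.zero, sub_zero]
  rw [← Submodule.Quotient.mk_eq_zero]
  refine eq_zero_of_forall (fun k => Ov O (Wk k)) hS _ fun j => ?_
  show (LinearMap.range D).mkQ.lTensor (Ov O (Wk j)) ((1 : Ov O (Wk j)) ⊗ₜ dd) = 0
  choose z hz using fun k => (bijective_phi T.X₁ S (r (j, k)) (r' (j, k))
    (h₁ (w k) (hw k).1) (hQ (j, k)) (hbQ (j, k))).2 (-(show SecO T.X₁ (Q (j, k)) from d (j, k)))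
  suffices e : D.lTensor (Ov O (Wk j))
      ((TensorProduct.piRight (Ob O E) (Ob O E) (Ov O (Wk j)) fun k => SecO T.X₁ (Wk k)).symm z) =
      (1 : Ov O (Wk j)) ⊗ₜ dd by
    rw [← e, ← LinearMap.comp_apply, ← LinearMap.lTensor_comp, LinearMap.range_mkQ_comp, LinearMap.lTensor_zero,
      LinearMap.zero_apply]
  apply (TensorProduct.piRight (Ob O E) (Ob O E) (Ov O (Wk j)) (fun kl => SecO T.X₁ (Q kl))).injective
  funext kl
  let yy := (TensorProduct.piRight (Ob O E) (Ob O E) (Ov O (Wk j)) fun k => SecO T.X₁ (Wk k)).symm z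
  let πk := fun k => (LinearMap.proj k : (∀ k, SecO T.X₁ (Wk k)) →ₗ[Ob O E] SecO T.X₁ (Wk k))
  have hpiR : ∀ (k : n) (t : Ov O (Wk j) ⊗[Ob O E] (∀ k, SecO T.X₁ (Wk k))), (πk k).lTensor _ t =
      TensorProduct.piRight (Ob O E) (Ob O E) (Ov O (Wk j)) (fun k => SecO T.X₁ (Wk k)) t k := by
    intro k t
    induction t using TensorProduct.induction_on with
    | zero => simp
    | add a b ha hb => simp only [map_add, Pi.add_apply, ha, hb]
    | tmul b m => simp [πk]
  have hyy : ∀ k, (πk k).lTensor _ yy = z k := fun k => (hpiR k yy).trans (congrFun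
    ((TensorProduct.piRight (Ob O E) (Ob O E) (Ov O (Wk j)) fun k => SecO T.X₁ (Wk k)).apply_symm_apply z) k)
  have h1 : ∀ t, TensorProduct.piRight (Ob O E) (Ob O E) (Ov O (Wk j)) (fun kl => SecO T.X₁ (Q kl))
      (D.lTensor _ t) kl = (mresA T.X₁ (r kl)).lTensor _ ((πk kl.1).lTensor _ t) -
        (mresA T.X₁ (r' kl)).lTensor _ ((πk kl.2).lTensor _ t) := by
    intro t
    induction t using TensorProduct.induction_on with
    | zero => simp
    | add a b ha hb => simp only [map_add, Pi.add_apply, ha, hb]; abel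
    | tmul b m => simp [D, πk, TensorProduct.tmul_sub]
  rw [h1, hyy, hyy, TensorProduct.piRight_apply, TensorProduct.piRightHom_tmul]
  obtain ⟨P, p, p', hP, hbij, -⟩ := S.ov (Wk j) (Q kl) hE (hw j).1 (hQ kl)
  obtain ⟨q₁, hq₁, hq₁'⟩ := hlQ (j, kl.1) P p (p' ≫ r kl)
  obtain ⟨q₂, hq₂, hq₂'⟩ := hlQ (j, kl.2) P p (p' ≫ r' kl)
  apply (bijective_phi T.X₁ S p p' (h₁ (Q kl).hom (hQ kl)) hP hbij).1
  rw [map_sub, phi_nat T.X₁ (r (j, kl.1)) (r' (j, kl.1)) p p' (r kl) q₁ hq₁ hq₁',
    phi_nat T.X₁ (r (j, kl.2)) (r' (j, kl.2)) p p' (r' kl) q₂ hq₂ hq₂', hz, hz, phi_tmul, map_one, one_smul]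
  apply app_injective T.f P.left
  show app T.f P.left (mres T.X₁ q₁.left (-d (j, kl.1)) - mres T.X₁ q₂.left (-d (j, kl.2))) =
    app T.f P.left (mres T.X₁ p'.left (d kl))
  simp only [map_sub, map_neg, app_mres, hd, ← mres_comp]
  have e₁ := congrArg CommaMorphism.left hq₁
  have e₁' := congrArg CommaMorphism.left hq₁'
  have e₂ := congrArg CommaMorphism.left hq₂
  have e₂' := congrArg CommaMorphism.left hq₂'
  simp only [Over.comp_left] at e₁ e₁' e₂ e₂'
  rw [e₁, e₁', e₂, e₂']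
  abel

/-- Extensions of good modules are good. -/
theorem good_middle {T : ShortComplex (SheafOfModules.{u + 1} (RR O))} (hT : T.Exact) [Mono T.f] [Epi T.g] {E : C}
    (hE : S.Aff E) (h₁ : ∀ ⦃Z : C⦄, (Z ⟶ E) → S.Aff Z → Good T.X₁ S Z) (h₃ : Good T.X₃ S E) : Good T.X₂ S E := by
  intro V hV
  haveI : Module.Flat (Ob O E) (Ov O V) := S.flat V.hom hE hV
  have hgf : ∀ (W : C) (k : Sec T.X₁ W), app T.g W (app T.f W k) = 0 := fun W k =>
    congrArg (fun ψ => app ψ W k) T.zero
  have hex : Function.Exact (app T.f E) (app T.g E) := fun x =>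
    ⟨fun hx => exact_app hT E x hx, by rintro ⟨k, rfl⟩; exact hgf E k⟩
  have hsurj := surjective_app_of_extension S hT hE h₁
  have hid : Good T.X₁ S E := h₁ (𝟙 E) hE
  have key : ∀ {A B : SheafOfModules.{u + 1} (RR O)} (φ : A ⟶ B) c,
      app φ V.left (theta (LinearMap.id : Sec A E →ₗ[Ob O E] Sec A E) V c) =
        theta (LinearMap.id : Sec B E →ₗ[Ob O E] Sec B E) V ((app φ E).lTensor (Ov O V) c) := fun φ c =>
    (app_theta φ LinearMap.id V c).trans (by rw [← theta_comp, LinearMap.comp_id, LinearMap.id_comp])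
  constructor
  · rw [injective_iff_map_eq_zero]
    intro c hc
    have h0 : (app T.g E).lTensor (Ov O V) c = 0 := (h₃ V hV).1 (by rw [← key, hc, map_zero, map_zero])
    obtain ⟨d, rfl⟩ := (Module.Flat.lTensor_exact (Ov O V) hex c).1 h0
    have : theta (LinearMap.id : Sec T.X₁ E →ₗ[Ob O E] Sec T.X₁ E) V d = 0 :=
      app_injective T.f V.left (((key T.f d).trans hc).trans (map_zero _).symm)
    rw [(hid V hV).1 (this.trans (map_zero _).symm), map_zero]
  · intro x
    obtain ⟨c₃, hc₃⟩ := (h₃ V hV).2 (app T.g V.left x)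
    obtain ⟨c, rfl⟩ := LinearMap.lTensor_surjective (Ov O V) hsurj c₃
    rw [← key] at hc₃
    obtain ⟨k, hk⟩ := exact_app hT V.left (x - theta LinearMap.id V c) (by rw [map_sub, hc₃, sub_self])
    obtain ⟨d, hd⟩ := (hid V hV).2 k
    refine ⟨c + (app T.f E).lTensor (Ov O V) d, ?_⟩
    rw [map_add, ← key, hd, hk]
    abel

end GrothLib.AlgSp.QCohEt
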