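import Groth.Agent.Lib.AlgSp.ModDerived
import Groth.Agent.Lib.AlgSp.QCohExt
import Groth.Agent.Lib.AlgSp.QCohEtRes
import Groth.Agent.Lib.AlgSp.AffineMor
import Groth.Agent.Lib.DerCat.CohIn
import Groth.Agent.Lib.KInj.Derived
import Groth.Agent.Lib.SiteDer.RlimMap
import Groth.Prelude.Def_WeakSerre

/-!
# Direct images along affine morphisms detect quasi-coherent cohomology

* `isWeakSerre_qcoh`, `isZero_of_isZero_push`, `isIso_of_isIso_push`.
-/

set_option autoImplicit false
set_option backward.isDefEq.respectTransparency false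
set_option maxHeartbeats 800000
universe u

open CategoryTheory CategoryTheory.Limits AlgebraicGeometry Opposite Pretriangulated DerivedCategory
open GrothLib.SiteDer (theta ofChain)

attribute [local instance] HasDerivedCategory.standard

noncomputable section

namespace GrothLib.AlgSp.ModReflect

open _root_.AlgSp
open GrothLib.AlgSp.QCohEt GrothLib.AlgSp.ModDer

variable {S : Scheme.{u}}

instance isWeakSerre_qcoh (X : Sp S) : WSerre.IsWeakSerre (SheafOfModules.isQuasicoherent (OEtRing X)) where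
  exists_zero := ⟨_, isZero_zero (ModEt X), isQuasicoherent_of_isZero (isZero_zero (ModEt X))⟩
  kernels_le := by
    rintro _ ⟨f, k, hk, hX, hY⟩
    haveI := Fork.IsLimit.mono hk
    haveI : Mono k.ι := this
    refine isQuasicoherent_of_good _ fun E hE => ?_
    let T : ShortComplex (ModEt X) := ShortComplex.mk k.ι f k.condition
    haveI : Mono T.f := this
    exact good_left (O := OEt X) (affEt X) (T := T) (ShortComplex.exact_of_f_is_kernel T
      (IsLimit.ofIsoLimit hk (Fork.ext (Iso.refl _) (by simp [T])))) hE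
      (haveI : (T.X₂).IsQuasicoherent := hX; good_of_isQuasicoherent _ hE)
      (haveI : (T.X₃).IsQuasicoherent := hY; good_of_isQuasicoherent _ hE)
  cokernels_le := by
    rintro _ ⟨f, k, hk, hX, hY⟩
    haveI := Cofork.IsColimit.epi hk
    haveI : Epi k.π := this
    refine isQuasicoherent_of_good _ fun E hE => ?_
    let T : ShortComplex (ModEt X) := ShortComplex.mk f k.π k.condition
    haveI : Epi T.g := this
    exact good_right (O := OEt X) (affEt X) (T := T) (ShortComplex.exact_of_g_is_cokernel T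
      (IsColimit.ofIsoColimit hk (Cofork.ext (Iso.refl _) (by simp [T])))) hE
      (haveI : (T.X₁).IsQuasicoherent := hX; good_of_isQuasicoherent _ hE)
      (haveI : (T.X₂).IsQuasicoherent := hY; good_of_isQuasicoherent _ hE)
  prop_X₂_of_shortExact {T} hT h₁ h₃ := by
    haveI := hT.mono_f
    haveI := hT.epi_g
    refine isQuasicoherent_of_good _ fun E hE => ?_
    exact good_middle (O := OEt X) (affEt X) (T := T) hT.exact hE
      (fun Z _ hZ => haveI : (T.X₁).IsQuasicoherent := h₁; good_of_isQuasicoherent _ hZ)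
      (haveI : (T.X₃).IsQuasicoherent := h₃; good_of_isQuasicoherent _ hE)

variable {X Y : Sp S} {f : X ⟶ Y} (hf : Representable f)

/-- The derived direct image by K-injective resolutions. -/
abbrev Rpush : DModEt X ⥤ DModEt Y :=
  GrothLib.KInj.res (ModEt X) ⋙ (pushModEt hf).mapHomotopyCategory (ComplexShape.up ℤ) ⋙ DerivedCategory.Qh

set_option maxHeartbeats 3200000 in
/-- Sections of the cohomology over base changes of affine objects vanish when the direct image does. -/
theorem section_eq_zero (L : DModEt X) (hL : DCoh.IsQCohDMod (OEtRing X) L)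
    (h0 : ∀ j : ℤ, IsZero (DCoh.HDMod (OEtRing Y) ((Rpush hf).obj L) j)) {E : EtOver Y}
    (hU : IsAffine (EtOver.bcObj hf E).obj.left.left) (j : ℤ)
    (s : Sec (O := OEt X) (DCoh.HDMod (OEtRing X) L j) (EtOver.bcObj hf E)) : s = 0 := by
  let Hj := DCoh.HDMod (OEtRing X) L j
  let U := EtOver.bcObj hf E
  let I : CochainComplex (ModEt X) ℤ := ((GrothLib.KInj.res (ModEt X)).obj L).as
  let e : DerivedCategory.Q.obj I ≅ L := ((DerivedCategory.quotientCompQhIso (ModEt X)).app I).symm ≪≫
    (asIso (GrothLib.KInj.resAdj (ModEt X)).counit).app L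
  let F := pushModEt hf
  let FI := (F.mapHomologicalComplex (ComplexShape.up ℤ)).obj I
  have hFI : ∀ i, IsZero (FI.homology i) := fun i =>
    IsZero.of_iso (h0 i) (((DerivedCategory.homologyFunctorFactors (ModEt Y) i).app FI).symm ≪≫
      (DerivedCategory.homologyFunctor (ModEt Y) i).mapIso
        (((DerivedCategory.quotientCompQhIso (ModEt Y)).app FI).symm ≪≫
          DerivedCategory.Qh.mapIso ((F.mapHomotopyCategoryFactors (ComplexShape.up ℤ)).app I).symm))
  -- represent the section by a cycle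
  obtain ⟨φ, hφ⟩ := (theta_bijective hU hL j).2 ((ModGen.sec Hj U).symm s)
  simp only at hφ
  obtain ⟨ψ, hψ⟩ : ∃ ψ : (HomologicalComplex.single (ModEt X) (ComplexShape.up ℤ) j).obj ((G X).obj U) ⟶ I,
      ofChain ψ ≫ e.hom = φ := by
    let Z := (HomologicalComplex.single (ModEt X) (ComplexShape.up ℤ) j).obj ((G X).obj U)
    let κ := DerivedCategory.quotientCompQhIso (ModEt X)
    obtain ⟨ψ, hψ⟩ := (HomotopyCategory.quotient (ModEt X) (ComplexShape.up ℤ)).map_surjective
      ((GrothLib.KInj.resAdj (ModEt X)).homEquiv ((HomotopyCategory.quotient _ _).obj Z) L (κ.hom.app Z ≫ φ))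
    refine ⟨ψ, ?_⟩
    have h1 := ((GrothLib.KInj.resAdj (ModEt X)).homEquiv_counit _ _
      ((HomotopyCategory.quotient (ModEt X) (ComplexShape.up ℤ)).map ψ)).symm.trans
      (show _ = κ.hom.app Z ≫ φ by rw [hψ, Equiv.symm_apply_apply])
    rw [← cancel_epi (κ.hom.app Z), ← h1]
    show κ.hom.app Z ≫ DerivedCategory.Q.map ψ ≫ κ.inv.app I ≫
      (GrothLib.KInj.resAdj (ModEt X)).counit.app L = _
    erw [← Category.assoc (κ.hom.app Z), ← κ.hom.naturality ψ, Category.assoc, κ.hom_inv_id_app_assoc]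
    rfl
  let z : (G X).obj U ⟶ I.cycles j := I.liftCycles
    ((HomologicalComplex.singleObjXSelf (ComplexShape.up ℤ) j ((G X).obj U)).inv ≫ ψ.f j) (j + 1)
    (by simp) (by rw [Category.assoc, ψ.comm j (j + 1)]; simp)
  let c : I.cycles j ⟶ Hj := I.homologyπ j ≫ (homologyFunctorFactors (ModEt X) j).inv.app I ≫
    (homologyFunctor (ModEt X) j).map e.hom
  have hc : z ≫ c = (ModGen.sec Hj U).symm s := by
    rw [← hφ, ← hψ, SiteDer.theta_comp, SiteDer.theta_ofChain ψ z (by simp [z])]
    simp only [c, Category.assoc]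
  let zi : Sec (O := OEt X) (I.X j) U := ModGen.sec (I.X j) U (z ≫ I.iCycles j)
  have hzi : app (O := OEt Y) (FI.d j (j + 1)) E zi = 0 := by
    show app (O := OEt X) (I.d j (j + 1)) U zi = 0
    refine (ModGen.sec_comp U (z ≫ I.iCycles j) (I.d j (j + 1))).symm.trans ?_
    rw [Category.assoc, I.iCycles_d, comp_zero]
    exact ModGen.sec_zero _ _
  -- locally a boundary
  let T : ShortComplex (ModEt Y) := ShortComplex.mk (FI.d (j - 1) j) (FI.d j (j + 1)) (FI.d_comp_d _ _ _)
  have hT : T.Exact := (FI.exactAt_iff' (j - 1) j (j + 1) (by simp) (by simp)).1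
    ((FI.exactAt_iff_isZero_homology j).2 (hFI j))
  haveI : Epi (kernel.lift T.g T.f T.zero) := T.exact_iff_epi_kernel_lift.1 hT
  obtain ⟨k, hk⟩ := exact_kernel (O := OEt Y) T.g E zi hzi
  obtain ⟨R, hR, hR'⟩ := exists_lift_of_epi (O := OEt Y) (kernel.lift T.g T.f T.zero) k
  have goal : (show Sec (O := OEt Y) ((pushModEt hf).obj Hj) E from s) = 0 := by
    refine sec_ext (O := OEt Y) _ hR fun V v hv => ?_
    rw [map_zero]
    obtain ⟨y, hy⟩ := hR' v hv
    have hy' : app (O := OEt Y) T.f V y = mres (O := OEt Y) T.X₂ v zi := by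
      rw [← hk, ← app_mres, ← hy, ← app_comp, kernel.lift_ι]
    let U' := EtOver.bcObj hf V
    let v' : U' ⟶ U := EtOver.bcMap hf v
    show mres (O := OEt X) Hj v' s = 0
    have h1 : (G X).map v' ≫ z = (ModGen.sec (I.X (j - 1)) U').symm y ≫ I.toCycles (j - 1) j := by
      rw [← cancel_mono (I.iCycles j), Category.assoc, Category.assoc, I.toCycles_i]
      refine (ModGen.sec (I.X j) U').injective ((ModGen.sec_map (I.X j) v' (z ≫ I.iCycles j)).trans
        (hy'.symm.trans (Eq.trans ?_ (ModGen.sec_comp U' ((ModGen.sec (I.X (j - 1)) U').symm y) (I.d (j - 1) j)).symm)))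
      rw [Equiv.apply_symm_apply]
      rfl
    have h2 : (G X).map v' ≫ (ModGen.sec Hj U).symm s = 0 := by
      rw [← hc, ← Category.assoc, h1, Category.assoc]
      simp [c]
    have h3 := congrArg (ModGen.sec Hj U') h2
    rw [ModGen.sec_map, Equiv.apply_symm_apply, ModGen.sec_zero] at h3
    exact h3
  exact goal

variable {X Y : Space S} {f : X ⟶ Y} (hf : Representable f.hom) (hfa : IsAffineMor f.hom)

include hfa in
theorem isZero_of_isZero_push (L : DModEt X.obj) (hL : DCoh.IsQCohDMod (OEtRing X.obj) L)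
    (h0 : ∀ j : ℤ, IsZero (DCoh.HDMod (OEtRing Y.obj) ((Rpush hf).obj L) j)) (j : ℤ) :
    IsZero (DCoh.HDMod (OEtRing X.obj) L j) := by
  let M := DCoh.HDMod (OEtRing X.obj) L j
  have haff : ∀ E : EtOver Y.obj, IsAffine E.obj.left.left → IsAffine (EtOver.bcObj hf E).obj.left.left := by
    intro E hE
    haveI := hE
    haveI : IsAffineHom (EtOver.bcπ hf E).left :=
      (GrothLib.AlgSp.isAffineMor_iff.1 hfa).2 _ _ _ (EtOver.isPullback_bcObj hf E)
    exact isAffine_of_isAffineHom (EtOver.bcπ hf E).left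
  have hz : ∀ (E : EtOver Y.obj), IsAffine E.obj.left.left → ∀ (W : EtOver X.obj) (t : W ⟶ EtOver.bcObj hf E),
      IsAffine W.obj.left.left → ∀ x : Sec (O := OEt X.obj) M W, x = 0 := by
    intro E hE W t hW x
    haveI : M.IsQuasicoherent := hL j
    obtain ⟨c, rfl⟩ := (good_of_isQuasicoherent M (haff E hE) (Over.mk t) hW).2 x
    induction c using TensorProduct.induction_on with
    | zero => exact map_zero _
    | add a b ha hb => rw [map_add, ha, hb, add_zero]
    | tmul r m => rw [theta_tmul, LinearMap.id_apply, section_eq_zero hf L hL h0 (haff E hE) j m, map_zero, smul_zero]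
  obtain ⟨U₀, a, ha, hs⟩ := Y.property.atlas
  let E₀ : EtOver Y.obj := EtOver.mk a ha
  let B := EtOver.bcObj hf E₀
  have hB : RepWith @Surjective B.obj.hom :=
    GrothLib.AlgSp.repWith_of_isPullback (EtOver.isPullback_bcObj hf E₀).flip hs
  let aB := B.obj.hom
  let haB : RepWith @Etale aB := B.property
  let he : IsEtaleMor aB := fun _ _ h => GrothLib.AlgSp.repWith_comp h haB
  choose O hO hxO _ using fun b : ↥U₀.left => exists_isAffineOpen_mem_and_subset (x := b)
    (U := (⊤ : U₀.left.Opens)) trivial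
  have hcovB : Sieve.ofArrows (fun b => EtOver.bcObj hf (opensObj E₀ (O b)))
      (fun b => EtOver.bcMap hf (opensInc E₀ (O b))) ∈ etTop X.obj B := by
    refine Precoverage.generate_mem_toGrothendieck ?_
    have h : Presieve.ofArrows (fun b => opensObj E₀ (O b)) (fun b => opensInc E₀ (O b)) ∈ etPre Y.obj E₀ :=
      (ofArrows_mem_etPre_iff _ _).2 fun x => ⟨x, ⟨x, hxO x⟩, rfl⟩
    have h' := EtOver.etPre_le_comap_bc hf _ h
    rw [Precoverage.mem_comap_iff, Presieve.map_ofArrows] at h'
    exact h'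
  refine (IsZero.iff_id_eq_zero _).2 ?_
  ext1
  refine PresheafOfModules.hom_ext fun V => ?_
  ext x
  show x = (0 : Sec (O := OEt X.obj) M V.unop)
  let P := EtOver.bcObj haB.1 V.unop
  haveI hπ : Surjective (EtOver.bcπ haB.1 V.unop).left := hB.2 _ _ _ (EtOver.isPullback_bcObj haB.1 V.unop)
  let p : (EtOver.postcomp aB he).obj P ⟶ V.unop := (postAdj haB.1 he).counit.app V.unop
  have hp : Sieve.ofArrows (fun _ : PUnit.{u + 1} => (EtOver.postcomp aB he).obj P) (fun _ => p) ∈
      etTop X.obj V.unop :=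
    ofArrows_mem_etTop _ _ fun y => by
      obtain ⟨b, hb⟩ := hπ.surj y
      exact ⟨PUnit.unit, b, hb⟩
  refine sec_ext_fam (O := OEt X.obj) M (n := PUnit.{u + 1}) (fun _ => p) hp fun _ => ?_
  rw [map_zero]
  let k : (EtOver.postcomp aB he).obj P ⟶ B := EtOver.homMk ((yon S).preimage P.obj.hom) (by rw [Functor.map_preimage]; rfl)
  refine sec_ext (O := OEt X.obj) M ((etTop X.obj).pullback_stable k hcovB) fun Z g hg => ?_
  rw [map_zero]
  obtain ⟨_, d, _, ⟨b⟩, -⟩ := hg
  obtain ⟨T, hT, hT'⟩ := affCovers_affEt (X := X.obj) Z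
  refine sec_ext (O := OEt X.obj) M hT fun Z' g' hg' => ?_
  obtain ⟨W, a', b', hW, rfl⟩ := hT' g' hg'
  rw [map_zero, mres_comp]
  refine (congrArg (mres (O := OEt X.obj) M a') ?_).trans (map_zero _)
  exact hz (opensObj E₀ (O b)) (hO b) W (b' ≫ d) hW _

include hfa in
/-- Direct images along affine morphisms reflect isomorphisms on quasi-coherent cohomology. -/
theorem isIso_of_isIso_push {E F : DModEt X.obj} (hE : DCoh.IsQCohDMod (OEtRing X.obj) E)
    (hF : DCoh.IsQCohDMod (OEtRing X.obj) F) (α : E ⟶ F) (hα : IsIso ((Rpush hf).map α)) : IsIso α := by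
  haveI : (Rpush hf).IsTriangulated := GrothLib.SiteDer.isTriangulated_res_map (pushModEt hf)
  obtain ⟨Z, g, h, hT⟩ := distinguished_cocone_triangle α
  have hZ : DCoh.IsQCohDMod (OEtRing X.obj) Z := fun q =>
    GrothLib.DerTrunc.cohIn_obj₂ (SheafOfModules.isQuasicoherent (OEtRing X.obj)) (rot_of_distTriang _ hT) hF
      (GrothLib.DerTrunc.cohIn_shift (SheafOfModules.isQuasicoherent (OEtRing X.obj)) hE 1) q
  have h0 : IsZero ((Rpush hf).obj Z) :=
    Triangle.isZero₃_of_isIso₁ _ ((Rpush hf).map_distinguished _ hT) hα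
  have hH : ∀ j, IsZero (DCoh.HDMod (OEtRing X.obj) Z j) := fun j =>
    isZero_of_isZero_push hf hfa Z hZ (fun i => (DerivedCategory.homologyFunctor (ModEt Y.obj) i).map_isZero h0) j
  have hz : IsZero Z := by
    refine (IsZero.iff_id_eq_zero Z).2 ?_
    haveI : IsIso (0 : Z ⟶ Z) := by
      rw [DerivedCategory.isIso_iff]
      exact fun j => ⟨0, (hH j).eq_of_src _ _, (hH j).eq_of_src _ _⟩
    exact ((isIsoZeroEquiv Z Z) inferInstance).1
  exact (Triangle.isZero₃_iff_isIso₁ _ hT).1 hz

end GrothLib.AlgSp.ModReflect
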