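import Groth.Agent.Lib.AlgSp.ModDerived
import Mathlib.CategoryTheory.Functor.OfSequence

/-!
# Derived limits of towers with surjective transition maps on quasi-coherent cohomology

* `isIso_homologyLift`: the cohomology of the derived limit is the limit of the cohomology.
* `isRlim_limit`: derived limits of epimorphic towers of quasi-coherent modules.
-/

set_option autoImplicit false
set_option backward.isDefEq.respectTransparency false
set_option maxHeartbeats 800000
universe u

open CategoryTheory CategoryTheory.Limits AlgebraicGeometry Opposite Pretriangulated DerivedCategory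
open GrothLib.SiteDer (theta)

attribute [local instance] HasDerivedCategory.standard

noncomputable section

namespace GrothLib.AlgSp.ModDer

open _root_.AlgSp
open GrothLib.AlgSp.QCohEt

variable {S : Scheme.{u}} {X : Sp S}

/-- A family with successive compatibilities is a cone on the sequence. -/
abbrev seqCone {F : ℕ → ModEt X} (t : ∀ n, F (n + 1) ⟶ F n) {N : ModEt X} (m : ∀ n, N ⟶ F n)
    (hm : ∀ n, m (n + 1) ≫ t n = m n) : Cone (Functor.ofOpSequence t) where
  pt := N
  π := NatTrans.ofOpSequence m (fun n => by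
    rw [Functor.ofOpSequence_map_homOfLE_succ]
    exact (Category.id_comp _).trans (hm n).symm)

theorem limit_π_comp {F : ℕ → ModEt X} (t : ∀ n, F (n + 1) ⟶ F n) (n : ℕ) :
    limit.π (Functor.ofOpSequence t) (op (n + 1)) ≫ t n = limit.π (Functor.ofOpSequence t) (op n) := by
  have := limit.w (Functor.ofOpSequence t) (homOfLE (Nat.le_succ n)).op
  rw [Functor.ofOpSequence_map_homOfLE_succ] at this
  exact this

variable {K : ℕ → DModEt X} (t : ∀ n, K (n + 1) ⟶ K n)
  (hK : ∀ n, DCoh.IsQCohDMod (OEtRing X) (K n))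
  (ht : ∀ (q : ℤ) (n : ℕ), Epi ((homologyFunctor (ModEt X) q).map (t n)))
  {U : EtOver X} (hU : IsAffine U.obj.left.left)

include hK ht hU in
theorem surjective_comp_tower (j : ℤ) (n : ℕ) :
    Function.Surjective (fun φ : (singleFunctor (ModEt X) j).obj ((G X).obj U) ⟶ K (n + 1) => φ ≫ t n) := by
  intro φ
  haveI : Epi ((homologyFunctor (ModEt X) j).map (t n)) := ht j n
  haveI := hK (n + 1) j
  haveI := hK n j
  obtain ⟨r, hr⟩ := surjective_app_affine (M := DCoh.HDMod (OEtRing X) (K (n + 1)) j)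
    (N := DCoh.HDMod (OEtRing X) (K n) j) ((homologyFunctor (ModEt X) j).map (t n)) hU
    (ModGen.sec (DCoh.HDMod (OEtRing X) (K n) j) U (theta φ))
  obtain ⟨ψ, hψ⟩ := (theta_bijective hU (hK (n + 1)) j).2
    ((ModGen.sec (DCoh.HDMod (OEtRing X) (K (n + 1)) j) U).symm r)
  refine ⟨ψ, (theta_bijective hU (hK n) j).1 ((ModGen.sec (DCoh.HDMod (OEtRing X) (K n) j) U).injective ?_)⟩
  simp only at hψ ⊢
  rw [SiteDer.theta_comp, hψ]
  refine (ModGen.sec_comp _ _ _).trans ?_
  rw [Equiv.apply_symm_apply]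
  exact hr

variable [HasProduct K]

/-- `1 - shift`. -/
def diff : (∏ᶜ K) ⟶ ∏ᶜ K := Pi.lift fun n : ℕ => Pi.π K n - Pi.π K (n + 1) ≫ t n

variable {L : DModEt X} {a : L ⟶ ∏ᶜ K} {c : (∏ᶜ K) ⟶ L⟦(1 : ℤ)⟧}
  (hT : Triangle.mk a (diff t) c ∈ distTriang _)

include hK ht hU hT in
theorem comp_injective (j : ℤ) (x : (singleFunctor (ModEt X) j).obj ((G X).obj U) ⟶ L) (hx : x ≫ a = 0) : x = 0 := by
  have hx' : x⟦(1 : ℤ)⟧' ≫ (Triangle.mk a (diff t) c).mor₁⟦(1 : ℤ)⟧' = 0 := by
    show x⟦(1 : ℤ)⟧' ≫ a⟦(1 : ℤ)⟧' = 0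
    rw [← Functor.map_comp, hx, Functor.map_zero]
  obtain ⟨y, hy⟩ := Triangle.coyoneda_exact₁ _ hT _ hx'
  let i := SiteDer.singleShiftOne ((G X).obj U) j
  obtain ⟨z, hz⟩ := SiteDer.exists_telescope _ 0 K t (fun m _ => surjective_comp_tower t hK ht hU (j - 1) m)
    (fun m => i.inv ≫ y ≫ Pi.π K m)
  have hzy : Pi.lift z ≫ diff t = i.inv ≫ y := Pi.hom_ext _ _ fun m => by
    simp only [diff, Category.assoc, Pi.lift_π, Preadditive.comp_sub, Pi.lift_π_assoc]
    exact hz m
  have h0 : diff t ≫ c = 0 := comp_distTriang_mor_zero₂₃ _ hT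
  apply (shiftFunctor (DModEt X) (1 : ℤ)).map_injective
  rw [Functor.map_zero, hy, ← cancel_epi i.inv, comp_zero]
  show i.inv ≫ y ≫ c = 0
  rw [← Category.assoc, ← hzy, Category.assoc, h0, comp_zero]

include hT in
theorem comp_w (n : ℕ) : (a ≫ Pi.π K (n + 1)) ≫ t n = a ≫ Pi.π K n := by
  have h : a ≫ diff t = 0 := comp_distTriang_mor_zero₁₂ _ hT
  have h' := congrArg (fun φ => φ ≫ Pi.π K n) h
  simp only [diff, Category.assoc, Pi.lift_π, Preadditive.comp_sub, zero_comp, sub_eq_zero] at h'
  rw [Category.assoc]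
  exact h'.symm

omit [HasProduct K] in
/-- The tower of the cohomology in one degree. -/
abbrev homTower (q : ℤ) : ℕᵒᵖ ⥤ ModEt X :=
  Functor.ofOpSequence (X := fun n => (homologyFunctor (ModEt X) q).obj (K n))
    fun n => (homologyFunctor (ModEt X) q).map (t n)

/-- The comparison with the limit of the cohomology. -/
def homologyLift (q : ℤ) : DCoh.HDMod (OEtRing X) L q ⟶ limit (homTower t q) :=
  limit.lift _ (seqCone (F := fun n => (homologyFunctor (ModEt X) q).obj (K n)) _ (fun n => (homologyFunctor (ModEt X) q).map (a ≫ Pi.π K n)) fun n => by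
    rw [← Functor.map_comp, comp_w t hT n])

theorem homologyLift_π (q : ℤ) (n : ℕ) :
    homologyLift t hT q ≫ limit.π (homTower t q) (op n) =
      (homologyFunctor (ModEt X) q).map (a ≫ Pi.π K n) :=
  limit.lift_π _ (op n)

include hK ht hT in
/-- The cohomology of the derived limit is the limit of the cohomology. -/
theorem isIso_homologyLift (q : ℤ) : IsIso (homologyLift t hT q) := by
  have hG := isLocGen_G (X := X)
  have : Mono (homologyLift t hT q) := by
    refine hG.mono _ fun V g hg => hG.sep g ?_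
    obtain ⟨T, hT', hTP⟩ := hG.exists_theta g
    refine SiteDer.Locally.trans (fun _ _ a b h => by
      rw [Functor.map_comp, Category.assoc, h, comp_zero]) hT' fun W f hf => ?_
    obtain ⟨φ, hφ⟩ := hTP f hf
    refine locally_affine W (fun _ _ a b h => by
      rw [Category.assoc, Functor.map_comp, Category.assoc, h, comp_zero]) fun W' k hW' => ?_
    let ψ := (singleFunctor (ModEt X) q).map ((G X).map k) ≫ φ
    have hψ : theta ψ = (G X).map (k ≫ f) ≫ g := by
      rw [SiteDer.theta_map_comp, hφ, Functor.map_comp, Category.assoc]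
    have h0 : ψ = 0 := comp_injective t hK ht hW' hT q ψ (Pi.hom_ext _ _ fun n => by
      rw [zero_comp, Category.assoc]
      refine (theta_bijective hW' (hK n) q).1 ?_
      simp only
      rw [SiteDer.theta_comp, SiteDer.theta_zero, hψ, ← homologyLift_π t hT, Category.assoc,
        reassoc_of% hg, zero_comp, comp_zero])
    rw [← hψ, h0, SiteDer.theta_zero]
  have : Epi (homologyLift t hT q) := by
    refine hG.epi _ fun V g => ?_
    refine locally_affine V (fun _ _ a b ⟨h, hh⟩ => ⟨(G X).map b ≫ h, by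
      rw [Category.assoc, hh, Functor.map_comp, Category.assoc]⟩) fun W k hW => ?_
    choose ψ hψ using fun n => (theta_bijective hW (hK n) q).2
      ((G X).map k ≫ g ≫ limit.π (homTower t q) (op n))
    have hcomp : ∀ n, ψ (n + 1) ≫ t n = ψ n := fun n => (theta_bijective hW (hK n) q).1 (by
      simp only at hψ ⊢
      rw [SiteDer.theta_comp, hψ, hψ, Category.assoc, Category.assoc,
        limit_π_comp (F := fun n => (homologyFunctor (ModEt X) q).obj (K n)) (fun n => (homologyFunctor (ModEt X) q).map (t n)) n])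
    obtain ⟨x, hx⟩ := Triangle.coyoneda_exact₂ _ hT (Pi.lift ψ) (by
      show Pi.lift ψ ≫ diff t = 0
      refine Pi.hom_ext _ _ fun n => ?_
      simp [diff, hcomp])
    change Pi.lift ψ = x ≫ a at hx
    refine ⟨theta x, limit.hom_ext fun ⟨n⟩ => ?_⟩
    rw [Category.assoc, homologyLift_π, ← SiteDer.theta_comp, ← Category.assoc x, ← hx, Pi.lift_π,
      Category.assoc]
    exact hψ n
  exact isIso_of_mono_of_epi _

include hK ht hT in
/-- Sections of the cohomology of the derived limit. -/
theorem sections_homology (q : ℤ) (W : EtOver X) :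
    (∀ s s' : Sec (O := OEt X) (DCoh.HDMod (OEtRing X) L q) W,
      (∀ n : ℕ, app (O := OEt X) ((homologyFunctor (ModEt X) q).map (a ≫ Pi.π K n)) W s =
        app (O := OEt X) ((homologyFunctor (ModEt X) q).map (a ≫ Pi.π K n)) W s') → s = s') ∧
    ∀ x : ∀ n : ℕ, Sec (O := OEt X) (DCoh.HDMod (OEtRing X) (K n) q) W,
      (∀ n : ℕ, app (O := OEt X) ((homologyFunctor (ModEt X) q).map (t n)) W (x (n + 1)) = x n) →
      ∃ s : Sec (O := OEt X) (DCoh.HDMod (OEtRing X) L q) W,
        ∀ n : ℕ, app (O := OEt X) ((homologyFunctor (ModEt X) q).map (a ≫ Pi.π K n)) W s = x n := by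
  haveI := isIso_homologyLift t hK ht hT q
  let τ : ∀ n, (homologyFunctor (ModEt X) q).obj (K (n + 1)) ⟶ (homologyFunctor (ModEt X) q).obj (K n) :=
    fun n => (homologyFunctor (ModEt X) q).map (t n)
  have key : ∀ n (s : Sec (O := OEt X) (DCoh.HDMod (OEtRing X) L q) W),
      app (O := OEt X) ((homologyFunctor (ModEt X) q).map (a ≫ Pi.π K n)) W s =
        app (O := OEt X) (limit.π (homTower t q) (op n)) W (app (O := OEt X) (homologyLift t hT q) W s) :=
    fun n s => (congrArg (fun φ => app (O := OEt X) φ W s) (homologyLift_π t hT q n)).symm.trans (app_comp _ _ _ _)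
  constructor
  · intro s s' h
    refine app_injective (O := OEt X) (homologyLift t hT q) W ((sections_limit (M := fun n => (homologyFunctor (ModEt X) q).obj (K n)) τ W).1 _ _ fun n => ?_)
    exact (key n s).symm.trans ((h n).trans (key n s'))
  · intro x hx
    obtain ⟨y, hy⟩ := (sections_limit (M := fun n => (homologyFunctor (ModEt X) q).obj (K n)) τ W).2 x hx
    refine ⟨app (O := OEt X) (inv (homologyLift t hT q)) W y, fun n => ?_⟩
    rw [key, ← app_comp (O := OEt X) (inv (homologyLift t hT q)) (homologyLift t hT q), IsIso.inv_hom_id]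
    exact hy n

end GrothLib.AlgSp.ModDer

namespace GrothLib.AlgSp.ModDer

open _root_.AlgSp
open GrothLib.AlgSp.QCohEt

variable {S : Scheme.{u}} {X : Sp S} {M : ℕ → ModEt X}

theorem isQCohDMod_single (hM : ∀ n, (M n).IsQuasicoherent) (n : ℕ) :
    DCoh.IsQCohDMod (OEtRing X) (DCoh.inDMod (OEtRing X) (M n)) := fun q => by
  by_cases hq : q = 0
  · subst hq
    exact isQuasicoherent_of_iso ((singleFunctorCompHomologyFunctorIso (ModEt X) 0).app (M n)).symm (hM n)
  · refine isQuasicoherent_of_isZero ?_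
    rcases lt_or_gt_of_ne hq with h | h
    · exact DerivedCategory.isZero_of_isGE ((singleFunctor (ModEt X) 0).obj (M n)) 0 q h
    · exact DerivedCategory.isZero_of_isLE ((singleFunctor (ModEt X) 0).obj (M n)) 0 q h

theorem isZero_homology_single (N : ModEt X) {q : ℤ} (hq : q ≠ 0) :
    IsZero ((homologyFunctor (ModEt X) q).obj ((singleFunctor (ModEt X) 0).obj N)) := by
  rcases lt_or_gt_of_ne hq with h | h
  · exact DerivedCategory.isZero_of_isGE ((singleFunctor (ModEt X) 0).obj N) 0 q h
  · exact DerivedCategory.isZero_of_isLE ((singleFunctor (ModEt X) 0).obj N) 0 q h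

theorem epi_homology_single (t : ∀ n, M (n + 1) ⟶ M n) (ht : ∀ n, Epi (t n)) (q : ℤ) (n : ℕ) :
    Epi ((homologyFunctor (ModEt X) q).map ((singleFunctor (ModEt X) 0).map (t n))) := by
  by_cases hq : q = 0
  · subst hq
    haveI := ht n
    let i := singleFunctorCompHomologyFunctorIso (ModEt X) 0
    have h : (homologyFunctor (ModEt X) 0).map ((singleFunctor (ModEt X) 0).map (t n)) =
        i.hom.app (M (n + 1)) ≫ t n ≫ i.inv.app (M n) := by
      rw [← Category.assoc]
      exact (Iso.eq_comp_inv (i.app (M n))).2 (i.hom.naturality (t n))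
    rw [h]
    show Epi ((i.app (M (n + 1))).hom ≫ t n ≫ (i.app (M n)).inv)
    infer_instance
  · exact ⟨fun f g _ => (isZero_homology_single (M n) hq).eq_of_src f g⟩

/-- Derived limits of epimorphic towers of quasi-coherent modules are their limits. -/
theorem isRlim_limit (t : ∀ n, M (n + 1) ⟶ M n) (hM : ∀ n, (M n).IsQuasicoherent) (ht : ∀ n, Epi (t n))
    [HasProduct fun n : ℕ => DCoh.inDMod (OEtRing X) (M n)] :
    CohCx.IsRlimVia (fun n : ℕ => DCoh.inDMod (OEtRing X) (M n))
      (fun n => (singleFunctor (ModEt X) 0).map (t n)) (DCoh.inDMod (OEtRing X) (limit (Functor.ofOpSequence t)))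
      (fun n => (singleFunctor (ModEt X) 0).map (limit.π (Functor.ofOpSequence t) (op n))) := by
  let R := singleFunctor (ModEt X) 0
  let K : ℕ → DModEt X := fun n => DCoh.inDMod (OEtRing X) (M n)
  let t' : ∀ n, K (n + 1) ⟶ K n := fun n => R.map (t n)
  obtain ⟨L, a, c, hT⟩ := distinguished_cocone_triangle₁ (diff t')
  have hI := isIso_homologyLift t' (isQCohDMod_single hM) (epi_homology_single t ht) hT
  have hz : ∀ q : ℤ, q ≠ 0 → IsZero (DCoh.HDMod (OEtRing X) L q) := fun q hq => by
    haveI := hI q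
    refine IsZero.of_iso ?_ (asIso (homologyLift t' hT q))
    exact (IsZero.iff_id_eq_zero _).2 (limit.hom_ext fun ⟨n⟩ => (isZero_homology_single (M n) hq).eq_of_tgt _ _)
  haveI : L.IsGE 0 := (DerivedCategory.isGE_iff L 0).2 fun i hi => hz i (ne_of_lt hi)
  haveI : L.IsLE 0 := (DerivedCategory.isLE_iff L 0).2 fun i hi => hz i (ne_of_gt hi)
  obtain ⟨N, ⟨e⟩⟩ := DerivedCategory.exists_iso_singleFunctor_obj_of_isGE_of_isLE L 0
  let m : ∀ n, N ⟶ M n := fun n => R.preimage (e.inv ≫ a ≫ Pi.π K n)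
  have hm : ∀ n, R.map (m n) = e.inv ≫ a ≫ Pi.π K n := fun n => R.map_preimage _
  have hmw : ∀ n, m (n + 1) ≫ t n = m n := fun n => R.map_injective (by
    rw [Functor.map_comp, hm, hm, Category.assoc, comp_w t' hT n])
  let D := Functor.ofOpSequence t
  let l : N ⟶ limit D := limit.lift D (seqCone t m hmw)
  have hl : ∀ n, l ≫ limit.π D (op n) = m n := fun n => limit.lift_π _ (op n)
  let i := singleFunctorCompHomologyFunctorIso (ModEt X) 0
  let νh : homTower t' 0 ⟶ D := NatTrans.ofOpSequence (fun n => i.hom.app (M n)) (fun n => by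
    rw [Functor.ofOpSequence_map_homOfLE_succ, Functor.ofOpSequence_map_homOfLE_succ]
    exact i.hom.naturality (t n))
  haveI : ∀ p, IsIso (νh.app p) := fun ⟨n⟩ => inferInstanceAs (IsIso ((i.app (M n)).hom))
  haveI : IsIso νh := NatIso.isIso_of_isIso_app νh
  let ν : homTower t' 0 ≅ D := asIso νh
  haveI := hI 0
  have hle : l = i.inv.app N ≫ (homologyFunctor (ModEt X) 0).map e.inv ≫ homologyLift t' hT 0 ≫
      (HasLimit.isoOfNatIso ν).hom := limit.hom_ext fun ⟨n⟩ => by
    rw [hl, Category.assoc, Category.assoc, Category.assoc, HasLimit.isoOfNatIso_hom_π,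
      reassoc_of% (homologyLift_π t' hT 0 n), ← Functor.map_comp_assoc, ← hm]
    exact ((Iso.inv_comp_eq (i.app N)).2 (i.hom.naturality (m n))).symm
  haveI : IsIso l := by rw [hle]; infer_instance
  let φ : DCoh.inDMod (OEtRing X) (limit D) ≅ L := R.mapIso (asIso l).symm ≪≫ e.symm
  have hφ : φ.hom ≫ a = Pi.lift (f := K) fun n => R.map (limit.π D (op n)) := Pi.hom_ext _ _ fun n => by
    rw [Category.assoc, Pi.lift_π]
    show (R.map (inv l) ≫ e.inv) ≫ a ≫ Pi.π K n = _
    rw [Category.assoc, ← hm, ← hl, ← Functor.map_comp, IsIso.inv_hom_id_assoc]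
  refine ⟨c ≫ φ.inv⟦(1 : ℤ)⟧', isomorphic_distinguished _ hT _
    (Triangle.isoMk _ _ φ (Iso.refl _) (Iso.refl _) ?_ ?_ ?_)⟩
  · exact (Category.comp_id _).trans hφ.symm
  · exact (Category.comp_id _).trans (Category.id_comp _).symm
  · show (c ≫ φ.inv⟦(1 : ℤ)⟧') ≫ φ.hom⟦(1 : ℤ)⟧' = 𝟙 _ ≫ c
    rw [Category.assoc, ← Functor.map_comp, φ.inv_hom_id, CategoryTheory.Functor.map_id, Category.comp_id,
      Category.id_comp]

end GrothLib.AlgSp.ModDer
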