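import Groth.Agent.Lib.AlgSp.FieldBase
import Mathlib.AlgebraicGeometry.Artinian
import Mathlib.AlgebraicGeometry.Morphisms.QuasiFinite
import Mathlib.AlgebraicGeometry.Morphisms.ClosedImmersion
import Mathlib.RingTheory.Artinian.Ring

/-!
# Monomorphisms into locally Artinian schemes

* `isClosedImmersion_of_mono_affine_artinian`, `isImmersion_locally_of_mono_locallyArtinian`,
  `locallyQuasiFinite_of_mono_locallyArtinian`.
-/

set_option autoImplicit false
universe u
open CategoryTheory CategoryTheory.Limits AlgebraicGeometry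

namespace GrothLib.AlgSp

/-- A monomorphism from an affine scheme to an Artinian local affine scheme is a closed immersion. -/
theorem surjective_of_mono_SpecMap {A B : CommRingCat.{u}} (φ : A ⟶ B) [IsArtinianRing A] [IsLocalRing A]
    [Nontrivial B] [Mono (Spec.map φ)] : Function.Surjective φ.hom := by
  let m := IsLocalRing.maximalIdeal A
  obtain ⟨n, hn⟩ := IsArtinianRing.isNilpotent_jacobson_bot (R := A)
  have hm : m ^ n = ⊥ := by
    rw [IsLocalRing.jacobson_eq_maximalIdeal ⊥ bot_ne_top] at hn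
    exact hn
  let I : Ideal B := m.map φ.hom
  have hI : I ^ n = ⊥ := by rw [← Ideal.map_pow, hm, Ideal.map_bot]
  haveI : Nontrivial (B ⧸ I) := Ideal.Quotient.nontrivial_iff.2 fun h => by
    rw [h, Ideal.top_pow] at hI
    exact top_ne_bot hI
  let q : B ⟶ CommRingCat.of (B ⧸ I) := CommRingCat.ofHom (Ideal.Quotient.mk I)
  let ψ₀ : A ⧸ m →+* B ⧸ I := Ideal.quotientMap I φ.hom Ideal.le_comap_map
  let ψ : CommRingCat.of (A ⧸ m) ⟶ CommRingCat.of (B ⧸ I) := CommRingCat.ofHom ψ₀
  have hψ : CommRingCat.ofHom (Ideal.Quotient.mk m) ≫ ψ = φ ≫ q := by ext a; rfl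
  haveI : IsClosedImmersion (Spec.map q) := IsClosedImmersion.spec_of_surjective q Ideal.Quotient.mk_surjective
  haveI : Mono (Spec.map (φ ≫ q)) := by rw [Spec.map_comp]; infer_instance
  haveI : Mono (Spec.map ψ) := by
    have : Mono (Spec.map ψ ≫ Spec.map (CommRingCat.ofHom (Ideal.Quotient.mk m))) := by
      rw [← Spec.map_comp, hψ]; infer_instance
    exact mono_of_mono (Spec.map ψ) (Spec.map (CommRingCat.ofHom (Ideal.Quotient.mk m)))
  letI : Field (A ⧸ m) := Ideal.Quotient.field m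
  haveI : Nonempty ↥(Spec (CommRingCat.of (B ⧸ I))) := inferInstanceAs (Nonempty (PrimeSpectrum (B ⧸ I)))
  haveI : IsIso (Spec.map ψ) := isIso_of_mono_to_field (k := A ⧸ m) (Spec.map ψ)
  haveI : IsIso ψ := by
    haveI : IsIso (Scheme.Spec.map ψ.op) := ‹IsIso (Spec.map ψ)›
    haveI := isIso_of_reflects_iso ψ.op Scheme.Spec
    exact isIso_of_op ψ
  have hs : Function.Surjective ψ₀ := ((ConcreteCategory.isIso_iff_bijective ψ).1 inferInstance).2
  -- Nakayama
  have key : ∀ (j : ℕ) (b : B), ∃ a, b - φ.hom a ∈ I ^ j := by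
    intro j
    induction j with
    | zero => exact fun b => ⟨0, by simp⟩
    | succ j ih =>
      have hstep : ∀ c ∈ I ^ j, ∃ a, c - φ.hom a ∈ I ^ (j + 1) := by
        intro c hc
        have hc' : c ∈ (m ^ j).map φ.hom := by rwa [Ideal.map_pow]
        change c ∈ Ideal.span (φ.hom '' ((m ^ j : Ideal A) : Set A)) at hc'
        induction hc' using Submodule.span_induction with
        | mem x hx =>
          obtain ⟨a, -, rfl⟩ := hx
          exact ⟨a, by simp⟩
        | zero => exact ⟨0, by simp⟩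
        | add x y hxs hys hx hy =>
          obtain ⟨a, ha⟩ := hx (by rw [← Ideal.map_pow]; exact hxs)
          obtain ⟨a', ha'⟩ := hy (by rw [← Ideal.map_pow]; exact hys)
          exact ⟨a + a', by convert Ideal.add_mem _ ha ha' using 1; rw [map_add]; ring⟩
        | smul r x hxs hx =>
          obtain ⟨s, hs'⟩ := Ideal.Quotient.mk_surjective (I := I) r |> fun _ => hs (Ideal.Quotient.mk I r)
          obtain ⟨r₀, rfl⟩ := Ideal.Quotient.mk_surjective s
          have hr : r - φ.hom r₀ ∈ I := by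
            rw [← Ideal.Quotient.eq]; exact hs'.symm
          obtain ⟨a, ha⟩ := hx (by rw [← Ideal.map_pow]; exact hxs)
          refine ⟨r₀ * a, ?_⟩
          have h1 : (r - φ.hom r₀) * x ∈ I ^ (j + 1) := by
            rw [pow_succ']
            exact Ideal.mul_mem_mul hr (by rw [← Ideal.map_pow]; exact hxs)
          convert Ideal.add_mem _ h1 (Ideal.mul_mem_left _ (φ.hom r₀) ha) using 1
          rw [smul_eq_mul, map_mul]; ring
      intro b
      obtain ⟨a, ha⟩ := ih b
      obtain ⟨a', ha'⟩ := hstep _ ha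
      exact ⟨a + a', by rw [map_add, ← sub_sub]; exact ha'⟩
  intro b
  obtain ⟨a, ha⟩ := key n b
  rw [hI, Ideal.mem_bot, sub_eq_zero] at ha
  exact ⟨a, ha.symm⟩

/-- A monomorphism into a locally Artinian scheme is locally of finite type and locally quasi-finite. -/
theorem lqf_lft_of_mono_locallyArtinian {W V : Scheme.{u}} (g : W ⟶ V) [Mono g] [IsLocallyArtinian V] :
    LocallyQuasiFinite g ∧ LocallyOfFiniteType g := by
  suffices h : LocallyOfFiniteType g by
    exact ⟨LocallyQuasiFinite.of_injective g.injective, h⟩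
  let ι := W
  let O : ↥W → V.Opens := fun w => ⟨{g w}, isOpen_discrete _⟩
  have hcov : TopologicalSpace.IsOpenCover (fun w => g ⁻¹ᵁ O w) :=
    eq_top_iff.2 fun w _ => TopologicalSpace.Opens.mem_iSup.2 ⟨w, Set.mem_singleton _⟩
  refine (IsZariskiLocalAtSource.iff_of_openCover (P := @LocallyOfFiniteType)
    (W.openCoverOfIsOpenCover _ hcov)).2 fun w => ?_
  let w₀ : ↥W := w
  have aff : ∀ (Z : Scheme.{u}) (Q : Z.Opens) (z : ↥Z), (Q : Set ↥Z) = {z} → IsAffineOpen Q := by
    intro Z Q z hQ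
    obtain ⟨A, hA, hzA, hAQ⟩ := exists_isAffineOpen_mem_and_subset (U := Q) (x := z) (by
      rw [← SetLike.mem_coe, hQ]; exact Set.mem_singleton z)
    have : A = Q := le_antisymm hAQ fun y hy => by
      rw [← SetLike.mem_coe, hQ] at hy
      exact (Set.mem_singleton_iff.1 hy) ▸ hzA
    exact this ▸ hA
  have hO : IsAffineOpen (O w₀) := aff V _ (g w₀) rfl
  have hW : IsAffineOpen (g ⁻¹ᵁ O w₀) := aff W _ w₀ (Set.ext fun y =>
    ⟨fun hy => g.injective hy, fun hy => by rw [Set.mem_singleton_iff.1 hy]; rfl⟩)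
  haveI : IsAffine (O w₀).toScheme := hO
  haveI : IsAffine (g ⁻¹ᵁ O w₀).toScheme := hW
  haveI : Nonempty ↥(g ⁻¹ᵁ O w₀).toScheme := ⟨⟨w₀, Set.mem_singleton _⟩⟩
  haveI : Subsingleton ↥(O w₀).toScheme := inferInstanceAs (Subsingleton ({g w₀} : Set _))
  haveI : Nonempty ↥(O w₀).toScheme := ⟨⟨g w₀, Set.mem_singleton _⟩⟩
  haveI : Mono (g ∣_ O w₀) :=
    (MorphismProperty.monomorphisms Scheme.{u}).of_isPullback (isPullback_morphismRestrict g (O w₀)).flip ‹Mono g›
  have hci : IsClosedImmersion (g ∣_ O w₀) := by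
    haveI : IsArtinianRing Γ((O w₀).toScheme, ⊤) := by
      haveI : IsLocallyArtinian (O w₀).toScheme := inferInstance
      infer_instance
    haveI : Mono (Spec.map (g ∣_ O w₀).appTop) := by
      have e : Spec.map (g ∣_ O w₀).appTop =
          (g ⁻¹ᵁ O w₀).toScheme.isoSpec.inv ≫ (g ∣_ O w₀) ≫ (O w₀).toScheme.isoSpec.hom := by
        rw [← Scheme.isoSpec_hom_naturality, Iso.inv_hom_id_assoc]
      rw [e]; infer_instance
    haveI : Nontrivial Γ((g ⁻¹ᵁ O w₀).toScheme, ⊤) := by
      haveI : Nonempty ↥(⊤ : (g ⁻¹ᵁ O w₀).toScheme.Opens) := ⟨⟨Classical.arbitrary _, trivial⟩⟩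
      infer_instance
    haveI : IsLocalRing Γ((O w₀).toScheme, ⊤) := by
      haveI : Nonempty ↥(⊤ : (O w₀).toScheme.Opens) := ⟨⟨Classical.arbitrary _, trivial⟩⟩
      haveI : Subsingleton (PrimeSpectrum Γ((O w₀).toScheme, ⊤)) :=
        (O w₀).toScheme.isoSpec.inv.homeomorph.injective.subsingleton
      exact IsLocalRing.of_unique_max_ideal ⟨_, (Ideal.exists_maximal Γ((O w₀).toScheme, ⊤)).choose_spec,
        fun I hI => congrArg PrimeSpectrum.asIdeal (Subsingleton.elim (⟨I, hI.isPrime⟩ : PrimeSpectrum _)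
          ⟨_, (Ideal.exists_maximal Γ((O w₀).toScheme, ⊤)).choose_spec.isPrime⟩)⟩
    have hs := surjective_of_mono_SpecMap (g ∣_ O w₀).appTop
    have e : g ∣_ O w₀ = (g ⁻¹ᵁ O w₀).toScheme.isoSpec.hom ≫ Spec.map (g ∣_ O w₀).appTop ≫
        (O w₀).toScheme.isoSpec.inv := by
      rw [Scheme.isoSpec_hom_naturality_assoc, Iso.hom_inv_id, Category.comp_id]
    haveI := IsClosedImmersion.spec_of_surjective _ hs
    rw [e]; infer_instance
  show LocallyOfFiniteType ((g ⁻¹ᵁ O w₀).ι ≫ g)
  rw [← morphismRestrict_ι]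
  infer_instance

end GrothLib.AlgSp
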