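import Groth.Agent.Lib.AlgSp.NilInvariant
import Mathlib.RingTheory.Flat.FaithfullyFlat.Basic
import Mathlib.Algebra.Module.Torsion.Basic

/-!
# Lifting invariant functions along square zero invariant ideals

* `exists_mulMap`: `K ⊗_A Y → R'` is injective for a flat algebra `R → R'` with `R'/K R' ≅ (R/K) ⊗_A Y`;
* `exists_lift_invariant`: if `B/K` is faithfully flat over `A` and the relation modulo `K` is
  `(B/K) ⊗_A (B/K)`, then every element of `A` lifts to an invariant element of `B`.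
-/

set_option autoImplicit false
universe u
open TensorProduct
set_option backward.isDefEq.respectTransparency false

namespace GrothLib.AlgSp.NilContent

section Mul

variable {R R' A Q Y M : Type u} [CommRing R] [CommRing R'] [Algebra R R'] [CommRing A] [CommRing Q] [CommRing Y]
  [Algebra A Q] [Algebra A Y] [AddCommGroup M] [Module A M]

theorem exists_mulMap [Module.Flat R R'] (K : Ideal R) (hK : ∀ k ∈ K, ∀ k' ∈ K, k * k' = 0)
    (q : R →+* Q) (hq : Function.Surjective q) (hqK : RingHom.ker q = K)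
    (i : M →+ R) (hi : Function.Injective i) (hiK : ∀ r, r ∈ K ↔ r ∈ Set.range i)
    (hsmul : ∀ a r, q r = algebraMap A Q a → ∀ m, i (a • m) = r * i m)
    (ψ : R' →+* Q ⊗[A] Y) (hψ : ∀ r, ψ (algebraMap R R' r) = q r ⊗ₜ 1)
    (hker : ∀ c, ψ c = 0 → c ∈ K.map (algebraMap R R'))
    (lf : Y → R') (hlf : ∀ y, ψ (lf y) = 1 ⊗ₜ y) :
    ∃ μ : M ⊗[A] Y →+ R', (∀ m y, μ (m ⊗ₜ y) = algebraMap R R' (i m) * lf y) ∧ Function.Injective μ := by
  classical
  have him : ∀ m, i m ∈ K := fun m => (hiK _).2 ⟨m, rfl⟩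
  -- `K R'` kills `K`
  have hkill : ∀ m, ∀ c ∈ K.map (algebraMap R R'), algebraMap R R' (i m) * c = 0 := by
    intro m c hc
    rw [Ideal.map] at hc
    induction hc using Submodule.span_induction with
    | mem c hc =>
      obtain ⟨k, hk, rfl⟩ := hc
      rw [← map_mul, hK _ (him m) _ hk, map_zero]
    | zero => rw [mul_zero]
    | add x y _ _ hx hy => rw [mul_add, hx, hy, add_zero]
    | smul d x _ hx => rw [smul_eq_mul, mul_left_comm, hx, mul_zero]
  have hψmul : ∀ m c c', ψ c = ψ c' → algebraMap R R' (i m) * c = algebraMap R R' (i m) * c' := by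
    intro m c c' h
    rw [← sub_eq_zero, ← mul_sub]
    exact hkill m _ (hker _ (by rw [map_sub, h, sub_self]))
  have hbal : ∀ (a : A) m y, algebraMap R R' (i (a • m)) * lf y = algebraMap R R' (i m) * lf (a • y) := by
    intro a m y
    obtain ⟨r, hr⟩ := hq (algebraMap A Q a)
    rw [hsmul a r hr, map_mul, mul_right_comm, mul_comm]
    refine hψmul m _ _ ?_
    rw [map_mul, hψ, hlf, hlf, Algebra.TensorProduct.tmul_mul_tmul, hr, one_mul, mul_one,
      Algebra.algebraMap_eq_smul_one, smul_tmul]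
  let g : M →+ Y →+ R' := AddMonoidHom.mk' (fun m => AddMonoidHom.mk' (fun y => algebraMap R R' (i m) * lf y)
      fun y y' => by
        show algebraMap R R' (i m) * lf (y + y') = algebraMap R R' (i m) * lf y + algebraMap R R' (i m) * lf y'
        rw [← mul_add]
        exact hψmul m _ _ (by rw [map_add, hlf, hlf, hlf, tmul_add]))
    fun m m' => by
      ext y
      show algebraMap R R' (i (m + m')) * lf y = algebraMap R R' (i m) * lf y + algebraMap R R' (i m') * lf y
      rw [map_add, map_add, add_mul]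
  let μ := TensorProduct.liftAddHom g fun a m y => hbal a m y
  refine ⟨μ, fun m y => rfl, ?_⟩
  -- inverse
  have hiv : ∀ k : K, ∃ m, i m = k := fun k => (hiK _).1 k.2
  choose iv hiv using hiv
  choose s hs using hq
  have hmul : ∀ (k : K) r r', q r = q r' → r * (k : R) = r' * k := by
    intro k r r' h
    rw [← sub_eq_zero, ← sub_mul]
    exact hK _ (hqK ▸ by rw [RingHom.mem_ker, map_sub, h, sub_self]) _ k.2
  let mk' : K → (Q →ₗ[A] M) := fun k =>
    { toFun := fun x => iv ⟨s x * k, K.mul_mem_left _ k.2⟩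
      map_add' := fun x y => hi (by
        simp only [map_add, hiv]
        rw [← add_mul]
        exact hmul k _ _ (by rw [map_add, hs, hs, hs]))
      map_smul' := fun a x => hi (by
        obtain ⟨r, hr⟩ : ∃ r, q r = algebraMap A Q a := ⟨_, hs _⟩
        simp only [RingHom.id_apply, hsmul a r hr, hiv]
        rw [← mul_assoc]
        exact hmul k _ _ (by rw [map_mul, hs, hs, hr, Algebra.smul_def])) }
  have hmk : ∀ k r, i (mk' k (q r)) = r * k := fun k r => (hiv _).trans (hmul k _ _ (hs _))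
  let Φ : K → (Q ⊗[A] Y →+ M ⊗[A] Y) := fun k => (LinearMap.rTensor Y (mk' k)).toAddMonoidHom
  have hΦadd : ∀ k k', Φ (k + k') = Φ k + Φ k' := by
    intro k k'
    have : mk' (k + k') = mk' k + mk' k' := LinearMap.ext fun x => hi (by
      obtain ⟨r, rfl⟩ : ∃ r, q r = x := ⟨_, hs x⟩
      rw [LinearMap.add_apply, map_add, hmk, hmk, hmk, Submodule.coe_add, mul_add])
    show (LinearMap.rTensor Y (mk' (k + k'))).toAddMonoidHom = _
    rw [this, LinearMap.rTensor_add]
    rfl
  have hΦsmul : ∀ (r : R) k w, Φ (r • k) w = Φ k ((q r ⊗ₜ 1) * w) := by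
    intro r k w
    induction w using TensorProduct.induction_on with
    | zero => rw [mul_zero, map_zero, map_zero]
    | tmul x y =>
      rw [Algebra.TensorProduct.tmul_mul_tmul, one_mul]
      show mk' (r • k) x ⊗ₜ y = mk' k (q r * x) ⊗ₜ y
      congr 1
      refine hi ?_
      obtain ⟨r', rfl⟩ : ∃ r, q r = x := ⟨_, hs x⟩
      rw [← map_mul, hmk, hmk, Submodule.coe_smul, smul_eq_mul, ← mul_assoc, mul_comm r' r]
    | add v w hv hw => rw [mul_add, map_add, map_add, hv, hw]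
  let ρ : K ⊗[R] R' →+ M ⊗[A] Y := TensorProduct.liftAddHom
    (AddMonoidHom.mk' (fun k => (Φ k).comp ψ.toAddMonoidHom) fun k k' => by rw [hΦadd]; rfl)
    fun r k c => by
      show Φ (r • k) (ψ c) = Φ k (ψ (r • c))
      rw [hΦsmul]
      exact congrArg (Φ k) (by rw [Algebra.smul_def, map_mul, hψ])
  have hρsurj : ∀ w, ∃ v, ρ v = w := by
    intro w
    induction w using TensorProduct.induction_on with
    | zero => exact ⟨0, map_zero _⟩
    | tmul m y =>
      refine ⟨⟨i m, him m⟩ ⊗ₜ lf y, ?_⟩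
      show Φ ⟨i m, him m⟩ (ψ (lf y)) = _
      rw [hlf]
      show mk' ⟨i m, him m⟩ 1 ⊗ₜ y = _
      congr 1
      refine hi ?_
      rw [← map_one q, hmk, one_mul]
    | add v w hv hw =>
      obtain ⟨a, rfl⟩ := hv
      obtain ⟨b, rfl⟩ := hw
      exact ⟨a + b, map_add _ _ _⟩
  have key : ∀ v : K ⊗[R] R', μ (ρ v) = TensorProduct.lid R R' (LinearMap.rTensor R' K.subtype v) := by
    intro v
    induction v using TensorProduct.induction_on with
    | zero => simp
    | add a b ha hb => simp only [map_add, ha, hb]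
    | tmul k c =>
      rw [LinearMap.rTensor_tmul, TensorProduct.lid_tmul, Algebra.smul_def]
      show μ (Φ k (ψ c)) = algebraMap R R' k * c
      obtain ⟨c', hc', hμ⟩ : ∃ c', ψ c' = ψ c ∧ μ (Φ k (ψ c)) = algebraMap R R' k * c' := by
        induction ψ c using TensorProduct.induction_on with
        | zero => exact ⟨0, map_zero _, by rw [map_zero, map_zero, mul_zero]⟩
        | tmul x y =>
          obtain ⟨r, rfl⟩ : ∃ r, q r = x := ⟨_, hs x⟩
          refine ⟨algebraMap R R' r * lf y, ?_, ?_⟩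
          · rw [map_mul, hψ, hlf, Algebra.TensorProduct.tmul_mul_tmul, mul_one, one_mul]
          · show algebraMap R R' (i (mk' k (q r))) * lf y = _
            rw [hmk, map_mul, mul_comm (algebraMap R R' r), mul_assoc]
        | add v w hv hw =>
          obtain ⟨a, ha, ha'⟩ := hv
          obtain ⟨b, hb, hb'⟩ := hw
          exact ⟨a + b, by rw [map_add, ha, hb], by rw [map_add, map_add, ha', hb', mul_add]⟩
      rw [hμ, ← hiv k]
      exact hψmul _ _ _ hc'
  rw [injective_iff_map_eq_zero]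
  intro w hw
  obtain ⟨v, rfl⟩ := hρsurj w
  rw [key] at hw
  have h0 := (TensorProduct.lid R R').injective (hw.trans (map_zero _).symm)
  rw [(Module.Flat.rTensor_preserves_injective_linearMap K.subtype K.injective_subtype)
    (h0.trans (map_zero _).symm), map_zero]

end Mul

variable {A B C : Type u} [CommRing A] [CommRing B] [CommRing C] [Algebra B C]

local notation "φ" => algebraMap B C

/-- **Invariant functions lift along square zero invariant ideals.** -/
theorem exists_lift_invariant [Module.Flat B C] (t : B →+* C) (K : Ideal B) (hK : ∀ k ∈ K, ∀ k' ∈ K, k * k' = 0)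
    (hKt : Invariant t K)
    (hrel : ∀ (T : Type u) [CommRing T] (p q : C →+* T), p.comp φ = q.comp φ →
      ∃ r : C →+* T, r.comp φ = p.comp t ∧ r.comp t = q.comp t)
    [Algebra A (B ⧸ K)] [Module.FaithfullyFlat A (B ⧸ K)]
    (ψ : C →+* (B ⧸ K) ⊗[A] (B ⧸ K)) (hψl : ∀ b, ψ (φ b) = Ideal.Quotient.mk K b ⊗ₜ 1)
    (hψr : ∀ b, ψ (t b) = 1 ⊗ₜ Ideal.Quotient.mk K b) (hψk : RingHom.ker ψ ≤ K.map φ) (a : A) :
    ∃ b, Ideal.Quotient.mk K b = algebraMap A (B ⧸ K) a ∧ t b = φ b := by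
  classical
  let K₂ := K.map φ
  have hK₂ : ∀ c ∈ K₂, ∀ c' ∈ K₂, c * c' = 0 := by
    have hz : K₂ * K₂ = ⊥ := by
      rw [← Ideal.map_mul, eq_bot_iff, Ideal.map_le_iff_le_comap, Ideal.mul_le]
      exact fun k hk k' hk' => by rw [hK k hk k' hk']; exact zero_mem _
    exact fun c hc c' hc' => (Submodule.mem_bot _).1 (hz ▸ Ideal.mul_mem_mul hc hc')
  have hψker : RingHom.ker ψ = K₂ := le_antisymm hψk (Ideal.map_le_iff_le_comap.2 fun k hk => by
    rw [Ideal.mem_comap, RingHom.mem_ker, hψl, Ideal.Quotient.eq_zero_iff_mem.2 hk, zero_tmul])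
  have hψs : Function.Surjective ψ := by
    intro w
    induction w using TensorProduct.induction_on with
    | zero => exact ⟨0, map_zero _⟩
    | tmul x y =>
      obtain ⟨x, rfl⟩ := Ideal.Quotient.mk_surjective x
      obtain ⟨y, rfl⟩ := Ideal.Quotient.mk_surjective y
      exact ⟨φ x * t y, by rw [map_mul, hψl, hψr, Algebra.TensorProduct.tmul_mul_tmul, mul_one, one_mul]⟩
    | add v w hv hw =>
      obtain ⟨a, rfl⟩ := hv
      obtain ⟨b, rfl⟩ := hw
      exact ⟨a + b, map_add _ _ _⟩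
  have hsplit : ∀ a r, Ideal.Quotient.mk K r = algebraMap A (B ⧸ K) a → t r - φ r ∈ K₂ := fun a r hr => hψk (by
    rw [RingHom.mem_ker, map_sub, hψl, hψr, hr, Algebra.algebraMap_eq_smul_one, tmul_smul, smul_tmul',
      sub_self])
  -- the module structure of `K`
  letI : Module (B ⧸ K) K := Module.IsTorsionBySet.module (R := B) (M := K)
    fun k r => Subtype.ext (by
      show (r : B) * (k : B) = 0
      exact hK _ r.2 _ k.2)
  letI : Module A K := Module.compHom K (algebraMap A (B ⧸ K))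
  have hsmul : ∀ a r, Ideal.Quotient.mk K r = algebraMap A (B ⧸ K) a → ∀ m : K, ((a • m : K) : B) = r * m := by
    intro a r hr m
    show ((algebraMap A (B ⧸ K) a • m : K) : B) = r * m
    rw [← hr]
    rfl
  let lift : (B ⧸ K) → B := fun y => (Ideal.Quotient.mk_surjective y).choose
  have hlift : ∀ y, Ideal.Quotient.mk K (lift y) = y := fun y => (Ideal.Quotient.mk_surjective y).choose_spec
  obtain ⟨μ, hμ, hμi⟩ := exists_mulMap (A := A) (Y := B ⧸ K) K hK (Ideal.Quotient.mk K)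
    Ideal.Quotient.mk_surjective Ideal.mk_ker (K.subtype.toAddMonoidHom) Subtype.val_injective
    (fun r => ⟨fun h => ⟨⟨r, h⟩, rfl⟩, fun ⟨m, hm⟩ => hm ▸ m.2⟩) hsmul ψ hψl (fun c hc => hψk hc)
    (fun y => t (lift y)) (fun y => by rw [hψr, hlift])
  have hμK : ∀ w, μ w ∈ K₂ := by
    intro w
    induction w using TensorProduct.induction_on with
    | zero => rw [map_zero]; exact zero_mem _
    | tmul m y => rw [hμ]; exact Ideal.mul_mem_right _ _ (Ideal.mem_map_of_mem φ m.2)
    | add v w hv hw => rw [map_add]; exact add_mem hv hw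
  have hmulK : ∀ (k : K) c c', ψ c = ψ c' → φ k * c = φ k * c' := fun k c c' h => by
    rw [← sub_eq_zero, ← mul_sub]
    exact hK₂ _ (Ideal.mem_map_of_mem φ k.2) _ (hψk (by rw [RingHom.mem_ker, map_sub, h, sub_self]))
  have hμsurj : ∀ c ∈ K₂, ∃ w, μ w = c := by
    have h1 : ∀ (x : (B ⧸ K) ⊗[A] (B ⧸ K)) (k : K), ∃ w c, ψ c = x ∧ μ w = φ k * c := by
      intro x
      induction x using TensorProduct.induction_on with
      | zero => exact fun k => ⟨0, 0, map_zero _, by rw [map_zero, mul_zero]⟩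
      | tmul x y =>
        intro k
        refine ⟨⟨lift x * k, K.mul_mem_left _ k.2⟩ ⊗ₜ y, φ (lift x) * t (lift y), ?_, ?_⟩
        · rw [map_mul, hψl, hψr, hlift, hlift, Algebra.TensorProduct.tmul_mul_tmul, mul_one, one_mul]
        · rw [hμ]
          show φ (lift x * (k : B)) * t (lift y) = _
          rw [map_mul]; ring
      | add v w hv hw =>
        intro k
        obtain ⟨a, a', ha, ha'⟩ := hv k
        obtain ⟨b, b', hb, hb'⟩ := hw k
        exact ⟨a + b, a' + b', by rw [map_add, ha, hb], by rw [map_add, ha', hb', mul_add]⟩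
    have h2 : ∀ (k : K) c, ∃ w, μ w = c * φ k := fun k c => by
      obtain ⟨w, c', hc', hw⟩ := h1 (ψ c) k
      exact ⟨w, by rw [hw, mul_comm c, hmulK k c c' hc'.symm]⟩
    suffices ∀ c ∈ K₂, ∀ d : C, ∃ w, μ w = d * c from fun c hc => by simpa using this c hc 1
    intro c hc
    induction hc using Submodule.span_induction with
    | mem c hc =>
      obtain ⟨k, hk, rfl⟩ := hc
      exact fun d => h2 ⟨k, hk⟩ d
    | zero => exact fun d => ⟨0, by rw [map_zero, mul_zero]⟩
    | add x y _ _ hx hy =>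
      intro d
      obtain ⟨a, ha⟩ := hx d
      obtain ⟨b, hb⟩ := hy d
      exact ⟨a + b, by rw [map_add, ha, hb, mul_add]⟩
    | smul e x _ hx => exact fun d => by simpa [mul_assoc] using hx (d * e)
  have hμsmul : ∀ (a : A) r, Ideal.Quotient.mk K r = algebraMap A (B ⧸ K) a → ∀ w, μ (a • w) = φ r * μ w := by
    intro a r hr w
    induction w using TensorProduct.induction_on with
    | zero => rw [smul_zero, map_zero, mul_zero]
    | tmul m y => rw [smul_tmul', hμ, hμ, ← mul_assoc, ← map_mul]; exact congrArg (φ · * _) (hsmul a r hr m)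
    | add v w hv hw => rw [smul_add, map_add, map_add, hv, hw, mul_add]
  -- the differential
  have htk : ∀ k : K, t k - φ k ∈ K₂ := fun k =>
    sub_mem (hKt (Ideal.mem_map_of_mem t k.2)) (Ideal.mem_map_of_mem φ k.2)
  choose d hd using fun k => hμsurj _ (htk k)
  let d₀ : K →ₗ[A] K ⊗[A] (B ⧸ K) :=
    { toFun := d
      map_add' := fun k k' => hμi (by rw [map_add, hd, hd, hd, Submodule.coe_add, map_add, map_add]; ring)
      map_smul' := fun a k => hμi (by
        obtain ⟨r, hr⟩ := Ideal.Quotient.mk_surjective (algebraMap A (B ⧸ K) a)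
        rw [RingHom.id_apply, hμsmul a r hr, hd, hd, hsmul a r hr, map_mul, map_mul, mul_sub]
        have h := hK₂ _ (hsplit a r hr) _ (hKt (Ideal.mem_map_of_mem t k.2))
        rw [sub_mul, sub_eq_zero] at h
        rw [h]) }
  -- the second multiplication map
  let ι₀ : B →+* (B ⧸ K) ⊗[A] (B ⧸ K) ⊗[A] (B ⧸ K) :=
    (Algebra.TensorProduct.includeLeftRingHom.comp ψ).comp φ
  letI : Algebra B ((B ⧸ K) ⊗[A] (B ⧸ K) ⊗[A] (B ⧸ K)) :=
    ι₀.toAlgebra' fun x y => (CommRing.toCommMonoid (α := (B ⧸ K) ⊗[A] (B ⧸ K) ⊗[A] (B ⧸ K))).mul_comm (ι₀ x) y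
  have hcomm : ∀ x y : (B ⧸ K) ⊗[A] (B ⧸ K) ⊗[A] (B ⧸ K), Commute x y := fun x y =>
    (CommRing.toCommMonoid (α := (B ⧸ K) ⊗[A] (B ⧸ K) ⊗[A] (B ⧸ K))).mul_comm x y
  let L₀ : C →ₐ[B] (B ⧸ K) ⊗[A] (B ⧸ K) ⊗[A] (B ⧸ K) :=
    { Algebra.TensorProduct.includeLeftRingHom.comp ψ with commutes' := fun b => rfl }
  let σ : (B ⧸ K) ⊗[A] (B ⧸ K) →ₐ[A] (B ⧸ K) ⊗[A] (B ⧸ K) ⊗[A] (B ⧸ K) :=
    Algebra.TensorProduct.map Algebra.TensorProduct.includeLeft (AlgHom.id A (B ⧸ K))
  let R₀ : C →ₐ[B] (B ⧸ K) ⊗[A] (B ⧸ K) ⊗[A] (B ⧸ K) :=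
    { σ.toRingHom.comp ψ with
      commutes' := fun b => by
        show σ (ψ (φ b)) = (ψ (φ b)) ⊗ₜ 1
        rw [hψl]
        simp [σ] }
  let ψ₂ : C ⊗[B] C →ₐ[B] (B ⧸ K) ⊗[A] (B ⧸ K) ⊗[A] (B ⧸ K) :=
    Algebra.TensorProduct.lift L₀ R₀ fun x y => hcomm _ _
  let inl : C →+* C ⊗[B] C := Algebra.TensorProduct.includeLeftRingHom
  let inr : C →+* C ⊗[B] C := (Algebra.TensorProduct.includeRight : C →ₐ[B] C ⊗[B] C).toRingHom
  have hlr : ∀ b, inl (φ b) = inr (φ b) := fun b => by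
    show φ b ⊗ₜ[B] (1 : C) = (1 : C) ⊗ₜ[B] φ b
    rw [Algebra.algebraMap_eq_smul_one, smul_tmul]
  have hψ₂l : ∀ c, ψ₂ (inl c) = ψ c ⊗ₜ 1 := fun c => by
    show ψ₂ (c ⊗ₜ 1) = _
    rw [Algebra.TensorProduct.lift_tmul]
    have h1 : R₀ 1 = 1 := R₀.map_one'
    rw [h1]
    exact mul_one (M := (B ⧸ K) ⊗[A] (B ⧸ K) ⊗[A] (B ⧸ K)) _
  have hψ₂r : ∀ c, ψ₂ (inr c) = σ (ψ c) := fun c => by
    show ψ₂ (1 ⊗ₜ c) = _
    rw [Algebra.TensorProduct.lift_tmul]
    have h1 : L₀ 1 = 1 := L₀.map_one'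
    rw [h1]
    exact one_mul (M := (B ⧸ K) ⊗[A] (B ⧸ K) ⊗[A] (B ⧸ K)) _
  let K₃ := K₂.map inl
  -- left inverse modulo `K₃`
  let π := Ideal.Quotient.mk K₃
  have hπK : ∀ c ∈ K₂, π (inl c) = 0 := fun c hc => Ideal.Quotient.eq_zero_iff_mem.2 (Ideal.mem_map_of_mem inl hc)
  have hπK' : ∀ c ∈ K₂, π (inr c) = 0 := by
    have : K₂ ≤ RingHom.ker (π.comp inr) := Ideal.map_le_iff_le_comap.2 fun k hk => by
      show π (inr (φ k)) = 0
      rw [← hlr]; exact hπK _ (Ideal.mem_map_of_mem φ hk)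
    exact fun c hc => this hc
  let χ₁ : (B ⧸ K) ⊗[A] (B ⧸ K) →+* (C ⊗[B] C) ⧸ K₃ :=
    RingHom.liftOfSurjective ψ hψs ⟨π.comp inl, fun c hc => hπK c (hψk hc)⟩
  have hχ₁ : ∀ c, χ₁ (ψ c) = π (inl c) := fun c => RingHom.liftOfRightInverse_comp_apply _ _ _ _ c
  letI : Algebra A ((C ⊗[B] C) ⧸ K₃) := (χ₁.comp (algebraMap A _)).toAlgebra
  let χ₂ : (B ⧸ K) →ₐ[A] (C ⊗[B] C) ⧸ K₃ :=
    { Ideal.Quotient.lift K ((π.comp inr).comp t) (fun k hk => hπK' _ (hKt (Ideal.mem_map_of_mem t hk))) with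
      commutes' := fun a => by
        obtain ⟨r, hr⟩ := Ideal.Quotient.mk_surjective (algebraMap A (B ⧸ K) a)
        show Ideal.Quotient.lift K _ _ (algebraMap A (B ⧸ K) a) = χ₁ (algebraMap A (B ⧸ K) a ⊗ₜ 1)
        rw [← hr, Ideal.Quotient.lift_mk, ← hψl, hχ₁, hlr]
        show π (inr (t r)) = π (inr (φ r))
        rw [← sub_eq_zero, ← map_sub, ← map_sub]
        exact hπK' _ (hsplit a r hr) }
  let χ : (B ⧸ K) ⊗[A] (B ⧸ K) ⊗[A] (B ⧸ K) →ₐ[A] (C ⊗[B] C) ⧸ K₃ :=
    Algebra.TensorProduct.lift { χ₁ with commutes' := fun a => rfl } χ₂ fun x y => Commute.all _ _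
  have hχ : ∀ d, χ (ψ₂ d) = π d := by
    intro d
    induction d using TensorProduct.induction_on with
    | zero => simp
    | add v w hv hw => simp only [map_add, hv, hw]
    | tmul c c' =>
      have hd : c ⊗ₜ[B] c' = inl c * inr c' := by
        show _ = (c ⊗ₜ[B] 1) * (1 ⊗ₜ[B] c')
        rw [Algebra.TensorProduct.tmul_mul_tmul, mul_one, one_mul]
      rw [hd, map_mul, map_mul, map_mul, hψ₂l, hψ₂r]
      congr 1
      · rw [Algebra.TensorProduct.lift_tmul, map_one, mul_one]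
        exact hχ₁ c
      · obtain ⟨c'', hc'', h⟩ : ∃ c'', ψ c'' = ψ c' ∧ χ (σ (ψ c')) = π (inr c'') := by
          induction ψ c' using TensorProduct.induction_on with
          | zero => exact ⟨0, map_zero _, by simp⟩
          | add v w hv hw =>
            obtain ⟨a, ha, ha'⟩ := hv
            obtain ⟨b, hb, hb'⟩ := hw
            exact ⟨a + b, by rw [map_add, ha, hb], by simp only [map_add, ha', hb']⟩
          | tmul x y =>
            obtain ⟨x, rfl⟩ := Ideal.Quotient.mk_surjective x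
            obtain ⟨y, rfl⟩ := Ideal.Quotient.mk_surjective y
            refine ⟨φ x * t y, by rw [map_mul, hψl, hψr, Algebra.TensorProduct.tmul_mul_tmul, mul_one, one_mul], ?_⟩
            show χ ((Ideal.Quotient.mk K x ⊗ₜ[A] 1) ⊗ₜ[A] Ideal.Quotient.mk K y) = _
            rw [Algebra.TensorProduct.lift_tmul, map_mul, map_mul]
            congr 1
            show χ₁ _ = _
            rw [← hψl, hχ₁, hlr]
        rw [h, ← sub_eq_zero, ← map_sub, ← map_sub]
        exact hπK' _ (hψk (by rw [RingHom.mem_ker, map_sub, hc'', sub_self]))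
  obtain ⟨μ₂, hμ₂, hμ₂i⟩ := exists_mulMap (A := A) (R' := C ⊗[B] C) (Y := B ⧸ K) K₂ hK₂ ψ hψs hψker μ hμi
    (fun c => ⟨fun hc => hμsurj c hc, fun ⟨w, hw⟩ => hw ▸ hμK w⟩)
    (fun a c hc w => by
      obtain ⟨r, hr⟩ := Ideal.Quotient.mk_surjective (algebraMap A (B ⧸ K) a)
      rw [hμsmul a r hr, ← sub_eq_zero, ← sub_mul]
      refine hK₂ _ (hψk ?_) _ (hμK w)
      rw [RingHom.mem_ker, map_sub, hψl, hc, hr]
      exact sub_self _)
    ψ₂.toRingHom hψ₂l
    (fun d hd => by
      have h := hχ d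
      rw [show ψ₂ d = 0 from hd, map_zero] at h
      exact Ideal.Quotient.eq_zero_iff_mem.1 h.symm)
    (fun y => inr (t (lift y))) (fun y => by
      show ψ₂ (inr (t (lift y))) = _
      rw [hψ₂r, hψr, hlift]
      show (Algebra.TensorProduct.includeLeft (S := A) (B := B ⧸ K) (1 : B ⧸ K)) ⊗ₜ[A] y = _
      rw [map_one])
  obtain ⟨rr, hr₁, hr₂⟩ := hrel (C ⊗[B] C) inl inr (RingHom.ext hlr)
  have hν : ∀ w, μ₂ (LinearMap.rTensor (B ⧸ K) d₀ w) = rr (μ w) - inr (μ w) := by
    intro w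
    induction w using TensorProduct.induction_on with
    | zero => simp
    | add v w hv hw => simp only [map_add, hv, hw]; ring
    | tmul k y =>
      rw [LinearMap.rTensor_tmul, hμ₂, hμ]
      show inl (μ (d k)) * inr (t (lift y)) = rr (φ k * t (lift y)) - inr (φ k * t (lift y))
      have e₁ : rr (φ k) = inl (t k) := RingHom.congr_fun hr₁ _
      have e₂ : rr (t (lift y)) = inr (t (lift y)) := RingHom.congr_fun hr₂ _
      rw [hd, map_sub, map_mul, map_mul, e₁, e₂, ← hlr, sub_mul]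
  obtain ⟨b, hb⟩ := Ideal.Quotient.mk_surjective (algebraMap A (B ⧸ K) a)
  obtain ⟨z, hz⟩ := hμsurj _ (hsplit a b hb)
  have hz1 : LinearMap.rTensor (B ⧸ K) d₀ z = -(z ⊗ₜ 1) := hμ₂i (by
    rw [hν, hz, show μ₂ (-(z ⊗ₜ 1)) = -μ₂ (z ⊗ₜ 1) from map_neg μ₂ _, hμ₂, hz]
    show rr (t b - φ b) - inr (t b - φ b) = -(inl (t b - φ b) * inr (t (lift 1)))
    have h1 : inl (t b - φ b) * inr (t (lift 1)) = inl (t b - φ b) := by
      refine eq_of_sub_eq_zero ?_
      obtain ⟨w, hw⟩ := hμsurj _ (hsplit a b hb)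
      rw [← hw]
      clear hw
      induction w using TensorProduct.induction_on with
      | zero => simp
      | add v w hv hw => rw [map_add, map_add, add_mul, add_sub_add_comm, hv, hw, add_zero]
      | tmul m y =>
        rw [hμ]
        show inl (φ m * t (lift y)) * _ - inl (φ m * t (lift y)) = 0
        rw [map_mul, hlr, ← mul_sub_one, mul_right_comm]
        rw [← map_one inr, ← map_sub, ← map_mul, hmulK m (t (lift 1) - 1) 0 (by
          rw [map_sub, hψr, hlift, map_one, map_zero, ← Algebra.TensorProduct.one_def, sub_self]),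
          mul_zero, map_zero, zero_mul]
    have e₁ : rr (φ b) = inl (t b) := RingHom.congr_fun hr₁ _
    have e₂ : rr (t b) = inr (t b) := RingHom.congr_fun hr₂ _
    rw [h1, map_sub, map_sub, map_sub, e₁, e₂, ← hlr]
    show inr (t b) - inl (t b) - (inr (t b) - inl (φ b)) = -(inl (t b) - inl (φ b))
    ring)
  have hmem : z ∈ LinearMap.range d₀ := by
    rw [← Submodule.Quotient.mk_eq_zero]
    refine (Module.FaithfullyFlat.one_tmul_eq_zero_iff A (A := B ⧸ K) _ _).1 ?_
    refine (map_eq_zero_iff _ (TensorProduct.comm A (B ⧸ K) _).injective).1 ?_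
    rw [TensorProduct.comm_tmul]
    have h := congrArg (LinearMap.rTensor (B ⧸ K) (LinearMap.range d₀).mkQ) hz1
    rw [← LinearMap.comp_apply, ← LinearMap.rTensor_comp] at h
    have h0 : (LinearMap.range d₀).mkQ ∘ₗ d₀ = 0 :=
      LinearMap.ext fun k => (Submodule.Quotient.mk_eq_zero _).2 (LinearMap.mem_range_self d₀ k)
    rw [h0, LinearMap.rTensor_zero, LinearMap.zero_apply] at h
    have h' := h.trans ((LinearMap.rTensor (B ⧸ K) (LinearMap.range d₀).mkQ).map_neg (z ⊗ₜ 1))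
    rw [LinearMap.rTensor_tmul] at h'
    exact neg_eq_zero.1 h'.symm
  obtain ⟨k, hk⟩ := hmem
  refine ⟨b - k, by rw [map_sub, Ideal.Quotient.eq_zero_iff_mem.2 k.2, sub_zero, hb], ?_⟩
  have h : μ (d k) = t b - φ b := by
    show μ (d₀ k) = _
    rw [hk, hz]
  rw [hd] at h
  rw [map_sub, map_sub]
  linear_combination -h

end GrothLib.AlgSp.NilContent
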