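import Mathlib.RingTheory.Flat.Basic
import Mathlib.RingTheory.Flat.EquationalCriterion
import Mathlib.RingTheory.Localization.BaseChange
import Mathlib.RingTheory.TensorProduct.Quotient
import Mathlib.RingTheory.Finiteness.ModuleFinitePresentation
import Mathlib.RingTheory.Localization.Away.Basic
import Mathlib.RingTheory.FiniteStability
import Mathlib.LinearAlgebra.TensorProduct.Prod

/-!
# Content ideals for flat algebras which are generically finite

* `mem_map_ker`, `mem_map_inf`, `mem_map_colon`: kernels and intersections commute with flat extension;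
* `exists_content`: if `C` is finite over `B / a` after inverting `G`, an element of `M C` with `a M ≤ L`
  has a finitely generated content ideal modulo `L` and powers of `G`.
-/

set_option autoImplicit false
universe u
open TensorProduct
set_option backward.isDefEq.respectTransparency false

namespace GrothLib.AlgSp.NilContent

variable {B C : Type u} [CommRing B] [CommRing C] [Algebra B C]

local notation "φ" => algebraMap B C

theorem tmul_eq_zero_iff_mem_map (K : Ideal B) (z : C) :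
    z ⊗ₜ[B] (1 : B ⧸ K) = 0 ↔ z ∈ K.map φ := by
  rw [← Algebra.TensorProduct.quotIdealMapEquivTensorQuot_mk, map_eq_zero_iff _
    (Algebra.TensorProduct.quotIdealMapEquivTensorQuot C K).injective, Ideal.Quotient.eq_zero_iff_mem]

theorem rid_mem_map (K : Ideal B) (w : C ⊗[B] K) :
    TensorProduct.rid B C (LinearMap.lTensor C K.subtype w) ∈ K.map φ := by
  induction w using TensorProduct.induction_on with
  | zero => simp
  | tmul c k =>
    rw [LinearMap.lTensor_tmul, TensorProduct.rid_tmul, Algebra.smul_def]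
    exact Ideal.mul_mem_right _ _ (Ideal.mem_map_of_mem _ k.2)
  | add x y hx hy => rw [map_add, map_add]; exact add_mem hx hy

theorem mem_map_ker [Module.Flat B C] {N : Type u} [AddCommGroup N] [Module B N] (f : B →ₗ[B] N) (z : C)
    (h : LinearMap.lTensor C f (z ⊗ₜ 1) = 0) : z ∈ Ideal.map φ (LinearMap.ker f) := by
  obtain ⟨w, hw⟩ := (Module.Flat.lTensor_exact C (LinearMap.exact_subtype_ker_map f) _).1 h
  have := rid_mem_map (C := C) (LinearMap.ker f) w
  rwa [hw, TensorProduct.rid_tmul, one_smul] at this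

theorem mem_map_inf [Module.Flat B C] (K₁ K₂ : Ideal B) (z : C) (h₁ : z ∈ K₁.map φ) (h₂ : z ∈ K₂.map φ) :
    z ∈ (K₁ ⊓ K₂).map φ := by
  let f : B →ₗ[B] (B ⧸ K₁) × (B ⧸ K₂) := (Submodule.mkQ K₁).prod (Submodule.mkQ K₂)
  have hk : LinearMap.ker f = K₁ ⊓ K₂ := by rw [LinearMap.ker_prod, Submodule.ker_mkQ, Submodule.ker_mkQ]
  rw [← hk]
  refine mem_map_ker f z ((TensorProduct.prodRight B B C (B ⧸ K₁) (B ⧸ K₂)).injective ?_)
  rw [LinearMap.lTensor_tmul, map_zero]
  exact Prod.ext ((tmul_eq_zero_iff_mem_map K₁ z).2 h₁) ((tmul_eq_zero_iff_mem_map K₂ z).2 h₂)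

theorem mem_map_colon_singleton [Module.Flat B C] (L : Ideal B) (a : B) (z : C) (h : φ a * z ∈ L.map φ) :
    z ∈ Ideal.map φ (LinearMap.ker ((Submodule.mkQ L).comp (LinearMap.mul B B a))) := by
  refine mem_map_ker _ z ?_
  rw [LinearMap.lTensor_tmul]
  have : ((Submodule.mkQ L).comp (LinearMap.mul B B a)) 1 = a • (1 : B ⧸ L) := by
    show Submodule.Quotient.mk (a * 1) = _
    rw [← smul_eq_mul, Submodule.Quotient.mk_smul]
    rfl
  rw [this, ← TensorProduct.smul_tmul, Algebra.smul_def]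
  exact (tmul_eq_zero_iff_mem_map L _).2 h

theorem mem_map_colon [Module.Flat B C] (F L : Ideal B) (s : Finset B) (z : C) (hz : z ∈ F.map φ)
    (h : ∀ a ∈ s, φ a * z ∈ L.map φ) :
    ∃ M : Ideal B, M ≤ F ∧ (∀ y, y ∈ M ↔ y ∈ F ∧ ∀ a ∈ s, a * y ∈ L) ∧ z ∈ M.map φ := by
  classical
  induction s using Finset.induction_on with
  | empty => exact ⟨F, le_rfl, fun y => by simp, hz⟩
  | @insert a s _ ih =>
    obtain ⟨M, hM, hmem, hzM⟩ := ih fun b hb => h b (Finset.mem_insert_of_mem hb)
    refine ⟨M ⊓ LinearMap.ker ((Submodule.mkQ L).comp (LinearMap.mul B B a)), inf_le_left.trans hM, fun y => ?_,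
      mem_map_inf _ _ z hzM (mem_map_colon_singleton L a z (h a (Finset.mem_insert_self _ _)))⟩
    have hy : y ∈ LinearMap.ker ((Submodule.mkQ L).comp (LinearMap.mul B B a)) ↔ a * y ∈ L := by
      rw [LinearMap.mem_ker]; exact Submodule.Quotient.mk_eq_zero L
    simp only [Submodule.mem_inf, hy, hmem, Finset.forall_mem_insert]
    tauto

/-- `B / a` with `G` inverted. -/
abbrev AwayQuot (G : B) (a : Ideal B) : Type u := Localization.Away G ⊗[B] (B ⧸ a)

theorem exists_pow_smul_eq_tmul {X : Type u} [AddCommGroup X] [Module B X] (G : B) (a : Ideal B)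
    (y : AwayQuot G a ⊗[B] X) : ∃ (n : ℕ) (x : X), G ^ n • y = (1 : AwayQuot G a) ⊗ₜ x := by
  have hR : ∀ r : AwayQuot G a, ∃ (n : ℕ) (b : B), G ^ n • r = b • 1 := by
    intro r
    obtain ⟨⟨w, ⟨-, n, rfl⟩⟩, hw⟩ :=
      IsLocalizedModule.surj (Submonoid.powers G) (TensorProduct.mk B (Localization.Away G) (B ⧸ a) 1) r
    obtain ⟨b, rfl⟩ := Ideal.Quotient.mk_surjective w
    refine ⟨n, b, hw.trans ?_⟩
    have : Ideal.Quotient.mk a b = b • (1 : B ⧸ a) := by
      rw [Algebra.smul_def, mul_one]; rfl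
    rw [this, map_smul]
    rfl
  induction y using TensorProduct.induction_on with
  | zero => exact ⟨0, 0, by rw [smul_zero, tmul_zero]⟩
  | tmul r x =>
    obtain ⟨n, b, hb⟩ := hR r
    exact ⟨n, b • x, by rw [smul_tmul', hb, smul_tmul]⟩
  | add p q hp hq =>
    obtain ⟨n, x, hx⟩ := hp
    obtain ⟨m, y', hy⟩ := hq
    refine ⟨n + m, G ^ m • x + G ^ n • y', ?_⟩
    rw [smul_add, pow_add, tmul_add, tmul_smul, tmul_smul, ← hx, ← hy, smul_smul, smul_smul, mul_comm]

theorem exists_pow_smul_eq_zero {X : Type u} [AddCommGroup X] [Module B X] (G : B) (a : Ideal B)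
    (hX : ∀ r ∈ a, ∀ x : X, r • x = 0) (x : X) (h : (1 : AwayQuot G a) ⊗ₜ[B] x = 0) :
    ∃ n : ℕ, G ^ n • x = 0 := by
  let θ : (B ⧸ a) ⊗[B] X →ₗ[B] X :=
    TensorProduct.lift (Submodule.liftQ a (LinearMap.lsmul B X) fun r hr => LinearMap.ext fun x' => hX r hr x')
  have h1 : (1 : Localization.Away G) ⊗ₜ[B] ((1 : B ⧸ a) ⊗ₜ[B] x) = 0 := by
    have := congrArg (TensorProduct.assoc B (Localization.Away G) (B ⧸ a) X) h
    rwa [Algebra.TensorProduct.one_def, TensorProduct.assoc_tmul, map_zero] at this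
  have hθ : θ ((1 : B ⧸ a) ⊗ₜ[B] x) = x := by
    have h0 : (1 : B ⧸ a) = Submodule.Quotient.mk (1 : B) := rfl
    simp only [θ, h0, TensorProduct.lift.tmul]
    exact one_smul B x
  have h2 := congrArg (LinearMap.lTensor (Localization.Away G) θ) h1
  rw [LinearMap.lTensor_tmul, map_zero, hθ] at h2
  obtain ⟨⟨-, n, rfl⟩, hn⟩ := (IsLocalizedModule.eq_zero_iff (Submonoid.powers G)
    (TensorProduct.mk B (Localization.Away G) X 1)).1 h2
  exact ⟨n, hn⟩

/-- A dual basis with cleared denominators. -/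
theorem exists_dual_basis [Module.Flat B C] [Algebra.FinitePresentation B C] (G : B) (a : Ideal B)
    (hfin : Module.Finite (AwayQuot G a) (AwayQuot G a ⊗[B] C)) :
    ∃ (N n : ℕ) (c : Fin n → C) (p : Fin n → (C →ₗ[B] AwayQuot G a)),
      ∀ x : C, ∑ j, p j x ⊗ₜ[B] c j = G ^ N • ((1 : AwayQuot G a) ⊗ₜ[B] x) := by
  classical
  have := hfin
  have : Algebra.FinitePresentation (AwayQuot G a) (AwayQuot G a ⊗[B] C) := inferInstance
  have := Module.FinitePresentation.of_finite_of_finitePresentation (AwayQuot G a) (AwayQuot G a ⊗[B] C)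
  have : Module.Flat (AwayQuot G a) (AwayQuot G a ⊗[B] C) := inferInstance
  have : Module.Projective (AwayQuot G a) (AwayQuot G a ⊗[B] C) :=
    @Module.Flat.projective_of_finitePresentation (AwayQuot G a) (AwayQuot G a ⊗[B] C) _ _ _ _ _
  obtain ⟨n, π, hπ⟩ := Module.Finite.exists_fin' (AwayQuot G a) (AwayQuot G a ⊗[B] C)
  obtain ⟨s, hs⟩ := Module.projective_lifting_property π LinearMap.id hπ
  choose m c hc using fun j => exists_pow_smul_eq_tmul G a (π (Pi.single j 1))
  let N := Finset.univ.sup m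
  refine ⟨N, n, fun j => G ^ (N - m j) • c j,
    fun j => ((LinearMap.proj j).comp s).restrictScalars B ∘ₗ TensorProduct.mk B (AwayQuot G a) C 1, fun x => ?_⟩
  have hx : (1 : AwayQuot G a) ⊗ₜ[B] x = ∑ j, s (1 ⊗ₜ[B] x) j • π (Pi.single j 1) := by
    have h1 : π (s (1 ⊗ₜ[B] x)) = 1 ⊗ₜ[B] x := LinearMap.congr_fun hs _
    conv_lhs => rw [← h1, pi_eq_sum_univ' (s (1 ⊗ₜ[B] x)), map_sum]
    exact Finset.sum_congr rfl fun j _ => map_smul _ _ _
  conv_rhs => rw [hx, Finset.smul_sum]
  refine Finset.sum_congr rfl fun j _ => ?_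
  have hN : G ^ N • π (Pi.single j 1) = (1 : AwayQuot G a) ⊗ₜ[B] (G ^ (N - m j) • c j) := by
    rw [tmul_smul, ← hc j, smul_smul, ← pow_add, Nat.sub_add_cancel (Finset.le_sup (Finset.mem_univ j))]
  rw [smul_comm, hN, TensorProduct.smul_tmul', smul_eq_mul, mul_one]
  rfl

/-- **Content ideals.** -/
theorem exists_content [Module.Flat B C] [Algebra.FinitePresentation B C] (G : B) (a L M : Ideal B) (hLM : L ≤ M)
    (haM : ∀ r ∈ a, ∀ y ∈ M, r * y ∈ L)
    (hfin : Module.Finite (AwayQuot G a) (AwayQuot G a ⊗[B] C)) (z : C) (hz : z ∈ M.map φ) :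
    ∃ E : Ideal B, E.FG ∧ E ≤ M ∧ (∃ n, φ (G ^ n) * z ∈ (E ⊔ L).map φ) ∧
      ∀ K : Ideal B, L ≤ K → K ≤ M → ∀ n, φ (G ^ n) * z ∈ K.map φ → ∃ m, ∀ e ∈ E, G ^ m * e ∈ K := by
  classical
  obtain ⟨N, n, c, p, hp⟩ := exists_dual_basis G a hfin
  let X := Submodule.map (Submodule.mkQ L) M
  let ω : C ⊗[B] X →ₗ[B] C ⊗[B] (B ⧸ L) := LinearMap.lTensor C X.subtype
  have hω : Function.Injective ω := Module.Flat.lTensor_preserves_injective_linearMap _ X.injective_subtype
  have hX : ∀ r ∈ a, ∀ x : X, r • x = 0 := by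
    rintro r hr ⟨-, y, hy, rfl⟩
    exact Subtype.ext ((Submodule.Quotient.mk_eq_zero L).2 (haM r hr y hy))
  have hCX : ∀ r ∈ a, ∀ x : C ⊗[B] X, r • x = 0 := by
    intro r hr x
    induction x using TensorProduct.induction_on with
    | zero => rw [smul_zero]
    | tmul c x => rw [← tmul_smul, hX r hr x, tmul_zero]
    | add p q hp hq => rw [smul_add, hp, hq, add_zero]
  -- elements of `K C` come from `C ⊗ (K / L)`
  have key : ∀ (K : Ideal B), L ≤ K → K ≤ M → ∀ y ∈ K.map φ, ∃ w : C ⊗[B] Submodule.map (Submodule.mkQ L) K,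
      LinearMap.lTensor C (Submodule.map (Submodule.mkQ L) K).subtype w = y ⊗ₜ[B] (1 : B ⧸ L) := by
    intro K _ _ y hy
    rw [Ideal.map] at hy
    induction hy using Submodule.span_induction with
    | mem y hy =>
      obtain ⟨k, hk, rfl⟩ := hy
      refine ⟨1 ⊗ₜ ⟨_, k, hk, rfl⟩, ?_⟩
      rw [LinearMap.lTensor_tmul, Algebra.algebraMap_eq_smul_one, smul_tmul]
      congr 1
      show Submodule.Quotient.mk k = k • (1 : B ⧸ L)
      rw [← mul_one k, ← smul_eq_mul, Submodule.Quotient.mk_smul]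
      simp
    | zero => exact ⟨0, by rw [map_zero, zero_tmul]⟩
    | add y y' _ _ hy hy' =>
      obtain ⟨w, hw⟩ := hy
      obtain ⟨w', hw'⟩ := hy'
      exact ⟨w + w', by rw [map_add, hw, hw', add_tmul]⟩
    | smul d y _ hy =>
      obtain ⟨w, hw⟩ := hy
      refine ⟨LinearMap.rTensor _ (LinearMap.mulLeft B d) w, ?_⟩
      rw [← LinearMap.comp_apply, LinearMap.lTensor_comp_rTensor, ← LinearMap.rTensor_comp_lTensor,
        LinearMap.comp_apply, hw, LinearMap.rTensor_tmul]
      rfl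
  obtain ⟨z', hz'⟩ := key M hLM le_rfl z hz
  let Φ := fun j => LinearMap.rTensor X (p j)
  choose q e he using fun j => exists_pow_smul_eq_tmul G a (Φ j z')
  let Q := Finset.univ.sup q
  choose e₀ he₀ he₁ using fun j => (G ^ (Q - q j) • e j : X).2
  have hQ : ∀ j, G ^ Q • Φ j z' = (1 : AwayQuot G a) ⊗ₜ[B] (G ^ (Q - q j) • e j) := fun j => by
    rw [tmul_smul, ← he j, smul_smul, ← pow_add, Nat.sub_add_cancel (Finset.le_sup (Finset.mem_univ j))]
  refine ⟨Ideal.span (Set.range e₀), Submodule.fg_span (Set.finite_range _),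
    Ideal.span_le.2 (Set.range_subset_iff.2 he₀), ?_, ?_⟩
  · -- `G ^ n z ∈ E C`
    have hid : ∀ w : C ⊗[B] X, ∑ j, LinearMap.lTensor (AwayQuot G a) (TensorProduct.mk B C X (c j)) (Φ j w)
        = G ^ N • ((1 : AwayQuot G a) ⊗ₜ[B] w) := by
      intro w
      induction w using TensorProduct.induction_on with
      | zero => simp
      | tmul x y =>
        have := congrArg (fun v => TensorProduct.assoc B (AwayQuot G a) C X (v ⊗ₜ[B] y)) (hp x)
        simp only [sum_tmul, map_sum, TensorProduct.assoc_tmul, ← smul_tmul', map_smul] at this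
        simpa [Φ] using this
      | add v w hv hw => simp only [map_add, Finset.sum_add_distrib, hv, hw, tmul_add, smul_add]
    have h1 : (1 : AwayQuot G a) ⊗ₜ[B] (G ^ (N + Q) • z' - ∑ j, c j ⊗ₜ[B] (G ^ (Q - q j) • e j)) = 0 := by
      rw [tmul_sub, tmul_smul, tmul_sum, sub_eq_zero, pow_add, mul_comm, ← smul_smul, ← hid, Finset.smul_sum]
      refine Finset.sum_congr rfl fun j _ => ?_
      rw [← map_smul, hQ j, LinearMap.lTensor_tmul]
      rfl
    obtain ⟨m, hm⟩ := exists_pow_smul_eq_zero G a hCX _ h1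
    refine ⟨m + (N + Q), ?_⟩
    have h2 : φ (G ^ (m + (N + Q))) * z - φ (G ^ m) * ∑ j, c j * φ (e₀ j) ∈ L.map φ := by
      rw [← tmul_eq_zero_iff_mem_map]
      have h3 := congrArg ω hm
      rw [map_zero, smul_sub, smul_smul, ← pow_add, map_sub, map_smul, map_smul, map_sum] at h3
      rw [sub_tmul]
      refine Eq.trans ?_ h3
      congr 1
      · show _ = G ^ (m + (N + Q)) • LinearMap.lTensor C X.subtype z'
        rw [hz', smul_tmul', Algebra.smul_def]
      · rw [← Algebra.smul_def, ← smul_tmul', sum_tmul]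
        refine congrArg _ (Finset.sum_congr rfl fun j _ => ?_)
        show _ = c j ⊗ₜ[B] ((G ^ (Q - q j) • e j : X) : B ⧸ L)
        rw [← he₁ j, mul_comm, ← Algebra.smul_def, smul_tmul]
        congr 1
        show e₀ j • (1 : B ⧸ L) = Submodule.Quotient.mk (e₀ j)
        rw [← mul_one (e₀ j), ← smul_eq_mul, Submodule.Quotient.mk_smul]
        simp
    have h4 : φ (G ^ m) * ∑ j, c j * φ (e₀ j) ∈ (Ideal.span (Set.range e₀) ⊔ L).map φ :=
      Ideal.mul_mem_left _ _ (Ideal.sum_mem _ fun j _ => Ideal.mul_mem_left _ _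
        (Ideal.mem_map_of_mem _ (Ideal.mem_sup_left (Ideal.subset_span ⟨j, rfl⟩))))
    simpa using add_mem (Ideal.map_mono le_sup_right h2) h4
  · -- minimality
    intro K hLK hKM d hd
    obtain ⟨w, hw⟩ := key K hLK hKM _ hd
    let incl : Submodule.map (Submodule.mkQ L) K →ₗ[B] X := Submodule.inclusion (Submodule.map_mono hKM)
    have hinc : LinearMap.lTensor C incl w = G ^ d • z' := hω (by
      rw [map_smul]
      show LinearMap.lTensor C X.subtype (LinearMap.lTensor C incl w) = G ^ d • LinearMap.lTensor C X.subtype z'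
      rw [hz', ← LinearMap.comp_apply, ← LinearMap.lTensor_comp, smul_tmul', Algebra.smul_def]
      exact hw)
    have hj : ∀ j, ∃ m, G ^ m * e₀ j ∈ K := by
      intro j
      obtain ⟨r, k, hk⟩ := exists_pow_smul_eq_tmul G a (LinearMap.rTensor _ (p j) w)
      have h1 : (1 : AwayQuot G a) ⊗ₜ[B] (G ^ (r + d) • (G ^ (Q - q j) • e j) - G ^ Q • incl k) = 0 := by
        have e1 : (1 : AwayQuot G a) ⊗ₜ[B] (G ^ (r + d) • (G ^ (Q - q j) • e j)) =
            G ^ (r + d) • G ^ Q • Φ j z' := by rw [tmul_smul, hQ j]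
        have e2 : (1 : AwayQuot G a) ⊗ₜ[B] incl k =
            G ^ r • G ^ d • Φ j z' := by
          rw [← LinearMap.lTensor_tmul (AwayQuot G a) incl, ← hk, map_smul, ← LinearMap.comp_apply,
            LinearMap.lTensor_comp_rTensor, ← LinearMap.rTensor_comp_lTensor, LinearMap.comp_apply, hinc, map_smul]
        rw [tmul_sub, e1, tmul_smul, e2, sub_eq_zero, smul_smul, smul_smul, smul_smul, ← pow_add, ← pow_add, ← pow_add]
        congr 2
        ring
      obtain ⟨m, hm⟩ := exists_pow_smul_eq_zero G a hX _ h1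
      rw [smul_sub, sub_eq_zero, smul_smul (G ^ m), smul_smul (G ^ m), ← pow_add, ← pow_add] at hm
      refine ⟨m + (r + d), ?_⟩
      obtain ⟨k₀, hk₀, hk₁⟩ := k.2
      have h5 : (Submodule.mkQ L) (G ^ (m + (r + d)) * e₀ j) = (Submodule.mkQ L) (G ^ (m + Q) * k₀) := by
        rw [← smul_eq_mul, ← smul_eq_mul, map_smul, map_smul, he₁ j, hk₁]
        exact congrArg Subtype.val hm
      have h6 := hLK ((Submodule.Quotient.eq L).1 h5)
      simpa using add_mem h6 (K.mul_mem_left (G ^ (m + Q)) hk₀)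
    choose m hm using hj
    refine ⟨Finset.univ.sup m, fun x hx => ?_⟩
    induction hx using Submodule.span_induction with
    | mem x hx =>
      obtain ⟨j, rfl⟩ := hx
      rw [← Nat.sub_add_cancel (Finset.le_sup (f := m) (Finset.mem_univ j)), pow_add, mul_assoc]
      exact K.mul_mem_left _ (hm j)
    | zero => rw [mul_zero]; exact zero_mem _
    | add x y _ _ hx hy => rw [mul_add]; exact add_mem hx hy
    | smul r x _ hx => rw [smul_eq_mul, mul_left_comm]; exact K.mul_mem_left _ hx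

end GrothLib.AlgSp.NilContent
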