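import Mathlib.RingTheory.QuasiFinite.Basic
import Mathlib.RingTheory.Etale.QuasiFinite
import Mathlib.RingTheory.Localization.BaseChange
import Mathlib.RingTheory.TensorProduct.Quotient

/-!
# Generic finiteness of quasi-finite algebras
-/

set_option autoImplicit false
universe u
open TensorProduct
set_option backward.isDefEq.respectTransparency false

namespace GrothLib.AlgSp.NilContent

variable {A B : Type u} [CommRing A] [CommRing B] [Algebra A B] [Algebra.FiniteType A B] [Algebra.QuasiFinite A B]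

/-- Over a dense open subset of an integral closed subscheme, a quasi-finite algebra is spanned by finitely
many elements. -/
theorem exists_generic_span_aux (p : Ideal A) [p.IsPrime] (L : Type u) [Field L] [Algebra (A ⧸ p) L]
    [IsFractionRing (A ⧸ p) L] :
    ∃ g, g ∉ p ∧ ∃ β : Finset B, ∀ b : B, ∃ n : ℕ,
      g ^ n • b ∈ Submodule.span A (β : Set B) ⊔ (p.map (algebraMap A B)).restrictScalars A := by
  classical
  let W := (p.map (algebraMap A B)).restrictScalars A
  have : Module.Finite L (L ⊗[A ⧸ p] ((A ⧸ p) ⊗[A] B)) := by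
    exact Module.Finite.of_quasiFinite (R := L) (S := L ⊗[A ⧸ p] ((A ⧸ p) ⊗[A] B))
  obtain ⟨s, hs⟩ := (Module.finite_def.1 this : (⊤ : Submodule L (L ⊗[A ⧸ p] ((A ⧸ p) ⊗[A] B))).FG)
  have hm : ∀ m : (A ⧸ p) ⊗[A] B, ∃ b, m = 1 ⊗ₜ b := fun m => by
    induction m using TensorProduct.induction_on with
    | zero => exact ⟨0, by rw [tmul_zero]⟩
    | tmul x b =>
      obtain ⟨a, rfl⟩ := Ideal.Quotient.mk_surjective x
      refine ⟨a • b, ?_⟩
      rw [← smul_tmul, Algebra.smul_def, mul_one]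
      rfl
    | add x y hx hy =>
      obtain ⟨a, rfl⟩ := hx
      obtain ⟨b, rfl⟩ := hy
      exact ⟨a + b, by rw [tmul_add]⟩
  let κ : (A ⧸ p) ⊗[A] B →ₗ[A ⧸ p] L ⊗[A ⧸ p] ((A ⧸ p) ⊗[A] B) := TensorProduct.mk (A ⧸ p) L _ 1
  -- generators
  have hgen : ∀ x : L ⊗[A ⧸ p] ((A ⧸ p) ⊗[A] B),
      ∃ (d : nonZeroDivisors (A ⧸ p)) (b : B), (d : A ⧸ p) • x = κ (1 ⊗ₜ b) := fun x => by
    obtain ⟨⟨m, d⟩, h⟩ := IsLocalizedModule.surj (nonZeroDivisors (A ⧸ p)) κ x
    obtain ⟨b, rfl⟩ := hm m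
    exact ⟨d, b, h⟩
  choose d bx hbx using hgen
  let β : Finset B := insert 1 (s.image bx)
  let V := Submodule.span A (β : Set B) ⊔ W
  -- every element is in `V` up to an element outside `p`
  have hQ : ∀ b : B, ∃ g, g ∉ p ∧ g • b ∈ V := by
    have hx : ∀ x, ∃ (e : nonZeroDivisors (A ⧸ p)) (b : B), b ∈ V ∧ (e : A ⧸ p) • x = κ (1 ⊗ₜ b) := by
      intro x
      have hxs : x ∈ Submodule.span L (s : Set (L ⊗[A ⧸ p] ((A ⧸ p) ⊗[A] B))) := hs ▸ Submodule.mem_top
      induction hxs using Submodule.span_induction with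
      | mem x hx => exact ⟨d x, bx x, Submodule.mem_sup_left (Submodule.subset_span
          (Finset.mem_insert_of_mem (Finset.mem_image_of_mem bx hx))), hbx x⟩
      | zero => exact ⟨1, 0, zero_mem _, by rw [smul_zero, tmul_zero, map_zero]⟩
      | add x y _ _ hx hy =>
        obtain ⟨e, b, hb, he⟩ := hx
        obtain ⟨e', b', hb', he'⟩ := hy
        obtain ⟨a, ha⟩ := Ideal.Quotient.mk_surjective (e : A ⧸ p)
        obtain ⟨a', ha'⟩ := Ideal.Quotient.mk_surjective (e' : A ⧸ p)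
        refine ⟨e * e', a' • b + a • b', add_mem (V.smul_mem _ hb) (V.smul_mem _ hb'), ?_⟩
        rw [tmul_add, map_add, tmul_smul, tmul_smul, ← IsScalarTower.algebraMap_smul (A ⧸ p) a',
          ← IsScalarTower.algebraMap_smul (A ⧸ p) a, map_smul, map_smul, ← he, ← he', smul_smul, smul_smul,
          Ideal.Quotient.algebraMap_eq, ha, ha', smul_add, Submonoid.coe_mul, mul_comm (e' : A ⧸ p)]
      | smul c x _ hx =>
        obtain ⟨e, b, hb, he⟩ := hx
        obtain ⟨⟨a, f⟩, hf⟩ := IsLocalization.surj (nonZeroDivisors (A ⧸ p)) c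
        obtain ⟨a₀, rfl⟩ := Ideal.Quotient.mk_surjective a
        refine ⟨f * e, a₀ • b, V.smul_mem _ hb, ?_⟩
        rw [tmul_smul, ← IsScalarTower.algebraMap_smul (A ⧸ p) a₀, map_smul, ← he, Submonoid.coe_mul,
          Ideal.Quotient.algebraMap_eq, smul_smul, ← IsScalarTower.algebraMap_smul L ((f : A ⧸ p) * e),
          ← IsScalarTower.algebraMap_smul L (Ideal.Quotient.mk p a₀ * e), smul_smul, map_mul, map_mul, ← hf]
        congr 1
        ring
    intro b
    obtain ⟨e, b', hb', he⟩ := hx (κ (1 ⊗ₜ b))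
    rw [← map_smul, ← sub_eq_zero, ← map_sub] at he
    obtain ⟨⟨f, hf⟩, hf'⟩ := (IsLocalizedModule.eq_zero_iff (nonZeroDivisors (A ⧸ p)) κ).1 he
    obtain ⟨a, ha⟩ := Ideal.Quotient.mk_surjective (e : A ⧸ p)
    obtain ⟨f₀, rfl⟩ := Ideal.Quotient.mk_surjective f
    have hne : ∀ (a : A), Ideal.Quotient.mk p a ∈ nonZeroDivisors (A ⧸ p) → a ∉ p := fun a h h' =>
      nonZeroDivisors.ne_zero h (Ideal.Quotient.eq_zero_iff_mem.2 h')
    refine ⟨f₀ * a, fun h => (Ideal.IsPrime.mem_or_mem ‹_› h).elim (hne f₀ hf) (hne a (ha ▸ e.2)), ?_⟩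
    have h2 : (1 : A ⧸ p) ⊗ₜ[A] (f₀ • (a • b - b')) = 0 := by
      have h3 : (Ideal.Quotient.mk p f₀) • ((e : A ⧸ p) • ((1 : A ⧸ p) ⊗ₜ[A] b) - 1 ⊗ₜ[A] b') = 0 := hf'
      rw [← ha, ← Ideal.Quotient.algebraMap_eq, IsScalarTower.algebraMap_smul, IsScalarTower.algebraMap_smul,
        ← tmul_smul, ← tmul_sub, ← tmul_smul] at h3
      exact h3
    have h4 : f₀ • (a • b - b') ∈ W := by
      have h5 := congrArg (TensorProduct.comm A (A ⧸ p) B) h2
      rw [TensorProduct.comm_tmul, map_zero] at h5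
      rw [← Algebra.TensorProduct.quotIdealMapEquivTensorQuot_mk, map_eq_zero_iff _
        (Algebra.TensorProduct.quotIdealMapEquivTensorQuot B p).injective, Ideal.Quotient.eq_zero_iff_mem] at h5
      exact h5
    have h6 := add_mem (Submodule.mem_sup_right (S := Submodule.span A (β : Set B)) h4) (V.smul_mem f₀ hb')
    rw [smul_sub, sub_add_cancel, smul_smul] at h6
    exact h6
  choose q hq hqV using hQ
  obtain ⟨gens, hgens⟩ := Algebra.FiniteType.out (R := A) (A := B)
  let g := ∏ y ∈ gens, ∏ x ∈ β, q (y * x)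
  refine ⟨g, fun h => ?_, β, ?_⟩
  · obtain ⟨y, -, hy⟩ := (Ideal.IsPrime.prod_mem_iff).1 h
    obtain ⟨x, -, hx⟩ := (Ideal.IsPrime.prod_mem_iff).1 hy
    exact hq _ hx
  -- the elements reachable
  let N : Submodule A B :=
    { carrier := {b | ∃ n : ℕ, g ^ n • b ∈ V}
      zero_mem' := ⟨0, by rw [smul_zero]; exact zero_mem _⟩
      add_mem' := fun {b b'} ⟨n, hn⟩ ⟨m, hm⟩ => ⟨n + m, by
        rw [smul_add, pow_add]
        refine add_mem ?_ ?_
        · rw [mul_comm, ← smul_smul]; exact V.smul_mem _ hn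
        · rw [← smul_smul]; exact V.smul_mem _ hm⟩
      smul_mem' := fun c b ⟨n, hn⟩ => ⟨n, by rw [smul_comm]; exact V.smul_mem _ hn⟩ }
  have hVN : ∀ b ∈ V, b ∈ N := fun b hb => ⟨0, by rw [pow_zero, one_smul]; exact hb⟩
  have hy : ∀ y ∈ gens, ∀ b ∈ N, y * b ∈ N := by
    intro y hy
    have hV : ∀ v ∈ V, y * v ∈ N := by
      intro v hv
      obtain ⟨v₁, hv₁, v₂, hv₂, rfl⟩ := Submodule.mem_sup.1 hv
      rw [mul_add]
      refine add_mem ?_ (hVN _ (Submodule.mem_sup_right (Ideal.mul_mem_left _ y hv₂)))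
      clear hv
      induction hv₁ using Submodule.span_induction with
      | mem x hx =>
        obtain ⟨c, hc⟩ : q (y * x) ∣ g :=
          (Finset.dvd_prod_of_mem _ hx).trans (Finset.dvd_prod_of_mem (fun y => ∏ x ∈ β, q (y * x)) hy)
        exact ⟨1, by rw [pow_one, hc, mul_comm, ← smul_smul]; exact V.smul_mem _ (hqV _)⟩
      | zero => rw [mul_zero]; exact zero_mem _
      | add a b _ _ ha hb => rw [mul_add]; exact add_mem ha hb
      | smul c a _ ha => rw [mul_smul_comm]; exact N.smul_mem c ha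
    rintro b ⟨n, hn⟩
    obtain ⟨m, hm⟩ := hV _ hn
    exact ⟨m + n, by rwa [pow_add, ← smul_smul, ← mul_smul_comm]⟩
  intro b
  suffices ∀ a ∈ Algebra.adjoin A (gens : Set B), ∀ x ∈ N, a * x ∈ N by
    have h := this b (hgens ▸ Algebra.mem_top) 1
      (hVN 1 (Submodule.mem_sup_left (Submodule.subset_span (Finset.mem_insert_self _ _))))
    rwa [mul_one] at h
  intro a ha
  induction ha using Algebra.adjoin_induction with
  | mem y hy' => exact hy y hy'
  | algebraMap r => intro x hx; rw [← Algebra.smul_def]; exact N.smul_mem r hx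
  | add a c _ _ ha hc => intro x hx; rw [add_mul]; exact add_mem (ha x hx) (hc x hx)
  | mul a c _ _ ha hc => intro x hx; rw [mul_assoc]; exact ha _ (hc x hx)

/-- Over a dense open subset of an integral closed subscheme, a quasi-finite algebra is spanned by finitely
many elements. -/
theorem exists_generic_span (p : Ideal A) [p.IsPrime] :
    ∃ g, g ∉ p ∧ ∃ β : Finset B, ∀ b : B, ∃ n : ℕ,
      g ^ n • b ∈ Submodule.span A (β : Set B) ⊔ (p.map (algebraMap A B)).restrictScalars A :=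
  exists_generic_span_aux p (FractionRing (A ⧸ p))

end GrothLib.AlgSp.NilContent
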