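import Groth.Agent.Lib.AlgSp.NilContent
import Mathlib.RingTheory.Noetherian.Basic
import Mathlib.RingTheory.IntegralClosure.IsIntegralClosure.Basic

/-!
# Finitely generated invariant ideals

For a flat relation `φ, t : B ⟶ C` which is generically finite along the primes of a Noetherian ring
`P → B`, every element of an invariant ideal lies in a finitely generated invariant ideal.
-/

set_option autoImplicit false
universe u v
open TensorProduct
set_option backward.isDefEq.respectTransparency false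

namespace GrothLib.AlgSp.NilContent

variable {B C : Type u} [CommRing B] [CommRing C] [Algebra B C]

local notation "φ" => algebraMap B C

/-- An ideal is invariant under the second map. -/
def Invariant (t : B →+* C) (K : Ideal B) : Prop := K.map t ≤ K.map φ

theorem Invariant.sup {t : B →+* C} {K₁ K₂ : Ideal B} (h₁ : Invariant t K₁) (h₂ : Invariant t K₂) :
    Invariant t (K₁ ⊔ K₂) := by
  rw [Invariant, Ideal.map_sup, Ideal.map_sup]
  exact sup_le_sup h₁ h₂

theorem invariant_bot (t : B →+* C) : Invariant t (⊥ : Ideal B) := by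
  rw [Invariant, Ideal.map_bot]; exact bot_le

/-- The two consequences of being an equivalence relation that are needed. -/
structure RelData (t : B →+* C) : Prop where
  inv : ∀ (E : Ideal B), Invariant t ((E.map φ).comap t)
  unit : ∃ e : C →+* B, e.comp φ = RingHom.id B ∧ e.comp t = RingHom.id B

theorem RelData.comap_le {t : B →+* C} (h : RelData t) (E : Ideal B) : (E.map φ).comap t ≤ E := by
  intro y hy
  obtain ⟨e, he, het⟩ := h.unit
  have := Ideal.mem_map_of_mem e (Ideal.mem_comap.1 hy)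
  rwa [Ideal.map_map, he, Ideal.map_id, ← RingHom.comp_apply, het, RingHom.id_apply] at this

theorem finite_of_nil {R R' S T : Type u} [CommRing R] [CommRing R'] [CommRing S] [CommRing T] [Algebra R S]
    [Algebra R' T] [Algebra.FiniteType R S] (π : R →+* R') (hπ : Function.Surjective π) (γ : S →+* T)
    (hc : γ.comp (algebraMap R S) = (algebraMap R' T).comp π) (hγ : ∀ s, γ s = 0 → IsNilpotent s)
    [Module.Finite R' T] : Module.Finite R S := by
  have : Algebra.IsIntegral R S := by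
    refine ⟨fun s => ?_⟩
    obtain ⟨P, hP, hPs⟩ := IsIntegral.of_finite R' (γ s)
    obtain ⟨Q, hQ, -, hQm⟩ := Polynomial.lifts_and_natDegree_eq_and_monic (Polynomial.map_surjective π hπ P) hP
    have h0 : γ (Polynomial.eval₂ (algebraMap R S) s Q) = 0 := by
      rw [Polynomial.hom_eval₂, hc, ← Polynomial.eval₂_map, hQ]
      exact hPs
    obtain ⟨n, hn⟩ := hγ _ h0
    exact ⟨Q ^ n, hQm.pow n, by rw [Polynomial.eval₂_pow, hn]⟩
  exact Algebra.IsIntegral.finite

theorem finite_baseChange_of_nil [Algebra.FiniteType B C] {R R' : Type u} [CommRing R] [CommRing R'] [Algebra B R]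
    [Algebra B R'] (π : R →ₐ[B] R') (hπ : Function.Surjective π) (hker : RingHom.ker π ≤ nilradical R)
    (h : Module.Finite R' (R' ⊗[B] C)) : Module.Finite R (R ⊗[B] C) := by
  have := h
  let γ : R ⊗[B] C →ₐ[B] R' ⊗[B] C := Algebra.TensorProduct.map π (AlgHom.id B C)
  refine finite_of_nil (R' := R') π.toRingHom hπ γ.toRingHom (RingHom.ext fun r => ?_) fun s hs => ?_
  · show γ (r ⊗ₜ[B] 1) = π r ⊗ₜ[B] 1
    rw [Algebra.TensorProduct.map_tmul, map_one]
  · have h1 : s ∈ RingHom.ker γ := hs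
    rw [Algebra.TensorProduct.rTensor_ker π hπ] at h1
    refine mem_nilradical.1 ((Ideal.map_le_iff_le_comap.2 fun y hy => ?_) h1)
    exact Ideal.mem_comap.2 (mem_nilradical.2 (IsNilpotent.map (mem_nilradical.1 (hker hy)) _))

theorem finite_of_nilRadical [Algebra.FiniteType B C] (G : B) (a J : Ideal B) (haJ : a ≤ J) (hJ : J ≤ a.radical)
    (h : Module.Finite (AwayQuot G J) (AwayQuot G J ⊗[B] C)) :
    Module.Finite (AwayQuot G a) (AwayQuot G a ⊗[B] C) := by
  let q : (B ⧸ a) →ₐ[B] B ⧸ J := Ideal.Quotient.factorₐ B haJ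
  have hq : Function.Surjective q := Ideal.Quotient.factor_surjective haJ
  refine finite_baseChange_of_nil (Algebra.TensorProduct.map (AlgHom.id B (Localization.Away G)) q)
    (LinearMap.lTensor_surjective (Localization.Away G) (g := q.toLinearMap) hq) (fun r hr => ?_) h
  rw [Algebra.TensorProduct.lTensor_ker q hq] at hr
  refine (Ideal.map_le_iff_le_comap.2 fun y hy => ?_) hr
  obtain ⟨b, rfl⟩ := Ideal.Quotient.mk_surjective y
  have hb : b ∈ J := Ideal.Quotient.eq_zero_iff_mem.1 hy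
  obtain ⟨n, hn⟩ := hJ hb
  refine Ideal.mem_comap.2 (mem_nilradical.2 ⟨n, ?_⟩)
  rw [← map_pow, ← map_pow, Ideal.Quotient.eq_zero_iff_mem.2 hn, map_zero]

variable [Module.Flat B C] [Algebra.FinitePresentation B C]
variable {P : Type v} [CommRing P] [IsNoetherianRing P] (ψ : P →+* B)

/-- Every element of an invariant ideal lies in a finitely generated invariant ideal. -/
theorem exists_invariant_fg {t : B →+* C} (hd : RelData t)
    (hnil : ∀ p, IsNilpotent (t (ψ p) - φ (ψ p)))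
    (hfin : ∀ 𝔭 : Ideal P, 𝔭.IsPrime → ∃ g, g ∉ 𝔭 ∧
      Module.Finite (AwayQuot (ψ g) (𝔭.map ψ)) (AwayQuot (ψ g) (𝔭.map ψ) ⊗[B] C))
    (F : Ideal B) (hF : Invariant t F) (s : Finset B) (hs : ∀ x ∈ s, x ∈ F) :
    ∃ K : Ideal B, K.FG ∧ K ≤ F ∧ Invariant t K ∧ ∀ x ∈ s, x ∈ K := by
  classical
  suffices H : ∀ 𝔷 : Ideal P, ∀ L, Invariant t L → L ≤ F → ∀ x ∈ F, ∀ m : ℕ,
      (∀ r ∈ (Ideal.map ψ 𝔷) ^ m, r * x ∈ L) →
      ∃ K : Ideal B, K.FG ∧ K ≤ F ∧ Invariant t (L ⊔ K) ∧ x ∈ L ⊔ K by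
    induction s using Finset.induction_on with
    | empty => exact ⟨⊥, Submodule.fg_bot, bot_le, invariant_bot t, fun x hx => absurd hx (Finset.notMem_empty x)⟩
    | @insert a s _ ih =>
      obtain ⟨K, hK, hKF, hKi, hKs⟩ := ih fun x hx => hs x (Finset.mem_insert_of_mem hx)
      obtain ⟨K', hK', hK'F, hK'i, ha⟩ := H ⊥ K hKi hKF a (hs a (Finset.mem_insert_self _ _)) 1 (fun r hr => by
        rw [Ideal.map_bot, pow_one, Ideal.mem_bot] at hr
        rw [hr, zero_mul]; exact zero_mem _)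
      refine ⟨K ⊔ K', Submodule.FG.sup hK hK', sup_le hKF hK'F, hK'i, ?_⟩
      simp only [Finset.forall_mem_insert]
      exact ⟨ha, fun x hx => Ideal.mem_sup_left (hKs x hx)⟩
  intro 𝔷
  induction 𝔷 using WellFoundedGT.induction with
  | _ 𝔷 ih =>
  intro L hL hLF x hx m hm
  -- several elements supported on a smaller set
  have multi : ∀ (g : P), g ∉ 𝔷 → ∀ L, Invariant t L → L ≤ F → ∀ (s : Finset B), (∀ y ∈ s, y ∈ F) →
      ∀ p : ℕ, (∀ y ∈ s, ∀ r ∈ (Ideal.map ψ 𝔷) ^ p, r * y ∈ L) → (∀ y ∈ s, ∃ q, (ψ g) ^ q * y ∈ L) →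
      ∃ K : Ideal B, K.FG ∧ K ≤ F ∧ Invariant t (L ⊔ K) ∧ ∀ y ∈ s, y ∈ L ⊔ K := by
    intro g hg L hL hLF s
    induction s using Finset.induction_on with
    | empty => exact fun _ _ _ _ => ⟨⊥, Submodule.fg_bot, bot_le, by rwa [sup_bot_eq],
        fun x hx => absurd hx (Finset.notMem_empty x)⟩
    | @insert a s _ ih' =>
      intro hs p hp hq
      obtain ⟨K, hK, hKF, hKi, hKs⟩ := ih' (fun y hy => hs y (Finset.mem_insert_of_mem hy)) p
        (fun y hy => hp y (Finset.mem_insert_of_mem hy)) (fun y hy => hq y (Finset.mem_insert_of_mem hy))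
      obtain ⟨q, hq'⟩ := hq a (Finset.mem_insert_self _ _)
      have hlt : 𝔷 < 𝔷 ⊔ Ideal.span {g} := lt_of_le_of_ne le_sup_left fun e => hg (by
        rw [e]; exact Ideal.mem_sup_right (Ideal.mem_span_singleton_self g))
      obtain ⟨K', hK', hK'F, hK'i, ha⟩ := ih _ hlt (L ⊔ K) hKi (sup_le hLF hKF) a (hs a (Finset.mem_insert_self _ _))
        (p + q) (fun r hr => by
          rw [Ideal.map_sup, Ideal.map_span, Set.image_singleton] at hr
          obtain ⟨r₁, hr₁, r₂, hr₂, rfl⟩ := Submodule.mem_sup.1 (Ideal.sup_pow_add_le_pow_sup_pow hr)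
          rw [Ideal.span_singleton_pow, Ideal.mem_span_singleton] at hr₂
          obtain ⟨d, rfl⟩ := hr₂
          rw [add_mul]
          refine Ideal.mem_sup_left (add_mem (hp a (Finset.mem_insert_self _ _) _ hr₁) ?_)
          rw [mul_comm (ψ g ^ q) d, mul_assoc]
          exact L.mul_mem_left _ hq')
      refine ⟨K ⊔ K', Submodule.FG.sup hK hK', sup_le hKF hK'F, by rwa [← sup_assoc], ?_⟩
      simp only [Finset.forall_mem_insert, ← sup_assoc]
      exact ⟨ha, fun y hy => Ideal.mem_sup_left (hKs y hy)⟩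
  by_cases htop : 𝔷 = ⊤
  · refine ⟨⊥, Submodule.fg_bot, bot_le, by rwa [sup_bot_eq], Ideal.mem_sup_left ?_⟩
    simpa using hm 1 (by rw [htop, Ideal.map_top, Ideal.top_pow]; trivial)
  by_cases hprime : 𝔷.IsPrime
  swap
  · -- not prime
    obtain ⟨a, ha, b, hb, hab⟩ := (Ideal.not_isPrime_iff.1 hprime).resolve_left htop
    have h1 : ∀ r ∈ (Ideal.map ψ 𝔷) ^ m, r * (ψ a ^ m * x) ∈ L := fun r hr => by
      rw [mul_left_comm]; exact L.mul_mem_left _ (hm r hr)
    obtain ⟨K₁, hK₁, hK₁F, hK₁i, hx₁⟩ := multi b hb L hL hLF {ψ a ^ m * x}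
      (by simpa using F.mul_mem_left _ hx) m (by simpa using h1)
      (by
        simp only [Finset.mem_singleton, forall_eq]
        refine ⟨m, ?_⟩
        rw [← mul_assoc, ← mul_pow, ← map_mul, mul_comm b a]
        exact hm _ (Ideal.pow_mem_pow (Ideal.mem_map_of_mem ψ hab) m))
    obtain ⟨K₂, hK₂, hK₂F, hK₂i, hx₂⟩ := multi a ha (L ⊔ K₁) hK₁i (sup_le hLF hK₁F) {x} (by simpa using hx) m
      (by simpa using fun r hr => Ideal.mem_sup_left (hm r hr)) (by
        simp only [Finset.mem_singleton, forall_eq]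
        exact ⟨m, hx₁ _ (Finset.mem_singleton_self _)⟩)
    exact ⟨K₁ ⊔ K₂, Submodule.FG.sup hK₁ hK₂, sup_le hK₁F hK₂F, by rwa [← sup_assoc],
      by rw [← sup_assoc]; exact hx₂ x (Finset.mem_singleton_self _)⟩
  -- prime
  obtain ⟨g, hg, hgfin⟩ := hfin 𝔷 hprime
  let J := Ideal.map ψ 𝔷
  have hJfg : J.FG := Ideal.FG.map (IsNoetherian.noetherian 𝔷 : Ideal.FG 𝔷) ψ
  let G := ψ g
  -- radicals
  have hrad : ∀ (u v : C), IsNilpotent (u - v) → ∀ n, u ∈ (Ideal.span {v ^ n}).radical := by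
    intro u v huv n
    have h1 : v ∈ (Ideal.span {v ^ n}).radical := ⟨n, Ideal.mem_span_singleton_self _⟩
    simpa using add_mem (Ideal.radical_mono bot_le huv) h1
  obtain ⟨N, hN⟩ : ∃ N, (J.map φ) ^ N ≤ J.map t := Ideal.exists_pow_le_of_le_radical_of_fg
    (by
      rw [Ideal.map_map, Ideal.map_le_iff_le_comap]
      intro p hp
      have h1 : t (ψ p) ∈ (J.map t).radical :=
        Ideal.le_radical (Ideal.mem_map_of_mem t (Ideal.mem_map_of_mem ψ hp))
      have h2 : _ ∈ (J.map t).radical := Ideal.radical_mono bot_le (hnil p)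
      have h3 := sub_mem h1 h2
      simpa using h3)
    (hJfg.map φ)
  let a := J ^ ((N + 1) * (m + 1))
  obtain ⟨sa, hsa⟩ := (hJfg.pow : (J ^ ((N + 1) * (m + 1))).FG)
  have htx : ∀ r ∈ sa, φ r * t x ∈ L.map φ := by
    intro r hr
    have hr' : r ∈ a := by
      show r ∈ J ^ ((N + 1) * (m + 1))
      rw [← hsa]; exact Ideal.subset_span hr
    have h1 : φ r ∈ (J ^ m).map t := by
      rw [Ideal.map_pow]
      have h1 : φ r ∈ (J.map φ) ^ ((N + 1) * (m + 1)) := by
        rw [← Ideal.map_pow]; exact Ideal.mem_map_of_mem φ hr'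
      rw [pow_mul] at h1
      exact Ideal.pow_le_pow_right (Nat.le_succ m)
        (Ideal.pow_right_mono ((Ideal.pow_le_pow_right (Nat.le_succ N)).trans hN) _ h1)
    refine hL ?_
    rw [Ideal.map] at h1
    generalize φ r = v at h1 ⊢
    induction h1 using Submodule.span_induction with
    | mem z hz =>
      obtain ⟨w, hw, rfl⟩ := hz
      rw [← map_mul]; exact Ideal.mem_map_of_mem t (hm w hw)
    | zero => rw [zero_mul]; exact zero_mem _
    | add z z' _ _ hz hz' => rw [add_mul]; exact add_mem hz hz'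
    | smul d z _ hz => rw [smul_eq_mul, mul_assoc]; exact Ideal.mul_mem_left _ d hz
  obtain ⟨M, hMF, hM, hzM⟩ := mem_map_colon F L sa (t x) (hF (Ideal.mem_map_of_mem t hx)) htx
  have haM : ∀ r ∈ a, ∀ y ∈ M, r * y ∈ L := by
    intro r hr y hy
    have hr' : r ∈ Ideal.span (sa : Set B) := hsa.symm ▸ hr
    clear hr
    induction hr' using Submodule.span_induction with
    | mem z hz => exact ((hM y).1 hy).2 z hz
    | zero => rw [zero_mul]; exact zero_mem _
    | add z z' _ _ hz hz' => rw [add_mul]; exact add_mem hz hz'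
    | smul d z _ hz => rw [smul_eq_mul, mul_assoc]; exact Ideal.mul_mem_left _ d hz
  have hLM : L ≤ M := fun y hy => (hM y).2 ⟨hLF hy, fun r _ => L.mul_mem_left _ hy⟩
  have hxM : x ∈ M := (hM x).2 ⟨hx, fun r hr => hm r
    (Ideal.pow_le_pow_right ((Nat.le_succ m).trans (Nat.le_mul_of_pos_left _ N.succ_pos))
      (show r ∈ J ^ ((N + 1) * (m + 1)) by rw [← hsa]; exact Ideal.subset_span hr))⟩
  have hfin' := finite_of_nilRadical (C := C) G a J (Ideal.pow_le_self (Nat.mul_pos N.succ_pos m.succ_pos).ne')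
    (fun y hy => ⟨_, Ideal.pow_mem_pow hy ((N + 1) * (m + 1))⟩) hgfin
  obtain ⟨E, hE, hEM, ⟨n, hn⟩, hmin⟩ := exists_content G a L M hLM haM hfin' (t x) hzM
  obtain ⟨n', hn'⟩ := hrad (t G) (φ G) (hnil g) n
  obtain ⟨d, hd'⟩ := hrad (φ G) (t G) (by simpa using (hnil g).neg) n'
  let L₁ := ((E ⊔ L).map φ).comap t
  have hL₁ : Invariant t L₁ := hd.inv _
  have hL₁le : L₁ ≤ E ⊔ L := hd.comap_le _
  have hLL₁ : L ≤ L₁ := Ideal.map_le_iff_le_comap.1 (hL.trans (Ideal.map_mono le_sup_right))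
  have hx₁ : G ^ n' * x ∈ L₁ := by
    obtain ⟨c, hc⟩ := Ideal.mem_span_singleton.1 hn'
    rw [Ideal.mem_comap, map_mul, map_pow, hc, ← map_pow, mul_right_comm]
    exact Ideal.mul_mem_right _ _ hn
  have hmin' : φ (G ^ d) * t x ∈ (L₁ ⊓ M).map φ := by
    refine mem_map_inf _ _ _ ?_ (Ideal.mul_mem_left _ _ hzM)
    obtain ⟨c, hc⟩ := Ideal.mem_span_singleton.1 hd'
    rw [map_pow, hc, mul_right_comm, ← map_pow, ← map_mul]
    exact Ideal.mul_mem_right _ _ (hL₁ (Ideal.mem_map_of_mem t hx₁))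
  obtain ⟨e, he⟩ := hmin _ (le_inf hLL₁ hLM) inf_le_right d hmin'
  obtain ⟨sE, hsE⟩ := id hE
  have hmem : ∀ y ∈ insert x sE, y ∈ M := by
    simp only [Finset.forall_mem_insert]
    exact ⟨hxM, fun y hy => hEM (hsE ▸ Ideal.subset_span hy)⟩
  obtain ⟨K₂, hK₂, hK₂F, hK₂i, hK₂s⟩ := multi g hg L₁ hL₁ (hL₁le.trans (sup_le (hEM.trans hMF) hLF))
    (insert x sE) (fun y hy => hMF (hmem y hy)) ((N + 1) * (m + 1))
    (fun y hy r hr => hLL₁ (haM r hr y (hmem y hy))) (by
      simp only [Finset.forall_mem_insert]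
      exact ⟨⟨n', hx₁⟩, fun y hy => ⟨e, (he y (hsE ▸ Ideal.subset_span hy)).1⟩⟩)
  have heq : L₁ ⊔ K₂ = L ⊔ (E ⊔ K₂) := by
    refine le_antisymm (sup_le (hL₁le.trans (sup_le (le_sup_left.trans le_sup_right) le_sup_left))
      (le_sup_right.trans le_sup_right)) (sup_le (hLL₁.trans le_sup_left) (sup_le ?_ le_sup_right))
    rw [← hsE, Ideal.span_le]
    exact fun y hy => hK₂s y (Finset.mem_insert_of_mem hy)
  exact ⟨E ⊔ K₂, Submodule.FG.sup hE hK₂, sup_le (hEM.trans hMF) hK₂F, heq ▸ hK₂i, heq ▸ hK₂s x (Finset.mem_insert_self _ _)⟩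

end GrothLib.AlgSp.NilContent
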