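import Mathlib.RingTheory.Smooth.NoetherianDescent
import Mathlib.RingTheory.Smooth.Flat
import Mathlib.RingTheory.Flat.FaithfullyFlat.Algebra
import Mathlib.RingTheory.Spectrum.Prime.Chevalley
import Mathlib.AlgebraicGeometry.PullbackCarrier

/-!
# Finite type models of faithfully flat etale algebras
-/

set_option autoImplicit false
universe u
open TensorProduct CategoryTheory AlgebraicGeometry
set_option backward.isDefEq.respectTransparency false

namespace GrothLib.AlgSp.NilContent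

theorem comap_surjective_baseChange {R S B : Type u} [CommRing R] [CommRing S] [CommRing B] [Algebra R S] [Algebra R B]
    (h : ∀ q : PrimeSpectrum S, PrimeSpectrum.comap (algebraMap R S) q ∈ Set.range (PrimeSpectrum.comap (algebraMap R B))) :
    Function.Surjective (PrimeSpectrum.comap (algebraMap S (S ⊗[R] B))) := by
  intro q
  obtain ⟨r, hr⟩ := h q
  obtain ⟨x, hx, -⟩ := Scheme.exists_preimage_of_isPullback
    (isPullback_SpecMap_of_isPushout _ _ _ _ (CommRingCat.isPushout_tensorProduct R S B)) q r hr.symm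
  exact ⟨x, hx⟩

/-- A faithfully flat etale algebra descends to a faithfully flat etale algebra over a finite type `ℤ`-subalgebra. -/
theorem exists_ff_model (A B : Type u) [CommRing A] [CommRing B] [Algebra A B] [Algebra.Etale A B]
    (hs : Function.Surjective (PrimeSpectrum.comap (algebraMap A B))) :
    ∃ (A₀ : Subalgebra ℤ A) (B₀ : Type u) (_ : CommRing B₀) (_ : Algebra A₀ B₀),
      A₀.FG ∧ Algebra.Etale A₀ B₀ ∧ Function.Surjective (PrimeSpectrum.comap (algebraMap A₀ B₀)) ∧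
      Nonempty (B ≃ₐ[A] A ⊗[A₀] B₀) := by
  classical
  obtain ⟨A₀, B₀, _, _, hfg, hE, ⟨e⟩⟩ := Algebra.Etale.exists_subalgebra_fg ℤ A B
  haveI := hE
  have hopen : IsOpen (Set.range (PrimeSpectrum.comap (algebraMap A₀ B₀))) :=
    PrimeSpectrum.isOpenMap_comap_of_hasGoingDown_of_finitePresentation.isOpen_range
  obtain ⟨J, hJ⟩ := (PrimeSpectrum.isClosed_iff_zeroLocus_ideal _).1 hopen.isClosed_compl
  have hJA : (1 : A) ∈ J.map (algebraMap A₀ A) := by
    rw [← Ideal.eq_top_iff_one]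
    by_contra hne
    obtain ⟨m, hm, hle⟩ := Ideal.exists_le_maximal _ hne
    obtain ⟨y, hy⟩ := hs ⟨m, hm.isPrime⟩
    let z := PrimeSpectrum.comap (e.toRingEquiv.symm.toRingHom) y
    have h1 : PrimeSpectrum.comap (algebraMap A₀ A) ⟨m, hm.isPrime⟩ ∈ (Set.range (PrimeSpectrum.comap (algebraMap A₀ B₀)))ᶜ := by
      rw [hJ, PrimeSpectrum.mem_zeroLocus]
      exact Ideal.map_le_iff_le_comap.1 hle
    refine h1 ⟨PrimeSpectrum.comap (Algebra.TensorProduct.includeRight : B₀ →ₐ[A₀] A ⊗[A₀] B₀).toRingHom z, ?_⟩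
    rw [← hy, ← PrimeSpectrum.comap_comp_apply, ← PrimeSpectrum.comap_comp_apply, ← PrimeSpectrum.comap_comp_apply]
    refine congrArg (fun φ => PrimeSpectrum.comap φ y) (RingHom.ext fun x => ?_)
    show e.symm ((1 : A) ⊗ₜ[A₀] algebraMap A₀ B₀ x) = algebraMap A B (algebraMap A₀ A x)
    rw [← e.symm.commutes, Algebra.algebraMap_eq_smul_one (A := B₀), ← smul_tmul, ← Algebra.algebraMap_eq_smul_one]
    rfl
  obtain ⟨n, c, d, hcd⟩ := Submodule.mem_span_set'.1 hJA
  choose j hj hjd using fun i => (d i).2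
  let A₁ := A₀ ⊔ Algebra.adjoin ℤ (Set.range c)
  letI : Algebra A₀ A₁ := (Subalgebra.inclusion (le_sup_left : A₀ ≤ A₁)).toRingHom.toAlgebra
  haveI : IsScalarTower A₀ A₁ A := IsScalarTower.of_algebraMap_eq fun _ => rfl
  refine ⟨A₁, A₁ ⊗[A₀] B₀, inferInstance, inferInstance,
    hfg.sup (Subalgebra.fg_def.2 ⟨_, Set.finite_range c, rfl⟩), inferInstance,
    comap_surjective_baseChange fun q => ?_, ?_⟩
  · by_contra hq
    have h1 : PrimeSpectrum.comap (algebraMap A₀ A₁) q ∈ PrimeSpectrum.zeroLocus (J : Set A₀) := hJ ▸ hq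
    rw [PrimeSpectrum.mem_zeroLocus] at h1
    have h2 : ∑ i, (⟨c i, (le_sup_right : _ ≤ A₁) (Algebra.subset_adjoin ⟨i, rfl⟩)⟩ : A₁) *
        algebraMap A₀ A₁ (j i) = 1 := by
      apply Subtype.ext
      rw [AddSubmonoidClass.coe_finset_sum]
      refine (Finset.sum_congr rfl fun i _ => ?_).trans hcd
      show c i * algebraMap A₀ A (j i) = c i • (d i : A)
      rw [hjd i, smul_eq_mul]
    exact q.isPrime.ne_top ((Ideal.eq_top_iff_one _).2 (h2 ▸ Ideal.sum_mem _ fun i _ =>
      Ideal.mul_mem_left _ _ (h1 (hj i))))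
  · exact ⟨e.trans (Algebra.TensorProduct.cancelBaseChange A₀ A₁ A A B₀).symm⟩

end GrothLib.AlgSp.NilContent
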