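import Groth.Agent.Lib.AlgSp.ThickModel
import Groth.Agent.Lib.AlgSp.NilCech
import Groth.Agent.Lib.AlgSp.NilGeneric
import Groth.Agent.Lib.AlgSp.NilModelExists
import Groth.Agent.Lib.MultLocal.EtaleLift
import Mathlib.RingTheory.Etale.QuasiFinite

/-!
# An algebraic space thickening an affine scheme is affine

* `exists_affine_of_thick_pres`: the statement for a space with an affine presentation over an affine scheme.
-/

set_option autoImplicit false
universe u
open CategoryTheory CategoryTheory.Limits AlgebraicGeometry TensorProduct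
set_option backward.isDefEq.respectTransparency false

namespace GrothLib.AlgSp

open _root_.AlgSp NilContent

variable {S : Scheme.{u}} {X : Sp S}

/-- A factorisation through a monomorphism is cartesian. -/
theorem isPullback_of_factor_mono {Z Z' Y : Sp S} {j : Z ⟶ Z'} {m : Z' ⟶ Y} [Mono m] {i : Z ⟶ Y} (h : j ≫ m = i) :
    IsPullback (𝟙 Z) j i m := by
  subst h
  exact ⟨⟨by simp⟩, ⟨PullbackCone.IsLimit.mk _ (fun s => s.fst) (fun s => Category.comp_id _)
    (fun s => (cancel_mono m).1 (by rw [Category.assoc]; exact s.condition))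
    (fun s t h₁ _ => by rw [Category.comp_id] at h₁; exact h₁)⟩⟩

/-- The presentations of the same closed subspace have the same ideal. -/
theorem ker_le_of_isPullback {B D D' A : CommRingCat.{u}} {sB : Spec B ⟶ S} {sA : Spec A ⟶ S}
    {i : (yon S).obj (Over.mk sA) ⟶ X} {a : (yon S).obj (Over.mk sB) ⟶ X}
    {sD : Spec D ⟶ S} {sD' : Spec D' ⟶ S} {d : B ⟶ D} {hd : Spec.map d ≫ sB = sD} {d' : B ⟶ D'}
    {hd' : Spec.map d' ≫ sB = sD'} {f : (yon S).obj (Over.mk sD) ⟶ (yon S).obj (Over.mk sA)}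
    {f' : (yon S).obj (Over.mk sD') ⟶ (yon S).obj (Over.mk sA)}
    (sq : IsPullback f ((yon S).map (specMap d hd)) i a) (sq' : IsPullback f' ((yon S).map (specMap d' hd')) i a) :
    RingHom.ker d.hom ≤ RingHom.ker d'.hom := by
  obtain ⟨m, hm⟩ := (yon S).map_surjective (sq.lift f' ((yon S).map (specMap d' hd')) sq'.w)
  obtain ⟨g, hg, rfl⟩ := exists_specMap m
  have h : d ≫ g = d' := Spec.map_injective (by
    rw [Spec.map_comp]
    exact congrArg (·.left) ((yon S).map_injective (by rw [Functor.map_comp, hm, sq.lift_snd]) :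
      specMap g hg ≫ specMap d hd = specMap d' hd'))
  intro x hx
  rw [RingHom.mem_ker] at hx ⊢
  rw [← h, CommRingCat.comp_apply, hx, map_zero]

/-- Faithfully flat descent for elements. -/
theorem mem_range_of_tmul_eq {A B : Type u} [CommRing A] [CommRing B] [Algebra A B] [Module.FaithfullyFlat A B]
    (x : B) (h : x ⊗ₜ[A] (1 : B) = (1 : B) ⊗ₜ[A] x) : x ∈ Set.range (algebraMap A B) := by
  have h1 := congrArg (LinearMap.rTensor B (LinearMap.range (Algebra.linearMap A B)).mkQ) h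
  rw [LinearMap.rTensor_tmul, LinearMap.rTensor_tmul] at h1
  have h0 : (LinearMap.range (Algebra.linearMap A B)).mkQ (1 : B) = 0 :=
    (Submodule.Quotient.mk_eq_zero _).2 ⟨1, (algebraMap A B).map_one⟩
  rw [h0, zero_tmul] at h1
  have h2 := congrArg (TensorProduct.comm A _ B) h1
  rw [TensorProduct.comm_tmul, map_zero] at h2
  obtain ⟨a, ha⟩ := (Submodule.Quotient.mk_eq_zero _).1
    ((Module.FaithfullyFlat.one_tmul_eq_zero_iff A (A := B) _ _).1 h2)
  exact ⟨a, ha⟩

theorem faithfullyFlat_of_etale_surjective {A B : Type u} [CommRing A] [CommRing B] [Algebra A B]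
    (he : (algebraMap A B).Etale) (hs : Function.Surjective (PrimeSpectrum.comap (algebraMap A B))) :
    Module.FaithfullyFlat A B := by
  haveI : Algebra.Etale A B := RingHom.etale_algebraMap.1 he
  exact Module.FaithfullyFlat.of_comap_surjective hs

/-- Generic finiteness of the relation from a model of the thickened scheme. -/
theorem finite_model {B C A Q₀ B₀ R : Type u} [CommRing B] [CommRing C] [Algebra B C] [CommRing A]
    [CommRing Q₀] [Algebra Q₀ A] [CommRing B₀] [Algebra Q₀ B₀]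
    [CommRing R] [Algebra B R] {Pol : Type*} [CommRing Pol] (r : B →+* C) (I : Ideal B) (hI : I.map r ≤ I.map (algebraMap B C))
    [Algebra A (B ⧸ I)] (ψ : C →+* (B ⧸ I) ⊗[A] (B ⧸ I)) (hψl : ∀ b, ψ (algebraMap B C b) = Ideal.Quotient.mk I b ⊗ₜ 1)
    (hψr : ∀ b, ψ (r b) = 1 ⊗ₜ Ideal.Quotient.mk I b) (hψk : RingHom.ker ψ ≤ I.map (algebraMap B C))
    (χ₀ : Pol →+* Q₀) (hχ₀ : Function.Surjective χ₀) (Ψ : Pol →+* B)
    (hΨ : ∀ p, Ideal.Quotient.mk I (Ψ p) = algebraMap A (B ⧸ I) (algebraMap Q₀ A (χ₀ p)))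
    (e : (B ⧸ I) ≃ₐ[A] A ⊗[Q₀] B₀) (𝔭 : Ideal Pol) (g : Pol) (β : Finset B₀)
    (hβ : ∀ y : B₀, ∃ n : ℕ, χ₀ g ^ n • y ∈
      Submodule.span Q₀ (β : Set B₀) ⊔ ((𝔭.map χ₀).map (algebraMap Q₀ B₀)).restrictScalars Q₀)
    (hR0 : ∀ x ∈ 𝔭.map Ψ ⊔ I, algebraMap B R x = 0) (hunit : IsUnit (algebraMap B R (Ψ g))) :
    Module.Finite R (R ⊗[B] C) := by
  classical
  let ι : C →+* R ⊗[B] C := (Algebra.TensorProduct.includeRight : C →ₐ[B] _).toRingHom
  have hι : ∀ x, ι (algebraMap B C x) = algebraMap B R x ⊗ₜ[B] 1 := fun x => by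
    show (1 : R) ⊗ₜ[B] algebraMap B C x = _
    rw [Algebra.algebraMap_eq_smul_one, ← smul_tmul, ← Algebra.algebraMap_eq_smul_one]
  have hI0 : ∀ x ∈ (𝔭.map Ψ ⊔ I).map (algebraMap B C), ι x = 0 := fun x hx =>
    (Ideal.map_le_iff_le_comap.2 (fun y hy => show ι (algebraMap B C y) = 0 by rw [hι, hR0 y hy, zero_tmul]) :
      (𝔭.map Ψ ⊔ I).map (algebraMap B C) ≤ RingHom.ker ι) hx
  have hI1 : ∀ x ∈ I.map (algebraMap B C), ι x = 0 := fun x hx => hI0 x (Ideal.map_mono le_sup_right hx)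
  have hdiff : ∀ (x : B) (a : A), Ideal.Quotient.mk I x = algebraMap A (B ⧸ I) a →
      ι (r x) = ι (algebraMap B C x) := fun x a h => by
    rw [← sub_eq_zero, ← map_sub]
    refine hI1 _ (hψk ?_)
    rw [RingHom.mem_ker, map_sub, hψl, hψr, h, Algebra.algebraMap_eq_smul_one, tmul_smul, smul_tmul', sub_self]
  have hr : ∀ x y, Ideal.Quotient.mk I x = Ideal.Quotient.mk I y → ι (r x) = ι (r y) := fun x y h => by
    rw [← sub_eq_zero, ← map_sub, ← map_sub]
    exact hI1 _ (hI (Ideal.mem_map_of_mem r (Ideal.Quotient.eq.1 h)))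
  let lB : B₀ → B := fun y => (Ideal.Quotient.mk_surjective (e.symm (1 ⊗ₜ y))).choose
  have hlB : ∀ y, Ideal.Quotient.mk I (lB y) = e.symm (1 ⊗ₜ y) := fun y =>
    (Ideal.Quotient.mk_surjective (e.symm (1 ⊗ₜ y))).choose_spec
  let M : Submodule R (R ⊗[B] C) := Submodule.span R ((fun y => ι (r (lB y))) '' (β : Set B₀))
  have hsm : ∀ (a : R) (m : R ⊗[B] C), a • m = (a ⊗ₜ[B] (1 : C)) * m := fun a m => by
    induction m using TensorProduct.induction_on with
    | zero => rw [smul_zero, mul_zero]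
    | tmul b c => rw [smul_tmul', Algebra.TensorProduct.tmul_mul_tmul, one_mul]; rfl
    | add b c hb hc => rw [smul_add, hb, hc, mul_add]
  have hMl : ∀ (x : B) m, m ∈ M → ι (algebraMap B C x) * m ∈ M := fun x m hm => by
    rw [hι, ← hsm]
    exact M.smul_mem _ hm
  have hA : ∀ (p : Pol) (y : B₀) (x : B), Ideal.Quotient.mk I x = e.symm (1 ⊗ₜ y) →
      Ideal.Quotient.mk I (Ψ p * x) = e.symm (1 ⊗ₜ (χ₀ p • y)) := by
    intro p y x h
    rw [map_mul, hΨ, h, ← e.symm.commutes, ← map_mul, ← Algebra.smul_def, tmul_smul]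
    congr 1
    rw [IsScalarTower.algebraMap_smul]
  have hadd : ∀ y y', ι (r (lB (y + y'))) = ι (r (lB y)) + ι (r (lB y')) := fun y y' => by
    rw [hr (lB (y + y')) (lB y + lB y') (by rw [map_add, hlB, hlB, hlB, tmul_add, map_add]), map_add, map_add]
  have hzero : ι (r (lB 0)) = 0 := by
    rw [hr (lB 0) 0 (by rw [hlB, tmul_zero, map_zero, map_zero]), map_zero, map_zero]
  have hspan : ∀ y ∈ Submodule.span Q₀ (β : Set B₀), ι (r (lB y)) ∈ M := by
    intro y hy
    induction hy using Submodule.span_induction with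
    | mem y hy => exact Submodule.subset_span ⟨y, hy, rfl⟩
    | zero => rw [hzero]; exact zero_mem _
    | add y y' _ _ h h' => rw [hadd]; exact add_mem h h'
    | smul a y _ h =>
      obtain ⟨p, rfl⟩ := hχ₀ a
      rw [hr (lB (χ₀ p • y)) (Ψ p * lB y) (by rw [hlB, hA p y _ (hlB y)]), map_mul, map_mul, hdiff _ _ (hΨ p)]
      exact hMl _ _ h
  have hp : ∀ y ∈ (𝔭.map χ₀).map (algebraMap Q₀ B₀), ι (r (lB y)) = 0 := by
    rw [Ideal.map_map]
    intro y hy
    rw [Ideal.map] at hy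
    induction hy using Submodule.span_induction with
    | mem y hy =>
      obtain ⟨p, hp, rfl⟩ := hy
      rw [hr _ (Ψ p) ?_, hdiff _ _ (hΨ p)]
      · exact hI0 _ (Ideal.mem_map_of_mem _ (Ideal.mem_sup_left (Ideal.mem_map_of_mem Ψ hp)))
      · have h := hA p 1 1 (by rw [map_one, ← Algebra.TensorProduct.one_def, map_one])
        rw [mul_one, ← Algebra.algebraMap_eq_smul_one] at h
        rw [hlB, h]
        rfl
    | zero => exact hzero
    | add y y' _ _ h h' => rw [hadd, h, h', add_zero]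
    | smul c y _ h =>
      rw [hr (lB (c • y)) (lB c * lB y) (by
        rw [map_mul, hlB, hlB, hlB, ← map_mul, Algebra.TensorProduct.tmul_mul_tmul, mul_one, smul_eq_mul]),
        map_mul, map_mul, h, mul_zero]
  have hB : ∀ y, ι (r (lB y)) ∈ M := by
    intro y
    obtain ⟨n, hn⟩ := hβ y
    rw [← map_pow] at hn
    obtain ⟨y₁, hy₁, y₂, hy₂, h₁₂⟩ := Submodule.mem_sup.1 hn
    have h : ι (r (lB (χ₀ (g ^ n) • y))) ∈ M := by
      rw [← h₁₂, hadd, hp y₂ hy₂, add_zero]; exact hspan _ hy₁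
    rw [hr _ (Ψ (g ^ n) * lB y) (by rw [hlB, hA _ y _ (hlB y)]), map_mul, map_mul, hdiff _ _ (hΨ _), hι, map_pow,
      map_pow] at h
    obtain ⟨w, hw⟩ := (hunit.pow n).exists_left_inv
    have h' := M.smul_mem w h
    rwa [hsm, ← mul_assoc, Algebra.TensorProduct.tmul_mul_tmul, hw, mul_one, ← Algebra.TensorProduct.one_def, one_mul] at h'
  have hC : ∀ z x, Ideal.Quotient.mk I x = e.symm z → ι (r x) ∈ M := by
    intro z
    induction z using TensorProduct.induction_on with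
    | zero =>
      intro x hx
      rw [hr x 0 (by rw [hx, map_zero, map_zero]), map_zero, map_zero]; exact zero_mem _
    | tmul a y =>
      intro x hx
      obtain ⟨ta, hta⟩ := Ideal.Quotient.mk_surjective (algebraMap A (B ⧸ I) a)
      rw [hr x (ta * lB y) ?_, map_mul, map_mul, hdiff ta a hta]
      · exact hMl _ _ (hB y)
      · rw [map_mul, hta, hlB, hx, ← e.symm.commutes, ← map_mul, ← Algebra.smul_def, smul_tmul', smul_eq_mul, mul_one]
    | add z z' hz hz' =>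
      intro x hx
      obtain ⟨x₁, hx₁⟩ := Ideal.Quotient.mk_surjective (e.symm z)
      obtain ⟨x₂, hx₂⟩ := Ideal.Quotient.mk_surjective (e.symm z')
      rw [hr x (x₁ + x₂) (by rw [hx, map_add, map_add, hx₁, hx₂]), map_add, map_add]
      exact add_mem (hz _ hx₁) (hz' _ hx₂)
  have hψs : ∀ w, ∃ c, ψ c = w ∧ ι c ∈ M := by
    intro w
    induction w using TensorProduct.induction_on with
    | zero => exact ⟨0, map_zero _, by rw [map_zero]; exact zero_mem _⟩
    | tmul x y =>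
      obtain ⟨x, rfl⟩ := Ideal.Quotient.mk_surjective x
      obtain ⟨y, rfl⟩ := Ideal.Quotient.mk_surjective y
      refine ⟨algebraMap B C x * r y, by rw [map_mul, hψl, hψr, Algebra.TensorProduct.tmul_mul_tmul, mul_one, one_mul],
        ?_⟩
      rw [map_mul]
      exact hMl _ _ (hC (e (Ideal.Quotient.mk I y)) y (e.symm_apply_apply _).symm)
    | add v w hv hw =>
      obtain ⟨c, hc, hc'⟩ := hv
      obtain ⟨d, hd, hd'⟩ := hw
      exact ⟨c + d, by rw [map_add, hc, hd], by rw [map_add]; exact add_mem hc' hd'⟩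
  have hall : ∀ c, ι c ∈ M := fun c => by
    obtain ⟨c', hc', hm⟩ := hψs (ψ c)
    have : ι c = ι c' := by
      rw [← sub_eq_zero, ← map_sub]
      exact hI1 _ (hψk (by rw [RingHom.mem_ker, map_sub, hc', sub_self]))
    rwa [this]
  refine ⟨⟨β.image fun y => ι (r (lB y)), eq_top_iff.2 fun z _ => ?_⟩⟩
  rw [Finset.coe_image]
  clear * - z hall
  induction z using TensorProduct.induction_on with
  | zero => exact zero_mem _
  | tmul a c =>
    have h := M.smul_mem a (hall c)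
    rwa [show a • ι c = a ⊗ₜ[B] c by
      show a • ((1 : R) ⊗ₜ[B] c) = _
      rw [smul_tmul', smul_eq_mul, mul_one]] at h
  | add x y hx hy => exact add_mem hx hy

namespace AffPres

variable (P : AffPres X)

theorem thick_of_le_nilradical {K : Ideal P.B} (hK : K ≤ nilradical P.B) {Z : Sp S} {i : Z ⟶ X}
    {p : (yon S).obj (Over.mk (Spec.map (quotMap K) ≫ P.sB)) ⟶ Z}
    (hi : RepWith @IsClosedImmersion i) (sqK : IsPullback p ((yon S).map (quotι K P.sB)) i P.a) :
    IsThickMor i := by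
  refine repWith_inf_iff.2 ⟨hi, (repWith_surjective_iff hi.1).2 fun x => ?_⟩
  obtain ⟨𝔭, rfl⟩ := surjective_ofPt_of_repWith P.asurj x
  obtain ⟨y, hy⟩ : 𝔭 ∈ Set.range (Spec.map (quotMap K)) := by
    have h : (PrimeSpectrum.zeroLocus (K : Set P.B)) = Set.univ := Set.eq_univ_of_forall fun q =>
      (PrimeSpectrum.mem_zeroLocus _ _).2 fun k hk => nilpotent_iff_mem_prime.1 (mem_nilradical.1 (hK hk)) _ q.isPrime
    have h1 : Set.range (PrimeSpectrum.comap (Ideal.Quotient.mk K)) = Set.univ := by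
      rw [range_comap_of_surjective _ _ Ideal.Quotient.mk_surjective, Ideal.mk_ker]; exact h
    exact h1.symm.subset (Set.mem_univ _)
  refine ⟨Points.ofPt p y, ?_⟩
  rw [Points.map_ofPt, sqK.w, ofPt_map_comp]
  exact congrArg _ hy

/-- The map to the affine base on the invariant functions. -/
theorem exists_eq_pres {R : CommRingCat.{u}} {sV : Spec R ⟶ S} {v : R ⟶ P.B} (hv : v ≫ P.l = v ≫ P.r)
    (hvs : Spec.map v ≫ sV = P.sB) :
    ∃ sA' : Spec (CommRingCat.of (RingHom.eqLocus P.l.hom P.r.hom)) ⟶ S,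
      Spec.map (CommRingCat.ofHom (RingHom.eqLocus P.l.hom P.r.hom).subtype) ≫ sA' = P.sB := by
  let vA : R ⟶ CommRingCat.of (RingHom.eqLocus P.l.hom P.r.hom) :=
    CommRingCat.ofHom (v.hom.codRestrict _ fun x => ConcreteCategory.congr_hom hv x)
  refine ⟨Spec.map vA ≫ sV, ?_⟩
  rw [← Category.assoc, ← Spec.map_comp]
  exact hvs

/-- Invariant functions as functions of the affine thickened scheme. -/
theorem exists_theta {A : CommRingCat.{u}} {sA : Spec A ⟶ S} {i : (yon S).obj (Over.mk sA) ⟶ X} [Mono i]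
    {I : Ideal P.B} (hI : I.map P.r.hom = I.map P.l.hom) {π : A ⟶ quotRing I}
    {hπ : Spec.map π ≫ sA = Spec.map (quotMap I) ≫ P.sB}
    (sqW : IsPullback ((yon S).map (specMap π hπ)) ((yon S).map (quotι I P.sB)) i P.a)
    (hπe : π.hom.Etale) (hπs : Function.Surjective (PrimeSpectrum.comap π.hom))
    {A' : CommRingCat.{u}} (j : A' ⟶ quotRing I) (hj : ∀ x, ∃ b, Ideal.Quotient.mk I b = j.hom x ∧
      P.r.hom b - P.l.hom b ∈ I.map P.l.hom) :
    Function.Injective π.hom ∧ ∃ θ : A' ⟶ A, θ ≫ π = j := by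
  letI : Algebra A (P.B ⧸ I) := π.hom.toAlgebra
  haveI := faithfullyFlat_of_etale_surjective (A := A) (B := P.B ⧸ I) hπe hπs
  have hinj : Function.Injective π.hom := FaithfulSMul.algebraMap_injective A (P.B ⧸ I)
  obtain ⟨ψ, hψl, hψr, -⟩ := P.exists_psi hI sqW
  have hr : ∀ x, j.hom x ∈ π.hom.range := fun x => by
    obtain ⟨b, hb, hb'⟩ := hj x
    refine mem_range_of_tmul_eq _ ?_
    have hle : I.map P.l.hom ≤ RingHom.ker ψ := Ideal.map_le_iff_le_comap.2 fun k hk => by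
      show ψ (P.l.hom k) = 0
      rw [hψl, Ideal.Quotient.eq_zero_iff_mem.2 hk, zero_tmul]
    have h := hle hb'
    rw [RingHom.mem_ker, map_sub, hψl, hψr, hb, sub_eq_zero] at h
    exact h.symm
  let e : A ≃+* π.hom.range := RingEquiv.ofBijective π.hom.rangeRestrict
    ⟨fun a b h => hinj (congrArg Subtype.val h), fun ⟨_, a, ha⟩ => ⟨a, Subtype.ext ha⟩⟩
  refine ⟨hinj, CommRingCat.ofHom (e.symm.toRingHom.comp (j.hom.codRestrict _ hr)),
    CommRingCat.hom_ext (RingHom.ext fun x => ?_)⟩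
  exact congrArg Subtype.val (e.apply_symm_apply (j.hom.codRestrict _ hr x))

/-- Square zero step. -/
theorem exists_affine_of_sqZero (hX : IsAlgSpace X) {R : CommRingCat.{u}} {sV : Spec R ⟶ S} {v : R ⟶ P.B}
    (hv : v ≫ P.l = v ≫ P.r) (hvs : Spec.map v ≫ sV = P.sB) {A : CommRingCat.{u}} {sA : Spec A ⟶ S}
    {i : (yon S).obj (Over.mk sA) ⟶ X} (hi : IsThickMor i)
    (hsq : ∀ (I : Ideal P.B) (f : (yon S).obj (Over.mk (Spec.map (quotMap I) ≫ P.sB)) ⟶ (yon S).obj (Over.mk sA)),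
      IsPullback f ((yon S).map (quotι I P.sB)) i P.a → ∀ k ∈ I, ∀ k' ∈ I, k * k' = 0) :
    ∃ Q : Over S, IsAffine Q.left ∧ Nonempty ((yon S).obj Q ≅ X) := by
  obtain ⟨I, π, hπ, hnil, hI, hπe, hπs, sqW⟩ := P.exists_thick_chart hi
  have := mono_of_thick hi
  have hK := hsq I _ sqW
  letI : Algebra P.B P.C := P.l.hom.toAlgebra
  haveI : Algebra.Etale P.B P.C := RingHom.etale_algebraMap.1 P.etale_l
  haveI : Module.Flat P.B P.C := inferInstance
  letI algA : Algebra A (P.B ⧸ I) := π.hom.toAlgebra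
  haveI := faithfullyFlat_of_etale_surjective (A := A) (B := P.B ⧸ I) hπe hπs
  obtain ⟨ψ, hψl, hψr, hψk⟩ := P.exists_psi hI sqW
  have hlift := exists_lift_invariant P.r.hom I hK (le_of_eq hI) (fun T _ p q h => by
    obtain ⟨c₁, h₁, h₁'⟩ := P.rel_symm (D := CommRingCat.of T) (CommRingCat.ofHom p)
    obtain ⟨c, h₂, h₂'⟩ := P.rel_trans c₁ (CommRingCat.ofHom q) (h₁'.trans (CommRingCat.hom_ext h))
    exact ⟨c.hom, (congrArg (·.hom) (h₂.trans h₁)), congrArg (·.hom) h₂'⟩) ψ hψl hψr hψk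
  let A' : CommRingCat.{u} := CommRingCat.of (RingHom.eqLocus P.l.hom P.r.hom)
  let j : A' ⟶ P.B := CommRingCat.ofHom (RingHom.eqLocus P.l.hom P.r.hom).subtype
  obtain ⟨sA', hjs⟩ := P.exists_eq_pres hv hvs
  obtain ⟨hinj, θ, hθ⟩ := P.exists_theta hI sqW hπe hπs (j ≫ quotMap I)
    (fun x => ⟨x.1, rfl, by rw [show P.r.hom x.1 = P.l.hom x.1 from x.2.symm, sub_self]; exact zero_mem _⟩)
  have hθ' : ∀ x, π.hom (θ.hom x) = Ideal.Quotient.mk I x.1 := fun x => ConcreteCategory.congr_hom hθ x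
  have hθs : Function.Surjective θ.hom := fun a => by
    obtain ⟨b, hb, hb'⟩ := hlift a
    exact ⟨⟨b, hb'.symm⟩, hinj ((hθ' _).trans hb)⟩
  have hθnil : ∀ x ∈ RingHom.ker θ.hom, IsNilpotent x := fun x hx => ⟨2, Subtype.ext (by
    have hx' : x.1 ∈ I := by
      rw [← Ideal.Quotient.eq_zero_iff_mem, ← hθ' x, RingHom.mem_ker.1 hx, map_zero]
    show (x ^ 2).1 = 0
    rw [pow_two]
    exact hK _ hx' _ hx')⟩
  -- lift the etale algebra
  letI : Algebra A' A := θ.hom.toAlgebra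
  let J := RingHom.ker (algebraMap A' A)
  let e : (A' ⧸ J) ≃+* A := RingHom.quotientKerEquivOfSurjective hθs
  let ρ : (A' ⧸ J) →+* (P.B ⧸ I) := π.hom.comp e.toRingHom
  letI : Algebra (A' ⧸ J) (P.B ⧸ I) := ρ.toAlgebra
  haveI : IsScalarTower A' (A' ⧸ J) (P.B ⧸ I) := by
    refine IsScalarTower.of_algebraMap_eq (R := A') (S := A' ⧸ J) (A := P.B ⧸ I) fun x => ?_
    exact (hθ' x).symm
  haveI : IsScalarTower A' A (P.B ⧸ I) :=
    IsScalarTower.of_algebraMap_eq fun x => (hθ' x).symm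
  haveI : Algebra.Etale (A' ⧸ J) (P.B ⧸ I) := RingHom.etale_algebraMap.mp
    (RingHom.Etale.stableUnderComposition e.toRingHom π.hom (RingHom.Etale.of_bijective e.bijective) hπe)
  obtain ⟨T, _, _, g, hT, hgs, hgk⟩ := GrothLib.Hensel.exists_etale_lift J (P.B ⧸ I)
  have hTs := GrothLib.MultLocal.comap_surjective_of_lift (S₀ := A) hθs hθnil g
  refine P.exists_affine_of_model hX hi hπe hπs sqW j sA' (CommRingCat.hom_ext (RingHom.ext fun x => x.2)) hjs θ
    hθ.symm (CommRingCat.ofHom (algebraMap A' T)) (RingHom.etale_algebraMap.2 hT) hTs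
    (CommRingCat.ofHom g.toRingHom) ?_
  have hw : θ ≫ π = CommRingCat.ofHom (algebraMap A' T) ≫ CommRingCat.ofHom g.toRingHom :=
    CommRingCat.hom_ext (RingHom.ext fun x => (hθ' x).trans (g.commutes x).symm)
  have hk : ∀ c : PushoutCocone θ (CommRingCat.ofHom (algebraMap A' T)),
      RingHom.ker g.toRingHom ≤ RingHom.ker c.inr.hom := by
    intro c x hx
    have hx' : x ∈ J.map (algebraMap A' T) := hgk ▸ (show x ∈ RingHom.ker g from hx)
    refine (Ideal.map_le_iff_le_comap.2 fun y hy => ?_ : J.map (algebraMap A' T) ≤ RingHom.ker c.inr.hom) hx'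
    show c.inr.hom (algebraMap A' T y) = 0
    have h := ConcreteCategory.congr_hom c.condition y
    refine h.symm.trans ?_
    show c.inl.hom (θ.hom y) = 0
    rw [show θ.hom y = 0 from hy, map_zero]
  let lf := fun c : PushoutCocone θ (CommRingCat.ofHom (algebraMap A' T)) =>
    RingHom.liftOfSurjective g.toRingHom hgs ⟨c.inr.hom, hk c⟩
  have hlf : ∀ c t, lf c (g t) = c.inr.hom t := fun c t =>
    RingHom.liftOfRightInverse_comp_apply _ _ _ ⟨c.inr.hom, hk c⟩ t
  refine ⟨⟨hw⟩, ⟨PushoutCocone.IsColimit.mk _ (fun c => CommRingCat.ofHom (lf c))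
    (fun c => ?_) (fun c => ?_) fun c m _ h₂ => ?_⟩⟩
  · ext a
    obtain ⟨x, rfl⟩ := hθs a
    have h := ConcreteCategory.congr_hom hw x
    show lf c (π.hom (θ.hom x)) = c.inl.hom (θ.hom x)
    rw [show π.hom (θ.hom x) = g (algebraMap A' T x) from h, hlf]
    exact (ConcreteCategory.congr_hom c.condition x).symm
  · ext t
    exact hlf c t
  · ext y
    obtain ⟨t, ht⟩ := hgs (Ideal.Quotient.mk I y)
    simp only [RingHom.comp_apply, ← ht]
    exact (ConcreteCategory.congr_hom h₂ t).trans (hlf c t).symm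

end AffPres

theorem lift_of_epi_mono {U V W Z : Sp S} (f : U ⟶ V) [Epi f] (g : U ⟶ W) (m : W ⟶ Z) [Mono m] (h : V ⟶ Z)
    (w : f ≫ h = g ≫ m) : ∃ k : V ⟶ W, f ≫ k = g ∧ k ≫ m = h := by
  have : StrongEpi f := strongEpi_of_epi f
  have sq : CommSq g f m h := ⟨w.symm⟩
  exact ⟨sq.lift, sq.fac_left, sq.fac_right⟩

theorem exists_specIso_of_affine {Q : Over S} (hQ : IsAffine Q.left) :
    ∃ (A : CommRingCat.{u}) (sA : Spec A ⟶ S), Nonempty (Over.mk sA ≅ Q) :=
  ⟨_, Q.left.isoSpec.inv ≫ Q.hom, ⟨Over.isoMk Q.left.isoSpec.symm⟩⟩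

/-- Nilpotent thickenings of affine schemes are affine. -/
theorem exists_affine_of_nilpotent (n : ℕ) :
    ∀ {X : Sp S} (P : AffPres X) (_ : IsAlgSpace X) {R : CommRingCat.{u}} {sV : Spec R ⟶ S} {v : R ⟶ P.B}
      (_ : v ≫ P.l = v ≫ P.r) (_ : Spec.map v ≫ sV = P.sB) {A : CommRingCat.{u}} {sA : Spec A ⟶ S}
      {i : (yon S).obj (Over.mk sA) ⟶ X} (_ : IsThickMor i) {I : Ideal P.B}
      {f : (yon S).obj (Over.mk (Spec.map (quotMap I) ≫ P.sB)) ⟶ (yon S).obj (Over.mk sA)}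
      (_ : IsPullback f ((yon S).map (quotι I P.sB)) i P.a) (_ : I ^ (2 ^ n) = ⊥),
      ∃ Q : Over S, IsAffine Q.left ∧ Nonempty ((yon S).obj Q ≅ X) := by
  induction n with
  | zero =>
    intro X P hX R sV v hv hvs A sA i hi I f sq hI
    refine P.exists_affine_of_sqZero hX hv hvs hi fun I' f' sq' k hk k' _ => ?_
    have h := ker_le_of_isPullback sq' sq
    simp only [CommRingCat.hom_ofHom, Ideal.mk_ker] at h
    have := h hk
    rw [pow_zero, pow_one] at hI
    rw [hI, Ideal.mem_bot] at this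
    rw [this, zero_mul]
  | succ n ih =>
    intro X P hX R sV v hv hvs A sA i hi I f sq hI
    obtain ⟨I', π, hπ, hnil, hinv, hπe, hπs, sqW⟩ := P.exists_thick_chart hi
    have hII' : I' ≤ I := by
      have h := ker_le_of_isPullback sqW sq
      simpa only [CommRingCat.hom_ofHom, Ideal.mk_ker] using h
    let K := I' ^ 2
    have hKI : K ≤ I' := Ideal.pow_le_self two_ne_zero
    have hK : K.map P.r.hom = K.map P.l.hom := by rw [Ideal.map_pow, Ideal.map_pow, hinv]
    obtain ⟨Z, iK, p, hZ, hiK, hmono, sqK⟩ := P.exists_closed hX hK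
    haveI := hmono
    haveI := mono_of_thick hi
    let P₂ := P.closedPres hK sqK
    let fac : quotRing K ⟶ quotRing I' := CommRingCat.ofHom (Ideal.Quotient.factor hKI)
    have hfac : quotMap K ≫ fac = quotMap I' := rfl
    have hfs : Spec.map fac ≫ Spec.map (quotMap K) ≫ P.sB = Spec.map (quotMap I') ≫ P.sB := by
      rw [← Category.assoc, ← Spec.map_comp, hfac]
    have hfq : specMap fac hfs ≫ quotι K P.sB = quotι I' P.sB :=
      Over.OverMorphism.ext (by show Spec.map _ ≫ Spec.map _ = Spec.map _; rw [← Spec.map_comp, hfac])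
    haveI : Etale (Spec.map π) := (HasRingHomProperty.Spec_iff (P := @Etale)).2 hπe
    haveI : Surjective (Spec.map π) := ⟨hπs⟩
    haveI : Epi ((yon S).map (specMap π hπ)) := (Sheaf.isLocallySurjective_iff_epi _).1
      (chart_isLocallySurjective ((repWith_yon_map_iff _ _).2 ‹Etale (Spec.map π)›)
        ((repWith_yon_map_iff _ _).2 ‹Surjective (Spec.map π)›))
    obtain ⟨j, hj₁, hj₂⟩ := lift_of_epi_mono ((yon S).map (specMap π hπ)) ((yon S).map (specMap fac hfs) ≫ p) iK i (by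
      rw [Category.assoc, sqK.w, ← Category.assoc ((yon S).map (specMap fac hfs)), ← Functor.map_comp, hfq, sqW.w])
    have hjt : IsThickMor j := repWith_of_isPullback (isPullback_of_factor_mono hj₂) hi
    have hv₂ : (v ≫ quotMap K) ≫ P₂.l = (v ≫ quotMap K) ≫ P₂.r := by
      show (v ≫ quotMap K) ≫ P.lQuot K = (v ≫ quotMap K) ≫ P.rQuot hK
      rw [Category.assoc, Category.assoc, P.quotMap_lQuot, P.quotMap_rQuot, reassoc_of% hv]
    have hvs₂ : Spec.map (v ≫ quotMap K) ≫ sV = P₂.sB := by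
      show _ = Spec.map (quotMap K) ≫ P.sB
      rw [Spec.map_comp, Category.assoc, hvs]
    obtain ⟨Q, hQ, ⟨eQ⟩⟩ := P₂.exists_affine_of_sqZero hZ hv₂ hvs₂ hjt fun I₂ f₂ sq₂ k hk k' hk' => by
      have hs : Spec.map (quotMap K ≫ quotMap I₂) ≫ P.sB = Spec.map (quotMap I₂) ≫ Spec.map (quotMap K) ≫ P.sB := by
        rw [Spec.map_comp, Category.assoc]
      have sq3 : IsPullback f₂ ((yon S).map (specMap (quotMap K ≫ quotMap I₂) hs)) i P.a := by
        have h := sq₂.paste_vert sqK.flip.flip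
        rw [hj₂, ← Functor.map_comp] at h
        rwa [show quotι I₂ P₂.sB ≫ quotι K P.sB = specMap (quotMap K ≫ quotMap I₂) hs from
          Over.OverMorphism.ext (Spec.map_comp _ _).symm] at h
      have hle := ker_le_of_isPullback sq3 sqW
      obtain ⟨b, rfl⟩ := Ideal.Quotient.mk_surjective k
      obtain ⟨b', rfl⟩ := Ideal.Quotient.mk_surjective k'
      have hb : b ∈ I' := by
        have := hle (show b ∈ RingHom.ker (quotMap K ≫ quotMap I₂).hom from Ideal.Quotient.eq_zero_iff_mem.2 hk)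
        simpa [Ideal.Quotient.eq_zero_iff_mem] using this
      have hb' : b' ∈ I' := by
        have := hle (show b' ∈ RingHom.ker (quotMap K ≫ quotMap I₂).hom from Ideal.Quotient.eq_zero_iff_mem.2 hk')
        simpa [Ideal.Quotient.eq_zero_iff_mem] using this
      show Ideal.Quotient.mk K (b * b') = 0
      exact Ideal.Quotient.eq_zero_iff_mem.2 (by show b * b' ∈ I' ^ 2; rw [pow_two]; exact Ideal.mul_mem_mul hb hb')
    obtain ⟨A₂, sA₂, ⟨eA⟩⟩ := exists_specIso_of_affine hQ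
    let e := (yon S).mapIso eA ≪≫ eQ
    have hiKt : IsThickMor iK := P.thick_of_le_nilradical (hKI.trans hnil) hiK sqK
    have sqe : IsPullback e.hom (e.hom ≫ iK) iK (𝟙 _) := IsPullback.of_horiz_isIso ⟨by simp⟩
    refine ih P hX hv hvs (repWith_of_isPullback sqe hiKt) (I := K) (f := p ≫ e.inv)
      (sqK.of_iso (Iso.refl _) e.symm (Iso.refl _) (Iso.refl _) (by simp) (by simp) (by simp) (by simp)) ?_
    rw [← pow_mul, ← pow_succ']
    exact eq_bot_iff.2 ((Ideal.pow_right_mono hII' _).trans hI.le)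

/-- **An algebraic space over an affine scheme with a thickening from an affine scheme is affine.** -/
theorem exists_affine_of_thick_pres {X : Sp S} (hX : IsAlgSpace X) (P : AffPres X) {R : CommRingCat.{u}}
    {sV : Spec R ⟶ S} {v : R ⟶ P.B} (hv : v ≫ P.l = v ≫ P.r) (hvs : Spec.map v ≫ sV = P.sB) {A : CommRingCat.{u}}
    {sA : Spec A ⟶ S} {i : (yon S).obj (Over.mk sA) ⟶ X} (hi : IsThickMor i) :
    ∃ Q : Over S, IsAffine Q.left ∧ Nonempty ((yon S).obj Q ≅ X) := by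
  classical
  obtain ⟨I, π, hπ, hnil, hI, hπe, hπs, sqW⟩ := P.exists_thick_chart hi
  haveI := mono_of_thick hi
  letI : Algebra P.B P.C := P.l.hom.toAlgebra
  haveI : Algebra.Etale P.B P.C := RingHom.etale_algebraMap.1 P.etale_l
  letI algA : Algebra A (P.B ⧸ I) := π.hom.toAlgebra
  haveI : Algebra.Etale A (P.B ⧸ I) := RingHom.etale_algebraMap.1 hπe
  obtain ⟨ψ, hψl, hψr, hψk⟩ := P.exists_psi hI sqW
  obtain ⟨A₀, B₀, _, _, ⟨s, hs⟩, hB₀, hB₀s, ⟨e⟩⟩ := exists_ff_model A (P.B ⧸ I) hπs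
  haveI := hB₀
  -- the polynomial ring
  choose b hb using fun x : s => Ideal.Quotient.mk_surjective (π.hom x.1)
  let χ : MvPolynomial s ℤ →ₐ[ℤ] A := MvPolynomial.aeval fun x : s => (x.1 : A)
  have hχA : χ.range = A₀ := by
    rw [← Algebra.adjoin_range_eq_range_aeval, ← hs]
    simp
  let χ₀ : MvPolynomial s ℤ →ₐ[ℤ] A₀ := χ.codRestrict A₀ fun p => hχA ▸ ⟨p, rfl⟩
  have hχ₀ : Function.Surjective χ₀ := fun a => by
    obtain ⟨p, hp⟩ : (a : A) ∈ χ.range := hχA.symm ▸ a.2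
    exact ⟨p, Subtype.ext hp⟩
  let Ψ : MvPolynomial s ℤ →+* P.B := MvPolynomial.eval₂Hom (Int.castRingHom P.B) b
  have hΨ : (Ideal.Quotient.mk I).comp Ψ = π.hom.comp χ.toRingHom := MvPolynomial.ringHom_ext
    (fun z => by simp) (fun x => by simp [Ψ, χ, hb])
  have hΨ' : ∀ p, Ideal.Quotient.mk I (Ψ p) = π.hom (χ p) := RingHom.congr_fun hΨ
  -- elements which are constant on the relation modulo `I C`
  have hdiff : ∀ (x : P.B) (a : A), Ideal.Quotient.mk I x = π.hom a → P.r.hom x - P.l.hom x ∈ I.map P.l.hom :=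
    fun x a h => hψk (by
      rw [RingHom.mem_ker, map_sub, hψl, hψr, h, show π.hom a = algebraMap A (P.B ⧸ I) a from rfl,
        Algebra.algebraMap_eq_smul_one, tmul_smul, smul_tmul', sub_self])
  have hICnil : I.map P.l.hom ≤ nilradical P.C := Ideal.map_le_iff_le_comap.2 fun x hx =>
    Ideal.mem_comap.2 (mem_nilradical.2 (IsNilpotent.map (mem_nilradical.1 (hnil hx)) P.l.hom))
  have hdiffP : ∀ p, P.r.hom (Ψ p) - P.l.hom (Ψ p) ∈ I.map P.l.hom := fun p => hdiff _ (χ p) (hΨ' p)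
  -- finiteness
  have hfin : ∀ 𝔭 : Ideal (MvPolynomial s ℤ), 𝔭.IsPrime → ∃ g, g ∉ 𝔭 ∧
      Module.Finite (AwayQuot (Ψ g) (𝔭.map Ψ)) (AwayQuot (Ψ g) (𝔭.map Ψ) ⊗[P.B] P.C) := by
    intro 𝔭 h𝔭
    by_cases hker : RingHom.ker χ₀ ≤ 𝔭
    swap
    · obtain ⟨g, hg, hg'⟩ := SetLike.not_le_iff_exists.1 hker
      refine ⟨g, hg', ?_⟩
      have hgI : Ψ g ∈ I := by
        rw [← Ideal.Quotient.eq_zero_iff_mem, hΨ']
        have h0 : χ g = 0 := congrArg Subtype.val (RingHom.mem_ker.1 hg)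
        rw [h0, map_zero]
      have hsub : Subsingleton (AwayQuot (Ψ g) (𝔭.map Ψ)) := by
        have h1 : IsNilpotent (algebraMap P.B (AwayQuot (Ψ g) (𝔭.map Ψ)) (Ψ g)) :=
          IsNilpotent.map (mem_nilradical.1 (hnil hgI)) _
        have h2 : IsUnit (algebraMap P.B (AwayQuot (Ψ g) (𝔭.map Ψ)) (Ψ g)) := by
          rw [IsScalarTower.algebraMap_apply P.B (Localization.Away (Ψ g)) (AwayQuot (Ψ g) (𝔭.map Ψ))]
          exact (IsLocalization.Away.algebraMap_isUnit (Ψ g)).map _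
        obtain ⟨n, hn⟩ := h1
        have h3 := h2.pow n
        rw [hn, isUnit_zero_iff] at h3
        exact subsingleton_of_zero_eq_one h3
      have := Module.subsingleton (AwayQuot (Ψ g) (𝔭.map Ψ)) (AwayQuot (Ψ g) (𝔭.map Ψ) ⊗[P.B] P.C)
      infer_instance
    haveI : (𝔭.map χ₀).IsPrime := Ideal.map_isPrime_of_surjective hχ₀ hker
    obtain ⟨g₀, hg₀, β, hβ⟩ := exists_generic_span (A := A₀) (B := B₀) (𝔭.map χ₀)
    obtain ⟨g, rfl⟩ := hχ₀ g₀
    refine ⟨g, fun h => hg₀ (Ideal.mem_map_of_mem _ h), finite_of_nilRadical _ _ (𝔭.map Ψ ⊔ I) le_sup_left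
      (sup_le Ideal.le_radical (hnil.trans (Ideal.radical_mono bot_le))) ?_⟩
    refine finite_model (R := AwayQuot (Ψ g) (𝔭.map Ψ ⊔ I)) P.r.hom I (le_of_eq hI) ψ hψl hψr hψk
      χ₀.toRingHom hχ₀ Ψ hΨ' e 𝔭 g β hβ (fun x hx => ?_) ?_
    · rw [Algebra.algebraMap_eq_smul_one, Algebra.TensorProduct.one_def, ← tmul_smul]
      have : x • (1 : P.B ⧸ 𝔭.map Ψ ⊔ I) = 0 := by
        rw [← Algebra.algebraMap_eq_smul_one]; exact Ideal.Quotient.eq_zero_iff_mem.2 hx
      rw [this, tmul_zero]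
    · rw [IsScalarTower.algebraMap_apply P.B (Localization.Away (Ψ g)) (AwayQuot (Ψ g) (𝔭.map Ψ ⊔ I))]
      exact (IsLocalization.Away.algebraMap_isUnit (Ψ g)).map _
  -- the finitely generated invariant ideal
  have hfix : ∀ x ∈ I.map P.l.hom, ∃ F : Finset P.B, (∀ f ∈ F, f ∈ I) ∧ x ∈ (Ideal.span (F : Set P.B)).map P.l.hom := by
    intro x hx
    obtain ⟨T, hT, hxT⟩ := Submodule.mem_span_finite_of_mem_span hx
    obtain ⟨F, hF, rfl⟩ := Finset.subset_set_image_iff.1 hT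
    refine ⟨F, fun f hf => hF hf, ?_⟩
    rw [Finset.coe_image] at hxT
    rw [Ideal.map_span]
    exact hxT
  choose F hF hxF using fun x : s => hfix _ (hdiffP (MvPolynomial.X x))
  obtain ⟨rels, hrels⟩ := (IsNoetherian.noetherian (RingHom.ker χ₀.toRingHom) : Ideal.FG _)
  have hrI : ∀ p ∈ RingHom.ker χ₀.toRingHom, Ψ p ∈ I := fun p hp => by
    rw [← Ideal.Quotient.eq_zero_iff_mem, hΨ']
    have h0 : χ p = 0 := congrArg Subtype.val (RingHom.mem_ker.1 hp)
    rw [h0, map_zero]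
  obtain ⟨K, hKfg, hKI, hKinv, hKmem⟩ := exists_invariant_fg Ψ P.relData
    (fun p => mem_nilradical.1 (hICnil (hdiffP p))) hfin I (le_of_eq hI)
    (Finset.univ.biUnion F ∪ rels.image Ψ) (fun x hx => by
      rcases Finset.mem_union.1 hx with h | h
      · obtain ⟨y, -, hy⟩ := Finset.mem_biUnion.1 h
        exact hF y x hy
      · obtain ⟨p, hp, rfl⟩ := Finset.mem_image.1 h
        exact hrI p (hrels ▸ Ideal.subset_span hp))
  have hK : K.map P.r.hom = K.map P.l.hom := (P.invariant_iff K).1 hKinv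
  obtain ⟨Z, iK, p, hZ, hiK, hmono, sqK⟩ := P.exists_closed hX hK
  haveI := hmono
  let P₂ := P.closedPres hK sqK
  let fac : quotRing K ⟶ quotRing I := CommRingCat.ofHom (Ideal.Quotient.factor hKI)
  have hfac : quotMap K ≫ fac = quotMap I := rfl
  have hfs : Spec.map fac ≫ Spec.map (quotMap K) ≫ P.sB = Spec.map (quotMap I) ≫ P.sB := by
    rw [← Category.assoc, ← Spec.map_comp, hfac]
  have hfq : specMap fac hfs ≫ quotι K P.sB = quotι I P.sB :=
    Over.OverMorphism.ext (by show Spec.map _ ≫ Spec.map _ = Spec.map _; rw [← Spec.map_comp, hfac])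
  haveI : Etale (Spec.map π) := (HasRingHomProperty.Spec_iff (P := @Etale)).2 hπe
  haveI : Surjective (Spec.map π) := ⟨hπs⟩
  haveI : Epi ((yon S).map (specMap π hπ)) := (Sheaf.isLocallySurjective_iff_epi _).1
    (chart_isLocallySurjective ((repWith_yon_map_iff _ _).2 ‹Etale (Spec.map π)›)
      ((repWith_yon_map_iff _ _).2 ‹Surjective (Spec.map π)›))
  obtain ⟨i₂, hi₁, hi₂⟩ := lift_of_epi_mono ((yon S).map (specMap π hπ)) ((yon S).map (specMap fac hfs) ≫ p) iK i (by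
    rw [Category.assoc, sqK.w, ← Category.assoc ((yon S).map (specMap fac hfs)), ← Functor.map_comp, hfq, sqW.w])
  have hi₂t : IsThickMor i₂ := repWith_of_isPullback (isPullback_of_factor_mono hi₂) hi
  have hπ₂ : Spec.map π ≫ sA = Spec.map fac ≫ P₂.sB := hπ.trans hfs.symm
  have sqW₂ : IsPullback ((yon S).map (specMap π hπ₂))
      ((yon S).map (specMap fac rfl : Over.mk (Spec.map fac ≫ P₂.sB) ⟶ Over.mk P₂.sB)) i₂ P₂.a := by
    let eo : Over.mk (Spec.map fac ≫ P₂.sB) ≅ Over.mk (Spec.map (quotMap I) ≫ P.sB) := Over.isoMk (Iso.refl _) (by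
      show 𝟙 _ ≫ Spec.map (quotMap I) ≫ P.sB = Spec.map fac ≫ Spec.map (quotMap K) ≫ P.sB
      rw [Category.id_comp, hfs])
    refine IsPullback.of_bot (h₁₁ := (yon S).map (specMap π hπ₂)) ?_ ?_ sqK
    · rw [hi₂, ← Functor.map_comp]
      refine sqW.of_iso ((yon S).mapIso eo.symm) (Iso.refl _) (Iso.refl _) (Iso.refl _) ?_ ?_ (by simp) (by simp)
      · simp only [Iso.refl_hom, Category.comp_id, Functor.mapIso_hom, ← Functor.map_comp]
        exact congrArg _ (Over.OverMorphism.ext (Category.id_comp _).symm)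
      · simp only [Iso.refl_hom, Category.comp_id, Functor.mapIso_hom, ← Functor.map_comp]
        refine congrArg _ (Over.OverMorphism.ext ?_)
        show Spec.map (quotMap I) = 𝟙 _ ≫ Spec.map fac ≫ Spec.map (quotMap K)
        rw [Category.id_comp, ← Spec.map_comp, hfac]
    · have h1 : (yon S).map (specMap π hπ₂) = (yon S).map eo.hom ≫ (yon S).map (specMap π hπ) := by
        rw [← Functor.map_comp]; exact congrArg _ (Over.OverMorphism.ext (Category.id_comp _).symm)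
      have h2 : specMap fac rfl = eo.hom ≫ specMap fac hfs :=
        Over.OverMorphism.ext (Category.id_comp _).symm
      rw [h1, Category.assoc, hi₁, h2, Functor.map_comp, Category.assoc]
      rfl
  -- functions on `Z`
  have hv₂ : (v ≫ quotMap K) ≫ P₂.l = (v ≫ quotMap K) ≫ P₂.r := by
    show (v ≫ quotMap K) ≫ P.lQuot K = (v ≫ quotMap K) ≫ P.rQuot hK
    rw [Category.assoc, Category.assoc, P.quotMap_lQuot, P.quotMap_rQuot, reassoc_of% hv]
  have hvs₂ : Spec.map (v ≫ quotMap K) ≫ sV = P₂.sB := by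
    show _ = Spec.map (quotMap K) ≫ P.sB
    rw [Spec.map_comp, Category.assoc, hvs]
  let A' : CommRingCat.{u} := CommRingCat.of (RingHom.eqLocus P₂.l.hom P₂.r.hom)
  let j : A' ⟶ P₂.B := CommRingCat.ofHom (RingHom.eqLocus P₂.l.hom P₂.r.hom).subtype
  obtain ⟨sA', hjs⟩ := P₂.exists_eq_pres hv₂ hvs₂
  obtain ⟨hinj, θ, hθ⟩ := P.exists_theta hI sqW hπe hπs (j ≫ fac) fun x => by
    obtain ⟨y, hy⟩ := Ideal.Quotient.mk_surjective (x.1 : P.B ⧸ K)
    refine ⟨y, ?_, ?_⟩
    · show _ = Ideal.Quotient.factor hKI x.1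
      rw [← hy]; rfl
    · have h : P₂.l.hom x.1 = P₂.r.hom x.1 := x.2
      rw [← hy] at h
      exact Ideal.map_mono hKI (Ideal.Quotient.eq.1 h.symm)
  -- the model
  have hKmemX : ∀ x : s, P.r.hom (Ψ (MvPolynomial.X x)) - P.l.hom (Ψ (MvPolynomial.X x)) ∈ K.map P.l.hom := fun x =>
    Ideal.map_mono (Ideal.span_le.2 fun f hf =>
      hKmem f (Finset.mem_union_left _ (Finset.mem_biUnion.2 ⟨x, Finset.mem_univ _, hf⟩))) (hxF x)
  have heq : P₂.l.hom.comp ((Ideal.Quotient.mk K).comp Ψ) = P₂.r.hom.comp ((Ideal.Quotient.mk K).comp Ψ) :=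
    MvPolynomial.ringHom_ext (fun z => by simp) fun x => (Ideal.Quotient.eq.2 (hKmemX x)).symm
  let Φ : MvPolynomial s ℤ →+* A' := ((Ideal.Quotient.mk K).comp Ψ).codRestrict _ (RingHom.congr_fun heq)
  have hΦ : RingHom.ker χ₀.toRingHom ≤ RingHom.ker Φ := by
    rw [← hrels, Ideal.span_le]
    intro p hp
    exact Subtype.ext (Ideal.Quotient.eq_zero_iff_mem.2
      (hKmem _ (Finset.mem_union_right _ (Finset.mem_image_of_mem Ψ hp))))
  let φ₀ : A₀ →+* A' := RingHom.liftOfSurjective χ₀.toRingHom hχ₀ ⟨Φ, hΦ⟩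
  have hφ₀ : ∀ p, φ₀ (χ₀ p) = Φ p := RingHom.liftOfRightInverse_comp_apply _ _ _ _
  have hθφ : ∀ a : A₀, θ.hom (φ₀ a) = a.1 := fun a => by
    obtain ⟨p, rfl⟩ := hχ₀ a
    refine hinj ?_
    rw [hφ₀]
    exact (ConcreteCategory.congr_hom hθ (Φ p)).trans (hΨ' p)
  letI : Algebra A₀ A' := φ₀.toAlgebra
  letI : Algebra A' A := θ.hom.toAlgebra
  haveI : IsScalarTower A₀ A' A := IsScalarTower.of_algebraMap_eq fun a => (hθφ a).symm
  let e₁ : A ⊗[A'] (A' ⊗[A₀] B₀) ≃ₐ[A] (P.B ⧸ I) := (Algebra.TensorProduct.cancelBaseChange A₀ A' A A B₀).trans e.symm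
  obtain ⟨Q, hQ, ⟨eQ⟩⟩ := P₂.exists_affine_of_model hZ hi₂t hπe hπs sqW₂ j sA'
    (CommRingCat.hom_ext (RingHom.ext fun x => x.2)) hjs θ hθ.symm
    (CommRingCat.ofHom (algebraMap A' (A' ⊗[A₀] B₀))) (RingHom.etale_algebraMap.2 inferInstance)
    (comap_surjective_baseChange fun q => hB₀s.range_eq.symm ▸ Set.mem_univ _)
    (CommRingCat.ofHom ((e₁.toRingEquiv.toRingHom).comp
      (Algebra.TensorProduct.includeRight : A' ⊗[A₀] B₀ →ₐ[A'] A ⊗[A'] (A' ⊗[A₀] B₀)).toRingHom))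
    ((CommRingCat.isPushout_tensorProduct A' A (A' ⊗[A₀] B₀)).of_iso (Iso.refl _) (Iso.refl _) (Iso.refl _)
      e₁.toRingEquiv.toCommRingCatIso (by simp [RingHom.algebraMap_toAlgebra]) (by simp)
      (CommRingCat.hom_ext (RingHom.ext fun x => e₁.commutes x))
      (CommRingCat.hom_ext (RingHom.ext fun x => rfl)))
  -- the nilpotent thickening `Z → X`
  obtain ⟨A₂, sA₂, ⟨eA⟩⟩ := exists_specIso_of_affine hQ
  let e₂ := (yon S).mapIso eA ≪≫ eQ
  have sqe : IsPullback e₂.hom (e₂.hom ≫ iK) iK (𝟙 _) := IsPullback.of_horiz_isIso ⟨by simp⟩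
  obtain ⟨n, hn⟩ := (Ideal.FG.isNilpotent_iff_le_nilradical hKfg).2 (hKI.trans hnil)
  refine exists_affine_of_nilpotent n P hX hv hvs
    (repWith_of_isPullback sqe (P.thick_of_le_nilradical (hKI.trans hnil) hiK sqK)) (I := K) (f := p ≫ e₂.inv)
    (sqK.of_iso (Iso.refl _) e₂.symm (Iso.refl _) (Iso.refl _) (by simp) (by simp) (by simp) (by simp)) ?_
  exact eq_bot_iff.2 ((Ideal.pow_le_pow_right n.lt_two_pow_self.le).trans hn.le)

end GrothLib.AlgSp
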