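import Groth.Agent.Lib.AlgSp.NormRing
import Groth.Agent.Lib.AlgSp.LqfScheme
import Groth.Agent.Lib.AlgSp.ThickAffine
import Groth.Agent.Lib.AlgSp.Strata

/-!
# Relative normalization over an affine scheme

* `IsIntInitial q μ φ`: `N ⟶ V` is initial among integral `V`-schemes receiving `P`;
* `exists_affine_presentation`: affine chart and affine cover of its relation;
* `exists_affine_norm`: a qcqs space over an affine scheme has a normalization whose smooth base changes to
  affine schemes are again initial.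
-/

set_option autoImplicit false
universe u
open CategoryTheory CategoryTheory.Limits AlgebraicGeometry TensorProduct
set_option backward.isDefEq.respectTransparency false

namespace GrothLib.AlgSp

open _root_.AlgSp

variable {S : Scheme.{u}}

/-- Initial among schemes integral over `V` under `P`. -/
def IsIntInitial {P : Sp S} {V N : Over S} (q : P ⟶ (yon S).obj V) (μ : N ⟶ V) (φ : P ⟶ (yon S).obj N) : Prop :=
  ∀ ⦃Z : Over S⦄ (π : Z ⟶ V), IsIntegralHom π.left → ∀ g : P ⟶ (yon S).obj Z, g ≫ (yon S).map π = q →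
    ∃! h : N ⟶ Z, φ ≫ (yon S).map h = g ∧ h ≫ π = μ

/-- An affine chart with an affine cover of its relation. -/
theorem exists_affine_presentation {U : Over S} [IsAffine U.left] {P : Sp S} (hP : IsAlgSpace P)
    (p : P ⟶ (yon S).obj U) (hqc : IsQuasiCompactMor p) (hqs : IsQuasiSeparatedMor p) :
    ∃ (W C : Over S) (w : (yon S).obj W ⟶ P) (c₁ c₂ : C ⟶ W), IsAffine W.left ∧ IsAffine C.left ∧
      RepWith @Etale w ∧ RepWith @Surjective w ∧ (yon S).map c₁ ≫ w = (yon S).map c₂ ≫ w ∧
      ∀ (T : Sp S) (g : (yon S).obj W ⟶ T), (yon S).map c₁ ≫ g = (yon S).map c₂ ≫ g → ∃ f : P ⟶ T, w ≫ f = g := by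
  obtain ⟨W, w, hW, we, ws⟩ := exists_affine_surjective_chart hP
    (hqc (IsAlgSpace.yon_obj _) (isQuasiCompactSp_yon U) (𝟙 _) (𝟙 _) p IsPullback.of_id_fst)
  haveI := hW
  obtain ⟨R, d₁, d₂, sqR⟩ := exists_isPullback_yon hP.diag w w
  obtain ⟨h, hh⟩ := (yon S).map_surjective (w ≫ p)
  let Q : Over S := Over.mk (pullback.fst h.left h.left ≫ W.hom)
  let q₁ : Q ⟶ W := Over.homMk (pullback.fst h.left h.left) rfl
  let q₂ : Q ⟶ W := Over.homMk (pullback.snd h.left h.left) (by
    show pullback.snd h.left h.left ≫ W.hom = pullback.fst h.left h.left ≫ W.hom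
    rw [← Over.w h, ← Category.assoc, ← Category.assoc, pullback.condition])
  have sqQ : IsPullback q₁ q₂ h h := isPullback_of_left (IsPullback.of_hasPullback h.left h.left)
  have hd : d₁ ≫ h = d₂ ≫ h := (yon S).map_injective (by
    rw [Functor.map_comp, Functor.map_comp, hh, ← Category.assoc, ← Category.assoc, sqR.w])
  have sqk := isPullback_kernelPairDiagonal p sqR hh.symm sqQ (sqQ.lift_fst d₁ d₂ hd) (sqQ.lift_snd d₁ d₂ hd)
  haveI : QuasiCompact (sqQ.lift d₁ d₂ hd).left := hqs.2 _ _ _ sqk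
  haveI : IsAffine Q.left := inferInstanceAs (IsAffine (pullback h.left h.left))
  haveI : CompactSpace ↥R.left := QuasiCompact.compactSpace_of_compactSpace (sqQ.lift d₁ d₂ hd).left
  obtain ⟨C, c, hC, ce, cs⟩ := exists_affine_surjective_chart (IsAlgSpace.yon_obj R) (isQuasiCompactSp_yon R)
  haveI := chart_isLocallySurjective ce cs
  haveI := chart_isLocallySurjective we ws
  obtain ⟨c', rfl⟩ := (yon S).map_surjective c
  refine ⟨W, C, w, c' ≫ d₁, c' ≫ d₂, hW, hC, we, ws, ?_, fun T g hg => ?_⟩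
  · rw [Functor.map_comp, Functor.map_comp, Category.assoc, Category.assoc, sqR.w]
  · haveI : Epi ((yon S).map c') := (Sheaf.isLocallySurjective_iff_epi _).1 inferInstance
    have := IsRegularEpiCategory.regularEpiOfEpi (C := Sp S) w
    refine IsRegularEpi.exists_of_isKernelPair w sqR g ?_
    rw [← cancel_epi ((yon S).map c')]
    rwa [Functor.map_comp, Functor.map_comp, Category.assoc, Category.assoc] at hg

/-- The normalization over a spectrum. -/
theorem exists_affine_norm_spec {R : CommRingCat.{u}} {sR : Spec R ⟶ S} {P : Sp S} (hP : IsAlgSpace P)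
    (p : P ⟶ (yon S).obj (Over.mk sR)) (hqc : IsQuasiCompactMor p) (hqs : IsQuasiSeparatedMor p) :
    ∃ (N : Over S) (ν : N ⟶ Over.mk sR) (φ : P ⟶ (yon S).obj N), IsIntegralHom ν.left ∧ φ ≫ (yon S).map ν = p ∧
      ∀ {V N' : Over S} (v : V ⟶ Over.mk sR), IsAffine V.left → Smooth v.left →
        ∀ {P' : Sp S} {a : P' ⟶ P} {q : P' ⟶ (yon S).obj V} {b : N' ⟶ N} {μ : N' ⟶ V},
          IsPullback a q p ((yon S).map v) → IsPullback b μ ν v →
          ∀ φ' : P' ⟶ (yon S).obj N', φ' ≫ (yon S).map b = a ≫ φ → φ' ≫ (yon S).map μ = q →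
            IsIntInitial q μ φ' := by
  haveI : IsAffine (Over.mk sR).left := inferInstanceAs (IsAffine (Spec R))
  obtain ⟨W, C, w, c₁, c₂, hW, hC, we, ws, hwc, hdesc⟩ := exists_affine_presentation hP p hqc hqs
  obtain ⟨A, sA, ⟨eW⟩⟩ := exists_specIso_of_affine hW
  obtain ⟨Cr, sC, ⟨eC⟩⟩ := exists_specIso_of_affine hC
  obtain ⟨h₀, hh₀⟩ := (yon S).map_surjective (((yon S).map eW.hom ≫ w) ≫ p)
  obtain ⟨u, hu, rfl⟩ := exists_specMap h₀
  obtain ⟨l, hl, hl'⟩ := exists_specMap (eC.hom ≫ c₁ ≫ eW.inv)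
  obtain ⟨r, hr, hr'⟩ := exists_specMap (eC.hom ≫ c₂ ≫ eW.inv)
  have hlw : (yon S).map (specMap l hl) ≫ (yon S).map eW.hom ≫ w =
      (yon S).map (specMap r hr) ≫ (yon S).map eW.hom ≫ w := by
    rw [← hl', ← hr', ← Functor.map_comp_assoc, ← Functor.map_comp_assoc]
    simp only [Category.assoc, Iso.inv_hom_id, Category.comp_id]
    rw [Functor.map_comp, Functor.map_comp, Category.assoc, Category.assoc, hwc]
  have hlr : u ≫ l = u ≫ r := Spec.map_injective (by
    have e : specMap l hl ≫ specMap u hu = specMap r hr ≫ specMap u hu := (yon S).map_injective (by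
      rw [Functor.map_comp, Functor.map_comp, hh₀]
      simp only [Category.assoc]
      rw [reassoc_of% hlw])
    rw [Spec.map_comp, Spec.map_comp]; exact congrArg (·.left) e)
  letI algA : Algebra R A := u.hom.toAlgebra
  letI algC : Algebra R Cr := (u ≫ l).hom.toAlgebra
  let la : A →ₐ[R] Cr := { l.hom with commutes' := fun _ => rfl }
  let ra : A →ₐ[R] Cr := ⟨r.hom, fun x => by
    show (u ≫ r).hom x = (u ≫ l).hom x
    rw [hlr]⟩
  let B := eqIntClosure la ra
  let νr : R ⟶ CommRingCat.of B := CommRingCat.ofHom (algebraMap R B)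
  let ir : CommRingCat.of B ⟶ A := CommRingCat.ofHom B.val.toRingHom
  have hνi : νr ≫ ir = u := CommRingCat.hom_ext (RingHom.ext fun x => rfl)
  have hir : ir ≫ l = ir ≫ r := CommRingCat.hom_ext (RingHom.ext fun x => x.2.2)
  let sN : Spec (CommRingCat.of B) ⟶ S := Spec.map νr ≫ sR
  have hsA : Spec.map ir ≫ sN = sA := by
    rw [← hu, ← hνi, Spec.map_comp, Category.assoc]
  obtain ⟨φ, hφ⟩ := hdesc _ ((yon S).map (eW.inv ≫ specMap ir hsA)) (by
    rw [← Functor.map_comp, ← Functor.map_comp]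
    refine congrArg _ ((cancel_epi eC.hom).1 ?_)
    rw [← Category.assoc c₁, ← Category.assoc eC.hom, hl', ← Category.assoc c₂, ← Category.assoc eC.hom, hr']
    exact Over.OverMorphism.ext (by
      show Spec.map l ≫ Spec.map ir = Spec.map r ≫ Spec.map ir
      rw [← Spec.map_comp, ← Spec.map_comp, hir]))
  have hw₀ : (yon S).map eW.hom ≫ w ≫ φ = (yon S).map (specMap ir hsA) := by
    rw [hφ, ← Functor.map_comp, eW.hom_inv_id_assoc]
  haveI := chart_isLocallySurjective we ws
  haveI : Epi w := (Sheaf.isLocallySurjective_iff_epi _).1 inferInstance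
  have hφν : φ ≫ (yon S).map (specMap νr rfl) = p := by
    rw [← cancel_epi w, ← cancel_epi ((yon S).map eW.hom), reassoc_of% hw₀, ← Functor.map_comp]
    rw [Category.assoc] at hh₀
    rw [← hh₀]
    exact congrArg _ (Over.OverMorphism.ext (by
      show Spec.map ir ≫ Spec.map νr = Spec.map u
      rw [← Spec.map_comp, hνi]))
  have hint : Algebra.IsIntegral R B := isIntegral_eqIntClosure la ra
  refine ⟨Over.mk sN, specMap νr rfl, φ, IsIntegralHom.SpecMap_iff.2 (fun x => hint.isIntegral x), hφν, ?_⟩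
  intro V N' v hV hv P' a q b μ sqP sqN φ' hφb hφμ Z π hπ g hg
  obtain ⟨R', sR', ⟨eV⟩⟩ := exists_specIso_of_affine hV
  obtain ⟨ρ, hρ, hρ'⟩ := exists_specMap (eV.hom ≫ v)
  have hρe : Smooth (Spec.map ρ) := by
    rw [show Spec.map ρ = eV.hom.left ≫ v.left from (congrArg (·.left) hρ').symm]
    infer_instance
  letI algS : Algebra R R' := ρ.hom.toAlgebra
  haveI : Algebra.Smooth R R' := RingHom.smooth_algebraMap.1 ((HasRingHomProperty.Spec_iff (P := @Smooth)).1 hρe)
  -- the pullback of the chart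
  let T := CommRingCat.of (R' ⊗[R] A)
  let iA : A ⟶ T := CommRingCat.ofHom
    (Algebra.TensorProduct.includeRight : A →ₐ[R] R' ⊗[R] A).toRingHom
  let iS : R' ⟶ T := CommRingCat.ofHom Algebra.TensorProduct.includeLeftRingHom
  let sT : Spec T ⟶ S := Spec.map iS ≫ sR'
  have hTA : u ≫ iA = ρ ≫ iS :=
    CommRingCat.hom_ext (Algebra.TensorProduct.includeLeftRingHom_comp_algebraMap).symm
  have hiA : Spec.map iA ≫ sA = sT := by
    rw [← hu, ← Category.assoc, ← Spec.map_comp, hTA, Spec.map_comp, Category.assoc, hρ]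
  have sqT : IsPullback (specMap iA hiA) (specMap iS rfl : Over.mk sT ⟶ Over.mk sR') (specMap u hu) (specMap ρ hρ) :=
    isPullback_of_left (isPullback_SpecMap_of_isPushout _ _ _ _
      (CommRingCat.isPushout_tensorProduct R R' A).flip)
  have hwq : ((yon S).map (specMap iA hiA) ≫ (yon S).map eW.hom ≫ w) ≫ p =
      (yon S).map (specMap iS rfl ≫ eV.hom) ≫ (yon S).map v := by
    rw [Category.assoc, ← hh₀, ← Functor.map_comp, ← Functor.map_comp, sqT.w, ← hρ', Category.assoc]
  let w' : (yon S).obj (Over.mk sT) ⟶ P' := sqP.lift _ _ hwq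
  have hw'a : w' ≫ a = (yon S).map (specMap iA hiA) ≫ (yon S).map eW.hom ≫ w := sqP.lift_fst _ _ hwq
  have hw'q : w' ≫ q = (yon S).map (specMap iS rfl ≫ eV.hom) := sqP.lift_snd _ _ hwq
  have sqT' : IsPullback ((yon S).map (specMap iA hiA)) ((yon S).map (specMap iS rfl ≫ eV.hom))
      ((yon S).map (specMap u hu)) ((yon S).map v) :=
    isPullback_yon (sqT.of_iso (Iso.refl _) (Iso.refl _) eV (Iso.refl _) (by simp) (by simp) (by simp)
      (by simp [hρ']))
  have hww : RepWith @Etale ((yon S).map eW.hom ≫ w) ∧ RepWith @Surjective ((yon S).map eW.hom ≫ w) :=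
    ⟨repWith_comp (repWith_iso _) we, repWith_comp (repWith_iso _) ws⟩
  have sqw : IsPullback ((yon S).map (specMap iA hiA)) w' ((yon S).map eW.hom ≫ w) a := by
    refine IsPullback.of_bot (t := sqP) ?_ hw'a.symm
    rw [hw'q, ← hh₀]
    exact sqT'
  haveI := chart_isLocallySurjective (repWith_of_isPullback sqw hww.1) (repWith_of_isPullback sqw hww.2)
  haveI : Epi w' := (Sheaf.isLocallySurjective_iff_epi _).1 inferInstance
  -- the pullback of the normalization
  let M := CommRingCat.of (R' ⊗[R] B)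
  let iB : CommRingCat.of B ⟶ M := CommRingCat.ofHom
    (Algebra.TensorProduct.includeRight : B →ₐ[R] R' ⊗[R] B).toRingHom
  let jS : R' ⟶ M := CommRingCat.ofHom Algebra.TensorProduct.includeLeftRingHom
  let sM : Spec M ⟶ S := Spec.map jS ≫ sR'
  have hMB : νr ≫ iB = ρ ≫ jS :=
    CommRingCat.hom_ext (Algebra.TensorProduct.includeLeftRingHom_comp_algebraMap).symm
  have hiB : Spec.map iB ≫ sN = sM := by
    rw [← Category.assoc, ← Spec.map_comp, hMB, Spec.map_comp, Category.assoc, hρ]
  have sqM : IsPullback (specMap iB hiB) (specMap jS rfl ≫ eV.hom) (specMap νr rfl) v :=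
    (isPullback_of_left (isPullback_SpecMap_of_isPushout _ _ _ _
      (CommRingCat.isPushout_tensorProduct R R' B).flip) :
      IsPullback (specMap iB hiB) (specMap jS rfl : Over.mk sM ⟶ Over.mk sR') (specMap νr rfl)
        (specMap ρ hρ)).of_iso (Iso.refl _) (Iso.refl _) eV (Iso.refl _) (by simp) (by simp) (by simp)
      (by simp [hρ'])
  let e := sqN.isoIsPullback _ _ sqM
  have heb : e.hom ≫ specMap iB hiB = b := sqN.isoIsPullback_hom_fst _ _ sqM
  have heμ : e.hom ≫ specMap jS rfl ≫ eV.hom = μ := sqN.isoIsPullback_hom_snd _ _ sqM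
  let mv := Algebra.TensorProduct.map (AlgHom.id R' R') B.val
  let im : M ⟶ T := CommRingCat.ofHom mv.toRingHom
  have him₁ : iB ≫ im = ir ≫ iA := CommRingCat.hom_ext (RingHom.ext fun x => rfl)
  have him₂ : jS ≫ im = iS := CommRingCat.hom_ext (RingHom.ext fun x => (mv.commutes x : _))
  have hsM : Spec.map im ≫ sM = sT := by rw [← Category.assoc, ← Spec.map_comp, him₂]
  have hw'φ : w' ≫ φ' ≫ (yon S).map e.hom = (yon S).map (specMap im hsM) := by
    refine (isPullback_yon sqM).hom_ext ?_ ?_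
    · rw [Category.assoc, Category.assoc, ← Functor.map_comp, heb, hφb, ← Category.assoc, hw'a, Category.assoc,
        Category.assoc, hw₀, ← Functor.map_comp, ← Functor.map_comp]
      exact congrArg _ (Over.OverMorphism.ext (by
        show Spec.map iA ≫ Spec.map ir = Spec.map im ≫ Spec.map iB
        rw [← Spec.map_comp, ← Spec.map_comp, him₁]))
    · rw [Category.assoc, Category.assoc, ← Functor.map_comp, heμ, hφμ, hw'q, ← Functor.map_comp]
      refine congrArg _ (Eq.trans ?_ (Category.assoc _ _ _))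
      refine congrArg (· ≫ eV.hom) (Over.OverMorphism.ext ?_)
      show Spec.map iS = Spec.map im ≫ Spec.map jS
      rw [← Spec.map_comp, him₂]
  -- the integral scheme
  haveI := hV
  haveI := hπ
  haveI : IsAffine Z.left := isAffine_of_isAffineHom π.left
  obtain ⟨D, sD, ⟨eD⟩⟩ := exists_specIso_of_affine (Q := Z) inferInstance
  obtain ⟨δ, hδ, hδ'⟩ := exists_specMap (eD.hom ≫ π ≫ eV.inv)
  have hδi : IsIntegralHom (Spec.map δ) := by
    rw [show Spec.map δ = eD.hom.left ≫ π.left ≫ eV.inv.left from (congrArg (·.left) hδ').symm]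
    infer_instance
  obtain ⟨χ₀, hχ₀⟩ := (yon S).map_surjective (w' ≫ g)
  obtain ⟨χ, hχ, hχ'⟩ := exists_specMap (χ₀ ≫ eD.inv)
  have hδχ : δ ≫ χ = iS := Spec.map_injective (by
    have h1 : (χ₀ ≫ eD.inv) ≫ eD.hom ≫ π ≫ eV.inv = specMap iS rfl := by
      have h2 : χ₀ ≫ π = specMap iS rfl ≫ eV.hom := (yon S).map_injective (by
        rw [Functor.map_comp, hχ₀, Category.assoc, hg, hw'q])
      rw [Category.assoc, eD.inv_hom_id_assoc, ← Category.assoc, h2, Category.assoc, eV.hom_inv_id,
        Category.comp_id]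
    rw [hδ', hχ'] at h1
    rw [Spec.map_comp]
    exact congrArg (·.left) h1)
  -- equalised by the relation
  let Cs := CommRingCat.of (R' ⊗[R] Cr)
  let ml : T ⟶ Cs := CommRingCat.ofHom (Algebra.TensorProduct.map (AlgHom.id R' R') la).toRingHom
  let mr : T ⟶ Cs := CommRingCat.ofHom (Algebra.TensorProduct.map (AlgHom.id R' R') ra).toRingHom
  let jC : Cr ⟶ Cs := CommRingCat.ofHom
    (Algebra.TensorProduct.includeRight : Cr →ₐ[R] R' ⊗[R] Cr).toRingHom
  have hmlA : iA ≫ ml = l ≫ jC := CommRingCat.hom_ext (RingHom.ext fun x => rfl)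
  have hmrA : iA ≫ mr = r ≫ jC := CommRingCat.hom_ext (RingHom.ext fun x => rfl)
  have hmS : iS ≫ ml = iS ≫ mr := CommRingCat.hom_ext (RingHom.ext fun x => ((Algebra.TensorProduct.map (AlgHom.id R' R') la).commutes x).trans ((Algebra.TensorProduct.map (AlgHom.id R' R') ra).commutes x).symm)
  let sCs : Spec Cs ⟶ S := Spec.map ml ≫ sT
  have hmr : Spec.map mr ≫ sT = sCs := by
    show Spec.map mr ≫ Spec.map iS ≫ sR' = Spec.map ml ≫ Spec.map iS ≫ sR'
    rw [← Category.assoc, ← Category.assoc, ← Spec.map_comp, ← Spec.map_comp, hmS]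
  have hjC : Spec.map jC ≫ sC = sCs := by
    show _ = Spec.map ml ≫ sT
    rw [← hl, ← Category.assoc, ← Spec.map_comp, ← hiA, ← Category.assoc, ← Spec.map_comp, hmlA]
  have heq : (yon S).map (specMap ml rfl : Over.mk sCs ⟶ _) ≫ w' = (yon S).map (specMap mr hmr) ≫ w' := by
    refine sqP.hom_ext ?_ ?_
    · have el : (specMap ml rfl : Over.mk sCs ⟶ _) ≫ specMap iA hiA = specMap jC hjC ≫ specMap l hl :=
        Over.OverMorphism.ext (by
          show Spec.map ml ≫ Spec.map iA = Spec.map jC ≫ Spec.map l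
          rw [← Spec.map_comp, ← Spec.map_comp, hmlA])
      have er : specMap mr hmr ≫ specMap iA hiA = specMap jC hjC ≫ specMap r hr :=
        Over.OverMorphism.ext (by
          show Spec.map mr ≫ Spec.map iA = Spec.map jC ≫ Spec.map r
          rw [← Spec.map_comp, ← Spec.map_comp, hmrA])
      rw [Category.assoc, Category.assoc, hw'a]
      refine (((yon S).map_comp_assoc _ _ _).symm.trans ?_).trans ((yon S).map_comp_assoc _ _ _)
      rw [el, er, Functor.map_comp_assoc, Functor.map_comp_assoc, hlw]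
    · rw [Category.assoc, Category.assoc, hw'q]
      refine (((yon S).map_comp _ _).symm.trans (congrArg _ ?_)).trans ((yon S).map_comp _ _)
      refine ((Category.assoc _ _ _).symm.trans ?_).trans (Category.assoc _ _ _)
      refine congrArg (· ≫ eV.hom) (Over.OverMorphism.ext ?_)
      show Spec.map ml ≫ Spec.map iS = Spec.map mr ≫ Spec.map iS
      rw [← Spec.map_comp, ← Spec.map_comp, hmS]
  have hχe : χ ≫ ml = χ ≫ mr := Spec.map_injective (by
    have h1 : (specMap ml rfl : Over.mk sCs ⟶ _) ≫ (χ₀ ≫ eD.inv) = specMap mr hmr ≫ (χ₀ ≫ eD.inv) := by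
      refine ((Category.assoc _ _ _).symm.trans ?_).trans (Category.assoc _ _ _)
      refine congrArg (· ≫ eD.inv) ((yon S).map_injective ?_)
      refine (((yon S).map_comp _ _).trans ?_).trans ((yon S).map_comp _ _).symm
      rw [hχ₀]
      exact ((Category.assoc _ _ _).symm.trans (congrArg (· ≫ g) heq)).trans (Category.assoc _ _ _)
    rw [hχ'] at h1
    rw [Spec.map_comp, Spec.map_comp]
    exact congrArg (·.left) h1)
  letI algD : Algebra R' D := δ.hom.toAlgebra
  let χa : D →ₐ[R'] R' ⊗[R] A := ⟨χ.hom, fun x => by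
    show (δ ≫ χ).hom x = _
    rw [hδχ]; rfl⟩
  obtain ⟨ψ, hψ, hψu⟩ := existsUnique_lift_eqIntClosure la ra χ.hom
    (fun d => _root_.IsIntegral.map χa (IsIntegralHom.SpecMap_iff.1 hδi d : _root_.IsIntegral R' d))
    (fun d => congrArg (fun k => k.hom d) hχe)
  let ψc : D ⟶ M := CommRingCat.ofHom ψ
  have hψc : ψc ≫ im = χ := CommRingCat.hom_ext hψ
  have hψS : δ ≫ ψc = jS := CommRingCat.hom_ext (RingHom.ext fun x =>
    injective_map_eqIntClosure R' la ra (by
      show (δ ≫ ψc ≫ im).hom x = (jS ≫ im).hom x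
      rw [hψc, him₂, hδχ]))
  have hψD : Spec.map ψc ≫ sD = sM := by
    rw [← hδ, ← Category.assoc, ← Spec.map_comp, hψS]
  refine ⟨e.hom ≫ specMap ψc hψD ≫ eD.hom, ⟨?_, ?_⟩, ?_⟩
  · rw [← cancel_epi w', ← hχ₀, Functor.map_comp, reassoc_of% hw'φ, ← Functor.map_comp]
    refine congrArg _ ((Category.assoc _ _ _).symm.trans ((Iso.comp_inv_eq eD).1 ?_).symm)
    rw [hχ']
    exact Over.OverMorphism.ext (by
      show Spec.map χ = Spec.map im ≫ Spec.map ψc
      rw [← Spec.map_comp, hψc])
  · rw [← heμ]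
    simp only [Category.assoc]
    refine congrArg (e.hom ≫ ·) ?_
    rw [← Iso.comp_inv_eq, Category.assoc, Category.assoc, hδ']
    exact Over.OverMorphism.ext (by
      show Spec.map ψc ≫ Spec.map δ = Spec.map jS
      rw [← Spec.map_comp, hψS])
  · rintro h ⟨hh, -⟩
    obtain ⟨θ, hθ, hθ'⟩ := exists_specMap (e.inv ≫ h ≫ eD.inv)
    have hθχ : θ ≫ im = χ := Spec.map_injective (by
      have h1 : specMap im hsM ≫ specMap θ hθ = χ₀ ≫ eD.inv := (yon S).map_injective (by
        simp only [Functor.map_comp, ← hθ', hχ₀, ← hw'φ, ← hh, Category.assoc]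
        rw [← (yon S).map_comp_assoc e.hom, e.hom_inv_id, CategoryTheory.Functor.map_id, Category.id_comp])
      rw [hχ'] at h1
      rw [Spec.map_comp]
      exact congrArg (·.left) h1)
    obtain rfl : θ = ψc := CommRingCat.hom_ext (hψu θ.hom (congrArg (·.hom) hθχ))
    rw [← hθ']
    simp

end GrothLib.AlgSp
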