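import Groth.Agent.Lib.AlgSp.NormSplit
import Groth.Agent.Lib.AlgSp.Bootstrap
import Groth.Agent.Lib.SGA1Quot21.SigmaFinite

/-!
# Finite open and closed parts and normalization

* `exists_hom_of_clopen`: maps out of a space glue along an open and closed decomposition;
* `exists_isPullback_norm_of_clopen`: a finite open and closed part maps isomorphically onto an open and
  closed part of the normalization.
-/

set_option autoImplicit false
universe u
open CategoryTheory CategoryTheory.Limits AlgebraicGeometry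
set_option backward.isDefEq.respectTransparency false

namespace GrothLib.AlgSp

open _root_.AlgSp

variable {S : Scheme.{u}}

/-- Maps out of a space glue along an open and closed decomposition. -/
theorem exists_hom_of_clopen {P Z G : Sp S} (hP : IsAlgSpace P) {k : G ⟶ P} (hk : RepWith @IsOpenImmersion k)
    (hkc : IsClosed (Set.range (Points.map k))) (α : G ⟶ Z)
    (β : openSub P (Set.range (Points.map k))ᶜ ⟶ Z) :
    ∃ g : P ⟶ Z, k ≫ g = α ∧ openSubι P (Set.range (Points.map k))ᶜ ≫ g = β := by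
  let O := Set.range (Points.map k)
  have hO : IsOpen O := isOpen_range_openImmersion hk
  have hj : RepWith @IsOpenImmersion (openSubι P Oᶜ) := repWith_openSubι hkc.isOpen_compl
  haveI := mono_of_openImmersion hk
  haveI := mono_openSubι P Oᶜ
  obtain ⟨C, c, ce, cs⟩ := hP.atlas
  haveI := chart_isLocallySurjective ce cs
  haveI : Epi c := (Sheaf.isLocallySurjective_iff_epi _).1 inferInstance
  let C₁ : C.left.Opens := ⟨Points.ofPt c ⁻¹' O, hO.preimage (Points.continuous_ofPt c)⟩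
  let C₂ : C.left.Opens := ⟨Points.ofPt c ⁻¹' Oᶜ, hkc.isOpen_compl.preimage (Points.continuous_ofPt c)⟩
  let K : ULift.{u} Bool → C.left.Opens := fun b => cond b.down C₁ C₂
  let CK : ULift.{u} Bool → Over S := fun b => Over.mk ((K b).ι ≫ C.hom)
  let ic : ∀ b, CK b ⟶ C := fun b => Over.homMk (K b).ι rfl
  haveI hico : ∀ b, IsOpenImmersion (ic b).left := fun b => inferInstanceAs (IsOpenImmersion (K b).ι)
  have hpt : ∀ (b : ULift.{u} Bool) (z : Points ((yon S).obj (CK b))),
      ∃ m : ↥(K b), Points.map ((yon S).map (ic b) ≫ c) z = Points.ofPt c m.1 := fun b z => by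
    obtain ⟨m, rfl⟩ := (Points.schemeEquiv (CK b)).surjective z
    refine ⟨m, ?_⟩
    rw [show Points.schemeEquiv (CK b) m = Points.ofScheme (CK b) m from rfl, ← Points.ofPt_eq_map_ofScheme,
      ofPt_map_comp]
    rfl
  obtain ⟨l₁, hl₁⟩ := (exists_factor_iff hk ((yon S).map (ic ⟨true⟩) ≫ c)).2 (by
    rintro _ ⟨z, rfl⟩
    obtain ⟨m, hm⟩ := hpt _ z
    rw [hm]
    exact m.2)
  obtain ⟨l₂, hl₂⟩ := (exists_factor_iff hj ((yon S).map (ic ⟨false⟩) ≫ c)).2 (by
    rintro _ ⟨z, rfl⟩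
    obtain ⟨m, hm⟩ := hpt _ z
    rw [hm, range_openSubι]
    exact m.2)
  let l : ∀ b, (yon S).obj (CK b) ⟶ Z := fun b => match b with
    | ⟨true⟩ => l₁ ≫ α
    | ⟨false⟩ => l₂ ≫ β
  have hcov : ∀ x : ↥C.left, ∃ b y, (ic b).left y = x := fun x => by
    by_cases hx : Points.ofPt c x ∈ O
    · exact ⟨⟨true⟩, ⟨x, hx⟩, rfl⟩
    · exact ⟨⟨false⟩, ⟨x, hx⟩, rfl⟩
  obtain ⟨ψ, hψ, -⟩ := exists_hom_of_openCover CK ic hico hcov l (by
    intro b b' W gi gj hg
    by_cases hb : b = b'
    · subst hb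
      haveI : Mono (ic b) := (Over.forget S).mono_of_mono_map (inferInstanceAs (Mono (ic b).left))
      rw [(cancel_mono (ic b)).1 hg]
    · haveI : IsEmpty W.left := ⟨fun z => by
        have hz : (ic b).left (gi.left z) = (ic b').left (gj.left z) := congrArg (fun φ => φ.left z) hg
        obtain ⟨⟨_ | _⟩, ⟨_ | _⟩⟩ := b, b'
        · exact hb rfl
        · have e : (gi.left z).1 = (gj.left z).1 := hz
          exact (gi.left z).2 (show Points.ofPt c (gi.left z).1 ∈ O from e.symm ▸ (gj.left z).2)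
        · have e : (gi.left z).1 = (gj.left z).1 := hz
          exact (gj.left z).2 (show Points.ofPt c (gj.left z).1 ∈ O from e ▸ (gi.left z).2)
        · exact hb rfl⟩
      exact hom_ext_of_isEmpty _ _)
  have key₁ : ∀ {T : Over S} (y : T ⟶ C) (x : (yon S).obj T ⟶ G), x ≫ k = (yon S).map y ≫ c →
      (yon S).map y ≫ ψ = x ≫ α := by
    intro T y x hx
    obtain ⟨y₁, hy₁⟩ := exists_lift_opens y C₁ (by
      rintro _ ⟨z, rfl⟩
      show Points.ofPt c (y.left z) ∈ O
      rw [← ofPt_map_comp, ← hx, ← Points.map_ofPt]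
      exact ⟨_, rfl⟩)
    have e : x = (yon S).map y₁ ≫ l₁ := by
      rw [← cancel_mono k, hx, Category.assoc, hl₁, ← Functor.map_comp_assoc]
      exact congrArg (fun φ => (yon S).map φ ≫ c) hy₁.symm
    rw [e, Category.assoc, ← hy₁, Functor.map_comp, Category.assoc]
    exact congrArg ((yon S).map y₁ ≫ ·) (hψ ⟨true⟩)
  have key₂ : ∀ {T : Over S} (y : T ⟶ C) (x : (yon S).obj T ⟶ openSub P Oᶜ),
      x ≫ openSubι P Oᶜ = (yon S).map y ≫ c → (yon S).map y ≫ ψ = x ≫ β := by
    intro T y x hx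
    obtain ⟨y₁, hy₁⟩ := exists_lift_opens y C₂ (by
      rintro _ ⟨z, rfl⟩
      show Points.ofPt c (y.left z) ∈ Oᶜ
      rw [← ofPt_map_comp, ← hx, ← Points.map_ofPt]
      exact range_openSubι.le ⟨_, rfl⟩)
    have e : x = (yon S).map y₁ ≫ l₂ := by
      rw [← cancel_mono (openSubι P Oᶜ), hx, Category.assoc, hl₂, ← Functor.map_comp_assoc]
      exact congrArg (fun φ => (yon S).map φ ≫ c) hy₁.symm
    rw [e, Category.assoc, ← hy₁, Functor.map_comp, Category.assoc]
    exact congrArg ((yon S).map y₁ ≫ ·) (hψ ⟨false⟩)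
  obtain ⟨R, d₁, d₂, sqR⟩ := exists_isPullback_yon hP.diag c c
  have hd : (yon S).map d₁ ≫ ψ = (yon S).map d₂ ≫ ψ := by
    let RK : ULift.{u} Bool → Over S := fun b => Over.mk ((d₁.left ⁻¹ᵁ K b).ι ≫ R.hom)
    let ir : ∀ b, RK b ⟶ R := fun b => Over.homMk (d₁.left ⁻¹ᵁ K b).ι rfl
    obtain ⟨L, -, hLu⟩ := exists_hom_of_openCover RK ir
      (fun b => inferInstanceAs (IsOpenImmersion (d₁.left ⁻¹ᵁ K b).ι)) (fun x => by
        obtain ⟨b, m, hm⟩ := hcov (d₁.left x)
        exact ⟨b, ⟨x, show d₁.left x ∈ K b from hm ▸ m.2⟩, rfl⟩)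
      (fun b => (yon S).map (ir b) ≫ (yon S).map d₁ ≫ ψ) (fun b b' W gl gl' hgl => by
        rw [← Category.assoc, ← Category.assoc ((yon S).map gl'), ← Functor.map_comp, ← Functor.map_comp, hgl])
    refine (hLu _ fun b => rfl).trans (hLu _ fun b => ?_).symm
    have h12 : (yon S).map (ir b ≫ d₁) ≫ c = (yon S).map (ir b ≫ d₂) ≫ c := by
      rw [Functor.map_comp, Functor.map_comp, Category.assoc, Category.assoc, sqR.w]
    have hr : ∀ z : ↥(RK b).left, (ir b ≫ d₁).left z ∈ K b := fun z => z.2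
    rw [← Functor.map_comp_assoc, ← Functor.map_comp_assoc]
    obtain ⟨_ | _⟩ := b
    · obtain ⟨x, hx⟩ := (exists_factor_iff hj ((yon S).map (ir ⟨false⟩ ≫ d₁) ≫ c)).2 (by
        rintro _ ⟨z, rfl⟩
        obtain ⟨z, rfl⟩ := (Points.schemeEquiv (RK ⟨false⟩)).surjective z
        rw [range_openSubι, show Points.schemeEquiv (RK ⟨false⟩) z = Points.ofScheme _ z from rfl,
          ← Points.ofPt_eq_map_ofScheme, ofPt_map_comp]
        exact hr z)
      rw [key₂ _ x (hx.trans h12), key₂ _ x hx]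
    · obtain ⟨x, hx⟩ := (exists_factor_iff hk ((yon S).map (ir ⟨true⟩ ≫ d₁) ≫ c)).2 (by
        rintro _ ⟨z, rfl⟩
        obtain ⟨z, rfl⟩ := (Points.schemeEquiv (RK ⟨true⟩)).surjective z
        rw [show Points.schemeEquiv (RK ⟨true⟩) z = Points.ofScheme _ z from rfl,
          ← Points.ofPt_eq_map_ofScheme, ofPt_map_comp]
        exact hr z)
      rw [key₁ _ x (hx.trans h12), key₁ _ x hx]
  have := IsRegularEpiCategory.regularEpiOfEpi (C := Sp S) c
  obtain ⟨g, hg⟩ := IsRegularEpi.exists_of_isKernelPair c sqR ψ hd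
  refine ⟨g, GrothLib.AlgSp.hom_ext fun T x => ?_, GrothLib.AlgSp.hom_ext fun T x => ?_⟩
  · obtain ⟨T', cc, y, hf, hp, hs, hy⟩ := exists_fppf_lift c (x ≫ k)
    haveI := isLocallySurjective_yon_map cc hf hp hs
    haveI : Epi ((yon S).map cc) := (Sheaf.isLocallySurjective_iff_epi _).1 inferInstance
    obtain ⟨y, rfl⟩ := (yon S).map_surjective y
    rw [← cancel_epi ((yon S).map cc)]

    rw [← reassoc_of% hy, hg,
      key₁ y ((yon S).map cc ≫ x) (by rw [Category.assoc, hy]), Category.assoc]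
  · obtain ⟨T', cc, y, hf, hp, hs, hy⟩ := exists_fppf_lift c (x ≫ openSubι P Oᶜ)
    haveI := isLocallySurjective_yon_map cc hf hp hs
    haveI : Epi ((yon S).map cc) := (Sheaf.isLocallySurjective_iff_epi _).1 inferInstance
    obtain ⟨y, rfl⟩ := (yon S).map_surjective y
    rw [← cancel_epi ((yon S).map cc)]

    rw [← reassoc_of% hy, hg,
      key₂ y ((yon S).map cc ≫ x) (by rw [Category.assoc, hy]), Category.assoc]

/-- A finite open and closed part maps isomorphically onto an open part of the normalization. -/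
theorem exists_isPullback_norm_of_clopen {P : Sp S} (hP : IsAlgSpace P) {V M : Over S} {q : P ⟶ (yon S).obj V}
    {μ : M ⟶ V} {φ : P ⟶ (yon S).obj M} (h : UnivNorm q ((yon S).map μ) φ) {A : Over S}
    {k : (yon S).obj A ⟶ P} (hko : RepWith @IsOpenImmersion k) (hkc : RepWith @IsClosedImmersion k)
    (g : A ⟶ V) (hkq : k ≫ q = (yon S).map g) (hg : IsFinite g.left) :
    ∃ (MA : Over S) (iM : MA ⟶ M) (t : A ≅ MA), IsOpenImmersion iM.left ∧
      IsPullback k ((yon S).map t.hom) φ ((yon S).map iM) := by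
  haveI := hg
  haveI := mono_of_openImmersion hko
  have hrc : IsClosed (Set.range (Points.map k)) := by
    have huc : IsUnivClosedMor k := isUnivClosedMor_of_repWith (repWith_mono hkc fun A B m hm => by
      have : IsClosedImmersion m := hm
      exact inferInstanceAs (UniversallyClosed m))
    exact (huc hP (𝟙 P) (𝟙 _) k IsPullback.of_id_fst).isClosed_range
  -- `A ⊔ V`
  let F : ULift.{u} Bool → Over S := fun b => cond b.down A V
  let fm : ∀ b, F b ⟶ V := fun b => match b with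
    | ⟨true⟩ => g
    | ⟨false⟩ => 𝟙 V
  let π : sigmaOver F ⟶ V := Over.homMk (Limits.Sigma.desc fun b => (fm b).left) (by
    refine Sigma.hom_ext _ _ fun b => ?_
    simp)
  have hπi : ∀ b, sigmaι F b ≫ π = fm b := fun b => Over.OverMorphism.ext (Sigma.ι_desc _ _)
  haveI : ∀ b, IsFinite (fm b).left := fun b => match b with
    | ⟨true⟩ => hg
    | ⟨false⟩ => inferInstanceAs (IsFinite (𝟙 V.left))
  haveI : IsFinite π.left := GrothLib.SGA1Quot21.isFinite_sigmaDesc fun b => (fm b).left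
  have hπ : IsIntegralMor ((yon S).map π) :=
    isIntegralMor_iff.2 ((repWith_yon_map_iff _ π).2 (inferInstanceAs (IsIntegralHom π.left)))
  obtain ⟨a, ha₁, ha₂⟩ := exists_hom_of_clopen hP hko hrc ((yon S).map (sigmaι F ⟨true⟩))
    (openSubι P _ ≫ q ≫ (yon S).map (sigmaι F ⟨false⟩))
  have haq : a ≫ (yon S).map π = q := by
    refine GrothLib.AlgSp.hom_ext fun T x => ?_
    obtain ⟨C, c, ce, cs⟩ := hP.atlas
    haveI := chart_isLocallySurjective ce cs
    obtain ⟨T', cc, y, hf, hp, hs, hy⟩ := exists_fppf_lift c x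
    haveI := isLocallySurjective_yon_map cc hf hp hs
    haveI : Epi ((yon S).map cc) := (Sheaf.isLocallySurjective_iff_epi _).1 inferInstance
    rw [← cancel_epi ((yon S).map cc), ← reassoc_of% hy, ← reassoc_of% hy]
    haveI : Epi c := (Sheaf.isLocallySurjective_iff_epi _).1 inferInstance
    refine congrArg (y ≫ ·) ?_
    obtain ⟨c', hc'⟩ := (yon S).map_surjective (c ≫ q)
    obtain ⟨ac, hac⟩ := (yon S).map_surjective (c ≫ a)
    rw [← Category.assoc, ← hac, ← Functor.map_comp, ← hc']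
    refine congrArg _ (Over.OverMorphism.ext ?_)
    let O := Set.range (Points.map k)
    let K : ULift.{u} Bool → C.left.Opens := fun b => cond b.down
      ⟨Points.ofPt c ⁻¹' O, (isOpen_range_openImmersion hko).preimage (Points.continuous_ofPt c)⟩
      ⟨Points.ofPt c ⁻¹' Oᶜ, hrc.isOpen_compl.preimage (Points.continuous_ofPt c)⟩
    have hcov : (⨆ b, K b) = ⊤ := top_le_iff.1 fun z _ => TopologicalSpace.Opens.mem_iSup.2 (by
      by_cases hz : Points.ofPt c z ∈ O
      · exact ⟨⟨true⟩, hz⟩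
      · exact ⟨⟨false⟩, hz⟩)
    refine (C.left.openCoverOfIsOpenCover K hcov).hom_ext _ _ fun b => ?_
    let CK : Over S := Over.mk ((K b).ι ≫ C.hom)
    let ic : CK ⟶ C := Over.homMk (K b).ι rfl
    suffices (yon S).map ic ≫ c ≫ a ≫ (yon S).map π = (yon S).map ic ≫ c ≫ q by
      rw [← hc', ← reassoc_of% hac, ← Functor.map_comp, ← Functor.map_comp, ← Functor.map_comp] at this
      exact congrArg (·.left) ((yon S).map_injective this)
    obtain ⟨_ | _⟩ := b
    · obtain ⟨x₂, hx₂⟩ := (exists_factor_iff (repWith_openSubι hrc.isOpen_compl) ((yon S).map ic ≫ c)).2 (by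
        rintro _ ⟨z, rfl⟩
        obtain ⟨z, rfl⟩ := (Points.schemeEquiv CK).surjective z
        rw [range_openSubι, show Points.schemeEquiv CK z = Points.ofScheme CK z from rfl,
          ← Points.ofPt_eq_map_ofScheme, ofPt_map_comp]
        exact z.2)
      rw [← reassoc_of% hx₂, ← reassoc_of% hx₂, reassoc_of% ha₂, ← Functor.map_comp, hπi]
      simp [fm]
    · obtain ⟨x₁, hx₁⟩ := (exists_factor_iff hko ((yon S).map ic ≫ c)).2 (by
        rintro _ ⟨z, rfl⟩
        obtain ⟨z, rfl⟩ := (Points.schemeEquiv CK).surjective z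
        rw [show Points.schemeEquiv CK z = Points.ofScheme CK z from rfl,
          ← Points.ofPt_eq_map_ofScheme, ofPt_map_comp]
        exact z.2)
      rw [← reassoc_of% hx₁, ← reassoc_of% hx₁, reassoc_of% ha₁, ← Functor.map_comp, hπi, hkq]
  have hVA := fun T : Over S => IsAlgSpace.yon_obj (S := S) T
  obtain ⟨h₀, ⟨hh₁, hh₂⟩, -⟩ := (h.isRelNormalization (hVA V)).2.2 (hVA _) _ a hπ haq
  obtain ⟨h₀, rfl⟩ := (yon S).map_surjective h₀
  -- the piece of the normalization
  haveI := fun b => isOpenImmersion_sigmaι F b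
  let O₁ : M.left.Opens := h₀.left ⁻¹ᵁ (sigmaι F ⟨true⟩).left.opensRange
  let O₂ : M.left.Opens := h₀.left ⁻¹ᵁ (sigmaι F ⟨false⟩).left.opensRange
  let MA : Over S := Over.mk (O₁.ι ≫ M.hom)
  let iM : MA ⟶ M := Over.homMk O₁.ι rfl
  let MB : Over S := Over.mk (O₂.ι ≫ M.hom)
  let iB : MB ⟶ M := Over.homMk O₂.ι rfl
  let r : MA ⟶ A := Over.homMk (IsOpenImmersion.lift (sigmaι F ⟨true⟩).left (iM ≫ h₀).left (by
    rintro _ ⟨z, rfl⟩; exact z.2)) (by
    show IsOpenImmersion.lift _ _ _ ≫ (F ⟨true⟩).hom = _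
    rw [← Over.w (sigmaι F ⟨true⟩), IsOpenImmersion.lift_fac_assoc, Over.w])
  have hr : r ≫ sigmaι F ⟨true⟩ = iM ≫ h₀ := Over.OverMorphism.ext (IsOpenImmersion.lift_fac _ _ _)
  obtain ⟨kφ, hkφ⟩ := (yon S).map_surjective (k ≫ φ)
  have hkh : kφ ≫ h₀ = sigmaι F ⟨true⟩ := (yon S).map_injective (by
    rw [Functor.map_comp, hkφ, Category.assoc, hh₁, ha₁])
  obtain ⟨θ, hθ⟩ := exists_lift_opens kφ O₁ (by
    rintro _ ⟨z, rfl⟩
    exact ⟨z, (congrArg (fun φ => φ.left z) hkh).symm⟩)
  change θ ≫ iM = kφ at hθ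
  haveI : Mono (sigmaι F ⟨true⟩) := (Over.forget S).mono_of_mono_map (inferInstanceAs (Mono (sigmaι F ⟨true⟩).left))
  haveI : Mono iM := (Over.forget S).mono_of_mono_map (inferInstanceAs (Mono O₁.ι))
  have hθr : θ ≫ r = 𝟙 _ := (cancel_mono (sigmaι F ⟨true⟩)).1 (by
    rw [Category.assoc, hr, ← Category.assoc, hθ, hkh]
    exact (Category.id_comp _).symm)
  -- the endomorphism of the normalization
  let KM : ULift.{u} Bool → Over S := fun b => cond b.down MA MB
  let im : ∀ b, KM b ⟶ M := fun b => match b with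
    | ⟨true⟩ => iM
    | ⟨false⟩ => iB
  let em : ∀ b, KM b ⟶ M := fun b => match b with
    | ⟨true⟩ => r ≫ θ ≫ iM
    | ⟨false⟩ => iB
  have hdisj : ∀ z : ↥M.left, z ∈ O₁ → z ∈ O₂ → False := fun z hz hz' => by
    obtain ⟨x, hx⟩ := hz
    obtain ⟨y, hy⟩ := hz'
    obtain ⟨hbad⟩ := (sigmaι_eq_iff (fun b => (F b).left) _ _ _ _).mp (hx.trans hy.symm)
  obtain ⟨e, he, -⟩ := exists_hom_of_openCover_yon KM im
    (fun b => match b with
      | ⟨true⟩ => inferInstanceAs (IsOpenImmersion O₁.ι)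
      | ⟨false⟩ => inferInstanceAs (IsOpenImmersion O₂.ι))
    (fun z => by
      obtain ⟨b, y, hy⟩ := (sigmaOpenCover fun b => (F b).left).exists_eq (h₀.left z)
      obtain ⟨_ | _⟩ := b
      · exact ⟨⟨false⟩, ⟨z, ⟨y, hy⟩⟩, rfl⟩
      · exact ⟨⟨true⟩, ⟨z, ⟨y, hy⟩⟩, rfl⟩) em (by
    intro b b' W gi gj hgij
    by_cases hb : b = b'
    · subst hb
      obtain ⟨_ | _⟩ := b
      · haveI : Mono iB := (Over.forget S).mono_of_mono_map (inferInstanceAs (Mono O₂.ι))
        rw [show gi = gj from (cancel_mono iB).1 hgij]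
      · rw [show gi = gj from (cancel_mono iM).1 hgij]
    · haveI : IsEmpty W.left := ⟨fun z => by
        have hz : (im b).left (gi.left z) = (im b').left (gj.left z) := congrArg (fun φ => φ.left z) hgij
        obtain ⟨⟨_ | _⟩, ⟨_ | _⟩⟩ := b, b'
        · exact hb rfl
        · have e : (gi.left z).1 = (gj.left z).1 := hz
          exact hdisj _ (gj.left z).2 (show (gj.left z).1 ∈ O₂ from e ▸ (gi.left z).2)
        · have e : (gi.left z).1 = (gj.left z).1 := hz
          exact hdisj _ (gi.left z).2 (show (gi.left z).1 ∈ O₂ from e.symm ▸ (gj.left z).2)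
        · exact hb rfl⟩
      exact (yon S).map_injective (hom_ext_of_isEmpty _ _))
  have he₁ : iM ≫ e = r ≫ θ ≫ iM := he ⟨true⟩
  have he₂ : iB ≫ e = iB := he ⟨false⟩
  have heμ : e ≫ μ = μ := by
    refine (exists_hom_of_openCover_yon KM im (fun b => match b with
        | ⟨true⟩ => inferInstanceAs (IsOpenImmersion O₁.ι)
        | ⟨false⟩ => inferInstanceAs (IsOpenImmersion O₂.ι))
      (fun z => by
        obtain ⟨b, y, hy⟩ := (sigmaOpenCover fun b => (F b).left).exists_eq (h₀.left z)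
        obtain ⟨_ | _⟩ := b
        · exact ⟨⟨false⟩, ⟨z, ⟨y, hy⟩⟩, rfl⟩
        · exact ⟨⟨true⟩, ⟨z, ⟨y, hy⟩⟩, rfl⟩)
      (fun b => im b ≫ μ) (fun b b' W gi gj hgij => by
        rw [← Category.assoc, hgij, Category.assoc])).unique ?_ (fun b => rfl)
    have hkμ : kφ ≫ μ = g := (yon S).map_injective (by rw [Functor.map_comp, hkφ, Category.assoc, h.1, hkq])
    have hhπ : h₀ ≫ π = μ := (yon S).map_injective (by rw [Functor.map_comp, hh₂])
    rintro ⟨_ | _⟩
    · show iB ≫ e ≫ μ = iB ≫ μ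
      rw [reassoc_of% he₂]
    · show iM ≫ e ≫ μ = iM ≫ μ
      rw [reassoc_of% he₁, reassoc_of% hθ, hkμ, ← hhπ, ← Category.assoc iM, ← hr, Category.assoc, hπi]
  -- membership through `a`
  have hzero : ∀ {T : Over S} (x : (yon S).obj T ⟶ P) (y : T ⟶ M), x ≫ φ = (yon S).map y → ∀ z : ↥T.left,
      (y.left z ∈ O₁ → Points.ofPt x z ∈ Set.range (Points.map k)) ∧
      (Points.ofPt x z ∈ (Set.range (Points.map k))ᶜ → y.left z ∈ O₂) := by
    intro T x y hy z
    have e1 : Points.map a (Points.ofPt x z) = Points.ofScheme _ (h₀.left (y.left z)) := by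
      rw [Points.map_ofPt, ← hh₁, ← Category.assoc, hy, ← Functor.map_comp, Points.ofPt_eq_map_ofScheme,
        map_yon_ofPt]
      rfl
    have e2 : ∀ p, p ∈ (Set.range (Points.map k))ᶜ → ∃ w, Points.map a p = Points.ofScheme _ ((sigmaι F ⟨false⟩).left w) := by
      intro p hp
      obtain ⟨p', rfl⟩ := range_openSubι.ge hp
      rw [← Points.map_comp, ha₂, Points.map_comp, Points.map_comp]
      obtain ⟨w, hw⟩ := (Points.schemeEquiv V).surjective (Points.map q (Points.map (openSubι P _) p'))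
      exact ⟨w, by rw [← hw]; exact map_yon_ofPt _ w⟩
    refine ⟨fun hz => by_contra fun hn => ?_, fun hn => ?_⟩
    · obtain ⟨w, hw⟩ := e2 _ hn
      exact hdisj _ hz ⟨w, (Points.schemeEquiv _).injective (hw.symm.trans e1)⟩
    · obtain ⟨w, hw⟩ := e2 _ hn
      exact ⟨w, (Points.schemeEquiv _).injective (hw.symm.trans e1)⟩
  have heφ : φ ≫ (yon S).map e = φ := by
    obtain ⟨u₀, hu₁, hu₂⟩ := exists_hom_of_clopen (Z := (yon S).obj M) hP hko hrc (k ≫ φ)
      (openSubι P _ ≫ φ)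
    obtain ⟨C, c, ce, cs⟩ := hP.atlas
    haveI := chart_isLocallySurjective ce cs
    haveI : Epi c := (Sheaf.isLocallySurjective_iff_epi _).1 inferInstance
    obtain ⟨y, hy⟩ := (yon S).map_surjective (c ≫ φ)
    rw [← cancel_epi c, ← reassoc_of% hy, ← hy, ← Functor.map_comp]
    refine congrArg _ (Over.OverMorphism.ext ?_)
    let O := Set.range (Points.map k)
    let K : ULift.{u} Bool → C.left.Opens := fun b => cond b.down
      ⟨Points.ofPt c ⁻¹' O, (isOpen_range_openImmersion hko).preimage (Points.continuous_ofPt c)⟩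
      ⟨Points.ofPt c ⁻¹' Oᶜ, hrc.isOpen_compl.preimage (Points.continuous_ofPt c)⟩
    have hcov : (⨆ b, K b) = ⊤ := top_le_iff.1 fun z _ => TopologicalSpace.Opens.mem_iSup.2 (by
      by_cases hz : Points.ofPt c z ∈ O
      · exact ⟨⟨true⟩, hz⟩
      · exact ⟨⟨false⟩, hz⟩)
    refine (C.left.openCoverOfIsOpenCover K hcov).hom_ext _ _ fun b => ?_
    let CK : Over S := Over.mk ((K b).ι ≫ C.hom)
    let ic : CK ⟶ C := Over.homMk (K b).ι rfl
    suffices (ic ≫ y) ≫ e = ic ≫ y by
      rw [Category.assoc] at this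
      exact congrArg (·.left) this
    obtain ⟨_ | _⟩ := b
    · obtain ⟨y₂, hy₂⟩ := exists_lift_opens (ic ≫ y) O₂ (by
        rintro _ ⟨z, rfl⟩
        exact (hzero ((yon S).map ic ≫ c) (ic ≫ y) (by rw [Functor.map_comp, Category.assoc, hy]) z).2 (by
          rw [ofPt_map_comp]; exact z.2))
      change y₂ ≫ iB = _ at hy₂
      rw [← hy₂, Category.assoc, he₂]
    · obtain ⟨x₁, hx₁⟩ := (exists_factor_iff hko ((yon S).map ic ≫ c)).2 (by
        rintro _ ⟨z, rfl⟩
        obtain ⟨z, rfl⟩ := (Points.schemeEquiv CK).surjective z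
        rw [show Points.schemeEquiv CK z = Points.ofScheme CK z from rfl,
          ← Points.ofPt_eq_map_ofScheme, ofPt_map_comp]
        exact z.2)
      obtain ⟨x₁, rfl⟩ := (yon S).map_surjective x₁
      have e3 : ic ≫ y = x₁ ≫ kφ := (yon S).map_injective (by
        rw [Functor.map_comp, Functor.map_comp, hkφ, hy, reassoc_of% hx₁])
      rw [e3, ← hθ, Category.assoc, Category.assoc, he₁, reassoc_of% hθr]
  have heid : e = 𝟙 M := (yon S).map_injective (h.hom_ext' (hVA V) (hVA M) h.2.1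
    (by rw [heφ, CategoryTheory.Functor.map_id, Category.comp_id]) (by rw [← Functor.map_comp, heμ])
    (by rw [← Functor.map_comp, Category.id_comp]))
  have hrθ : r ≫ θ = 𝟙 _ := (cancel_mono iM).1 (by
    rw [Category.assoc, ← he₁, heid, Category.comp_id, Category.id_comp])
  refine ⟨MA, iM, ⟨θ, r, hθr, hrθ⟩, inferInstanceAs (IsOpenImmersion O₁.ι), ?_⟩
  refine isPullback_of_yon (by rw [← hkφ, ← Functor.map_comp, hθ]) fun T x z hxz => ?_
  obtain ⟨z, rfl⟩ := (yon S).map_surjective z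
  rw [← Functor.map_comp] at hxz
  obtain ⟨x', hx'⟩ := (exists_factor_iff hko x).2 (by
    rintro _ ⟨p, rfl⟩
    obtain ⟨p, rfl⟩ := (Points.schemeEquiv T).surjective p
    rw [show Points.schemeEquiv T p = Points.ofScheme T p from rfl, ← Points.ofPt_eq_map_ofScheme]
    exact (hzero x _ hxz p).1 (z.left p).2)
  obtain ⟨x', rfl⟩ := (yon S).map_surjective x'
  have hxθ : x' ≫ θ = z := (cancel_mono iM).1 ((yon S).map_injective (by
    rw [Category.assoc, hθ, Functor.map_comp, hkφ, reassoc_of% hx', hxz]))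
  refine ⟨(yon S).map x', ⟨hx', ?_⟩, fun c hc => (cancel_mono k).1 (hc.1.trans hx'.symm)⟩
  rw [← hxθ, Functor.map_comp]

end GrothLib.AlgSp
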