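import Groth.Agent.Lib.AlgSp.BootstrapQuot
import Groth.Prelude.Def_AlgSpGpd

/-!
# Quotients of algebraic spaces by fppf equivalence relations

* `isPullback_quotSpπ`: equivalence relations of sheaves are effective;
* `exists_chart_quotSp`: a flat lfp surjective chart of `U/R`; `isAlgSpace_quotSp`, `locP_quotSpπ`.
-/

universe u

open CategoryTheory CategoryTheory.Limits AlgebraicGeometry Opposite

namespace GrothLib.AlgSp

open _root_.AlgSp

variable {S : Scheme.{u}} {R U : Sp S} {s t : R ⟶ U}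

/-- The relation on sections. -/
def eqvSetoidSp (h : IsEqvRelSp s t) (T : Over S) : Setoid (U.obj.obj (op T)) where
  r x y := ∃ r : R.obj.obj (op T), t.hom.app (op T) r = x ∧ s.hom.app (op T) r = y
  iseqv := by
    have key : ∀ x y : U.obj.obj (op T), (∃ r : R.obj.obj (op T), t.hom.app (op T) r = x ∧ s.hom.app (op T) r = y) ↔
        ∃ r : (yon S).obj T ⟶ R, r ≫ t = (J S).uliftYonedaEquiv.{u + 1}.symm x ∧
          r ≫ s = (J S).uliftYonedaEquiv.{u + 1}.symm y := by
      intro x y
      constructor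
      · rintro ⟨r, rfl, rfl⟩
        refine ⟨(J S).uliftYonedaEquiv.{u + 1}.symm r, ?_, ?_⟩ <;>
        · apply (J S).uliftYonedaEquiv.{u + 1}.injective
          rw [GrothendieckTopology.uliftYonedaEquiv_comp, Equiv.apply_symm_apply, Equiv.apply_symm_apply]
      · rintro ⟨r, h₁, h₂⟩
        refine ⟨(J S).uliftYonedaEquiv.{u + 1} r, ?_, ?_⟩
        · rw [← GrothendieckTopology.uliftYonedaEquiv_comp, h₁, Equiv.apply_symm_apply]
        · rw [← GrothendieckTopology.uliftYonedaEquiv_comp, h₂, Equiv.apply_symm_apply]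
    exact ⟨fun x => (key x x).2 ((h.equivalence T).refl _), fun e => (key _ _).2 ((h.equivalence T).symm ((key _ _).1 e)),
      fun e e' => (key _ _).2 ((h.equivalence T).trans ((key _ _).1 e) ((key _ _).1 e'))⟩

/-- The presheaf quotient. -/
def quotPresheafSp (h : IsEqvRelSp s t) : (Over S)ᵒᵖ ⥤ Type (u + 1) where
  obj T := Quotient (eqvSetoidSp h T.unop)
  map {T T'} g := ↾fun x => Quotient.map (sa := eqvSetoidSp h T.unop) (sb := eqvSetoidSp h T'.unop) (U.obj.map g)
    (fun x y e => by
      obtain ⟨r, rfl, rfl⟩ := e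
      exact ⟨R.obj.map g r, NatTrans.naturality_apply t.hom g r, NatTrans.naturality_apply s.hom g r⟩) x
  map_id T := by
    ext x
    induction x using Quotient.inductionOn with
    | h a => exact congrArg (Quotient.mk (eqvSetoidSp h T.unop)) (congrArg (fun k => k a) (U.obj.map_id T))
  map_comp {T T' T''} g g' := by
    ext x
    induction x using Quotient.inductionOn with
    | h a => exact congrArg (Quotient.mk (eqvSetoidSp h T''.unop)) (congrArg (fun k => k a) (U.obj.map_comp g g'))

/-- The projection. -/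
def quotPresheafSpπ (h : IsEqvRelSp s t) : U.obj ⟶ quotPresheafSp h where
  app T := ↾fun x => Quotient.mk (eqvSetoidSp h T.unop) x
  naturality _ _ _ := rfl

theorem isPullback_quotPresheafSpπ (h : IsEqvRelSp s t) :
    IsPullback t.hom s.hom (quotPresheafSpπ h) (quotPresheafSpπ h) := by
  refine IsPullback.of_forall_isPullback_app fun T => (Types.isPullback_iff _ _ _ _).2 ⟨?_, ?_, ?_⟩
  · ext r
    exact Quotient.sound (s := eqvSetoidSp h T.unop) ⟨r, rfl, rfl⟩
  · rintro r r' ⟨e₁, e₂⟩
    apply (J S).uliftYonedaEquiv.{u + 1}.symm.injective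
    refine h.injective T.unop _ _ ?_ ?_ <;> apply (J S).uliftYonedaEquiv.{u + 1}.injective <;>
      rw [GrothendieckTopology.uliftYonedaEquiv_comp, GrothendieckTopology.uliftYonedaEquiv_comp,
        Equiv.apply_symm_apply, Equiv.apply_symm_apply]
    · exact e₁
    · exact e₂
  · rintro a b e
    obtain ⟨r, hr₁, hr₂⟩ := Quotient.exact (s := eqvSetoidSp h T.unop) e
    exact ⟨r, hr₁, hr₂⟩

theorem epi_quotPresheafSpπ (h : IsEqvRelSp s t) : Epi (quotPresheafSpπ h) := by
  have : ∀ T, Epi ((quotPresheafSpπ h).app T) := fun T => (epi_iff_surjective _).2 fun x => by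
    induction x using Quotient.inductionOn with
    | h a => exact ⟨a, rfl⟩
  exact NatTrans.epi_of_epi_app _

/-- Equivalence relations of sheaves are effective. -/
theorem isPullback_quotSpπ (h : IsEqvRelSp s t) : IsPullback t s (quotSpπ s t) (quotSpπ s t) := by
  let a := presheafToSheaf (J S) (Type (u + 1))
  let adj := sheafificationAdjunction (J S) (Type (u + 1))
  have sq := (isPullback_quotPresheafSpπ h).map a
  have := epi_quotPresheafSpπ h
  have := IsRegularEpiCategory.regularEpiOfEpi (a.map (quotPresheafSpπ h))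
  have hnt : a.map t.hom ≫ adj.counit.app U = adj.counit.app R ≫ t := adj.counit.naturality t
  have hns : a.map s.hom ≫ adj.counit.app U = adj.counit.app R ≫ s := adj.counit.naturality s
  obtain ⟨v, hv⟩ := IsRegularEpi.exists_of_isKernelPair (a.map (quotPresheafSpπ h)) sq
    (adj.counit.app U ≫ quotSpπ s t) (by
      rw [← Category.assoc, ← Category.assoc, hnt, hns, Category.assoc, Category.assoc, quotSp_condition])
  let d : quotSp s t ⟶ a.obj (quotPresheafSp h) := quotSpDesc (inv (adj.counit.app U) ≫ a.map (quotPresheafSpπ h)) (by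
    have ht : t ≫ inv (adj.counit.app U) = inv (adj.counit.app R) ≫ a.map t.hom := by
      rw [IsIso.eq_inv_comp, ← Category.assoc, ← hnt, Category.assoc, IsIso.hom_inv_id, Category.comp_id]
    have hs : s ≫ inv (adj.counit.app U) = inv (adj.counit.app R) ≫ a.map s.hom := by
      rw [IsIso.eq_inv_comp, ← Category.assoc, ← hns, Category.assoc, IsIso.hom_inv_id, Category.comp_id]
    rw [← Category.assoc, ← Category.assoc, hs, ht, Category.assoc, Category.assoc, sq.w])
  have hd : quotSpπ s t ≫ d = inv (adj.counit.app U) ≫ a.map (quotPresheafSpπ h) := quotSpπ_desc s t _ _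
  have : IsIso v := ⟨d, (cancel_epi (a.map (quotPresheafSpπ h))).1 (by
      rw [reassoc_of% hv, hd, IsIso.hom_inv_id_assoc, Category.comp_id]),
    coequalizer.hom_ext (by
      change quotSpπ s t ≫ d ≫ v = quotSpπ s t ≫ 𝟙 _
      rw [reassoc_of% hd, hv, IsIso.inv_hom_id_assoc, Category.comp_id])⟩
  exact sq.of_iso (asIso (adj.counit.app R)) (asIso (adj.counit.app U)) (asIso (adj.counit.app U)) (asIso v)
    hnt hns hv hv

/-- An atlas of `U` gives an fppf chart of `U/R`. -/
theorem exists_chart_quotSp (hR : IsAlgSpace R) (hU : IsAlgSpace U) (h : IsEqvRelSp s t)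
    (hs : LocP @Flat s ∧ LocP @LocallyOfFinitePresentation s) :
    ∃ (U₀ : Over S) (a : (yon S).obj U₀ ⟶ U), RepWith @Etale a ∧ RepWith @Surjective a ∧
      Representable (Limits.diag (quotSp s t)) ∧ RepWith @Flat (a ≫ quotSpπ s t) ∧
      RepWith @LocallyOfFinitePresentation (a ≫ quotSpπ s t) ∧ RepWith @Surjective (a ≫ quotSpπ s t) := by
  obtain ⟨U₀, a, ae, as⟩ := hU.atlas
  refine ⟨U₀, a, ae, as, ?_⟩
  have sq := isPullback_quotSpπ h
  let π := quotSpπ s t
  let P₁ := pullback t a
  have hP₁ : IsAlgSpace P₁ := isAlgSpace_pullback' hU hR (IsAlgSpace.yon_obj U₀) t a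
  have sP : IsPullback (pullback.snd t a) (pullback.fst t a ≫ s) (a ≫ π) π :=
    ((IsPullback.of_hasPullback t a).paste_horiz sq.flip).flip
  let P₂ := pullback (pullback.fst t a ≫ s) a
  have hP₂ : IsAlgSpace P₂ := isAlgSpace_pullback' hU hP₁ (IsAlgSpace.yon_obj U₀) _ a
  have sK : IsPullback (pullback.fst (pullback.fst t a ≫ s) a ≫ pullback.snd t a)
      (pullback.snd (pullback.fst t a ≫ s) a) (a ≫ π) (a ≫ π) :=
    (IsPullback.of_hasPullback (pullback.fst t a ≫ s) a).paste_horiz sP
  have hfst : RepWith @Etale (pullback.fst t a) := repWith_of_isPullback (IsPullback.of_hasPullback t a).flip ae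
  have hsnd : ∀ (Q : MorphismProperty Scheme.{u}), EtLocal Q → LocP Q s →
      LocP Q (pullback.snd (pullback.fst t a ≫ s) a) := fun Q hQ hs' =>
    hQ.locP_of_isPullback hP₁ hU (IsAlgSpace.yon_obj U₀) (IsPullback.of_hasPullback _ a)
      (hQ.locP_comp hP₁ hR hU (hQ.locP_of_repWith hR (repWith_mono hfst fun _ _ g hg => hQ.of_etale g hg)) hs')
  have : Mono (prod.lift (pullback.fst (pullback.fst t a ≫ s) a ≫ pullback.snd t a)
      (pullback.snd (pullback.fst t a ≫ s) a)) := ⟨fun x y e => sK.hom_ext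
    (by simpa only [Category.assoc, prod.lift_fst] using e =≫ prod.fst)
    (by simpa only [Category.assoc, prod.lift_snd] using e =≫ prod.snd)⟩
  obtain ⟨R₀, e, -⟩ := exists_scheme_of_mono_prod hP₂ (pullback.fst (pullback.fst t a ≫ s) a ≫ pullback.snd t a)
    (pullback.snd (pullback.fst t a ≫ s) a)
    (locP_mono (fun _ _ g hg => by have : LocallyOfFinitePresentation g := hg; infer_instance)
      (hsnd _ EtLocal.lfp hs.2))
  let t₀ : R₀ ⟶ U₀ := (yon S).preimage (e.hom ≫ pullback.fst (pullback.fst t a ≫ s) a ≫ pullback.snd t a)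
  let s₀ : R₀ ⟶ U₀ := (yon S).preimage (e.hom ≫ pullback.snd (pullback.fst t a ≫ s) a)
  have sq₀ : IsPullback ((yon S).map t₀) ((yon S).map s₀) (a ≫ π) (a ≫ π) := by
    refine sK.of_iso e.symm (Iso.refl _) (Iso.refl _) (Iso.refl _) ?_ ?_ ?_ ?_ <;> simp [t₀, s₀]
  have hc : e.hom ≫ pullback.snd (pullback.fst t a ≫ s) a = (yon S).map s₀ ≫ 𝟙 _ := by
    rw [Category.comp_id, Functor.map_preimage]
  have : Flat s₀.left := hsnd _ EtLocal.flat hs.1 e.hom (𝟙 _) s₀ (repWith_iso _) (repWith_id _ _) hc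
  have : LocallyOfFinitePresentation s₀.left :=
    hsnd _ EtLocal.lfp hs.2 e.hom (𝟙 _) s₀ (repWith_iso _) (repWith_id _ _) hc
  have := chart_isLocallySurjective ae as
  have : Sheaf.IsLocallySurjective π := by
    rw [Sheaf.isLocallySurjective_iff_epi]
    exact coequalizer.π_epi
  have := isLocallySurjective_comp a π
  exact fppf_chart_of_kernelPair sq₀

/-- The fppf quotient of algebraic spaces by an fppf equivalence relation is an algebraic space. -/
theorem isAlgSpace_quotSp (hR : IsAlgSpace R) (hU : IsAlgSpace U) (h : IsEqvRelSp s t)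
    (hs : LocP @Flat s ∧ LocP @LocallyOfFinitePresentation s) : IsAlgSpace (quotSp s t) := by
  obtain ⟨U₀, a, -, -, hd, h₁, h₂, h₃⟩ := exists_chart_quotSp hR hU h hs
  exact isAlgSpace_of_fppf_chart hd h₁ h₂ h₃

/-- The quotient map is surjective, flat and locally of finite presentation. -/
theorem quotSpπ_props (hR : IsAlgSpace R) (hU : IsAlgSpace U) (h : IsEqvRelSp s t)
    (hs : LocP @Flat s ∧ LocP @LocallyOfFinitePresentation s) :
    IsSurjectiveMor (quotSpπ s t) ∧ LocP @Flat (quotSpπ s t) ∧ LocP @LocallyOfFinitePresentation (quotSpπ s t) := by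
  obtain ⟨U₀, a, ae, as, hd, h₁, h₂, h₃⟩ := exists_chart_quotSp hR hU h hs
  obtain ⟨V, b, be, bs⟩ := (isAlgSpace_of_fppf_chart hd h₁ h₂ h₃).atlas
  obtain ⟨Q, fst, snd, sQ⟩ := exists_isPullback_of_representable h₁.1 b
  have hc : (fst ≫ a) ≫ quotSpπ s t = (yon S).map snd ≫ b := by rw [Category.assoc]; exact sQ.w
  have he : RepWith @Etale (fst ≫ a) := repWith_comp (repWith_of_isPullback sQ.flip be) ae
  have hsu : RepWith @Surjective (fst ≫ a) := repWith_comp (repWith_of_isPullback sQ.flip bs) as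
  refine ⟨fun x => ?_, EtLocal.flat.locP_of_chart he hsu be hc (h₁.2 _ _ _ sQ),
    EtLocal.lfp.locP_of_chart he hsu be hc (h₂.2 _ _ _ sQ)⟩
  obtain ⟨y, hy⟩ := surjective_map_of_repWith h₃ x
  exact ⟨Points.map a y, by rw [← Points.map_comp]; exact hy⟩

end GrothLib.AlgSp
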