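import Groth.Agent.Lib.AlgSp.NormGlue
import Groth.Agent.Lib.AlgSp.QuotSpace

/-!
# Existence of relative normalizations of algebraic spaces

* `exists_univNorm`; `univNorm_of_isRelNormalization`.
-/

set_option autoImplicit false
universe u
open CategoryTheory CategoryTheory.Limits AlgebraicGeometry
set_option backward.isDefEq.respectTransparency false

namespace GrothLib.AlgSp

open _root_.AlgSp

variable {S : Scheme.{u}}

/-- Two maps from a normalization over `G` agreeing under `F` and over `G` are equal. -/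
theorem UnivNorm.hom_ext' {F G N : Sp S} {f : F ⟶ G} {ν : N ⟶ G} {φ : F ⟶ N} (h : UnivNorm f ν φ)
    (hG : IsAlgSpace G) {Z : Sp S} (hZ : IsAlgSpace Z) {π : Z ⟶ G} (hπ : IsIntegralMor π) {k k' : N ⟶ Z}
    (e : φ ≫ k = φ ≫ k') (e₁ : k ≫ π = ν) (e₂ : k' ≫ π = ν) : k = k' :=
  ((h.isRelNormalization hG).2.2 hZ π (φ ≫ k) hπ (by rw [Category.assoc, e₁, h.1])).unique ⟨rfl, e₁⟩ ⟨e.symm, e₂⟩

section Descent

variable {X Y : Sp S} {f : Y ⟶ X} {U R M : Over S} {a : (yon S).obj U ⟶ X} {s t : R ⟶ U}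
  {m : M ⟶ U} {φU : pullback f a ⟶ (yon S).obj M}

/-- The relation induced on the normalization over a chart. -/
theorem exists_norm_rel (hX : IsAlgSpace X) (ae : RepWith @Etale a)
    (sqR : IsPullback ((yon S).map t) ((yon S).map s) a a) (h : UnivNorm (pullback.snd f a) ((yon S).map m) φU) :
    ∃ (Rn : Over S) (ds dt : Rn ⟶ M) (e : Rn ⟶ R),
      IsPullback ((yon S).map ds) ((yon S).map e) ((yon S).map m) ((yon S).map s) ∧ Etale ds.left ∧
      dt ≫ m = e ≫ t ∧ IsEqvRelSp ((yon S).map ds) ((yon S).map dt) ∧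
      ∀ {T : Sp S} (y y' : T ⟶ pullback f a), y ≫ pullback.fst f a = y' ≫ pullback.fst f a →
        ∃ x : T ⟶ (yon S).obj Rn, x ≫ (yon S).map ds = y ≫ φU ∧ x ≫ (yon S).map dt = y' ≫ φU := by
  have sqF := IsPullback.of_hasPullback f a
  have hse : Etale s.left := (repWith_yon_map_iff _ _).1 (repWith_of_isPullback sqR ae)
  have hte : Etale t.left := (repWith_yon_map_iff _ _).1 (repWith_of_isPullback sqR.flip ae)
  have hse' : IsEtaleMor ((yon S).map s) := isEtaleMor_of_repWith _ ((repWith_yon_map_iff _ s).2 hse)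
  have hte' : IsEtaleMor ((yon S).map t) := isEtaleMor_of_repWith _ ((repWith_yon_map_iff _ t).2 hte)
  have hνr := isIntegralMor_iff.1 h.2.1
  obtain ⟨Ns, πs₀, es, sqs₀⟩ := exists_isPullback_of_representable hνr.1 ((yon S).map s)
  obtain ⟨Nt, πt₀, et, sqt₀⟩ := exists_isPullback_of_representable hνr.1 ((yon S).map t)
  obtain ⟨πs, rfl⟩ := (yon S).map_surjective πs₀
  obtain ⟨πt, rfl⟩ := (yon S).map_surjective πt₀
  -- the space over `R`
  obtain ⟨FR, b, q, sqB⟩ : ∃ (FR : Sp S) (b : FR ⟶ Y) (q : FR ⟶ (yon S).obj R), IsPullback b q f ((yon S).map s ≫ a) :=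
    ⟨_, _, _, IsPullback.of_hasPullback f ((yon S).map s ≫ a)⟩
  have hts : (yon S).map t ≫ a = (yon S).map s ≫ a := sqR.w
  have wls : b ≫ f = (q ≫ (yon S).map s) ≫ a := by rw [Category.assoc, sqB.w]
  have wlt : b ≫ f = (q ≫ (yon S).map t) ≫ a := by rw [Category.assoc, hts, sqB.w]
  obtain ⟨ls, ls₁, ls₂⟩ : ∃ l : FR ⟶ pullback f a, l ≫ pullback.fst f a = b ∧
      l ≫ pullback.snd f a = q ≫ (yon S).map s := ⟨sqF.lift _ _ wls, sqF.lift_fst _ _ _, sqF.lift_snd _ _ _⟩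
  obtain ⟨lt, lt₁, lt₂⟩ : ∃ l : FR ⟶ pullback f a, l ≫ pullback.fst f a = b ∧
      l ≫ pullback.snd f a = q ≫ (yon S).map t := ⟨sqF.lift _ _ wlt, sqF.lift_fst _ _ _, sqF.lift_snd _ _ _⟩
  have sqLs : IsPullback ls q (pullback.snd f a) ((yon S).map s) :=
    IsPullback.of_right (by rw [ls₁]; exact sqB) ls₂ sqF
  have sqLt : IsPullback lt q (pullback.snd f a) ((yon S).map t) :=
    IsPullback.of_right (by rw [lt₁, hts]; exact sqB) lt₂ sqF
  have ws : (ls ≫ φU) ≫ (yon S).map m = q ≫ (yon S).map s := by rw [Category.assoc, h.1, ls₂]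
  have wt : (lt ≫ φU) ≫ (yon S).map m = q ≫ (yon S).map t := by rw [Category.assoc, h.1, lt₂]
  obtain ⟨φs, φs₁, φs₂⟩ : ∃ p : FR ⟶ (yon S).obj Ns, p ≫ (yon S).map πs = ls ≫ φU ∧ p ≫ (yon S).map es = q :=
    ⟨sqs₀.lift _ _ ws, sqs₀.lift_fst _ _ _, sqs₀.lift_snd _ _ _⟩
  obtain ⟨φt, φt₁, φt₂⟩ : ∃ p : FR ⟶ (yon S).obj Nt, p ≫ (yon S).map πt = lt ≫ φU ∧ p ≫ (yon S).map et = q :=
    ⟨sqt₀.lift _ _ wt, sqt₀.lift_fst _ _ _, sqt₀.lift_snd _ _ _⟩
  have hs : UnivNorm q ((yon S).map es) φs := h.of_isPullback hse' sqLs sqs₀ φs₁ φs₂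
  have ht : UnivNorm q ((yon S).map et) φt := h.of_isPullback hte' sqLt sqt₀ φt₁ φt₂
  have hA := fun T : Over S => IsAlgSpace.yon_obj (S := S) T
  obtain ⟨θ₀, ⟨hθ₁, hθ₂⟩, -⟩ := (hs.isRelNormalization (hA R)).2.2 (hA Nt) _ φt ht.2.1 φt₂
  obtain ⟨dt, hdt⟩ := (yon S).map_surjective (θ₀ ≫ (yon S).map πt)
  have hdtm : (yon S).map dt ≫ (yon S).map m = (yon S).map es ≫ (yon S).map t := by
    rw [hdt, Category.assoc, sqt₀.w, ← Category.assoc, hθ₂]
  have hdtφ : φs ≫ (yon S).map dt = lt ≫ φU := by rw [hdt, ← Category.assoc, hθ₁, φt₁]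
  -- pairs of points of the chart
  have hpair : ∀ {T : Sp S} (y y' : T ⟶ pullback f a), y ≫ pullback.fst f a = y' ≫ pullback.fst f a →
      ∃ z : T ⟶ FR, z ≫ ls = y ∧ z ≫ lt = y' := by
    intro T y y' e
    have e₁ : (y' ≫ pullback.snd f a) ≫ a = (y ≫ pullback.snd f a) ≫ a := by
      rw [Category.assoc, Category.assoc, ← sqF.w, ← Category.assoc, ← e, Category.assoc]
    have e₂ : (y ≫ pullback.fst f a) ≫ f = (sqR.lift _ _ e₁) ≫ (yon S).map s ≫ a := by
      rw [sqR.lift_snd_assoc, Category.assoc, sqF.w, Category.assoc]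
    refine ⟨sqB.lift _ _ e₂, sqF.hom_ext ?_ ?_, sqF.hom_ext ?_ ?_⟩
    · rw [Category.assoc, ls₁, sqB.lift_fst]
    · rw [Category.assoc, ls₂, sqB.lift_snd_assoc, sqR.lift_snd]
    · rw [Category.assoc, lt₁, sqB.lift_fst, e]
    · rw [Category.assoc, lt₂, sqB.lift_snd_assoc, sqR.lift_fst]
  refine ⟨Ns, πs, dt, es, sqs₀, ?_, (yon S).map_injective (by rw [Functor.map_comp, Functor.map_comp, hdtm]), ?_,
    fun y y' e => ?_⟩
  · exact (repWith_yon_map_iff _ _).1 (repWith_of_isPullback sqs₀.flip ((repWith_yon_map_iff _ s).2 hse))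
  swap
  · obtain ⟨z, hz₁, hz₂⟩ := hpair y y' e
    exact ⟨z ≫ φs, by rw [Category.assoc, φs₁, ← Category.assoc, hz₁],
      by rw [Category.assoc, hdtφ, ← Category.assoc, hz₂]⟩
  have hMi : IsIntegralMor ((yon S).map m) := h.2.1
  refine ⟨fun T x x' e₁ e₂ => ?_, fun T => ⟨fun n => ?_, ?_, ?_⟩⟩
  · refine sqs₀.hom_ext e₂ (sqR.hom_ext ?_ ?_)
    · simp only [Category.assoc]
      rw [← hdtm, reassoc_of% e₁]
    · simp only [Category.assoc]
      rw [← sqs₀.w, reassoc_of% e₂]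
  · -- reflexivity
    obtain ⟨δ, hδs, hδt⟩ : ∃ δ : (yon S).obj U ⟶ (yon S).obj R,
        δ ≫ (yon S).map s = 𝟙 _ ∧ δ ≫ (yon S).map t = 𝟙 _ :=
      ⟨sqR.lift (𝟙 _) (𝟙 _) rfl, sqR.lift_snd _ _ _, sqR.lift_fst _ _ _⟩
    have we : 𝟙 _ ≫ (yon S).map m = ((yon S).map m ≫ δ) ≫ (yon S).map s := by
      rw [Category.id_comp, Category.assoc, hδs, Category.comp_id]
    obtain ⟨e, e₁, e₂⟩ : ∃ e, e ≫ (yon S).map πs = 𝟙 _ ∧ e ≫ (yon S).map es = (yon S).map m ≫ δ :=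
      ⟨sqs₀.lift _ _ we, sqs₀.lift_fst _ _ _, sqs₀.lift_snd _ _ _⟩
    obtain ⟨z, hz₁, hz₂⟩ := hpair (𝟙 (pullback f a)) (𝟙 _) rfl
    have hze : z ≫ φs = φU ≫ e := sqs₀.hom_ext
      (by rw [Category.assoc, φs₁, reassoc_of% hz₁, Category.assoc, e₁, Category.comp_id])
      (by
        rw [Category.assoc, φs₂, Category.assoc, e₂, ← Category.assoc, h.1]
        refine sqR.hom_ext ?_ ?_
        · rw [Category.assoc, ← lt₂, reassoc_of% hz₂, Category.assoc, hδt, Category.comp_id]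
        · rw [Category.assoc, ← ls₂, reassoc_of% hz₁, Category.assoc, hδs, Category.comp_id])
    have hkey : e ≫ (yon S).map dt = 𝟙 _ := by
      refine h.hom_ext' (hA U) (hA M) hMi ?_ ?_ (Category.id_comp _)
      · rw [← Category.assoc, ← hze, Category.assoc, hdtφ, reassoc_of% hz₂, Category.comp_id]
      · rw [Category.assoc, hdtm, reassoc_of% e₂, hδt, Category.comp_id]
    exact ⟨n ≫ e, by rw [Category.assoc, hkey, Category.comp_id], by rw [Category.assoc, e₁, Category.comp_id]⟩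
  · -- symmetry
    rintro n n' ⟨x, hx₁, hx₂⟩
    obtain ⟨σ, hσs, hσt⟩ : ∃ σ : (yon S).obj R ⟶ (yon S).obj R,
        σ ≫ (yon S).map s = (yon S).map t ∧ σ ≫ (yon S).map t = (yon S).map s :=
      ⟨sqR.lift _ _ sqR.w.symm, sqR.lift_snd _ _ _, sqR.lift_fst _ _ _⟩
    have wm : (yon S).map dt ≫ (yon S).map m = ((yon S).map es ≫ σ) ≫ (yon S).map s := by
      rw [hdtm, Category.assoc, hσs]
    obtain ⟨μ, μ₁, μ₂⟩ : ∃ μ, μ ≫ (yon S).map πs = (yon S).map dt ∧ μ ≫ (yon S).map es = (yon S).map es ≫ σ :=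
      ⟨sqs₀.lift _ _ wm, sqs₀.lift_fst _ _ _, sqs₀.lift_snd _ _ _⟩
    obtain ⟨z, hz₁, hz₂⟩ := hpair lt ls (lt₁.trans ls₁.symm)
    have hzμ : z ≫ φs = φs ≫ μ := sqs₀.hom_ext
      (by rw [Category.assoc, φs₁, reassoc_of% hz₁, Category.assoc, μ₁, hdtφ])
      (by
        rw [Category.assoc, φs₂, Category.assoc, μ₂, reassoc_of% φs₂]
        refine sqR.hom_ext ?_ ?_
        · rw [Category.assoc, ← lt₂, reassoc_of% hz₂, ls₂, Category.assoc, hσt]
        · rw [Category.assoc, ← ls₂, reassoc_of% hz₁, lt₂, Category.assoc, hσs])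
    have wk : (μ ≫ (yon S).map dt) ≫ (yon S).map m = (yon S).map es ≫ (yon S).map s := by
      rw [Category.assoc, hdtm, reassoc_of% μ₂, hσt]
    have hkey : sqs₀.lift _ _ wk = 𝟙 _ := by
      refine hs.hom_ext' (hA R) (hA Ns) hs.2.1 ?_ (sqs₀.lift_snd _ _ _) (Category.id_comp _)
      rw [Category.comp_id]
      refine sqs₀.hom_ext ?_ ?_
      · rw [Category.assoc, sqs₀.lift_fst, ← Category.assoc, ← hzμ, Category.assoc, hdtφ, reassoc_of% hz₂, φs₁]
      · rw [Category.assoc, sqs₀.lift_snd]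
    have hμt : μ ≫ (yon S).map dt = (yon S).map πs := by
      rw [← Category.id_comp ((yon S).map πs), ← hkey, sqs₀.lift_fst]
    exact ⟨x ≫ μ, by rw [Category.assoc, hμt, hx₂], by rw [Category.assoc, μ₁, hx₁]⟩
  · -- transitivity
    rintro n n' n'' ⟨x, hx₁, hx₂⟩ ⟨x', hx₁', hx₂'⟩
    -- `x : n' → n`, `x' : n'' → n'`
    obtain ⟨R₂, r₁, r₂, sq₂⟩ : ∃ (R₂ : Over S) (r₁ r₂ : R₂ ⟶ R),
        IsPullback ((yon S).map r₁) ((yon S).map r₂) ((yon S).map t) ((yon S).map s) := by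
      obtain ⟨R₂, r₁, r₂, sq₂⟩ := exists_isPullback_yon (hA U).diag ((yon S).map t) ((yon S).map s)
      exact ⟨R₂, r₁, r₂, sq₂⟩
    have wc : ((yon S).map r₂ ≫ (yon S).map t) ≫ a = ((yon S).map r₁ ≫ (yon S).map s) ≫ a := by
      simp only [Category.assoc]
      rw [hts, ← reassoc_of% sq₂.w, hts]
    obtain ⟨c, hc₁, hc₂⟩ : ∃ c : (yon S).obj R₂ ⟶ (yon S).obj R,
        c ≫ (yon S).map t = (yon S).map r₂ ≫ (yon S).map t ∧ c ≫ (yon S).map s = (yon S).map r₁ ≫ (yon S).map s :=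
      ⟨sqR.lift _ _ wc, sqR.lift_fst _ _ _, sqR.lift_snd _ _ _⟩
    have hr₁e : IsEtaleMor ((yon S).map r₁) :=
      isEtaleMor_of_repWith _ (repWith_of_isPullback sq₂.flip ((repWith_yon_map_iff _ s).2 hse))
    obtain ⟨N₂, π₂, e₂, sqN₂⟩ := exists_isPullback_of_representable (isIntegralMor_iff.1 hs.2.1).1 ((yon S).map r₁)
    obtain ⟨F₂, α, β, sqF₂⟩ : ∃ (F₂ : Sp S) (α : F₂ ⟶ FR) (β : F₂ ⟶ (yon S).obj R₂),
        IsPullback α β q ((yon S).map r₁) := ⟨_, _, _, IsPullback.of_hasPullback q ((yon S).map r₁)⟩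
    have w₂ : (α ≫ φs) ≫ (yon S).map es = β ≫ (yon S).map r₁ := by rw [Category.assoc, φs₂, sqF₂.w]
    obtain ⟨φ₂, φ₂₁, φ₂₂⟩ : ∃ p : F₂ ⟶ (yon S).obj N₂, p ≫ π₂ = α ≫ φs ∧ p ≫ (yon S).map e₂ = β :=
      ⟨sqN₂.lift _ _ w₂, sqN₂.lift_fst _ _ _, sqN₂.lift_snd _ _ _⟩
    have hn₂ := hs.of_isPullback hr₁e sqF₂ sqN₂ φ₂₁ φ₂₂
    -- the two steps
    have wA : (π₂ ≫ (yon S).map dt) ≫ (yon S).map m = ((yon S).map e₂ ≫ (yon S).map r₂) ≫ (yon S).map s := by
      rw [Category.assoc, hdtm, reassoc_of% sqN₂.w, Category.assoc, sq₂.w]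
    obtain ⟨A, A₁, A₂⟩ : ∃ A, A ≫ (yon S).map πs = π₂ ≫ (yon S).map dt ∧
        A ≫ (yon S).map es = (yon S).map e₂ ≫ (yon S).map r₂ :=
      ⟨sqs₀.lift _ _ wA, sqs₀.lift_fst _ _ _, sqs₀.lift_snd _ _ _⟩
    -- the composite step
    have wC : (π₂ ≫ (yon S).map πs) ≫ (yon S).map m = ((yon S).map e₂ ≫ c) ≫ (yon S).map s := by
      rw [Category.assoc, sqs₀.w, reassoc_of% sqN₂.w, Category.assoc, hc₂]
    obtain ⟨C, C₁, C₂⟩ : ∃ C, C ≫ (yon S).map πs = π₂ ≫ (yon S).map πs ∧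
        C ≫ (yon S).map es = (yon S).map e₂ ≫ c :=
      ⟨sqs₀.lift _ _ wC, sqs₀.lift_fst _ _ _, sqs₀.lift_snd _ _ _⟩
    -- compare inside `M ×_U R₂`
    obtain ⟨MT, mT, μT, sqMT⟩ := exists_isPullback_of_representable hνr.1 ((yon S).map (r₂ ≫ t))
    have wA' : (A ≫ (yon S).map dt) ≫ (yon S).map m = (yon S).map e₂ ≫ (yon S).map (r₂ ≫ t) := by
      rw [Category.assoc, hdtm, reassoc_of% A₂, Functor.map_comp]
    have wC' : (C ≫ (yon S).map dt) ≫ (yon S).map m = (yon S).map e₂ ≫ (yon S).map (r₂ ≫ t) := by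
      rw [Category.assoc, hdtm, reassoc_of% C₂, hc₁, Functor.map_comp]
    have hαA : φ₂ ≫ A ≫ (yon S).map dt = φ₂ ≫ C ≫ (yon S).map dt := by
      have wz : α ≫ lt ≫ pullback.snd f a = (β ≫ (yon S).map r₂) ≫ (yon S).map s := by
        rw [lt₂, reassoc_of% sqF₂.w, sq₂.w, Category.assoc]
      have wz' : (α ≫ b) ≫ f = (β ≫ (yon S).map r₂) ≫ (yon S).map s ≫ a := by
        rw [Category.assoc, sqB.w, reassoc_of% sqF₂.w, ← hts, reassoc_of% sq₂.w, hts, Category.assoc]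
      obtain ⟨z, hz₁, hz₂⟩ : ∃ z : F₂ ⟶ FR, z ≫ b = α ≫ b ∧ z ≫ q = β ≫ (yon S).map r₂ :=
        ⟨sqB.lift _ _ wz', sqB.lift_fst _ _ _, sqB.lift_snd _ _ _⟩
      have wy' : (α ≫ b) ≫ f = (β ≫ c) ≫ (yon S).map s ≫ a := by
        rw [Category.assoc, sqB.w, reassoc_of% sqF₂.w, Category.assoc, reassoc_of% hc₂]
      obtain ⟨w, hw₁, hw₂⟩ : ∃ w : F₂ ⟶ FR, w ≫ b = α ≫ b ∧ w ≫ q = β ≫ c :=
        ⟨sqB.lift _ _ wy', sqB.lift_fst _ _ _, sqB.lift_snd _ _ _⟩
      have ezls : z ≫ ls = α ≫ lt := sqF.hom_ext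
        (by rw [Category.assoc, ls₁, hz₁, Category.assoc, lt₁])
        (by rw [Category.assoc, ls₂, reassoc_of% hz₂, Category.assoc, wz, Category.assoc])
      have ewls : w ≫ ls = α ≫ ls := sqF.hom_ext
        (by rw [Category.assoc, ls₁, hw₁, Category.assoc, ls₁])
        (by rw [Category.assoc, ls₂, reassoc_of% hw₂, hc₂, Category.assoc, ls₂, reassoc_of% sqF₂.w])
      have ezw : z ≫ lt = w ≫ lt := sqF.hom_ext
        (by rw [Category.assoc, lt₁, hz₁, Category.assoc, lt₁, hw₁])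
        (by rw [Category.assoc, lt₂, reassoc_of% hz₂, Category.assoc, lt₂, reassoc_of% hw₂, hc₁])
      have eA : φ₂ ≫ A = z ≫ φs := sqs₀.hom_ext
        (by rw [Category.assoc, A₁, reassoc_of% φ₂₁, hdtφ, Category.assoc, φs₁, reassoc_of% ezls])
        (by rw [Category.assoc, A₂, reassoc_of% φ₂₂, Category.assoc, φs₂, hz₂])
      have eC : φ₂ ≫ C = w ≫ φs := sqs₀.hom_ext
        (by rw [Category.assoc, C₁, reassoc_of% φ₂₁, φs₁, Category.assoc, φs₁, reassoc_of% ewls])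
        (by rw [Category.assoc, C₂, reassoc_of% φ₂₂, Category.assoc, φs₂, hw₂])
      rw [reassoc_of% eA, reassoc_of% eC, hdtφ, reassoc_of% ezw]
    have hkey : A ≫ (yon S).map dt = C ≫ (yon S).map dt := by
      have e := hn₂.hom_ext' (hA R₂) (hA MT)
        (isIntegralMor_iff.2 (repWith_of_isPullback sqMT hνr)) (k := sqMT.lift _ _ wA') (k' := sqMT.lift _ _ wC')
        (sqMT.hom_ext
          (by simpa only [Category.assoc, sqMT.lift_fst] using hαA)
          (by simp only [Category.assoc, sqMT.lift_snd]))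
        (sqMT.lift_snd _ _ _) (sqMT.lift_snd _ _ _)
      rw [← sqMT.lift_fst _ _ wA', e, sqMT.lift_fst]
    -- compose
    have wz₀ : (x' ≫ (yon S).map es) ≫ (yon S).map t = (x ≫ (yon S).map es) ≫ (yon S).map s := by
      simp only [Category.assoc]
      rw [← hdtm, ← sqs₀.w, reassoc_of% hx₁', reassoc_of% hx₂]
    have wz : x' ≫ (yon S).map es = sq₂.lift _ _ wz₀ ≫ (yon S).map r₁ := (sq₂.lift_fst _ _ _).symm
    have hzA : sqN₂.lift _ _ wz ≫ A = x := sqs₀.hom_ext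
      (by rw [Category.assoc, A₁, sqN₂.lift_fst_assoc, hx₁', hx₂])
      (by rw [Category.assoc, A₂, sqN₂.lift_snd_assoc, sq₂.lift_snd])
    refine ⟨sqN₂.lift _ _ wz ≫ C, ?_, ?_⟩
    · rw [Category.assoc, ← hkey, reassoc_of% hzA, hx₁]
    · rw [Category.assoc, C₁, sqN₂.lift_fst_assoc, hx₂']

/-- The normalization over a chart descends. -/
theorem exists_univNorm_descend (hX : IsAlgSpace X) (ae : RepWith @Etale a) (as : RepWith @Surjective a)
    (sqR : IsPullback ((yon S).map t) ((yon S).map s) a a) (h : UnivNorm (pullback.snd f a) ((yon S).map m) φU) :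
    ∃ (N : Sp S) (ν : N ⟶ X) (φ : Y ⟶ N) (π : (yon S).obj M ⟶ N), IsAlgSpace N ∧ φ ≫ ν = f ∧ IsIntegralMor ν ∧
      IsPullback π ((yon S).map m) ν a ∧ φU ≫ π = pullback.fst f a ≫ φ := by
  obtain ⟨Rn, ds, dt, e, sqs, hds, hdtm, heqv, hpairs⟩ := exists_norm_rel hX ae sqR h
  have hRn := IsAlgSpace.yon_obj (S := S) Rn
  have hM := IsAlgSpace.yon_obj (S := S) M
  let π := quotSpπ ((yon S).map ds) ((yon S).map dt)
  have hdp : LocallyOfFinitePresentation ds.left := inferInstance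
  have hdf : Flat ds.left := inferInstance
  have hN : IsAlgSpace (quotSp ((yon S).map ds) ((yon S).map dt)) :=
    isAlgSpace_quotSp hRn hM heqv
      ⟨EtLocal.locP_of_repWith .flat hM ((repWith_yon_map_iff _ ds).2 hdf),
        EtLocal.locP_of_repWith .lfp hM ((repWith_yon_map_iff _ ds).2 hdp)⟩
  have hdtm' : (yon S).map dt ≫ (yon S).map m = (yon S).map e ≫ (yon S).map t := by
    rw [← Functor.map_comp, ← Functor.map_comp, hdtm]
  have wν : (yon S).map ds ≫ (yon S).map m ≫ a = (yon S).map dt ≫ (yon S).map m ≫ a := by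
    rw [reassoc_of% hdtm', sqR.w, reassoc_of% sqs.w]
  let ν := quotSpDesc ((yon S).map m ≫ a) wν
  have hπν : π ≫ ν = (yon S).map m ≫ a := quotSpπ_desc _ _ _ _
  have sqπ := isPullback_quotSpπ heqv
  haveI hπl : Sheaf.IsLocallySurjective π := (Sheaf.isLocallySurjective_iff_epi _).2 coequalizer.π_epi
  -- over a point of the chart there is at most one point of a class
  have huniq : ∀ {T : Over S} (n n' : (yon S).obj T ⟶ (yon S).obj M), n ≫ π = n' ≫ π →
      n ≫ (yon S).map m = n' ≫ (yon S).map m → n = n' := by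
    intro T n n' e₁ e₂
    obtain ⟨x, hx₁, hx₂⟩ : ∃ x, x ≫ (yon S).map dt = n' ∧ x ≫ (yon S).map ds = n :=
      ⟨sqπ.lift _ _ e₁.symm, sqπ.lift_fst _ _ _, sqπ.lift_snd _ _ _⟩
    obtain ⟨x₀, hx₀t, hx₀s⟩ := (heqv.equivalence T).refl n
    have : x = x₀ := sqs.hom_ext (hx₂.trans hx₀s.symm) (sqR.hom_ext
      (by
        simp only [Category.assoc]
        rw [← hdtm', reassoc_of% hx₁, reassoc_of% hx₀t, e₂])
      (by
        simp only [Category.assoc]
        rw [← sqs.w, reassoc_of% hx₂, reassoc_of% hx₀s]))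
    rw [← hx₁, this, hx₀t]
  have sq : IsPullback π ((yon S).map m) ν a := by
    refine isPullback_of_yon hπν fun T z l hzl => ?_
    obtain ⟨V, c, n₀, hcf, hcp, hcs, hn₀⟩ := exists_fppf_lift π z
    have wr : ((yon S).map c ≫ l) ≫ a = (n₀ ≫ (yon S).map m) ≫ a := by
      rw [Category.assoc, Category.assoc, ← hzl, ← hπν, reassoc_of% hn₀]
    obtain ⟨x, hx₁, hx₂⟩ : ∃ x, x ≫ (yon S).map ds = n₀ ∧ x ≫ (yon S).map e = sqR.lift _ _ wr :=
      ⟨sqs.lift n₀ (sqR.lift _ _ wr) (sqR.lift_snd _ _ _).symm, sqs.lift_fst _ _ _, sqs.lift_snd _ _ _⟩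
    have hx₃ : (x ≫ (yon S).map dt) ≫ π = (yon S).map c ≫ z := by
      rw [Category.assoc, sqπ.w, reassoc_of% hx₁, hn₀]
    have hx₄ : (x ≫ (yon S).map dt) ≫ (yon S).map m = (yon S).map c ≫ l := by
      rw [Category.assoc, hdtm', reassoc_of% hx₂, sqR.lift_fst]
    haveI := isLocallySurjective_yon_map c hcf hcp hcs
    haveI : Epi ((yon S).map c) := (Sheaf.isLocallySurjective_iff_epi _).1 inferInstance
    obtain ⟨VV, v₁, v₂, sqV⟩ := exists_isPullback_yon (IsAlgSpace.yon_obj T).diag ((yon S).map c) ((yon S).map c)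
    have := IsRegularEpiCategory.regularEpiOfEpi (C := Sp S) ((yon S).map c)
    obtain ⟨n, hn⟩ := IsRegularEpi.exists_of_isKernelPair ((yon S).map c) sqV (x ≫ (yon S).map dt)
      (huniq _ _ (by simp only [Category.assoc] at hx₃ ⊢; rw [hx₃, reassoc_of% sqV.w])
        (by simp only [Category.assoc] at hx₄ ⊢; rw [hx₄, reassoc_of% sqV.w]))
    refine ⟨n, ⟨?_, ?_⟩, fun n' hn' => huniq _ _ ?_ ?_⟩
    · rw [← cancel_epi ((yon S).map c), ← Category.assoc, hn, hx₃]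
    · rw [← cancel_epi ((yon S).map c), ← Category.assoc, hn, hx₄]
    · rw [hn'.1, ← cancel_epi ((yon S).map c), ← Category.assoc ((yon S).map c) n, hn]
      simpa only [Category.assoc] using hx₃.symm
    · rw [hn'.2, ← cancel_epi ((yon S).map c), ← Category.assoc ((yon S).map c) n, hn]
      simpa only [Category.assoc] using hx₄.symm
  haveI := chart_isLocallySurjective ae as
  have hν : IsIntegralMor ν := isIntegralMor_iff.2 (repWith_of_base_isAffineHom a sq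
    (fun _ _ g (hg : IsIntegralHom g) => inferInstance) fppfDescends_isIntegralHom (isIntegralMor_iff.1 h.2.1))
  -- the map from `Y`
  have sqF := IsPullback.of_hasPullback f a
  haveI : Sheaf.IsLocallySurjective (pullback.fst f a) := isLocallySurjective_of_isPullback sqF.flip
  haveI : Epi (pullback.fst f a) := (Sheaf.isLocallySurjective_iff_epi _).1 inferInstance
  have := IsRegularEpiCategory.regularEpiOfEpi (C := Sp S) (pullback.fst f a)
  obtain ⟨φ, hφ⟩ := IsRegularEpi.exists_of_isKernelPair (pullback.fst f a)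
    (IsPullback.of_hasPullback (pullback.fst f a) (pullback.fst f a)) (φU ≫ π) (by
      obtain ⟨x, hx₁, hx₂⟩ := hpairs _ _ (pullback.condition (f := pullback.fst f a) (g := pullback.fst f a))
      rw [← reassoc_of% hx₁, ← reassoc_of% hx₂, sqπ.w])
  refine ⟨_, ν, φ, π, hN, ?_, hν, sq, hφ.symm⟩
  rw [← cancel_epi (pullback.fst f a), reassoc_of% hφ, hπν, reassoc_of% h.1, sqF.w]

end Descent

/-- Relative normalizations exist, and are stable under etale base change. -/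
theorem exists_univNorm {X Y : Sp S} (hX : IsAlgSpace X) (hY : IsAlgSpace Y) (f : Y ⟶ X)
    (hqc : IsQuasiCompactMor f) (hqs : IsQuasiSeparatedMor f) :
    ∃ (N : Sp S) (ν : N ⟶ X) (φ : Y ⟶ N), IsAlgSpace N ∧ UnivNorm f ν φ := by
  obtain ⟨ι, W, r, hW, hr, hcov, -⟩ := exists_affine_charts hX
  obtain ⟨a, ha, -⟩ := exists_hom_of_sigma W r
  have ae : RepWith @Etale a := repWith_sigma hX.diag W r a ha @Etale hr
  have as : RepWith @Surjective a := repWith_surjective_of_ofPt ae.1 fun x => by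
    obtain ⟨i, v, rfl⟩ := hcov x
    exact ⟨(sigmaι W i).left v, by rw [← ha i, ofPt_map_comp]⟩
  have sqF := IsPullback.of_hasPullback f a
  obtain ⟨M, m, φU, hU⟩ := exists_univNorm_sigma W hW
    (isAlgSpace_pullback' hX hY (IsAlgSpace.yon_obj _) f a) (pullback.snd f a)
    (isQuasiCompactMor_of_isPullback' sqF hqc) (isQuasiSeparatedMor_of_isPullback' sqF hqs)
  obtain ⟨R, t, s, sqR⟩ := exists_isPullback_yon hX.diag a a
  obtain ⟨N, ν, φ, π, hN, hc, hν, sq, hφ⟩ := exists_univNorm_descend hX ae as sqR hU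
  refine ⟨N, ν, φ, hN, univNorm_of_cover hX hc hν W r hr hcov fun i T τ hT hτ => ?_⟩
  have he : IsAffine T.left := hT
  have hg := IsGoodAt.comp sqF sq hφ hU.1 (hU.2.2 hT ((yon S).map (τ ≫ sigmaι W i)) ((repWith_yon_map_iff _ _).2 (by
    haveI := hτ
    haveI := isOpenImmersion_sigmaι W i
    exact inferInstanceAs (Etale (τ.left ≫ (sigmaι W i).left)))))
  rwa [Functor.map_comp, Category.assoc, ha] at hg

/-- Every relative normalization is stable under etale base change. -/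
theorem univNorm_of_isRelNormalization {X Y N : Sp S} (hX : IsAlgSpace X) (hY : IsAlgSpace Y) {f : Y ⟶ X}
    (hqc : IsQuasiCompactMor f) (hqs : IsQuasiSeparatedMor f) {ν : N ⟶ X} {φ : Y ⟶ N} (hN : IsAlgSpace N)
    (h : IsRelNormalization f ν φ) : UnivNorm f ν φ := by
  obtain ⟨N', ν', φ', hN', h'⟩ := exists_univNorm hX hY f hqc hqs
  obtain ⟨e, e₁, e₂⟩ := isRelNormalization_iso (h'.isRelNormalization hX) h hN' hN
  exact h'.of_iso e e₁ e₂

end GrothLib.AlgSp
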