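import Groth.Agent.Lib.AlgSp.NormBasic

/-!
# Normalizations over disjoint unions of affine schemes

* `IsGoodAt.comp`; `exists_univNorm_sigma`.
-/

set_option autoImplicit false
universe u
open CategoryTheory CategoryTheory.Limits AlgebraicGeometry
set_option backward.isDefEq.respectTransparency false

namespace GrothLib.AlgSp

open _root_.AlgSp

variable {S : Scheme.{u}} {F G N : Sp S} {f : F ⟶ G} {ν : N ⟶ G} {φ : F ⟶ N}

/-- Goodness descends through a cartesian base change. -/
theorem IsGoodAt.comp {F' G' N' : Sp S} {w : G' ⟶ G} {a : F' ⟶ F} {f' : F' ⟶ G'} {b : N' ⟶ N}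
    {ν' : N' ⟶ G'} {φ' : F' ⟶ N'} (sqF : IsPullback a f' f w) (sqN : IsPullback b ν' ν w)
    (hφ : φ' ≫ b = a ≫ φ) (hc' : φ' ≫ ν' = f') {V : Over S} {v : (yon S).obj V ⟶ G'}
    (h : IsGoodAt f' ν' φ' v) : IsGoodAt f ν φ (v ≫ w) := by
  intro P' M a' q b' μ sqP sqM ψ h₁ h₂
  have e₁ : a' ≫ f = (q ≫ v) ≫ w := by rw [sqP.w, Category.assoc]
  have e₂ : b' ≫ ν = ((yon S).map μ ≫ v) ≫ w := by rw [sqM.w, Category.assoc]
  have sqP' : IsPullback (sqF.lift a' (q ≫ v) e₁) q f' v :=
    IsPullback.of_right (by rw [sqF.lift_fst]; exact sqP) (sqF.lift_snd _ _ _) sqF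
  have sqM' : IsPullback (sqN.lift b' ((yon S).map μ ≫ v) e₂) ((yon S).map μ) ν' v :=
    IsPullback.of_right (by rw [sqN.lift_fst]; exact sqM) (sqN.lift_snd _ _ _) sqN
  refine h sqP' sqM' ψ (sqN.hom_ext ?_ ?_) h₂
  · rw [Category.assoc, sqN.lift_fst, Category.assoc, hφ, ← Category.assoc, sqF.lift_fst, h₁]
  · rw [Category.assoc, sqN.lift_snd, Category.assoc, hc', sqF.lift_snd, ← Category.assoc, h₂]

/-- The coprojection of a disjoint union is an open immersion. -/
theorem isOpenImmersion_sigmaι {ι : Type u} (V : ι → Over S) (i : ι) : IsOpenImmersion (sigmaι V i).left :=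
  inferInstanceAs (IsOpenImmersion (Sigma.ι (fun i => (V i).left) i))

/-- A disjoint union of maps is cartesian over each piece. -/
theorem isPullback_sigma_map {ι : Type u} {M W : ι → Over S} (μ : ∀ i, M i ⟶ W i)
    (m : sigmaOver M ⟶ sigmaOver W) (hm : ∀ i, sigmaι M i ≫ m = μ i ≫ sigmaι W i) (i : ι) :
    IsPullback (sigmaι M i) (μ i) m (sigmaι W i) := by
  haveI := isOpenImmersion_sigmaι M i
  haveI := isOpenImmersion_sigmaι W i
  have hl : ∀ j, (sigmaι M j).left ≫ m.left = (μ j).left ≫ (sigmaι W j).left := fun j => by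
    rw [← Over.comp_left, hm, Over.comp_left]
  refine isPullback_of_left ?_
  refine (IsOpenImmersion.isPullback (μ i).left (sigmaι M i).left (sigmaι W i).left m.left (hl i) ?_).flip
  ext z
  constructor
  · intro hz
    obtain ⟨w, hw⟩ := hz
    obtain ⟨j, x, rfl⟩ := (sigmaOpenCover fun i => (M i).left).exists_eq z
    have h2 : (sigmaι W j).left ((μ j).left x) = (sigmaι W i).left w := by
      rw [← Scheme.Hom.comp_apply, ← hl, Scheme.Hom.comp_apply]
      exact hw.symm
    obtain ⟨rfl⟩ := (sigmaι_eq_iff (fun i => (W i).left) _ _ _ _).mp h2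
    exact ⟨x, rfl⟩
  · rintro ⟨x, rfl⟩
    refine ⟨(μ i).left x, ?_⟩
    rw [← Scheme.Hom.comp_apply, ← hl, Scheme.Hom.comp_apply]

/-- Two maps from a scheme to a disjoint union which agree piecewise after composition. -/
theorem eq_of_sigma_pieces {ι : Type u} (C : ι → Over S) {R : Over S} (d₁ d₂ : R ⟶ sigmaOver C) {Z : Sp S}
    (ψ : (yon S).obj (sigmaOver C) ⟶ Z)
    (h : ∀ (i j : ι) (T : Over S) (r : T ⟶ R) (x : T ⟶ C i) (y : T ⟶ C j), x ≫ sigmaι C i = r ≫ d₁ →
      y ≫ sigmaι C j = r ≫ d₂ → (yon S).map (x ≫ sigmaι C i) ≫ ψ = (yon S).map (y ≫ sigmaι C j) ≫ ψ) :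
    (yon S).map d₁ ≫ ψ = (yon S).map d₂ ≫ ψ := by
  haveI hoi : ∀ i, IsOpenImmersion (sigmaι C i).left := isOpenImmersion_sigmaι C
  let O : ι × ι → R.left.Opens := fun q =>
    d₁.left ⁻¹ᵁ (sigmaι C q.1).left.opensRange ⊓ d₂.left ⁻¹ᵁ (sigmaι C q.2).left.opensRange
  let RW : ι × ι → Over S := fun q => Over.mk ((O q).ι ≫ R.hom)
  let rw' : ∀ q, RW q ⟶ R := fun q => Over.homMk (O q).ι rfl
  have hcovR : ∀ z : ↥R.left, ∃ q y, (rw' q).left y = z := fun z => by
    obtain ⟨i, u, hu⟩ := (sigmaOpenCover fun i => (C i).left).exists_eq (d₁.left z)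
    obtain ⟨j, u', hu'⟩ := (sigmaOpenCover fun i => (C i).left).exists_eq (d₂.left z)
    exact ⟨(i, j), ⟨z, ⟨⟨u, hu⟩, ⟨u', hu'⟩⟩⟩, rfl⟩
  obtain ⟨L, -, hLu⟩ := exists_hom_of_openCover RW rw'
    (fun q => inferInstanceAs (IsOpenImmersion (O q).ι)) hcovR (fun q => (yon S).map (rw' q) ≫ (yon S).map d₁ ≫ ψ)
    (fun q q' T gl gl' hgl => by
      rw [← Category.assoc, ← Category.assoc ((yon S).map gl'), ← Functor.map_comp, ← Functor.map_comp, hgl])
  refine (hLu _ fun q => rfl).trans (hLu _ fun q => ?_).symm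
  obtain ⟨i, j⟩ := q
  have hl : ∀ (i' : ι) (d : R ⟶ sigmaOver C),
      Set.range (rw' (i, j) ≫ d).left ⊆ Set.range (sigmaι C i').left →
      ∃ x : RW (i, j) ⟶ C i', x ≫ sigmaι C i' = rw' (i, j) ≫ d := fun i' d hr => by
    refine ⟨Over.homMk (IsOpenImmersion.lift (sigmaι C i').left (rw' (i, j) ≫ d).left hr) ?_,
      Over.OverMorphism.ext (IsOpenImmersion.lift_fac _ _ _)⟩
    rw [← Over.w (sigmaι C i'), IsOpenImmersion.lift_fac_assoc, Over.w]
  obtain ⟨x, hx⟩ := hl i d₁ (by rintro _ ⟨z, rfl⟩; exact z.2.1)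
  obtain ⟨y, hy⟩ := hl j d₂ (by rintro _ ⟨z, rfl⟩; exact z.2.2)
  rw [← Functor.map_comp_assoc, ← Functor.map_comp_assoc, ← hx, ← hy]
  exact (h i j _ _ x y hx hy).symm

/-- A disjoint union of integral morphisms is integral. -/
theorem isIntegralHom_sigma_map {ι : Type u} {M W : ι → Over S} (μ : ∀ i, M i ⟶ W i)
    (m : sigmaOver M ⟶ sigmaOver W) (hm : ∀ i, sigmaι M i ≫ m = μ i ≫ sigmaι W i)
    (h : ∀ i, IsIntegralHom (μ i).left) : IsIntegralHom m.left := by
  refine (IsZariskiLocalAtTarget.iff_of_openCover (P := @IsIntegralHom) (sigmaOpenCover fun i => (W i).left)).2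
    fun i => ?_
  have sq := isPullback_left (isPullback_sigma_map μ m hm i)
  show IsIntegralHom (pullback.snd m.left (sigmaι W i).left)
  rw [← MorphismProperty.cancel_left_of_respectsIso @IsIntegralHom sq.isoPullback.hom, sq.isoPullback_hom_snd]
  exact h i

/-- Normalizations over a disjoint union of affine schemes. -/
theorem exists_univNorm_sigma {ι : Type u} (W : ι → Over S) (hW : ∀ i, IsAffine (W i).left) {P : Sp S}
    (hP : IsAlgSpace P) (p : P ⟶ (yon S).obj (sigmaOver W)) (hqc : IsQuasiCompactMor p)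
    (hqs : IsQuasiSeparatedMor p) :
    ∃ (M : Over S) (m : M ⟶ sigmaOver W) (φ : P ⟶ (yon S).obj M), UnivNorm p ((yon S).map m) φ := by
  have hU := IsAlgSpace.yon_obj (S := S) (sigmaOver W)
  let Pi : ι → Sp S := fun i => pullback p ((yon S).map (sigmaι W i))
  have sqi : ∀ i, IsPullback (pullback.fst p ((yon S).map (sigmaι W i))) (pullback.snd p ((yon S).map (sigmaι W i)))
      p ((yon S).map (sigmaι W i)) := fun i => IsPullback.of_hasPullback _ _
  have hPi : ∀ i, IsAlgSpace (Pi i) := fun i => isAlgSpace_pullback' hU hP (IsAlgSpace.yon_obj _) _ _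
  choose M μ φi hM using fun i => exists_univNorm_affine (U := W i) (hPi i) (pullback.snd p ((yon S).map (sigmaι W i)))
    (isQuasiCompactMor_of_isPullback' (sqi i) hqc) (isQuasiSeparatedMor_of_isPullback' (sqi i) hqs)
  let m : sigmaOver M ⟶ sigmaOver W := Over.homMk (Limits.Sigma.map fun i => (μ i).left) (by
    refine Sigma.hom_ext _ _ fun i => ?_
    simp)
  have hm : ∀ i, sigmaι M i ≫ m = μ i ≫ sigmaι W i := fun i =>
    Over.OverMorphism.ext (Sigma.ι_map (fun i => (μ i).left) i)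
  have hint : IsIntegralHom m.left := isIntegralHom_sigma_map μ m hm fun i =>
    (repWith_yon_map_iff _ _).1 (isIntegralMor_iff.1 (hM i).2.1)
  -- a chart of `P`
  have hch : ∀ i, ∃ (Wi : Over S) (w : (yon S).obj Wi ⟶ Pi i), RepWith @Etale w ∧ RepWith @Surjective w := fun i => by
    obtain ⟨Wi, w, we, ws⟩ := (hPi i).atlas
    exact ⟨Wi, w, we, ws⟩
  choose C c ce cs using hch
  haveI hιe : ∀ i, Etale (sigmaι W i).left := fun i => by
    haveI := isOpenImmersion_sigmaι W i
    infer_instance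
  have hfe : ∀ i, RepWith @Etale (c i ≫ pullback.fst p ((yon S).map (sigmaι W i))) := fun i =>
    repWith_comp (ce i) (repWith_of_isPullback (sqi i).flip ((repWith_yon_map_iff _ _).2 (hιe i)))
  obtain ⟨c', hc', -⟩ := exists_hom_of_sigma C fun i => c i ≫ pullback.fst p ((yon S).map (sigmaι W i))
  have c'e : RepWith @Etale c' := repWith_sigma hP.diag C _ c' hc' @Etale hfe
  have c's : RepWith @Surjective c' := repWith_surjective_of_ofPt c'e.1 fun x => by
    obtain ⟨z, hz⟩ := (Points.schemeHomeo (sigmaOver W)).surjective (Points.map p x)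
    obtain ⟨i, y, rfl⟩ := (sigmaOpenCover fun i => (W i).left).exists_eq z
    have e : Points.map p x = Points.map ((yon S).map (sigmaι W i)) (Points.schemeHomeo (W i) y) := by
      rw [Points.map_yon_map_apply]
      exact hz.symm
    obtain ⟨q, hq, -⟩ := exists_of_isPullback (sqi i) e
    obtain ⟨u, rfl⟩ := surjective_ofPt_of_repWith (cs i) q
    exact ⟨(sigmaι C i).left u, by rw [← ofPt_map_comp, hc', ← Points.map_ofPt, hq]⟩
  haveI := chart_isLocallySurjective c'e c's
  haveI : Epi c' := (Sheaf.isLocallySurjective_iff_epi _).1 inferInstance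
  obtain ⟨ψ, hψ, -⟩ := exists_hom_of_sigma C fun i => c i ≫ φi i ≫ (yon S).map (sigmaι M i)
  obtain ⟨R, d₁, d₂, sqR⟩ := exists_isPullback_yon hP.diag c' c'
  have hcp : ∀ i, (yon S).map (sigmaι C i) ≫ c' ≫ p =
      (c i ≫ pullback.snd p ((yon S).map (sigmaι W i))) ≫ (yon S).map (sigmaι W i) := fun i => by
    rw [← Category.assoc, hc', Category.assoc, (sqi i).w, Category.assoc]
  have hψd : (yon S).map d₁ ≫ ψ = (yon S).map d₂ ≫ ψ := eq_of_sigma_pieces C d₁ d₂ ψ fun i j T r x y hx hy => by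
    rw [Functor.map_comp, Functor.map_comp, Category.assoc, Category.assoc, hψ, hψ]
    obtain ⟨qi, hqi⟩ := (yon S).map_surjective (c i ≫ pullback.snd p ((yon S).map (sigmaι W i)))
    obtain ⟨qj, hqj⟩ := (yon S).map_surjective (c j ≫ pullback.snd p ((yon S).map (sigmaι W j)))
    have hcc : (yon S).map x ≫ (yon S).map (sigmaι C i) ≫ c' = (yon S).map y ≫ (yon S).map (sigmaι C j) ≫ c' := by
      rw [← Functor.map_comp_assoc, ← Functor.map_comp_assoc, hx, hy, Functor.map_comp, Functor.map_comp,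
        Category.assoc, Category.assoc, sqR.w]
    have hpp : (yon S).map x ≫ c i ≫ pullback.snd p ((yon S).map (sigmaι W i)) ≫ (yon S).map (sigmaι W i) =
        (yon S).map y ≫ c j ≫ pullback.snd p ((yon S).map (sigmaι W j)) ≫ (yon S).map (sigmaι W j) := by
      simpa only [Category.assoc, hcp] using congrArg (· ≫ p) hcc
    have hxy : (x ≫ qi) ≫ sigmaι W i = (y ≫ qj) ≫ sigmaι W j := (yon S).map_injective (by
      rw [Functor.map_comp, Functor.map_comp, Functor.map_comp, Functor.map_comp, hqi, hqj]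
      simpa only [Category.assoc] using hpp)
    by_cases hij : i = j
    · subst hij
      haveI : Mono ((yon S).map (sigmaι W i)) := mono_of_openImmersion
        ((repWith_yon_map_iff _ _).2 (isOpenImmersion_sigmaι W i))
      have e₀ : (yon S).map y ≫ c i = (yon S).map x ≫ c i := (sqi i).hom_ext
        (by rw [Category.assoc, Category.assoc, ← hc' i]; exact hcc.symm)
        (by
          rw [← cancel_mono ((yon S).map (sigmaι W i))]
          simp only [Category.assoc]
          exact hpp.symm)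
      rw [reassoc_of% e₀]
    · haveI : IsEmpty T.left := isEmpty_of_commSq_sigmaι_of_ne
        (g := fun i => (W i).left) (a := (x ≫ qi).left) (b := (y ≫ qj).left)
        ⟨congrArg (·.left) hxy⟩ hij
      exact hom_ext_of_isEmpty _ _
  have := IsRegularEpiCategory.regularEpiOfEpi (C := Sp S) c'
  obtain ⟨φ, hφ⟩ := IsRegularEpi.exists_of_isKernelPair c' sqR ψ hψd
  have hc : φ ≫ (yon S).map m = p := by
    rw [← cancel_epi c', ← Category.assoc, hφ]
    refine (exists_hom_of_sigma C fun i => (c i ≫ pullback.snd p ((yon S).map (sigmaι W i))) ≫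
      (yon S).map (sigmaι W i)).unique (fun i => ?_) hcp
    rw [← Category.assoc, hψ, Category.assoc, Category.assoc, ← Functor.map_comp, hm, Functor.map_comp,
      reassoc_of% (hM i).1, Category.assoc]
  have hφi : ∀ i, φi i ≫ (yon S).map (sigmaι M i) = pullback.fst p ((yon S).map (sigmaι W i)) ≫ φ := fun i => by
    haveI := chart_isLocallySurjective (ce i) (cs i)
    haveI : Epi (c i) := (Sheaf.isLocallySurjective_iff_epi _).1 inferInstance
    rw [← cancel_epi (c i), ← hψ, ← hφ, ← Category.assoc, hc', Category.assoc]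
  refine ⟨_, m, φ, univNorm_of_cover hU hc (isIntegralMor_iff.2 ((repWith_yon_map_iff _ m).2 hint)) W
    (fun i => (yon S).map (sigmaι W i)) (fun i => (repWith_yon_map_iff _ _).2 (hιe i)) (fun x => ?_)
    fun i T t hT ht => ?_⟩
  · obtain ⟨z, rfl⟩ := (Points.schemeHomeo (sigmaOver W)).surjective x
    obtain ⟨i, y, rfl⟩ := (sigmaOpenCover fun i => (W i).left).exists_eq z
    exact ⟨i, y, map_yon_ofPt (sigmaι W i) y⟩
  · exact IsGoodAt.comp (sqi i) (isPullback_yon (isPullback_sigma_map μ m hm i)) (hφi i) (hM i).1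
      ((hM i).2.2 hT _ ((repWith_yon_map_iff _ t).2 ht))

end GrothLib.AlgSp
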