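import Groth.Agent.Lib.AlgSp.NormExists
import Groth.Agent.Lib.AlgSp.ImmersionDescent
import Groth.Agent.Lib.AlgSp.UnivClosed
import Groth.Agent.S10298
import Mathlib.AlgebraicGeometry.ZariskisMainTheorem
import Mathlib.AlgebraicGeometry.QuasiAffine

/-!
# Zariski's main theorem for quasi-finite separated morphisms of algebraic spaces

* `openImmersion_normalization_of_lqf`: the map to the normalization is an open immersion.
-/

set_option autoImplicit false
universe u
open CategoryTheory CategoryTheory.Limits AlgebraicGeometry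
set_option backward.isDefEq.respectTransparency false

namespace GrothLib.AlgSp

open _root_.AlgSp

variable {S : Scheme.{u}}

/-- Over a scheme the map to the normalization is a quasi-compact open immersion of schemes. -/
theorem exists_model_of_lqf {V M : Over S} {P : Sp S} (hP : IsAlgSpace P) {p : P ⟶ (yon S).obj V}
    (hqc : IsQuasiCompactMor p) (hsep : IsSeparatedMor p)
    (hqf : LocP (@LocallyQuasiFinite ⊓ @LocallyOfFiniteType) p) {μ : M ⟶ V} {φ : P ⟶ (yon S).obj M}
    (h : IsRelNormalization p ((yon S).map μ) φ) :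
    ∃ (W : Over S) (e : (yon S).obj W ≅ P) (k : W ⟶ M),
      e.hom ≫ φ = (yon S).map k ∧ IsOpenImmersion k.left ∧ QuasiCompact k.left := by
  obtain ⟨W, ⟨e⟩⟩ := exists_iso_yon_of_lqf_separated hP p hqf hsep
  obtain ⟨g, hg⟩ := (yon S).map_surjective (e.hom ≫ p)
  obtain ⟨hq, hl⟩ : LocallyQuasiFinite g.left ∧ LocallyOfFiniteType g.left :=
    hqf e.hom (𝟙 _) g (repWith_iso _) (repWith_id _ V) (by rw [hg, Category.comp_id])
  have sqe : IsPullback e.hom ((yon S).map g) p (𝟙 _) := IsPullback.of_horiz_isIso ⟨by rw [hg, Category.comp_id]⟩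
  haveI : IsSeparated g.left := (repWith_yon_map_iff _ g).1 ((isSeparatedMor_iff_repWith (representable_yon_map g)).1
    (repWith_of_isPullback (isPullback_diagonal_of_isPullback sqe) hsep))
  haveI : QuasiCompact g.left := (repWith_yon_map_iff _ g).1
    (repWith_quasiCompact_of_isQuasiCompactMor (representable_yon_map g) (isQuasiCompactMor_of_isPullback' sqe hqc))
  let Ms : Over S := Over.mk (g.left.fromNormalization ≫ V.hom)
  let f₀ : W ⟶ Ms := Over.homMk g.left.toNormalization (by
    show g.left.toNormalization ≫ g.left.fromNormalization ≫ V.hom = W.hom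
    rw [← Category.assoc, Scheme.Hom.toNormalization_fromNormalization, Over.w g])
  let ν₀ : Ms ⟶ V := Over.homMk g.left.fromNormalization rfl
  have h₀ := Groth.Agent.S10298.result g f₀ ν₀ (Iso.refl _) (Category.comp_id _) (Category.id_comp _)
  have h' : IsRelNormalization ((yon S).map g) ((yon S).map μ) (e.hom ≫ φ) := by
    refine ⟨by rw [Category.assoc, h.1, hg], h.2.1, fun Z hZ π q hπ hq => ?_⟩
    obtain ⟨k, ⟨k₁, k₂⟩, ku⟩ := h.2.2 hZ π (e.inv ≫ q) hπ (by rw [Category.assoc, hq, hg, e.inv_hom_id_assoc])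
    exact ⟨k, ⟨by rw [Category.assoc, k₁, e.hom_inv_id_assoc], k₂⟩, fun k' ⟨a, b⟩ =>
      ku k' ⟨by rw [← a, Category.assoc, e.inv_hom_id_assoc], b⟩⟩
  obtain ⟨i, hi, -⟩ := isRelNormalization_iso h₀ h' (IsAlgSpace.yon_obj _) (IsAlgSpace.yon_obj _)
  obtain ⟨i', hi'⟩ := (yon S).map_surjective i.hom
  haveI : IsIso ((yon S).map i') := by rw [hi']; infer_instance
  haveI : IsIso i' := isIso_of_fully_faithful (yon S) i'
  haveI : IsIso i'.left := (Over.forget S).map_isIso i'
  refine ⟨W, e, f₀ ≫ i', by rw [Functor.map_comp, hi', hi], ?_, ?_⟩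
  · show IsOpenImmersion (g.left.toNormalization ≫ i'.left)
    infer_instance
  · show QuasiCompact (g.left.toNormalization ≫ i'.left)
    infer_instance

/-- **Zariski's main theorem**: for a quasi-finite separated morphism the map to the normalization is a
quasi-compact open immersion and the morphism is quasi-affine. -/
theorem openImmersion_normalization_of_lqf {X Y N : Sp S} (hX : IsAlgSpace X) (hY : IsAlgSpace Y) (hN : IsAlgSpace N)
    {f : X ⟶ Y} (hqf : LocP (@LocallyQuasiFinite ⊓ @LocallyOfFiniteType) f) (hqc : IsQuasiCompactMor f)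
    (hsep : IsSeparatedMor f) {ν : N ⟶ Y} {φ : X ⟶ N} (hn : IsRelNormalization f ν φ) :
    RepWith @IsOpenImmersion φ ∧ IsQuasiCompactMor φ ∧ IsQuasiAffineMor f := by
  have h := univNorm_of_isRelNormalization hY hX hqc (isQuasiSeparatedMor_of_isSeparatedMor hsep) hN hn
  have hνr := isIntegralMor_iff.1 h.2.1
  -- over any etale scheme
  have key : ∀ {V : Over S} (v : (yon S).obj V ⟶ Y), RepWith @Etale v → ∀ (M : Over S) (b : (yon S).obj M ⟶ N)
      (μ : M ⟶ V), IsPullback b ((yon S).map μ) ν v → ∃ (W : Over S) (a : (yon S).obj W ⟶ X) (k : W ⟶ M),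
        IsPullback a ((yon S).map k) φ b ∧ IsOpenImmersion k.left ∧ QuasiCompact k.left := by
    intro V v hv M b μ sqM
    have sqP := IsPullback.of_hasPullback f v
    have hP := isAlgSpace_pullback' hY hX (IsAlgSpace.yon_obj V) f v
    have hw : (pullback.fst f v ≫ φ) ≫ ν = pullback.snd f v ≫ v := by rw [Category.assoc, h.1, sqP.w]
    obtain ⟨φ', h₁, h₂⟩ : ∃ p : pullback f v ⟶ (yon S).obj M, p ≫ b = pullback.fst f v ≫ φ ∧
        p ≫ (yon S).map μ = pullback.snd f v := ⟨sqM.lift _ _ hw, sqM.lift_fst _ _ _, sqM.lift_snd _ _ _⟩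
    have h' := (h.of_isPullback (isEtaleMor_of_repWith v hv) sqP sqM h₁ h₂).isRelNormalization (IsAlgSpace.yon_obj V)
    obtain ⟨W, e, k, hk, hko, hkq⟩ := exists_model_of_lqf hP (isQuasiCompactMor_of_isPullback' sqP hqc)
      (repWith_of_isPullback (isPullback_diagonal_of_isPullback sqP) hsep)
      (EtLocal.locP_of_isPullback (EtLocal.inf EtLocal.lqf EtLocal.lft) hX hY (IsAlgSpace.yon_obj V) sqP hqf) h'
    have sqφ : IsPullback (pullback.fst f v) φ' φ b := by
      refine IsPullback.of_bot ?_ h₁.symm sqM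
      rw [h.1, h₂]
      exact sqP
    exact ⟨W, e.hom ≫ pullback.fst f v, k, sqφ.of_iso e.symm (Iso.refl _) (Iso.refl _) (Iso.refl _) (by simp)
      (by simp [hk.symm]) (by simp) (by simp), hko, hkq⟩
  obtain ⟨V, v, ve, vs⟩ := hY.atlas
  obtain ⟨M, b, μ, sqM⟩ := exists_isPullback_of_representable hνr.1 v
  obtain ⟨W, a, k, sqW, hko, hkq⟩ := key v ve M b μ sqM
  haveI := chart_isLocallySurjective (repWith_of_isPullback sqM.flip ve) (repWith_of_isPullback sqM.flip vs)
  have hoi : RepWith @IsOpenImmersion φ := repWith_of_base_isImmersion b sqW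
    (le_isImmersion_of_cases (Or.inr (Or.inl rfl))).1 (le_isImmersion_of_cases (Or.inr (Or.inl rfl))).2
    ((repWith_yon_map_iff _ k).2 hko)
  have hνs : IsQuasiSeparatedMor ν := (isQuasiSeparatedMor_iff_repWith hνr.1).2
    (repWith_mono hνr fun A B m (hm : IsIntegralHom m) => inferInstance)
  have hφq : IsQuasiCompactMor φ := isQuasiCompactMor_of_comp hX hN hY (by rw [h.1]; exact hqc) hνs
  refine ⟨hoi, hφq, fun Z hZ g => ?_⟩
  obtain ⟨MZ, bZ, μZ, sqZ⟩ := exists_isPullback_of_representable hνr.1 g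
  haveI : IsIntegralHom μZ.left := hνr.2 _ _ _ sqZ
  haveI := hZ
  haveI : IsAffine MZ.left := isAffine_of_isAffineHom μZ.left
  obtain ⟨WZ, aZ, kZ, sqWZ⟩ := exists_isPullback_of_representable hoi.1 bZ
  haveI : IsOpenImmersion kZ.left := hoi.2 _ _ _ sqWZ
  haveI : QuasiCompact kZ.left := (repWith_quasiCompact_of_isQuasiCompactMor hoi.1 hφq).2 _ _ _ sqWZ
  haveI : CompactSpace ↥WZ.left := QuasiCompact.compactSpace_of_compactSpace kZ.left
  refine ⟨WZ, kZ ≫ μZ, aZ, ?_, Scheme.IsQuasiAffine.of_isImmersion kZ.left⟩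
  rw [Functor.map_comp, ← h.1]
  exact sqWZ.paste_vert sqZ

end GrothLib.AlgSp
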