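import Groth.Agent.Lib.AlgSp.NormClopen
import Groth.Agent.Lib.AlgSp.NormZMT

/-!
# Normalization and the quasi-finite locus

* `QfAt`: the chart condition defining the points where a morphism is quasi-finite;
* `exists_norm_piece`: near a quasi-finite point, the map to the normalization is an isomorphism over an etale piece;
* `isIso_of_pieces`: a base change which is an isomorphism over every piece of an open subspace.
-/

set_option autoImplicit false
universe u
open CategoryTheory CategoryTheory.Limits AlgebraicGeometry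
set_option backward.isDefEq.respectTransparency false

namespace GrothLib.AlgSp

open _root_.AlgSp

variable {S : Scheme.{u}}

/-- The chart condition for being quasi-finite at a point. -/
abbrev QfAt (U _V : Scheme.{u}) (h : U ⟶ _V) (u : U) : Prop :=
  ∃ W : U.Opens, u ∈ W ∧ LocallyQuasiFinite (W.ι ≫ h) ∧ LocallyOfFiniteType (W.ι ≫ h)

/-- Near a quasi-finite point, the map to the normalization is an isomorphism over an etale piece. -/
theorem exists_norm_piece {X Y N : Sp S} (hX : IsAlgSpace X) (hY : IsAlgSpace Y) {f : X ⟶ Y}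
    (hsep : IsSeparatedMor f) {ν : N ⟶ Y} {φ : X ⟶ N} (h : UnivNorm f ν φ) {x : Points X}
    (hx : HasAtMor QfAt f x) :
    ∃ (MA A : Over S) (c : (yon S).obj MA ⟶ N) (kX : (yon S).obj A ⟶ X) (t : A ≅ MA),
      RepWith @Etale c ∧ IsPullback kX ((yon S).map t.hom) φ c ∧ (∃ a, Points.ofPt kX a = x) ∧
        ∀ a : ↥A.left, HasAtMor QfAt f (Points.ofPt kX a) := by
  obtain ⟨U₀, V, a, b, h₀, u, ha, hb, hc, rfl, W, hu, hWq, hWl⟩ := hx
  have hνr := isIntegralMor_iff.1 h.2.1
  have sqP := IsPullback.of_hasPullback f b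
  have hP := isAlgSpace_pullback' hY hX (IsAlgSpace.yon_obj V) f b
  have sep : IsSeparatedMor (pullback.snd f b) :=
    repWith_of_isPullback (isPullback_diagonal_of_isPullback sqP) hsep
  let W' : Over S := Over.mk (W.ι ≫ U₀.hom)
  let iW : W' ⟶ U₀ := Over.homMk W.ι rfl
  have hiW : RepWith @Etale ((yon S).map iW) := (repWith_yon_map_iff _ iW).2 (inferInstanceAs (Etale W.ι))
  have hw : ((yon S).map iW ≫ a) ≫ f = (yon S).map (iW ≫ h₀) ≫ b := by
    rw [Category.assoc, hc, Functor.map_comp, Category.assoc]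
  have hfste : RepWith @Etale (pullback.fst f b) := repWith_of_isPullback sqP.flip hb
  have ha' : RepWith @Etale (sqP.lift _ _ hw) := repWith_etale_lift hX hP (repWith_comp hiW ha) _
    hfste _ (sqP.lift_fst _ _ hw)
  obtain ⟨V', A, v, kP, g, x, hv, hg, hkq, hx, -, hkPe, hclop⟩ :=
    exists_finite_split hP _ sep ha' (iW ≫ h₀) (sqP.lift_snd _ _ hw) hWq hWl (⟨u, hu⟩ : W)
  obtain ⟨kX, rfl⟩ : ∃ kX, kX = kP ≫ pullback.fst f b := ⟨_, rfl⟩
  have hkXe : RepWith @Etale (kP ≫ pullback.fst f b) := repWith_comp hkPe hfste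
  have hkf : (kP ≫ pullback.fst f b) ≫ f = (yon S).map (g ≫ v) ≫ b := by
    rw [Category.assoc, sqP.w, reassoc_of% hkq]
  have hve : RepWith @Etale ((yon S).map v ≫ b) := repWith_comp ((repWith_yon_map_iff _ v).2 hv) hb
  obtain ⟨M, bM, μ, sqM⟩ := exists_isPullback_of_representable hνr.1 ((yon S).map v ≫ b)
  have sq' := IsPullback.of_hasPullback f ((yon S).map v ≫ b)
  have hP' := isAlgSpace_pullback' hY hX (IsAlgSpace.yon_obj V') f ((yon S).map v ≫ b)
  have w₁ : pullback.fst f ((yon S).map v ≫ b) ≫ f =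
      (pullback.snd f ((yon S).map v ≫ b) ≫ (yon S).map v) ≫ b := by rw [sq'.w, Category.assoc]
  have sqc : IsPullback (sqP.lift _ _ w₁) (pullback.snd f ((yon S).map v ≫ b)) (pullback.snd f b) ((yon S).map v) :=
    IsPullback.of_right (by rw [sqP.lift_fst]; exact sq') (sqP.lift_snd _ _ w₁) sqP
  obtain ⟨k, hk₁, hk₂⟩ : ∃ k, k ≫ sqP.lift _ _ w₁ = kP ∧ k ≫ pullback.snd f ((yon S).map v ≫ b) = (yon S).map g :=
    ⟨sqc.lift kP ((yon S).map g) (by rw [hkq, Functor.map_comp]), sqc.lift_fst _ _ _, sqc.lift_snd _ _ _⟩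
  have hk₃ : k ≫ pullback.fst f ((yon S).map v ≫ b) = kP ≫ pullback.fst f b := by
    rw [← hk₁, Category.assoc, sqP.lift_fst]
  obtain ⟨hko, hkc⟩ := hclop sqc k hk₁ hk₂
  have hwN : (pullback.fst f ((yon S).map v ≫ b) ≫ φ) ≫ ν =
      pullback.snd f ((yon S).map v ≫ b) ≫ (yon S).map v ≫ b := by rw [Category.assoc, h.1, sq'.w]
  obtain ⟨φ', h₁, h₂⟩ : ∃ p : pullback f ((yon S).map v ≫ b) ⟶ (yon S).obj M,
      p ≫ bM = pullback.fst f ((yon S).map v ≫ b) ≫ φ ∧
      p ≫ (yon S).map μ = pullback.snd f ((yon S).map v ≫ b) :=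
    ⟨sqM.lift _ _ hwN, sqM.lift_fst _ _ _, sqM.lift_snd _ _ _⟩
  have hV := h.of_isPullback (isEtaleMor_of_repWith _ hve) sq' sqM h₁ h₂
  obtain ⟨MA, iM, t, hiM, sqA⟩ := exists_isPullback_norm_of_clopen hP' hV hko hkc g hk₂ hg
  have sqφ : IsPullback (pullback.fst f ((yon S).map v ≫ b)) φ' φ bM := by
    refine IsPullback.of_bot ?_ h₁.symm sqM
    rw [h.1, h₂]
    exact sq'
  refine ⟨MA, A, (yon S).map iM ≫ bM, kP ≫ pullback.fst f b, t,
    repWith_comp ((repWith_yon_map_iff _ iM).2 (inferInstanceAs (Etale iM.left))) (repWith_of_isPullback sqM.flip hve),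
    ?_, ⟨x, ?_⟩, fun y => ?_⟩
  · rw [← hk₃]
    exact sqA.paste_horiz sqφ
  · rw [← Points.map_ofPt, hx, Points.map_ofPt, sqP.lift_fst, ofPt_map_comp]
    rfl
  · haveI := hv
    haveI := hg
    haveI : LocallyQuasiFinite v.left := EtLocal.lqf.of_etale v.left hv
    refine ⟨A, V, _, b, g ≫ v, y, hkXe, hb, hkf, rfl, ⊤, trivial, ?_, ?_⟩
    · exact inferInstanceAs (LocallyQuasiFinite ((⊤ : A.left.Opens).ι ≫ g.left ≫ v.left))
    · exact inferInstanceAs (LocallyOfFiniteType ((⊤ : A.left.Opens).ι ≫ g.left ≫ v.left))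

/-- A base change to an open subspace covered by pieces over which the map is an isomorphism is an isomorphism. -/
theorem isIso_of_pieces {X N U P : Sp S} (hN : IsAlgSpace N) (hU : IsAlgSpace U) {φ : X ⟶ N} {j : U ⟶ N}
    (hj : RepWith @IsOpenImmersion j) {fst : P ⟶ X} {snd : P ⟶ U} (sq : IsPullback fst snd φ j) {ι : Type u}
    (MA A : ι → Over S) (c : ∀ i, (yon S).obj (MA i) ⟶ N) (kX : ∀ i, (yon S).obj (A i) ⟶ X)
    (t : ∀ i, A i ≅ MA i) (hce : ∀ i, RepWith @Etale (c i))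
    (hsq : ∀ i, IsPullback (kX i) ((yon S).map (t i).hom) φ (c i))
    (d : ∀ i, (yon S).obj (MA i) ⟶ U) (hd : ∀ i, d i ≫ j = c i)
    (hcov : ∀ x : Points U, ∃ i m, Points.ofPt (d i) m = x) : IsIso snd := by
  haveI := mono_of_openImmersion hj
  have hje : RepWith @Etale j := repWith_mono hj fun A B m hm => by
    have : IsOpenImmersion m := hm
    exact inferInstanceAs (Etale m)
  have hde : ∀ i, RepWith @Etale (d i) := fun i => repWith_etale_lift hN hU (hce i) _ hje _ (hd i)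
  obtain ⟨D, hD, -⟩ := exists_hom_of_sigma MA d
  have De : RepWith @Etale D := repWith_sigma hU.diag MA d D hD @Etale hde
  have Ds : RepWith @Surjective D := repWith_surjective_of_ofPt De.1 fun x => by
    obtain ⟨i, m, hm⟩ := hcov x
    exact ⟨(sigmaι MA i).left m, by rw [← ofPt_map_comp, hD, hm]⟩
  haveI := chart_isLocallySurjective De Ds
  haveI : Epi D := (Sheaf.isLocallySurjective_iff_epi _).1 inferInstance
  have hl : ∀ i, ((yon S).map (t i).inv ≫ kX i) ≫ φ = d i ≫ j := fun i => by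
    rw [Category.assoc, (hsq i).w, ← Functor.map_comp_assoc, Iso.inv_hom_id, CategoryTheory.Functor.map_id,
      Category.id_comp, hd]
  let l : ∀ i, (yon S).obj (MA i) ⟶ P := fun i => sq.lift _ _ (hl i)
  have hloc : ∀ (i : ι) (T : Over S) (z : T ⟶ MA i) (p : (yon S).obj T ⟶ P),
      p ≫ snd = (yon S).map z ≫ d i → p = (yon S).map z ≫ l i := by
    intro i T z p hp
    have e : (p ≫ fst) ≫ φ = (yon S).map z ≫ c i := by
      rw [Category.assoc, sq.w, ← Category.assoc, hp, Category.assoc, hd]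
    obtain ⟨w, hw⟩ := (yon S).map_surjective ((hsq i).lift _ _ e)
    have hwt : w ≫ (t i).hom = z := (yon S).map_injective (by rw [Functor.map_comp, hw, (hsq i).lift_snd])
    refine sq.hom_ext ?_ (by rw [Category.assoc, hp]; simp only [l, sq.lift_snd])
    rw [Category.assoc, sq.lift_fst, ← Functor.map_comp_assoc, ← hwt, Category.assoc,
      Iso.hom_inv_id, Category.comp_id, hw, (hsq i).lift_fst]
  obtain ⟨L, hL, -⟩ := exists_hom_of_sigma MA l
  have hLs : L ≫ snd = D := by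
    obtain ⟨D', -, hD'⟩ := exists_hom_of_sigma MA d
    exact (hD' _ fun i => by rw [reassoc_of% hL i, sq.lift_snd]).trans (hD' _ hD).symm
  haveI hoi : ∀ i, IsOpenImmersion (sigmaι MA i).left := isOpenImmersion_sigmaι MA
  have hmain : ∀ (T : Over S) (z : T ⟶ sigmaOver MA) (p : (yon S).obj T ⟶ P),
      p ≫ snd = (yon S).map z ≫ D → p = (yon S).map z ≫ L := by
    intro T z p hp
    let RW : ι → Over S := fun i => Over.mk ((z.left ⁻¹ᵁ (sigmaι MA i).left.opensRange).ι ≫ T.hom)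
    let rw' : ∀ i, RW i ⟶ T := fun i => Over.homMk (z.left ⁻¹ᵁ (sigmaι MA i).left.opensRange).ι rfl
    obtain ⟨K, -, hKu⟩ := exists_hom_of_openCover RW rw'
      (fun i => inferInstanceAs (IsOpenImmersion (z.left ⁻¹ᵁ (sigmaι MA i).left.opensRange).ι))
      (fun y => by
        obtain ⟨i, m, hm⟩ := (sigmaOpenCover fun i => (MA i).left).exists_eq (z.left y)
        exact ⟨i, ⟨y, ⟨m, hm⟩⟩, rfl⟩)
      (fun i => (yon S).map (rw' i) ≫ p) (fun q q' W gl gl' hgl => by
        rw [← Functor.map_comp_assoc, ← Functor.map_comp_assoc, hgl])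
    refine (hKu _ fun i => rfl).trans (hKu _ fun i => ?_).symm
    obtain ⟨zi, hzi⟩ : ∃ zi : RW i ⟶ MA i, zi ≫ sigmaι MA i = rw' i ≫ z := by
      refine ⟨Over.homMk (IsOpenImmersion.lift (sigmaι MA i).left (rw' i ≫ z).left
        (by rintro _ ⟨y, rfl⟩; exact y.2)) ?_, Over.OverMorphism.ext (IsOpenImmersion.lift_fac _ _ _)⟩
      show IsOpenImmersion.lift _ _ _ ≫ (MA i).hom = _
      rw [← Over.w (sigmaι MA i), IsOpenImmersion.lift_fac_assoc, Over.w]
    rw [← Functor.map_comp_assoc, ← hzi, Functor.map_comp, Category.assoc, hL]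
    refine (hloc i _ zi _ ?_).symm
    rw [Category.assoc, hp, ← Functor.map_comp_assoc, ← hzi, Functor.map_comp, Category.assoc, hD]
  obtain ⟨R, d₁, d₂, sqR⟩ := exists_isPullback_yon hU.diag D D
  have := IsRegularEpiCategory.regularEpiOfEpi (C := Sp S) D
  obtain ⟨s, hs⟩ := IsRegularEpi.exists_of_isKernelPair D sqR L
    (hmain _ d₂ _ (by rw [Category.assoc, hLs, sqR.w]))
  refine ⟨⟨s, GrothLib.AlgSp.hom_ext fun T p => ?_, by
    rw [← cancel_epi D, reassoc_of% hs, hLs, Category.comp_id]⟩⟩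
  obtain ⟨T', cc, y, hf, hp, hsj, hy⟩ := exists_fppf_lift D (p ≫ snd)
  haveI := isLocallySurjective_yon_map cc hf hp hsj
  haveI : Epi ((yon S).map cc) := (Sheaf.isLocallySurjective_iff_epi _).1 inferInstance
  obtain ⟨y, rfl⟩ := (yon S).map_surjective y
  rw [Category.comp_id, ← cancel_epi ((yon S).map cc), ← reassoc_of% hy, hs,
    ← hmain _ y ((yon S).map cc ≫ p) (by rw [Category.assoc]; exact hy.symm)]

end GrothLib.AlgSp
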