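import Mathlib.RingTheory.Smooth.IntegralClosure
import Mathlib.RingTheory.Flat.Equalizer
import Mathlib.RingTheory.Smooth.Flat

/-!
# Integral elements of an equalizer and smooth base change

For `R`-algebra maps `l r : A ⇉ C`, `eqIntClosure l r` is the algebra of integral elements of the
equalizer; its formation commutes with smooth base change (`exists_eq_map_eqIntClosure`).
-/

set_option autoImplicit false
universe u
open TensorProduct

namespace GrothLib.AlgSp

section

variable {R S A C : Type u} [CommRing R] [CommRing S] [CommRing A] [CommRing C] [Algebra R S] [Algebra R A]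
  [Algebra R C] (l r : A →ₐ[R] C)

/-- The integral elements of the equalizer of `l` and `r`. -/
def eqIntClosure : Subalgebra R A := integralClosure R A ⊓ AlgHom.equalizer l r

theorem isIntegral_eqIntClosure : Algebra.IsIntegral R (eqIntClosure l r) :=
  ⟨fun x => (isIntegral_algHom_iff (eqIntClosure l r).val Subtype.val_injective).1 x.2.1⟩

variable (S) in
theorem injective_map_eqIntClosure [Module.Flat R S] :
    Function.Injective (Algebra.TensorProduct.map (AlgHom.id S S) (eqIntClosure l r).val) :=
  Module.Flat.lTensor_preserves_injective_linearMap (M := S)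
    (eqIntClosure l r).val.toLinearMap Subtype.val_injective

theorem exists_eq_map_eqIntClosure [Algebra.Smooth R S] (x : S ⊗[R] A) (hx : IsIntegral S x)
    (he : Algebra.TensorProduct.map (AlgHom.id S S) l x = Algebra.TensorProduct.map (AlgHom.id S S) r x) :
    ∃ z, Algebra.TensorProduct.map (AlgHom.id S S) (eqIntClosure l r).val z = x := by
  haveI : Module.Flat R S := inferInstance
  obtain ⟨y, hy⟩ := (TensorProduct.toIntegralClosure_bijective_of_smooth (R := R) (S := S) (B := A)).2 ⟨x, hx⟩
  have hy' : Algebra.TensorProduct.map (AlgHom.id S S) (integralClosure R A).val y = x :=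
    congrArg Subtype.val hy
  let f : integralClosure R A →ₗ[R] C := (l.comp (integralClosure R A).val).toLinearMap
  let g : integralClosure R A →ₗ[R] C := (r.comp (integralClosure R A).val).toLinearMap
  have hcomp : ∀ (h : A →ₐ[R] C) (y : S ⊗[R] integralClosure R A),
      (h.comp (integralClosure R A).val).toLinearMap.lTensor S y =
        Algebra.TensorProduct.map (AlgHom.id S S) h
          (Algebra.TensorProduct.map (AlgHom.id S S) (integralClosure R A).val y) := by
    intro h y
    induction y with
    | zero => simp
    | tmul s a => simp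
    | add a b ha hb => simp only [map_add, ha, hb]
  have hmem : y ∈ LinearMap.eqLocus (AlgebraTensorModule.lTensor S S f)
      (AlgebraTensorModule.lTensor S S g) := by
    show f.lTensor S y = g.lTensor S y
    rw [hcomp, hcomp, hy', he]
  let w := (LinearMap.tensorEqLocusEquiv S S f g).symm ⟨y, hmem⟩
  have hw : (LinearMap.eqLocus f g).subtype.lTensor S w = y :=
    LinearMap.lTensor_eqLocus_subtype_tensoreqLocusEquiv_symm S S f g ⟨y, hmem⟩
  let inc : LinearMap.eqLocus f g →ₗ[R] eqIntClosure l r :=
    { toFun := fun a => ⟨(a.1 : A), a.1.2, a.2⟩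
      map_add' := fun _ _ => rfl
      map_smul' := fun _ _ => rfl }
  refine ⟨inc.lTensor S w, ?_⟩
  rw [← hy', ← hw]
  clear_value w
  clear hw
  induction w with
  | zero => simp
  | tmul s a => simp [inc]
  | add a b ha hb => simp only [map_add, ha, hb]

end

/-- Universal property of `S ⊗ eqIntClosure`. -/
theorem existsUnique_lift_eqIntClosure {R S A C D : Type u} [CommRing R] [CommRing S] [CommRing A] [CommRing C]
    [CommRing D] [Algebra R S] [Algebra R A] [Algebra R C] [Algebra.Smooth R S] (l r : A →ₐ[R] C)
    (φ : D →+* S ⊗[R] A) (hφ : ∀ d, IsIntegral S (φ d))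
    (he : ∀ d, Algebra.TensorProduct.map (AlgHom.id S S) l (φ d) = Algebra.TensorProduct.map (AlgHom.id S S) r (φ d)) :
    ∃! ψ : D →+* S ⊗[R] eqIntClosure l r,
      (Algebra.TensorProduct.map (AlgHom.id S S) (eqIntClosure l r).val).toRingHom.comp ψ = φ := by
  haveI : Module.Flat R S := inferInstance
  have hinj := injective_map_eqIntClosure S l r
  choose z hz using fun d => exists_eq_map_eqIntClosure l r (φ d) (hφ d) (he d)
  refine ⟨{ toFun := z, map_one' := hinj (by rw [hz, map_one, map_one]),
            map_mul' := fun a b => hinj (by rw [hz, map_mul, map_mul, hz, hz]),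
            map_zero' := hinj (by rw [hz, map_zero, map_zero]),
            map_add' := fun a b => hinj (by rw [hz, map_add, map_add, hz, hz]) }, ?_, ?_⟩
  · ext d; exact hz d
  · intro ψ hψ
    ext d
    apply hinj
    exact ((RingHom.congr_fun hψ d : _).trans (hz d).symm)

end GrothLib.AlgSp
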