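import Groth.Agent.Lib.AlgSp.Quotient
import Groth.Agent.Lib.AlgSp.DiagAffine
import Groth.Agent.Lib.AlgSp.LqfDescent
import Groth.Agent.Lib.AlgSp.FppfDescent

/-!
# Restriction of a quotient along a map with open saturation is an open immersion

`isLocallySurjective_yon_map`, `exists_isPullback_quot_restrict`, `repWith_isOpenImmersion_quot_restrict`.
-/

universe u

open CategoryTheory CategoryTheory.Limits AlgebraicGeometry Opposite

namespace GrothLib.AlgSp

open _root_.AlgSp

variable {S : Scheme.{u}}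

theorem isLocallySurjective_yon_map {V T : Over S} (c : V ⟶ T) (hf : Flat c.left)
    (hp : LocallyOfFinitePresentation c.left) (hs : Surjective c.left) :
    Sheaf.IsLocallySurjective ((yon S).map c) :=
  isLocallySurjective_of_repWith ((repWith_yon_map_iff _ _).2 hf) ((repWith_yon_map_iff _ _).2 hp)
    ((repWith_yon_map_iff _ _).2 hs)

theorem exists_common_lift {F G H : Sp S} (a : F ⟶ H) (b : G ⟶ H) [Sheaf.IsLocallySurjective a]
    [Sheaf.IsLocallySurjective b] {T : Over S} (x y : (yon S).obj T ⟶ H) :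
    ∃ (V : Over S) (c : V ⟶ T) (l : (yon S).obj V ⟶ F) (m : (yon S).obj V ⟶ G), Flat c.left ∧
      LocallyOfFinitePresentation c.left ∧ Surjective c.left ∧ l ≫ a = (yon S).map c ≫ x ∧
      m ≫ b = (yon S).map c ≫ y := by
  haveI := isLocallySurjective_prodMap a b
  obtain ⟨V, c, l, hf, hp, hs, hl⟩ := exists_fppf_lift (prod.map a b) (prod.lift x y)
  exact ⟨V, c, l ≫ prod.fst, l ≫ prod.snd, hf, hp, hs,
    by rw [Category.assoc, ← prod.map_fst a b, reassoc_of% hl, prod.lift_fst],
    by rw [Category.assoc, ← prod.map_snd a b, reassoc_of% hl, prod.lift_snd]⟩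

variable {R U U' T W : Over S} {Q Q' : Sp S} (t s : R ⟶ U) (g : U' ⟶ U)
  (π : (yon S).obj U ⟶ Q) (π' : (yon S).obj U' ⟶ Q') (φ : Q' ⟶ Q)

/-- `T` plays the role of `U' ×_{g,U,t} R`, and `W` the one of the saturation of the image of `g`. -/
theorem exists_isPullback_quot_restrict [Sheaf.IsLocallySurjective π] [Sheaf.IsLocallySurjective π']
    (hφ : π' ≫ φ = (yon S).map g ≫ π) (hts : (yon S).map t ≫ π = (yon S).map s ≫ π)
    (hker : ∀ (V : Over S) (a b : V ⟶ U), (yon S).map a ≫ π = (yon S).map b ≫ π →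
      ∃ (V' : Over S) (c : V' ⟶ V) (r : V' ⟶ R), Flat c.left ∧ LocallyOfFinitePresentation c.left ∧
        Surjective c.left ∧ r ≫ t = c ≫ a ∧ r ≫ s = c ≫ b)
    (hrel : ∀ (V : Over S) (a b : V ⟶ U') (r : V ⟶ R), r ≫ t = a ≫ g → r ≫ s = b ≫ g →
      (yon S).map a ≫ π' = (yon S).map b ≫ π')
    (pU : T ⟶ U') (pR : T ⟶ R) (sq : IsPullback pU pR g t) (i : W ⟶ U) [Mono i.left]
    (k : T ⟶ W) (hk : k ≫ i = pR ≫ s) [Sheaf.IsLocallySurjective ((yon S).map k)] :
    ∃ top : (yon S).obj W ⟶ Q', Mono φ ∧ IsPullback top ((yon S).map i) φ π ∧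
      (yon S).map k ≫ top = (yon S).map pU ≫ π' := by
  haveI : Mono φ := mono_of_yon fun V x y hxy => by
    obtain ⟨V₁, c, l, m, hf, hp, hs, hl, hm⟩ := exists_common_lift π' π' x y
    obtain ⟨a, rfl⟩ := (yon S).map_surjective l
    obtain ⟨b, rfl⟩ := (yon S).map_surjective m
    obtain ⟨V₂, c', r, hf', hp', hs', hrt, hrs⟩ := hker V₁ (a ≫ g) (b ≫ g) (by
      rw [Functor.map_comp, Functor.map_comp, Category.assoc, Category.assoc, ← hφ, reassoc_of% hl,
        reassoc_of% hm, hxy])
    have h := hrel V₂ (c' ≫ a) (c' ≫ b) r (by rw [hrt, Category.assoc]) (by rw [hrs, Category.assoc])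
    rw [Functor.map_comp, Functor.map_comp, Category.assoc, Category.assoc, hl, hm] at h
    haveI := isLocallySurjective_yon_map c' hf' hp' hs'
    haveI := isLocallySurjective_yon_map c hf hp hs
    exact (cancel_epi ((yon S).map c)).1 ((cancel_epi ((yon S).map c')).1 h)
  haveI : Mono i := (Over.forget S).mono_of_mono_map (inferInstanceAs (Mono i.left))
  let P := pullback φ π
  let c₀ : (yon S).obj T ⟶ P := pullback.lift ((yon S).map pU ≫ π') ((yon S).map k ≫ (yon S).map i) (by
    rw [Category.assoc, hφ, ← Functor.map_comp_assoc, sq.w, Functor.map_comp_assoc, hts,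
      ← Functor.map_comp_assoc, ← hk, Functor.map_comp_assoc, Category.assoc])
  haveI : Sheaf.IsLocallySurjective c₀ := isLocallySurjective_of_lifts fun V z => by
    obtain ⟨V₁, c, l, hf, hp, hs, hl⟩ := exists_fppf_lift π' (z ≫ pullback.fst φ π)
    obtain ⟨a, rfl⟩ := (yon S).map_surjective l
    obtain ⟨b, hb⟩ := (yon S).map_surjective ((yon S).map c ≫ z ≫ pullback.snd φ π)
    obtain ⟨V₂, c', r, hf', hp', hs', hrt, hrs⟩ := hker V₁ (a ≫ g) b (by
      rw [hb, Functor.map_comp, Category.assoc, ← hφ, reassoc_of% hl]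
      simp only [Category.assoc, pullback.condition])
    let v := sq.lift (c' ≫ a) r (by rw [hrt, Category.assoc])
    refine ⟨V₂, c' ≫ c, (yon S).map v, ?_, ?_, ?_, ?_⟩
    · rw [Over.comp_left]; infer_instance
    · rw [Over.comp_left]; infer_instance
    · rw [Over.comp_left]; infer_instance
    · apply pullback.hom_ext
      · simp only [c₀, Category.assoc, pullback.lift_fst]
        rw [← Functor.map_comp_assoc, sq.lift_fst, Functor.map_comp_assoc, hl, Functor.map_comp_assoc]
      · simp only [c₀, Category.assoc, pullback.lift_snd]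
        rw [← Functor.map_comp, ← Functor.map_comp, hk, ← Category.assoc, sq.lift_snd, hrs,
          Functor.map_comp, hb, Functor.map_comp_assoc]
  haveI : Mono ((yon S).map i) := inferInstance
  let Z := pullback (pullback.snd φ π) ((yon S).map i)
  let v : (yon S).obj T ⟶ Z := pullback.lift c₀ ((yon S).map k) (pullback.lift_snd _ _ _)
  haveI : Epi (v ≫ pullback.fst (pullback.snd φ π) ((yon S).map i)) := by
    rw [pullback.lift_fst]; infer_instance
  haveI : Epi (v ≫ pullback.snd (pullback.snd φ π) ((yon S).map i)) := by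
    rw [pullback.lift_snd]; infer_instance
  haveI : Epi (pullback.fst (pullback.snd φ π) ((yon S).map i)) := epi_of_epi v _
  haveI : Epi (pullback.snd (pullback.snd φ π) ((yon S).map i)) := epi_of_epi v _
  haveI : IsIso (pullback.fst (pullback.snd φ π) ((yon S).map i)) := isIso_of_mono_of_epi _
  haveI : IsIso (pullback.snd (pullback.snd φ π) ((yon S).map i)) := isIso_of_mono_of_epi _
  let e : P ≅ (yon S).obj W := (asIso (pullback.fst (pullback.snd φ π) ((yon S).map i))).symm ≪≫
    asIso (pullback.snd (pullback.snd φ π) ((yon S).map i))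
  have he : e.hom ≫ (yon S).map i = pullback.snd φ π := by
    simp only [e, Iso.trans_hom, Iso.symm_hom, asIso_inv, asIso_hom, Category.assoc]
    rw [IsIso.inv_comp_eq, ← pullback.condition]
  have sqW : IsPullback (e.inv ≫ pullback.fst φ π) ((yon S).map i) φ π :=
    (IsPullback.of_hasPullback φ π).of_iso e (Iso.refl _) (Iso.refl _) (Iso.refl _)
      (by simp) (by simpa using he.symm) (by simp) (by simp)
  refine ⟨_, inferInstance, sqW, ?_⟩
  rw [← cancel_mono φ, Category.assoc, sqW.w, Category.assoc, hφ, ← Functor.map_comp_assoc, ← Functor.map_comp_assoc,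
    hk, sq.w, Functor.map_comp_assoc, Functor.map_comp_assoc, hts]

/-- A base change of `φ` along a cover is an immersion, hence `φ` is representable. -/
theorem repWith_of_isPullback_immersion {W U : Over S} {Q Q' : Sp S} {φ : Q' ⟶ Q} {π : (yon S).obj U ⟶ Q}
    [Sheaf.IsLocallySurjective π] {top : (yon S).obj W ⟶ Q'} {i : W ⟶ U}
    (sq : IsPullback top ((yon S).map i) φ π) [IsImmersion i.left] {P : MorphismProperty Scheme.{u}}
    [P.IsStableUnderBaseChange] (hP : FppfDescends P) (h : P i.left) : RepWith P φ := by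
  have hrep : Representable φ := representable_of_base_lqf π sq
    ((repWith_yon_map_iff _ _).2 (inferInstanceAs (LocallyQuasiFinite i.left)))
    ((repWith_yon_map_iff _ _).2 (inferInstanceAs (LocallyOfFiniteType i.left)))
    ((repWith_yon_map_iff _ _).2 (inferInstanceAs (IsSeparated i.left)))
  exact repWith_of_base hrep π sq hP ((repWith_yon_map_iff _ _).2 h)

/-- With open saturation, the restricted quotient is an open subspace. -/
theorem repWith_isOpenImmersion_quot_restrict [Sheaf.IsLocallySurjective π] [Sheaf.IsLocallySurjective π']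
    (hφ : π' ≫ φ = (yon S).map g ≫ π) (hts : (yon S).map t ≫ π = (yon S).map s ≫ π)
    (hker : ∀ (V : Over S) (a b : V ⟶ U), (yon S).map a ≫ π = (yon S).map b ≫ π →
      ∃ (V' : Over S) (c : V' ⟶ V) (r : V' ⟶ R), Flat c.left ∧ LocallyOfFinitePresentation c.left ∧
        Surjective c.left ∧ r ≫ t = c ≫ a ∧ r ≫ s = c ≫ b)
    (hrel : ∀ (V : Over S) (a b : V ⟶ U') (r : V ⟶ R), r ≫ t = a ≫ g → r ≫ s = b ≫ g →
      (yon S).map a ≫ π' = (yon S).map b ≫ π')
    (pU : T ⟶ U') (pR : T ⟶ R) (sq : IsPullback pU pR g t) (i : W ⟶ U) [IsOpenImmersion i.left]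
    (k : T ⟶ W) (hk : k ≫ i = pR ≫ s) [Sheaf.IsLocallySurjective ((yon S).map k)] :
    RepWith @IsOpenImmersion φ := by
  obtain ⟨top, -, hsq, -⟩ := exists_isPullback_quot_restrict t s g π π' φ hφ hts hker hrel pU pR sq i k hk
  exact repWith_of_isPullback_immersion hsq fppfDescends_isOpenImmersion inferInstance

end GrothLib.AlgSp
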