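import Groth.Agent.Lib.AlgSp.NormAffine
import Groth.Agent.Lib.AlgSp.SigmaChart
import Groth.Agent.Lib.AlgSp.QuotRestrict
import Groth.Agent.Lib.AlgSp.AffineMor
import Groth.Agent.Lib.AlgSp.EtaleChart
import Groth.Prelude.Def_AlgSpMor5

/-!
# Normalizations stable under etale base change

* `IsGoodAt f ν φ v`: over the etale `v : V ⟶ G` the pair `(ν, φ)` is initial among integral `V`-schemes;
* `existsUnique_of_good`: locally initial pairs are initial among integral spaces;
* `UnivNorm`, `UnivNorm.isRelNormalization`, `UnivNorm.of_isPullback`, `univNorm_of_cover`.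
-/

set_option autoImplicit false
universe u
open CategoryTheory CategoryTheory.Limits AlgebraicGeometry
set_option backward.isDefEq.respectTransparency false

namespace GrothLib.AlgSp

open _root_.AlgSp

variable {S : Scheme.{u}} {F G N : Sp S}

/-- Over `v`, the base change of `(ν, φ)` is initial among integral schemes. -/
def IsGoodAt (f : F ⟶ G) (ν : N ⟶ G) (φ : F ⟶ N) {V : Over S} (v : (yon S).obj V ⟶ G) : Prop :=
  ∀ ⦃P' : Sp S⦄ ⦃M : Over S⦄ ⦃a : P' ⟶ F⦄ ⦃q : P' ⟶ (yon S).obj V⦄ ⦃b : (yon S).obj M ⟶ N⦄ ⦃μ : M ⟶ V⦄,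
    IsPullback a q f v → IsPullback b ((yon S).map μ) ν v →
    ∀ φ' : P' ⟶ (yon S).obj M, φ' ≫ b = a ≫ φ → φ' ≫ (yon S).map μ = q → IsIntInitial q μ φ'

/-- Normalization stable under etale base change to affine schemes. -/
def UnivNorm (f : F ⟶ G) (ν : N ⟶ G) (φ : F ⟶ N) : Prop :=
  φ ≫ ν = f ∧ IsIntegralMor ν ∧
    ∀ {V : Over S}, IsAffine V.left → ∀ (v : (yon S).obj V ⟶ G), RepWith @Etale v → IsGoodAt f ν φ v

/-- A map from a piece of `N` lifts `g`. -/
def LiftsAlong (φ : F ⟶ N) {Z : Sp S} (g : F ⟶ Z) {M : Sp S} (b : M ⟶ N) (k : M ⟶ Z) : Prop :=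
  ∀ {W : Sp S} (x : W ⟶ M) (y : W ⟶ F), x ≫ b = y ≫ φ → x ≫ k = y ≫ g

/-- Over a good piece there is a unique lift. -/
theorem existsUnique_lift_of_good {f : F ⟶ G} {ν : N ⟶ G} {φ : F ⟶ N} (hc : φ ≫ ν = f)
    {V : Over S} {v : (yon S).obj V ⟶ G} (hv : IsGoodAt f ν φ v) {M : Over S} {b : (yon S).obj M ⟶ N}
    {μ : M ⟶ V} (sqN : IsPullback b ((yon S).map μ) ν v) {Z : Sp S} {π : Z ⟶ G} (hπ : IsIntegralMor π)
    {g : F ⟶ Z} (hg : g ≫ π = f) :
    ∃! k : (yon S).obj M ⟶ Z, k ≫ π = b ≫ ν ∧ LiftsAlong φ g b k := by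
  have sqP := IsPullback.of_hasPullback f v
  have hw : (pullback.fst f v ≫ φ) ≫ ν = pullback.snd f v ≫ v := by rw [Category.assoc, hc, sqP.w]
  obtain ⟨φ', h₁, h₂⟩ : ∃ φ' : pullback f v ⟶ (yon S).obj M, φ' ≫ b = pullback.fst f v ≫ φ ∧
      φ' ≫ (yon S).map μ = pullback.snd f v :=
    ⟨sqN.lift _ _ hw, sqN.lift_fst _ _ hw, sqN.lift_snd _ _ hw⟩
  have hi := hv sqP sqN φ' h₁ h₂
  have hr := isIntegralMor_iff.1 hπ
  obtain ⟨T, t, τ, sqT⟩ := exists_isPullback_of_representable hr.1 v
  have hτ : IsIntegralHom τ.left := hr.2 _ _ _ sqT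
  have hgw : (pullback.fst f v ≫ g) ≫ π = pullback.snd f v ≫ v := by rw [Category.assoc, hg, sqP.w]
  obtain ⟨gT, g₁, g₂⟩ : ∃ gT : pullback f v ⟶ (yon S).obj T, gT ≫ t = pullback.fst f v ≫ g ∧
      gT ≫ (yon S).map τ = pullback.snd f v :=
    ⟨sqT.lift _ _ hgw, sqT.lift_fst _ _ hgw, sqT.lift_snd _ _ hgw⟩
  obtain ⟨h, ⟨hh₁, hh₂⟩, hu⟩ := hi τ hτ gT g₂
  refine ⟨(yon S).map h ≫ t, ⟨?_, fun {W} x y e => ?_⟩, ?_⟩
  · rw [Category.assoc, sqT.w, ← Category.assoc, ← Functor.map_comp, hh₂, sqN.w]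
  · have hy : y ≫ f = (x ≫ (yon S).map μ) ≫ v := by
      rw [← hc, ← Category.assoc, ← e, Category.assoc, Category.assoc, sqN.w]
    have hx : x = sqP.lift y (x ≫ (yon S).map μ) hy ≫ φ' := sqN.hom_ext
      (by rw [Category.assoc, h₁, ← Category.assoc, sqP.lift_fst, e])
      (by rw [Category.assoc, h₂, sqP.lift_snd])
    rw [hx, Category.assoc, reassoc_of% hh₁, g₁, ← Category.assoc, sqP.lift_fst]
  · rintro k ⟨hk₁, hk₂⟩
    obtain ⟨h', hh'⟩ := (yon S).map_surjective (sqT.lift k ((yon S).map μ) (hk₁.trans sqN.w))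
    have e₁ : (yon S).map h' ≫ t = k := by rw [hh', sqT.lift_fst]
    obtain rfl : h' = h := hu h' ⟨sqT.hom_ext
      (by rw [Category.assoc, e₁, g₁]; exact hk₂ φ' (pullback.fst f v) h₁)
      (by rw [Category.assoc, hh', sqT.lift_snd, h₂, g₂]), (yon S).map_injective (by
        rw [Functor.map_comp, hh', sqT.lift_snd])⟩
    exact e₁.symm

/-- Locally initial pairs are initial among integral spaces. -/
theorem existsUnique_of_good (hG : IsAlgSpace G) {f : F ⟶ G} {ν : N ⟶ G} {φ : F ⟶ N} (hc : φ ≫ ν = f)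
    (hν : IsIntegralMor ν) {ι : Type u} (V : ι → Over S) (r : ∀ i, (yon S).obj (V i) ⟶ G)
    (hr : ∀ i, RepWith @Etale (r i)) (hcov : ∀ x : Points G, ∃ i v, Points.ofPt (r i) v = x)
    (hgood : ∀ (i : ι) (T : Over S) (t : T ⟶ V i), IsAffine T.left → Etale t.left →
      IsGoodAt f ν φ ((yon S).map t ≫ r i))
    (hVa : ∀ i, IsAffine (V i).left) {Z : Sp S} (π : Z ⟶ G) (g : F ⟶ Z) (hπ : IsIntegralMor π) (hg : g ≫ π = f) :
    ∃! h : N ⟶ Z, φ ≫ h = g ∧ h ≫ π = ν := by
  have hνr := isIntegralMor_iff.1 hν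
  have hN : IsAlgSpace N := isAlgSpace_of_representable hG hνr.1
  choose M b μ sq using fun i => exists_isPullback_of_representable hνr.1 (r i)
  have hgood' : ∀ i, IsGoodAt f ν φ (r i) := fun i => by
    have := hgood i (V i) (𝟙 _) (hVa i) (by rw [Over.id_left]; infer_instance)
    rwa [CategoryTheory.Functor.map_id, Category.id_comp] at this
  choose k hk hku using fun i => existsUnique_lift_of_good hc (hgood' i) (sq i) hπ hg
  obtain ⟨c, hc', -⟩ := exists_hom_of_sigma M b
  have hbe : ∀ i, RepWith @Etale (b i) := fun i => repWith_of_isPullback (sq i).flip (hr i)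
  have ce : RepWith @Etale c := repWith_sigma hN.diag M b c hc' @Etale hbe
  have cs : RepWith @Surjective c := repWith_surjective_of_ofPt ce.1 fun x => by
    obtain ⟨i, v, hv⟩ := hcov (Points.map ν x)
    rw [Points.ofPt_eq_map_ofScheme] at hv
    obtain ⟨p, hp, -⟩ := exists_of_isPullback (sq i) hv.symm
    obtain ⟨m, rfl⟩ := (Points.schemeEquiv (M i)).surjective p
    refine ⟨(sigmaι M i).left m, ?_⟩
    rw [← ofPt_map_comp, hc', Points.ofPt_eq_map_ofScheme]
    exact hp
  haveI := chart_isLocallySurjective ce cs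
  haveI hce : Epi c := (Sheaf.isLocallySurjective_iff_epi _).1 inferInstance
  obtain ⟨K, hK, -⟩ := exists_hom_of_sigma M k
  -- agreement on the fibre product of two pieces
  have pairEq : ∀ (i j : ι) {W : Over S} (x : W ⟶ M i) (y : W ⟶ M j),
      (yon S).map x ≫ b i = (yon S).map y ≫ b j → (yon S).map x ≫ k i = (yon S).map y ≫ k j := by
    intro i j W x y e
    obtain ⟨Q, q₁, q₂, sqQ⟩ := exists_isPullback_yon hG.diag (r i) (r j)
    have hq₁ : Etale q₁.left := (repWith_yon_map_iff _ _).1 (repWith_of_isPullback sqQ.flip (hr j))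
    let qv : (yon S).obj Q ⟶ G := (yon S).map q₁ ≫ r i
    obtain ⟨MQ, bQ, μQ, sqM⟩ := exists_isPullback_of_representable hνr.1 qv
    have w₁ : bQ ≫ ν = (yon S).map (μQ ≫ q₁) ≫ r i := by rw [sqM.w, Functor.map_comp, Category.assoc]
    have w₂ : bQ ≫ ν = (yon S).map (μQ ≫ q₂) ≫ r j := by
      rw [sqM.w, Functor.map_comp, Category.assoc, ← sqQ.w]
    obtain ⟨πi, hπi⟩ := (yon S).map_surjective ((sq i).lift _ _ w₁)
    obtain ⟨πj, hπj⟩ := (yon S).map_surjective ((sq j).lift _ _ w₂)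
    have hqe : (yon S).map (x ≫ μ i) ≫ r i = (yon S).map (y ≫ μ j) ≫ r j := by
      rw [Functor.map_comp, Functor.map_comp, Category.assoc, Category.assoc, ← (sq i).w, ← (sq j).w,
        reassoc_of% e]
    obtain ⟨z, hz⟩ := (yon S).map_surjective (sqM.lift ((yon S).map x ≫ b i) (sqQ.lift _ _ hqe) (by
      rw [Category.assoc, (sq i).w, ← Category.assoc ((yon S).map x), ← Functor.map_comp, sqQ.lift_fst_assoc]))
    have hx : z ≫ πi = x := (yon S).map_injective ((sq i).hom_ext
      (by rw [Functor.map_comp, hπi, Category.assoc, (sq i).lift_fst, hz, sqM.lift_fst])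
      (by rw [Functor.map_comp, hπi, Category.assoc, (sq i).lift_snd, Functor.map_comp, hz, sqM.lift_snd_assoc,
            sqQ.lift_fst, Functor.map_comp]))
    have hy : z ≫ πj = y := (yon S).map_injective ((sq j).hom_ext
      (by rw [Functor.map_comp, hπj, Category.assoc, (sq j).lift_fst, hz, sqM.lift_fst, e])
      (by rw [Functor.map_comp, hπj, Category.assoc, (sq j).lift_snd, Functor.map_comp, hz, sqM.lift_snd_assoc,
            sqQ.lift_snd, Functor.map_comp]))
    suffices h : (yon S).map πi ≫ k i = (yon S).map πj ≫ k j by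
      rw [← hx, ← hy, Functor.map_comp, Functor.map_comp, Category.assoc, Category.assoc, h]
    -- cover by affine opens of `Q`
    let T : Q.left.affineCover.I₀ → Over S := fun l => Over.mk (Q.left.affineCover.f l ≫ Q.hom)
    let tl : ∀ l, T l ⟶ Q := fun l => Over.homMk (Q.left.affineCover.f l) rfl
    choose MT eT μT sqT using fun l => exists_isPullback_of_representable
      ((repWith_yon_map_iff _ μQ).2 (hνr.2 _ _ _ sqM)).1 ((yon S).map (tl l))
    choose eT' heT' using fun l => (yon S).map_surjective (eT l)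
    have heTo : ∀ l, IsOpenImmersion (eT' l).left := fun l => (repWith_yon_map_iff _ _).1 (by
      rw [heT' l]
      exact repWith_of_isPullback (sqT l).flip ((repWith_yon_map_iff _ (tl l)).2
        (inferInstanceAs (IsOpenImmersion (Q.left.affineCover.f l)))))
    have hcovT : ∀ m : ↥MQ.left, ∃ l y, (eT' l).left y = m := fun m => by
      obtain ⟨l, t, ht⟩ := Q.left.affineCover.exists_eq (μQ.left m)
      obtain ⟨p, hp, -⟩ := exists_of_isPullback (sqT l) (x := Points.schemeHomeo _ m)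
        (y := Points.schemeHomeo _ t) (by
          rw [Points.map_yon_map_apply, Points.map_yon_map_apply]
          exact congrArg _ ht.symm)
      obtain ⟨m', rfl⟩ := (Points.schemeHomeo (MT l)).surjective p
      rw [← heT' l, Points.map_yon_map_apply] at hp
      exact ⟨l, m', (Points.schemeHomeo MQ).injective hp⟩
    obtain ⟨L, -, hLu⟩ := exists_hom_of_openCover MT eT' heTo hcovT
      (fun l => (yon S).map (eT' l) ≫ (yon S).map πi ≫ k i) (fun l l' W gl gl' hgl => by
        rw [← Category.assoc, ← Category.assoc ((yon S).map gl'), ← Functor.map_comp, ← Functor.map_comp, hgl])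
    refine (hLu _ fun l => rfl).trans (hLu _ fun l => ?_).symm
    have sqTG : IsPullback (eT l ≫ bQ) ((yon S).map (μT l)) ν ((yon S).map (tl l ≫ q₁) ≫ r i) := by
      rw [Functor.map_comp, Category.assoc]
      exact (sqT l).paste_horiz sqM
    have hTg : IsGoodAt f ν φ ((yon S).map (tl l ≫ q₁) ≫ r i) :=
      hgood i (T l) (tl l ≫ q₁) (inferInstanceAs (IsAffine (Q.left.affineCover.X l)))
        (inferInstanceAs (Etale (Q.left.affineCover.f l ≫ q₁.left)))
    obtain ⟨kT, -, hkT⟩ := existsUnique_lift_of_good hc hTg sqTG hπ hg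
    refine (hkT _ ⟨?_, fun {W} x y e => ?_⟩).trans (hkT _ ⟨?_, fun {W} x y e => ?_⟩).symm
    · rw [Category.assoc, Category.assoc, (hk j).1, ← Category.assoc ((yon S).map πj), hπj, (sq j).lift_fst,
        heT' l, Category.assoc]
    · rw [← Category.assoc, ← Category.assoc]
      refine (hk j).2 _ y ?_
      rw [Category.assoc, hπj, (sq j).lift_fst, Category.assoc, heT' l, e]
    · rw [Category.assoc, Category.assoc, (hk i).1, ← Category.assoc ((yon S).map πi), hπi, (sq i).lift_fst,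
        heT' l, Category.assoc]
    · rw [← Category.assoc, ← Category.assoc]
      refine (hk i).2 _ y ?_
      rw [Category.assoc, hπi, (sq i).lift_fst, Category.assoc, heT' l, e]
  -- descent
  obtain ⟨R, d₁, d₂, sqR⟩ := exists_isPullback_yon hN.diag c c
  have hKd : (yon S).map d₁ ≫ K = (yon S).map d₂ ≫ K := by
    haveI hoi : ∀ i, IsOpenImmersion (sigmaι M i).left := fun i =>
      inferInstanceAs (IsOpenImmersion (Sigma.ι (fun i => (M i).left) i))
    let O : ι × ι → R.left.Opens := fun p =>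
      d₁.left ⁻¹ᵁ (sigmaι M p.1).left.opensRange ⊓ d₂.left ⁻¹ᵁ (sigmaι M p.2).left.opensRange
    let RW : ι × ι → Over S := fun p => Over.mk ((O p).ι ≫ R.hom)
    let rw' : ∀ p, RW p ⟶ R := fun p => Over.homMk (O p).ι rfl
    have hcovR : ∀ m : ↥R.left, ∃ p y, (rw' p).left y = m := fun m => by
      obtain ⟨i, u, hu⟩ := (sigmaOpenCover fun i => (M i).left).exists_eq (d₁.left m)
      obtain ⟨j, u', hu'⟩ := (sigmaOpenCover fun i => (M i).left).exists_eq (d₂.left m)
      exact ⟨(i, j), ⟨m, ⟨⟨u, hu⟩, ⟨u', hu'⟩⟩⟩, rfl⟩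
    obtain ⟨L, -, hLu⟩ := exists_hom_of_openCover RW rw'
      (fun p => inferInstanceAs (IsOpenImmersion (O p).ι)) hcovR (fun p => (yon S).map (rw' p) ≫ (yon S).map d₁ ≫ K)
      (fun p p' W gl gl' hgl => by
        rw [← Category.assoc, ← Category.assoc ((yon S).map gl'), ← Functor.map_comp, ← Functor.map_comp, hgl])
    refine (hLu _ fun p => rfl).trans (hLu _ fun p => ?_).symm
    obtain ⟨i, j⟩ := p
    have hl : ∀ (i' : ι) (d : R ⟶ sigmaOver M),
        Set.range (rw' (i, j) ≫ d).left ⊆ Set.range (sigmaι M i').left →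
        ∃ x : RW (i, j) ⟶ M i', x ≫ sigmaι M i' = rw' (i, j) ≫ d := fun i' d h => by
      refine ⟨Over.homMk (IsOpenImmersion.lift (sigmaι M i').left (rw' (i, j) ≫ d).left h) ?_,
        Over.OverMorphism.ext (IsOpenImmersion.lift_fac _ _ _)⟩
      rw [← Over.w (sigmaι M i'), IsOpenImmersion.lift_fac_assoc, Over.w]
    obtain ⟨x, hx⟩ := hl i d₁ (by rintro _ ⟨m, rfl⟩; exact m.2.1)
    obtain ⟨y, hy⟩ := hl j d₂ (by rintro _ ⟨m, rfl⟩; exact m.2.2)
    rw [← Functor.map_comp_assoc, ← Functor.map_comp_assoc, ← hx, ← hy, Functor.map_comp, Functor.map_comp,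
      Category.assoc, Category.assoc, hK, hK]
    refine (pairEq i j x y ?_).symm
    rw [← hc', ← hc', ← Functor.map_comp_assoc, ← Functor.map_comp_assoc, hx, hy, Functor.map_comp,
      Functor.map_comp, Category.assoc, Category.assoc, sqR.w]
  have := IsRegularEpiCategory.regularEpiOfEpi (C := Sp S) c
  obtain ⟨h, hh⟩ := IsRegularEpi.exists_of_isKernelPair c sqR K hKd
  refine ⟨h, ⟨?_, ?_⟩, ?_⟩
  · -- lifts `g`
    refine GrothLib.AlgSp.hom_ext fun T y => ?_
    haveI := chart_isLocallySurjective ce cs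
    obtain ⟨T', cc, l, hf, hp, hs, hl⟩ := exists_fppf_lift c (y ≫ φ)
    haveI := isLocallySurjective_yon_map cc hf hp hs
    haveI : Epi ((yon S).map cc) := (Sheaf.isLocallySurjective_iff_epi _).1 inferInstance
    obtain ⟨l, rfl⟩ := (yon S).map_surjective l
    haveI hoi : ∀ i, IsOpenImmersion (sigmaι M i).left := fun i =>
      inferInstanceAs (IsOpenImmersion (Sigma.ι (fun i => (M i).left) i))
    let O : ι → T'.left.Opens := fun i => l.left ⁻¹ᵁ (sigmaι M i).left.opensRange
    let TW : ι → Over S := fun i => Over.mk ((O i).ι ≫ T'.hom)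
    let tw : ∀ i, TW i ⟶ T' := fun i => Over.homMk (O i).ι rfl
    have hcovT : ∀ m : ↥T'.left, ∃ i y, (tw i).left y = m := fun m => by
      obtain ⟨i, u, hu⟩ := (sigmaOpenCover fun i => (M i).left).exists_eq (l.left m)
      exact ⟨i, ⟨m, ⟨u, hu⟩⟩, rfl⟩
    obtain ⟨L, -, hLu⟩ := exists_hom_of_openCover TW tw (fun i => inferInstanceAs (IsOpenImmersion (O i).ι)) hcovT
      (fun i => (yon S).map (tw i) ≫ (yon S).map cc ≫ y ≫ g)
      (fun i i' W gl gl' hgl => by
        rw [← Category.assoc, ← Category.assoc ((yon S).map gl'), ← Functor.map_comp, ← Functor.map_comp, hgl])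
    rw [← cancel_epi ((yon S).map cc)]
    refine (hLu _ fun i => ?_).trans (hLu _ fun i => rfl).symm
    have hrange : Set.range (tw i ≫ l).left ⊆ Set.range (sigmaι M i).left := by rintro _ ⟨m, rfl⟩; exact m.2
    let x : TW i ⟶ M i := Over.homMk (IsOpenImmersion.lift (sigmaι M i).left (tw i ≫ l).left hrange) (by
      rw [← Over.w (sigmaι M i), IsOpenImmersion.lift_fac_assoc, Over.w])
    have hx : x ≫ sigmaι M i = tw i ≫ l := Over.OverMorphism.ext (IsOpenImmersion.lift_fac _ _ _)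
    have hxb : (yon S).map x ≫ b i = ((yon S).map (tw i) ≫ (yon S).map cc ≫ y) ≫ φ := by
      rw [← hc', ← Functor.map_comp_assoc, hx, Functor.map_comp, Category.assoc, hl, Category.assoc, Category.assoc]
    have hxk := (hk i).2 ((yon S).map x) ((yon S).map (tw i) ≫ (yon S).map cc ≫ y) hxb
    rw [Category.assoc, Category.assoc] at hxk
    rw [← hxk, ← reassoc_of% hl, hh, ← Functor.map_comp_assoc, ← hx, Functor.map_comp, Category.assoc, hK]
  · rw [← cancel_epi c, ← Category.assoc, hh]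
    refine (exists_hom_of_sigma M fun i => b i ≫ ν).unique (fun i => ?_) (fun i => ?_)
    · rw [← Category.assoc, hK, (hk i).1]
    · rw [← Category.assoc, hc']
  · rintro h' ⟨h₁, h₂⟩
    rw [← cancel_epi c, hh]
    refine (exists_hom_of_sigma M k).unique (fun i => ?_) hK
    rw [← Category.assoc, hc']
    refine hku i _ ⟨by rw [Category.assoc, h₂], fun {W} x y e => ?_⟩
    rw [← Category.assoc, e, Category.assoc, h₁]

end GrothLib.AlgSp
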