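import Mathlib.CategoryTheory.Sites.Subsheaf
import Groth.Agent.Lib.AlgSp.OverMapSpace

/-!
# Algebraic spaces over `S` are algebraic spaces over `S'` with a map to `S`
-/

set_option backward.isDefEq.respectTransparency false

universe u

open CategoryTheory CategoryTheory.Limits AlgebraicGeometry Opposite

namespace GrothLib.AlgSp

open _root_.AlgSp

variable {S S' : Scheme.{u}} (g : S ⟶ S')

theorem jMap_injective {F G : Sp S} {f f' : F ⟶ G} (e : jMap g f = jMap g f') : f = f' :=
  hom_ext fun T p => by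
    apply jMk_injective g (φ := tautLift g T)
    have := congrArg (fun m => jMk g (tautLift g T) p ≫ m) e
    simp only [jMk_jMap] at this
    exact this

section Full

variable {g} {F G : Sp S} (h : jSh g F ⟶ jSh g G) (w : h ≫ jStr g G = jStr g F)

include w in
theorem fst_eq_of_over (T' : Over S') (s : (jPre g F).obj (op T')) : (h.hom.app (op T') s).1 = s.1 := by
  have := ConcreteCategory.congr_hom (congrArg (fun m : jSh g F ⟶ _ => m.hom.app (op T')) w) s
  exact congrArg ULift.down this

/-- The value of `h` on the tautological pair of a section. -/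
def retPair (T : Over S) (x : F.obj.obj (op T)) : (jPre g G).obj (op ((Over.map g).obj T)) :=
  h.hom.app _ ((jUnit g F).hom.app (op T) x)

include w in
theorem retPair_fst (T : Over S) (x : F.obj.obj (op T)) : 𝟙 _ ≫ (retPair h T x).1.left = T.hom := by
  rw [retPair, fst_eq_of_over h w]
  exact Category.id_comp _

theorem retPair_map {T₁ T₂ : Over S} (m : T₂ ⟶ T₁) (x : F.obj.obj (op T₁)) :
    retPair h T₂ (F.obj.map m.op x) = (jPre g G).map ((Over.map g).map m).op (retPair h T₁ x) := by
  have e : (jUnit g F).hom.app (op T₂) (F.obj.map m.op x) =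
      (jPre g F).map ((Over.map g).map m).op ((jUnit g F).hom.app (op T₁) x) :=
    NatTrans.naturality_apply (jUnit g F).hom m.op x
  refine (congrArg (h.hom.app (op ((Over.map g).obj T₂))) e).trans ?_
  exact NatTrans.naturality_apply h.hom ((Over.map g).map m).op ((jUnit g F).hom.app (op T₁) x)

theorem jPull_congr₂ {H : Sp S} {T' : Over S'} {s t : (jPre g H).obj (op T')} (e₀ : s = t) (W : Over S)
    (k : W.left ⟶ T'.left) (e : k ≫ s.1.left = W.hom) : jPull s W k e = jPull t W k (by rw [← e₀]; exact e) := by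
  subst e₀; rfl

include w in
theorem retPull_map {T₁ T₂ : Over S} (m : T₂ ⟶ T₁) (x : F.obj.obj (op T₁)) :
    jPull (retPair h T₂ (F.obj.map m.op x)) T₂ (𝟙 _) (retPair_fst h w T₂ _) =
      G.obj.map m.op (jPull (retPair h T₁ x) T₁ (𝟙 _) (retPair_fst h w T₁ x)) := by
  rw [map_jPull, jPull_congr₂ (retPair_map h m x), jPull_map]
  exact jPull_congr rfl _ _ _ (by simp) _ _

/-- The retraction of `h`. -/
def jRet : F ⟶ G :=
  ObjectProperty.homMk
    { app := fun T => ↾fun x => jPull (retPair h T.unop x) T.unop (𝟙 _) (retPair_fst h w T.unop x)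
      naturality := fun T₁ T₂ m => by
        apply ConcreteCategory.hom_ext
        intro x
        exact retPull_map h w m.unop x }

theorem mk_eq_map_jUnit {T' : Over S'} (φ : T' ⟶ Over.mk g) (x : F.obj.obj (op (liftObj g φ))) :
    (⟨φ, x⟩ : (jPre g F).obj (op T')) =
      (jPre g F).map (mapObjIso φ).inv.op ((jUnit g F).hom.app (op (liftObj g φ)) x) := by
  refine jPre_ext (Over.OverMorphism.ext (Category.id_comp _).symm) fun W k e e' => ?_
  rw [jPull_map]
  change F.obj.map _ x = F.obj.map _ (F.obj.map _ x)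
  rw [← Functor.map_comp_apply, ← op_comp]
  congr 3

theorem jMap_jRet : jMap g (jRet h w) = h := by
  apply ObjectProperty.hom_ext
  apply NatTrans.ext
  funext T'
  apply ConcreteCategory.hom_ext
  rintro ⟨φ, x⟩
  refine jPre_ext (T' := T'.unop) (fst_eq_of_over h w T'.unop ⟨φ, x⟩).symm fun W k e e' => ?_
  have c : h.hom.app T' (⟨φ, x⟩ : (jPre g F).obj T') =
      (jPre g G).map (mapObjIso φ).inv.op (retPair h (liftObj g φ) x) :=
    (congrArg _ (mk_eq_map_jUnit φ x)).trans (NatTrans.naturality_apply h.hom _ _)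
  refine Eq.trans ?_ (jPull_congr₂ c W k e').symm
  rw [jPull_map]
  change G.obj.map _ (jPull (retPair h (liftObj g φ) x) _ _ (retPair_fst h w _ x)) = _
  refine (map_jPull (retPair h (liftObj g φ) x) (Over.homMk k e : W ⟶ liftObj g φ) (𝟙 _) (retPair_fst h w _ x)).trans ?_
  exact jPull_congr rfl _ _ _ (by simp) _ _

end Full

theorem exists_jMap_eq {F G : Sp S} (h : jSh g F ⟶ jSh g G) (w : h ≫ jStr g G = jStr g F) :
    ∃ f : F ⟶ G, jMap g f = h :=
  ⟨jRet h w, jMap_jRet h w⟩

variable {g}

/-- The sheaf over `S` of a sheaf over `h_S`. -/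
def fibreSub {F' : Sp S'} (π : F' ⟶ (yon S').obj (Over.mk g)) :
    Subfunctor ((Scheme.fppfTopology.overMapPullback (Type (u + 1)) g).obj F').obj where
  obj T := {y | π.hom.app (op ((Over.map g).obj T.unop)) y = ULift.up (tautLift g T.unop)}
  map {T T'} m y hy := by
    refine (NatTrans.naturality_apply π.hom ((Over.map g).map m.unop).op y).trans ?_
    rw [hy]
    exact congrArg ULift.up (Over.OverMorphism.ext (Over.w m.unop))

theorem isSheaf_fibreSub {F' : Sp S'} (π : F' ⟶ (yon S').obj (Over.mk g)) :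
    Presheaf.IsSheaf (J S) (fibreSub π).toFunctor := by
  rw [isSheaf_iff_isSheaf_of_type, Subfunctor.isSheaf_iff _ ((isSheaf_iff_isSheaf_of_type _ _).1
    ((Scheme.fppfTopology.overMapPullback (Type (u + 1)) g).obj F').property)]
  intro U s hs
  change π.hom.app _ s = ULift.up (tautLift g U.unop)
  refine (((isSheaf_iff_isSheaf_of_type _ _).1
    ((Scheme.fppfTopology.overMapPullback (Type (u + 1)) g).obj ((yon S').obj (Over.mk g))).property) _ hs).isSeparatedFor.ext
    fun V m hm => ?_
  refine (NatTrans.naturality_apply π.hom ((Over.map g).map m).op s).symm.trans ?_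
  refine Eq.trans hm ?_
  exact congrArg ULift.up (Over.OverMorphism.ext (Over.w m).symm)

/-- The sheaf over `S` of a sheaf over `h_S`. -/
def fibreSh {F' : Sp S'} (π : F' ⟶ (yon S').obj (Over.mk g)) : Sp S :=
  ⟨(fibreSub π).toFunctor, isSheaf_fibreSub π⟩

/-- The comparison map. -/
def fibreMap {F' : Sp S'} (π : F' ⟶ (yon S').obj (Over.mk g)) : jSh g (fibreSh π) ⟶ F' :=
  jMap g (ObjectProperty.homMk (fibreSub π).ι) ≫ jCounit g F'

theorem fibreMap_app {F' : Sp S'} (π : F' ⟶ (yon S').obj (Over.mk g)) (T' : Over S') (φ : T' ⟶ Over.mk g)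
    (x : (fibreSh π).obj.obj (op (liftObj g φ))) :
    (fibreMap π).hom.app (op T') (⟨φ, x⟩ : (jPre g (fibreSh π)).obj (op T')) =
      F'.obj.map (mapObjIso φ).inv.op x.1 := rfl

theorem fibreMap_fst {F' : Sp S'} (π : F' ⟶ (yon S').obj (Over.mk g)) (T' : Over S') (φ : T' ⟶ Over.mk g)
    (x : (fibreSh π).obj.obj (op (liftObj g φ))) :
    π.hom.app (op T') (F'.obj.map (mapObjIso φ).inv.op x.1) = ULift.up φ := by
  refine (NatTrans.naturality_apply π.hom (mapObjIso φ).inv.op x.1).trans ?_
  refine (congrArg _ x.2).trans ?_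
  exact congrArg ULift.up (Over.OverMorphism.ext (Category.id_comp _))

theorem fibreMap_comp {F' : Sp S'} (π : F' ⟶ (yon S').obj (Over.mk g)) : fibreMap π ≫ π = jStr g _ := by
  apply ObjectProperty.hom_ext
  apply NatTrans.ext
  funext T'
  apply ConcreteCategory.hom_ext
  rintro ⟨φ, x⟩
  exact (congrArg (π.hom.app T') (fibreMap_app π T'.unop φ x)).trans (fibreMap_fst π T'.unop φ x)

theorem bijective_fibreMap {F' : Sp S'} (π : F' ⟶ (yon S').obj (Over.mk g)) (T' : Over S') :
    Function.Bijective ((fibreMap π).hom.app (op T')) := by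
  have hinv : ∀ (φ : T' ⟶ Over.mk g) (z : F'.obj.obj (op ((Over.map g).obj (liftObj g φ)))),
      F'.obj.map (mapObjIso φ).hom.op (F'.obj.map (mapObjIso φ).inv.op z) = z := fun φ z => by
    rw [← Functor.map_comp_apply, ← op_comp, Iso.hom_inv_id, op_id, F'.obj.map_id]
    rfl
  have hinv' : ∀ (φ : T' ⟶ Over.mk g) (z : F'.obj.obj (op T')),
      F'.obj.map (mapObjIso φ).inv.op (F'.obj.map (mapObjIso φ).hom.op z) = z := fun φ z => by
    rw [← Functor.map_comp_apply, ← op_comp, Iso.inv_hom_id, op_id, F'.obj.map_id]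
    rfl
  refine ⟨?_, fun b => ?_⟩
  · rintro ⟨φ, x⟩ ⟨ψ, y⟩ hst
    have hst' : F'.obj.map (mapObjIso φ).inv.op x.1 = F'.obj.map (mapObjIso ψ).inv.op y.1 :=
      ((fibreMap_app π T' φ x).symm.trans hst).trans (fibreMap_app π T' ψ y)
    obtain rfl : φ = ψ := congrArg ULift.down
      (((fibreMap_fst π T' φ x).symm.trans (congrArg _ hst')).trans (fibreMap_fst π T' ψ y))
    have hxy : x = y := Subtype.ext
      (((hinv φ x.1).symm.trans (congrArg _ hst')).trans (hinv φ y.1))
    rw [hxy]
  · let φ : T' ⟶ Over.mk g := (π.hom.app (op T') b).down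
    refine ⟨⟨φ, ⟨F'.obj.map (mapObjIso φ).hom.op b, ?_⟩⟩, (fibreMap_app π T' φ _).trans (hinv' φ b)⟩
    refine (NatTrans.naturality_apply π.hom _ b).trans ?_
    exact congrArg ULift.up (Over.OverMorphism.ext (Category.id_comp _))

theorem isIso_fibreMap {F' : Sp S'} (π : F' ⟶ (yon S').obj (Over.mk g)) : IsIso (fibreMap π) := by
  have : IsIso (fibreMap π).hom := by
    rw [NatTrans.isIso_iff_isIso_app]
    intro T'
    rw [isIso_iff_bijective]
    exact bijective_fibreMap π T'.unop
  have : IsIso ((sheafToPresheaf _ _).map (fibreMap π)) := this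
  exact isIso_of_reflects_iso _ (sheafToPresheaf _ _)

variable (g)

/-- Algebraic spaces over `S` as algebraic spaces over `S'` with a map to `h_S`. -/
noncomputable def overSpace : Space S ⥤ Over ((ofScheme S').obj (Over.mk g)) where
  obj F := Over.mk (Y := (⟨jSh g F.obj, (isAlgSpace_jSh_iff g).2 F.property⟩ : Space S'))
    (ObjectProperty.homMk (jStr g F.obj))
  map f := Over.homMk (ObjectProperty.homMk (jMap g f.hom)) rfl

instance : (overSpace g).Faithful where
  map_injective {F G} f f' e := ObjectProperty.hom_ext _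
    (jMap_injective g (congrArg (fun m => m.left.hom) e))

instance : (overSpace g).Full where
  map_surjective {F G} h := by
    obtain ⟨f, hf⟩ := exists_jMap_eq g h.left.hom (congrArg InducedCategory.Hom.hom (Over.w h))
    exact ⟨ObjectProperty.homMk f, Over.OverMorphism.ext (ObjectProperty.hom_ext _ hf)⟩

instance : (overSpace g).EssSurj where
  mem_essImage X := by
    have := isIso_fibreMap X.hom.hom
    have h : IsAlgSpace (fibreSh X.hom.hom) :=
      (isAlgSpace_jSh_iff g).1 (isAlgSpace_of_iso (asIso (fibreMap X.hom.hom)) X.left.property)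
    exact ⟨⟨_, h⟩, ⟨Over.isoMk (ObjectProperty.isoMk _ (asIso (fibreMap X.hom.hom)))
      (ObjectProperty.hom_ext _ (fibreMap_comp X.hom.hom))⟩⟩

instance : (overSpace g).IsEquivalence where

end GrothLib.AlgSp
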