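import Groth.Agent.Lib.AlgSp.OverMapEquiv
import Groth.Prelude.Def_AlgSp4

/-!
# Extension along a base morphism: fibre products, representability, quasi-separatedness
-/

set_option backward.isDefEq.respectTransparency false

universe u

open CategoryTheory CategoryTheory.Limits AlgebraicGeometry Opposite

namespace GrothLib.AlgSp

open _root_.AlgSp

variable {S S' : Scheme.{u}} (g : S ⟶ S') {F G H P : Sp S}

theorem jMap_jStr (f : F ⟶ G) : jMap g f ≫ jStr g G = jStr g F := rfl

/-- Extension preserves fibre products. -/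
theorem isPullback_jMap_of_isPullback {fst : P ⟶ F} {snd : P ⟶ G} {f : F ⟶ H} {h : G ⟶ H}
    (sq : IsPullback fst snd f h) : IsPullback (jMap g fst) (jMap g snd) (jMap g f) (jMap g h) := by
  refine isPullback_of_yon (congrArg (jMap g) sq.w) fun T a b hab => ?_
  obtain ⟨φ, x, rfl⟩ := jMk_surjective g a
  obtain ⟨ψ, y, rfl⟩ := jMk_surjective g b
  obtain rfl := jMk_fst_eq g hab
  rw [jMk_jMap, jMk_jMap] at hab
  have hxy := jMk_injective g hab
  refine ⟨jMk g φ (sq.lift x y hxy), ⟨by rw [jMk_jMap, sq.lift_fst], by rw [jMk_jMap, sq.lift_snd]⟩, fun c hc => ?_⟩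
  obtain ⟨χ, z, rfl⟩ := jMk_surjective g c
  obtain rfl : χ = φ := by
    have := congrArg (· ≫ jStr g F) hc.1
    simp only [Category.assoc, jMap_jStr, jMk_jStr] at this
    exact (yon S').map_injective this
  rw [jMk_jMap, jMk_jMap] at hc
  congr 1
  apply sq.hom_ext
  · rw [sq.lift_fst]; exact jMk_injective g hc.1
  · rw [sq.lift_snd]; exact jMk_injective g hc.2

/-- Extension turns products into fibre products over `h_S`. -/
theorem isPullback_jMap_prod :
    IsPullback (jMap g (prod.fst : F ⨯ G ⟶ F)) (jMap g (prod.snd : F ⨯ G ⟶ G)) (jStr g F) (jStr g G) := by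
  refine isPullback_of_yon ((jMap_jStr g _).trans (jMap_jStr g _).symm) fun T a b hab => ?_
  obtain ⟨φ, x, rfl⟩ := jMk_surjective g a
  obtain ⟨ψ, y, rfl⟩ := jMk_surjective g b
  rw [jMk_jStr, jMk_jStr] at hab
  obtain rfl := (yon S').map_injective hab
  refine ⟨jMk g φ (prod.lift x y), ⟨by rw [jMk_jMap, prod.lift_fst], by rw [jMk_jMap, prod.lift_snd]⟩, fun c hc => ?_⟩
  obtain ⟨χ, z, rfl⟩ := jMk_surjective g c
  obtain rfl : χ = φ := by
    have := congrArg (· ≫ jStr g F) hc.1
    simp only [Category.assoc, jMap_jStr, jMk_jStr] at this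
    exact (yon S').map_injective this
  rw [jMk_jMap, jMk_jMap] at hc
  congr 1
  apply Limits.prod.hom_ext
  · rw [prod.lift_fst]; exact jMk_injective g hc.1
  · rw [prod.lift_snd]; exact jMk_injective g hc.2

/-- A sheaf with quasi-separated structure map to `h_S` restricts to a quasi-separated sheaf. -/
theorem isQuasiSeparatedSp_of_jStr (h : IsQuasiSeparatedMor (jStr g F)) : IsQuasiSeparatedSp F := by
  refine (repWith_jMap_iff g (Limits.diag F)).1 ?_
  let e := (isPullback_jMap_prod g (F := F) (G := F)).isoPullback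
  have he : jMap g (Limits.diag F) ≫ e.hom = pullback.diagonal (jStr g F) := by
    apply pullback.hom_ext
    · rw [Category.assoc, IsPullback.isoPullback_hom_fst, pullback.diagonal_fst]
      exact congrArg (jMap g) (prod.lift_fst (𝟙 F) (𝟙 F))
    · rw [Category.assoc, IsPullback.isoPullback_hom_snd, pullback.diagonal_snd]
      exact congrArg (jMap g) (prod.lift_snd (𝟙 F) (𝟙 F))
  have : jMap g (Limits.diag F) = pullback.diagonal (jStr g F) ≫ e.inv := by
    rw [← he, Category.assoc, Iso.hom_inv_id, Category.comp_id]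
  rw [this]
  exact repWith_comp h (repWith_iso _)

theorem isRepresentable_jSh (h : F.obj.IsRepresentable) : (jSh g F).obj.IsRepresentable := by
  obtain ⟨M, ⟨r⟩⟩ := h.has_representation
  let e := isoOfRepresentableBy r
  haveI := isIso_jMk_id g M
  exact (AlgSp.representableByOfIso (asIso (jMk g (tautLift g M) (𝟙 ((yon S).obj M))) ≪≫
    (jFunctor g).mapIso e)).isRepresentable

theorem isRepresentable_of_jSh (h : (jSh g F).obj.IsRepresentable) : F.obj.IsRepresentable := by
  obtain ⟨M', ⟨r⟩⟩ := h.has_representation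
  let e := isoOfRepresentableBy r
  obtain ⟨φ, x, hx⟩ := jMk_surjective g e.hom
  haveI : IsIso (jMap g x) := by
    haveI := isIso_jMk_id g (liftObj g φ)
    haveI : IsIso ((yon S').map (mapObjIso φ).inv ≫
        jMk g (tautLift g (liftObj g φ)) (𝟙 ((yon S).obj (liftObj g φ))) ≫ jMap g x) := by
      rw [← jMk_eq_comp_jMap, hx]; infer_instance
    haveI := IsIso.of_isIso_comp_left ((yon S').map (mapObjIso φ).inv)
      (jMk g (tautLift g (liftObj g φ)) (𝟙 ((yon S).obj (liftObj g φ))) ≫ jMap g x)
    exact IsIso.of_isIso_comp_left (jMk g (tautLift g (liftObj g φ)) (𝟙 ((yon S).obj (liftObj g φ)))) (jMap g x)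
  obtain ⟨y, hy⟩ := exists_jMap_eq g (inv (jMap g x)) (by rw [IsIso.inv_comp_eq, jMap_jStr])
  haveI : IsIso x := ⟨y, jMap_injective g (by
      change jMap g x ≫ jMap g y = 𝟙 _
      rw [hy, IsIso.hom_inv_id]),
    jMap_injective g (by
      change jMap g y ≫ jMap g x = 𝟙 _
      rw [hy, IsIso.inv_hom_id])⟩
  exact (AlgSp.representableByOfIso (asIso x)).isRepresentable

/-- A sheaf with quasi-compact extension is quasi-compact. -/
theorem isQuasiCompactSp_of_jSh (h : IsQuasiCompactSp (jSh g F)) : IsQuasiCompactSp F := by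
  obtain ⟨U', p, hp, hs, hc⟩ := h
  obtain ⟨φ, x, rfl⟩ := jMk_surjective g p
  haveI := isIso_jMk_id g (liftObj g φ)
  have e : jMap g x = inv (jMk g (tautLift g (liftObj g φ)) (𝟙 ((yon S).obj (liftObj g φ)))) ≫
      (yon S').map (mapObjIso φ).hom ≫ jMk g φ x := by
    rw [IsIso.eq_inv_comp, jMk_eq_comp_jMap g φ x, ← Functor.map_comp_assoc, Iso.hom_inv_id,
      CategoryTheory.Functor.map_id, Category.id_comp]
  refine ⟨liftObj g φ, x, (repWith_jMap_iff g x).1 ?_, (repWith_jMap_iff g x).1 ?_, hc⟩
  · rw [e]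
    exact repWith_comp (repWith_iso _) (repWith_comp (repWith_iso _) hp)
  · rw [e]
    exact repWith_comp (repWith_iso _) (repWith_comp (repWith_iso _) hs)

end GrothLib.AlgSp
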