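import Mathlib.CategoryTheory.Sites.Pullback
import Groth.Agent.Lib.AlgSp.Space

/-!
# Sheaves over `S` as sheaves over `S'` with a map to `h_S`

For `g : S ⟶ S'` the extension `jSh g F` has as sections over `T'` the pairs of a lift `φ : T' ⟶ S` over `S'`
and a section of `F` over `(T', φ)`. It is left adjoint to restriction along `Over.map g`.
-/

set_option backward.isDefEq.respectTransparency false

universe u

open CategoryTheory CategoryTheory.Limits AlgebraicGeometry Opposite

namespace GrothLib.AlgSp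

open _root_.AlgSp

variable {S S' : Scheme.{u}} (g : S ⟶ S')

/-- A lift to `S` of an object over `S'`, as an object over `S`. -/
abbrev liftObj {T' : Over S'} (φ : T' ⟶ Over.mk g) : Over S := Over.mk (φ.left : T'.left ⟶ S)

/-- The presheaf of pairs `(φ, x)`. -/
def jPre (F : Sp S) : (Over S')ᵒᵖ ⥤ Type (u + 1) where
  obj T' := Σ φ : T'.unop ⟶ Over.mk g, F.obj.obj (op (liftObj g φ))
  map {T₁ T₂} h := ↾fun s => ⟨h.unop ≫ s.1,
    F.obj.map (Over.homMk h.unop.left rfl : liftObj g (h.unop ≫ s.1) ⟶ liftObj g s.1).op s.2⟩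
  map_id T := by
    apply ConcreteCategory.hom_ext
    rintro ⟨φ, x⟩
    refine Sigma.ext ?_ ?_
    · exact Category.id_comp φ
    have key : ∀ (ψ : T.unop ⟶ Over.mk g) (e : ψ = φ) (m : liftObj g ψ ⟶ liftObj g φ), m.left = 𝟙 _ →
        F.obj.map m.op x ≍ x := by
      rintro ψ rfl m hm
      rw [show m = 𝟙 _ from Over.OverMorphism.ext hm, op_id, F.obj.map_id]
      rfl
    exact key _ (Category.id_comp φ) _ rfl
  map_comp {T₁ T₂ T₃} h k := by
    apply ConcreteCategory.hom_ext
    rintro ⟨φ, x⟩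
    refine Sigma.ext ?_ ?_
    · exact Category.assoc _ _ _
    have key : ∀ (ψ χ : T₃.unop ⟶ Over.mk g) (e : ψ = χ) (m : liftObj g ψ ⟶ liftObj g φ)
        (n : liftObj g χ ⟶ liftObj g φ), m.left = n.left → F.obj.map m.op x ≍ F.obj.map n.op x := by
      rintro ψ χ rfl m n hmn
      rw [Over.OverMorphism.ext hmn]
    change _ ≍ F.obj.map _ (F.obj.map _ x)
    rw [← Functor.map_comp_apply, ← op_comp]
    exact key _ _ (Category.assoc _ _ _) _ _ rfl

variable {g}

/-- Pull the section of a pair back to an object over `S` mapping compatibly. -/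
def jPull {F : Sp S} {T' : Over S'} (s : (jPre g F).obj (op T')) (W : Over S) (k : W.left ⟶ T'.left)
    (e : k ≫ s.1.left = W.hom) : F.obj.obj (op W) :=
  F.obj.map (Over.homMk k e : W ⟶ liftObj g s.1).op s.2

theorem jPull_self {F : Sp S} {T' : Over S'} (s : (jPre g F).obj (op T')) :
    jPull s (liftObj g s.1) (𝟙 _) (Category.id_comp _) = s.2 := by
  rw [jPull, show (Over.homMk (𝟙 _) (Category.id_comp _) : liftObj g s.1 ⟶ liftObj g s.1) = 𝟙 _ from
    Over.OverMorphism.ext rfl, op_id, F.obj.map_id]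
  rfl

theorem map_jPull {F : Sp S} {T' : Over S'} (s : (jPre g F).obj (op T')) {W V : Over S} (m : V ⟶ W)
    (k : W.left ⟶ T'.left) (e : k ≫ s.1.left = W.hom) :
    F.obj.map m.op (jPull s W k e) = jPull s V (m.left ≫ k) (by rw [Category.assoc, e, Over.w m]) := by
  rw [jPull, jPull, ← Functor.map_comp_apply, ← op_comp]
  congr 3

theorem jPull_map {F : Sp S} {T' T'' : Over S'} (s : (jPre g F).obj (op T')) (h : T'' ⟶ T') (W : Over S)
    (k : W.left ⟶ T''.left) (e : k ≫ ((jPre g F).map h.op s).1.left = W.hom) :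
    jPull ((jPre g F).map h.op s) W k e = jPull s W (k ≫ h.left) ((Category.assoc _ _ _).trans e) := by
  change F.obj.map _ (F.obj.map _ _) = _
  rw [jPull, ← Functor.map_comp_apply, ← op_comp]
  rfl

theorem jPull_congr {F : Sp S} {T' : Over S'} {s t : (jPre g F).obj (op T')} (h : s = t) (W : Over S)
    (k k' : W.left ⟶ T'.left) (hk : k = k') (e : k ≫ s.1.left = W.hom) (e' : k' ≫ t.1.left = W.hom) :
    jPull s W k e = jPull t W k' e' := by
  subst h hk
  rfl

theorem jPre_ext {F : Sp S} {T' : Over S'} {s t : (jPre g F).obj (op T')} (h : s.1 = t.1)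
    (h' : ∀ W k e e', jPull s W k e = jPull t W k e') : s = t := by
  obtain ⟨φ, x⟩ := s
  obtain ⟨ψ, y⟩ := t
  obtain rfl : φ = ψ := h
  have := h' (liftObj g φ) (𝟙 _) (Category.id_comp _) (Category.id_comp _)
  rw [jPull_self, jPull_self] at this
  subst this
  rfl

/-- An object over `S` seen over `S'` by forgetting back. -/
abbrev mapObjIso {T' : Over S'} (φ : T' ⟶ Over.mk g) : (Over.map g).obj (liftObj g φ) ≅ T' :=
  Over.isoMk (Iso.refl _) (by simpa using (Over.w φ).symm)

variable (g)

theorem isSheaf_jPre (F : Sp S) : Presheaf.IsSheaf (J S') (jPre g F) := by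
  rw [isSheaf_iff_isSheaf_of_type]
  intro T' R hR x hx
  have hY : Presieve.IsSheaf (J S') (yoneda.obj (Over.mk g)) :=
    GrothendieckTopology.Subcanonical.isSheaf_of_isRepresentable _
  let φf : Presieve.FamilyOfElements (yoneda.obj (Over.mk g)) R.arrows := fun Y f hf => (x f hf).1
  have hφ : φf.Compatible := fun Y₁ Y₂ Z g₁ g₂ f₁ f₂ h₁ h₂ e => congrArg Sigma.fst (hx g₁ g₂ h₁ h₂ e)
  obtain ⟨φ, hφa, hφu⟩ := hY R hR φf hφ
  have hφa' : ∀ {Y : Over S'} (f : Y ⟶ T') (hf : R f), f ≫ φ = (x f hf).1 := fun f hf => hφa f hf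
  have hxnat : ∀ {Y Z : Over S'} (h : Z ⟶ Y) (f : Y ⟶ T') (hf : R f),
      x (h ≫ f) (R.downward_closed hf h) = (jPre g F).map h.op (x f hf) := fun h f hf => by
    have := hx (𝟙 _) h (R.downward_closed hf h) hf (Category.id_comp _)
    rw [op_id, (jPre g F).map_id] at this
    exact this
  let R₀ : Sieve (liftObj g φ) := (R.pullback (mapObjIso φ).hom).functorPullback (Over.map g)
  have hR₀ : R₀ ∈ J S (liftObj g φ) := by
    change Sieve.overEquiv _ R₀ ∈ Scheme.fppfTopology T'.left
    have e : Sieve.overEquiv _ R₀ = Sieve.overEquiv T' R := by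
      ext Z k
      rw [Sieve.overEquiv_iff, Sieve.overEquiv_iff]
      change R ((Over.map g).map (Over.homMk k rfl : Over.mk (k ≫ φ.left) ⟶ liftObj g φ) ≫ (mapObjIso φ).hom) ↔ _
      let i : Over.mk (k ≫ T'.hom) ≅ (Over.map g).obj (Over.mk (k ≫ φ.left)) :=
        Over.isoMk (Iso.refl _) (by simpa using congrArg (k ≫ ·) (Over.w φ))
      refine ⟨fun h => ?_, fun h => ?_⟩
      · have h' := R.downward_closed h i.hom
        rwa [show i.hom ≫ (Over.map g).map (Over.homMk k rfl : Over.mk (k ≫ φ.left) ⟶ liftObj g φ) ≫ (mapObjIso φ).hom = (Over.homMk k rfl : Over.mk (k ≫ T'.hom) ⟶ T') from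
          Over.OverMorphism.ext (by simp [i])] at h'
      · have h' := R.downward_closed h i.inv
        rwa [show i.inv ≫ (Over.homMk k rfl : Over.mk (k ≫ T'.hom) ⟶ T') = (Over.map g).map (Over.homMk k rfl : Over.mk (k ≫ φ.left) ⟶ liftObj g φ) ≫ (mapObjIso φ).hom from
          Over.OverMorphism.ext (by simp [i])] at h'
    rw [e]
    exact hR
  have he : ∀ {W : Over S} (h : W ⟶ liftObj g φ) (hh : R₀ h),
      𝟙 W.left ≫ (x ((Over.map g).map h ≫ (mapObjIso φ).hom) hh).1.left = W.hom := fun h hh => by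
    rw [← hφa' _ hh]
    simpa using Over.w h
  let x₀ : Presieve.FamilyOfElements F.obj R₀.arrows := fun W h hh =>
    jPull (x ((Over.map g).map h ≫ (mapObjIso φ).hom) hh) W (𝟙 _) (he h hh)
  have hx₀ : x₀.Compatible := by
    rintro W₁ W₂ Z m₁ m₂ h₁ h₂ hh₁ hh₂ e
    simp only [x₀, map_jPull, Category.comp_id]
    have c := hx ((Over.map g).map m₁) ((Over.map g).map m₂) hh₁ hh₂
      (by rw [← Category.assoc, ← Category.assoc, ← Functor.map_comp, ← Functor.map_comp, e])
    have e₁ : 𝟙 Z.left ≫ ((jPre g F).map ((Over.map g).map m₁).op (x _ hh₁)).1.left = Z.hom := by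
      change 𝟙 Z.left ≫ m₁.left ≫ (x _ hh₁).1.left = Z.hom
      rw [← hφa' _ hh₁]
      simpa using (congrArg (m₁.left ≫ ·) (Over.w h₁)).trans (Over.w m₁)
    have := jPull_congr c Z (𝟙 _) (𝟙 _) rfl e₁ (c ▸ e₁)
    rw [jPull_map, jPull_map] at this
    simpa using this
  obtain ⟨y, hya, hyu⟩ := (isSheaf_iff_isSheaf_of_type _ _).1 F.property R₀ hR₀ x₀ hx₀
  refine ⟨⟨φ, y⟩, fun Y f hf => ?_, fun t ht => ?_⟩
  · refine jPre_ext (hφa' f hf) fun W k e e' => ?_
    rw [jPull_map]
    have e₀ : (k ≫ f.left) ≫ φ.left = W.hom := (Category.assoc _ _ _).trans e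
    let h : W ⟶ liftObj g φ := Over.homMk (k ≫ f.left) e₀
    have ek : k ≫ Y.hom = W.hom ≫ g := by
      rw [← e', Category.assoc]
      exact congrArg (k ≫ ·) (Over.w (x f hf).1).symm
    let k' : (Over.map g).obj W ⟶ Y := Over.homMk k ek
    have eh : (Over.map g).map h ≫ (mapObjIso φ).hom = k' ≫ f := by
      ext; simp [h, k']
    have hh : R₀ h := by
      change R ((Over.map g).map h ≫ (mapObjIso φ).hom)
      rw [eh]; exact R.downward_closed hf _
    refine (hya h hh).trans ?_
    have c : x ((Over.map g).map h ≫ (mapObjIso φ).hom) hh = (jPre g F).map k'.op (x f hf) := by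
      rw [← hxnat k' f hf]
      congr 1
    refine (jPull_congr c W (𝟙 _) (𝟙 _) rfl (he h hh) (c ▸ he h hh)).trans ?_
    rw [jPull_map]
    exact jPull_congr rfl W _ _ (Category.id_comp _) _ _
  · obtain ⟨ψ, z⟩ := t
    obtain rfl : ψ = φ := hφu ψ fun Y f hf => congrArg Sigma.fst (ht f hf)
    obtain rfl : z = y := hyu z fun W h hh => by
      have c := ht ((Over.map g).map h ≫ (mapObjIso ψ).hom) hh
      have := jPull_congr c W (𝟙 _) (𝟙 _) rfl (c ▸ he h hh) (he h hh)
      rw [jPull_map] at this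
      refine Eq.trans (congrArg (fun m : W ⟶ liftObj g ψ => F.obj.map m.op z) ?_) this
      ext; simp
    rfl

/-- The extension of a sheaf over `S` to `S'`. -/
def jSh (F : Sp S) : Sp S' := ⟨jPre g F, isSheaf_jPre g F⟩

variable {F G H : Sp S}

/-- The extension of a morphism. -/
def jMap (f : F ⟶ G) : jSh g F ⟶ jSh g G :=
  ObjectProperty.homMk
    { app := fun T' => ↾fun s => (⟨s.1, f.hom.app (op (liftObj g s.1)) s.2⟩ : (jPre g G).obj T')
      naturality := fun T₁ T₂ h => by
        apply ConcreteCategory.hom_ext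
        rintro ⟨φ, x⟩
        refine Sigma.ext rfl ?_
        apply heq_of_eq
        exact NatTrans.naturality_apply f.hom _ x }

/-- The extension functor. -/
def jFunctor : Sp S ⥤ Sp S' where
  obj F := jSh g F
  map f := jMap g f
  map_id F := rfl
  map_comp f f' := rfl

/-- The structure map to `h_S`. -/
def jStr (F : Sp S) : jSh g F ⟶ (yon S').obj (Over.mk g) :=
  ObjectProperty.homMk { app := fun T' => ↾fun s => ULift.up.{u + 1} s.1 }

/-- The unit of the extension-restriction adjunction. -/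
def jUnit (F : Sp S) : F ⟶ (Scheme.fppfTopology.overMapPullback (Type (u + 1)) g).obj (jSh g F) :=
  ObjectProperty.homMk
    { app := fun T => ↾fun x => (⟨Over.homMk T.unop.hom rfl,
        F.obj.map (Over.homMk (𝟙 _) (by simp) :
          liftObj g (Over.homMk T.unop.hom rfl : (Over.map g).obj T.unop ⟶ Over.mk g) ⟶ T.unop).op x⟩ :
            (jPre g F).obj (op ((Over.map g).obj T.unop)))
      naturality := fun T₁ T₂ h => by
        apply ConcreteCategory.hom_ext
        intro x
        refine jPre_ext ?_ fun W k e e' => ?_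
        · exact Over.OverMorphism.ext (Over.w h.unop).symm
        · change F.obj.map _ (F.obj.map _ (F.obj.map h x)) = F.obj.map _ (F.obj.map _ (F.obj.map _ x))
          simp only [← Functor.map_comp_apply]
          congr 2 }

theorem jPull_mk {T' : Over S'} (φ : T' ⟶ Over.mk g) (x : F.obj.obj (op (liftObj g φ))) (W : Over S)
    (k : W.left ⟶ T'.left) (e : k ≫ φ.left = W.hom) :
    jPull (⟨φ, x⟩ : (jPre g F).obj (op T')) W k e = F.obj.map (Over.homMk k e : W ⟶ liftObj g φ).op x := rfl

/-- The counit of the extension-restriction adjunction. -/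
def jCounit (G : Sp S') : jSh g ((Scheme.fppfTopology.overMapPullback (Type (u + 1)) g).obj G) ⟶ G :=
  ObjectProperty.homMk
    { app := fun T' => ↾fun s => G.obj.map (mapObjIso s.1).inv.op s.2
      naturality := fun T₁ T₂ h => by
        apply ConcreteCategory.hom_ext
        rintro ⟨φ, x⟩
        change G.obj.map _ (G.obj.map _ x) = G.obj.map h (G.obj.map _ x)
        simp only [← Functor.map_comp_apply]
        congr 2 }

/-- Extension is left adjoint to restriction. -/
def jAdj : jFunctor g ⊣ Scheme.fppfTopology.overMapPullback (Type (u + 1)) g :=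
  Adjunction.mkOfUnitCounit
    { unit :=
        { app := jUnit g
          naturality := fun F G f => by
            ext T x
            refine Sigma.ext rfl (heq_of_eq ?_)
            exact (NatTrans.naturality_apply f.hom _ x).symm }
      counit :=
        { app := jCounit g
          naturality := fun F G f => by
            ext T s
            exact (NatTrans.naturality_apply f.hom _ s.2).symm }
      left_triangle := by
        ext F T s
        obtain ⟨φ, x⟩ := s
        refine jPre_ext ?_ fun W k e e' => ?_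
        · exact Over.OverMorphism.ext (Category.id_comp _)
        · change F.obj.map _ (F.obj.map _ (F.obj.map _ x)) = F.obj.map _ x
          simp only [← Functor.map_comp_apply]
          congr 2
      right_triangle := by
        ext G T y
        change G.obj.map _ (G.obj.map _ y) = y
        rw [← Functor.map_comp_apply]
        conv_rhs => rw [← (ConcreteCategory.id_apply (X := G.obj.obj (op ((Over.map g).obj T.unop))) y)]
        rw [← G.obj.map_id]
        congr 2 }

/-- Extension is the left adjoint chosen by Mathlib. -/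
noncomputable def jIso :
    (Over.map g).sheafPullback (Type (u + 1)) (J S) (J S') ≅ jFunctor g :=
  Adjunction.leftAdjointUniq ((Over.map g).sheafAdjunctionContinuous (Type (u + 1)) (J S) (J S')) (jAdj g)

/-- A section of the extension, from a lift and a section. -/
noncomputable def jMk {T' : Over S'} (φ : T' ⟶ Over.mk g) (x : (yon S).obj (liftObj g φ) ⟶ F) :
    (yon S').obj T' ⟶ jSh g F :=
  (J S').uliftYonedaEquiv.{u + 1}.symm (⟨φ, (J S).uliftYonedaEquiv.{u + 1} x⟩ : (jPre g F).obj (op T'))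

theorem jMk_surjective {T' : Over S'} (σ : (yon S').obj T' ⟶ jSh g F) :
    ∃ (φ : T' ⟶ Over.mk g) (x : (yon S).obj (liftObj g φ) ⟶ F), jMk g φ x = σ := by
  refine ⟨((J S').uliftYonedaEquiv.{u + 1} σ).1,
    (J S).uliftYonedaEquiv.{u + 1}.symm ((J S').uliftYonedaEquiv.{u + 1} σ).2, ?_⟩
  rw [jMk, Equiv.apply_symm_apply]
  exact Equiv.symm_apply_apply _ σ

theorem jMk_fst_eq {T' : Over S'} {φ φ' : T' ⟶ Over.mk g} {x : (yon S).obj (liftObj g φ) ⟶ F}
    {x' : (yon S).obj (liftObj g φ') ⟶ G} {f : F ⟶ H} {f' : G ⟶ H}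
    (e : jMk g φ x ≫ jMap g f = jMk g φ' x' ≫ jMap g f') : φ = φ' := by
  have := congrArg ((J S').uliftYonedaEquiv.{u + 1}) e
  erw [GrothendieckTopology.uliftYonedaEquiv_comp, GrothendieckTopology.uliftYonedaEquiv_comp,
    Equiv.apply_symm_apply, Equiv.apply_symm_apply] at this
  exact congrArg Sigma.fst this

theorem jMk_injective {T' : Over S'} {φ : T' ⟶ Over.mk g} {x x' : (yon S).obj (liftObj g φ) ⟶ F}
    (e : jMk g φ x = jMk g φ x') : x = x' := by
  have := congrArg ((J S').uliftYonedaEquiv.{u + 1}) e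
  erw [Equiv.apply_symm_apply, Equiv.apply_symm_apply] at this
  exact ((J S).uliftYonedaEquiv.{u + 1}).injective (eq_of_heq (Sigma.mk.injEq _ _ _ _ ▸ this).2)

theorem jMk_jMap {T' : Over S'} (φ : T' ⟶ Over.mk g) (x : (yon S).obj (liftObj g φ) ⟶ F) (f : F ⟶ G) :
    jMk g φ x ≫ jMap g f = jMk g φ (x ≫ f) := by
  apply (J S').uliftYonedaEquiv.{u + 1}.injective
  rw [GrothendieckTopology.uliftYonedaEquiv_comp, jMk, jMk, Equiv.apply_symm_apply, Equiv.apply_symm_apply]
  refine Sigma.ext rfl (heq_of_eq ?_)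
  exact (GrothendieckTopology.uliftYonedaEquiv_comp (J := J S) x f).symm

theorem map_jMk {T' T'' : Over S'} (h : T'' ⟶ T') (φ : T' ⟶ Over.mk g)
    (x : (yon S).obj (liftObj g φ) ⟶ F) :
    (yon S').map h ≫ jMk g φ x =
      jMk g (h ≫ φ) ((yon S).map (Over.homMk h.left rfl : liftObj g (h ≫ φ) ⟶ liftObj g φ) ≫ x) := by
  apply (J S').uliftYonedaEquiv.{u + 1}.injective
  rw [← GrothendieckTopology.uliftYonedaEquiv_naturality, jMk, jMk, Equiv.apply_symm_apply,
    Equiv.apply_symm_apply]
  refine Sigma.ext rfl (heq_of_eq ?_)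
  exact GrothendieckTopology.uliftYonedaEquiv_naturality (J := J S) x _

end GrothLib.AlgSp
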