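import Groth.Agent.Lib.AlgSp.QCohNoethUnion
import Groth.Agent.Lib.AlgSp.QCohAbelian
import Groth.Agent.Lib.DerCat.Truncation
import Groth.Prelude.Def_AlgSpPerf

/-!
# Cohomology of pseudo-coherent objects is quasi-coherent

* `good_of_isIso'`, `good_homology`, `good_of_slice`, `isQuasicoherent_of_pseudoCoherent`.
-/

set_option autoImplicit false
set_option backward.isDefEq.respectTransparency false
universe u

open CategoryTheory CategoryTheory.Limits AlgebraicGeometry Opposite

attribute [local instance] HasDerivedCategory.standard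

noncomputable section

namespace GrothLib.AlgSp.QCohEt

open _root_.AlgSp

section Generic

variable {C : Type (u + 1)} [Category.{u} C] {J : GrothendieckTopology C} {O : Sheaf J CommRingCat.{u + 1}}
  [HasSheafify J AddCommGrpCat.{u + 1}] [J.WEqualsLocallyBijective AddCommGrpCat.{u + 1}]
  (A : AffSite O) {E : C} (hE : A.Aff E)

include hE

theorem good_of_isIso' {M N : SheafOfModules.{u + 1} (RR O)} (e : M ≅ N) (h : Good M A E) : Good N A E := by
  let T : ShortComplex (SheafOfModules.{u + 1} (RR O)) := ShortComplex.mk e.inv (0 : M ⟶ M) comp_zero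
  haveI : Mono T.f := inferInstanceAs (Mono e.inv)
  have hT : T.Exact := (ShortComplex.exact_iff_epi T (show T.g = 0 from rfl)).2 (inferInstanceAs (Epi e.inv))
  exact good_left (S := A) hT hE h h

/-- Homology of a complex of good modules is good. -/
theorem good_homology (K : CochainComplex (SheafOfModules.{u + 1} (RR O)) ℤ) (h : ∀ n, Good (K.X n) A E) (n : ℤ) :
    Good (K.homology n) A E := by
  have hz : Good (K.cycles n) A E := by
    let T : ShortComplex (SheafOfModules.{u + 1} (RR O)) :=
      ShortComplex.mk (K.iCycles n) (K.d n (n + 1)) (K.iCycles_d n (n + 1))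
    haveI : Mono T.f := inferInstanceAs (Mono (K.iCycles n))
    exact good_left (S := A) (ShortComplex.exact_of_f_is_kernel T (K.cyclesIsKernel n (n + 1) (by simp))) hE (h n)
      (h (n + 1))
  let T : ShortComplex (SheafOfModules.{u + 1} (RR O)) :=
    ShortComplex.mk (K.toCycles (n - 1) n) (K.homologyπ n) (K.toCycles_comp_homologyπ (n - 1) n)
  haveI : Epi T.g := inferInstanceAs (Epi (K.homologyπ n))
  exact good_right (S := A) (ShortComplex.exact_of_g_is_cokernel T (K.homologyIsCokernel (n - 1) n (by simp))) hE
    (h (n - 1)) hz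

/-- Summands of finite free modules are good. -/
theorem good_finFreeSummand {M : SheafOfModules.{u + 1} (RR O)} (hM : DCoh.IsFinFreeSummandMod (RR O) M) :
    Good M A E := by
  obtain ⟨n, i, p, hip⟩ := hM
  let F : SheafOfModules.{u + 1} (RR O) := SheafOfModules.free (R := RR O) (ULift.{u + 1} (Fin n))
  have hF : Good F A E :=
    good_of_theta A hE _ fun V hV => bijective_theta_free A (ULift.{u + 1} (Fin n)) V hV
  let T : ShortComplex (SheafOfModules.{u + 1} (RR O)) := ShortComplex.mk i (𝟙 F - p ≫ i) (by
    rw [Preadditive.comp_sub, Category.comp_id, reassoc_of% hip, sub_self])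
  haveI : Mono T.f := (show Mono i from ⟨fun a b e => by
    have := congrArg (fun t => t ≫ p) e
    simpa [hip] using this⟩)
  refine good_left (S := A) (ShortComplex.exact_of_f_is_kernel T
    (KernelFork.IsLimit.ofι' _ _ fun k hk => ⟨k ≫ p, ?_⟩)) hE hF hF
  rw [Preadditive.comp_sub, Category.comp_id, sub_eq_zero] at hk
  show (k ≫ p) ≫ i = k
  rw [Category.assoc, ← hk]

end Generic

variable {S : Scheme.{u}} {X : Sp S}

/-- Modules good on a slice are good on the underlying object. -/
theorem good_of_slice (M : ModEt X) {U : EtOver X} {V₀ : Over U}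
    (h : Good (O := (OEt X).over U) (M.over U) (affSlice (affEt X) U) V₀) :
    Good (O := OEt X) M (affEt X) V₀.left := by
  intro W hW
  exact h (Over.mk (Over.homMk W.hom rfl : Over.mk (W.hom ≫ V₀.hom) ⟶ V₀)) hW

/-- Cohomology of a pseudo-coherent object above the bound is quasi-coherent. -/
theorem isQuasicoherent_of_pseudoCoherent {m : ℤ} {K : DModEt X} (hK : IsPseudoCoherentEtD m K) {i : ℤ}
    (hi : m < i) : (DCoh.HDMod (OEtRing X) K i).IsQuasicoherent := by
  refine isQuasicoherent_of_good _ fun E hE => ?_
  obtain ⟨ι, V, g, hg, hV⟩ := hK E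
  have hT : Sieve.ofArrows V g ∈ etTop X E := Precoverage.generate_mem_toGrothendieck hg
  refine good_of_cover (O := OEt X) _ (affEt X) hE hT fun Z z hZ hz => ?_
  obtain ⟨_, a, _, ⟨k⟩, rfl⟩ := hz
  obtain ⟨P, α, hP, hiso, -⟩ := hV k
  refine good_of_slice (DCoh.HDMod (OEtRing X) K i) (U := V k) (V₀ := Over.mk a) ?_
  haveI := hiso i hi
  obtain ⟨e⟩ := DerTrunc.nonempty_homology_mapDerivedCategory (resModEt (V k)) K i
  exact good_of_isIso' (O := (OEt X).over (V k)) (affSlice (affEt X) (V k)) (E := Over.mk a) hZ
    (((DerivedCategory.homologyFunctorFactors (ModEtOn (V k)) i).app P).symm ≪≫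
      asIso ((DerivedCategory.homologyFunctor (ModEtOn (V k)) i).map α) ≪≫ e)
    (good_homology (O := (OEt X).over (V k)) (affSlice (affEt X) (V k)) (E := Over.mk a) hZ P
      (fun n => good_finFreeSummand (O := (OEt X).over (V k)) (affSlice (affEt X) (V k)) (E := Over.mk a) hZ (hP.2 n)) i)

end GrothLib.AlgSp.QCohEt
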