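import Groth.Agent.Lib.AlgSp.QCohNoethUnion
import Groth.Agent.Lib.AlgSp.QCohPushFin
import Groth.Agent.Lib.AlgSp.ElemChain

/-!
# Quasi-coherent submodules of finite type on quasi-compact quasi-separated spaces

* `FinOn`: finite sections over the affine objects lying in an open;
* `exists_step`: a module finite over an open has a submodule finite over one elementary step more;
* `exists_finiteType_submodule`: every section lies in a submodule of finite type, extending a given open.
-/

universe u

open CategoryTheory CategoryTheory.Limits AlgebraicGeometry Opposite TensorProduct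
set_option backward.isDefEq.respectTransparency false

noncomputable section

namespace GrothLib.AlgSp.QCohEt

open _root_.AlgSp
open GrothLib GrothLib.AlgSp

variable {S : Scheme.{u}} {X : Sp S}

/-- The sections over affine objects lying in `O` are finite. -/
def FinOn (M : ModEt X) (O : Set (Points X)) : Prop :=
  ∀ E : EtOver X, IsAffine E.obj.left.left → Set.range (Points.ofPt E.obj.hom) ⊆ O →
    Module.Finite (Ob (OEt X) E) (Sec (O := OEt X) M E)

section Generic

variable {C C' : Type (u + 1)} [Category.{u} C] [Category.{u} C'] {J : GrothendieckTopology C}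
  {K : GrothendieckTopology C'} {F : C ⥤ C'} {G : C' ⥤ C} (adj : F ⊣ G) [F.IsContinuous J K] [G.IsContinuous K J]
  {O : Sheaf J CommRingCat.{u + 1}} {O' : Sheaf K CommRingCat.{u + 1}}
  (φ : RR O ⟶ (F.sheafPushforwardContinuous RingCat.{u + 1} J K).obj (RR O'))
  (ψ : RR O' ⟶ (G.sheafPushforwardContinuous RingCat.{u + 1} K J).obj (RR O))

theorem mres_unit_gen (H₁ : Functor.whiskerRight (NatTrans.op adj.counit) (RR O').obj = ψ.hom ≫ G.op.whiskerLeft φ.hom)
    (H₂ : φ.hom ≫ F.op.whiskerLeft ψ.hom ≫ Functor.whiskerRight (NatTrans.op adj.unit) (RR O).obj = 𝟙 (RR O).obj)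
    (M : SheafOfModules.{u + 1} (RR O')) (e : C) (x : Sec (O := O') M (F.obj e)) :
    mres (O := O) ((SheafOfModules.pushforward.{u + 1} φ).obj M) (adj.unit.app e)
      (app (O := O') ((SheafOfModules.pushforwardPushforwardAdj.{u + 1} adj φ ψ H₁ H₂).unit.app M) (F.obj e) x) = x := by
  have h : app (O := O') ((SheafOfModules.pushforwardPushforwardAdj.{u + 1} adj φ ψ H₁ H₂).unit.app M) (F.obj e) x =
      mres (O := O') M (adj.counit.app (F.obj e)) x := rfl
  rw [h]
  refine (mres_comp (O := O') M (adj.counit.app (F.obj e)) (F.map (adj.unit.app e)) x).symm.trans ?_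
  exact (congrArg (fun g => mres (O := O') M g x) (adj.left_triangle_components e)).trans (mres_id _ x)

end Generic

variable {U : Over S} (a : (yon S).obj U ⟶ X) (ha : RepWith @Etale a) (M : ModEt X) [M.IsQuasicoherent]
  (n : Finset (Sec (O := OEt ((yon S).obj U)) (resM a ha M) (topU U)))

/-- The quotient by the chosen sections vanishes on an object. -/
def Killed (B : EtOver ((yon S).obj U)) : Prop :=
  ∀ y : Sec (O := OEt ((yon S).obj U)) (resM a ha M) B,
    app (O := OEt ((yon S).obj U)) (cokernel.π (genMap a ha M n)) B y = 0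

omit [M.IsQuasicoherent] in
theorem mres_gen {v : Sec (O := OEt ((yon S).obj U)) (resM a ha M) (topU U)} (hv : v ∈ n)
    (B : EtOver ((yon S).obj U)) :
    app (O := OEt ((yon S).obj U)) (cokernel.π (genMap a ha M n)) B
      (mres (O := OEt ((yon S).obj U)) (resM a ha M) ((htopU U).from B) v) = 0 := by
  rw [app_mres, quot_gen a ha M n hv, map_zero]

theorem killed_of_hom {e e₀ : EtOver ((yon S).obj U)} (w : e ⟶ e₀) (he : IsAffine e.obj.left.left)
    (he₀ : IsAffine e₀.obj.left.left) (h : Killed a ha M n e₀) : Killed a ha M n e := fun y => by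
  haveI := isQuasicoherent_resM a ha M
  obtain ⟨c, rfl⟩ := (good_of_isQuasicoherent (resM a ha M) he₀ (Over.mk w) he).2 y
  refine (app_theta (O := OEt ((yon S).obj U)) _ LinearMap.id (Over.mk w) c).trans ?_
  induction c using TensorProduct.induction_on with
  | zero => exact map_zero _
  | add p q hp hq => rw [map_add, hp, hq, add_zero]
  | tmul r v => rw [theta_tmul, LinearMap.comp_apply, LinearMap.id_apply, h v, map_zero, smul_zero]

omit [M.IsQuasicoherent] in
theorem killed_of_cover {B : EtOver ((yon S).obj U)} {κ : Type u} {W : κ → EtOver ((yon S).obj U)}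
    (w : ∀ k, W k ⟶ B) (hw : ∀ x : ↥B.obj.left.left, ∃ k, x ∈ Set.range (w k).hom.left.left)
    (h : ∀ k, Killed a ha M n (W k)) : Killed a ha M n B := fun y =>
  sec_ext_fam (O := OEt ((yon S).obj U)) _ w (ofArrows_mem_etTop _ _ hw) fun k => by
    rw [map_zero, ← app_mres]
    exact h k _

/-- Objects over an open of the chart which is covered by killed affine opens are killed. -/
theorem killed_of_opens {κ : Type u} (O : κ → U.left.Opens) (hO : ∀ k, IsAffineOpen (O k))
    (h : ∀ k, Killed a ha M n (opensObj (topU U) (O k))) {B : EtOver ((yon S).obj U)}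
    (p : B.obj.left ⟶ U) (hp : (yon S).map p = B.obj.hom) (hB : ∀ x, ∃ k, p.left x ∈ O k) :
    Killed a ha M n B := by
  choose k hk using hB
  choose W hW hxW hWO using fun x : ↥B.obj.left.left => exists_isAffineOpen_mem_and_subset (x := x)
    (U := p.left ⁻¹ᵁ O (k x)) (hk x)
  refine killed_of_cover a ha M n (fun x => opensInc B (W x)) (fun x => ⟨x, ⟨x, hxW x⟩, rfl⟩) fun x => ?_
  have hr : Set.range ((W x).ι ≫ p.left) ⊆ Set.range (O (k x)).ι := by
    rintro _ ⟨y, rfl⟩
    rw [Scheme.Opens.range_ι]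
    exact hWO x y.2
  let l : (opensObj B (W x)).obj.left ⟶ (opensObj (topU U) (O (k x))).obj.left :=
    Over.homMk (IsOpenImmersion.lift (O (k x)).ι ((W x).ι ≫ p.left) hr) (by
      change IsOpenImmersion.lift (O (k x)).ι ((W x).ι ≫ p.left) hr ≫ (O (k x)).ι ≫ U.hom = (W x).ι ≫ B.obj.left.hom
      rw [IsOpenImmersion.lift_fac_assoc, Category.assoc, Over.w p])
  refine killed_of_hom a ha M n (EtOver.homMk l ?_) (hW x) (hO (k x)) (h (k x))
  change (yon S).map l ≫ (yon S).map (Over.homMk (O (k x)).ι rfl : Over.mk ((O (k x)).ι ≫ U.hom) ⟶ U) ≫ 𝟙 _ =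
    (yon S).map (Over.homMk (W x).ι rfl : Over.mk ((W x).ι ≫ B.obj.left.hom) ⟶ B.obj.left) ≫ B.obj.hom
  rw [Category.comp_id, ← hp, ← Functor.map_comp, ← Functor.map_comp]
  exact congrArg _ (Over.OverMorphism.ext (IsOpenImmersion.lift_fac _ _ hr))

omit [M.IsQuasicoherent] in
theorem subι_testMap_of_subset {n₁ : Finset (Sec (O := OEt ((yon S).obj U)) (resM a ha M) (topU U))}
    (h : n₁ ⊆ n) : subι a ha M n₁ ≫ testMap a ha M n = 0 := by
  rw [res_comp_testMap]
  have hg : genMap a ha M n₁ ≫ cokernel.π (genMap a ha M n) = 0 := by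
    let i : ↥n₁ → ↥n := fun v => ⟨v.1, h v.2⟩
    have : genMap a ha M n₁ = SheafOfModules.freeMap i ≫ genMap a ha M n := by
      refine (resM a ha M).freeHomEquiv.injective (funext fun v => ?_)
      simp only [genMap, Equiv.apply_symm_apply, SheafOfModules.freeHomEquiv_comp_apply]
      change _ = SheafOfModules.sectionsMap _ (SheafOfModules.sectionsMap (SheafOfModules.freeMap i) (SheafOfModules.freeSection v))
      rw [SheafOfModules.sectionMap_freeMap_freeSection]
      exact (congrFun ((resM a ha M).freeHomEquiv.apply_symm_apply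
        (fun v : ↥n => secOfTop (O := OEt ((yon S).obj U)) (htopU U) (resM a ha M) v.1)) (i v)).symm
    rw [this, Category.assoc, cokernel.condition, comp_zero]
  have h₁ := (res_comp_testMap a ha M n₁ (subι a ha M n₁)).1 (subι_testMap a ha M n₁)
  rw [← cokernel.π_desc (genMap a ha M n₁) _ hg, ← Category.assoc, h₁, zero_comp]

omit [M.IsQuasicoherent] in
theorem mres_unit (e : EtOver ((yon S).obj U))
    (x : Sec (O := OEt X) M ((EtOver.postcomp a (isEtaleMor_of_repWith a ha)).obj e)) :
    mres (O := OEt ((yon S).obj U)) (resM a ha M) ((postAdj ha.1 (isEtaleMor_of_repWith a ha)).unit.app e)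
      (app (O := OEt X) ((resPushAdj ha.1 (isEtaleMor_of_repWith a ha)).unit.app M)
        ((EtOver.postcomp a (isEtaleMor_of_repWith a ha)).obj e) x) = x := by
  exact mres_unit_gen _ _ _ _ _ M e x

variable [IsAffine U.left] [QuasiSeparatedSpace ↥S] (hqs : IsQuasiSeparatedSp X)

include hqs ha in
omit [M.IsQuasicoherent] in
theorem compact_preimage {O : Set (Points X)} (hX : IsAlgSpace X) (hO : IsOpen O) (hOc : IsCompact O) :
    IsCompact (Points.ofPt a ⁻¹' O) := by
  have hloc : ∀ x : ↥O, ∃ (A : Over S) (r : (yon S).obj A ⟶ X), IsAffine A.left ∧ RepWith @Etale r ∧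
      x.1 ∈ Set.range (Points.ofPt r) ∧ Set.range (Points.ofPt r) ⊆ O := fun x => by
    obtain ⟨W, p, pe, ps⟩ := hX.atlas
    obtain ⟨w, hw⟩ := surjective_ofPt_of_repWith ps x.1
    have ho : IsOpen (Points.ofPt p ⁻¹' O) := hO.preimage (Points.continuous_ofPt p)
    obtain ⟨A, hA, hwA, hAO⟩ := exists_isAffineOpen_mem_and_subset (x := w)
      (U := ⟨_, ho⟩) (show Points.ofPt p w ∈ O by rw [hw]; exact x.2)
    refine ⟨Over.mk (A.ι ≫ W.hom), (yon S).map (Over.homMk A.ι rfl : Over.mk (A.ι ≫ W.hom) ⟶ W) ≫ p, hA,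
      repWith_comp ((repWith_yon_map_iff _ _).2 (inferInstanceAs (Etale A.ι))) pe,
      ⟨⟨w, hwA⟩, by rw [ofPt_map_comp]; exact hw⟩, ?_⟩
    rintro _ ⟨y, rfl⟩
    rw [ofPt_map_comp]
    exact hAO y.2
  choose A r hA hr hxr hrO using hloc
  obtain ⟨t, ht⟩ := hOc.elim_finite_subcover (fun x => Set.range (Points.ofPt (r x)))
    (fun x => (isOpenMap_ofPt_of_etale (hr x)).isOpen_range) fun x hx => Set.mem_iUnion.2 ⟨⟨x, hx⟩, hxr ⟨x, hx⟩⟩
  have heq : Points.ofPt a ⁻¹' O = ⋃ x ∈ t, Points.ofPt a ⁻¹' Set.range (Points.ofPt (r x)) := by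
    ext v
    simp only [Set.mem_iUnion, Set.mem_preimage, exists_prop]
    exact ⟨fun h => (Set.mem_iUnion₂.1 (ht h)).imp fun x ⟨hx, hx'⟩ => ⟨hx, hx'⟩, fun ⟨x, _, hx⟩ => hrO x hx⟩
  rw [heq]
  refine t.isCompact_biUnion fun x _ => ?_
  haveI : IsAffine (EtOver.mk (r x) (hr x)).obj.left.left := hA x
  obtain ⟨hc, -⟩ := isQcqsObj_bcObj a ha hqs (EtOver.mk (r x) (hr x))
  let B := EtOver.bcObj ha.1 (EtOver.mk (r x) (hr x))
  haveI : CompactSpace ↥B.obj.left.left := hc
  obtain ⟨p, hp⟩ := (yon S).map_surjective B.obj.hom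
  have sq := EtOver.isPullback_bcObj ha.1 (EtOver.mk (r x) (hr x))
  have : Points.ofPt a ⁻¹' Set.range (Points.ofPt (r x)) = Set.range p.left := by
    ext v
    constructor
    · rintro ⟨z, hz⟩
      obtain ⟨q, hq, -⟩ := exists_of_isPullback sq (x := Points.ofScheme _ v) (y := Points.ofScheme _ z)
        (by rw [← Points.ofPt_eq_map_ofScheme, ← Points.ofPt_eq_map_ofScheme]; exact hz.symm)
      obtain ⟨q, rfl⟩ := (Points.schemeEquiv _).surjective q
      refine ⟨q, (Points.schemeEquiv _).injective ?_⟩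
      refine (map_yon_ofPt p q).symm.trans ?_
      rw [hp]
      exact hq
    · rintro ⟨q, rfl⟩
      refine ⟨(EtOver.bcπ ha.1 (EtOver.mk (r x) (hr x))).left q, ?_⟩
      exact (ofPt_map_comp _ _ _).symm.trans
        ((congrArg (fun m => Points.ofPt m q) ((congrArg (· ≫ a) hp).trans sq.w).symm).trans (ofPt_map_comp _ _ _))
  rw [this]
  exact isCompact_range p.left.continuous

include hqs in
theorem finite_chart {O : Set (Points X)} (hO : IsOpen O)
    (hstep : ∀ (T : Over S) (γ : (yon S).obj T ⟶ X),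
      (∀ t, Points.ofPt γ t ∈ O ∪ Set.range (Points.ofPt a) ∧ Points.ofPt γ t ∉ O) →
        ∃! l : T ⟶ U, (yon S).map l ≫ a = γ)
    (hk : ∀ B : EtOver ((yon S).obj U), (∀ x, Points.ofPt (B.obj.hom ≫ a) x ∈ O) → Killed a ha M n B)
    (e : EtOver ((yon S).obj U)) (hee : IsAffine e.obj.left.left) :
    Module.Finite (Ob (OEt X) ((EtOver.postcomp a (isEtaleMor_of_repWith a ha)).obj e))
      (Sec (O := OEt X) (subM a ha M n) ((EtOver.postcomp a (isEtaleMor_of_repWith a ha)).obj e)) := by
  classical
  let he := isEtaleMor_of_repWith a ha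
  haveI := isQuasicoherent_resM a ha M
  let E := (EtOver.postcomp a he).obj e
  haveI : IsAffine E.obj.left.left := hee
  let V := fun v : ↥n => mres (O := OEt ((yon S).obj U)) (resM a ha M) ((htopU U).from e) v.1
  let L := app (O := OEt X) (subι a ha M n) E
  let N : Submodule (Ob (OEt X) E) (Sec (O := OEt X) M E) := Submodule.span (Ob (OEt X) E) (Set.range V)
  have hL : ∀ x, L x ∈ N := by
    intro x
    let π := cokernel.π (genMap a ha M n)
    have hx : app (O := OEt ((yon S).obj U)) π e (L x) = 0 :=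
      congrArg (fun ψ => app (O := OEt ((yon S).obj U)) ψ e x)
        ((res_comp_testMap a ha M n (subι a ha M n)).1 (subι_testMap a ha M n))
    obtain ⟨k, hk'⟩ := exact_kernel (O := OEt ((yon S).obj U)) π e _ hx
    let T : ShortComplex (ModEt ((yon S).obj U)) :=
      ShortComplex.mk (genMap a ha M n) π (cokernel.condition _)
    haveI : Epi (kernel.lift T.g T.f T.zero) :=
      T.exact_iff_epi_kernel_lift.1 (ShortComplex.exact_of_g_is_cokernel T (cokernelIsCokernel _))
    let T' : ShortComplex (ModEt ((yon S).obj U)) := ShortComplex.mk (kernel.ι π) π (kernel.condition _)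
    haveI : Mono T'.f := inferInstanceAs (Mono (kernel.ι π))
    obtain ⟨y, hy⟩ := surjective_app_of_epi (O := OEt ((yon S).obj U)) (affEt _) (kernel.lift T.g T.f T.zero) hee
      (good_free _ hee) (good_left (O := OEt ((yon S).obj U)) (affEt _) (T := T')
        (ShortComplex.exact_of_f_is_kernel T' (kernelIsKernel _)) hee
        (good_of_isQuasicoherent _ hee) (good_cokernel a ha M n hee)) k
    let κ : (↥n →₀ Ob (OEt ((yon S).obj U)) e) →ₗ[Ob (OEt ((yon S).obj U)) e]
        Sec (O := OEt ((yon S).obj U)) (freeModEt ((yon S).obj U) ↥n) e :=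
      Finsupp.linearCombination _ fun v => secAt (SheafOfModules.freeSection v) e
    obtain ⟨c, hc⟩ := surjective_kappa κ
      (bijective_theta_free (O := OEt ((yon S).obj U)) (affEt _) ↥n (Over.mk (𝟙 e)) hee).2 y
    have hcomp : (app (O := OEt ((yon S).obj U)) (genMap a ha M n) e).comp κ =
        Finsupp.linearCombination (Ob (OEt ((yon S).obj U)) e) V := by
      refine Finsupp.lhom_ext fun v r => ?_
      show app _ e (Finsupp.linearCombination (Ob (OEt ((yon S).obj U)) e) _ (Finsupp.single v r)) = _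
      rw [Finsupp.linearCombination_single, Finsupp.linearCombination_single, map_smul, app_genMap_free]
    have hmem : app (O := OEt ((yon S).obj U)) (genMap a ha M n) e y ∈
        Submodule.span (Ob (OEt ((yon S).obj U)) e) (Set.range V) := by
      rw [← hc, ← LinearMap.comp_apply, hcomp, ← Finsupp.range_linearCombination]
      exact LinearMap.mem_range_self _ c
    have hLx : L x = app (O := OEt ((yon S).obj U)) (genMap a ha M n) e y := by
      rw [← hk', ← hy, ← app_comp]
      exact congrArg (fun ψ => app (O := OEt ((yon S).obj U)) ψ e y) (kernel.lift_ι _ _ _)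
    rw [hLx]
    exact hmem
  have hV : ∀ v : ↥n, ∃ y, L y = V v := fun v => by
    refine exact_kernel (O := OEt X) (testMap a ha M n) E (V v) ?_
    let B := EtOver.bcObj ha.1 E
    show app (O := OEt ((yon S).obj U)) (cokernel.π (genMap a ha M n)) B
      (app (O := OEt X) ((resPushAdj ha.1 he).unit.app M) E (V v)) = 0
    let d : e ⟶ B := (postAdj ha.1 he).unit.app e
    let Wf : Option {z : ↥B.obj.left.left // Points.ofPt (B.obj.hom ≫ a) z ∈ O} → EtOver ((yon S).obj U) :=
      fun o => o.elim e fun z => opensObj B ⟨_, hO.preimage (Points.continuous_ofPt (B.obj.hom ≫ a))⟩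
    let wf : ∀ o, Wf o ⟶ B := fun o => match o with
      | none => d
      | some z => opensInc B _
    refine sec_ext_fam (O := OEt ((yon S).obj U)) _ wf (ofArrows_mem_etTop _ _ fun z => ?_) fun o => ?_
    · by_cases hz : Points.ofPt (B.obj.hom ≫ a) z ∈ O
      · exact ⟨some ⟨z, hz⟩, ⟨z, hz⟩, rfl⟩
      · refine ⟨none, (EtOver.bcπ ha.1 E).left z, ?_⟩
        let T : Over S := Over.mk (B.obj.left.left.fromSpecResidueField z ≫ B.obj.left.hom)
        let pt : T ⟶ B.obj.left := Over.homMk (B.obj.left.left.fromSpecResidueField z) rfl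
        obtain ⟨l₁, hl₁⟩ := (yon S).map_surjective ((yon S).map pt ≫ B.obj.hom)
        obtain ⟨l₂, hl₂⟩ := (yon S).map_surjective ((yon S).map (pt ≫ EtOver.bcπ ha.1 E) ≫ e.obj.hom)
        have hγ : ((yon S).map pt ≫ B.obj.hom) ≫ a = ((yon S).map (pt ≫ EtOver.bcπ ha.1 E) ≫ e.obj.hom) ≫ a := by
          rw [Category.assoc, Category.assoc, (EtOver.isPullback_bcObj ha.1 E).w, Functor.map_comp, Category.assoc]
          rfl
        have hpts : ∀ t, Points.ofPt ((yon S).map l₁ ≫ a) t ∈ O ∪ Set.range (Points.ofPt a) ∧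
            Points.ofPt ((yon S).map l₁ ≫ a) t ∉ O := fun t => by
          refine ⟨Or.inr ⟨l₁.left t, (ofPt_map_comp _ _ _).symm⟩, ?_⟩
          rw [hl₁, Category.assoc, ofPt_map_comp]
          have : pt.left t = z := B.obj.left.left.fromSpecResidueField_apply z t
          rw [this]
          exact hz
        obtain ⟨l, -, hlu⟩ := hstep T ((yon S).map l₁ ≫ a) hpts
        have hll : l₁ = l₂ := (hlu l₁ rfl).trans (hlu l₂ (by
          change (yon S).map l₂ ≫ a = (yon S).map l₁ ≫ a
          rw [hl₂, hl₁]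
          exact hγ.symm)).symm
        have hpd : pt = pt ≫ EtOver.bcπ ha.1 E ≫ unitHom ha.1 e := by
          refine ha.1.hom_ext ?_ ?_
          · simp only [Functor.map_comp, Category.assoc]
            rw [unitHom_fst ha.1 e, ← Category.assoc ((yon S).map pt), ← Functor.map_comp, ← hl₂, ← hll, hl₁]
            rfl
          · simp only [Category.assoc]
            rw [unitHom_snd ha.1 e]
            exact (congrArg (pt ≫ ·) (Category.comp_id _).symm)
        have := congrArg (fun m => m.left (IsLocalRing.closedPoint (B.obj.left.left.residueField z))) hpd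
        simp only [Over.comp_left, Scheme.Hom.comp_apply] at this
        rw [show pt.left (IsLocalRing.closedPoint _) = z from B.obj.left.left.fromSpecResidueField_apply z _] at this
        exact this.symm
    · rw [map_zero, ← app_mres]
      match o with
      | some z =>
        refine hk _ (fun x => ?_) _
        change Points.ofPt (((yon S).map (Over.homMk (Scheme.Opens.ι _) rfl : Over.mk (_ ≫ B.obj.left.hom) ⟶ B.obj.left) ≫
          B.obj.hom) ≫ a) x ∈ O
        rw [Category.assoc, ofPt_map_comp]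
        exact x.2
      | none =>
        exact (congrArg (app (O := OEt ((yon S).obj U)) (cokernel.π (genMap a ha M n)) e) (mres_unit a ha M e (V v))).trans
          (mres_gen a ha M n v.2 e)
  choose y hy using hV
  refine ⟨⟨(Finset.univ : Finset ↥n).image y, eq_top_iff.2 fun x _ => ?_⟩⟩
  have hmem : L x ∈ (Submodule.span (Ob (OEt X) E)
      (((Finset.univ : Finset ↥n).image y : Finset _) : Set _)).map L := by
    rw [Submodule.map_span, Finset.coe_image, Finset.coe_univ, Set.image_univ, ← Set.range_comp,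
      show ⇑L ∘ y = V from funext hy]
    exact hL x
  obtain ⟨z, hz, hzx⟩ := hmem
  rw [← app_injective (O := OEt X) (subι a ha M n) E hzx]
  exact hz

include hqs in
/-- A module finite over an open has a submodule, unchanged over the open, which is finite one step further. -/
theorem exists_step (hX : IsAlgSpace X) {O : Set (Points X)} (hO : IsOpen O) (hOc : IsCompact O)
    (hstep : ∀ (T : Over S) (γ : (yon S).obj T ⟶ X),
      (∀ t, Points.ofPt γ t ∈ O ∪ Set.range (Points.ofPt a) ∧ Points.ofPt γ t ∉ O) →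
        ∃! l : T ⟶ U, (yon S).map l ≫ a = γ)
    (hM : FinOn M O) (n₁ : Finset (Sec (O := OEt ((yon S).obj U)) (resM a ha M) (topU U))) :
    ∃ n, n₁ ⊆ n ∧ FinOn (subM a ha M n) (O ∪ Set.range (Points.ofPt a)) ∧
      ∀ E : EtOver X, IsAffine E.obj.left.left → Set.range (Points.ofPt E.obj.hom) ⊆ O →
        Function.Surjective (app (O := OEt X) (subι a ha M n) E) := by
  classical
  have hcpre := compact_preimage a ha hqs hX hO hOc
  let he := isEtaleMor_of_repWith a ha
  haveI := isQuasicoherent_resM a ha M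
  have htop : IsAffine (topU U).obj.left.left := ‹IsAffine U.left›
  -- affine opens of the chart covering the preimage
  have hopen : IsOpen (Points.ofPt a ⁻¹' O) := hO.preimage (Points.continuous_ofPt a)
  choose W hW hxW hWO using fun x : ↥(Points.ofPt a ⁻¹' O) => exists_isAffineOpen_mem_and_subset (x := x.1)
    (U := ⟨_, hopen⟩) x.2
  obtain ⟨t, ht⟩ := hcpre.elim_finite_subcover (fun x => (W x : Set ↥U.left)) (fun x => (W x).2)
    fun x hx => Set.mem_iUnion.2 ⟨⟨x, hx⟩, hxW ⟨x, hx⟩⟩
  let eb : ↥t → EtOver ((yon S).obj U) := fun b => opensObj (topU U) (W b.1)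
  have hfin : ∀ b, Module.Finite (Ob (OEt ((yon S).obj U)) (eb b))
      (Sec (O := OEt ((yon S).obj U)) (resM a ha M) (eb b)) := fun b => by
    refine hM ((EtOver.postcomp a he).obj (eb b)) (hW b.1) ?_
    rintro _ ⟨y, rfl⟩
    change Points.ofPt (((yon S).map (Over.homMk (W b.1).ι rfl : Over.mk ((W b.1).ι ≫ U.hom) ⟶ U) ≫ 𝟙 _) ≫ a) y ∈ O
    rw [Category.comp_id, ofPt_map_comp]
    exact hWO b.1 y.2
  choose s hs using fun b => ((hfin b).fg_top :
    (⊤ : Submodule (Ob (OEt ((yon S).obj U)) (eb b)) (Sec (O := OEt ((yon S).obj U)) (resM a ha M) (eb b))).FG)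
  choose c hc using fun b (x : Sec (O := OEt ((yon S).obj U)) (resM a ha M) (eb b)) =>
    (good_of_isQuasicoherent (resM a ha M) htop (Over.mk ((htopU U).from (eb b))) (hW b.1)).2 x
  choose F hF using fun b x => TensorProduct.exists_finset (c b x)
  let n : Finset (Sec (O := OEt ((yon S).obj U)) (resM a ha M) (topU U)) :=
    n₁ ∪ Finset.univ.biUnion fun b => (s b).biUnion fun x => (F b x).image Prod.snd
  have hkb : ∀ b, Killed a ha M n (eb b) := fun b => by
    have h0 : app (O := OEt ((yon S).obj U)) (cokernel.π (genMap a ha M n)) (eb b) = 0 :=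
      LinearMap.ext_on (hs b) fun x hx => by
        rw [LinearMap.zero_apply, ← hc b x]
        refine (app_theta (O := OEt ((yon S).obj U)) _ LinearMap.id (Over.mk ((htopU U).from (eb b))) (c b x)).trans ?_
        rw [hF b x, map_sum]
        refine Finset.sum_eq_zero fun q hq => ?_
        rw [theta_tmul, LinearMap.comp_apply, LinearMap.id_apply, quot_gen a ha M n (Finset.mem_union_right _
          (Finset.mem_biUnion.2 ⟨b, Finset.mem_univ b, Finset.mem_biUnion.2 ⟨x, hx, Finset.mem_image_of_mem _ hq⟩⟩)),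
          map_zero, smul_zero]
    intro y
    rw [h0]
    rfl
  have hk : ∀ (B : EtOver ((yon S).obj U)), (∀ x, Points.ofPt (B.obj.hom ≫ a) x ∈ O) → Killed a ha M n B :=
    fun B hB => by
      obtain ⟨p, hp⟩ := (yon S).map_surjective B.obj.hom
      refine killed_of_opens a ha M n (fun b : ↥t => W b.1) (fun b => hW b.1) hkb p hp fun x => ?_
      have h : p.left x ∈ Points.ofPt a ⁻¹' O := by
        rw [Set.mem_preimage, ← ofPt_map_comp, hp]
        exact hB x
      obtain ⟨b, hb, hxb⟩ := Set.mem_iUnion₂.1 (ht h)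
      exact ⟨⟨b, hb⟩, hxb⟩
  have hsur : ∀ E : EtOver X, IsAffine E.obj.left.left → Set.range (Points.ofPt E.obj.hom) ⊆ O →
      Function.Surjective (app (O := OEt X) (subι a ha M n) E) := fun E hE hEO x => by
    refine exact_kernel (O := OEt X) (testMap a ha M n) E x ?_
    let B := EtOver.bcObj ha.1 E
    show app (O := OEt ((yon S).obj U)) (cokernel.π (genMap a ha M n)) B
      (app (O := OEt X) ((resPushAdj ha.1 he).unit.app M) E x) = 0
    refine hk B (fun z => hEO ⟨(EtOver.bcπ ha.1 E).left z, ?_⟩) _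
    rw [← ofPt_map_comp]
    exact congrArg (fun m => Points.ofPt m z) (EtOver.isPullback_bcObj ha.1 E).w.symm
  refine ⟨n, Finset.subset_union_left, ?_, hsur⟩
  -- finiteness on objects over the chart
  have hchart := fun e hee => finite_chart a ha M n hqs hO hstep hk e hee
  intro E hE hEO
  let B := EtOver.bcObj ha.1 E
  let he' : IsOpen (Points.ofPt E.obj.hom ⁻¹' O) := hO.preimage (Points.continuous_ofPt _)
  choose P hP hxP hPO using fun x : ↥(Points.ofPt E.obj.hom ⁻¹' O) => exists_isAffineOpen_mem_and_subset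
    (x := x.1) (U := ⟨_, he'⟩) x.2
  choose Q hQ hxQ _ using fun b : ↥B.obj.left.left => exists_isAffineOpen_mem_and_subset (x := b)
    (U := (⊤ : B.obj.left.left.Opens)) trivial
  let Zf : ↥(Points.ofPt E.obj.hom ⁻¹' O) ⊕ ↥B.obj.left.left → EtOver X :=
    Sum.elim (fun x => opensObj E (P x)) fun b => (EtOver.postcomp a he).obj (opensObj B (Q b))
  let zf : ∀ o, Zf o ⟶ E := fun o => match o with
    | Sum.inl x => opensInc E (P x)
    | Sum.inr b => (EtOver.postcomp a he).map (opensInc B (Q b)) ≫ (postAdj ha.1 he).counit.app E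
  refine finite_of_cover (O := OEt X) (affEt X) hE (good_subM a ha M n hqs hE) (T := Sieve.ofArrows Zf zf) ?_ ?_
  · refine ofArrows_mem_etTop _ _ fun x => ?_
    by_cases hx : Points.ofPt E.obj.hom x ∈ O
    · exact ⟨Sum.inl ⟨x, hx⟩, ⟨x, hxP ⟨x, hx⟩⟩, rfl⟩
    · obtain ⟨v, hv⟩ := (hEO ⟨x, rfl⟩).resolve_left hx
      obtain ⟨q, -, hq⟩ := exists_of_isPullback (EtOver.isPullback_bcObj ha.1 E) (x := Points.ofScheme _ v)
        (y := Points.ofScheme _ x) (by rw [← Points.ofPt_eq_map_ofScheme, ← Points.ofPt_eq_map_ofScheme]; exact hv)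
      obtain ⟨b, rfl⟩ := (Points.schemeEquiv _).surjective q
      refine ⟨Sum.inr b, ⟨b, hxQ b⟩, ?_⟩
      change (EtOver.bcπ ha.1 E).left b = x
      exact (Points.schemeEquiv _).injective ((map_yon_ofPt _ _).symm.trans hq)
  · intro Z g hZ hg
    obtain ⟨_, g', _, ⟨o⟩, -⟩ := hg
    match o with
    | Sum.inr b =>
      obtain ⟨V, hV⟩ := exists_over_lift he (Over.mk g')
      obtain rfl : (EtOver.postcomp a he).obj V.left = Z := congrArg (fun W : Over _ => W.left) hV
      exact hchart V.left hZ
    | Sum.inl x =>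
      have hZO : Set.range (Points.ofPt Z.obj.hom) ⊆ O := by
        rintro _ ⟨z, rfl⟩
        have h : Points.ofPt (opensObj E (P x)).obj.hom (g'.hom.left.left z) ∈ O := by
          change Points.ofPt ((yon S).map (Over.homMk (P x).ι rfl : Over.mk ((P x).ι ≫ E.obj.left.hom) ⟶ E.obj.left) ≫
            E.obj.hom) (g'.hom.left.left z) ∈ O
          rw [ofPt_map_comp]
          exact hPO x (g'.hom.left.left z).2
        have e' := (ofPt_map_comp g'.hom.left (opensObj E (P x)).obj.hom z).symm.trans
          (congrArg (fun m => Points.ofPt m z) (EtOver.w g'))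
        exact e' ▸ h
      haveI := hM Z hZ hZO
      exact Module.Finite.equiv (LinearEquiv.ofBijective (app (O := OEt X) (subι a ha M n) Z)
        ⟨app_injective (O := OEt X) _ Z, hsur Z hZ hZO⟩).symm

omit a ha M n [M.IsQuasicoherent] [IsAffine U.left] in
include hqs in
/-- A module finite over a compact open has, for each section, a submodule of finite type containing the section and
unchanged over the open. -/
theorem exists_finiteType_submodule (hX : IsAlgSpace X) (hqc : IsQuasiCompactSp X) (P₀ : ModEt X)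
    [hP₀ : P₀.IsQuasicoherent] {O₀ : Set (Points X)} (hO₀ : IsOpen O₀) (hO₀c : IsCompact O₀) (hf : FinOn P₀ O₀)
    {E₀ : EtOver X} (hE₀ : IsAffine E₀.obj.left.left) (x : Sec (O := OEt X) P₀ E₀) :
    ∃ (Q : ModEt X) (i : Q ⟶ P₀), Mono i ∧ Q.IsQuasicoherent ∧ Q.IsFiniteType ∧
      (∃ y, app (O := OEt X) i E₀ y = x) ∧
      ∀ E : EtOver X, IsAffine E.obj.left.left → Set.range (Points.ofPt E.obj.hom) ⊆ O₀ →
        Function.Surjective (app (O := OEt X) i E) := by
  classical
  have hreach : Relation.ReflTransGen (ElemStep (X := X)) O₀ Set.univ := by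
    have h := elemReach_union (elemReach_univ hX hqc hqs) hO₀
    rwa [Set.empty_union, Set.univ_union] at h
  have key : ∀ O', Relation.ReflTransGen (ElemStep (X := X)) O₀ O' →
      ∃ (Q : ModEt X) (i : Q ⟶ P₀), Mono i ∧ Q.IsQuasicoherent ∧ FinOn Q O' ∧
        (∃ y, app (O := OEt X) i E₀ y = x) ∧ O₀ ⊆ O' ∧
        ∀ E : EtOver X, IsAffine E.obj.left.left → Set.range (Points.ofPt E.obj.hom) ⊆ O₀ →
          Function.Surjective (app (O := OEt X) i E) := by
    intro O' h
    induction h with
    | refl => exact ⟨P₀, 𝟙 P₀, inferInstance, hP₀, hf, ⟨x, rfl⟩, le_rfl, fun E _ _ y => ⟨y, rfl⟩⟩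
    | @tail A A' hA hstep ih =>
      obtain ⟨Q, i, hi, hQ, hfQ, ⟨y, hy⟩, hsub, hsur⟩ := ih
      obtain ⟨hAo, V, f, hV, hfe, rfl, hl⟩ := hstep
      haveI := hV
      haveI := hQ
      haveI := hi
      obtain ⟨n₁, z₁, hz₁⟩ := exists_subM_le f hfe Q hqs hE₀ y
      obtain ⟨n, hn, hfin, hs⟩ := exists_step f hfe Q hqs hX hAo (isCompact_of_reach hA hO₀c) hl hfQ n₁
      refine ⟨subM f hfe Q n, subι f hfe Q n ≫ i, mono_comp _ _,
        isQuasicoherent_of_good _ fun E hE => good_subM f hfe Q n hqs hE, hfin, ?_,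
        hsub.trans Set.subset_union_left, fun E hE hEO q => ?_⟩
      · refine ⟨app (O := OEt X) (kernel.lift (testMap f hfe Q n) _ (subι_testMap_of_subset f hfe Q n hn)) E₀ z₁, ?_⟩
        refine (app_comp (O := OEt X) _ _ _ _).trans ?_
        refine (congrArg _ ((app_comp (O := OEt X) _ _ _ _).symm.trans
          ((congrArg (fun φ => app (O := OEt X) φ E₀ z₁) (kernel.lift_ι _ _ _)).trans hz₁))).trans hy
      · obtain ⟨q', rfl⟩ := hsur E hE hEO q
        obtain ⟨q'', rfl⟩ := hs E hE (hEO.trans hsub) q'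
        exact ⟨q'', app_comp _ _ _ _⟩
  obtain ⟨Q, i, hi, hQ, hfQ, hy, -, hsur⟩ := key _ hreach
  exact ⟨Q, i, hi, hQ, isFiniteType_of_good Q (fun E hE => good_of_isQuasicoherent Q hE)
    (fun E hE => hfQ E hE (Set.subset_univ _)), hy, hsur⟩

end GrothLib.AlgSp.QCohEt
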