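import Groth.Agent.Lib.AlgSp.PCohStep
import Groth.Agent.Lib.AlgSp.QCohPerf
import Groth.Agent.Lib.AlgSp.QCohFP
import Groth.Agent.S12044

/-!
# Strictly perfect approximations on a site with an affine final object

* `finite_homology`: homology of strictly perfect complexes has finite sections.
* `exists_approx`: a complex with finite sections of homology on the final object is approximated by
  strictly perfect complexes.
-/

set_option autoImplicit false
set_option backward.isDefEq.respectTransparency false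
universe u

open CategoryTheory CategoryTheory.Limits HomologicalComplex Opposite ZeroObject

attribute [local instance] HasDerivedCategory.standard

noncomputable section

namespace GrothLib.AlgSp.QCohEt

open GrothLib.AlgSp.PCohStep

variable {C : Type (u + 1)} [Category.{u} C] {J : GrothendieckTopology C} {O : Sheaf J CommRingCat.{u + 1}}
  [HasSheafify J AddCommGrpCat.{u + 1}] [J.WEqualsLocallyBijective AddCommGrpCat.{u + 1}]
  (A : AffSite O) {E : C} (hE : A.Aff E)

include hE

theorem finite_free (I : Type (u + 1)) [Finite I] :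
    Module.Finite (Ob O E) (Sec (SheafOfModules.free (R := RR O) I) E) :=
  Module.Finite.of_surjective _ (Groth.Agent.S12044.bijective_kappa_free A I hE).2

theorem finite_finFreeSummand {M : SheafOfModules.{u + 1} (RR O)} (hM : DCoh.IsFinFreeSummandMod (RR O) M) :
    Module.Finite (Ob O E) (Sec M E) := by
  obtain ⟨n, i, p, hip⟩ := hM
  haveI := finite_free A hE (ULift.{u + 1} (Fin n))
  refine Module.Finite.of_surjective (app p E) fun x => ⟨app i E x, ?_⟩
  exact (app_comp i p E x).symm.trans (congrArg (fun φ => app φ E x) hip)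

theorem good_cycles (K : CochainComplex (SheafOfModules.{u + 1} (RR O)) ℤ) (h : ∀ n, Good (K.X n) A E) (n : ℤ) :
    Good (K.cycles n) A E := by
  let T : ShortComplex (SheafOfModules.{u + 1} (RR O)) :=
    ShortComplex.mk (K.iCycles n) (K.d n (n + 1)) (K.iCycles_d n (n + 1))
  haveI : Mono T.f := inferInstanceAs (Mono (K.iCycles n))
  exact good_left (S := A) (ShortComplex.exact_of_f_is_kernel T (K.cyclesIsKernel n (n + 1) (by simp))) hE (h n)
    (h (n + 1))

theorem surjective_homologyπ (K : CochainComplex (SheafOfModules.{u + 1} (RR O)) ℤ) (h : ∀ n, Good (K.X n) A E)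
    (n : ℤ) : Function.Surjective (app (K.homologyπ n) E) :=
  surjective_app_of_epi A (K.homologyπ n) hE (good_cycles A hE K h n) (good_homology A hE K h n)

theorem finite_homology [IsNoetherianRing (Ob O E)] (P : CochainComplex (SheafOfModules.{u + 1} (RR O)) ℤ)
    (hP : ∀ n, DCoh.IsFinFreeSummandMod (RR O) (P.X n)) (n : ℤ) :
    Module.Finite (Ob O E) (Sec (P.homology n) E) := by
  haveI := finite_finFreeSummand A hE (hP n)
  haveI : Module.Finite (Ob O E) (Sec (P.cycles n) E) :=
    Module.Finite.of_injective (app (P.iCycles n) E) (app_injective (P.iCycles n) E)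
  exact Module.Finite.of_surjective _ (surjective_homologyπ A hE P (fun k => good_finFreeSummand A hE (hP k)) n)

omit hE

variable {top : C} (ht : IsTerminal top)

include ht in
theorem sections_ext {M : SheafOfModules.{u + 1} (RR O)} {s t : M.sections} (h : secAt s top = secAt t top) : s = t :=
  Subtype.ext (funext fun V => (mres_secAt s (ht.from V.unop)).symm.trans
    ((congrArg (mres M (ht.from V.unop)) h).trans (mres_secAt t (ht.from V.unop))))

include ht in
/-- Maps out of free modules lift along maps which hit the values on the final object. -/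
theorem exists_free_lift {M N : SheafOfModules.{u + 1} (RR O)} (π : M ⟶ N) {I : Type (u + 1)}
    (h : SheafOfModules.free (R := RR O) I ⟶ N)
    (hs : ∀ i, ∃ x : Sec M top, app π top x = secAt (N.freeHomEquiv h i) top) : ∃ z, z ≫ π = h := by
  choose x hx using hs
  refine ⟨M.freeHomEquiv.symm fun i => secOfTop ht M (x i), N.freeHomEquiv.injective (funext fun i => ?_)⟩
  rw [SheafOfModules.freeHomEquiv_comp_apply, Equiv.apply_symm_apply]
  refine sections_ext ht ?_
  rw [secAt_sectionsMap, secAt_secOfTop, ht.hom_ext (ht.from top) (𝟙 top), mres_id]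
  exact hx i

variable (hcov : AffCovers A) (htop : A.Aff top)

include ht hcov htop in
/-- Good modules with finite sections on the final object are quotients of finite free modules. -/
theorem exists_free_epi {M : SheafOfModules.{u + 1} (RR O)} (hgood : Good M A top)
    [Module.Finite (Ob O top) (Sec M top)] :
    ∃ (n : ℕ) (π : SheafOfModules.free (R := RR O) (ULift.{u + 1} (Fin n)) ⟶ M), Epi π := by
  obtain ⟨n, v, hv⟩ := Module.Finite.exists_fin (R := Ob O top) (M := Sec M top)
  let w : ULift.{u + 1} (Fin n) → Sec M top := fun i => v i.down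
  have hw : Submodule.span (Ob O top) (Set.range w) = ⊤ := by
    rw [← hv]
    congr 1
    exact Set.ext fun x => ⟨fun ⟨i, hi⟩ => ⟨i.down, hi⟩, fun ⟨i, hi⟩ => ⟨⟨i⟩, hi⟩⟩
  obtain ⟨G, -⟩ := exists_generators A hcov ht hgood w hw
  let π : SheafOfModules.free (R := RR O) (ULift.{u + 1} (Fin n)) ⟶ M :=
    M.freeHomEquiv.symm fun i => secOfTop ht M (w i)
  have hr : (⊤ : Submodule (Ob O top) (Sec M top)) ≤ LinearMap.range (app π top) := by
    rw [← hw, Submodule.span_le]
    rintro _ ⟨i, rfl⟩
    refine ⟨secAt (SheafOfModules.freeSection i) top, (app_secAt_free _ i top).trans ?_⟩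
    rw [secAt_secOfTop, ht.hom_ext (ht.from top) (𝟙 top), mres_id]
  obtain ⟨z, hz⟩ := exists_free_lift ht π G.π fun i => hr trivial
  haveI : Epi (z ≫ π) := by rw [hz]; exact G.epi
  exact ⟨n, π, epi_of_epi z π⟩

/-- The finite free modules. -/
def IsFinFree (F : SheafOfModules.{u + 1} (RR O)) : Prop :=
  ∃ n : ℕ, F = SheafOfModules.free (R := RR O) (ULift.{u + 1} (Fin n))

theorem summand_of_free (F : SheafOfModules.{u + 1} (RR O)) (h : IsFinFree F) :
    DCoh.IsFinFreeSummandMod (RR O) F := by
  obtain ⟨n, rfl⟩ := h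
  exact ⟨n, 𝟙 _, 𝟙 _, Category.id_comp _⟩

theorem summand_of_isZero (M : SheafOfModules.{u + 1} (RR O)) (h : IsZero M) :
    DCoh.IsFinFreeSummandMod (RR O) M := ⟨0, 0, 0, h.eq_of_src _ _⟩

theorem summand_of_iso (F M : SheafOfModules.{u + 1} (RR O)) (h : DCoh.IsFinFreeSummandMod (RR O) F)
    (e : Nonempty (F ≅ M)) : DCoh.IsFinFreeSummandMod (RR O) M := by
  obtain ⟨n, i, p, hip⟩ := h
  obtain ⟨e⟩ := e
  exact ⟨n, e.inv ≫ i, p ≫ e.hom, by rw [Category.assoc, reassoc_of% hip, e.inv_hom_id]⟩

theorem summand_biprod (F M : SheafOfModules.{u + 1} (RR O)) (hF : DCoh.IsFinFreeSummandMod (RR O) F)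
    (hM : DCoh.IsFinFreeSummandMod (RR O) M) : DCoh.IsFinFreeSummandMod (RR O) (F ⊞ M) := by
  obtain ⟨m, i, p, hip⟩ := hF
  obtain ⟨n, j, q, hjq⟩ := hM
  let l : SheafOfModules.free (R := RR O) (ULift.{u + 1} (Fin m)) ⟶
      SheafOfModules.free (R := RR O) (ULift.{u + 1} (Fin (m + n))) :=
    Cofan.IsColimit.desc (SheafOfModules.isColimitFreeCofan _) fun k => SheafOfModules.ιFree (ULift.up (Fin.castAdd n k.down))
  let r : SheafOfModules.free (R := RR O) (ULift.{u + 1} (Fin n)) ⟶
      SheafOfModules.free (R := RR O) (ULift.{u + 1} (Fin (m + n))) :=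
    Cofan.IsColimit.desc (SheafOfModules.isColimitFreeCofan _) fun k => SheafOfModules.ιFree (ULift.up (Fin.natAdd m k.down))
  let t : SheafOfModules.free (R := RR O) (ULift.{u + 1} (Fin (m + n))) ⟶ F ⊞ M :=
    Cofan.IsColimit.desc (SheafOfModules.isColimitFreeCofan _) fun k =>
      Fin.addCases (fun a => SheafOfModules.ιFree (ULift.up.{u + 1} a) ≫ p ≫ biprod.inl)
        (fun b => SheafOfModules.ιFree (ULift.up.{u + 1} b) ≫ q ≫ biprod.inr) k.down
  have hl : l ≫ t = p ≫ biprod.inl := by
    refine Cofan.IsColimit.hom_ext (SheafOfModules.isColimitFreeCofan _) _ _ fun k => ?_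
    rw [Cofan.IsColimit.fac_assoc]
    refine (Cofan.IsColimit.fac (SheafOfModules.isColimitFreeCofan _) _ _).trans ?_
    exact Fin.addCases_left _
  have hr : r ≫ t = q ≫ biprod.inr := by
    refine Cofan.IsColimit.hom_ext (SheafOfModules.isColimitFreeCofan _) _ _ fun k => ?_
    rw [Cofan.IsColimit.fac_assoc]
    refine (Cofan.IsColimit.fac (SheafOfModules.isColimitFreeCofan _) _ _).trans ?_
    exact Fin.addCases_right _
  refine ⟨m + n, biprod.desc (i ≫ l) (j ≫ r), t, biprod.hom_ext' _ _ ?_ ?_⟩
  · rw [biprod.inl_desc_assoc, Category.assoc, hl, reassoc_of% hip, Category.comp_id]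
  · rw [biprod.inr_desc_assoc, Category.assoc, hr, reassoc_of% hjq, Category.comp_id]

include ht hcov htop in
/-- Strictly perfect approximations. -/
theorem exists_approx [IsNoetherianRing (Ob O top)] (L : CochainComplex (SheafOfModules.{u + 1} (RR O)) ℤ) (m b : ℤ)
    (hgood : ∀ j, Good (L.homology j) A top) (hfin : ∀ j, m ≤ j → Module.Finite (Ob O top) (Sec (L.homology j) top))
    (hzero : ∀ j, b < j → IsZero (L.homology j)) (hsurj : ∀ j, Function.Surjective (app (L.homologyπ j) top))
    (hex : ∀ j, ∀ c : Sec (L.cycles j) top, app (L.homologyπ j) top c = 0 →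
      ∃ w : Sec (L.X (j - 1)) top, app (L.toCycles (j - 1) j) top w = c) :
    ∃ (P : CochainComplex (SheafOfModules.{u + 1} (RR O)) ℤ) (α : P ⟶ L),
      DCoh.IsStrictlyPerfectMod (RR O) P ∧ (∀ j, m < j → IsIso (HQ j α)) ∧ Epi (HQ m α) := by
  let Ap := Approx (fun M : SheafOfModules.{u + 1} (RR O) => DCoh.IsFinFreeSummandMod (RR O) M) L
  suffices H : ∀ d : ℕ, m ≤ max (b + 1) m - d → Nonempty (Ap (max (b + 1) m - d)) by
    obtain ⟨𝒜⟩ := H (max (b + 1) m - m).toNat (by omega)
    obtain ⟨B, hB⟩ := 𝒜.bdd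
    refine ⟨𝒜.P, 𝒜.α, ⟨⟨max (b + 1) m - (max (b + 1) m - m).toNat, B, fun j hj => hj.elim (𝒜.below j) (hB j)⟩,
      𝒜.terms⟩, fun j hj => 𝒜.iso j (by omega), ?_⟩
    have e : max (b + 1) m - ((max (b + 1) m - m).toNat : ℤ) = m := by omega
    exact (show ∀ q r : ℤ, q = r → Epi (HQ q 𝒜.α) → Epi (HQ r 𝒜.α) by
      rintro q r rfl h
      exact h) _ _ e 𝒜.epi
  intro d
  induction d with
  | zero =>
    intro _
    let P₀ : CochainComplex (SheafOfModules.{u + 1} (RR O)) ℤ := 0
    have hP₀ : IsZero P₀ := isZero_zero _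
    have hX : ∀ j, IsZero (P₀.X j) := fun j =>
      Functor.map_isZero (HomologicalComplex.eval _ (ComplexShape.up ℤ) j) hP₀
    have hL : ∀ j, max (b + 1) m - ((0 : ℕ) : ℤ) ≤ j → IsZero ((DerivedCategory.homologyFunctor _ j).obj
        (DerivedCategory.Q.obj L)) := fun j hj => (hzero j (by omega)).of_iso (fac j L)
    refine ⟨{ P := P₀, α := 0, below := fun j _ => hX j, bdd := ⟨0, fun j _ => hX j⟩,
              terms := fun j => summand_of_isZero _ (hX j), iso := fun j hj => ?_, epi := ?_ }⟩
    · exact isIso_of_source_target_iso_zero _ (Functor.map_isZero _ (Functor.map_isZero _ hP₀)).isoZero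
        (hL j hj.le).isoZero
    · exact ⟨fun g h _ => (hL _ le_rfl).eq_of_src g h⟩
  | succ d ih =>
    intro hd
    obtain ⟨𝒜⟩ := ih (by omega)
    have hp : max (b + 1) m - ((d + 1 : ℕ) : ℤ) = max (b + 1) m - (d : ℤ) - 1 := by omega
    rw [hp]
    generalize hq : max (b + 1) m - (d : ℤ) = p at 𝒜 ⊢
    have hPgood : ∀ k, Good (𝒜.P.X k) A top := fun k => good_finFreeSummand A htop (𝒜.terms k)
    refine Approx.step (Fr := IsFinFree) (Tm := fun M : SheafOfModules.{u + 1} (RR O) => DCoh.IsFinFreeSummandMod (RR O) M) summand_of_free summand_of_isZero summand_biprod summand_of_iso 𝒜 ?_ ?_ ?_ ?_ ?_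
    · let gP := good_of_isIso' A htop (fac p 𝒜.P).symm (good_homology A htop 𝒜.P hPgood p)
      let gL := good_of_isIso' A htop (fac p L).symm (hgood p)
      let k := kernel.ι (HQ p 𝒜.α)
      let T : ShortComplex (SheafOfModules.{u + 1} (RR O)) := ShortComplex.mk k (HQ p 𝒜.α) (kernel.condition _)
      haveI : Mono T.f := inferInstanceAs (Mono (kernel.ι (HQ p 𝒜.α)))
      have gK := good_left (S := A) (T := T) (ShortComplex.exact_of_f_is_kernel T (kernelIsKernel _)) htop gP gL
      haveI := finite_homology A htop 𝒜.P 𝒜.terms p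
      haveI : Module.Finite (Ob O top) (Sec (kernel (HQ p 𝒜.α)) top) :=
        Module.Finite.of_injective (app (k ≫ (fac p 𝒜.P).hom) top) (app_injective (k ≫ (fac p 𝒜.P).hom) top)
      obtain ⟨n, π, hπ⟩ := exists_free_epi A ht hcov htop gK
      exact ⟨_, ⟨n, rfl⟩, π, hπ⟩
    · haveI := hfin (p - 1) (by omega)
      obtain ⟨n, π, hπ⟩ := exists_free_epi A ht hcov htop (hgood (p - 1))
      exact ⟨_, ⟨n, rfl⟩, π ≫ (fac (p - 1) L).inv, inferInstance⟩
    · rintro F ⟨n, rfl⟩ h
      exact exists_free_lift ht _ h fun i => surjective_homologyπ A htop 𝒜.P hPgood p _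
    · rintro F ⟨n, rfl⟩ h
      exact exists_free_lift ht _ h fun i => hsurj (p - 1) _
    · rintro F ⟨n, rfl⟩ c hc
      refine exists_free_lift ht _ c fun i => hex p _ ?_
      rw [← secAt_sectionsMap, ← SheafOfModules.freeHomEquiv_comp_apply, hc]
      refine (app_secAt_free _ i top).symm.trans ?_
      rw [Equiv.symm_apply_apply]
      rfl

end GrothLib.AlgSp.QCohEt
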