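import Mathlib.Algebra.Homology.DerivedCategory.HomologySequence
import Mathlib.Algebra.Homology.HomotopyCategory.HomComplexSingle
import Mathlib.Algebra.Homology.SingleHomology
import Mathlib.CategoryTheory.Abelian.Refinements

/-!
# Building bounded complexes of free objects approximating a complex

* `Approx`: a bounded complex with terms in a class, mapping to `L`, iso above `p` and epi at `p`.
* `Approx.step`: one step down.
-/

universe w v u

open CategoryTheory CategoryTheory.Limits CochainComplex HomologicalComplex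

noncomputable section

namespace GrothLib.AlgSp.PCohStep

variable {A : Type u} [Category.{v} A] [Abelian A] [HasDerivedCategory.{w} A]

/-- The homology of a complex, through the derived category. -/
abbrev HQ (j : ℤ) {K L : CochainComplex A ℤ} (α : K ⟶ L) :
    (DerivedCategory.homologyFunctor A j).obj (DerivedCategory.Q.obj K) ⟶
      (DerivedCategory.homologyFunctor A j).obj (DerivedCategory.Q.obj L) :=
  (DerivedCategory.homologyFunctor A j).map (DerivedCategory.Q.map α)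

abbrev fac (j : ℤ) (K : CochainComplex A ℤ) :
    (DerivedCategory.homologyFunctor A j).obj (DerivedCategory.Q.obj K) ≅ K.homology j :=
  (DerivedCategory.homologyFunctorFactors A j).app K

theorem fac_naturality (j : ℤ) {K L : CochainComplex A ℤ} (α : K ⟶ L) :
    HQ j α ≫ (fac j L).hom = (fac j K).hom ≫ homologyMap α j :=
  (DerivedCategory.homologyFunctorFactors A j).hom.naturality α

theorem fac_inv_naturality (j : ℤ) {K L : CochainComplex A ℤ} (α : K ⟶ L) :
    (fac j K).inv ≫ HQ j α = homologyMap α j ≫ (fac j L).inv :=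
  ((DerivedCategory.homologyFunctorFactors A j).inv.naturality α).symm

variable (Fr : A → Prop) (Tm : A → Prop) (hFr : ∀ F : A, Fr F → Tm F) (hZ : ∀ M : A, IsZero M → Tm M)
  (hSum : ∀ F M : A, Tm F → Tm M → Tm (F ⊞ M)) (hTmIso : ∀ (F M : A), Tm F → Nonempty (F ≅ M) → Tm M)

variable (L : CochainComplex A ℤ)

/-- An approximation of `L` down to the degree `p`. -/
structure Approx (p : ℤ) where
  P : CochainComplex A ℤ
  α : P ⟶ L
  below : ∀ j, j < p → IsZero (P.X j)
  bdd : ∃ b : ℤ, ∀ j, b < j → IsZero (P.X j)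
  terms : ∀ j, Tm (P.X j)
  iso : ∀ j, p < j → IsIso (HQ j α)
  epi : Epi (HQ p α)

theorem isZero_HQ_single (X : A) {p j : ℤ} (h : j ≠ p) :
    IsZero ((DerivedCategory.homologyFunctor A j).obj
      (DerivedCategory.Q.obj ((HomologicalComplex.single A (ComplexShape.up ℤ) p).obj X))) :=
  (isZero_single_obj_homology (ComplexShape.up ℤ) p X j h).of_iso (fac j _)

variable {Fr Tm L}

include hFr hZ hSum hTmIso in
/-- One step down. -/
theorem Approx.step {p : ℤ} (𝒜 : Approx Tm L p)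
    (hker : ∃ F : A, Fr F ∧ ∃ u : F ⟶ kernel (HQ p 𝒜.α), Epi u)
    (htgt : ∃ F : A, Fr F ∧ ∃ v : F ⟶ (DerivedCategory.homologyFunctor A (p - 1)).obj (DerivedCategory.Q.obj L), Epi v)
    (hliftP : ∀ F : A, Fr F → ∀ h : F ⟶ 𝒜.P.homology p, ∃ z, z ≫ 𝒜.P.homologyπ p = h)
    (hliftL : ∀ F : A, Fr F → ∀ h : F ⟶ L.homology (p - 1), ∃ z, z ≫ L.homologyπ (p - 1) = h)
    (hprim : ∀ F : A, Fr F → ∀ c : F ⟶ L.cycles p, c ≫ L.homologyπ p = 0 →
      ∃ w : F ⟶ L.X (p - 1), w ≫ L.toCycles (p - 1) p = c) : Nonempty (Approx Tm L (p - 1)) := by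
  obtain ⟨F₁, hF₁, u, hu⟩ := hker
  obtain ⟨F₂, hF₂, v, hv⟩ := htgt
  obtain ⟨zP, hzP⟩ := hliftP F₁ hF₁ (u ≫ kernel.ι _ ≫ (fac p 𝒜.P).hom)
  obtain ⟨zL, hzL⟩ := hliftL F₂ hF₂ (v ≫ (fac (p - 1) L).hom)
  obtain ⟨w, hw⟩ := hprim F₁ hF₁ (zP ≫ cyclesMap 𝒜.α p) (by
    rw [Category.assoc, ← homologyπ_naturality, reassoc_of% hzP, ← fac_naturality, kernel.condition_assoc,
      zero_comp, comp_zero])
  let S₁ : CochainComplex A ℤ := (HomologicalComplex.single A (ComplexShape.up ℤ) p).obj F₁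
  let φ : S₁ ⟶ 𝒜.P := mkHomFromSingle (zP ≫ 𝒜.P.iCycles p) (fun k _ => by rw [Category.assoc, iCycles_d, comp_zero])
  have hcw : w ≫ L.d (p - 1) p = (zP ≫ 𝒜.P.iCycles p) ≫ 𝒜.α.f p := by
    rw [← L.toCycles_i (p - 1) p, reassoc_of% hw, cyclesMap_i, Category.assoc]
  let η : HomComplex.Cochain S₁ L (-1) := HomComplex.Cochain.fromSingleMk w (by omega : p + (-1) = p - 1)
  have heq : HomComplex.δ (-1) 0 η = HomComplex.Cochain.ofHom (φ ≫ 𝒜.α) := by
    show HomComplex.δ (-1) 0 (HomComplex.Cochain.fromSingleMk w _) = _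
    rw [HomComplex.Cochain.δ_fromSingleMk w _ 0 p (add_zero p)]
    apply (HomComplex.Cochain.fromSingleEquiv (add_zero p)).injective
    rw [HomComplex.Cochain.fromSingleEquiv_fromSingleMk]
    show _ = (singleObjXSelf (ComplexShape.up ℤ) p F₁).inv ≫ (HomComplex.Cochain.ofHom (φ ≫ 𝒜.α)).v p p (add_zero p)
    rw [HomComplex.Cochain.ofHom_v, HomologicalComplex.comp_f, mkHomFromSingle_f, Category.assoc, Iso.inv_hom_id_assoc]
    exact hcw
  let P₁ := mappingCone φ
  let α₁ : P₁ ⟶ L := mappingCone.desc φ η 𝒜.α heq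
  let e : 𝒜.P ⟶ P₁ := mappingCone.inr φ
  have he : ∀ j, HQ j e ≫ HQ j α₁ = HQ j 𝒜.α := fun j => by
    rw [← Functor.map_comp, ← Functor.map_comp]
    exact congrArg (fun f => HQ j f) (mappingCone.inr_desc φ η 𝒜.α heq)
  have hT := DerivedCategory.mappingCone_triangle_distinguished φ
  have hepi : ∀ j, j ≠ p - 1 → Epi (HQ j e) := fun j hj =>
    (DerivedCategory.HomologySequence.exact₃ _ hT j (j + 1) rfl).epi_f
      ((isZero_HQ_single F₁ (by omega : j + 1 ≠ p)).eq_of_tgt _ _)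
  have hmono : ∀ j, j ≠ p → Mono (HQ j e) := fun j hj =>
    (DerivedCategory.HomologySequence.exact₂ _ hT j).mono_g ((isZero_HQ_single F₁ hj).eq_of_src _ _)
  have hzero : u ≫ kernel.ι (HQ p 𝒜.α) ≫ HQ p e = 0 := by
    have h1 : (singleObjCyclesSelfIso (ComplexShape.up ℤ) p F₁).inv ≫ cyclesMap φ p = zP := by
      rw [← cancel_mono (𝒜.P.iCycles p), Category.assoc, cyclesMap_i, singleObjCyclesSelfIso_inv_iCycles_assoc,
        mkHomFromSingle_f, Iso.inv_hom_id_assoc]
    have h2 : u ≫ kernel.ι (HQ p 𝒜.α) = ((singleObjCyclesSelfIso (ComplexShape.up ℤ) p F₁).inv ≫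
        S₁.homologyπ p ≫ (fac p S₁).inv) ≫ HQ p φ := by
      simp only [Category.assoc]
      rw [fac_inv_naturality, homologyπ_naturality_assoc, reassoc_of% h1, reassoc_of% hzP, Iso.hom_inv_id,
        Category.comp_id]
    have h3 : HQ p φ ≫ HQ p e = 0 := by
      rw [← Functor.map_comp]
      exact (congrArg (DerivedCategory.homologyFunctor A p).map
        (Pretriangulated.comp_distTriang_mor_zero₁₂ _ hT)).trans (Functor.map_zero _ _ _)
    rw [reassoc_of% h2, h3, comp_zero, comp_zero, comp_zero]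
  have hiso₁ : ∀ j, p - 1 < j → IsIso (HQ j α₁) := fun j hj => by
    haveI := hepi j (by omega)
    by_cases hjp : j = p
    · subst hjp
      haveI : Epi (HQ j α₁) := by
        haveI : Epi (HQ j e ≫ HQ j α₁) := by rw [he]; exact 𝒜.epi
        exact epi_of_epi (HQ j e) _
      haveI : Mono (HQ j α₁) := Preadditive.mono_of_cancel_zero _ fun {Z} g hg => by
        obtain ⟨Z', π, hπ, x, hx⟩ := surjective_up_to_refinements_of_epi (HQ j e) g
        have hx0 : x ≫ HQ j 𝒜.α = 0 := by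
          rw [← he, ← reassoc_of% hx, hg, comp_zero]
        have hker0 : kernel.ι (HQ j 𝒜.α) ≫ HQ j e = 0 := by
          rw [← cancel_epi u, hzero, comp_zero]
        rw [← cancel_epi π, hx, comp_zero, ← kernel.lift_ι (HQ j 𝒜.α) x hx0, Category.assoc, hker0, comp_zero]
      exact isIso_of_mono_of_epi _
    · haveI := hmono j hjp
      haveI : IsIso (HQ j e) := isIso_of_mono_of_epi _
      haveI : IsIso (HQ j e ≫ HQ j α₁) := by rw [he]; exact 𝒜.iso j (by omega)
      exact IsIso.of_isIso_comp_left (HQ j e) _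
  let S₂ : CochainComplex A ℤ := (HomologicalComplex.single A (ComplexShape.up ℤ) (p - 1)).obj F₂
  let β : S₂ ⟶ L := mkHomFromSingle (zL ≫ L.iCycles (p - 1)) (fun k _ => by rw [Category.assoc, iCycles_d, comp_zero])
  let α₂ : P₁ ⊞ S₂ ⟶ L := biprod.desc α₁ β
  have hβ : v = ((singleObjCyclesSelfIso (ComplexShape.up ℤ) (p - 1) F₂).inv ≫
      S₂.homologyπ (p - 1) ≫ (fac (p - 1) S₂).inv) ≫ HQ (p - 1) β := by
    have h1 : (singleObjCyclesSelfIso (ComplexShape.up ℤ) (p - 1) F₂).inv ≫ cyclesMap β (p - 1) = zL := by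
      rw [← cancel_mono (L.iCycles (p - 1)), Category.assoc, cyclesMap_i, singleObjCyclesSelfIso_inv_iCycles_assoc,
        mkHomFromSingle_f, Iso.inv_hom_id_assoc]
    simp only [Category.assoc]
    rw [fac_inv_naturality, homologyπ_naturality_assoc, reassoc_of% h1, reassoc_of% hzL, Iso.hom_inv_id,
      Category.comp_id]
  have hX : ∀ j, Nonempty ((P₁.X j) ⊞ (S₂.X j) ≅ (P₁ ⊞ S₂).X j) := fun j =>
    ⟨(((HomologicalComplex.eval A (ComplexShape.up ℤ) j).mapBiprod P₁ S₂)).symm⟩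
  have hC : ∀ j, Nonempty (S₁.X (j + 1) ⊞ 𝒜.P.X j ≅ P₁.X j) := fun j =>
    ⟨(homotopyCofiber.XIsoBiprod φ j (j + 1) rfl).symm⟩
  have hsingle : ∀ (q j : ℤ) (F : A), j ≠ q → IsZero (((HomologicalComplex.single A (ComplexShape.up ℤ) q).obj F).X j) :=
    fun q j F h => isZero_single_obj_X _ _ _ _ h
  refine ⟨{ P := P₁ ⊞ S₂, α := α₂, below := fun j hj => ?_, bdd := ?_, terms := fun j => ?_,
            iso := fun j hj => ?_, epi := ?_ }⟩
  · refine IsZero.of_iso ?_ (hX j).some.symm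
    refine biprod_isZero_iff _ _ |>.2 ⟨IsZero.of_iso ?_ (hC j).some.symm, hsingle _ _ _ (by omega)⟩
    exact biprod_isZero_iff _ _ |>.2 ⟨hsingle _ _ _ (by omega), 𝒜.below j (by omega)⟩
  · obtain ⟨b, hb⟩ := 𝒜.bdd
    refine ⟨max b p, fun j hj => IsZero.of_iso ?_ (hX j).some.symm⟩
    refine biprod_isZero_iff _ _ |>.2 ⟨IsZero.of_iso ?_ (hC j).some.symm, hsingle _ _ _ (by omega)⟩
    exact biprod_isZero_iff _ _ |>.2 ⟨hsingle _ _ _ (by omega), hb j (by omega)⟩
  · have t₁ : Tm (S₁.X (j + 1)) := by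
      by_cases h : j + 1 = p
      · subst h
        exact hTmIso _ _ (hFr _ hF₁) ⟨(singleObjXSelf (ComplexShape.up ℤ) (j + 1) F₁).symm⟩
      · exact hZ _ (hsingle _ _ _ h)
    have t₂ : Tm (S₂.X j) := by
      by_cases h : j = p - 1
      · subst h
        exact hTmIso _ _ (hFr _ hF₂) ⟨(singleObjXSelf (ComplexShape.up ℤ) (p - 1) F₂).symm⟩
      · exact hZ _ (hsingle _ _ _ h)
    exact hTmIso _ _ (hSum _ _ (hTmIso _ _ (hSum _ _ t₁ (𝒜.terms j)) (hC j)) t₂) (hX j)
  · haveI := hiso₁ j hj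
    have hz := isZero_HQ_single F₂ (by omega : j ≠ p - 1)
    let ι := HQ j (biprod.inl : P₁ ⟶ P₁ ⊞ S₂)
    let q := HQ j (biprod.fst : P₁ ⊞ S₂ ⟶ P₁)
    haveI : IsIso ι := ⟨q, by rw [← Functor.map_comp, ← Functor.map_comp, biprod.inl_fst, CategoryTheory.Functor.map_id, CategoryTheory.Functor.map_id], by
      have h3 : HQ j (biprod.fst ≫ biprod.inl + biprod.snd ≫ biprod.inr : P₁ ⊞ S₂ ⟶ P₁ ⊞ S₂) = 𝟙 _ := by
        rw [biprod.total]; exact ((congrArg _ (CategoryTheory.Functor.map_id _ _)).trans (CategoryTheory.Functor.map_id _ _))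
      rw [← h3]
      dsimp only [q, ι, HQ]
      rw [Functor.map_add, Functor.map_add, Functor.map_comp, Functor.map_comp, Functor.map_comp, Functor.map_comp]
      rw [hz.eq_of_tgt ((DerivedCategory.homologyFunctor A j).map (DerivedCategory.Q.map biprod.snd)) 0, zero_comp,
        add_zero]⟩
    haveI : IsIso (ι ≫ HQ j α₂) := by
      rw [← Functor.map_comp, ← Functor.map_comp, biprod.inl_desc]
      exact hiso₁ j hj
    exact IsIso.of_isIso_comp_left ι _
  · have h4 : v = ((singleObjCyclesSelfIso (ComplexShape.up ℤ) (p - 1) F₂).inv ≫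
        S₂.homologyπ (p - 1) ≫ (fac (p - 1) S₂).inv) ≫ HQ (p - 1) (biprod.inr : S₂ ⟶ P₁ ⊞ S₂) ≫ HQ (p - 1) α₂ := by
      rw [← Functor.map_comp, ← Functor.map_comp, biprod.inr_desc]
      exact hβ
    haveI : Epi ((((singleObjCyclesSelfIso (ComplexShape.up ℤ) (p - 1) F₂).inv ≫
        S₂.homologyπ (p - 1) ≫ (fac (p - 1) S₂).inv) ≫ HQ (p - 1) (biprod.inr : S₂ ⟶ P₁ ⊞ S₂)) ≫ HQ (p - 1) α₂) := by
      rw [Category.assoc, ← h4]
      exact hv
    exact epi_of_epi (((singleObjCyclesSelfIso (ComplexShape.up ℤ) (p - 1) F₂).inv ≫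
      S₂.homologyπ (p - 1) ≫ (fac (p - 1) S₂).inv) ≫ HQ (p - 1) (biprod.inr : S₂ ⟶ P₁ ⊞ S₂)) (HQ (p - 1) α₂)

end GrothLib.AlgSp.PCohStep
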