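import Groth.Agent.Lib.AlgSp.FinParts

/-!
# Translation of finite parts along an equivalence relation

For an equivalence relation `s, t : R ⟶ U` the parts of `s` over two related maps `T ⟶ U` can be
compared. `Part.Same` says that two parts agree under this translation.
-/

universe u

open CategoryTheory CategoryTheory.Limits AlgebraicGeometry Opposite Topology

namespace GrothLib.AlgSp

open _root_.AlgSp

variable {S : Scheme.{u}} {R U : Over S} {s t : R ⟶ U} {T T' : Over S}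

/-- Comparison maps between the fibre products of `s` with two maps to `U`. -/
structure IsTransl (t : R ⟶ U) (b b' : T ⟶ U) (θ : pullback s.left b'.left ⟶ pullback s.left b.left) : Prop where
  snd : θ ≫ pullback.snd _ _ = pullback.snd _ _
  fst_t : θ ≫ pullback.fst _ _ ≫ t.left = pullback.fst _ _ ≫ t.left

theorem IsTransl.refl (b : T ⟶ U) : IsTransl (s := s) t b b (𝟙 _) := ⟨Category.id_comp _, Category.id_comp _⟩

theorem IsTransl.comp {b b' b'' : T ⟶ U} {θ : pullback s.left b'.left ⟶ pullback s.left b.left}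
    {θ' : pullback s.left b''.left ⟶ pullback s.left b'.left} (h : IsTransl t b b' θ) (h' : IsTransl t b' b'' θ') :
    IsTransl t b b'' (θ' ≫ θ) :=
  ⟨by rw [Category.assoc, h.snd, h'.snd], by rw [Category.assoc, h.fst_t, h'.fst_t]⟩

theorem IsTransl.unique (heq : IsEqvRel s t) {b b' : T ⟶ U}
    {θ θ' : pullback s.left b'.left ⟶ pullback s.left b.left} (h : IsTransl t b b' θ) (h' : IsTransl t b b' θ') :
    θ = θ' := by
  let P : Over S := Over.mk (pullback.snd s.left b'.left ≫ T.hom)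
  have hw : ∀ θ : pullback s.left b'.left ⟶ pullback s.left b.left, IsTransl t b b' θ →
      (θ ≫ pullback.fst _ _) ≫ R.hom = P.hom := fun θ hθ => by
    rw [← Over.w s, Category.assoc, pullback.condition_assoc, Over.w b, ← Category.assoc, hθ.snd]
    rfl
  let r : P ⟶ R := Over.homMk (θ ≫ pullback.fst _ _) (hw θ h)
  let r' : P ⟶ R := Over.homMk (θ' ≫ pullback.fst _ _) (hw θ' h')
  have e : r = r' := heq.injective P r r'
    (Over.OverMorphism.ext (by
      change (θ ≫ _) ≫ t.left = (θ' ≫ _) ≫ t.left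
      rw [Category.assoc, Category.assoc, h.fst_t, h'.fst_t]))
    (Over.OverMorphism.ext (by
      change (θ ≫ _) ≫ s.left = (θ' ≫ _) ≫ s.left
      rw [Category.assoc, Category.assoc, pullback.condition, ← Category.assoc, ← Category.assoc, h.snd, h'.snd]))
  exact pullback.hom_ext (congrArg CommaMorphism.left e) (h.snd.trans h'.snd.symm)

theorem exists_transl (heq : IsEqvRel s t) (r : T ⟶ R) :
    ∃ θ : pullback s.left (r ≫ s).left ⟶ pullback s.left (r ≫ t).left, IsTransl t (r ≫ t) (r ≫ s) θ := by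
  let P : Over S := Over.mk (pullback.snd s.left (r ≫ s).left ≫ T.hom)
  let p₂ : P ⟶ T := Over.homMk (pullback.snd _ _) rfl
  let p₁ : P ⟶ R := Over.homMk (pullback.fst _ _) (by
    change pullback.fst _ _ ≫ R.hom = pullback.snd _ _ ≫ T.hom
    rw [← Over.w s, pullback.condition_assoc, Over.w])
  have e : p₁ ≫ s = p₂ ≫ r ≫ s := Over.OverMorphism.ext pullback.condition
  have he := heq.equivalence P
  obtain ⟨q, hqt, hqs⟩ : ∃ q : P ⟶ R, q ≫ t = p₁ ≫ t ∧ q ≫ s = p₂ ≫ r ≫ t :=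
    he.trans ⟨p₁, rfl, rfl⟩ (he.symm ⟨p₂ ≫ r, by rw [Category.assoc], by rw [Category.assoc, e]⟩)
  refine ⟨pullback.lift q.left p₂.left (congrArg CommaMorphism.left hqs), pullback.lift_snd _ _ _, ?_⟩
  rw [pullback.lift_fst_assoc]
  exact congrArg CommaMorphism.left hqt

/-- Two parts are related if their maps to `U` are related and translation identifies them. -/
def Part.Same (t : R ⟶ U) (a a' : Part s T) : Prop :=
  ∃ θ : pullback s.left a'.b.left ⟶ pullback s.left a.b.left,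
    (∃ r : T ⟶ R, r ≫ t = a.b ∧ r ≫ s = a'.b) ∧ IsTransl t a.b a'.b θ ∧ a'.Z = θ ⁻¹' a.Z

namespace Part.Same

variable (heq : IsEqvRel s t) {a a' a'' : Part s T}
include heq

theorem refl (a : Part s T) : a.Same t a := ⟨𝟙 _, (heq.equivalence T).refl a.b, .refl _, rfl⟩

theorem symm (h : a.Same t a') : a'.Same t a := by
  obtain ⟨θ, hr, hθ, hZ⟩ := h
  obtain ⟨r, h₁, h₂⟩ := (heq.equivalence T).symm hr
  have key : ∀ {b b' : T ⟶ U}, r ≫ t = b → r ≫ s = b' →
      ∃ θ' : pullback s.left b'.left ⟶ pullback s.left b.left, IsTransl t b b' θ' := by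
    rintro b b' rfl rfl; exact exists_transl heq r
  obtain ⟨θ', hθ'⟩ := key h₁ h₂
  refine ⟨θ', ⟨r, h₁, h₂⟩, hθ', ?_⟩
  rw [hZ, ← Set.preimage_comp]
  have e : θ' ≫ θ = 𝟙 _ := (hθ.comp hθ').unique heq (.refl _)
  exact (congrArg (fun g : pullback s.left a.b.left ⟶ pullback s.left a.b.left => g ⁻¹' a.Z) e).symm

theorem trans (h : a.Same t a') (h' : a'.Same t a'') : a.Same t a'' := by
  obtain ⟨θ, hr, hθ, hZ⟩ := h
  obtain ⟨θ', hr', hθ', hZ'⟩ := h'
  exact ⟨θ' ≫ θ, (heq.equivalence T).trans hr hr', hθ.comp hθ', by rw [hZ', hZ]; rfl⟩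

theorem restr (h : a.Same t a') (φ : T' ⟶ T) : (a.restr φ).Same t (a'.restr φ) := by
  obtain ⟨θ, ⟨r, hr₁, hr₂⟩, hθ, hZ⟩ := h
  let b : T' ⟶ U := φ ≫ a.b
  let b' : T' ⟶ U := φ ≫ a'.b
  let θ' : pullback s.left b'.left ⟶ pullback s.left b.left :=
    (isPullback_pbMap s φ (rfl : φ ≫ a.b = b)).lift (pbMap s φ (rfl : φ ≫ a'.b = b') ≫ θ) (pullback.snd _ _)
      (by rw [Category.assoc, hθ.snd, pbMap_snd])
  have h₁ : θ' ≫ pbMap s φ (rfl : φ ≫ a.b = b) = pbMap s φ (rfl : φ ≫ a'.b = b') ≫ θ := IsPullback.lift_fst _ _ _ _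
  refine ⟨θ', ⟨φ ≫ r, by rw [Category.assoc, hr₁]; rfl, by rw [Category.assoc, hr₂]; rfl⟩,
    ⟨IsPullback.lift_snd _ _ _ _, ?_⟩, ?_⟩
  · have := h₁ =≫ (pullback.fst _ _ ≫ t.left)
    simp only [Category.assoc, pbMap_fst_assoc, hθ.fst_t] at this
    exact this
  · change pbMap s φ rfl ⁻¹' a'.Z = θ' ⁻¹' (pbMap s φ rfl ⁻¹' a.Z)
    rw [hZ, ← Set.preimage_comp, ← Set.preimage_comp]
    exact (congrArg (fun g : pullback s.left b'.left ⟶ pullback s.left a.b.left => g ⁻¹' a.Z) h₁).symm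

/-- Parts over the same map which are related are equal. -/
theorem eq (h : a.Same t a') (hb : a.b = a'.b) : a = a' := by
  obtain ⟨θ, -, hθ, hZ⟩ := h
  obtain ⟨b, Z, hP⟩ := a
  obtain ⟨b', Z', hP'⟩ := a'
  change b = b' at hb
  subst hb
  obtain rfl : θ = 𝟙 _ := hθ.unique heq (.refl _)
  obtain rfl : Z' = Z := hZ
  rfl

end Part.Same

/-- Transport of a part along the relation. -/
theorem exists_same (heq : IsEqvRel s t) (a : Part s T) (r : T ⟶ R) (h : r ≫ t = a.b) :
    ∃ a' : Part s T, a'.b = r ≫ s ∧ a.Same t a' := by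
  obtain ⟨b, Z, hP⟩ := a
  change r ≫ t = b at h
  subst h
  obtain ⟨θ, hθ⟩ := exists_transl heq r
  have sq : IsPullback θ (pullback.snd s.left (r ≫ s).left) (pullback.snd s.left (r ≫ t).left) (𝟙 _) := by
    have : IsIso θ := by
      obtain ⟨r', h₁, h₂⟩ := (heq.equivalence T).symm ⟨r, rfl, rfl⟩
      have key : ∀ {b b' : T ⟶ U}, r' ≫ t = b → r' ≫ s = b' →
          ∃ θ' : pullback s.left b'.left ⟶ pullback s.left b.left, IsTransl t b b' θ' := by
        rintro b b' rfl rfl; exact exists_transl heq r'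
      obtain ⟨θ', hθ'⟩ := key h₁ h₂
      exact ⟨θ', (hθ'.comp hθ).unique heq (.refl _), (hθ.comp hθ').unique heq (.refl _)⟩
    exact IsPullback.of_horiz_isIso ⟨by rw [hθ.snd, Category.comp_id]⟩
  exact ⟨⟨r ≫ s, θ ⁻¹' Z, hP.baseChange sq⟩, rfl, θ, ⟨r, rfl, rfl⟩, hθ, rfl⟩

/-- The tautological point of the fibre product over `r ≫ t`. -/
def Part.ContainsId (e : U ⟶ R) (he : e ≫ s = 𝟙 U) (a : Part s T) : Prop :=
  Set.range (pullback.lift (a.b ≫ e).left (𝟙 _) (by
    rw [← Over.comp_left, Category.assoc, he, Category.comp_id, Category.id_comp]) :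
      T.left ⟶ pullback s.left a.b.left) ⊆ a.Z

end GrothLib.AlgSp
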