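import Groth.Prelude.Def_W4SpPerfMV
import Groth.Agent.Lib.AlgSp.ElemDistSquare
import Groth.Agent.Lib.AlgSp.QCohAbelian
import Groth.Agent.Lib.AlgSp.QCohFPEt

/-!
# Mayer-Vietoris for elementary distinguished squares of the small étale site

* `MVPair`; `mvPair_of_elemDistSq`; `eq_of_mv`, `exists_glue_mv`, `exists_local_split_mv`.
-/

universe u

open CategoryTheory CategoryTheory.Limits AlgebraicGeometry Opposite
set_option backward.isDefEq.respectTransparency false

noncomputable section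

namespace GrothLib.AlgSp.QCohEt

open _root_.AlgSp

variable {S : Scheme.{u}}

/-- The sieve of maps from objects lying over `U` or over `V`. -/
def overSieve {X : Sp S} (U V E : EtOver X) : Sieve E where
  arrows Z _ := Nonempty (Z ⟶ U) ∨ Nonempty (Z ⟶ V)
  downward_closed := fun h g => h.imp (Nonempty.map (g ≫ ·)) (Nonempty.map (g ≫ ·))

/-- The sieve of maps equalizing two maps or lying over `U`. -/
def eqSieve {X : Sp S} (U : EtOver X) {E V : EtOver X} (a b : E ⟶ V) : Sieve E where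
  arrows Z g := g ≫ a = g ≫ b ∨ Nonempty (Z ⟶ U)
  downward_closed := fun h g => h.imp (fun e => by simp only [Category.assoc, e]) (Nonempty.map (g ≫ ·))

/-- An open `U` and an étale `V` covering `X`, with `V ×_X V` covered by the diagonal and the part over `U`. -/
structure MVPair {X : Sp S} (U V : EtOver X) : Prop where
  sub : ∀ {Z : EtOver X} (a b : Z ⟶ U), a = b
  cover : ∀ E : EtOver X, overSieve U V E ∈ etTop X E
  diag : ∀ {E : EtOver X} (a b : E ⟶ V), eqSieve U a b ∈ etTop X E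

theorem mvPair_of_elemDistSq (X : Space S) {U V : EtOver X.obj} (hsq : IsElemDistSq U.obj.hom V.obj.hom) :
    MVPair U V := by
  have hj := hsq.1
  haveI := mono_of_openImmersion hj
  have lift : ∀ {E : EtOver X.obj} (O : E.obj.left.left.Opens),
      (∀ x ∈ O, Points.ofPt E.obj.hom x ∈ Set.range (Points.map U.obj.hom)) → Nonempty (opensObj E O ⟶ U) := by
    intro E O hO
    obtain ⟨z, hz⟩ := (exists_factor_iff hj (opensObj E O).obj.hom).2 (by
      rintro _ ⟨y, rfl⟩
      obtain ⟨y, rfl⟩ := (Points.schemeEquiv (opensObj E O).obj.left).surjective y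
      rw [show Points.schemeEquiv _ y = Points.ofScheme _ y from rfl, ← Points.ofPt_eq_map_ofScheme]
      refine Eq.subst (motive := fun p => p ∈ Set.range (Points.map U.obj.hom)) ?_ (hO y.1 y.2)
      exact (ofPt_map_comp (Over.homMk O.ι rfl : Over.mk (O.ι ≫ E.obj.left.hom) ⟶ E.obj.left) E.obj.hom y).symm)
    obtain ⟨z', rfl⟩ := (yon S).map_surjective z
    exact ⟨EtOver.homMk z' hz⟩
  refine ⟨fun a b => EtOver.hom_ext _ _ ((yon S).map_injective ((cancel_mono U.obj.hom).1
    ((EtOver.w a).trans (EtOver.w b).symm))), fun E => ?_, fun {E} a b => ?_⟩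
  · let P := EtOver.prodObj E V
    refine (etTop X.obj).superset_covering ?_ (ofArrows_mem_etTop
      (fun i : Option Unit => i.elim (opensObj E ⟨Points.ofPt E.obj.hom ⁻¹' Set.range (Points.map U.obj.hom),
        (isOpen_range_openImmersion hj).preimage (Points.continuous_ofPt _)⟩) fun _ => P)
      (fun i => match i with | none => opensInc E _ | some _ => EtOver.prodFst E V) fun x => ?_)
    · rintro Z g ⟨_, k, _, ⟨i⟩, rfl⟩
      cases i with
      | none =>
        obtain ⟨l⟩ := lift (E := E) ⟨Points.ofPt E.obj.hom ⁻¹' Set.range (Points.map U.obj.hom),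
          (isOpen_range_openImmersion hj).preimage (Points.continuous_ofPt _)⟩ fun x hx => hx
        exact Or.inl ⟨k ≫ l⟩
      | some _ => exact Or.inr ⟨k ≫ EtOver.prodSnd E V⟩
    · by_cases hx : Points.ofPt E.obj.hom x ∈ Set.range (Points.map U.obj.hom)
      · exact ⟨none, ⟨x, hx⟩, rfl⟩
      · obtain ⟨-, -, T, P₀, i, p₁, p₂, ⟨-, hi, -⟩, sqP, hp₁⟩ := hsq
        haveI := hp₁
        obtain ⟨t, ht⟩ : Points.ofPt E.obj.hom x ∈ Set.range (Points.map i) := by rw [hi]; exact hx
        have e : Points.map E.obj.hom (Points.ofScheme _ x) = Points.map V.obj.hom (Points.map p₂ (Points.map (inv p₁) t)) := by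
          rw [← Points.ofPt_eq_map_ofScheme, ← Points.map_comp, ← sqP.w, ← Points.map_comp, IsIso.inv_hom_id_assoc, ht]
        obtain ⟨q, hq, -⟩ := exists_of_isPullback (V.property.1.isPullback E.obj.hom).flip e
        obtain ⟨y, rfl⟩ := (Points.schemeEquiv _).surjective q
        refine ⟨some (), y, (Points.schemeEquiv E.obj.left).injective ?_⟩
        exact (map_yon_ofPt (EtOver.prodFst E V).hom.left y).symm.trans hq
  · have hab : (yon S).map a.hom.left ≫ V.obj.hom = (yon S).map b.hom.left ≫ V.obj.hom :=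
      (EtOver.w a).trans (EtOver.w b).symm
    obtain ⟨ab, h1, h2⟩ : ∃ ab, ab ≫ pullback.fst V.obj.hom V.obj.hom = (yon S).map a.hom.left ∧
        ab ≫ pullback.snd V.obj.hom V.obj.hom = (yon S).map b.hom.left :=
      ⟨pullback.lift _ _ hab, pullback.lift_fst _ _ _, pullback.lift_snd _ _ _⟩
    have hV : IsAlgSpace ((yon S).obj V.obj.left) := ((_root_.AlgSp.ofScheme S).obj V.obj.left).property
    have hΔ := repWith_openImmersion_diag_of_etale hV X.property hsq.2.1
    let O : Bool → E.obj.left.left.Opens := fun c => cond c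
      ⟨Points.ofPt ab ⁻¹' Set.range (Points.map (pullback.diagonal V.obj.hom)),
        (isOpen_range_openImmersion hΔ).preimage (Points.continuous_ofPt ab)⟩
      ⟨Points.ofPt E.obj.hom ⁻¹' Set.range (Points.map U.obj.hom),
        (isOpen_range_openImmersion hj).preimage (Points.continuous_ofPt _)⟩
    refine (etTop X.obj).superset_covering ?_ (ofArrows_mem_etTop (fun c => opensObj E (O c))
      (fun c => opensInc E (O c)) fun x => ?_)
    · rintro Z g ⟨_, k, _, ⟨c⟩, rfl⟩
      cases c with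
      | false => exact Or.inr ((lift (E := E) (O false) fun x hx => hx).map (k ≫ ·))
      | true =>
        refine Or.inl ?_
        obtain ⟨z, hz⟩ := (exists_factor_iff hΔ ((yon S).map (opensInc E (O true)).hom.left ≫ ab)).2 (by
          rintro _ ⟨y, rfl⟩
          obtain ⟨y, rfl⟩ := (Points.schemeEquiv (opensObj E (O true)).obj.left).surjective y
          rw [show Points.schemeEquiv _ y = Points.ofScheme _ y from rfl, ← Points.ofPt_eq_map_ofScheme,
            ofPt_map_comp]
          exact y.2)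
        rw [Category.assoc, Category.assoc]
        congr 1
        refine EtOver.hom_ext _ _ ((yon S).map_injective ?_)
        refine ((yon S).map_comp _ _).trans (Eq.trans ?_ ((yon S).map_comp _ _).symm)
        rw [← h1, ← h2, ← Category.assoc, ← Category.assoc, ← hz]
        simp only [Category.assoc, pullback.diagonal_fst, pullback.diagonal_snd]
    · rcases point_diag_or_open hsq (Points.ofPt ab x) with h | h
      · exact ⟨true, ⟨x, h⟩, rfl⟩
      · refine ⟨false, ⟨x, ?_⟩, rfl⟩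
        show Points.ofPt E.obj.hom x ∈ Set.range (Points.map U.obj.hom)
        rw [← EtOver.w a, ← h1, Category.assoc, ← Points.map_ofPt]
        exact h

variable {X : Sp S} {U V : EtOver X}

/-- The restriction to `U ×_X V ×_X W` from `U ×_X W`. -/
abbrev fstW (U V W : EtOver X) : EtOver.prodObj U V ⨯ W ⟶ U ⨯ W := prod.map (EtOver.prodFst U V) (𝟙 W)

/-- The restriction to `U ×_X V ×_X W` from `V ×_X W`. -/
abbrev sndW (U V W : EtOver X) : EtOver.prodObj U V ⨯ W ⟶ V ⨯ W := prod.map (EtOver.prodSnd U V) (𝟙 W)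

/-- The map to `U ×_X V ×_X W` given by three components. -/
def tri {Z W : EtOver X} (a : Z ⟶ U) (b : Z ⟶ V) (c : Z ⟶ W) : Z ⟶ EtOver.prodObj U V ⨯ W :=
  prod.lift ((EtOver.prodIsLimit U V).lift (BinaryFan.mk a b)) c

theorem tri_fstW {Z W : EtOver X} (a : Z ⟶ U) (b : Z ⟶ V) (c : Z ⟶ W) : tri a b c ≫ fstW U V W = prod.lift a c := by
  rw [tri, prod.lift_map, Category.comp_id]
  congr 1
  exact (EtOver.prodIsLimit U V).fac (BinaryFan.mk a b) ⟨WalkingPair.left⟩

theorem tri_sndW {Z W : EtOver X} (a : Z ⟶ U) (b : Z ⟶ V) (c : Z ⟶ W) : tri a b c ≫ sndW U V W = prod.lift b c := by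
  rw [tri, prod.lift_map, Category.comp_id]
  congr 1
  exact (EtOver.prodIsLimit U V).fac (BinaryFan.mk a b) ⟨WalkingPair.right⟩

theorem tri_comp {Z Z' W : EtOver X} (a : Z ⟶ U) (b : Z ⟶ V) (c : Z ⟶ W) (g : Z' ⟶ Z) :
    g ≫ tri a b c = tri (g ≫ a) (g ≫ b) (g ≫ c) := by
  refine prod.hom_ext ?_ (by simp [tri])
  simp only [tri, Category.assoc, prod.lift_fst]
  exact BinaryFan.IsLimit.hom_ext (EtOver.prodIsLimit U V)
    (by rw [Category.assoc, (EtOver.prodIsLimit U V).fac _ ⟨WalkingPair.left⟩,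
          (EtOver.prodIsLimit U V).fac _ ⟨WalkingPair.left⟩]; rfl)
    (by rw [Category.assoc, (EtOver.prodIsLimit U V).fac _ ⟨WalkingPair.right⟩,
          (EtOver.prodIsLimit U V).fac _ ⟨WalkingPair.right⟩]; rfl)

variable (M : ModEt X)

local notation "R[" f "]" => mres (O := OEt X) M f

/-- Sections with the same restrictions to `U` and `V` are equal. -/
theorem eq_of_mv (h : MVPair U V) {W : EtOver X} (x y : Sec (O := OEt X) M W)
    (hU : R[(prod.snd : U ⨯ W ⟶ W)] x = R[(prod.snd : U ⨯ W ⟶ W)] y)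
    (hV : R[(prod.snd : V ⨯ W ⟶ W)] x = R[(prod.snd : V ⨯ W ⟶ W)] y) : x = y := by
  refine sec_ext (O := OEt X) M (h.cover W) fun Z z hz => ?_
  rcases hz with ⟨⟨a⟩⟩ | ⟨⟨b⟩⟩
  · rw [← prod.lift_snd a z, mres_comp, mres_comp, hU]
  · rw [← prod.lift_snd b z, mres_comp, mres_comp, hV]

/-- Compatible sections over `U` and `V` glue. -/
theorem exists_glue_mv (h : MVPair U V) {W : EtOver X} (sU : Sec (O := OEt X) M (U ⨯ W))
    (sV : Sec (O := OEt X) M (V ⨯ W)) (hs : R[fstW U V W] sU = R[sndW U V W] sV) :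
    ∃ s : Sec (O := OEt X) M W, R[(prod.snd : U ⨯ W ⟶ W)] s = sU ∧ R[(prod.snd : V ⨯ W ⟶ W)] s = sV := by
  classical
  let F := M.val.presheaf ⋙ CategoryTheory.forget AddCommGrpCat.{u + 1}
  have key : ∀ {Z : EtOver X} (a : Z ⟶ U) (b : Z ⟶ V) (c : Z ⟶ W), R[prod.lift a c] sU = R[prod.lift b c] sV :=
    fun a b c => by rw [← tri_fstW a b c, ← tri_sndW a b c, mres_comp, mres_comp, hs]
  have keyV : ∀ {Z : EtOver X} (b b' : Z ⟶ V) (c : Z ⟶ W), R[prod.lift b c] sV = R[prod.lift b' c] sV := by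
    intro Z b b' c
    refine sec_ext (O := OEt X) M (h.diag b b') fun Z' z hz => ?_
    rw [← mres_comp, ← mres_comp, prod.comp_lift, prod.comp_lift]
    rcases hz with e | ⟨⟨a⟩⟩
    · rw [e]
    · rw [← key a, ← key a]
  let x : Presieve.FamilyOfElements F (overSieve U V W).arrows := fun Z g _ =>
    if hU : Nonempty (Z ⟶ U) then R[prod.lift hU.some g] sU
    else if hV : Nonempty (Z ⟶ V) then R[prod.lift hV.some g] sV else (0 : Sec (O := OEt X) M Z)
  have xU : ∀ {Z : EtOver X} (g : Z ⟶ W) hg (a : Z ⟶ U), x g hg = R[prod.lift a g] sU := fun {Z} g hg a => by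
    show dite _ _ _ = _
    rw [dif_pos ⟨a⟩, h.sub (Nonempty.some ⟨a⟩) a]
  have xV : ∀ {Z : EtOver X} (g : Z ⟶ W) hg (b : Z ⟶ V), x g hg = R[prod.lift b g] sV := fun {Z} g hg b => by
    by_cases hU : Nonempty (Z ⟶ U)
    · rw [xU g hg hU.some, key hU.some b g]
    · show dite _ _ _ = _
      rw [dif_neg hU, dif_pos ⟨b⟩]
      exact keyV _ _ _
  have hx : x.Compatible := by
    rw [Presieve.compatible_iff_sieveCompatible]
    intro Z Z' f g hf
    show x (g ≫ f) ((overSieve U V W).downward_closed hf g) = R[g] (x f hf)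
    have hgf := (overSieve U V W).downward_closed hf g
    rcases hf with hf | hf
    · obtain ⟨a⟩ := hf
      rw [xU (g ≫ f) hgf (g ≫ a), xU f (Or.inl ⟨a⟩) a, ← mres_comp, prod.comp_lift]
    · obtain ⟨b⟩ := hf
      rw [xV (g ≫ f) hgf (g ≫ b), xV f (Or.inr ⟨b⟩) b, ← mres_comp, prod.comp_lift]
  have hF : Presieve.IsSheafFor F (overSieve U V W).arrows :=
    (isSheaf_iff_isSheaf_of_type _ _).1
      ((Presheaf.isSheaf_iff_isSheaf_forget (etTop X) M.val.presheaf (CategoryTheory.forget AddCommGrpCat.{u + 1})).1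
        M.isSheaf) _ (h.cover W)
  obtain ⟨s, hs', -⟩ := hF x hx
  refine ⟨s, ?_, ?_⟩
  · refine (hs' prod.snd (Or.inl ⟨prod.fst⟩)).trans ?_
    rw [xU prod.snd (Or.inl ⟨prod.fst⟩) prod.fst, prod.lift_fst_snd, mres_id]
  · refine (hs' prod.snd (Or.inr ⟨prod.fst⟩)).trans ?_
    rw [xV prod.snd (Or.inr ⟨prod.fst⟩) prod.fst, prod.lift_fst_snd, mres_id]

/-- Sections over `U ×_X V` are locally differences. -/
theorem exists_local_split_mv (h : MVPair U V) {W : EtOver X} (t : Sec (O := OEt X) M (EtOver.prodObj U V ⨯ W))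
    {Z : EtOver X} (z : Z ⟶ W) (hz : (overSieve U V W).arrows z) :
    ∃ (a : Sec (O := OEt X) M (U ⨯ Z)) (b : Sec (O := OEt X) M (V ⨯ Z)),
      R[fstW U V Z] a - R[sndW U V Z] b = R[prod.map (𝟙 (EtOver.prodObj U V)) z] t := by
  classical
  let t' := R[prod.map (𝟙 (EtOver.prodObj U V)) z] t
  have hmap : ∀ {Z' : EtOver X} (p : Z' ⟶ EtOver.prodObj U V ⨯ Z),
      tri ((p ≫ prod.fst) ≫ EtOver.prodFst U V) ((p ≫ prod.fst) ≫ EtOver.prodSnd U V) (p ≫ prod.snd) = p := fun p => by
    refine prod.hom_ext ?_ (by simp [tri])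
    simp only [tri, prod.lift_fst]
    exact BinaryFan.IsLimit.hom_ext (EtOver.prodIsLimit U V)
      ((EtOver.prodIsLimit U V).fac _ ⟨WalkingPair.left⟩) ((EtOver.prodIsLimit U V).fac _ ⟨WalkingPair.right⟩)
  have hid : tri (prod.fst ≫ EtOver.prodFst U V) (prod.fst ≫ EtOver.prodSnd U V) prod.snd =
      𝟙 (EtOver.prodObj U V ⨯ Z) := by
    simpa using hmap (𝟙 (EtOver.prodObj U V ⨯ Z))
  have e1 : fstW U V Z = prod.lift (prod.fst ≫ EtOver.prodFst U V) prod.snd :=
    prod.hom_ext ((prod.map_fst _ _).trans (prod.lift_fst _ _).symm)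
      (((prod.map_snd _ _).trans (Category.comp_id _)).trans (prod.lift_snd _ _).symm)
  have e2 : sndW U V Z ≫ prod.fst = prod.fst ≫ EtOver.prodSnd U V := prod.map_fst _ _
  have e3 : sndW U V Z ≫ prod.snd = prod.snd := (prod.map_snd _ _).trans (Category.comp_id _)
  rcases hz with ⟨⟨u⟩⟩ | ⟨⟨v⟩⟩
  · refine ⟨0, -(R[tri (prod.snd ≫ u) prod.fst prod.snd] t'), ?_⟩
    rw [map_zero, map_neg, zero_sub, neg_neg, ← mres_comp, tri_comp]
    show R[_] t' = t'
    rw [h.sub (sndW U V Z ≫ prod.snd ≫ u) (prod.fst ≫ EtOver.prodFst U V), e2, e3, hid, mres_id]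
  · let a := R[tri prod.fst (prod.snd ≫ v) prod.snd] t'
    let p : V ⨯ Z ⟶ V := prod.fst
    let q : V ⨯ Z ⟶ V := prod.snd ≫ v
    let F := M.val.presheaf ⋙ CategoryTheory.forget AddCommGrpCat.{u + 1}
    let corr : ∀ {Z' : EtOver X} (g : Z' ⟶ V ⨯ Z) (e : Z' ⟶ U), Sec (O := OEt X) M Z' := fun g e =>
      R[prod.lift e (g ≫ prod.snd)] a - R[tri e (g ≫ p) (g ≫ prod.snd)] t'
    have hcorr : ∀ {Z' : EtOver X} (g : Z' ⟶ V ⨯ Z) (e : Z' ⟶ U), g ≫ p = g ≫ q → corr g e = 0 := by
      intro Z' g e he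
      refine sub_eq_zero.2 ?_
      show R[_] (R[_] t') = _
      rw [← mres_comp, tri_comp, prod.lift_fst, prod.lift_snd]
      congr 2
      rw [he, prod.lift_snd_assoc, Category.assoc]
    let x : Presieve.FamilyOfElements F (eqSieve U p q).arrows := fun Z' g _ =>
      if hU : Nonempty (Z' ⟶ U) then corr g hU.some else (0 : Sec (O := OEt X) M Z')
    have xU : ∀ {Z' : EtOver X} (g : Z' ⟶ V ⨯ Z) hg (e : Z' ⟶ U), x g hg = corr g e := fun g hg e => by
      show dite _ _ _ = _
      rw [dif_pos ⟨e⟩, h.sub (Nonempty.some ⟨e⟩) e]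
    have x0 : ∀ {Z' : EtOver X} (g : Z' ⟶ V ⨯ Z) hg, g ≫ p = g ≫ q → x g hg = (0 : Sec (O := OEt X) M Z') :=
      fun {Z'} g hg he => by
        by_cases hU : Nonempty (Z' ⟶ U)
        · rw [xU g hg hU.some, hcorr g _ he]
        · exact dif_neg hU
    have hx : x.Compatible := by
      rw [Presieve.compatible_iff_sieveCompatible]
      intro Z' Z'' f g hf
      show x (g ≫ f) ((eqSieve U p q).downward_closed hf g) = R[g] (x f hf)
      have hgf := (eqSieve U p q).downward_closed hf g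
      rcases hf with hf | hf
      · rw [x0 f (Or.inl hf) hf, map_zero, x0 (g ≫ f) hgf (by rw [Category.assoc, Category.assoc, hf])]
      · obtain ⟨e⟩ := hf
        rw [xU (g ≫ f) hgf (g ≫ e), xU f (Or.inr ⟨e⟩) e]
        have l1 : prod.lift (g ≫ e) ((g ≫ f) ≫ prod.snd) = g ≫ prod.lift e (f ≫ prod.snd) := by
          rw [prod.comp_lift, Category.assoc]
        have l2 : tri (g ≫ e) ((g ≫ f) ≫ p) ((g ≫ f) ≫ prod.snd) = g ≫ tri e (f ≫ p) (f ≫ prod.snd) := by
          rw [tri_comp, Category.assoc, Category.assoc]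
        show R[_] a - R[_] t' = R[g] (R[_] a - R[_] t')
        rw [l1, l2, mres_comp, mres_comp, map_sub]
    have hF : Presieve.IsSheafFor F (eqSieve U p q).arrows :=
      (isSheaf_iff_isSheaf_of_type _ _).1
        ((Presheaf.isSheaf_iff_isSheaf_forget (etTop X) M.val.presheaf (CategoryTheory.forget AddCommGrpCat.{u + 1})).1
          M.isSheaf) _ (h.diag p q)
    obtain ⟨b, hb, -⟩ := hF x hx
    refine ⟨a, b, ?_⟩
    have hg : (eqSieve U p q).arrows (sndW U V Z) := Or.inr ⟨prod.fst ≫ EtOver.prodFst U V⟩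
    rw [show R[sndW U V Z] b = x (sndW U V Z) hg from hb _ hg,
      xU (sndW U V Z) hg (prod.fst ≫ EtOver.prodFst U V)]
    simp only [corr]
    rw [show sndW U V Z ≫ p = prod.fst ≫ EtOver.prodSnd U V from e2, e3, ← e1, hid, sub_sub_cancel, mres_id]

end GrothLib.AlgSp.QCohEt
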