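import Groth.Agent.Lib.AlgSp.QCohPerf
import Groth.Agent.Lib.AlgSp.QCohMV
import Groth.Agent.Lib.AlgSp.Strata
import Groth.Prelude.Def_AlgSpPerf

/-!
# Perfect objects on quasi-compact spaces are bounded above

* `exists_isLE_of_isPerfect`; `hom_vanish_small_iff`.
-/

set_option autoImplicit false
set_option backward.isDefEq.respectTransparency false
universe u

open CategoryTheory CategoryTheory.Limits AlgebraicGeometry Opposite Pretriangulated

attribute [local instance] HasDerivedCategory.standard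

noncomputable section

namespace GrothLib.AlgSp.QCohEt

open _root_.AlgSp

variable {S : Scheme.{u}} {X : Sp S}

/-- A perfect object on a quasi-compact space is bounded above. -/
theorem exists_isLE_of_isPerfect (hX : IsAlgSpace X) (hc : IsQuasiCompactSp X) {K : DModEt X}
    (hK : IsPerfectEtD K) : ∃ d : ℤ, K.IsLE d := by
  classical
  haveI := compactSpace_points_of_isQuasiCompactSp hc
  obtain ⟨U, a, ha, has⟩ := hX.atlas
  obtain ⟨ι, V, g, hg, hV⟩ := hK (EtOver.mk a ha)
  have hcov : ∀ x : Points X, ∃ i, x ∈ Set.range (Points.ofPt (V i).obj.hom) := fun x => by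
    obtain ⟨u, rfl⟩ := surjective_ofPt_of_repWith has x
    obtain ⟨i, v, hv⟩ := (ofArrows_mem_etPre_iff V g).1 hg u
    refine ⟨i, v, ?_⟩
    rw [← EtOver.w (g i)]
    exact (ofPt_map_comp _ _ _).trans (congrArg (Points.ofPt a) hv)
  obtain ⟨s, hs⟩ := isCompact_univ.elim_finite_subcover (fun i => Set.range (Points.ofPt (V i).obj.hom))
    (fun i => (isOpenMap_ofPt_of_etale (V i).property).isOpen_range) fun x _ => Set.mem_iUnion.2 (hcov x)
  choose P hP e using hV
  choose l b hb using fun i => (hP i).1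
  obtain ⟨d, hd⟩ := Finset.exists_le (s.image b)
  refine ⟨d, (DerivedCategory.isLE_iff K d).2 fun q hq => ?_⟩
  let M := DCoh.HDMod (OEtRing X) K q
  have hz : ∀ i ∈ s, IsZero ((resModEt (V i)).obj M) := fun i hi => by
    obtain ⟨e⟩ := e i
    obtain ⟨h⟩ := DerTrunc.nonempty_homology_mapDerivedCategory (resModEt (V i)) K q
    refine IsZero.of_iso ?_ (h.symm ≪≫ (DerivedCategory.homologyFunctor (ModEtOn (V i)) q).mapIso e ≪≫
      (DerivedCategory.homologyFunctorFactors (ModEtOn (V i)) q).app (P i))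
    exact ShortComplex.isZero_homology_of_isZero_X₂ _
      (hb i q (Or.inr ((hd _ (Finset.mem_image_of_mem b hi)).trans_lt hq)))
  have h0 : ∀ (Z : EtOver X) (x : Sec (O := OEt X) M Z), x = 0 := fun Z x => by
    refine sec_ext_fam (O := OEt X) M (n := ULift.{u} (Fin s.card))
      (W := fun k => EtOver.prodObj Z (V (s.equivFin.symm k.down).1))
      (fun k => EtOver.prodFst Z (V (s.equivFin.symm k.down).1)) (ofArrows_mem_etTop _ _ fun w => ?_) fun k => ?_
    · obtain ⟨i, hi, v, hv⟩ : ∃ i ∈ s, ∃ v, Points.ofPt (V i).obj.hom v = Points.ofPt Z.obj.hom w := by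
        simpa using hs (Set.mem_univ (Points.ofPt Z.obj.hom w))
      have he : Points.map Z.obj.hom (Points.ofScheme _ w) = Points.map (V i).obj.hom (Points.ofScheme _ v) := by
        rw [← Points.ofPt_eq_map_ofScheme, ← Points.ofPt_eq_map_ofScheme, hv]
      obtain ⟨q, hq, -⟩ := exists_of_isPullback ((V i).property.1.isPullback Z.obj.hom).flip he
      obtain ⟨z, rfl⟩ := (Points.schemeEquiv _).surjective q
      obtain ⟨k, hk⟩ : ∃ k : ULift.{u} (Fin s.card), (s.equivFin.symm k.down).1 = i :=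
        ⟨⟨s.equivFin ⟨i, hi⟩⟩, by rw [Equiv.symm_apply_apply]⟩
      subst hk
      exact ⟨k, z, (Points.schemeEquiv Z.obj.left).injective
        ((map_yon_ofPt (EtOver.prodFst Z (V (s.equivFin.symm k.down).1)).hom.left z).symm.trans hq)⟩
    · rw [map_zero]
      have hi := (s.equivFin.symm k.down).2
      generalize (s.equivFin.symm k.down).1 = i at hi ⊢
      have := congrArg (fun k : (resModEt (V i)).obj M ⟶ (resModEt (V i)).obj M =>
        k.val.app (op (Over.mk (EtOver.prodSnd Z (V i)))) (mres (O := OEt X) M (EtOver.prodFst Z (V i)) x))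
        ((hz i hi).eq_of_src (𝟙 _) 0)
      exact this
  rw [IsZero.iff_id_eq_zero]
  exact SheafOfModules.hom_ext (PresheafOfModules.hom_ext fun W => ModuleCat.hom_ext (LinearMap.ext fun x =>
    h0 W.unop x))

/-- Vanishing of negative shifts only sees a truncation from above. -/
theorem hom_vanish_small_iff {P E : DModEt X} {d : ℤ} (hP : P.IsLE d) (a : ℤ) :
    (∃ N : ℤ, ∀ i : ℤ, i ≤ N → ∀ φ : P⟦-i⟧ ⟶ E, φ = 0) ↔
      (∃ N : ℤ, ∀ i : ℤ, i ≤ N → ∀ φ : P⟦-i⟧ ⟶ (DerivedCategory.TStructure.t.truncLE a).obj E, φ = 0) := by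
  have hT := DerivedCategory.TStructure.t.triangleLEGE_distinguished a (a + 1) rfl E
  set T := (DerivedCategory.TStructure.t.triangleLEGE a (a + 1) rfl).obj E
  haveI hge : DerivedCategory.TStructure.t.IsGE T.obj₃ (a + 1) :=
    inferInstanceAs (DerivedCategory.TStructure.t.IsGE ((DerivedCategory.TStructure.t.truncGE (a + 1)).obj E) (a + 1))
  have key : ∀ i : ℤ, i ≤ a - d → ((∀ φ : P⟦-i⟧ ⟶ T.obj₁, φ = 0) ↔ ∀ φ : P⟦-i⟧ ⟶ T.obj₂, φ = 0) := by
    intro i hi
    haveI : DerivedCategory.TStructure.t.IsLE P d := hP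
    haveI : DerivedCategory.TStructure.t.IsLE (P⟦-i⟧) (d + i) :=
      DerivedCategory.TStructure.t.isLE_shift P d (-i) (d + i) (by omega)
    have h₃ : ∀ φ : P⟦-i⟧ ⟶ T.obj₃, φ = 0 := fun φ =>
      DerivedCategory.TStructure.t.zero φ (d + i) (a + 1) (by omega)
    constructor
    · intro h φ
      obtain ⟨ψ, hψ⟩ := T.coyoneda_exact₂ hT φ (h₃ _)
      rw [hψ, h ψ, zero_comp]
    · intro h φ
      obtain ⟨ψ, hψ⟩ := T.invRotate.coyoneda_exact₂ (inv_rot_of_distTriang _ hT) φ (h _)
      haveI : DerivedCategory.TStructure.t.IsGE T.invRotate.obj₁ (a + 2) :=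
        DerivedCategory.TStructure.t.isGE_shift T.obj₃ (a + 1) (-1) (a + 2) (by omega)
      rw [hψ, DerivedCategory.TStructure.t.zero ψ (d + i) (a + 2) (by omega)]
      exact zero_comp
  constructor <;> rintro ⟨N, hN⟩ <;> refine ⟨min N (a - d), fun i hi => ?_⟩
  · exact (key i (by omega)).2 (hN i (by omega))
  · exact (key i (by omega)).1 (hN i (by omega))

end GrothLib.AlgSp.QCohEt
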