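import Groth.Agent.Lib.AlgSp.PinchDesc
import Groth.Agent.Lib.AlgSp.SigmaChart
import Groth.Agent.Lib.AlgSp.PointsUniv
import Groth.Agent.Lib.AlgSp.Descent

/-!
# Separated atlases and separatedness of pullbacks to them
-/

set_option backward.isDefEq.respectTransparency false

universe u

open CategoryTheory CategoryTheory.Limits AlgebraicGeometry Opposite

namespace GrothLib.AlgSp.PinchDesc

open GrothLib.AlgSp

variable {S : Scheme.{u}}

theorem exists_sep_atlas {Z : AlgSp.Sp S} (hZ : AlgSp.IsAlgSpace Z) :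
    ∃ (W : Over S) (q : (AlgSp.yon S).obj W ⟶ Z), IsSeparated W.hom ∧ AlgSp.RepWith @Etale q ∧
      AlgSp.RepWith @Surjective q := by
  obtain ⟨ι, V, r, hV, hr, hrs, -⟩ := exists_affine_charts hZ
  obtain ⟨q, hq, -⟩ := exists_hom_of_sigma V r
  have hqe : AlgSp.RepWith @Etale q := repWith_sigma hZ.diag V r q hq @Etale hr
  refine ⟨sigmaOver V, q, isSeparated_sigmaOver V fun i => ?_, hqe,
    repWith_surjective_of_ofPt hqe.1 fun z => ?_⟩
  · haveI := hV i
    haveI : IsSeparated ((V i).hom ≫ terminal.from S) := by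
      haveI : IsAffineHom ((V i).hom ≫ terminal.from S) := by
        rw [Subsingleton.elim ((V i).hom ≫ terminal.from S) (terminal.from _)]
        exact isAffineHom_of_isAffine _
      exact IsSeparated.of_isAffineHom _
    exact IsSeparated.of_comp (V i).hom (terminal.from S)
  · obtain ⟨i, w, rfl⟩ := hrs z
    exact ⟨(sigmaι V i).left w, by rw [← hq i, ofPt_map_comp]⟩

theorem isSeparated_of_isPullback {Z : AlgSp.Sp S} {W X X' : Over S} {q : (AlgSp.yon S).obj W ⟶ Z}
    {u : (AlgSp.yon S).obj X ⟶ Z} {t : X' ⟶ W} {f : X' ⟶ X}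
    (sq : IsPullback ((AlgSp.yon S).map t) ((AlgSp.yon S).map f) q u) [IsSeparated W.hom] :
    IsSeparated f.left := by
  let l : X'.left ⟶ pullback W.hom X.hom :=
    pullback.lift t.left f.left ((Over.w t).trans (Over.w f).symm)
  haveI : Mono l := ⟨fun {Q} g₁ g₂ h => by
    have h₁ : g₁ ≫ t.left = g₂ ≫ t.left := by
      simpa [l] using congrArg (fun z => z ≫ pullback.fst W.hom X.hom) h
    have h₂ : g₁ ≫ f.left = g₂ ≫ f.left := by
      simpa [l] using congrArg (fun z => z ≫ pullback.snd W.hom X.hom) h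
    let Q' : Over S := Over.mk (g₁ ≫ X'.hom)
    let a₁ : Q' ⟶ X' := Over.homMk g₁ rfl
    let a₂ : Q' ⟶ X' := Over.homMk g₂ (by
      change g₂ ≫ X'.hom = g₁ ≫ X'.hom
      rw [← Over.w f, reassoc_of% h₂])
    have : a₁ = a₂ := by
      refine (AlgSp.yon S).map_injective (sq.hom_ext ?_ ?_)
      · rw [← Functor.map_comp, ← Functor.map_comp]
        exact congrArg _ (Over.OverMorphism.ext h₁)
      · rw [← Functor.map_comp, ← Functor.map_comp]
        exact congrArg _ (Over.OverMorphism.ext h₂)
    exact congrArg (fun z => z.left) this⟩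
  have : f.left = l ≫ pullback.snd W.hom X.hom := (pullback.lift_snd _ _ _).symm
  rw [this]
  infer_instance

end GrothLib.AlgSp.PinchDesc
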