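import Groth.Agent.Lib.AlgSp.PinchHom
import Groth.Agent.Lib.Pushout6.BaseChange
import Groth.Agent.Lib.Pushout6.Functorial
import Groth.Agent.Lib.Pushout6.FiniteSet

/-!
# Pushouts of schemes along a closed immersion as pushouts in algebraic spaces
-/

set_option backward.isDefEq.respectTransparency false

universe u

open CategoryTheory CategoryTheory.Limits AlgebraicGeometry Opposite TensorProduct

namespace GrothLib.Pushout6

variable {P A B C P' A' B' C' : CommRingCat.{u}} (M : SquareMap P A B C P' A' B' C')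

theorem SquareMap.etale_φP_general (hA : M.φA.hom.Etale) (hB : M.φB.hom.Etale) : M.φP.hom.Etale := by
  letI := M.f.hom.toAlgebra
  letI := M.g.hom.toAlgebra
  letI := M.q.hom.toAlgebra
  letI := M.p.hom.toAlgebra
  letI : Algebra P C := (M.f ≫ M.q).hom.toAlgebra
  haveI : IsScalarTower P B C := IsScalarTower.of_algebraMap_eq fun _ => rfl
  haveI : IsScalarTower P A C := IsScalarTower.of_algebraMap_eq fun x => RingHom.congr_fun M.sq.w x
  have hsq : EtMil.IsFibreSquare P B A C := ⟨M.sq.surj, fun b a h => by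
    obtain ⟨x, hx₁, hx₂⟩ := M.sq.ex b a h
    refine ⟨x, ⟨hx₁, hx₂⟩, fun y hy => sub_eq_zero.mp (M.sq.inj _ ?_ ?_)⟩
    · rw [map_sub, sub_eq_zero, hx₁]
      exact hy.1
    · rw [map_sub, sub_eq_zero, hx₂]
      exact hy.2⟩
  letI := M.φP.hom.toAlgebra
  letI := M.φA.hom.toAlgebra
  letI := M.φB.hom.toAlgebra
  letI := M.f'.hom.toAlgebra
  letI := M.g'.hom.toAlgebra
  letI : Algebra P B' := (M.f ≫ M.φB).hom.toAlgebra
  letI : Algebra P A' := (M.g ≫ M.φA).hom.toAlgebra
  haveI : IsScalarTower P B B' := IsScalarTower.of_algebraMap_eq fun _ => rfl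
  haveI : IsScalarTower P A A' := IsScalarTower.of_algebraMap_eq fun _ => rfl
  haveI : IsScalarTower P P' B' := IsScalarTower.of_algebraMap_eq fun x => (M.hf' x).symm
  haveI : IsScalarTower P P' A' := IsScalarTower.of_algebraMap_eq fun x => (M.hg' x).symm
  haveI : Algebra.IsPushout P B P' B' := CommRingCat.isPushout_iff_isPushout.mp M.isPushout_right.flip
  haveI : Algebra.IsPushout P A P' A' := CommRingCat.isPushout_iff_isPushout.mp M.isPushout_left.flip
  haveI : Algebra.Etale B B' := hB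
  haveI : Algebra.Etale A A' := hA
  exact RingHom.etale_algebraMap.mpr (GrothLib.MilnorAlg10.etale_of_pair (D := B') (C' := A') hsq)

theorem etale_mapObj_general {X Y Z X' Y' Z' : Scheme.{u}} {i : Z ⟶ X} {j : Z ⟶ Y} [IsClosedImmersion i]
    {i' : Z' ⟶ X'} {j' : Z' ⟶ Y'} [IsClosedImmersion i'] {fX : X' ⟶ X} {gY : Y' ⟶ Y} {hZ : Z' ⟶ Z}
    (hX : IsPullback hZ i' i fX) (hY : IsPullback hZ j' j gY) (hC : Covered i j) (hC' : Covered i' j')
    [Etale fX] [Etale gY] : Etale (mapObj hX hY hC hC') :=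
  prop_mapObj hX hY hC hC' @Etale (fun _ _ => inferInstance) fun c c' hU hV =>
    (HasRingHomProperty.Spec_iff (P := @Etale)).mpr <| (squareMap hX hY hU hV).etale_φP_general
      (HasRingHomProperty.appLE @Etale fX inferInstance ⟨c.U, c.hU⟩ ⟨c'.U, c'.hU⟩ hU)
      (HasRingHomProperty.appLE @Etale gY inferInstance ⟨c.V, c.hV⟩ ⟨c'.V, c'.hV⟩ hV)

end GrothLib.Pushout6

namespace GrothLib.AlgSp.PinchDesc

open GrothLib.AlgSp GrothLib.AlgSp.PinchHom GrothLib.Pushout6

variable {S : Scheme.{u}}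

/-- Maps from a pushout along a closed immersion into an algebraic space are determined on the two sides. -/
theorem hom_ext_pushout {X Y C P : Over S} (i : C ⟶ X) (j : C ⟶ Y) (a : X ⟶ P) (b : Y ⟶ P)
    [IsClosedImmersion i.left] (hC : Covered i.left j.left) (hP : IsPushout i.left j.left a.left b.left)
    {Z : AlgSp.Sp S} (hZ : AlgSp.IsAlgSpace Z) {ya yb : (AlgSp.yon S).obj P ⟶ Z}
    (hA : (AlgSp.yon S).map a ≫ ya = (AlgSp.yon S).map a ≫ yb)
    (hB : (AlgSp.yon S).map b ≫ ya = (AlgSp.yon S).map b ≫ yb) : ya = yb := by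
  let e := objIso hC hP
  let m : ∀ c : Chart i.left j.left, c.W ⟶ P.left := fun c => chartι c ≫ e.hom
  let V : Chart i.left j.left → Over S := fun c => Over.mk (m c ≫ P.hom)
  let mV : ∀ c, V c ⟶ P := fun c => Over.homMk (m c) rfl
  have hm : ∀ c, IsOpenImmersion (mV c).left := fun c => inferInstanceAs (IsOpenImmersion (chartι c ≫ e.hom))
  refine hom_ext_cover V mV (fun c => by have := hm c; infer_instance) (fun c => by have := hm c; infer_instance)
    (fun x => ?_) fun c => ?_
  · obtain ⟨y, hy⟩ := e.hom.surjective x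
    obtain ⟨c, w, rfl⟩ := exists_eq_chartι y
    exact ⟨c, w, hy⟩
  letI := c.f.hom.toAlgebra
  letI := c.g.hom.toAlgebra
  letI := c.q.hom.toAlgebra
  letI := c.p.hom.toAlgebra
  letI : Algebra c.ring Γ(C.left, i.left ⁻¹ᵁ c.U) := (c.f ≫ c.q).hom.toAlgebra
  haveI : IsScalarTower c.ring Γ(Y.left, c.V) Γ(C.left, i.left ⁻¹ᵁ c.U) :=
    IsScalarTower.of_algebraMap_eq fun _ => rfl
  haveI : IsScalarTower c.ring Γ(X.left, c.U) Γ(C.left, i.left ⁻¹ᵁ c.U) :=
    IsScalarTower.of_algebraMap_eq fun x => c.w x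
  have hsq : EtMil.IsFibreSquare c.ring Γ(Y.left, c.V) Γ(X.left, c.U) Γ(C.left, i.left ⁻¹ᵁ c.U) :=
    ⟨c.p_surjective, fun y x h => ⟨c.pair y x h, ⟨rfl, rfl⟩, fun z hz => c.ext hz.1 hz.2⟩⟩
  let str : Spec (CommRingCat.of c.ring) ⟶ S := m c ≫ P.hom
  have hmA : c.hU.fromSpec ≫ a.left = c.α ≫ m c := by
    rw [← inl_objIso hC hP, ← Category.assoc, fromSpec_inl, Category.assoc]
  have hmB : c.hV.fromSpec ≫ b.left = c.β ≫ m c := by
    rw [← inr_objIso hC hP, ← Category.assoc, fromSpec_inr, Category.assoc]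
  obtain ⟨fA, hfA⟩ : ∃ fA : sp str Γ(X.left, c.U) ⟶ X, toBase str Γ(X.left, c.U) ≫ mV c = fA ≫ a := by
    refine ⟨Over.homMk c.hU.fromSpec ?_, Over.OverMorphism.ext hmA.symm⟩
    change c.hU.fromSpec ≫ X.hom = c.α ≫ m c ≫ P.hom
    rw [← Over.w a, reassoc_of% hmA]
  obtain ⟨fB, hfB⟩ : ∃ fB : sp str Γ(Y.left, c.V) ⟶ Y, toBase str Γ(Y.left, c.V) ≫ mV c = fB ≫ b := by
    refine ⟨Over.homMk c.hV.fromSpec ?_, Over.OverMorphism.ext hmB.symm⟩
    change c.hV.fromSpec ≫ Y.hom = c.β ≫ m c ≫ P.hom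
    rw [← Over.w b, reassoc_of% hmB]
  refine eq_of_agree str hsq hZ _ _ ?_ ?_
  · erw [← Functor.map_comp_assoc, ← Functor.map_comp_assoc]
    rw [hfB, Functor.map_comp, Category.assoc, Category.assoc, hB]
  · erw [← Functor.map_comp_assoc, ← Functor.map_comp_assoc]
    rw [hfA, Functor.map_comp, Category.assoc, Category.assoc, hA]

/-- A pushout of schemes along a closed immersion receives maps to an algebraic space,
provided that the pullbacks of the pair to an etale chart are covered by charts. -/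
theorem exists_desc {X Y C P : Over S} (i : C ⟶ X) (j : C ⟶ Y) (a : X ⟶ P) (b : Y ⟶ P)
    [IsClosedImmersion i.left] (hC : Covered i.left j.left) (hP : IsPushout i.left j.left a.left b.left)
    {Z : AlgSp.Sp S} (hZ : AlgSp.IsAlgSpace Z) {W : Over S} (q : (AlgSp.yon S).obj W ⟶ Z)
    (qe : AlgSp.RepWith @Etale q) (qs : AlgSp.RepWith @Surjective q)
    (u : (AlgSp.yon S).obj X ⟶ Z) (v : (AlgSp.yon S).obj Y ⟶ Z)
    (huv : (AlgSp.yon S).map i ≫ u = (AlgSp.yon S).map j ≫ v)
    (hsel : ∀ {X' Y' C' : Over S} (i' : C' ⟶ X') (j' : C' ⟶ Y') (fX : X' ⟶ X) (gY : Y' ⟶ Y) (hc : C' ⟶ C)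
      (tX : X' ⟶ W), IsPullback hc.left i'.left i.left fX.left → IsPullback hc.left j'.left j.left gY.left →
      Etale fX.left → Etale gY.left → IsPullback ((AlgSp.yon S).map tX) ((AlgSp.yon S).map fX) q u →
      Covered i'.left j'.left) :
    ∃! w : (AlgSp.yon S).obj P ⟶ Z, (AlgSp.yon S).map a ≫ w = u ∧ (AlgSp.yon S).map b ≫ w = v := by
  obtain ⟨TX, tX, fX, sqX⟩ := exists_isPullback_of_representable qe.1 u
  obtain ⟨TY, tY, gY, sqY⟩ := exists_isPullback_of_representable qe.1 v
  obtain ⟨TC, tC, hc, sqC⟩ := exists_isPullback_of_representable qe.1 ((AlgSp.yon S).map i ≫ u)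
  haveI hfX : Etale fX.left := qe.2 _ tX fX sqX
  haveI hgY : Etale gY.left := qe.2 _ tY gY sqY
  haveI : Surjective fX.left := qs.2 _ tX fX sqX
  haveI : Surjective gY.left := qs.2 _ tY gY sqY
  obtain ⟨tX, rfl⟩ := (AlgSp.yon S).map_surjective tX
  obtain ⟨tY, rfl⟩ := (AlgSp.yon S).map_surjective tY
  obtain ⟨tC, rfl⟩ := (AlgSp.yon S).map_surjective tC
  obtain ⟨i'', hi₁, hi₂⟩ := sqX.exists_lift ((AlgSp.yon S).map tC) ((AlgSp.yon S).map (hc ≫ i))
    (by rw [sqC.w, Functor.map_comp, Category.assoc])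
  obtain ⟨j'', hj₁, hj₂⟩ := sqY.exists_lift ((AlgSp.yon S).map tC) ((AlgSp.yon S).map (hc ≫ j))
    (by rw [sqC.w, huv, Functor.map_comp, Category.assoc])
  obtain ⟨i', rfl⟩ := (AlgSp.yon S).map_surjective i''
  obtain ⟨j', rfl⟩ := (AlgSp.yon S).map_surjective j''
  have pbi : IsPullback i' hc fX i := by
    refine isPullback_of_isPullback_yon (IsPullback.of_right ?_ (hi₂.trans (Functor.map_comp _ _ _)) sqX)
    rw [hi₁]
    exact sqC
  have pbj : IsPullback j' hc gY j := by
    refine isPullback_of_isPullback_yon (IsPullback.of_right ?_ (hj₂.trans (Functor.map_comp _ _ _)) sqY)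
    rw [hj₁, ← huv]
    exact sqC
  have pbi' : IsPullback hc.left i'.left i.left fX.left := (isPullback_left pbi).flip
  have pbj' : IsPullback hc.left j'.left j.left gY.left := (isPullback_left pbj).flip
  haveI : IsClosedImmersion i'.left := MorphismProperty.of_isPullback pbi' inferInstance
  have hC' : Covered i'.left j'.left := hsel i' j' fX gY hc tX pbi' pbj' hfX hgY sqX
  let e := objIso hC hP
  -- the glued chart
  let T : Over S := Over.mk (mapObj pbi' pbj' hC hC' ≫ e.hom ≫ P.hom)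
  let π : T ⟶ P := Over.homMk (mapObj pbi' pbj' hC hC' ≫ e.hom) (Category.assoc _ _ _)
  have hinl : inl hC' ≫ mapObj pbi' pbj' hC hC' ≫ e.hom = fX.left ≫ a.left := by
    rw [← Category.assoc, inl_mapObj, Category.assoc, inl_objIso]
  have hinr : inr hC' ≫ mapObj pbi' pbj' hC hC' ≫ e.hom = gY.left ≫ b.left := by
    rw [← Category.assoc, inr_mapObj, Category.assoc, inr_objIso]
  let ιX : TX ⟶ T := Over.homMk (inl hC') (by
    change inl hC' ≫ mapObj pbi' pbj' hC hC' ≫ e.hom ≫ P.hom = TX.hom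
    rw [← Category.assoc _ e.hom, ← Category.assoc, hinl, Category.assoc, Over.w a, Over.w fX])
  let ιY : TY ⟶ T := Over.homMk (inr hC') (by
    change inr hC' ≫ mapObj pbi' pbj' hC hC' ≫ e.hom ≫ P.hom = TY.hom
    rw [← Category.assoc _ e.hom, ← Category.assoc, hinr, Category.assoc, Over.w b, Over.w gY])
  have sX : IsPullback fX ιX a π := by
    refine IsPullback.of_map (Over.forget S) (Over.OverMorphism.ext hinl.symm) ?_
    exact (isPullback_inl_mapObj pbi' pbj' hC hC').of_iso (Iso.refl _) (Iso.refl _) (Iso.refl _) e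
      (by simp) (by simp [ιX]) (by simp [e, inl_objIso]) (by simp [π])
  have sY : IsPullback gY ιY b π := by
    refine IsPullback.of_map (Over.forget S) (Over.OverMorphism.ext hinr.symm) ?_
    exact (isPullback_inr_mapObj pbi' pbj' hC hC').of_iso (Iso.refl _) (Iso.refl _) (Iso.refl _) e
      (by simp) (by simp [ιY]) (by simp [e, inr_objIso]) (by simp [π])
  haveI : Etale π.left := by
    haveI := etale_mapObj_general pbi' pbj' hC hC'
    exact inferInstanceAs (Etale (mapObj pbi' pbj' hC hC' ≫ e.hom))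
  have hπs : ∀ x : ↥P.left, ∃ y, π.left y = x := by
    intro x
    rcases jointly_surjective hC hP x with ⟨x', rfl⟩ | ⟨y', rfl⟩
    · obtain ⟨z, rfl⟩ := fX.left.surjective x'
      exact ⟨inl hC' z, congr($hinl z)⟩
    · obtain ⟨z, rfl⟩ := gY.left.surjective y'
      exact ⟨inr hC' z, congr($hinr z)⟩
  obtain ⟨t, htX, htY⟩ : ∃ t : T ⟶ W, ιX ≫ t = tX ∧ ιY ≫ t = tY := by
    have hw : i' ≫ tX = j' ≫ tY := by
      apply (AlgSp.yon S).map_injective
      rw [Functor.map_comp, Functor.map_comp, hi₁, hj₁]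
    let d := (isPushout hC').desc tX.left tY.left (congrArg (fun z => z.left) hw)
    have hd₁ : inl hC' ≫ d = tX.left := (isPushout hC').inl_desc _ _ _
    have hd₂ : inr hC' ≫ d = tY.left := (isPushout hC').inr_desc _ _ _
    refine ⟨Over.homMk d ?_, Over.OverMorphism.ext hd₁, Over.OverMorphism.ext hd₂⟩
    refine Pushout6.hom_ext hC' ?_ ?_
    · rw [reassoc_of% hd₁, Over.w tX]
      exact (Over.w ιX).symm
    · rw [reassoc_of% hd₂, Over.w tY]
      exact (Over.w ιY).symm
  -- agreement on overlaps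
  have key : ∀ (Q : Over S) (g₁ g₂ : Q ⟶ T), g₁ ≫ π = g₂ ≫ π →
      (AlgSp.yon S).map g₁ ≫ (AlgSp.yon S).map t ≫ q = (AlgSp.yon S).map g₂ ≫ (AlgSp.yon S).map t ≫ q := by
    intro Q g₁ g₂ hg
    suffices h : (AlgSp.yon S).map (pullback.fst π π) ≫ (AlgSp.yon S).map t ≫ q =
        (AlgSp.yon S).map (pullback.snd π π) ≫ (AlgSp.yon S).map t ≫ q by
      have := congrArg (fun z => (AlgSp.yon S).map (pullback.lift g₁ g₂ hg) ≫ z) h
      simpa only [← Functor.map_comp_assoc, pullback.lift_fst_assoc, pullback.lift_snd_assoc] using this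
    obtain ⟨k, hk⟩ : ∃ k : pullback π π ⟶ P, k = pullback.fst π π ≫ π := ⟨_, rfl⟩
    have hk2 : pullback.snd π π ≫ π = k := by rw [hk, pullback.condition]
    haveI : Etale k.left := by
      rw [hk, Over.comp_left]
      haveI : Etale (pullback.fst π π).left :=
        MorphismProperty.of_isPullback (isPullback_left (IsPullback.of_hasPullback π π)).flip inferInstance
      infer_instance
    haveI : IsAffineHom a.left := prop_left @IsAffineHom hC hP (isAffineHom_inl hC)
    haveI : IsClosedImmersion b.left := isClosedImmersion_right hC hP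
    have pX := isPullback_left (IsPullback.of_hasPullback k a)
    have pY := isPullback_left (IsPullback.of_hasPullback k b)
    have pC := isPullback_left (IsPullback.of_hasPullback i (pullback.snd k a))
    obtain ⟨j₀, hj₀a, hj₀b⟩ : ∃ j₀ : pullback i (pullback.snd k a) ⟶ pullback k b,
        j₀ ≫ pullback.fst k b = pullback.snd i (pullback.snd k a) ≫ pullback.fst k a ∧
        j₀ ≫ pullback.snd k b = pullback.fst i (pullback.snd k a) ≫ j := by
      have hw : i ≫ a = j ≫ b := Over.OverMorphism.ext hP.w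
      refine ⟨pullback.lift _ _ ?_, pullback.lift_fst _ _ _, pullback.lift_snd _ _ _⟩
      rw [Category.assoc, pullback.condition, ← pullback.condition_assoc, hw, Category.assoc]
    have hsq := Pushout6.isPushout_baseChange (𝟙 P.left) k.left hC hP (Or.inl inferInstance)
      (IsPullback.of_vert_isIso ⟨by simp⟩ : IsPullback k.left (𝟙 _) (𝟙 P.left) k.left) pX.flip pY.flip pC
      (congrArg (fun z => z.left) hj₀b) (congrArg (fun z => z.left) hj₀a.symm)
    haveI : IsClosedImmersion (pullback.snd i (pullback.snd k a)).left :=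
      MorphismProperty.of_isPullback pC inferInstance
    haveI : IsAffineHom (pullback.fst k a).left := MorphismProperty.of_isPullback pX.flip inferInstance
    haveI : IsClosedImmersion (pullback.fst k b).left := MorphismProperty.of_isPullback pY.flip inferInstance
    refine hom_ext_pushout _ j₀ (pullback.fst k a) (pullback.fst k b)
      (covered_of_isAffineHom hsq.w) hsq hZ ?_ ?_
    · have : ∀ p : pullback π π ⟶ T, p ≫ π = k → (AlgSp.yon S).map (pullback.fst k a) ≫ (AlgSp.yon S).map p ≫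
          (AlgSp.yon S).map t ≫ q = (AlgSp.yon S).map (pullback.snd k a) ≫ u := by
        intro p hp
        obtain ⟨s, hs₁, hs₂⟩ := sX.exists_lift (pullback.snd k a) (pullback.fst k a ≫ p)
          (by rw [Category.assoc, hp, pullback.condition])
        rw [← Functor.map_comp_assoc, ← hs₂, ← Functor.map_comp_assoc, Category.assoc, htX, Functor.map_comp,
          Category.assoc, sqX.w, ← Functor.map_comp_assoc, hs₁]
      rw [this _ hk.symm, this _ hk2]
    · have : ∀ p : pullback π π ⟶ T, p ≫ π = k → (AlgSp.yon S).map (pullback.fst k b) ≫ (AlgSp.yon S).map p ≫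
          (AlgSp.yon S).map t ≫ q = (AlgSp.yon S).map (pullback.snd k b) ≫ v := by
        intro p hp
        obtain ⟨s, hs₁, hs₂⟩ := sY.exists_lift (pullback.snd k b) (pullback.fst k b ≫ p)
          (by rw [Category.assoc, hp, pullback.condition])
        rw [← Functor.map_comp_assoc, ← hs₂, ← Functor.map_comp_assoc, Category.assoc, htY, Functor.map_comp,
          Category.assoc, sqY.w, ← Functor.map_comp_assoc, hs₁]
      rw [this _ hk.symm, this _ hk2]
  obtain ⟨w, hw, -⟩ := exists_hom_of_cover (F := Z) (ι := PUnit.{u + 1}) (fun _ => T) (fun _ => π)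
    (fun _ => inferInstance) (fun _ => inferInstance) (fun x => ⟨⟨⟩, hπs x⟩)
    (fun _ => (AlgSp.yon S).map t ≫ q) fun _ _ Q g₁ g₂ hg => key Q g₁ g₂ hg
  have hwa : (AlgSp.yon S).map a ≫ w = u := by
    refine hom_ext_cover (ι := PUnit.{u + 1}) (fun _ => TX) (fun _ => fX) (fun _ => inferInstance)
      (fun _ => inferInstance) (fun x => ⟨⟨⟩, fX.left.surjective x⟩) fun _ => ?_
    rw [← Functor.map_comp_assoc, sX.w, Functor.map_comp, Category.assoc, hw ⟨⟩, ← Functor.map_comp_assoc, htX,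
      sqX.w]
  have hwb : (AlgSp.yon S).map b ≫ w = v := by
    refine hom_ext_cover (ι := PUnit.{u + 1}) (fun _ => TY) (fun _ => gY) (fun _ => inferInstance)
      (fun _ => inferInstance) (fun x => ⟨⟨⟩, gY.left.surjective x⟩) fun _ => ?_
    rw [← Functor.map_comp_assoc, sY.w, Functor.map_comp, Category.assoc, hw ⟨⟩, ← Functor.map_comp_assoc, htY,
      sqY.w]
  exact ⟨w, ⟨hwa, hwb⟩, fun w' hw' => hom_ext_pushout i j a b hC hP hZ (hw'.1.trans hwa.symm)
    (hw'.2.trans hwb.symm)⟩

/-- The pushout property in the category of algebraic spaces. -/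
theorem isPushout_ofScheme {X Y C P : Over S} (i : C ⟶ X) (j : C ⟶ Y) (a : X ⟶ P) (b : Y ⟶ P)
    [IsClosedImmersion i.left] (hC : Covered i.left j.left) (hP : IsPushout i.left j.left a.left b.left)
    (hatlas : ∀ Z : AlgSp.Space S, ∀ (u : (AlgSp.yon S).obj X ⟶ Z.obj),
      ∃ (W : Over S) (q : (AlgSp.yon S).obj W ⟶ Z.obj), AlgSp.RepWith @Etale q ∧ AlgSp.RepWith @Surjective q ∧
        ∀ {X' Y' C' : Over S} (i' : C' ⟶ X') (j' : C' ⟶ Y') (fX : X' ⟶ X) (gY : Y' ⟶ Y) (hc : C' ⟶ C)
          (tX : X' ⟶ W), IsPullback hc.left i'.left i.left fX.left → IsPullback hc.left j'.left j.left gY.left →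
          Etale fX.left → Etale gY.left → IsPullback ((AlgSp.yon S).map tX) ((AlgSp.yon S).map fX) q u →
          Covered i'.left j'.left) :
    IsPushout ((AlgSp.ofScheme S).map i) ((AlgSp.ofScheme S).map j) ((AlgSp.ofScheme S).map a)
      ((AlgSp.ofScheme S).map b) := by
  have hw : i ≫ a = j ≫ b := Over.OverMorphism.ext hP.w
  have hw' : (AlgSp.ofScheme S).map i ≫ (AlgSp.ofScheme S).map a =
      (AlgSp.ofScheme S).map j ≫ (AlgSp.ofScheme S).map b := by
    rw [← Functor.map_comp, ← Functor.map_comp, hw]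
  have main : ∀ c : PushoutCocone ((AlgSp.ofScheme S).map i) ((AlgSp.ofScheme S).map j),
      ∃! w : (AlgSp.yon S).obj P ⟶ c.pt.obj,
        (AlgSp.yon S).map a ≫ w = c.inl.hom ∧ (AlgSp.yon S).map b ≫ w = c.inr.hom := by
    intro c
    obtain ⟨W, q, qe, qs, hsel⟩ := hatlas c.pt c.inl.hom
    exact exists_desc i j a b hC hP c.pt.property q qe qs c.inl.hom c.inr.hom
      (congrArg (fun z => z.hom) c.condition) hsel
  choose w hw₁ hu using main
  exact IsPushout.of_isColimit (PushoutCocone.IsColimit.mk hw' (fun c => ⟨w c⟩)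
    (fun c => by ext1; exact (hw₁ c).1) (fun c => by ext1; exact (hw₁ c).2)
    (fun c m h₁ h₂ => by
      ext1
      exact hu c m.hom ⟨congrArg (fun z => z.hom) h₁, congrArg (fun z => z.hom) h₂⟩))

end GrothLib.AlgSp.PinchDesc
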