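import Groth.Agent.Lib.AlgSp.GlueHomEq
import Groth.Agent.Lib.MilnorAlg10.Basic
import Mathlib.LinearAlgebra.TensorProduct.Prod

/-!
# Maps from the corner of a Milnor square to algebraic spaces: uniqueness
-/

set_option backward.isDefEq.respectTransparency false

universe u

open CategoryTheory CategoryTheory.Limits AlgebraicGeometry Opposite TensorProduct

namespace GrothLib.AlgSp.PinchHom

open GrothLib.AlgSp GrothLib.AlgSp.GlueHom

variable {S : Scheme.{u}} {R : Type u} [CommRing R] (str : Spec (CommRingCat.of R) ⟶ S)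

/-- The affine scheme of an algebra, as a scheme over `S`. -/
noncomputable abbrev sp (A : Type u) [CommRing A] [Algebra R A] : Over S :=
  Over.mk (Spec.map (CommRingCat.ofHom (algebraMap R A)) ≫ str)

/-- The structure map to the base affine. -/
noncomputable def toBase (A : Type u) [CommRing A] [Algebra R A] : sp str A ⟶ Over.mk str :=
  Over.homMk (Spec.map (CommRingCat.ofHom (algebraMap R A))) rfl

/-- Algebra homomorphisms as morphisms. -/
noncomputable def spHom {A B : Type u} [CommRing A] [CommRing B] [Algebra R A] [Algebra R B] (ψ : A →ₐ[R] B) :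
    sp str B ⟶ sp str A :=
  Over.homMk (Spec.map (CommRingCat.ofHom ψ.toRingHom)) (by
    change Spec.map _ ≫ Spec.map _ ≫ str = Spec.map _ ≫ str
    rw [← Category.assoc, ← Spec.map_comp]
    congr 2
    ext r
    exact ψ.commutes r)

theorem spHom_comp {A B C : Type u} [CommRing A] [CommRing B] [CommRing C] [Algebra R A] [Algebra R B]
    [Algebra R C] (φ : A →ₐ[R] B) (ψ : B →ₐ[R] C) : spHom str (ψ.comp φ) = spHom str ψ ≫ spHom str φ :=
  Over.OverMorphism.ext (by
    change Spec.map _ = Spec.map _ ≫ Spec.map _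
    rw [← Spec.map_comp]
    rfl)

theorem spHom_toBase {A B : Type u} [CommRing A] [CommRing B] [Algebra R A] [Algebra R B] (ψ : A →ₐ[R] B) :
    spHom str ψ ≫ toBase str A = toBase str B :=
  Over.OverMorphism.ext (by
    change Spec.map _ ≫ Spec.map _ = Spec.map _
    rw [← Spec.map_comp]
    congr 1
    ext r
    exact ψ.commutes r)

theorem exists_spAlgHom {A B : Type u} [CommRing A] [CommRing B] [Algebra R A] [Algebra R B]
    (j : sp str B ⟶ sp str A) (hj : j ≫ toBase str A = toBase str B) : ∃ ψ : A →ₐ[R] B, spHom str ψ = j := by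
  let φ : CommRingCat.of A ⟶ CommRingCat.of B := Spec.preimage j.left
  have hφ : Spec.map φ = j.left := Spec.map_preimage _
  have hw : CommRingCat.ofHom (algebraMap R A) ≫ φ = CommRingCat.ofHom (algebraMap R B) := by
    apply Spec.map_injective
    rw [Spec.map_comp, hφ]
    exact congrArg (fun z => z.left) hj
  exact ⟨{ φ.hom with commutes' := fun r => congrArg (fun k => k.hom r) hw }, Over.OverMorphism.ext hφ⟩

theorem exists_sp_iso (W : Over S) [IsAffine W.left] (c : W ⟶ Over.mk str) :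
    ∃ (A : Type u) (_ : CommRing A) (_ : Algebra R A) (e : sp str A ≅ W), e.hom ≫ c = toBase str A := by
  let φ : CommRingCat.of R ⟶ Γ(W.left, ⊤) := Spec.preimage (W.left.isoSpec.inv ≫ c.left)
  have hφ : Spec.map φ = W.left.isoSpec.inv ≫ c.left := Spec.map_preimage _
  letI : Algebra R Γ(W.left, ⊤) := φ.hom.toAlgebra
  refine ⟨Γ(W.left, ⊤), inferInstance, inferInstance, Over.isoMk W.left.isoSpec.symm ?_, ?_⟩
  · change W.left.isoSpec.inv ≫ W.hom = Spec.map φ ≫ str
    rw [hφ, Category.assoc]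
    exact congrArg (W.left.isoSpec.inv ≫ ·) (Over.w c).symm
  · exact Over.OverMorphism.ext hφ.symm

/-- The ring map of a morphism into an affine object. -/
noncomputable def spRingMap {A : Type u} [CommRing A] [Algebra R A] {W : Over S}
    [IsAffine W.left] (k : sp str A ⟶ W) : Γ(W.left, ⊤) ⟶ CommRingCat.of A :=
  Spec.preimage (k.left ≫ W.left.isoSpec.hom)

theorem spHom_comp_eq_iff {A B : Type u} [CommRing A] [CommRing B] [Algebra R A] [Algebra R B]
    {W : Over S} [IsAffine W.left] (ψ : A →ₐ[R] B) (k l : sp str A ⟶ W) :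
    spHom str ψ ≫ k = spHom str ψ ≫ l ↔ ∀ w, ψ ((spRingMap str k).hom w) = ψ ((spRingMap str l).hom w) := by
  have hk : ∀ k : sp str A ⟶ W, (spHom str ψ ≫ k).left ≫ W.left.isoSpec.hom =
      Spec.map (spRingMap str k ≫ CommRingCat.ofHom ψ.toRingHom) := by
    intro k
    rw [Spec.map_comp, spRingMap, Spec.map_preimage, Over.comp_left, Category.assoc]
    rfl
  constructor
  · intro h w
    have := hk k
    rw [h, hk l] at this
    exact (congrArg (fun m => m.hom w) (Spec.map_injective this)).symm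
  · intro h
    apply Over.OverMorphism.ext
    rw [← cancel_mono W.left.isoSpec.hom, hk, hk]
    congr 1
    ext w
    exact h w

/-- On a part where two maps to an etale chart have equal images in the space, their equaliser is open. -/
theorem exists_idempotent {Z : AlgSp.Sp S}
    {W : Over S} [IsAffine W.left] {p : (AlgSp.yon S).obj W ⟶ Z}
    (hp : AlgSp.RepWith @Etale p) {C D : Type u} [CommRing C] [CommRing D] [Algebra R C] [Algebra R D]
    (ψ : C →ₐ[R] D) (k l : sp str C ⟶ W)
    (h : (AlgSp.yon S).map (spHom str ψ ≫ k) ≫ p = (AlgSp.yon S).map (spHom str ψ ≫ l) ≫ p) :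
    ∃ e, IsIdempotentElem e ∧
      (Ideal.span (Set.range fun w => (spRingMap str k).hom w - (spRingMap str l).hom w)).map ψ.toRingHom = Ideal.span {e} := by
  set I := Ideal.span (Set.range fun w => (spRingMap str k).hom w - (spRingMap str l).hom w) with hI
  set J := I.map ψ.toRingHom with hJ
  obtain ⟨V, fst, snd, sq⟩ := exists_isPullback_of_representable hp.1 p
  have hsnd : Etale snd.left := hp.2 p fst snd sq
  obtain ⟨fst, rfl⟩ := (AlgSp.yon S).map_surjective fst
  obtain ⟨δ', hδ₁, hδ₂⟩ := sq.exists_lift (𝟙 _) (𝟙 _) rfl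
  obtain ⟨δ, rfl⟩ := (AlgSp.yon S).map_surjective δ'
  rw [← Functor.map_comp] at hδ₁ hδ₂
  replace hδ₁ : δ ≫ fst = 𝟙 W := (AlgSp.yon S).map_injective (hδ₁.trans ((AlgSp.yon S).map_id W).symm)
  replace hδ₂ : δ ≫ snd = 𝟙 W := (AlgSp.yon S).map_injective (hδ₂.trans ((AlgSp.yon S).map_id W).symm)
  have hδ : IsOpenImmersion δ.left := by
    have h2 : δ.left ≫ snd.left = 𝟙 W.left := congrArg (fun z => z.left) hδ₂
    haveI : Mono δ.left := mono_of_mono_fac h2
    haveI : Etale (δ.left ≫ snd.left) := h2.symm ▸ inferInstanceAs (Etale (𝟙 W.left))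
    haveI : Etale δ.left := Etale.of_comp δ.left snd.left
    exact IsOpenImmersion.of_flat_of_mono δ.left
  obtain ⟨u', hu₁, hu₂⟩ := sq.exists_lift _ _ h
  obtain ⟨u, rfl⟩ := (AlgSp.yon S).map_surjective u'
  rw [← Functor.map_comp] at hu₁ hu₂
  replace hu₁ : u ≫ fst = spHom str ψ ≫ k := (AlgSp.yon S).map_injective hu₁
  replace hu₂ : u ≫ snd = spHom str ψ ≫ l := (AlgSp.yon S).map_injective hu₂
  let q : CommRingCat.of D ⟶ CommRingCat.of (D ⧸ J) := CommRingCat.ofHom (Ideal.Quotient.mk J)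
  suffices hq : IsOpenImmersion (Spec.map q) by
    obtain ⟨e, he, hk⟩ := (isOpenImmersion_SpecMap_iff_of_surjective q Ideal.Quotient.mk_surjective).mp hq
    exact ⟨e, he, by rw [← hk]; exact (Ideal.mk_ker).symm⟩
  let ι : pullback u.left δ.left ⟶ (sp str D).left := pullback.fst _ _
  haveI : IsOpenImmersion ι := inferInstanceAs (IsOpenImmersion (pullback.fst u.left δ.left))
  let θ : sp str (D ⧸ J) ⟶ sp str D := spHom str (Ideal.Quotient.mkₐ R J)
  have hθ : θ.left = Spec.map q := rfl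
  have heq : θ ≫ spHom str ψ ≫ k = θ ≫ spHom str ψ ≫ l := by
    have hcomp : θ ≫ spHom str ψ = spHom str ((Ideal.Quotient.mkₐ R J).comp ψ) := by
      apply Over.OverMorphism.ext
      change Spec.map _ ≫ Spec.map _ = Spec.map _
      rw [← Spec.map_comp]
      rfl
    rw [← Category.assoc, ← Category.assoc, hcomp, spHom_comp_eq_iff]
    intro w
    change Ideal.Quotient.mk J (ψ _) = Ideal.Quotient.mk J (ψ _)
    rw [Ideal.Quotient.eq, ← map_sub]
    exact Ideal.mem_map_of_mem ψ.toRingHom (Ideal.subset_span ⟨w, rfl⟩)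
  have hθu : θ ≫ u = (θ ≫ spHom str ψ ≫ k) ≫ δ := by
    apply (AlgSp.yon S).map_injective
    apply sq.hom_ext
    · rw [← Functor.map_comp, ← Functor.map_comp]
      congr 1
      simp only [Category.assoc, hu₁, hδ₁, Category.comp_id]
    · rw [← Functor.map_comp, ← Functor.map_comp]
      congr 1
      simp only [Category.assoc, hu₂, hδ₂, Category.comp_id]
      exact heq.symm
  let v : Spec (CommRingCat.of (D ⧸ J)) ⟶ pullback u.left δ.left :=
    pullback.lift (Spec.map q) (θ ≫ spHom str ψ ≫ k).left (by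
      rw [← hθ, ← Over.comp_left, hθu, Over.comp_left])
  let χ : CommRingCat.of D ⟶ Γ(pullback u.left δ.left, ⊤) :=
    (Scheme.ΓSpecIso (CommRingCat.of D)).inv ≫ ι.appTop
  have hχ : ι = (pullback u.left δ.left).toSpecΓ ≫ Spec.map χ := by
    rw [Spec.map_comp, ← Category.assoc, ← Scheme.toSpecΓ_naturality, Category.assoc]
    erw [toSpecΓ_SpecMap_ΓSpecIso_inv, Category.comp_id]
  let G := Γ(pullback u.left δ.left, ⊤)
  have hw : ∀ j : sp str C ⟶ W, ι ≫ (spHom str ψ ≫ j).left ≫ W.left.isoSpec.hom =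
      (pullback u.left δ.left).toSpecΓ ≫ Spec.map (spRingMap str j ≫ CommRingCat.ofHom ψ.toRingHom ≫ χ) := by
    intro j
    rw [Spec.map_comp, Spec.map_comp, spRingMap, Spec.map_preimage, Over.comp_left, Category.assoc,
      hχ]
    simp only [Category.assoc]
    rfl
  have hkl : ι ≫ (spHom str ψ ≫ k).left = ι ≫ (spHom str ψ ≫ l).left := by
    rw [← hu₁, ← hu₂, Over.comp_left, Over.comp_left, pullback.condition_assoc, pullback.condition_assoc]
    rw [← Over.comp_left, ← Over.comp_left, hδ₁, hδ₂]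
  have hker : ∀ x ∈ J, χ.hom x = 0 := by
    have hle : J ≤ RingHom.ker χ.hom := by
      refine Ideal.map_le_iff_le_comap.mpr (Ideal.span_le.mpr ?_)
      rintro _ ⟨w, rfl⟩
      change χ.hom (ψ (_ - _)) = 0
      rw [map_sub, map_sub, sub_eq_zero]
      have h3 := hw k
      rw [← Category.assoc, hkl, Category.assoc, hw l] at h3
      have h4 := congrArg (fun m => (Scheme.ΓSpecIso Γ(W.left, ⊤)).inv ≫ Scheme.Hom.appTop m) h3
      simp only [Scheme.Hom.comp_appTop, Scheme.toSpecΓ_appTop, ← Scheme.ΓSpecIso_inv_naturality_assoc,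
        Iso.inv_hom_id, Category.comp_id] at h4
      exact (congrArg (fun m => m.hom w) h4).symm
    exact fun x hx => hle hx
  let v' : pullback u.left δ.left ⟶ Spec (CommRingCat.of (D ⧸ J)) :=
    (pullback u.left δ.left).toSpecΓ ≫ Spec.map (CommRingCat.ofHom (Ideal.Quotient.lift J χ.hom hker))
  have hv' : v' ≫ Spec.map q = ι := by
    rw [hχ, Category.assoc, ← Spec.map_comp]
    rfl
  have hv : v ≫ ι = Spec.map q := pullback.lift_fst _ _ _
  haveI : Mono (Spec.map q) := by
    have : IsClosedImmersion (Spec.map q) := IsClosedImmersion.spec_of_surjective q Ideal.Quotient.mk_surjective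
    infer_instance
  haveI : IsIso v := ⟨v', by rw [← cancel_mono (Spec.map q), Category.assoc, hv', hv, Category.id_comp],
    by rw [← cancel_mono ι, Category.assoc, hv, hv', Category.id_comp]⟩
  rw [← hv]
  infer_instance

section Square

variable {B' B A' A : Type u} [CommRing B'] [CommRing B] [CommRing A'] [CommRing A]
  [Algebra B' B] [Algebra B' A'] [Algebra B A] [Algebra A' A] [Algebra B' A]
  [IsScalarTower B' B A] [IsScalarTower B' A' A]

theorem exists_algHom_field (hsq : EtMil.IsFibreSquare B' B A' A) (κ : Type u) [Field κ] [Algebra B' κ] :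
    Nonempty (B →ₐ[B'] κ) ∨ Nonempty (A' →ₐ[B'] κ) := by
  rcases MilnorAlg10.exists_lift_field hsq κ with ⟨σ, hσ⟩ | ⟨σ, hσ⟩
  · exact Or.inl ⟨{ σ with commutes' := fun r => DFunLike.congr_fun hσ r }⟩
  · exact Or.inr ⟨{ σ with commutes' := fun r => DFunLike.congr_fun hσ r }⟩

variable (str : Spec (CommRingCat.of B') ⟶ S)

/-- Flat base change of a Milnor square is exact. -/
theorem exists_glue_flat (hsq : EtMil.IsFibreSquare B' B A' A) (C : Type u) [CommRing C] [Algebra B' C]
    [Module.Flat B' C] :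
    (∀ (x : C ⊗[B'] B) (y : C ⊗[B'] A'),
      LinearMap.lTensor C (IsScalarTower.toAlgHom B' B A).toLinearMap x =
        LinearMap.lTensor C (IsScalarTower.toAlgHom B' A' A).toLinearMap y →
      ∃ c : C, c ⊗ₜ[B'] (1 : B) = x ∧ c ⊗ₜ[B'] (1 : A') = y) ∧
    ∀ c : C, c ⊗ₜ[B'] (1 : B) = 0 → c ⊗ₜ[B'] (1 : A') = 0 → c = 0 := by
  let Θ : B' →ₗ[B'] B × A' := (Algebra.linearMap B' B).prod (Algebra.linearMap B' A')
  let ψ : B × A' →ₗ[B'] A := (IsScalarTower.toAlgHom B' B A).toLinearMap.comp (LinearMap.fst B' B A') -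
    (IsScalarTower.toAlgHom B' A' A).toLinearMap.comp (LinearMap.snd B' B A')
  have hinj : Function.Injective Θ := fun r s h =>
    Groth.Agent.Milnor.eq_of_pair hsq (congrArg Prod.fst h) (congrArg Prod.snd h)
  have hex : Function.Exact Θ ψ := by
    rintro ⟨b, a⟩
    constructor
    · intro h
      obtain ⟨r, ⟨h₁, h₂⟩, -⟩ := hsq.2 b a (sub_eq_zero.mp h)
      exact ⟨r, Prod.ext h₁ h₂⟩
    · rintro ⟨r, hr⟩
      rw [← hr]
      change algebraMap B A (algebraMap B' B r) - algebraMap A' A (algebraMap B' A' r) = 0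
      rw [← IsScalarTower.algebraMap_apply, ← IsScalarTower.algebraMap_apply, sub_self]
  have hΘ : ∀ c : C, TensorProduct.prodRight B' B' C B A' (LinearMap.lTensor C Θ (c ⊗ₜ[B'] (1 : B'))) =
      (c ⊗ₜ[B'] (1 : B), c ⊗ₜ[B'] (1 : A')) := fun c => by simp [Θ]
  have hψ : ∀ z : C ⊗[B'] (B × A'), LinearMap.lTensor C ψ z =
      LinearMap.lTensor C (IsScalarTower.toAlgHom B' B A).toLinearMap (TensorProduct.prodRight B' B' C B A' z).1 -
      LinearMap.lTensor C (IsScalarTower.toAlgHom B' A' A).toLinearMap (TensorProduct.prodRight B' B' C B A' z).2 := by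
    intro z
    induction z using TensorProduct.induction_on with
    | zero => simp
    | tmul c p => simp [ψ, TensorProduct.tmul_sub]
    | add z w hz hw => simp [hz, hw]; abel
  refine ⟨fun x y hxy => ?_, fun c h₁ h₂ => ?_⟩
  · obtain ⟨z, hz⟩ := ((Module.Flat.lTensor_exact C hex) ((TensorProduct.prodRight B' B' C B A').symm (x, y))).1 (by
      rw [hψ, LinearEquiv.apply_symm_apply, hxy, sub_self])
    obtain ⟨c, rfl⟩ : ∃ c : C, c ⊗ₜ[B'] (1 : B') = z := ⟨_, (TensorProduct.rid B' C).symm_apply_apply z⟩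
    have := congrArg (TensorProduct.prodRight B' B' C B A') hz
    rw [hΘ, LinearEquiv.apply_symm_apply] at this
    exact ⟨c, congrArg Prod.fst this, congrArg Prod.snd this⟩
  · have h : LinearMap.lTensor C Θ (c ⊗ₜ[B'] (1 : B')) = 0 := by
      apply (TensorProduct.prodRight B' B' C B A').injective
      rw [hΘ, map_zero, h₁, h₂]
      rfl
    have := Module.Flat.lTensor_preserves_injective_linearMap (M := C) Θ hinj (h.trans (map_zero _).symm)
    simpa using congrArg (TensorProduct.rid B' C) this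

/-- Two maps to an affine etale chart agreeing in the space on both sides agree near points where they are equal. -/
theorem exists_nhd (hsq : EtMil.IsFibreSquare B' B A' A) {Z : AlgSp.Sp S}
    {W : Over S} [IsAffine W.left] {q : (AlgSp.yon S).obj W ⟶ Z} (qe : AlgSp.RepWith @Etale q) {C : Type u}
    [CommRing C] [Algebra B' C] (hC : Etale (toBase str C).left) (k l : sp str C ⟶ W)
    (hD : ∀ {D : Type u} [CommRing D] [Algebra B' D] (ψ : C →ₐ[B'] D),
      (Nonempty (B →ₐ[B'] D) ∨ Nonempty (A' →ₐ[B'] D)) →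
      (AlgSp.yon S).map (spHom str ψ ≫ k) ≫ q = (AlgSp.yon S).map (spHom str ψ ≫ l) ≫ q)
    (K : Type u) [Field K] (ρ₁ : CommRingCat.of C ⟶ CommRingCat.of K)
    (hkl : Spec.map ρ₁ ≫ k.left = Spec.map ρ₁ ≫ l.left) :
    ∃ h : C, ρ₁.hom h ≠ 0 ∧ spHom str (IsScalarTower.toAlgHom B' C (Localization.Away h)) ≫ k =
      spHom str (IsScalarTower.toAlgHom B' C (Localization.Away h)) ≫ l := by
  have hflat : Module.Flat B' C := by
    have : Etale (Spec.map (CommRingCat.ofHom (algebraMap B' C))) := hC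
    have h : Flat (Spec.map (CommRingCat.ofHom (algebraMap B' C))) := inferInstance
    exact RingHom.flat_algebraMap_iff.mp ((HasRingHomProperty.Spec_iff (P := @Flat)).mp h)
  letI : Algebra B' K := (ρ₁.hom.comp (algebraMap B' C)).toAlgebra
  let ρ : C →ₐ[B'] K := { ρ₁.hom with commutes' := fun _ => rfl }
  let I : Ideal C := Ideal.span (Set.range fun w => (spRingMap str k).hom w - (spRingMap str l).hom w)
  have hIρ : ∀ x ∈ I, ρ x = 0 := by
    have hle : I ≤ RingHom.ker ρ.toRingHom := Ideal.span_le.mpr (by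
      rintro _ ⟨y, rfl⟩
      change ρ (_ - _) = 0
      rw [map_sub, sub_eq_zero]
      have h2 : Spec.map (spRingMap str k ≫ ρ₁) = Spec.map (spRingMap str l ≫ ρ₁) := by
        rw [Spec.map_comp, Spec.map_comp, spRingMap, spRingMap, Spec.map_preimage, Spec.map_preimage, reassoc_of% hkl]
      exact congrArg (fun v => v.hom y) (Spec.map_injective h2))
    exact fun x hx => hle hx
  let ιB : C →ₐ[B'] C ⊗[B'] B := Algebra.TensorProduct.includeLeft
  let ιA : C →ₐ[B'] C ⊗[B'] A' := Algebra.TensorProduct.includeLeft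
  obtain ⟨e₁, he₁, hs₁⟩ := exists_idempotent str qe ιB k l (hD ιB (Or.inl ⟨Algebra.TensorProduct.includeRight⟩))
  obtain ⟨e₂, he₂, hs₂⟩ := exists_idempotent str qe ιA k l (hD ιA (Or.inr ⟨Algebra.TensorProduct.includeRight⟩))
  let u₁ := Algebra.TensorProduct.map (AlgHom.id B' C) (IsScalarTower.toAlgHom B' B A)
  let u₂ := Algebra.TensorProduct.map (AlgHom.id B' C) (IsScalarTower.toAlgHom B' A' A)
  have heq : u₁ e₁ = u₂ e₂ := by
    refine eq_of_span_eq (he₁.map u₁) (he₂.map u₂) ?_
    have h₁ : Ideal.span {u₁.toRingHom e₁} = I.map (u₁.toRingHom.comp ιB.toRingHom) := by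
      rw [← Ideal.map_map, hs₁, Ideal.map_span, Set.image_singleton]
    have h₂ : Ideal.span {u₂.toRingHom e₂} = I.map (u₂.toRingHom.comp ιA.toRingHom) := by
      rw [← Ideal.map_map, hs₂, Ideal.map_span, Set.image_singleton]
    have hu : u₁.toRingHom.comp ιB.toRingHom = u₂.toRingHom.comp ιA.toRingHom := by
      refine RingHom.ext fun x => ?_
      change u₁ (x ⊗ₜ[B'] (1 : B)) = u₂ (x ⊗ₜ[B'] (1 : A'))
      simp only [u₁, u₂, Algebra.TensorProduct.map_tmul, map_one]
    rw [hu] at h₁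
    exact h₁.trans h₂.symm
  haveI := hflat
  obtain ⟨e, he1, he2⟩ := (exists_glue_flat hsq C).1 e₁ e₂ heq
  replace he1 : ιB e = e₁ := he1
  replace he2 : ιA e = e₂ := he2
  refine ⟨1 - e, ?_, ?_⟩
  · change ρ (1 - e) ≠ 0
    have key : ∀ (D : Type u) [CommRing D] [Algebra B' D] (ι : C →ₐ[B'] D) (χ : D →ₐ[B'] K) (f : D),
        χ.comp ι = ρ → I.map ι.toRingHom = Ideal.span {f} → ι e = f → ρ e = 0 := by
      intro D _ _ ι χ f hχ hs hef
      have hle : I.map ι.toRingHom ≤ RingHom.ker χ.toRingHom :=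
        Ideal.map_le_iff_le_comap.mpr fun x hx => by
          change χ (ι x) = 0
          rw [← AlgHom.comp_apply, hχ]; exact hIρ x hx
      rw [← hχ, AlgHom.comp_apply, hef]
      exact hle (hs ▸ Ideal.mem_span_singleton_self f)
    have : ρ e = 0 := by
      rcases exists_algHom_field hsq K with ⟨⟨σ⟩⟩ | ⟨⟨σ⟩⟩
      · exact key _ ιB (Algebra.TensorProduct.lift ρ σ (fun _ _ => Commute.all _ _)) e₁
          (Algebra.TensorProduct.lift_comp_includeLeft _ _ _) hs₁ he1
      · exact key _ ιA (Algebra.TensorProduct.lift ρ σ (fun _ _ => Commute.all _ _)) e₂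
          (Algebra.TensorProduct.lift_comp_includeLeft _ _ _) hs₂ he2
    simp [this]
  · rw [spHom_comp_eq_iff]
    intro y
    rw [← sub_eq_zero, ← map_sub]
    refine (IsLocalization.map_eq_zero_iff (Submonoid.powers (1 - e)) _ _).mpr
      ⟨⟨1 - e, Submonoid.mem_powers _⟩, ?_⟩
    have hx : (spRingMap str k).hom y - (spRingMap str l).hom y ∈ I := Ideal.subset_span ⟨y, rfl⟩
    have hkill : ∀ (D : Type u) [CommRing D] [Algebra B' D] (ι : C →ₐ[B'] D) (f : D), IsIdempotentElem f →
        I.map ι.toRingHom = Ideal.span {f} → ι e = f →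
        ι ((1 - e) * ((spRingMap str k).hom y - (spRingMap str l).hom y)) = 0 := by
      intro D _ _ ι f hf hs hef
      obtain ⟨c, hc⟩ := Ideal.mem_span_singleton'.mp (hs ▸ Ideal.mem_map_of_mem ι.toRingHom hx)
      rw [map_mul, map_sub, map_one, hef]
      change (1 - f) * ι.toRingHom _ = 0
      rw [← hc, mul_left_comm, sub_mul, one_mul, hf.eq, sub_self, mul_zero]
    have h0 : ∀ c : C, ιB c = 0 → ιA c = 0 → c = 0 := (exists_glue_flat hsq C).2
    exact h0 _ (hkill _ ιB e₁ he₁ hs₁ he1) (hkill _ ιA e₂ he₂ hs₂ he2)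

/-- Two maps from the corner of a Milnor square agreeing on both sides are equal. -/
theorem eq_of_agree (hsq : EtMil.IsFibreSquare B' B A' A) {Z : AlgSp.Sp S} (hT : AlgSp.IsAlgSpace Z)
    (ya yb : (AlgSp.yon S).obj (Over.mk str) ⟶ Z)
    (hB : (AlgSp.yon S).map (toBase str B) ≫ ya = (AlgSp.yon S).map (toBase str B) ≫ yb)
    (hA : (AlgSp.yon S).map (toBase str A') ≫ ya = (AlgSp.yon S).map (toBase str A') ≫ yb) : ya = yb := by
  let U : Over S := Over.mk str
  have hagree : ∀ (D : Type u) [CommRing D] [Algebra B' D],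
      (Nonempty (B →ₐ[B'] D) ∨ Nonempty (A' →ₐ[B'] D)) →
      (AlgSp.yon S).map (toBase str D) ≫ ya = (AlgSp.yon S).map (toBase str D) ≫ yb := by
    intro D _ _ h
    rcases h with ⟨⟨σ⟩⟩ | ⟨⟨σ⟩⟩
    · rw [← spHom_toBase str σ, Functor.map_comp, Category.assoc, Category.assoc, hB]
    · rw [← spHom_toBase str σ, Functor.map_comp, Category.assoc, Category.assoc, hA]
  have key : ∀ t : ↥U.left, ∃ (T : Over S) (c : T ⟶ U), Etale c.left ∧ t ∈ Set.range c.left ∧
      (AlgSp.yon S).map c ≫ ya = (AlgSp.yon S).map c ≫ yb := by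
    intro t
    -- an affine chart of `Z` around the image
    obtain ⟨W₀, q₀, q₀e, q₀s⟩ := hT.atlas
    obtain ⟨w₀, hw₀⟩ := surjective_ofPt_of_repWith q₀s (AlgSp.Points.ofPt (ya) t)
    obtain ⟨W, jW, hW, hjW, w, hw⟩ := exists_affine_nhd W₀ w₀
    let q : (AlgSp.yon S).obj W ⟶ Z := (AlgSp.yon S).map jW ≫ q₀
    have qe : AlgSp.RepWith @Etale q := by
      have : Etale jW.left := inferInstance
      exact repWith_comp (repWith_yon_map this) q₀e
    obtain ⟨T₁, f₁, s₁, sq₁⟩ := exists_isPullback_of_representable qe.1 (ya)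
    have hs₁ : Etale s₁.left := qe.2 _ f₁ s₁ sq₁
    obtain ⟨f₁, rfl⟩ := (AlgSp.yon S).map_surjective f₁
    obtain ⟨T₂, f₂, s₂, sq₂⟩ := exists_isPullback_of_representable qe.1 ((AlgSp.yon S).map s₁ ≫ yb)
    have hs₂ : Etale s₂.left := qe.2 _ f₂ s₂ sq₂
    obtain ⟨f₂, rfl⟩ := (AlgSp.yon S).map_surjective f₂
    obtain ⟨r, hr₁, hr₂⟩ := (ofPt_eq_ofPt_iff sq₁ w t).mp (by
      rw [ofPt_map_comp, hw, hw₀])
    -- a field point of `W` over both images
    let κ := T₁.left.residueField r
    obtain ⟨ρ₀, hρ₀⟩ : ∃ ρ₀ : CommRingCat.of B' ⟶ κ, Spec.map ρ₀ = T₁.left.fromSpecResidueField r ≫ s₁.left :=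
      ⟨_, Spec.map_preimage _⟩
    letI : Algebra B' κ := ρ₀.hom.toAlgebra
    let i₁ : sp str κ ⟶ T₁ := Over.homMk (T₁.left.fromSpecResidueField r) (by
      change T₁.left.fromSpecResidueField r ≫ T₁.hom = Spec.map ρ₀ ≫ str
      rw [hρ₀, Category.assoc]
      exact congrArg (T₁.left.fromSpecResidueField r ≫ ·) (Over.w s₁).symm)
    have hi₁ : i₁ ≫ s₁ = toBase str κ := Over.OverMorphism.ext hρ₀.symm
    have hP₁ : (AlgSp.yon S).map (i₁ ≫ s₁) ≫ ya = (AlgSp.yon S).map (i₁ ≫ s₁) ≫ yb := by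
      rw [hi₁]
      rcases exists_algHom_field hsq κ with ⟨⟨σ⟩⟩ | ⟨⟨σ⟩⟩
      · exact hagree κ (Or.inl ⟨σ⟩)
      · exact hagree κ (Or.inr ⟨σ⟩)
    obtain ⟨ℓ', hl₁, hl₂⟩ := sq₂.exists_lift ((AlgSp.yon S).map (i₁ ≫ f₁)) ((AlgSp.yon S).map i₁) (by
      rw [Functor.map_comp, Category.assoc, sq₁.w, ← Category.assoc, ← Functor.map_comp, hP₁,
        Functor.map_comp, Category.assoc])
    obtain ⟨ℓ, rfl⟩ := (AlgSp.yon S).map_surjective ℓ'
    rw [← Functor.map_comp] at hl₁ hl₂
    replace hl₁ := (AlgSp.yon S).map_injective hl₁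
    replace hl₂ := (AlgSp.yon S).map_injective hl₂
    let pt : ↥(sp str κ).left := (IsLocalRing.closedPoint ↥(T₁.left.residueField r))
    obtain ⟨Q, jQ, hQ, hjQ, z, hz⟩ := exists_affine_nhd T₂ (ℓ.left pt)
    obtain ⟨C, iC, iR, e, he'⟩ := exists_sp_iso str Q (jQ ≫ s₂ ≫ s₁)
    obtain ⟨j, hj, hje⟩ : ∃ j : sp str C ⟶ T₂, IsOpenImmersion j.left ∧ j = e.hom ≫ jQ := by
      refine ⟨_, ?_, rfl⟩
      have : IsOpenImmersion e.hom.left := inferInstance
      simp only [Over.comp_left]
      infer_instance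
    obtain ⟨k, hk'⟩ : ∃ k : sp str C ⟶ W, k = j ≫ s₂ ≫ f₁ := ⟨_, rfl⟩
    obtain ⟨l, hl'⟩ : ∃ l : sp str C ⟶ W, l = j ≫ f₂ := ⟨_, rfl⟩
    obtain ⟨toU, htoU'⟩ : ∃ toU : sp str C ⟶ U, toU = j ≫ s₂ ≫ s₁ := ⟨_, rfl⟩
    have htoU : Etale toU.left := by
      rw [htoU']
      simp only [Over.comp_left]
      infer_instance
    have hk : (AlgSp.yon S).map k ≫ q = (AlgSp.yon S).map toU ≫ ya := by
      simp only [hk', htoU', Functor.map_comp, Category.assoc]
      rw [sq₁.w]
    have hl : (AlgSp.yon S).map l ≫ q = (AlgSp.yon S).map toU ≫ yb := by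
      simp only [hl', htoU', Functor.map_comp, Category.assoc]
      rw [sq₂.w]
    obtain ⟨m, hm⟩ : ∃ m : (sp str κ).left ⟶ (sp str C).left, m ≫ j.left = ℓ.left := by
      refine ⟨IsOpenImmersion.lift j.left ℓ.left ?_, IsOpenImmersion.lift_fac _ _ _⟩
      rintro _ ⟨x, rfl⟩
      haveI : Subsingleton ↥(Spec (T₁.left.residueField r)) :=
        inferInstanceAs (Subsingleton (PrimeSpectrum (T₁.left.residueField r)))
      have : x = pt := @Subsingleton.elim ↥(Spec (T₁.left.residueField r)) _ x pt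
      refine ⟨e.inv.left z, ?_⟩
      rw [this, hje]
      simp only [Over.comp_left, Scheme.Hom.comp_apply]
      rw [← Scheme.Hom.comp_apply e.inv.left, ← Over.comp_left, e.inv_hom_id]
      exact hz
    have hℓ₁ : ℓ.left ≫ f₂.left = i₁.left ≫ f₁.left := congrArg (fun v => v.left) hl₁
    have hℓ₂ : ℓ.left ≫ s₂.left = i₁.left := congrArg (fun v => v.left) hl₂
    obtain ⟨ρ₁, hρ₁⟩ : ∃ ρ₁ : CommRingCat.of C ⟶ T₁.left.residueField r, Spec.map ρ₁ = m :=
      ⟨_, Spec.map_preimage m⟩
    have htoU'' : toU = toBase str C := by rw [htoU', hje, Category.assoc]; exact he'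
    obtain ⟨h, hh, h4⟩ := exists_nhd str hsq qe (htoU'' ▸ htoU) k l (fun {D} _ _ ψ ν => by
      rw [Functor.map_comp (AlgSp.yon S) (spHom str ψ) k, Functor.map_comp (AlgSp.yon S) (spHom str ψ) l,
        Category.assoc, Category.assoc, hk, hl]
      rw [← Functor.map_comp_assoc, ← Functor.map_comp_assoc, htoU'', spHom_toBase]
      exact hagree D ν) ↥(T₁.left.residueField r) ρ₁ (by
      rw [hρ₁, hk', hl']
      simp only [Over.comp_left]
      rw [reassoc_of% hm, reassoc_of% hm, reassoc_of% hℓ₂, hℓ₁])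
    refine ⟨sp str (Localization.Away h), spHom str (IsScalarTower.toAlgHom B' C (Localization.Away h)) ≫ toU,
      ?_, ?_, ?_⟩
    · haveI : IsOpenImmersion (spHom str (IsScalarTower.toAlgHom B' C (Localization.Away h))).left :=
        IsOpenImmersion.of_isLocalization (R := CommRingCat.of C) (S := Localization.Away h) h
      simp only [Over.comp_left]
      infer_instance
    · obtain ⟨χ, hχ⟩ : ∃ χ : Localization.Away h →+* ↥(T₁.left.residueField r),
          χ.comp (algebraMap C (Localization.Away h)) = ρ₁.hom :=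
        ⟨_, IsLocalization.Away.lift_comp h (isUnit_iff_ne_zero.mpr hh)⟩
      refine ⟨Spec.map (CommRingCat.ofHom χ) pt, ?_⟩
      have h1 : Spec.map (CommRingCat.ofHom χ) ≫
          (spHom str (IsScalarTower.toAlgHom B' C (Localization.Away h))).left = m := by
        change Spec.map _ ≫ Spec.map _ = _
        rw [← Spec.map_comp, ← hρ₁]
        congr 1
        exact CommRingCat.hom_ext hχ
      have h3 : Spec.map (CommRingCat.ofHom χ) ≫
          (spHom str (IsScalarTower.toAlgHom B' C (Localization.Away h)) ≫ toU).left = i₁.left ≫ s₁.left := by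
        rw [Over.comp_left, reassoc_of% h1, htoU']
        simp only [Over.comp_left]
        rw [reassoc_of% hm, reassoc_of% hℓ₂]
      exact ((Scheme.Hom.comp_apply _ _ pt).symm.trans (congrArg (fun v => v pt) h3)).trans
        ((congrArg s₁.left (T₁.left.fromSpecResidueField_apply r pt)).trans hr₂)
    · have h5 := congrArg (fun v => (AlgSp.yon S).map v ≫ q) h4
      simp only [Functor.map_comp, Category.assoc, hk, hl] at h5
      simpa only [Functor.map_comp, Category.assoc] using h5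
  choose T c hc hcov hagree' using key
  obtain ⟨v, -, huniq⟩ := exists_hom_of_cover T c (fun t => by have := hc t; infer_instance)
    (fun t => by have := hc t; infer_instance) (fun x => ⟨x, hcov x⟩) (fun t => (AlgSp.yon S).map (c t) ≫ ya)
    (fun i j Z gi gj hg => by rw [← Functor.map_comp_assoc, hg, Functor.map_comp_assoc])
  exact (huniq ya fun _ => rfl).trans (huniq yb fun t => (hagree' t).symm).symm

end Square

end GrothLib.AlgSp.PinchHom
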