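import Groth.Agent.Lib.AlgSp.Quotient

/-!
# Quotients by pre-equivalence relations are locally effective
-/

universe u

open CategoryTheory CategoryTheory.Limits AlgebraicGeometry Opposite

namespace GrothLib.AlgSp

open _root_.AlgSp

variable {S : Scheme.{u}} {R U : Over S} {s t : R ⟶ U}

/-- The relation on `T`-points spanned by `R`. -/
def preEqvSetoid (h : ∀ T : Over S, Equivalence fun a b : T ⟶ U => ∃ r : T ⟶ R, r ≫ t = a ∧ r ≫ s = b)
    (T : Over S) : Setoid (T ⟶ U) :=
  ⟨_, h T⟩

/-- The presheaf quotient `T ↦ U(T)/~`. -/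
def preQuotPresheaf (h : ∀ T : Over S, Equivalence fun a b : T ⟶ U => ∃ r : T ⟶ R, r ≫ t = a ∧ r ≫ s = b) :
    (Over S)ᵒᵖ ⥤ Type (u + 1) where
  obj T := ULift.{u + 1} (Quotient (preEqvSetoid h T.unop))
  map {T T'} g := ↾fun x => ⟨Quotient.map (sa := preEqvSetoid h T.unop) (sb := preEqvSetoid h T'.unop) (g.unop ≫ ·)
    (by rintro _ _ ⟨r, rfl, rfl⟩; exact ⟨g.unop ≫ r, Category.assoc _ _ _, Category.assoc _ _ _⟩) x.down⟩
  map_id T := by
    ext ⟨x⟩
    induction x using Quotient.inductionOn with
    | h a => exact congrArg (Quotient.mk (preEqvSetoid h T.unop)) (Category.id_comp a)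
  map_comp {T T' T''} g g' := by
    ext ⟨x⟩
    induction x using Quotient.inductionOn with
    | h a => exact congrArg (Quotient.mk (preEqvSetoid h T''.unop)) (Category.assoc g'.unop g.unop a)

/-- The projection. -/
def preQuotPresheafπ (h : ∀ T : Over S, Equivalence fun a b : T ⟶ U => ∃ r : T ⟶ R, r ≫ t = a ∧ r ≫ s = b) :
    yoneda.obj U ⋙ uliftFunctor.{u + 1, u} ⟶ preQuotPresheaf h where
  app T := ↾fun x => ⟨Quotient.mk (preEqvSetoid h T.unop) x.down⟩
  naturality _ _ _ := rfl

/-- Two sections of `U` with the same image in the quotient sheaf are fppf locally related by `R`. -/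
theorem exists_rel_of_yonQuotπ_eq
    (h : ∀ T : Over S, Equivalence fun a b : T ⟶ U => ∃ r : T ⟶ R, r ≫ t = a ∧ r ≫ s = b)
    (V : Over S) (a b : V ⟶ U) (hab : (yon S).map a ≫ yonQuotπ s t = (yon S).map b ≫ yonQuotπ s t) :
    ∃ (V' : Over S) (c : V' ⟶ V) (r : V' ⟶ R), Flat c.left ∧ LocallyOfFinitePresentation c.left ∧
      Surjective c.left ∧ r ≫ t = c ≫ a ∧ r ≫ s = c ≫ b := by
  let A := presheafToSheaf (J S) (Type (u + 1))
  let yt := Functor.whiskerRight (yoneda.map t) uliftFunctor.{u + 1, u}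
  let ys := Functor.whiskerRight (yoneda.map s) uliftFunctor.{u + 1, u}
  let q := preQuotPresheafπ h
  have hw : yt ≫ q = ys ≫ q := by
    ext T ⟨r⟩
    exact congrArg ULift.up (Quotient.sound (s := preEqvSetoid h T.unop) ⟨r, rfl, rfl⟩)
  let K := pullback q q
  let m : yoneda.obj R ⋙ uliftFunctor.{u + 1, u} ⟶ K := pullback.lift yt ys hw
  have : Epi q := by
    have : ∀ T, Epi (q.app T) := fun T => (epi_iff_surjective _).2 fun ⟨x⟩ => by
      induction x using Quotient.inductionOn with
      | h a => exact ⟨⟨a⟩, rfl⟩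
    exact NatTrans.epi_of_epi_app _
  have : Epi m := by
    have hsq := fun T => (IsPullback.of_hasPullback q q).map ((CategoryTheory.evaluation _ _).obj T)
    have : ∀ T, Epi (m.app T) := fun T => (epi_iff_surjective _).2 fun z => by
      have e : q.app T ((pullback.fst q q).app T z) = q.app T ((pullback.snd q q).app T z) :=
        ConcreteCategory.congr_hom (hsq T).w z
      obtain ⟨r, h₁, h₂⟩ := Quotient.exact (s := preEqvSetoid h T.unop) (congrArg ULift.down e)
      refine ⟨⟨r⟩, ((Types.isPullback_iff _ _ _ _).1 (hsq T)).2.1 _ _ ⟨?_, ?_⟩⟩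
      · exact (congrArg (fun η : yoneda.obj R ⋙ uliftFunctor.{u + 1, u} ⟶ yoneda.obj U ⋙ uliftFunctor.{u + 1, u} =>
            η.app T (ULift.up.{u + 1, u} r)) (pullback.lift_fst yt ys hw)).trans
          (congrArg ULift.up h₁)
      · exact (congrArg (fun η : yoneda.obj R ⋙ uliftFunctor.{u + 1, u} ⟶ yoneda.obj U ⋙ uliftFunctor.{u + 1, u} =>
            η.app T (ULift.up.{u + 1, u} r)) (pullback.lift_snd yt ys hw)).trans
          (congrArg ULift.up h₂)
    exact NatTrans.epi_of_epi_app _
  have sq := (IsPullback.of_hasPullback q q).map A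
  have := IsRegularEpiCategory.regularEpiOfEpi (A.map q)
  have hcond : A.map (pullback.fst q q) ≫ QuotSh.quotπ Scheme.fppfPrecoverage s t =
      A.map (pullback.snd q q) ≫ QuotSh.quotπ Scheme.fppfPrecoverage s t := by
    rw [← cancel_epi (A.map m), ← Functor.map_comp_assoc, ← Functor.map_comp_assoc, pullback.lift_fst,
      pullback.lift_snd]
    exact (QuotSh.quot_condition Scheme.fppfPrecoverage s t).symm
  obtain ⟨v, hv⟩ := IsRegularEpi.exists_of_isKernelPair (A.map q) sq
    (QuotSh.quotπ Scheme.fppfPrecoverage s t) hcond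
  let d : QuotSh.quot Scheme.fppfPrecoverage s t ⟶ A.obj (preQuotPresheaf h) :=
    coequalizer.desc (A.map q) (show QuotSh.repMap Scheme.fppfPrecoverage s ≫ A.map q =
        QuotSh.repMap Scheme.fppfPrecoverage t ≫ A.map q from
      ((A.map_comp yt q).symm.trans ((congrArg A.map hw).trans (A.map_comp ys q))).symm)
  have hd : QuotSh.quotπ Scheme.fppfPrecoverage s t ≫ d = A.map q := coequalizer.π_desc _ _
  let e := QuotSh.repIsoUliftYoneda Scheme.fppfPrecoverage (S := S)
  let z : (yon S).obj V ⟶ A.obj K := sq.lift ((yon S).map a ≫ (e U).inv) ((yon S).map b ≫ (e U).inv) (by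
    have := congrArg (· ≫ d) hab
    simp only [yonQuotπ, Category.assoc, hd] at this
    rw [Category.assoc, Category.assoc]
    exact this)
  have : Sheaf.IsLocallySurjective ((e R).inv ≫ A.map m) := by
    rw [Sheaf.isLocallySurjective_iff_epi]
    exact epi_comp' inferInstance (inferInstanceAs (Epi (A.map m)))
  obtain ⟨V', c, l, hf, hp, hs, hl⟩ := exists_fppf_lift ((e R).inv ≫ A.map m) z
  obtain ⟨r, rfl⟩ := (yon S).map_surjective l
  refine ⟨V', c, r, hf, hp, hs, ?_, ?_⟩
  · apply (yon S).map_injective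
    have h1 := congrArg (· ≫ A.map (pullback.fst q q)) hl
    simp only [Category.assoc, ← Functor.map_comp, z, sq.lift_fst] at h1
    rw [← cancel_mono (e U).inv, Functor.map_comp, Functor.map_comp, Category.assoc, Category.assoc]
    refine Eq.trans ?_ h1
    rw [pullback.lift_fst]
    congr 1
    rw [Iso.eq_inv_comp, ← Category.assoc, Iso.comp_inv_eq]
    exact (repIsoUliftYoneda_naturality t).symm
  · apply (yon S).map_injective
    have h1 := congrArg (· ≫ A.map (pullback.snd q q)) hl
    simp only [Category.assoc, ← Functor.map_comp, z, sq.lift_snd] at h1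
    rw [← cancel_mono (e U).inv, Functor.map_comp, Functor.map_comp, Category.assoc, Category.assoc]
    refine Eq.trans ?_ h1
    rw [pullback.lift_snd]
    congr 1
    rw [Iso.eq_inv_comp, ← Category.assoc, Iso.comp_inv_eq]
    exact (repIsoUliftYoneda_naturality s).symm

end GrothLib.AlgSp
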