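import Groth.Agent.Lib.AlgSp.ProperSub

/-!
# Finite unions of subspaces proper over a base
-/

universe u

open CategoryTheory CategoryTheory.Limits AlgebraicGeometry

namespace GrothLib.AlgSp

open _root_.AlgSp

variable {S : Scheme.{u}}

/-- Universal closedness is tested on a finite jointly surjective family. -/
theorem isUnivClosedMor_of_family {ι : Type*} [Finite ι] {W V : Sp S} {P : ι → Sp S} (q : ∀ k, P k ⟶ W)
    {h : W ⟶ V} (hs : ∀ w : Points W, ∃ k, w ∈ Set.range (Points.map (q k)))
    (hc : ∀ k, IsUnivClosedMor (q k ≫ h)) : IsUnivClosedMor h := by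
  intro T T' hT g fst snd sq A hA
  have e : Points.map snd '' A = ⋃ k, Points.map (pullback.snd (q k) fst ≫ snd) ''
      (Points.map (pullback.snd (q k) fst) ⁻¹' A) := by
    ext t
    simp only [Set.mem_iUnion, Set.mem_image, Set.mem_preimage, Points.map_comp]
    constructor
    · rintro ⟨a, ha, rfl⟩
      obtain ⟨k, x, hx⟩ := hs (Points.map fst a)
      obtain ⟨p, -, rfl⟩ := exists_of_isPullback (IsPullback.of_hasPullback (q k) fst) hx
      exact ⟨k, p, ha, rfl⟩
    · rintro ⟨k, p, hp, rfl⟩
      exact ⟨_, hp, rfl⟩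
  rw [e]
  exact isClosed_iUnion_of_finite fun k =>
    hc k hT g _ _ ((IsPullback.of_hasPullback (q k) fst).paste_vert sq) _
      (hA.preimage (Points.continuous_map _))

/-- Separatedness and properness are tested on a finite jointly surjective family of universally closed maps. -/
theorem isProperMor_of_family {ι : Type*} [Finite ι] {W V : Sp S} {P : ι → Sp S} (hW : IsAlgSpace W)
    (hV : IsAlgSpace V) (hP : ∀ k, IsAlgSpace (P k)) (q : ∀ k, P k ⟶ W) {h : W ⟶ V}
    (hs : ∀ w : Points W, ∃ k, w ∈ Set.range (Points.map (q k))) (hq : ∀ k, IsUnivClosedMor (q k))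
    (hl : LocP @LocallyOfFiniteType h) (hp : ∀ k, IsProperMor (q k ≫ h)) : IsProperMor h := by
  have huc : IsUnivClosedMor h := isUnivClosedMor_of_family q hs fun k => (hp k).2.2
  refine ⟨(isSeparatedMor_iff_diagonal_univClosed hW).2 (isUnivClosedMor_of_family q hs fun k => ?_),
    ⟨hl, isQuasiCompactMor_of_isUnivClosedMor hW hV huc⟩, huc⟩
  let m₁ : pullback (q k ≫ h) (q k ≫ h) ⟶ pullback (q k ≫ h) h :=
    pullback.lift (pullback.fst _ _) (pullback.snd _ _ ≫ q k) (by rw [Category.assoc, pullback.condition])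
  let m₂ : pullback (q k ≫ h) h ⟶ pullback h h :=
    pullback.lift (pullback.fst _ _ ≫ q k) (pullback.snd _ _) (by rw [Category.assoc, pullback.condition])
  have sq₁ : IsPullback (pullback.snd (q k ≫ h) (q k ≫ h)) m₁ (q k) (pullback.snd (q k ≫ h) h) := by
    refine isPullback_of_yon (by simp only [m₁, pullback.lift_snd]) fun T a b hab => ?_
    refine ⟨pullback.lift (b ≫ pullback.fst _ _) a (by
      rw [reassoc_of% hab, Category.assoc, pullback.condition]), ⟨pullback.lift_snd _ _ _, ?_⟩, ?_⟩
    · apply pullback.hom_ext <;>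
        simp only [m₁, Category.assoc, pullback.lift_fst, pullback.lift_snd, pullback.lift_snd_assoc, hab]
    · rintro c ⟨rfl, rfl⟩
      apply pullback.hom_ext <;>
        simp only [m₁, Category.assoc, pullback.lift_fst, pullback.lift_snd]
  have sq₂ : IsPullback (pullback.fst (q k ≫ h) h) m₂ (q k) (pullback.fst h h) := by
    refine isPullback_of_yon (by simp only [m₂, pullback.lift_fst]) fun T a b hab => ?_
    refine ⟨pullback.lift a (b ≫ pullback.snd _ _) (by
      rw [reassoc_of% hab, Category.assoc, pullback.condition]), ⟨pullback.lift_fst _ _ _, ?_⟩, ?_⟩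
    · apply pullback.hom_ext <;>
        simp only [m₂, Category.assoc, pullback.lift_fst, pullback.lift_snd, pullback.lift_fst_assoc, hab]
    · rintro c ⟨rfl, rfl⟩
      apply pullback.hom_ext <;>
        simp only [m₂, Category.assoc, pullback.lift_fst, pullback.lift_snd]
  have e : pullback.diagonal (q k ≫ h) ≫ m₁ ≫ m₂ = q k ≫ pullback.diagonal h := by
    apply pullback.hom_ext <;>
      simp only [m₁, m₂, Category.assoc, pullback.lift_fst, pullback.lift_snd, pullback.lift_fst_assoc,
        pullback.lift_snd_assoc, pullback.diagonal_fst, pullback.diagonal_snd, pullback.diagonal_fst_assoc,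
        pullback.diagonal_snd_assoc, Category.comp_id]
  have hP₁ := isAlgSpace_pullback' hV (hP k) (hP k) (q k ≫ h) (q k ≫ h)
  have hP₂ := isAlgSpace_pullback' hV (hP k) hW (q k ≫ h) h
  have hP₃ := isAlgSpace_pullback' hV hW hW h h
  rw [← e]
  exact isUnivClosedMor_comp hP₁ hP₃ ((isSeparatedMor_iff_diagonal_univClosed (hP k)).1 (hp k).1)
    (isUnivClosedMor_comp hP₂ hP₃ (univSp_of_isPullback sq₁ (hq k)) (univSp_of_isPullback sq₂ (hq k)))

end GrothLib.AlgSp
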