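import Groth.Prelude.Def_AlgSpOX2
import Mathlib.Algebra.Category.Grp.AB
import Mathlib.CategoryTheory.Limits.Connected
import Mathlib.CategoryTheory.Sites.Pullback
import Mathlib.CategoryTheory.Sites.LocallyBijective
import Mathlib.Algebra.Homology.ShortComplex.ExactFunctor
import Groth.Agent.Lib.AlgSp.IdealEtLib

/-!
# Exactness of inverse image along a representable morphism

* `filtered_bc`: neighbourhoods of base change form a filtered category when nonempty.
* `preservesFiniteLimits_pullEt`; `pullConstIso`: inverse image of a constant sheaf.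
-/

universe u

open CategoryTheory CategoryTheory.Limits AlgebraicGeometry Opposite
set_option backward.isDefEq.respectTransparency false

noncomputable section

namespace GrothLib.AlgSp

open _root_.AlgSp

variable {S : Scheme.{u}} {X Y : Sp S} {f : X ⟶ Y} (hf : Representable f)

/-- A morphism to a base change from one to the object over the morphism of sheaves. -/
def toBc {W : EtOver X} {E : EtOver Y} (h : W.obj.left ⟶ E.obj.left)
    (hh : W.obj.hom ≫ f = (yon S).map h ≫ E.obj.hom) : W ⟶ (EtOver.bc hf).obj E :=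
  EtOver.homMk (hf.lift W.obj.hom h hh) (hf.lift_fst _ _ _)

theorem toBc_snd {W : EtOver X} {E : EtOver Y} (h : W.obj.left ⟶ E.obj.left)
    (hh : W.obj.hom ≫ f = (yon S).map h ≫ E.obj.hom) : (toBc hf h hh).hom.left ≫ EtOver.bcπ hf E = h :=
  hf.lift_snd _ _ _

theorem hom_bc_ext {W : EtOver X} {E : EtOver Y} {a b : W ⟶ (EtOver.bc hf).obj E}
    (h : a.hom.left ≫ EtOver.bcπ hf E = b.hom.left ≫ EtOver.bcπ hf E) : a = b :=
  EtOver.hom_ext _ _ (hf.hom_ext ((EtOver.w a).trans (EtOver.w b).symm) h)

theorem bc_hom_cond {W : EtOver X} {E : EtOver Y} (a : W ⟶ (EtOver.bc hf).obj E) :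
    W.obj.hom ≫ f = (yon S).map (a.hom.left ≫ EtOver.bcπ hf E) ≫ E.obj.hom := by
  rw [← EtOver.w a, Functor.map_comp, Category.assoc, Category.assoc]
  exact congrArg ((yon S).map a.hom.left ≫ ·) (hf.w E.obj.hom)

theorem comp_bc_map {W : EtOver X} {E E' : EtOver Y} (a : W ⟶ (EtOver.bc hf).obj E) (g : E ⟶ E') :
    (a ≫ (EtOver.bc hf).map g).hom.left ≫ EtOver.bcπ hf E' = (a.hom.left ≫ EtOver.bcπ hf E) ≫ g.hom.left := by
  show (a.hom.left ≫ (EtOver.bcMap hf g).hom.left) ≫ _ = _
  rw [Category.assoc, EtOver.bcMap_snd, Category.assoc]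

theorem isCofilteredOrEmpty_structuredArrow (W : EtOver X) :
    IsCofilteredOrEmpty (StructuredArrow W (EtOver.bc hf)) where
  cone_objs a b := by
    let ha := a.hom.hom.left ≫ EtOver.bcπ hf a.right
    let hb := b.hom.hom.left ≫ EtOver.bcπ hf b.right
    have e : (yon S).map hb ≫ b.right.obj.hom = (yon S).map ha ≫ a.right.obj.hom :=
      (bc_hom_cond hf b.hom).symm.trans (bc_hom_cond hf a.hom)
    let k : W.obj.left ⟶ (EtOver.prodObj a.right b.right).obj.left := b.right.property.1.lift' hb ha e
    have hk : W.obj.hom ≫ f = (yon S).map k ≫ (EtOver.prodObj a.right b.right).obj.hom := by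
      show _ = (yon S).map k ≫ (yon S).map _ ≫ a.right.obj.hom
      rw [← Category.assoc, ← Functor.map_comp, Functor.relativelyRepresentable.lift'_snd]
      exact bc_hom_cond hf a.hom
    refine ⟨StructuredArrow.mk (Y := EtOver.prodObj a.right b.right) (toBc hf k hk),
      StructuredArrow.homMk (EtOver.prodFst _ _) (hom_bc_ext hf ?_),
      StructuredArrow.homMk (EtOver.prodSnd _ _) (hom_bc_ext hf ?_), trivial⟩
    · refine (comp_bc_map hf _ _).trans ?_
      rw [StructuredArrow.mk_hom_eq_self, toBc_snd]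
      exact Functor.relativelyRepresentable.lift'_snd _ _ _ _
    · refine (comp_bc_map hf _ _).trans ?_
      rw [StructuredArrow.mk_hom_eq_self, toBc_snd]
      exact Functor.relativelyRepresentable.lift'_fst _ _ _ _
  cone_maps := fun a b p q => by
    let g := p.right
    let g' := q.right
    let L := EtOver.prodObj b.right b.right
    obtain ⟨s, hs₁, hs₂⟩ := BinaryFan.IsLimit.lift' (EtOver.prodIsLimit b.right b.right) g g'
    obtain ⟨d, hd₁, hd₂⟩ := BinaryFan.IsLimit.lift' (EtOver.prodIsLimit b.right b.right) (𝟙 b.right) (𝟙 b.right)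
    change (s : a.right ⟶ L) ≫ EtOver.prodFst _ _ = g at hs₁
    change (s : a.right ⟶ L) ≫ EtOver.prodSnd _ _ = g' at hs₂
    change (d : b.right ⟶ L) ≫ EtOver.prodFst _ _ = 𝟙 _ at hd₁
    change (d : b.right ⟶ L) ≫ EtOver.prodSnd _ _ = 𝟙 _ at hd₂
    let ha := a.hom.hom.left ≫ EtOver.bcπ hf a.right
    let hb := b.hom.hom.left ≫ EtOver.bcπ hf b.right
    have hp : ha ≫ g.hom.left = hb :=
      (comp_bc_map hf a.hom g).symm.trans (congrArg (fun c => c.hom.left ≫ EtOver.bcπ hf b.right) (StructuredArrow.w p))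
    have hq : ha ≫ g'.hom.left = hb :=
      (comp_bc_map hf a.hom g').symm.trans (congrArg (fun c => c.hom.left ≫ EtOver.bcπ hf b.right) (StructuredArrow.w q))
    have hc : ha ≫ (s : a.right ⟶ L).hom.left = hb ≫ (d : b.right ⟶ L).hom.left := by
      have e1 := congrArg (fun c => c.hom.left) hs₁
      have e2 := congrArg (fun c => c.hom.left) hs₂
      have e3 := congrArg (fun c => c.hom.left) hd₁
      have e4 := congrArg (fun c => c.hom.left) hd₂
      refine Functor.relativelyRepresentable.hom_ext' _ ?_ ?_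
      · show (ha ≫ _) ≫ (EtOver.prodSnd b.right b.right).hom.left = (hb ≫ _) ≫ (EtOver.prodSnd b.right b.right).hom.left
        rw [Category.assoc, Category.assoc]
        exact ((congrArg (ha ≫ ·) e2).trans hq).trans ((congrArg (hb ≫ ·) e4).trans (Category.comp_id _)).symm
      · show (ha ≫ _) ≫ (EtOver.prodFst b.right b.right).hom.left = (hb ≫ _) ≫ (EtOver.prodFst b.right b.right).hom.left
        rw [Category.assoc, Category.assoc]
        exact ((congrArg (ha ≫ ·) e1).trans hp).trans ((congrArg (hb ≫ ·) e3).trans (Category.comp_id _)).symm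
    let K := EtOver.pullbackObj (s : a.right ⟶ L) (d : b.right ⟶ L)
    have sq := (EtOver.isPullback (s : a.right ⟶ L) (d : b.right ⟶ L)).map (EtOver.forget Y)
    let k : W.obj.left ⟶ K.obj.left := sq.lift ha hb hc
    have hk1 : k ≫ (EtOver.pullbackFst (s : a.right ⟶ L) (d : b.right ⟶ L)).hom.left = ha := sq.lift_fst _ _ _
    have hk : W.obj.hom ≫ f = (yon S).map k ≫ K.obj.hom := by
      rw [← EtOver.w (EtOver.pullbackFst (s : a.right ⟶ L) (d : b.right ⟶ L)), ← Category.assoc, ← Functor.map_comp,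
        hk1]
      exact bc_hom_cond hf a.hom
    refine ⟨StructuredArrow.mk (Y := K) (toBc hf k hk),
      StructuredArrow.homMk (EtOver.pullbackFst _ _) (hom_bc_ext hf ?_), StructuredArrow.hom_ext _ _ ?_⟩
    · refine (comp_bc_map hf _ _).trans ?_
      rw [StructuredArrow.mk_hom_eq_self, toBc_snd]
      exact hk1
    · show EtOver.pullbackFst _ _ ≫ g = EtOver.pullbackFst _ _ ≫ g'
      rw [← hs₁, ← hs₂, ← Category.assoc, ← Category.assoc, EtOver.pullback_condition, Category.assoc,
        Category.assoc, hd₁, hd₂]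

/-- Neighbourhoods of base change form a filtered category when there is one. -/
theorem filtered_bc (W : (EtOver X)ᵒᵖ) :
    IsEmpty (CostructuredArrow (EtOver.bc hf).op W) ∨ IsFiltered (CostructuredArrow (EtOver.bc hf).op W) := by
  refine (isEmpty_or_nonempty _).imp id fun hne => ?_
  haveI := isCofilteredOrEmpty_structuredArrow hf W.unop
  haveI : IsCofiltered (StructuredArrow W.unop (EtOver.bc hf)) :=
    { nonempty := hne.map fun c => StructuredArrow.mk c.hom.unop }
  exact IsFiltered.of_equivalence (structuredArrowOpEquivalence (EtOver.bc hf) W.unop)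

/-- Left Kan extension along base change keeps monomorphisms. -/
theorem preservesMonomorphisms_lan :
    ((EtOver.bc hf).op.lan (H := AddCommGrpCat.{u + 1})).PreservesMonomorphisms := by
  haveI : AB5OfSize.{u, u + 1} AddCommGrpCat.{u + 1} :=
    AB5OfSize_of_univLE.{u, u + 1, u + 1, u + 1} AddCommGrpCat.{u + 1}
  refine ⟨fun {P Q} φ hφ => ?_⟩
  haveI : ∀ W, Mono (((EtOver.bc hf).op.lan.map φ).app W) := fun W => by
    let G := (EtOver.bc hf).op
    let t := Functor.whiskerLeft (CostructuredArrow.proj G W) φ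
    have e : (G.lan.map φ).app W =
        (G.leftKanExtensionObjIsoColimit P W).hom ≫ colimMap t ≫ (G.leftKanExtensionObjIsoColimit Q W).inv := by
      rw [← Iso.inv_comp_eq]
      refine colimit.hom_ext fun j => ?_
      rw [G.ι_leftKanExtensionObjIsoColimit_inv_assoc, ι_colimMap_assoc, G.ι_leftKanExtensionObjIsoColimit_inv]
      have h := congrArg (fun k => k.app j.left) (G.lanUnit.naturality φ)
      change φ.app j.left ≫ (G.lanUnit.app Q).app j.left = (G.lanUnit.app P).app j.left ≫ (G.lan.map φ).app (G.obj j.left) at h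
      show (G.lanUnit.app P).app j.left ≫ (G.lan.obj P).map j.hom ≫ (G.lan.map φ).app W =
        φ.app j.left ≫ (G.lanUnit.app Q).app j.left ≫ (G.lan.obj Q).map j.hom
      rw [(G.lan.map φ).naturality j.hom, reassoc_of% h]
    rw [e]
    suffices Mono (colimMap t) by infer_instance
    rcases filtered_bc hf W with h | h
    · haveI := h
      exact ⟨fun a b _ => ((IsZero.iff_id_eq_zero _).2 (colimit.hom_ext fun j => isEmptyElim j)).eq_of_tgt _ _⟩
    · haveI := h
      haveI : Mono t := (NatTrans.mono_iff_mono_app t).2 fun j => inferInstanceAs (Mono (φ.app j.left))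
      exact inferInstanceAs (Mono ((colim (J := CostructuredArrow G W)).map t))
  exact NatTrans.mono_of_mono_app _

/-- Inverse image of abelian sheaves is exact. -/
theorem preservesFiniteLimits_pullEt :
    PreservesFiniteLimits (pullEt hf AddCommGrpCat.{u + 1}) ∧
      PreservesFiniteColimits (pullEt hf AddCommGrpCat.{u + 1}) ∧ (pullEt hf AddCommGrpCat.{u + 1}).Additive := by
  haveI hmono := preservesMonomorphisms_lan hf
  haveI : (Functor.sheafPullbackConstruction.sheafPullback (EtOver.bc hf) AddCommGrpCat.{u + 1} (etTop Y)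
      (etTop X)).PreservesMonomorphisms := ⟨fun {P Q} φ hφ => by
    haveI : Mono ((sheafToPresheaf (etTop Y) AddCommGrpCat.{u + 1}).map φ) := inferInstance
    exact inferInstanceAs (Mono ((presheafToSheaf (etTop X) AddCommGrpCat.{u + 1}).map
      ((EtOver.bc hf).op.lan.map ((sheafToPresheaf (etTop Y) AddCommGrpCat.{u + 1}).map φ))))⟩
  haveI : (pullEt hf AddCommGrpCat.{u + 1}).PreservesMonomorphisms :=
    Functor.preservesMonomorphisms.of_iso
      (Functor.sheafPullbackConstruction.sheafPullbackIso (EtOver.bc hf) AddCommGrpCat.{u + 1} (etTop Y) (etTop X)).symm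
  haveI hc : PreservesFiniteColimits (pullEt hf AddCommGrpCat.{u + 1}) :=
    ((pullPushAdjEt hf AddCommGrpCat.{u + 1}).leftAdjoint_preservesColimits :
      PreservesColimitsOfSize.{0, 0} _).preservesFiniteColimits
  haveI : (pullEt hf AddCommGrpCat.{u + 1}).Additive :=
    (pullPushAdjEt hf AddCommGrpCat.{u + 1}).left_adjoint_additive
  haveI : (pullEt hf AddCommGrpCat.{u + 1}).PreservesHomology :=
    Functor.preservesHomology_of_preservesMonos_and_cokernels _
  exact ⟨Functor.preservesFiniteLimits_of_preservesHomology _, hc, inferInstance⟩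

theorem exists_bc_hit (hX : IsAlgSpace X) (hY : IsAlgSpace Y) (W : EtOver X) :
    ∃ (W' : EtOver X) (c : W' ⟶ W), Surjective c.hom.left.left ∧ Nonempty (StructuredArrow W' (EtOver.bc hf)) := by
  obtain ⟨U, p, hp, hs⟩ := hY.atlas
  let E₀ : EtOver Y := EtOver.mk p hp
  obtain ⟨R, c, d, -, hc⟩ := exists_prod_obj hX W (EtOver.bcObj hf E₀)
    (repWith_of_isPullback (EtOver.isPullback_bcObj hf E₀).flip hs)
  exact ⟨R, c, hc, ⟨StructuredArrow.mk d⟩⟩

/-- Sheafification commutes with inverse image. -/
def sheafifyPullIso :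
    presheafToSheaf (etTop Y) AddCommGrpCat.{u + 1} ⋙ pullEt hf AddCommGrpCat.{u + 1} ≅
      (EtOver.bc hf).op.lan ⋙ presheafToSheaf (etTop X) AddCommGrpCat.{u + 1} :=
  ((sheafificationAdjunction (etTop Y) AddCommGrpCat.{u + 1}).comp
    (pullPushAdjEt hf AddCommGrpCat.{u + 1})).leftAdjointUniq
    ((((EtOver.bc hf).op.lanAdjunction AddCommGrpCat.{u + 1}).comp
      (sheafificationAdjunction (etTop X) AddCommGrpCat.{u + 1})).ofNatIsoRight (Iso.refl _))

/-- The comparison of constant presheaves. -/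
def constCmp (A : AddCommGrpCat.{u + 1}) :
    (EtOver.bc hf).op.lan.obj ((Functor.const (EtOver Y)ᵒᵖ).obj A) ⟶ (Functor.const (EtOver X)ᵒᵖ).obj A :=
  ((EtOver.bc hf).op.lan.obj ((Functor.const (EtOver Y)ᵒᵖ).obj A)).descOfIsLeftKanExtension
    ((EtOver.bc hf).op.lanUnit.app ((Functor.const (EtOver Y)ᵒᵖ).obj A)) ((Functor.const (EtOver X)ᵒᵖ).obj A)
    { app := fun _ => 𝟙 A }

/-- The constant cocone. -/
def constCmpCocone (A : AddCommGrpCat.{u + 1}) (W : (EtOver X)ᵒᵖ) :
    Cocone (CostructuredArrow.proj (EtOver.bc hf).op W ⋙ (Functor.const (EtOver Y)ᵒᵖ).obj A) :=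
  { pt := A, ι := { app := fun _ => 𝟙 A, naturality := fun _ _ _ => rfl } }

theorem constCmp_desc (A : AddCommGrpCat.{u + 1}) (W : (EtOver X)ᵒᵖ) :
    ((EtOver.bc hf).op.leftKanExtensionObjIsoColimit ((Functor.const (EtOver Y)ᵒᵖ).obj A) W).inv ≫
      (constCmp hf A).app W = colimit.desc _ (constCmpCocone hf A W) := by
  refine colimit.hom_ext fun j => ?_
  rw [Functor.ι_leftKanExtensionObjIsoColimit_inv_assoc, colimit.ι_desc]
  show ((EtOver.bc hf).op.lanUnit.app _).app j.left ≫
    ((EtOver.bc hf).op.lan.obj ((Functor.const (EtOver Y)ᵒᵖ).obj A)).map j.hom ≫ (constCmp hf A).app W = 𝟙 A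
  rw [(constCmp hf A).naturality j.hom, constCmp, Functor.descOfIsLeftKanExtension_fac_app_assoc]
  exact Category.id_comp _

theorem isIso_constCmp_app (A : AddCommGrpCat.{u + 1}) (W : (EtOver X)ᵒᵖ)
    [IsFiltered (CostructuredArrow (EtOver.bc hf).op W)] : IsIso ((constCmp hf A).app W) := by
  haveI : IsConnected (CostructuredArrow (EtOver.bc hf).op W) := IsFiltered.isConnected _
  have : IsIso (colimit.desc _ (constCmpCocone hf A W)) :=
    ((colimit.isColimit _).coconePointUniqueUpToIso
      (isColimitConstCocone (CostructuredArrow (EtOver.bc hf).op W) A)).isIso_hom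
  rw [← constCmp_desc hf A W] at this
  exact IsIso.of_isIso_comp_left ((EtOver.bc hf).op.leftKanExtensionObjIsoColimit ((Functor.const (EtOver Y)ᵒᵖ).obj A) W).inv ((constCmp hf A).app W)

theorem mono_constCmp_app (A : AddCommGrpCat.{u + 1}) (W : (EtOver X)ᵒᵖ) : Mono ((constCmp hf A).app W) := by
  rcases filtered_bc hf W with h | h
  · haveI := h
    exact ⟨fun a b _ => (((IsZero.iff_id_eq_zero _).2 (colimit.hom_ext fun j => isEmptyElim j)).of_iso
      ((EtOver.bc hf).op.leftKanExtensionObjIsoColimit ((Functor.const (EtOver Y)ᵒᵖ).obj A) W)).eq_of_tgt _ _⟩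
  · haveI := h
    haveI := isIso_constCmp_app hf A W
    infer_instance

theorem surjective_constCmp_app (A : AddCommGrpCat.{u + 1}) {W' : EtOver X}
    (j : StructuredArrow W' (EtOver.bc hf)) : Function.Surjective ((constCmp hf A).app (op W')) := by
  haveI : IsFiltered (CostructuredArrow (EtOver.bc hf).op (op W')) :=
    (filtered_bc hf (op W')).resolve_left fun h => h.false ((structuredArrowOpEquivalence (EtOver.bc hf) W').functor.obj (op j))
  have h := isIso_constCmp_app hf A (op W')
  exact ((ConcreteCategory.isIso_iff_bijective _).1 h).2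

theorem isIso_sheafify_constCmp (hX : IsAlgSpace X) (hY : IsAlgSpace Y) (A : AddCommGrpCat.{u + 1}) :
    IsIso ((presheafToSheaf (etTop X) AddCommGrpCat.{u + 1}).map (constCmp hf A)) := by
  haveI : Presheaf.IsLocallyInjective (etTop X) (constCmp hf A) := Presheaf.isLocallyInjective_of_injective _ _
    fun W => (AddCommGrpCat.mono_iff_injective _).1 (mono_constCmp_app hf A W)
  haveI : Presheaf.IsLocallySurjective (etTop X) (constCmp hf A) := ⟨fun {W} s => by
    obtain ⟨W', c, hc, ⟨j⟩⟩ := exists_bc_hit hf hX hY W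
    refine (etTop X).superset_covering ?_
      (ofArrows_mem_etTop (fun _ : PUnit.{u + 1} => W') (fun _ => c) fun x => ⟨⟨⟩, hc.surj x⟩)
    refine (Sieve.generate_le_iff _ _).2 ?_
    rintro _ _ ⟨⟨⟩⟩
    exact surjective_constCmp_app hf A j _⟩
  have hW := (etTop X).W_of_isLocallyBijective (constCmp hf A)
  exact ((etTop X).W_iff (constCmp hf A)).1 hW

/-- Inverse image of a constant sheaf is the constant sheaf. -/
theorem nonempty_pullConstIso (hX : IsAlgSpace X) (hY : IsAlgSpace Y) (A : AddCommGrpCat.{u + 1}) :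
    Nonempty ((pullEt hf AddCommGrpCat.{u + 1}).obj ((constantSheaf (etTop Y) AddCommGrpCat.{u + 1}).obj A) ≅
      (constantSheaf (etTop X) AddCommGrpCat.{u + 1}).obj A) :=
  haveI := isIso_sheafify_constCmp hf hX hY A
  ⟨(sheafifyPullIso hf).app ((Functor.const (EtOver Y)ᵒᵖ).obj A) ≪≫
    asIso ((presheafToSheaf (etTop X) AddCommGrpCat.{u + 1}).map (constCmp hf A))⟩

end GrothLib.AlgSp
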