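import Mathlib.Algebra.Module.CharacterModule
import Mathlib.RingTheory.Flat.Basic
import Mathlib.RingTheory.Flat.Stability
import Mathlib.RingTheory.Flat.Equalizer
import Mathlib.RingTheory.Flat.FaithfullyFlat.Algebra
import Mathlib.RingTheory.Spectrum.Prime.RingHom
import Mathlib.LinearAlgebra.TensorProduct.Tower
import Mathlib.Algebra.TrivSqZeroExt.Basic

/-!
# Pure ring maps descend flatness

* `flat_of_pure`: `A → B` universally injective and `B ⊗[A] M` flat over `B` give `M` flat over `A`.
* `pure_of_algebras`: purity may be tested on algebras.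
* `comap_surjective_of_pure`.
-/

universe u

open TensorProduct

namespace GrothLib.AlgSp.PureFlat

variable {A B : Type u} [CommRing A] [CommRing B] [Algebra A B]

set_option backward.isDefEq.respectTransparency false in
/-- A pure ring map descends flatness. -/
theorem flat_of_pure (hp : ∀ (P : Type u) [AddCommGroup P] [Module A P],
      Function.Injective (fun x : P => (1 : B) ⊗ₜ[A] x))
    (M : Type u) [AddCommGroup M] [Module A M] [Module.Flat B (B ⊗[A] M)] : Module.Flat A M := by
  rw [Module.Flat.iff_lTensor_preserves_injective_linearMap]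
  intro N' N _ _ _ _ g hg
  rw [injective_iff_map_eq_zero]
  intro x hx
  refine CharacterModule.eq_zero_of_character_apply fun φ => ?_
  let j : CharacterModule A →ₗ[A] B ⊗[A] CharacterModule A := TensorProduct.mk A B _ 1
  let ev : CharacterModule (CharacterModule A) :=
    { toFun := fun c => c 1, map_zero' := rfl, map_add' := fun _ _ => rfl }
  obtain ⟨Ψ, hΨ⟩ := CharacterModule.dual_surjective_of_injective j (hp _) ev
  let f : M ⊗[A] N' →ₗ[A] CharacterModule A :=
    { toFun := fun y =>
        { toFun := fun a => φ (a • y), map_zero' := by simp, map_add' := fun a b => by rw [add_smul, map_add] }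
      map_add' := fun y z => AddMonoidHom.ext fun a => by
        show φ (a • (y + z)) = φ (a • y) + φ (a • z)
        rw [smul_add, map_add]
      map_smul' := fun r y => AddMonoidHom.ext fun a => by
        show φ (a • r • y) = φ ((r • a) • y)
        rw [smul_smul, smul_eq_mul, mul_comm] }
  have h1 : Ψ ((1 : B) ⊗ₜ f x) = φ x := by
    have := DFunLike.congr_fun hΨ (f x)
    exact this.trans (congrArg φ (one_smul A x))
  have hk : ∀ (m : M) (z : B ⊗[A] N'), LinearMap.lTensor B g z = 0 →
      Ψ (LinearMap.lTensor B (f ∘ₗ TensorProduct.mk A M N' m) z) = 0 := by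
    intro m z hz
    let ξ : CharacterModule N' :=
      { toFun := fun n => φ (m ⊗ₜ n), map_zero' := by simp, map_add' := fun a b => by rw [tmul_add, map_add] }
    obtain ⟨ξ', hξ⟩ := CharacterModule.dual_surjective_of_injective g hg ξ
    let F : N →ₗ[A] CharacterModule A :=
      { toFun := fun n =>
          { toFun := fun a => ξ' (a • n), map_zero' := by simp, map_add' := fun a b => by rw [add_smul, map_add] }
        map_add' := fun y z => AddMonoidHom.ext fun a => by
          show ξ' (a • (y + z)) = ξ' (a • y) + ξ' (a • z)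
          rw [smul_add, map_add]
        map_smul' := fun r y => AddMonoidHom.ext fun a => by
          show ξ' (a • r • y) = ξ' ((r • a) • y)
          rw [smul_smul, smul_eq_mul, mul_comm] }
    have hF : f ∘ₗ TensorProduct.mk A M N' m = F ∘ₗ g := by
      ext n a
      show φ (a • m ⊗ₜ n) = ξ' (a • g n)
      rw [← map_smul g, ← tmul_smul]
      exact (DFunLike.congr_fun hξ (a • n)).symm
    rw [hF, LinearMap.lTensor_comp, LinearMap.comp_apply, hz, map_zero, map_zero]
  let gB : B ⊗[A] N' →ₗ[B] B ⊗[A] N := AlgebraTensorModule.lTensor B B g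
  let e' := TensorProduct.AlgebraTensorModule.distribBaseChange A B M N'
  let e := TensorProduct.AlgebraTensorModule.distribBaseChange A B M N
  have hcomm : ∀ w : B ⊗[A] (M ⊗[A] N'),
      e (AlgebraTensorModule.lTensor B B (LinearMap.lTensor M g) w) = LinearMap.lTensor _ gB (e' w) := by
    intro w
    induction w with
    | zero => simp
    | add a b ha hb => simp only [map_add, ha, hb]
    | tmul b y =>
      induction y with
      | zero => simp
      | add a c ha hc => simp only [tmul_add, map_add, ha, hc]
      | tmul m n => simp [e, e', gB, AlgebraTensorModule.distribBaseChange]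
  let Φ : CharacterModule (B ⊗[A] (M ⊗[A] N')) := Ψ.comp (LinearMap.lTensor B f).toAddMonoidHom
  have h0 : LinearMap.lTensor _ gB (e' ((1 : B) ⊗ₜ x)) = 0 := by
    rw [← hcomm]
    simp [hx]
  obtain ⟨t, ht⟩ : e' ((1 : B) ⊗ₜ x) ∈ LinearMap.range (LinearMap.lTensor (B ⊗[A] M) (LinearMap.ker gB).subtype) :=
    (Module.Flat.ker_lTensor_eq B (B ⊗[A] M) gB).le h0
  have : ∀ t, Φ (e'.symm (LinearMap.lTensor _ (LinearMap.ker gB).subtype t)) = 0 := by
    intro t
    induction t with
    | zero => simp
    | add a b ha hb => simp only [map_add, ha, hb, add_zero]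
    | tmul bm z =>
      induction bm with
      | zero => simp
      | add a b ha hb => simp only [add_tmul, map_add, ha, hb, add_zero]
      | tmul b m =>
        have hz : LinearMap.lTensor B g (b • z : LinearMap.ker gB).1 = 0 := LinearMap.mem_ker.1 (b • z).2
        rw [← hk m _ hz]
        have key : ∀ w : B ⊗[A] N', Φ (e'.symm ((b ⊗ₜ m) ⊗ₜ w)) =
            Ψ (LinearMap.lTensor B (f ∘ₗ TensorProduct.mk A M N' m) (b • w)) := by
          intro w
          induction w with
          | zero => simp
          | add a c ha hc => simp only [tmul_add, map_add, smul_add, ha, hc]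
          | tmul b' n => simp [Φ, e', AlgebraTensorModule.distribBaseChange, TensorProduct.smul_tmul', mul_comm]; rfl
        exact key z.1
  have h2 := this t
  rw [ht, LinearEquiv.symm_apply_apply] at h2
  exact h1.symm.trans h2

/-- Purity may be tested on algebras. -/
theorem pure_of_algebras (h : ∀ (C : Type u) [CommRing C] [Algebra A C] (c : C), (1 : B) ⊗ₜ[A] c = 0 → c = 0)
    (P : Type u) [AddCommGroup P] [Module A P] : Function.Injective (fun x : P => (1 : B) ⊗ₜ[A] x) := by
  letI : Module Aᵐᵒᵖ P := Module.compHom _ ((RingHom.id A).fromOpposite mul_comm)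
  haveI : IsCentralScalar A P := ⟨fun _ _ => rfl⟩
  intro x y hxy
  have := h (TrivSqZeroExt A P) ((TrivSqZeroExt.inrHom A P) (x - y)) (by
    have h1 : LinearMap.lTensor B (TrivSqZeroExt.inrHom A P) ((1 : B) ⊗ₜ (x - y)) = 0 := by
      rw [tmul_sub, sub_eq_zero.2 hxy, map_zero]
    simpa using h1)
  exact sub_eq_zero.1 (TrivSqZeroExt.inr_injective (this.trans (TrivSqZeroExt.inr_zero A).symm))

/-- A pure ring map is surjective on spectra. -/
theorem comap_surjective_of_pure (hp : ∀ (P : Type u) [AddCommGroup P] [Module A P],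
      Function.Injective (fun x : P => (1 : B) ⊗ₜ[A] x)) :
    Function.Surjective (PrimeSpectrum.comap (algebraMap A B)) := by
  intro p
  refine (PrimeSpectrum.mem_range_comap_iff _).2 (le_antisymm (fun a ha => ?_) Ideal.le_comap_map)
  rw [← Ideal.Quotient.eq_zero_iff_mem]
  refine hp (A ⧸ p.asIdeal) ?_
  show (1 : B) ⊗ₜ[A] Ideal.Quotient.mk p.asIdeal a = (1 : B) ⊗ₜ[A] 0
  apply (TensorProduct.tensorQuotEquivQuotSMul B p.asIdeal).injective
  rw [tmul_zero, map_zero]
  rw [TensorProduct.tensorQuotEquivQuotSMul_tmul_mk, Submodule.Quotient.mk_eq_zero, Ideal.smul_top_eq_map]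
  simpa [Algebra.smul_def] using ha

end GrothLib.AlgSp.PureFlat
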