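import Groth.Agent.Lib.AlgSp.PureFlat
import Groth.Agent.Lib.AlgSp.Strata
import Groth.Agent.Lib.AlgSp.TrivLocus
import Groth.Agent.Lib.AlgSp.Space
import Mathlib.AlgebraicGeometry.Morphisms.LocalFlatDescent

/-!
# Quasi-compact monomorphisms with universally injective comorphism

* `appTop_eq_zero_of_flat_surjective`, `exists_section_of_pure`.
-/

universe u

open CategoryTheory CategoryTheory.Limits AlgebraicGeometry TensorProduct

namespace GrothLib.AlgSp

open _root_.AlgSp

theorem appTop_eq_zero_of_flat_surjective {R W : Scheme.{u}} (r : R ⟶ W) [Flat r] [Surjective r]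
    (s : Γ(W, ⊤)) (h : r.appTop s = 0) : s = 0 := by
  refine TopCat.Presheaf.section_ext W.sheaf ⊤ s 0 fun x hx => ?_
  obtain ⟨y, rfl⟩ := r.surjective x
  have hinj : Function.Injective (r.stalkMap y) := by
    algebraize [(r.stalkMap y).hom]
    haveI : Module.Flat ↑(W.presheaf.stalk (r y)) ↑(R.presheaf.stalk y) := Flat.stalkMap r y
    haveI : IsLocalHom (algebraMap ↑(W.presheaf.stalk (r y)) ↑(R.presheaf.stalk y)) := r.toLRSHom.prop y
    haveI : Module.FaithfullyFlat ↑(W.presheaf.stalk (r y)) ↑(R.presheaf.stalk y) :=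
      Module.FaithfullyFlat.of_flat_of_isLocalHom
    exact FaithfulSMul.algebraMap_injective ↑(W.presheaf.stalk (r y)) ↑(R.presheaf.stalk y)
  refine hinj ?_
  erw [map_zero, map_zero, Scheme.Hom.germ_stalkMap_apply]
  exact (congrArg _ h).trans (map_zero _)

variable {S : Scheme.{u}} {P : Sp S}

/-- A quasi-compact space mapping monomorphically to an affine scheme with universally injective comorphism is it. -/
theorem exists_section_of_pure (hP : IsAlgSpace P) (hc : IsQuasiCompactSp P) {A : CommRingCat.{u}}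
    (str : Spec A ⟶ S) (π : P ⟶ (yon S).obj (Over.mk str)) [Mono π]
    (hinj : ∀ (C : CommRingCat.{u}) (φ : A ⟶ C) (s : Γ(Spec C, ⊤)),
      (∀ (W : Over S) (a : (yon S).obj W ⟶ P) (c : W ⟶ Over.mk (Spec.map φ ≫ str)),
        a ≫ π = (yon S).map (c ≫ (Over.homMk (Spec.map φ) rfl : Over.mk (Spec.map φ ≫ str) ⟶ Over.mk str)) → c.left.appTop s = 0) → s = 0) :
    IsIso π := by
  obtain ⟨W₀, a₀, hW, ae₀, as₀⟩ := exists_affine_surjective_chart hP hc
  obtain ⟨c₀, hc₀⟩ := (yon S).map_surjective (a₀ ≫ π)
  let B := Γ(W₀.left, ⊤)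
  obtain ⟨φ, hφ⟩ : ∃ φ : A ⟶ B, W₀.left.isoSpec.inv ≫ c₀.left = Spec.map φ :=
    ⟨Spec.preimage _, (Spec.map_preimage _).symm⟩
  algebraize [φ.hom]
  let W : Over S := Over.mk (W₀.left.isoSpec.inv ≫ W₀.hom)
  let e : W ≅ W₀ := Over.isoMk W₀.left.isoSpec.symm rfl
  let a := (yon S).map e.hom ≫ a₀
  have ae : RepWith @Etale a := repWith_comp (repWith_iso _) ae₀
  have as : RepWith @Surjective a := repWith_comp (repWith_iso _) as₀
  let c : W ⟶ Over.mk str := e.hom ≫ c₀
  have ha : a ≫ π = (yon S).map c := by
    rw [Functor.map_comp, hc₀, Category.assoc]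
  have hcl : c.left = Spec.map (CommRingCat.ofHom (algebraMap A B)) := hφ
  -- purity
  have hp : ∀ (C : Type u) [CommRing C] [Algebra A C] (x : C), (1 : B) ⊗ₜ[A] x = 0 → x = 0 := by
    intro C _ _ x hx
    let t : Spec (.of C) ⟶ Spec A := Spec.map (CommRingCat.ofHom (algebraMap A C))
    have := hinj (.of C) (CommRingCat.ofHom (algebraMap A C)) ((Scheme.ΓSpecIso (.of C)).inv x)
      fun W₂ l c₂ hl => by
        obtain ⟨R, r, m, sq⟩ := exists_isPullback_of_representable ae.1 l
        obtain ⟨r, rfl⟩ := (yon S).map_surjective r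
        haveI : Etale m.left := ae.2 _ _ _ sq
        haveI : Surjective m.left := as.2 _ _ _ sq
        refine appTop_eq_zero_of_flat_surjective m.left _ ?_
        have hw : r.left ≫ c.left = (m ≫ c₂).left ≫ t := by
          have : r ≫ c = m ≫ c₂ ≫ (Over.homMk t rfl : Over.mk (t ≫ str) ⟶ Over.mk str) := (yon S).map_injective (by
            rw [Functor.map_comp, ← ha, reassoc_of% sq.w, hl, Functor.map_comp, Functor.map_comp]
            rfl)
          simpa using congrArg (fun q => CommaMorphism.left q) this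
        rw [hcl] at hw
        let g := pullback.lift r.left (m ≫ c₂).left hw ≫ (pullbackSpecIso A B C).hom
        have hg : (m ≫ c₂).left = g ≫ Spec.map (CommRingCat.ofHom
            (Algebra.TensorProduct.includeRight : C →ₐ[A] B ⊗[A] C).toRingHom) := by
          simp only [g, Category.assoc]
          erw [pullbackSpecIso_hom_snd, pullback.lift_snd]
        have : (m ≫ c₂).left.appTop ((Scheme.ΓSpecIso (.of C)).inv x) = 0 := by
          let ι' := CommRingCat.ofHom (Algebra.TensorProduct.includeRight : C →ₐ[A] B ⊗[A] C).toRingHom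
          have h2 : (Spec.map ι').appTop ((Scheme.ΓSpecIso (.of C)).inv x) = 0 := by
            have h3 := ConcreteCategory.congr_hom (Scheme.ΓSpecIso_inv_naturality ι') x
            refine h3.symm.trans ?_
            show (Scheme.ΓSpecIso (.of (B ⊗[A] C))).inv ((1 : B) ⊗ₜ[A] x) = 0
            rw [hx, map_zero]
          rw [hg, Scheme.Hom.comp_appTop, CategoryTheory.comp_apply, h2, map_zero]
        rw [Over.comp_left, Scheme.Hom.comp_appTop, CategoryTheory.comp_apply] at this
        exact this
    simpa using congrArg (Scheme.ΓSpecIso (.of C)).hom this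
  have hpure := PureFlat.pure_of_algebras hp
  -- self product
  obtain ⟨R, p, q, sq⟩ := exists_isPullback_of_representable ae.1 a
  obtain ⟨p, rfl⟩ := (yon S).map_surjective p
  haveI hq : Etale q.left := ae.2 _ _ _ sq
  have sq' : IsPullback p q c c := by
    refine IsPullback.of_map_of_faithful (yon S) ?_
    rw [← ha]
    exact IsPullback.of_isLimit (PullbackCone.isLimitOfCompMono a a π _ sq.isLimit)
  have sqs := isPullback_left sq'
  rw [hcl] at sqs
  have e2 := sqs.flip.isoPullback
  haveI hf : Flat (pullback.fst (Spec.map (CommRingCat.ofHom (algebraMap A B)))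
      (Spec.map (CommRingCat.ofHom (algebraMap A B)))) := by
    rw [← sqs.flip.isoPullback_inv_fst]
    infer_instance
  haveI : Module.Flat B (B ⊗[A] B) := by
    have : Flat ((pullbackSpecIso A B B).inv ≫ pullback.fst _ _) := inferInstance
    rw [pullbackSpecIso_inv_fst', HasRingHomProperty.Spec_iff (P := @Flat)] at this
    exact RingHom.flat_algebraMap_iff.1 this
  haveI := PureFlat.flat_of_pure hpure B
  haveI : Flat c.left := by
    rw [hcl, HasRingHomProperty.Spec_iff (P := @Flat)]
    exact RingHom.flat_algebraMap_iff.2 inferInstance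
  haveI : Surjective c.left := by
    rw [hcl]
    exact ⟨PureFlat.comap_surjective_of_pure hpure⟩
  haveI : IsAffine W.left := inferInstanceAs (IsAffine (Spec B))
  haveI : IsAffine (Over.mk str).left := inferInstanceAs (IsAffine (Spec A))
  haveI : QuasiCompact c.left := inferInstance
  haveI : Etale c.left := MorphismProperty.of_isPullback_of_descendsAlong (P := @Etale)
    (Q := @Surjective ⊓ @Flat ⊓ @QuasiCompact) (isPullback_left sq').flip ⟨⟨‹_›, ‹_›⟩, ‹_›⟩ hq
  haveI : Sheaf.IsLocallySurjective ((yon S).map c) := TrivLocus.isLocallySurjective_of_etale c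
  haveI : Epi π := by
    haveI : Epi (a ≫ π) := by rw [ha]; infer_instance
    exact epi_of_epi a π
  exact isIso_of_mono_of_epi π

end GrothLib.AlgSp
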