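import Groth.Agent.Lib.AlgSp.QCohAcyclic
import Groth.Agent.Lib.AlgSp.AffineMor
import Groth.Agent.Lib.DerCat.DimShiftRD
import Groth.Prelude.Def_AlgSpOX2

/-!
# Higher direct images along affine morphisms

* `epi_push_of_acyclic`: direct image along an affine morphism keeps surjections with acyclic kernel.
* `isZero_rpush_of_acyclic`.
-/

universe u

open CategoryTheory CategoryTheory.Limits AlgebraicGeometry Opposite
set_option backward.isDefEq.respectTransparency false

noncomputable section

namespace GrothLib.AlgSp.QCohEt

open _root_.AlgSp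
open GrothLib GrothLib.AlgSp

variable {S : Scheme.{u}} {X Y : Sp S} {f : X ⟶ Y} (hf : Representable f)

theorem isAffine_bc (haff : IsAffineMor f) (E : EtOver Y) [IsAffine E.obj.left.left] :
    IsAffine (EtOver.bcObj hf E).obj.left.left := by
  haveI : IsAffineHom (EtOver.bcπ hf E).left :=
    (isAffineMor_iff.1 haff).2 _ _ _ (hf.isPullback E.obj.hom)
  exact isAffine_of_isAffineHom (EtOver.bcπ hf E).left

/-- Direct image along an affine morphism keeps surjections with acyclic kernel. -/
theorem epi_push_of_acyclic (haff : IsAffineMor f) {T : ShortComplex (AbEt X)} (hT : T.ShortExact)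
    (h₁ : (affCover X).Acyclic T.X₁) : Epi ((pushEt hf AddCommGrpCat.{u + 1}).map T.g) := by
  haveI : Sheaf.IsLocallySurjective ((pushEt hf AddCommGrpCat.{u + 1}).map T.g) := ⟨fun {E} s => by
    refine (etTop Y).superset_covering ?_
      (ofArrows_mem_etTop (fun i : E.obj.left.left.affineCover.I₀ => opensObj E (E.obj.left.left.affineCover.f i).opensRange)
        (fun i => opensInc E _) fun x => by
        obtain ⟨i, z, hz⟩ := E.obj.left.left.affineCover.exists_eq x
        exact ⟨i, ⟨⟨x, z, hz⟩, rfl⟩⟩)
    refine (Sieve.generate_le_iff _ _).2 ?_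
    rintro _ _ ⟨i⟩
    haveI : IsAffine (opensObj E (E.obj.left.left.affineCover.f i).opensRange).obj.left.left :=
      isAffineOpen_opensRange (E.obj.left.left.affineCover.f i)
    exact (affCover X).surjective hT h₁ (isAffine_bc hf haff _) _⟩
  exact Sheaf.epi_of_isLocallySurjective _

/-- Acyclic sheaves have no higher direct images along affine morphisms. -/
theorem isZero_rpush_of_acyclic (haff : IsAffineMor f) :
    ∀ (q : ℕ) (F : AbEt X), (affCover X).Acyclic F → IsZero ((RpushEt hf (q + 1)).obj F) := by
  intro q
  induction q with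
  | zero =>
    intro F hF
    let T : ShortComplex (AbEt X) := ShortComplex.mk (Injective.ι F) (cokernel.π _) (cokernel.condition _)
    have hT : T.ShortExact := { exact := ShortComplex.exact_of_g_is_cokernel T (cokernelIsCokernel _) }
    haveI : Injective T.X₂ := inferInstanceAs (Injective (Injective.under F))
    haveI : (pushEt hf AddCommGrpCat.{u + 1}).IsRightAdjoint :=
      (pullPushAdjEt hf AddCommGrpCat.{u + 1}).isRightAdjoint
    haveI := epi_push_of_acyclic hf haff hT hF
    exact (isZero_cokernel_of_epi _).of_iso (GrothLib.HomGamma.shiftIsoOne hT (pushEt hf AddCommGrpCat.{u + 1}))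
  | succ n ih =>
    intro F hF
    let T : ShortComplex (AbEt X) := ShortComplex.mk (Injective.ι F) (cokernel.π _) (cokernel.condition _)
    have hT : T.ShortExact := { exact := ShortComplex.exact_of_g_is_cokernel T (cokernelIsCokernel _) }
    haveI : Injective T.X₂ := inferInstanceAs (Injective (Injective.under F))
    exact (ih T.X₃ ((affCover X).acyclic_X₃ hT hF ((affCover X).acyclic_of_injective _))).of_iso
      (GrothLib.HomGamma.shiftIso hT (pushEt hf AddCommGrpCat.{u + 1}) n)

end GrothLib.AlgSp.QCohEt
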