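import Groth.Agent.Lib.AlgSp.PinchDesc
import Groth.Agent.Lib.AlgSp.ElemDistSquare
import Groth.Agent.Lib.AlgSp.AffineMor
import Groth.Agent.Lib.Pushout6.Exists

/-!
# Squares of spaces which are pushouts on an atlas

* `isPushout_of_atlas`: a square of spaces is a pushout if its pullback to an atlas is a pushout of schemes
  along a thickening and an affine morphism.
* `isPullback_of_base`: cartesian squares can be checked after a locally surjective base change.
-/

set_option backward.isDefEq.respectTransparency false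

universe u

open CategoryTheory CategoryTheory.Limits AlgebraicGeometry Opposite AlgSp

namespace GrothLib.AlgSp.PushoutAtlas

open GrothLib.AlgSp GrothLib.Pushout6

variable {S : Scheme.{u}}

/-- Cartesian squares can be checked after a locally surjective base change of one leg. -/
theorem isPullback_of_base {P A B C A' P' : AlgSp.Sp S} {fst : P ⟶ A} {snd : P ⟶ B} {f : A ⟶ C} {g : B ⟶ C}
    (w : fst ≫ f = snd ≫ g) (a : A' ⟶ A) [Sheaf.IsLocallySurjective a] {a' : P' ⟶ P} {fst' : P' ⟶ A'}
    (sq₁ : IsPullback a' fst' fst a) (sq₂ : IsPullback fst' (a' ≫ snd) (a ≫ f) g) :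
    IsPullback fst snd f g := by
  let l : P ⟶ pullback f g := pullback.lift fst snd w
  have hl₁ : l ≫ pullback.fst f g = fst := pullback.lift_fst _ _ _
  have hl₂ : l ≫ pullback.snd f g = snd := pullback.lift_snd _ _ _
  have hw : (a' ≫ l) ≫ pullback.fst f g = fst' ≫ a := by rw [Category.assoc, hl₁, sq₁.w]
  have bot : IsPullback (a' ≫ l) fst' (pullback.fst f g) a := by
    refine (IsPullback.of_bot (v₂₁ := pullback.snd f g) (v₂₂ := f) (h₃₁ := g) ?_ ?_
      (IsPullback.of_hasPullback f g)).flip
    · rw [Category.assoc, hl₂]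
      exact sq₂
    · exact hw.symm
  have top : IsPullback a' (𝟙 P') l (a' ≫ l) := by
    refine IsPullback.of_bot (v₂₁ := fst') (v₂₂ := pullback.fst f g) (h₃₁ := a) ?_ (by simp) bot
    rw [Category.id_comp, hl₁]
    exact sq₁
  haveI : Sheaf.IsLocallySurjective (a' ≫ l) := isLocallySurjective_of_isPullback bot.flip
  haveI : Epi (a' ≫ l) := (Sheaf.isLocallySurjective_iff_epi _).1 inferInstance
  haveI : Epi l := epi_of_epi a' l
  haveI : Mono l := ⟨fun {Z} g₁ g₂ hg => by
    haveI : Sheaf.IsLocallySurjective (pullback.fst (g₁ ≫ l) (a' ≫ l)) :=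
      isLocallySurjective_of_isPullback (IsPullback.of_hasPullback (g₁ ≫ l) (a' ≫ l)).flip
    haveI : Epi (pullback.fst (g₁ ≫ l) (a' ≫ l)) := (Sheaf.isLocallySurjective_iff_epi _).1 inferInstance
    rw [← cancel_epi (pullback.fst (g₁ ≫ l) (a' ≫ l))]
    obtain ⟨x₁, h₁, h₁'⟩ := top.exists_lift (pullback.fst (g₁ ≫ l) (a' ≫ l) ≫ g₁) (pullback.snd _ _)
      (by rw [Category.assoc, pullback.condition])
    obtain ⟨x₂, h₂, h₂'⟩ := top.exists_lift (pullback.fst (g₁ ≫ l) (a' ≫ l) ≫ g₂) (pullback.snd _ _)
      (by rw [Category.assoc, ← hg, pullback.condition])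
    rw [← h₁, ← h₂]
    rw [Category.comp_id] at h₁' h₂'
    rw [h₁', h₂']⟩
  haveI : IsIso l := isIso_of_mono_of_epi l
  exact (IsPullback.of_hasPullback f g).of_iso (asIso l).symm (Iso.refl _) (Iso.refl _) (Iso.refl _)
    (by simp [← hl₁]) (by simp [← hl₂]) (by simp) (by simp)

/-- Maps on a scheme flat over a pushout are determined on the two sides. -/
theorem hom_ext_flat {X Y C P K : Over S} (i : C ⟶ X) (j : C ⟶ Y) (a : X ⟶ P) (b : Y ⟶ P)
    [IsClosedImmersion i.left] (hC : Covered i.left j.left) (hP : IsPushout i.left j.left a.left b.left)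
    (k : K ⟶ P) [Flat k.left] {Z : AlgSp.Sp S} (hZ : AlgSp.IsAlgSpace Z) {ya yb : (yon S).obj K ⟶ Z}
    (hA : (yon S).map (pullback.fst k a) ≫ ya = (yon S).map (pullback.fst k a) ≫ yb)
    (hB : (yon S).map (pullback.fst k b) ≫ ya = (yon S).map (pullback.fst k b) ≫ yb) : ya = yb := by
  haveI : IsAffineHom a.left := prop_left @IsAffineHom hC hP (isAffineHom_inl hC)
  haveI : IsClosedImmersion b.left := isClosedImmersion_right hC hP
  have pX := isPullback_left (IsPullback.of_hasPullback k a)
  have pY := isPullback_left (IsPullback.of_hasPullback k b)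
  have pC := isPullback_left (IsPullback.of_hasPullback i (pullback.snd k a))
  obtain ⟨j₀, hj₀a, hj₀b⟩ : ∃ j₀ : pullback i (pullback.snd k a) ⟶ pullback k b,
      j₀ ≫ pullback.fst k b = pullback.snd i (pullback.snd k a) ≫ pullback.fst k a ∧
      j₀ ≫ pullback.snd k b = pullback.fst i (pullback.snd k a) ≫ j := by
    have hw : i ≫ a = j ≫ b := Over.OverMorphism.ext hP.w
    refine ⟨pullback.lift _ _ ?_, pullback.lift_fst _ _ _, pullback.lift_snd _ _ _⟩
    rw [Category.assoc, pullback.condition, ← pullback.condition_assoc, hw, Category.assoc]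
  have hsq := Pushout6.isPushout_baseChange (𝟙 P.left) k.left hC hP (Or.inl inferInstance)
    (IsPullback.of_vert_isIso ⟨by simp⟩ : IsPullback k.left (𝟙 _) (𝟙 P.left) k.left) pX.flip pY.flip pC
    (congrArg (fun z => z.left) hj₀b) (congrArg (fun z => z.left) hj₀a.symm)
  haveI : IsClosedImmersion (pullback.snd i (pullback.snd k a)).left :=
    MorphismProperty.of_isPullback pC inferInstance
  haveI : IsAffineHom (pullback.fst k a).left := MorphismProperty.of_isPullback pX.flip inferInstance
  haveI : IsClosedImmersion (pullback.fst k b).left := MorphismProperty.of_isPullback pY.flip inferInstance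
  exact PinchDesc.hom_ext_pushout _ j₀ (pullback.fst k a) (pullback.fst k b) (covered_of_isAffineHom hsq.w) hsq hZ
    hA hB

/-- A square of spaces whose pullback to an atlas is a pushout along a thickening and an affine morphism
is a pushout. -/
theorem isPushout_of_atlas {X X' Y Y' : AlgSp.Space S} (t : X ⟶ X') (f : X ⟶ Y) (f' : X' ⟶ Y') (t' : Y ⟶ Y')
    (hw : t ≫ f' = f ≫ t') {U U' V M : Over S} (i : U ⟶ U') (j : U ⟶ V) (a : U' ⟶ M) (b : V ⟶ M)
    [IsClosedImmersion i.left] [Surjective i.left] [IsAffineHom j.left]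
    (hP : IsPushout i.left j.left a.left b.left) (π : (yon S).obj M ⟶ Y'.obj) (πe : RepWith @Etale π)
    (πs : RepWith @Surjective π) (u : (yon S).obj U ⟶ X.obj) (u' : (yon S).obj U' ⟶ X'.obj)
    (v : (yon S).obj V ⟶ Y.obj) (hu : u ≫ t.hom = (yon S).map i ≫ u') (huj : u ≫ f.hom = (yon S).map j ≫ v)
    (sqX : IsPullback u' ((yon S).map a) f'.hom π) (sqY : IsPullback v ((yon S).map b) t'.hom π) :
    IsPushout t f f' t' := by
  have hC : Covered i.left j.left := covered_of_thickening i.left j.left i.left.surjective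
  haveI := chart_isLocallySurjective πe πs
  haveI : Epi π := (Sheaf.isLocallySurjective_iff_epi _).1 inferInstance
  haveI := chart_isLocallySurjective (repWith_of_isPullback sqX.flip πe) (repWith_of_isPullback sqX.flip πs)
  haveI := chart_isLocallySurjective (repWith_of_isPullback sqY.flip πe) (repWith_of_isPullback sqY.flip πs)
  haveI : Epi u' := (Sheaf.isLocallySurjective_iff_epi _).1 inferInstance
  haveI : Epi v := (Sheaf.isLocallySurjective_iff_epi _).1 inferInstance
  have main : ∀ s : PushoutCocone t f, ∃! h : Y'.obj ⟶ s.pt.obj,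
      f'.hom ≫ h = s.inl.hom ∧ t'.hom ≫ h = s.inr.hom := by
    intro s
    have hs : t.hom ≫ s.inl.hom = f.hom ≫ s.inr.hom := congrArg (fun z => z.hom) s.condition
    obtain ⟨W, q, qe, qs⟩ := s.pt.property.atlas
    obtain ⟨l, ⟨hla, hlb⟩, hlu⟩ := PinchDesc.exists_desc i j a b hC hP s.pt.property q qe qs
      (u' ≫ s.inl.hom) (v ≫ s.inr.hom)
      (by rw [← Category.assoc, ← hu, Category.assoc, hs, ← Category.assoc, huj, Category.assoc])
      (fun {_ _ _} i' j' _ _ _ _ hi hj _ _ _ => by
        haveI : IsClosedImmersion i'.left := MorphismProperty.of_isPullback hi inferInstance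
        haveI : Surjective i'.left := MorphismProperty.of_isPullback hi ‹Surjective i.left›
        haveI : IsAffineHom j'.left := MorphismProperty.of_isPullback hj inferInstance
        exact covered_of_thickening i'.left j'.left i'.left.surjective)
    obtain ⟨R, d₁, d₂, sqR⟩ := exists_isPullback_yon Y'.property.diag π π
    have hd₁ : Etale d₁.left := πe.2 _ _ _ sqR.flip
    have sw := sqR.w
    have hagree : (yon S).map d₁ ≫ l = (yon S).map d₂ ≫ l := by
      refine hom_ext_flat i j a b hC hP d₁ s.pt.property ?_ ?_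
      · have : ∀ d : R ⟶ M, (yon S).map d ≫ π = (yon S).map d₁ ≫ π →
            (yon S).map (pullback.fst d₁ a) ≫ (yon S).map d ≫ l =
              (yon S).map (pullback.snd d₁ a) ≫ u' ≫ s.inl.hom := by
          intro d hd
          obtain ⟨m, hm₁, hm₂⟩ := sqX.exists_lift ((yon S).map (pullback.snd d₁ a) ≫ u')
            ((yon S).map (pullback.fst d₁ a ≫ d)) (by
            rw [Category.assoc, sqX.w, Functor.map_comp, Category.assoc, hd, ← Functor.map_comp_assoc,
              ← Functor.map_comp_assoc, pullback.condition])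
          rw [← Functor.map_comp_assoc, ← hm₂, Category.assoc, hla, ← Category.assoc, hm₁, Category.assoc]
        rw [this d₁ rfl, this d₂ sw.symm]
      · have : ∀ d : R ⟶ M, (yon S).map d ≫ π = (yon S).map d₁ ≫ π →
            (yon S).map (pullback.fst d₁ b) ≫ (yon S).map d ≫ l =
              (yon S).map (pullback.snd d₁ b) ≫ v ≫ s.inr.hom := by
          intro d hd
          obtain ⟨m, hm₁, hm₂⟩ := sqY.exists_lift ((yon S).map (pullback.snd d₁ b) ≫ v)
            ((yon S).map (pullback.fst d₁ b ≫ d)) (by
            rw [Category.assoc, sqY.w, Functor.map_comp, Category.assoc, hd, ← Functor.map_comp_assoc,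
              ← Functor.map_comp_assoc, pullback.condition])
          rw [← Functor.map_comp_assoc, ← hm₂, Category.assoc, hlb, ← Category.assoc, hm₁, Category.assoc]
        rw [this d₁ rfl, this d₂ sw.symm]
    have := IsRegularEpiCategory.regularEpiOfEpi (C := Sp S) π
    obtain ⟨h, hh⟩ := IsRegularEpi.exists_of_isKernelPair π sqR l hagree
    refine ⟨h, ⟨?_, ?_⟩, fun h' hh' => ?_⟩
    · rw [← cancel_epi u', ← Category.assoc, sqX.w, Category.assoc, hh, hla]
    · rw [← cancel_epi v, ← Category.assoc, sqY.w, Category.assoc, hh, hlb]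
    · rw [← cancel_epi π, hh]
      refine hlu _ ⟨?_, ?_⟩
      · rw [← Category.assoc, ← sqX.w, Category.assoc, hh'.1]
      · rw [← Category.assoc, ← sqY.w, Category.assoc, hh'.2]
  choose h hh hu' using main
  exact IsPushout.of_isColimit (PushoutCocone.IsColimit.mk hw (fun s => ⟨h s⟩)
    (fun s => by ext1; exact (hh s).1) (fun s => by ext1; exact (hh s).2)
    (fun s m h₁ h₂ => by
      ext1
      exact hu' s m.hom ⟨congrArg (fun z => z.hom) h₁, congrArg (fun z => z.hom) h₂⟩))

end GrothLib.AlgSp.PushoutAtlas
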