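import Groth.Agent.Lib.AlgSp.QCohSite
import Mathlib.LinearAlgebra.DirectSum.Finsupp
import Mathlib.Algebra.Homology.ShortComplex.ModuleCat

/-!
# Presented modules are base changes of their sections on affine objects

* `good_of_presentation`.
-/

universe u

open CategoryTheory CategoryTheory.Limits Opposite TensorProduct
set_option backward.isDefEq.respectTransparency false

noncomputable section

namespace GrothLib.AlgSp.QCohEt

variable {C : Type (u + 1)} [Category.{u} C] {J : GrothendieckTopology C} {O : Sheaf J CommRingCat.{u + 1}}
  [HasSheafify J AddCommGrpCat.{u + 1}] [J.WEqualsLocallyBijective AddCommGrpCat.{u + 1}]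

/-- The value of a morphism of modules. -/
def app {M M' : SheafOfModules.{u + 1} (RR O)} (φ : M ⟶ M') (V : C) : Sec M V →ₗ[Ob O V] Sec M' V :=
  { toFun := fun m => (φ.val.app (op V)).hom m
    map_add' := map_add _
    map_smul' := fun a m => (φ.val.app (op V)).hom.map_smul _ m }

theorem app_mres {M M' : SheafOfModules.{u + 1} (RR O)} (φ : M ⟶ M') {V W : C} (f : W ⟶ V) (m : Sec M V) :
    app φ W (mres M f m) = mres M' f (app φ V m) :=
  PresheafOfModules.naturality_apply φ.val f.op m

/-- A global section at an object. -/
def secAt {M : SheafOfModules.{u + 1} (RR O)} (s : M.sections) (V : C) : Sec M V := s.val (op V)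

theorem mres_secAt {M : SheafOfModules.{u + 1} (RR O)} (s : M.sections) {V W : C} (f : W ⟶ V) :
    mres M f (secAt s V) = secAt s W := s.property f.op

theorem secAt_sectionsMap {M M' : SheafOfModules.{u + 1} (RR O)} (φ : M ⟶ M') (s : M.sections) (V : C) :
    secAt (SheafOfModules.sectionsMap φ s) V = app φ V (secAt s V) := rfl

theorem theta_linearCombination {M : SheafOfModules.{u + 1} (RR O)} {I : Type (u + 1)} (s : I → M.sections) {E : C}
    (V : Over E) (i : I) :
    theta (Finsupp.linearCombination (Ob O E) fun i => secAt (s i) E) V ((1 : Ov O V) ⊗ₜ Finsupp.single i 1) =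
      secAt (s i) V.left := by
  rw [theta_tmul, Finsupp.linearCombination_single]
  exact (one_smul (Ob O V.left) _).trans ((congrArg _ (one_smul (Ob O E) _)).trans (mres_secAt (s i) _))

theorem app_theta {M M' : SheafOfModules.{u + 1} (RR O)} (φ : M ⟶ M') {E : C} {N : Type (u + 1)} [AddCommGroup N]
    [Module (Ob O E) N] (κ : N →ₗ[Ob O E] Sec M E) (V : Over E) (z : Ov O V ⊗[Ob O E] N) :
    app φ V.left (theta κ V z) = theta ((app φ E).comp κ) V z := by
  induction z using TensorProduct.induction_on with
  | zero => simp
  | add a b ha hb => simp only [map_add, ha, hb]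
  | tmul b m =>
    rw [theta_tmul, theta_tmul, LinearMap.comp_apply, map_smul, app_mres]

theorem theta_comp {M : SheafOfModules.{u + 1} (RR O)} {E : C} {N N' : Type (u + 1)} [AddCommGroup N]
    [Module (Ob O E) N] [AddCommGroup N'] [Module (Ob O E) N'] (κ : N →ₗ[Ob O E] Sec M E) (f : N' →ₗ[Ob O E] N)
    (V : Over E) (z : Ov O V ⊗[Ob O E] N') : theta (κ.comp f) V z = theta κ V (f.lTensor (Ov O V) z) := by
  induction z using TensorProduct.induction_on with
  | zero => simp
  | add a b ha hb => simp only [map_add, ha, hb]
  | tmul b m => rfl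

/-- The comparison map, linear over functions. -/
def thetaL {M : SheafOfModules.{u + 1} (RR O)} {E : C} {N : Type (u + 1)} [AddCommGroup N] [Module (Ob O E) N]
    (κ : N →ₗ[Ob O E] Sec M E) (V : Over E) : Ov O V ⊗[Ob O E] N →ₗ[Ob O V.left] Sec M V.left :=
  { toFun := theta κ V
    map_add' := map_add _
    map_smul' := fun c t => theta_smul κ V c t }

theorem surjective_kappa {M : SheafOfModules.{u + 1} (RR O)} {E : C} {N : Type (u + 1)} [AddCommGroup N]
    [Module (Ob O E) N] (κ : N →ₗ[Ob O E] Sec M E) (h : Function.Surjective (theta κ (Over.mk (𝟙 E)))) :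
    Function.Surjective κ := by
  intro x
  obtain ⟨z, rfl⟩ := h x
  induction z using TensorProduct.induction_on with
  | zero => exact ⟨0, by rw [map_zero, map_zero]⟩
  | add a b ha hb =>
    obtain ⟨p, hp⟩ := ha
    obtain ⟨q, hq⟩ := hb
    exact ⟨p + q, by rw [map_add, map_add, hp, hq]⟩
  | tmul b m =>
    refine ⟨(show Ob O E from b) • m, ?_⟩
    rw [map_smul, theta_tmul]
    exact congrArg (fun v => (show Ob O E from b) • v) (mres_id M (κ m)).symm

variable (S : AffSite O)

/-- Sections of free modules on affine objects are finitely supported combinations. -/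
theorem bijective_theta_free (I : Type (u + 1)) {E : C} (V : Over E) (hV : S.Aff V.left) :
    Function.Bijective (theta (Finsupp.linearCombination (Ob O E)
      fun i => secAt (SheafOfModules.freeSection (R := RR O) i : (SheafOfModules.free I).sections) E) V) := by
  classical
  let F : SheafOfModules.{u + 1} (RR O) := SheafOfModules.free I
  let G : F.GeneratingSections :=
    { I := I
      s := SheafOfModules.freeSection
      epi := by
        rw [show F.freeHomEquiv.symm SheafOfModules.freeSection = 𝟙 F from F.freeHomEquiv.symm_apply_apply _]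
        infer_instance }
  refine bijective_theta S _ ?_ ?_ V hV
  · intro V _ z hz
    suffices h0 : z = 0 from ⟨⊤, J.top_mem _, fun W w _ _ => by rw [h0, map_zero]⟩
    apply (TensorProduct.finsuppScalarRight (Ob O E) (Ob O E) (Ov O V) I).injective
    rw [map_zero]
    ext i
    rw [Finsupp.zero_apply]
    let one : (SheafOfModules.unit (RR O)).sections := (SheafOfModules.unit (RR O)).unitHomEquiv (𝟙 _)
    have hone : ∀ W, secAt one W = (1 : Ob O W) := fun W => rfl
    let π : F ⟶ SheafOfModules.unit (RR O) :=
      (SheafOfModules.unit (RR O)).freeHomEquiv.symm fun j =>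
        (SheafOfModules.unit (RR O)).unitHomEquiv (if j = i then 𝟙 _ else 0)
    have hπ : ∀ (j : I) (W : C), app π W (secAt (SheafOfModules.freeSection j) W) = (if j = i then (1 : Ob O W) else 0) := by
      intro j W
      rw [← secAt_sectionsMap, SheafOfModules.sectionsMap_freeHomEquiv_symm_freeSection]
      split_ifs
      · exact hone W
      · rfl
    have key : ∀ t, (show Ob O V.left from app π V.left (theta (Finsupp.linearCombination (Ob O E)
        fun i => secAt (SheafOfModules.freeSection (R := RR O) i : F.sections) E) V t)) =
        (show Ob O V.left from TensorProduct.finsuppScalarRight (Ob O E) (Ob O E) (Ov O V) I t i) := by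
      intro t
      induction t using TensorProduct.induction_on with
      | zero => simp
      | add a b ha hb =>
        simp only [map_add, Finsupp.add_apply]
        exact congrArg₂ (fun p q : Ob O V.left => p + q) ha hb
      | tmul b c =>
        induction c using Finsupp.induction_linear with
        | zero => simp
        | add p q hp hq =>
          simp only [TensorProduct.tmul_add, map_add, Finsupp.add_apply]
          exact congrArg₂ (fun p q : Ob O V.left => p + q) hp hq
        | single j r =>
          rw [theta_tmul, Finsupp.linearCombination_single, mres_smul, mres_secAt, map_smul, map_smul, hπ,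
            TensorProduct.finsuppScalarRight_apply_tmul_apply, Finsupp.single_apply]
          show (show Ob O V.left from b) * (res O V.hom r * _) =
            (show Ob O V.left from ((if j = i then r else 0) • b))
          split_ifs with hji
          · rw [mul_one, mul_comm]
            rfl
          · rw [mul_zero, mul_zero, zero_smul]
    refine (key z).symm.trans ?_
    rw [hz, map_zero]
  · intro V _ x
    obtain ⟨T, hT, hT'⟩ := exists_span G x
    refine ⟨T, hT, fun W w _ hw => ?_⟩
    have hle : Submodule.span (Ob O W) (Set.range fun i => secAt (SheafOfModules.freeSection (R := RR O) i) W) ≤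
        LinearMap.range (thetaL (Finsupp.linearCombination (Ob O E)
          fun i => secAt (SheafOfModules.freeSection (R := RR O) i : F.sections) E) (push (Over.mk w))) := by
      rw [Submodule.span_le]
      rintro _ ⟨i, rfl⟩
      exact ⟨(1 : Ov O (push (Over.mk w))) ⊗ₜ Finsupp.single i 1,
        theta_linearCombination (fun i => SheafOfModules.freeSection i) (push (Over.mk w)) i⟩
    exact hle (hT' w hw)

variable {M : SheafOfModules.{u + 1} (RR O)}

theorem exact_kernel {M' : SheafOfModules.{u + 1} (RR O)} (φ : M ⟶ M') (V : C) (x : Sec M V) (hx : app φ V x = 0) :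
    ∃ k : Sec (kernel φ) V, app (kernel.ι φ) V k = x := by
  let F := SheafOfModules.evaluation.{u + 1} (RR O) (op V)
  haveI : F.PreservesZeroMorphisms := ⟨fun _ _ => rfl⟩
  let C₀ : ShortComplex (SheafOfModules.{u + 1} (RR O)) := ShortComplex.mk (kernel.ι φ) φ (kernel.condition φ)
  have hC : C₀.Exact := ShortComplex.exact_of_f_is_kernel _ (kernelIsKernel φ)
  have h : (C₀.map F).Exact := hC.map_of_mono_of_preservesKernel F inferInstance inferInstance
  exact (ShortComplex.moduleCat_exact_iff _).1 h x hx

/-- A presented module is a base change of its sections on affine objects. -/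
theorem good_of_presentation (P : M.Presentation) {E : C} (hE : S.Aff E) : Good M S E := by
  classical
  let F : SheafOfModules.{u + 1} (RR O) := SheafOfModules.free P.generators.I
  let κF : (P.generators.I →₀ Ob O E) →ₗ[Ob O E] Sec F E :=
    Finsupp.linearCombination (Ob O E) fun i => secAt (SheafOfModules.freeSection (R := RR O) i : F.sections) E
  have hF : ∀ V : Over E, S.Aff V.left → Function.Bijective (theta κF V) :=
    fun V hV => bijective_theta_free S P.generators.I V hV
  let ι₀ := kernel.ι P.generators.π
  choose c hc using fun j => surjective_kappa κF (hF _ hE).2 (app ι₀ E (secAt (P.relations.s j) E))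
  let K : Submodule (Ob O E) (P.generators.I →₀ Ob O E) := Submodule.span (Ob O E) (Set.range c)
  let κs : (P.generators.I →₀ Ob O E) →ₗ[Ob O E] Sec M E :=
    Finsupp.linearCombination (Ob O E) fun i => secAt (P.generators.s i) E
  have hπs : ∀ (i : P.generators.I) (V : C),
      app P.generators.π V (secAt (SheafOfModules.freeSection i) V) = secAt (P.generators.s i) V := fun i V => by
    rw [← secAt_sectionsMap, SheafOfModules.GeneratingSections.π,
      SheafOfModules.sectionsMap_freeHomEquiv_symm_freeSection]
  have hκs : (app P.generators.π E).comp κF = κs := by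
    refine Finsupp.lhom_ext fun i r => ?_
    show app P.generators.π E (Finsupp.linearCombination (Ob O E) _ (Finsupp.single i r)) =
      Finsupp.linearCombination (Ob O E) _ (Finsupp.single i r)
    rw [Finsupp.linearCombination_single, Finsupp.linearCombination_single]
    exact ((app P.generators.π E).map_smul r _).trans (congrArg (r • ·) (hπs i E))
  have hπι : ∀ (V : C) (k : Sec (kernel P.generators.π) V), app P.generators.π V (app ι₀ V k) = 0 := fun V k => by
    have h := congrArg (fun ψ => app ψ V k) (kernel.condition P.generators.π)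
    exact h
  have hK : K ≤ LinearMap.ker κs := by
    rw [Submodule.span_le]
    rintro _ ⟨j, rfl⟩
    rw [SetLike.mem_coe, LinearMap.mem_ker, ← hκs, LinearMap.comp_apply, hc, hπι]
  let κ : ((P.generators.I →₀ Ob O E) ⧸ K) →ₗ[Ob O E] Sec M E := K.liftQ κs hK
  have hκq : κ.comp K.mkQ = κs := Submodule.liftQ_mkQ _ _ _
  refine good_of_theta S hE κ (bijective_theta S κ ?_ ?_)
  · intro V hV z hz
    obtain ⟨z', rfl⟩ := LinearMap.lTensor_surjective (Ov O V) K.mkQ_surjective z
    rw [← theta_comp, hκq, ← hκs, ← app_theta] at hz
    obtain ⟨k, hk⟩ := exact_kernel P.generators.π V.left _ hz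
    obtain ⟨T, hT, hT'⟩ := exists_span P.relations k
    refine ⟨T, hT, fun W w hW hw => ?_⟩
    let W' : Over E := push (Over.mk w)
    let θW := thetaL κF W'
    let Sg : Set (Ov O W' ⊗[Ob O E] (P.generators.I →₀ Ob O E)) := Set.range fun j => (1 : Ov O W') ⊗ₜ c j
    have hle : (Submodule.span (Ob O W) (Set.range fun j => secAt (P.relations.s j) W)).map (app ι₀ W) ≤
        (Submodule.span (Ob O W'.left) Sg).map θW := by
      rw [Submodule.map_span, Submodule.span_le]
      rintro _ ⟨_, ⟨j, rfl⟩, rfl⟩
      refine ⟨(1 : Ov O W') ⊗ₜ c j, Submodule.subset_span ⟨j, rfl⟩, ?_⟩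
      show theta κF W' ((1 : Ov O W') ⊗ₜ c j) = _
      rw [theta_tmul, hc, ← app_mres, mres_secAt]
      exact one_smul (Ob O W) _
    obtain ⟨w', hw', e⟩ := hle (Submodule.mem_map_of_mem (hT' w hw))
    have heq : (rho O (pr (Over.mk w))).toLinearMap.rTensor _ z' = w' := by
      apply (hF W' hW).1
      rw [theta_rho, ← hk]
      exact ((app_mres ι₀ w k).symm).trans e.symm
    rw [← LinearMap.comp_apply, LinearMap.rTensor_comp_lTensor, ← LinearMap.lTensor_comp_rTensor,
      LinearMap.comp_apply, heq]
    clear heq e
    induction hw' using Submodule.span_induction with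
    | mem y hy =>
      obtain ⟨j, rfl⟩ := hy
      rw [LinearMap.lTensor_tmul, (Submodule.Quotient.mk_eq_zero K).2 (Submodule.subset_span ⟨j, rfl⟩) |> fun h =>
        show K.mkQ (c j) = 0 from h, TensorProduct.tmul_zero]
    | zero => exact map_zero _
    | add y y' _ _ hy hy' => rw [map_add, hy, hy', add_zero]
    | smul a y _ hy =>
      have hl : K.mkQ.lTensor (Ov O W') (a • y) = a • K.mkQ.lTensor (Ov O W') y :=
        (K.mkQ.baseChange (Ov O W')).map_smul (show Ov O W' from a) y
      rw [hl, hy, smul_zero]
  · intro V _ x
    obtain ⟨T, hT, hT'⟩ := exists_span P.generators x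
    refine ⟨T, hT, fun W w _ hw => ?_⟩
    have hle : Submodule.span (Ob O W) (Set.range fun i => secAt (P.generators.s i) W) ≤
        LinearMap.range (thetaL κ (push (Over.mk w))) := by
      rw [Submodule.span_le]
      rintro _ ⟨i, rfl⟩
      refine ⟨(1 : Ov O (push (Over.mk w))) ⊗ₜ K.mkQ (Finsupp.single i 1), ?_⟩
      show theta κ _ (K.mkQ.lTensor _ ((1 : Ov O (push (Over.mk w))) ⊗ₜ Finsupp.single i 1)) = _
      rw [← theta_comp, hκq]
      exact theta_linearCombination P.generators.s (push (Over.mk w)) i
    exact hle (hT' w hw)

end GrothLib.AlgSp.QCohEt
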