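import Groth.Prelude.Def_AlgSpModX
import Groth.Agent.Lib.AlgSp.Points
import Groth.Agent.Lib.AlgSp.AffineMor

/-!
# Primes of points on affine schemes

* `exists_primeAtPt_eq`, `comap_primeAtPt`, `primeAtPt_injective`: points and primes of global functions.
-/

universe u

open CategoryTheory CategoryTheory.Limits AlgebraicGeometry

namespace GrothLib.AlgSp

open _root_.AlgSp

set_option backward.isDefEq.respectTransparency false

theorem exists_primeAtPt_eq {U : Scheme.{u}} [IsAffine U] (p : Ideal Γ(U, ⊤)) [hp : p.IsPrime] :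
    ∃ u : ↥U, primeAtPt U u = p := by
  let hU := isAffineOpen_top U
  refine ⟨hU.fromSpec.base ⟨p, hp⟩, ?_⟩
  ext a
  have h2 : hU.fromSpec.base ⟨p, hp⟩ ∈ U.basicOpen a ↔ a ∉ p := by
    change (⟨p, hp⟩ : PrimeSpectrum _) ∈ hU.fromSpec ⁻¹ᵁ U.basicOpen a ↔ _
    rw [hU.fromSpec_preimage_basicOpen]
    rfl
  rw [Scheme.mem_basicOpen_top] at h2
  unfold primeAtPt
  rw [Ideal.mem_comap, IsLocalRing.mem_maximalIdeal, mem_nonunits_iff]
  exact not_congr h2 |>.trans not_not

theorem primeAtPt_injective {U : Scheme.{u}} [IsAffine U] {u v : ↥U} (h : primeAtPt U u = primeAtPt U v) :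
    u = v := by
  let hU := isAffineOpen_top U
  have key : ∀ (z : ↥U) (a : Γ(U, ⊤)), z ∈ U.basicOpen a ↔ a ∉ primeAtPt U z := fun z a => by
    rw [Scheme.mem_basicOpen_top]
    unfold primeAtPt
    rw [Ideal.mem_comap, IsLocalRing.mem_maximalIdeal, mem_nonunits_iff, not_not]
  refine Inseparable.eq ((TopologicalSpace.IsTopologicalBasis.inseparable_iff
    (isBasis_basicOpen U : TopologicalSpace.IsTopologicalBasis _)).2 ?_)
  rintro _ ⟨_, ⟨a, rfl⟩, rfl⟩
  exact (key u a).trans ((by rw [h] : _ ↔ a ∉ primeAtPt U v).trans (key v a).symm)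

theorem comap_primeAtPt {U V : Scheme.{u}} (f : U ⟶ V) (u : ↥U) :
    (primeAtPt U u).comap f.appTop.hom = primeAtPt V (f u) := by
  ext a
  unfold primeAtPt
  rw [Ideal.mem_comap, Ideal.mem_comap, Ideal.mem_comap, IsLocalRing.mem_maximalIdeal, IsLocalRing.mem_maximalIdeal,
    mem_nonunits_iff, mem_nonunits_iff]
  have h : f.stalkMap u (V.presheaf.germ ⊤ (f u) trivial a) = U.presheaf.germ ⊤ u trivial (f.appTop a) :=
    Scheme.Hom.germ_stalkMap_apply f ⊤ u trivial a
  exact not_congr ⟨fun hu => IsLocalHom.map_nonunit (f := (f.stalkMap u).hom) _ (h ▸ hu), fun hu => h ▸ hu.map (f.stalkMap u).hom⟩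

end GrothLib.AlgSp
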