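import Groth.Prelude.Def_AlgSpModX
import Groth.Agent.Lib.AlgSp.QCohPres
import Groth.Agent.Lib.AlgSp.IdealEtLib
import Groth.Agent.Lib.AlgSp.WeakAssCharts
import Mathlib.AlgebraicGeometry.Morphisms.Flat

/-!
# Quasi-coherent modules on the small étale site of a space

* `affEt`: the affine objects; `affSlice`.
* `good_of_isQuasicoherent`: sections over affine objects over an affine object are base changes.
-/

universe u

open CategoryTheory CategoryTheory.Limits AlgebraicGeometry Opposite TensorProduct
set_option backward.isDefEq.respectTransparency false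

noncomputable section

namespace GrothLib.AlgSp.QCohEt

open _root_.AlgSp

section Slice

variable {C : Type (u + 1)} [Category.{u} C] {J : GrothendieckTopology C} {O : Sheaf J CommRingCat.{u + 1}}

/-- The affine objects of a slice. -/
def affSlice (S : AffSite O) (X₀ : C) : AffSite (O.over X₀) where
  Aff V := S.Aff V.left
  fam V hV T hT := by
    obtain ⟨n, hn, W, w, hw, hcov, hS⟩ := S.fam V.left hV (Sieve.overEquiv V T) ((J.mem_over_iff T).1 hT)
    refine ⟨n, hn, fun k => Over.mk (w k ≫ V.hom), fun k => Over.homMk (w k) rfl,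
      fun k => ⟨(hw k).1, (Sieve.overEquiv_iff T (w k)).1 (hw k).2.1, (hw k).2.2⟩, ?_, hS⟩
    rw [J.mem_over_iff]
    refine J.superset_covering ?_ hcov
    refine (Sieve.generate_le_iff _ _).2 ?_
    rintro _ _ ⟨k⟩
    exact (Sieve.overEquiv_iff _ (w k)).2 ⟨_, 𝟙 _, _, ⟨k⟩, Category.id_comp _⟩
  flat {V W} w hV hW := S.flat w.left hV hW
  ov {V} W W' hV hW hW' := by
    obtain ⟨P, p, p', hP, hbij, hlift⟩ := S.ov (Over.mk W.hom.left) (Over.mk W'.hom.left) hV hW hW'
    have hp : p.left ≫ W.hom.left = P.hom := Over.w p
    have hp' : p'.left ≫ W'.hom.left = P.hom := Over.w p'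
    let P₁ : Over V := Over.mk (Over.homMk P.hom rfl : Over.mk (P.hom ≫ V.hom) ⟶ V)
    refine ⟨P₁, Over.homMk (Over.homMk p.left ?_) ?_, Over.homMk (Over.homMk p'.left ?_) ?_, hP, hbij, fun Z a b => ?_⟩
    · show p.left ≫ W.left.hom = P.hom ≫ V.hom
      rw [← hp, Category.assoc, Over.w W.hom]
    · exact Over.OverMorphism.ext hp
    · show p'.left ≫ W'.left.hom = P.hom ≫ V.hom
      rw [← hp', Category.assoc, Over.w W'.hom]
    · exact Over.OverMorphism.ext hp'
    · obtain ⟨q, hq, hq'⟩ := hlift (Over.mk Z.hom.left) (Over.homMk a.left.left (congrArg CommaMorphism.left (Over.w a)))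
        (Over.homMk b.left.left (congrArg CommaMorphism.left (Over.w b)))
      have hqw : q.left ≫ P.hom = Z.hom.left := Over.w q
      refine ⟨Over.homMk (Over.homMk q.left ?_) (Over.OverMorphism.ext hqw), ?_, ?_⟩
      · show q.left ≫ P.hom ≫ V.hom = Z.left.hom
        rw [← Category.assoc, hqw, Over.w Z.hom]
      · exact Over.OverMorphism.ext (Over.OverMorphism.ext (congrArg (fun k => k.left) hq :))
      · exact Over.OverMorphism.ext (Over.OverMorphism.ext (congrArg (fun k => k.left) hq' :))

end Slice

theorem ulift_flat {A B : Type u} [CommRing A] [CommRing B] {φ : A →+* B} (h : φ.Flat) :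
    ((ULift.ringEquiv.symm : B ≃+* ULift.{u + 1} B).toRingHom.comp
      (φ.comp (ULift.ringEquiv : ULift.{u + 1} A ≃+* A).toRingHom)).Flat :=
  ((RingHom.Flat.of_bijective (ULift.ringEquiv : ULift.{u + 1} A ≃+* A).bijective).comp h).comp
    (RingHom.Flat.of_bijective (ULift.ringEquiv.symm : B ≃+* ULift.{u + 1} B).bijective)

variable {S : Scheme.{u}} {X : Sp S}

theorem flat_appTop {E F : EtOver X} (g : F ⟶ E) [IsAffine E.obj.left.left] [IsAffine F.obj.left.left] :
    (res (OEt X) g).Flat := by
  haveI := EtOver.etale_left g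
  exact ulift_flat (HasRingHomProperty.appTop (P := @Flat) g.hom.left.left inferInstance)

variable (X) in
/-- The affine objects of the small étale site. -/
def affEt : AffSite (OEt X) where
  Aff E := IsAffine E.obj.left.left
  fam E hE T hT := by
    classical
    obtain ⟨R, hR, hle⟩ := Precoverage.mem_toGrothendieck_iff_of_isStableUnderComposition.1
      (show T ∈ (etPre X).toGrothendieck E from hT)
    obtain ⟨ι, Y, g, rfl⟩ := Presieve.exists_eq_ofArrows R
    have hcov := (ofArrows_mem_etPre_iff Y g).1 hR
    choose i y hy using hcov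
    choose O hO hyO _hle using fun x => exists_isAffineOpen_mem_and_subset (x := y x)
      (U := (⊤ : (Y (i x)).obj.left.left.Opens)) trivial
    let w : ∀ x, opensObj (Y (i x)) (O x) ⟶ E := fun x => opensInc (Y (i x)) (O x) ≫ g (i x)
    haveI : ∀ x, Etale (w x).hom.left.left := fun x => EtOver.etale_left _
    obtain ⟨t, ht⟩ := isCompact_univ.elim_finite_subcover (fun x => Set.range (w x).hom.left.left)
      (fun x => (w x).hom.left.left.isOpenMap.isOpen_range) fun x _ => Set.mem_iUnion.2 ⟨x, ⟨⟨y x, hyO x⟩, hy x⟩⟩
    haveI : ∀ k : ↥t, IsAffine (opensObj (Y (i k.1)) (O k.1)).obj.left.left := fun k => hO k.1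
    refine ⟨↥t, inferInstance, fun k => opensObj (Y (i k.1)) (O k.1), fun k => w k.1, fun k => ⟨hO k.1,
      T.downward_closed (hle _ _ ⟨i k.1⟩) _, ?_⟩, ofArrows_mem_etTop _ _ fun x => ?_, fun P hP => ?_⟩
    · exact RingHom.flat_algebraMap_iff.1 (flat_appTop (w k.1))
    · obtain ⟨x', hx', z, hz⟩ := Set.mem_iUnion₂.1 (ht (Set.mem_univ x))
      exact ⟨⟨x', hx'⟩, z, hz⟩
    · let A := Γ(E.obj.left.left, ⊤)
      let up : A →+* Ob (OEt X) E := (ULift.ringEquiv.symm : A ≃+* ULift.{u + 1} A).toRingHom
      obtain ⟨x, hx⟩ := exists_primeAtPt_eq (U := E.obj.left.left) (P.comap up)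
      obtain ⟨x', hx', z, hz⟩ := Set.mem_iUnion₂.1 (ht (Set.mem_univ x))
      let down : Ov (OEt X) (Over.mk (w x')) →+* Γ((opensObj (Y (i x')) (O x')).obj.left.left, ⊤) :=
        (ULift.ringEquiv : ULift.{u + 1} Γ((opensObj (Y (i x')) (O x')).obj.left.left, ⊤) ≃+* _).toRingHom
      refine ⟨⟨x', hx'⟩, (primeAtPt _ z).comap down, inferInstance, ?_⟩
      ext a
      have h1 : a.down ∈ (primeAtPt _ z).comap (w x').hom.left.left.appTop.hom ↔ a ∈ P := by
        rw [comap_primeAtPt, hz, hx]
        exact Iff.rfl
      exact h1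
  flat {V W} w hV hW := by
    haveI := hV
    haveI := hW
    exact RingHom.flat_algebraMap_iff.1 (flat_appTop w)
  ov {E} W W' hE hW hW' := by
    haveI : IsAffine E.obj.left.left := hE
    haveI : IsAffine W.left.obj.left.left := hW
    haveI : IsAffine W'.left.obj.left.left := hW'
    let g := W.hom.hom.left.left
    let g' := W'.hom.hom.left.left
    let P := EtOver.pullbackObj W.hom W'.hom
    let p := EtOver.pullbackFst W.hom W'.hom
    let p' := EtOver.pullbackSnd W.hom W'.hom
    have sq : IsPullback p.hom.left.left p'.hom.left.left g g' :=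
      (IsPullback.of_hasPullback W.hom.hom.left W'.hom.hom.left).map (Over.forget S)
    haveI : IsAffineHom g' := isAffineHom_of_isAffine g'
    haveI hPaff : IsAffine P.obj.left.left := .of_isPullback sq
    refine ⟨Over.mk (p ≫ W.hom), Over.homMk p rfl, Over.homMk p' (EtOver.pullback_condition W.hom W'.hom).symm,
      hPaff, ?_, fun Z a b => ?_⟩
    · let A := Γ(E.obj.left.left, ⊤)
      let B := Γ(W.left.obj.left.left, ⊤)
      let B' := Γ(W'.left.obj.left.left, ⊤)
      let Q := Γ(P.obj.left.left, ⊤)
      letI : Algebra A B := g.appTop.hom.toAlgebra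
      letI : Algebra A B' := g'.appTop.hom.toAlgebra
      letI : Algebra B Q := p.hom.left.left.appTop.hom.toAlgebra
      letI : Algebra B' Q := p'.hom.left.left.appTop.hom.toAlgebra
      letI : Algebra A Q := (g.appTop ≫ p.hom.left.left.appTop).hom.toAlgebra
      have hpo := isPushout_appTop_of_isPullback sq
      haveI : IsScalarTower A B Q := IsScalarTower.of_algebraMap_eq fun _ => rfl
      haveI : IsScalarTower A B' Q := IsScalarTower.of_algebraMap_eq fun r => congrArg (fun q => q.hom r) hpo.w
      haveI : Algebra.IsPushout A B B' Q := CommRingCat.isPushout_iff_isPushout.1 hpo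
      let γ : Ov (OEt X) W ⊗[Ob (OEt X) E] Ov (OEt X) W' →+ B ⊗[A] B' :=
        TensorProduct.liftAddHom
          { toFun := fun b =>
              { toFun := fun b' => (show B from b.down) ⊗ₜ[A] (show B' from b'.down)
                map_zero' := TensorProduct.tmul_zero _ _
                map_add' := fun _ _ => TensorProduct.tmul_add _ _ _ }
            map_zero' := AddMonoidHom.ext fun b' => TensorProduct.zero_tmul _ _
            map_add' := fun _ _ => AddMonoidHom.ext fun b' => TensorProduct.add_tmul _ _ _ }
          (fun a b b' => TensorProduct.smul_tmul (R := A) (R' := A) (M := B) (N := B') (show A from a.down) (show B from b.down) (show B' from b'.down))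
      let β : B ⊗[A] B' →+ Ov (OEt X) W ⊗[Ob (OEt X) E] Ov (OEt X) W' :=
        TensorProduct.liftAddHom
          { toFun := fun b =>
              { toFun := fun b' => (show Ov (OEt X) W from ULift.up b) ⊗ₜ[Ob (OEt X) E] (show Ov (OEt X) W' from ULift.up b')
                map_zero' := TensorProduct.tmul_zero _ _
                map_add' := fun _ _ => TensorProduct.tmul_add _ _ _ }
            map_zero' := AddMonoidHom.ext fun b' => TensorProduct.zero_tmul _ _
            map_add' := fun _ _ => AddMonoidHom.ext fun b' => TensorProduct.add_tmul _ _ _ }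
          (fun a b b' => TensorProduct.smul_tmul (show Ob (OEt X) E from ULift.up a) (show Ov (OEt X) W from ULift.up b)
            (show Ov (OEt X) W' from ULift.up b'))
      have hβγ : ∀ t, β (γ t) = t := by
        intro t
        induction t using TensorProduct.induction_on with
        | zero => simp
        | add a b ha hb => simp only [map_add, ha, hb]
        | tmul b b' => rfl
      have hγβ : ∀ t, γ (β t) = t := by
        intro t
        induction t using TensorProduct.induction_on with
        | zero => simp
        | add a b ha hb => simp only [map_add, ha, hb]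
        | tmul b b' => rfl
      let Φ := Algebra.IsPushout.equiv A B B' Q
      let up : Q → Ov (OEt X) (Over.mk (p ≫ W.hom)) := fun q => ULift.up q
      have key : ∀ t, Algebra.TensorProduct.productMap
          (rho (OEt X) (Over.homMk p rfl : Over.mk (p ≫ W.hom) ⟶ W))
          (rho (OEt X) (Over.homMk p' (EtOver.pullback_condition W.hom W'.hom).symm : Over.mk (p ≫ W.hom) ⟶ W')) t =
            up (Φ (γ t)) := by
        intro t
        induction t using TensorProduct.induction_on with
        | zero => simp [up]; rfl
        | add a b ha hb => simp only [map_add, ha, hb]; rfl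
        | tmul b b' =>
          rw [Algebra.TensorProduct.productMap_apply_tmul]
          show _ = up (Φ ((show B from b.down) ⊗ₜ[A] (show B' from b'.down)))
          rw [Algebra.IsPushout.equiv_tmul]
          rfl
      have hup : Function.Bijective up := ⟨fun a b h => congrArg ULift.down h, fun a => ⟨a.down, rfl⟩⟩
      exact (funext key : ⇑(Algebra.TensorProduct.productMap _ _) = _) ▸
        hup.comp (Φ.bijective.comp ⟨Function.LeftInverse.injective hβγ, Function.RightInverse.surjective hγβ⟩)
    · have hab : a.left ≫ W.hom = b.left ≫ W'.hom := (Over.w a).trans (Over.w b).symm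
      refine ⟨Over.homMk ((EtOver.isPullback W.hom W'.hom).lift a.left b.left hab) ?_,
        Over.OverMorphism.ext ((EtOver.isPullback W.hom W'.hom).lift_fst _ _ _),
        Over.OverMorphism.ext ((EtOver.isPullback W.hom W'.hom).lift_snd _ _ _)⟩
      show (EtOver.isPullback W.hom W'.hom).lift a.left b.left hab ≫ p ≫ W.hom = Z.hom
      rw [← Category.assoc, IsPullback.lift_fst, Over.w]

/-- Sections of quasi-coherent modules over affine objects over an affine object are base changes. -/
theorem good_of_isQuasicoherent (M : ModEt X) [hM : M.IsQuasicoherent] {E : EtOver X} (hE : IsAffine E.obj.left.left) :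
    Good (O := OEt X) M (affEt X) E := by
  obtain ⟨q⟩ := hM.nonempty_quasicoherentData
  refine good_of_cover (O := OEt X) M (affEt X) hE (q.coversTop E) fun Z z hZ hz => ?_
  obtain ⟨i, ⟨p⟩⟩ := (Sieve.mem_ofObjects_iff ..).1 hz
  have h := good_of_presentation (affSlice (affEt X) (q.X i)) (q.presentation i) (E := Over.mk p) hZ
  intro V hV
  exact h (Over.mk (Over.homMk V.hom rfl : Over.mk (V.hom ≫ p) ⟶ Over.mk p)) hV

end GrothLib.AlgSp.QCohEt
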