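import Groth.Agent.Lib.AlgSp.QCohCech
import Groth.Agent.Lib.AlgSp.QCohEt
import Groth.Agent.Lib.FibPow.Pullback
import Groth.Agent.Lib.AlgSp.Rep
import Groth.Prelude.Def_AlgSpOX
import Mathlib.RingTheory.Flat.FaithfullyFlat.Algebra
import Mathlib.Algebra.Homology.DerivedCategory.Ext.EnoughInjectives

/-!
# Vanishing of cohomology of quasi-coherent modules on affine objects

* `affCover`: affine objects with surjective affine covers.
* `acyclic_of_isQuasicoherent`; `ext_vanish`, `subsingleton_H_of_acyclic`.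
-/

universe u

open CategoryTheory CategoryTheory.Limits CategoryTheory.Abelian AlgebraicGeometry Opposite
set_option backward.isDefEq.respectTransparency false

noncomputable section

namespace GrothLib.AlgSp.QCohEt

open _root_.AlgSp
open GrothLib

section Generic

variable {C : Type (u + 1)} [Category.{u} C] {J : GrothendieckTopology C}
  [HasSheafify J AddCommGrpCat.{u + 1}] [J.WEqualsLocallyBijective AddCommGrpCat.{u + 1}]
  [J.HasSheafCompose (forget AddCommGrpCat.{u + 1})]
  [HasExt.{u + 1} (Sheaf J AddCommGrpCat.{u + 1})] [EnoughInjectives (Sheaf J AddCommGrpCat.{u + 1})]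
  (K : FibPow.CoverClass.{u + 1} J) {Y : C} (hY : IsTerminal Y) (hB : K.B Y)

include hY hB

/-- Acyclic sheaves have no higher cohomology when the final object is in the class. -/
theorem ext_vanish : ∀ (q : ℕ) (F : Sheaf J AddCommGrpCat.{u + 1}), K.Acyclic F →
    ∀ x : Sheaf.H F (q + 1), x = 0 := by
  intro q
  induction q with
  | zero =>
    intro F hF x
    let S : ShortComplex (Sheaf J AddCommGrpCat.{u + 1}) :=
      ShortComplex.mk (Injective.ι F) (cokernel.π _) (cokernel.condition _)
    have hS : S.ShortExact := { exact := ShortComplex.exact_of_g_is_cokernel S (cokernelIsCokernel _) }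
    obtain ⟨x₃, hx⟩ := Ext.covariant_sequence_exact₁ _ hS x (Ext.eq_zero_of_injective _) rfl
    obtain ⟨r, hr⟩ := K.surjective hS hF hB (Sheaf.H.equiv₀ S.X₃ hY x₃)
    have h : Sheaf.H.map S.g 0 ((Sheaf.H.equiv₀ S.X₂ hY).symm r) = x₃ := by
      rw [Sheaf.H.equiv₀_symm_naturality, hr, AddEquiv.symm_apply_apply]
    rw [← hx, ← h, Sheaf.H.map_apply, Ext.comp_assoc_of_second_deg_zero, ShortComplex.ShortExact.comp_extClass,
      Ext.comp_zero]
  | succ n ih =>
    intro F hF x
    let S : ShortComplex (Sheaf J AddCommGrpCat.{u + 1}) :=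
      ShortComplex.mk (Injective.ι F) (cokernel.π _) (cokernel.condition _)
    have hS : S.ShortExact := { exact := ShortComplex.exact_of_g_is_cokernel S (cokernelIsCokernel _) }
    obtain ⟨x₃, hx⟩ := Ext.covariant_sequence_exact₁ _ hS x (Ext.eq_zero_of_injective _) rfl
    have h₃ : K.Acyclic S.X₃ := K.acyclic_X₃ hS hF (K.acyclic_of_injective _)
    rw [← hx, ih S.X₃ h₃ x₃, Ext.zero_comp]

theorem subsingleton_H_of_acyclic (F : Sheaf J AddCommGrpCat.{u + 1}) (hF : K.Acyclic F) (p : ℕ) (hp : 0 < p) :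
    Subsingleton (Sheaf.H F p) := by
  obtain ⟨q, rfl⟩ : ∃ q, p = q + 1 := ⟨p - 1, by omega⟩
  exact ⟨fun a b => (ext_vanish K hY hB q F hF a).trans (ext_vanish K hY hB q F hF b).symm⟩

end Generic

variable {S : Scheme.{u}} {X : Sp S}

theorem isAffine_of_iso {E F : EtOver X} (e : E ≅ F) [IsAffine F.obj.left.left] : IsAffine E.obj.left.left := by
  haveI : IsIso e.hom.hom.left.left := inferInstanceAs (IsIso ((EtOver.toScheme X).map e.hom))
  exact IsAffine.of_isIso e.hom.hom.left.left

theorem isAffine_pow {T Y : EtOver X} {f : T ⟶ Y} (E : FibPow f) [hT : IsAffine T.obj.left.left]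
    [hY : IsAffine Y.obj.left.left] : ∀ n, IsAffine (E.P n).obj.left.left := by
  intro n
  induction n with
  | zero =>
    refine isAffine_of_iso ⟨E.π 0 0, E.lift 0 (fun _ => 𝟙 T) fun _ _ => rfl,
      E.hom_ext _ _ _ fun i => ?_, E.lift_π _ _ _ _⟩
    rw [Category.assoc, E.lift_π, Category.comp_id, Category.id_comp, Fin.fin_one_eq_zero i]
  | succ n ih =>
    haveI := ih
    let g := E.π n 0 ≫ f
    let P := EtOver.pullbackObj g f
    haveI : IsAffineHom f.hom.left.left := isAffineHom_of_isAffine _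
    have sq : IsPullback (EtOver.pullbackFst g f).hom.left.left (EtOver.pullbackSnd g f).hom.left.left
        g.hom.left.left f.hom.left.left :=
      (IsPullback.of_hasPullback g.hom.left f.hom.left).map (Over.forget S)
    haveI : IsAffine P.obj.left.left := .of_isPullback sq
    have h : IsPullback (E.δ n 0) (E.π (n + 1) 0) g f := by
      have hw : E.δ n 0 ≫ g = E.π (n + 1) 0 ≫ f := by
        show E.δ n 0 ≫ E.π n 0 ≫ f = _
        rw [E.δ_π_assoc, E.w]
      refine ⟨⟨hw⟩, ⟨PullbackCone.IsLimit.mk hw (fun s => E.lift (n + 1)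
        (Fin.cases s.snd fun i => s.fst ≫ E.π n i) ?_) (fun s => E.hom_ext _ _ _ fun i => ?_)
        (fun s => E.lift_π _ _ _ _) (fun s m h₁ h₂ => E.hom_ext _ _ _ fun i => ?_)⟩⟩
      · have : ∀ i : Fin (n + 2), (Fin.cases s.snd (fun i => s.fst ≫ E.π n i) i : s.pt ⟶ T) ≫ f = s.snd ≫ f := by
          intro i
          cases i using Fin.cases with
          | zero => rfl
          | succ i =>
            simp only [Fin.cases_succ, Category.assoc]
            rw [E.w n i 0]
            exact s.condition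
        exact fun i j => (this i).trans (this j).symm
      · rw [Category.assoc, E.δ_π, E.lift_π, Fin.zero_succAbove, Fin.cases_succ]
      · rw [E.lift_π]
        cases i using Fin.cases with
        | zero => exact h₂
        | succ i => rw [Fin.cases_succ, ← h₁, Category.assoc, E.δ_π, Fin.zero_succAbove]
    exact isAffine_of_iso (h.isoIsPullback _ _ (EtOver.isPullback g f))

theorem faithfullyFlat_of_surjective {T Y : EtOver X} (f : T ⟶ Y) [IsAffine T.obj.left.left]
    [IsAffine Y.obj.left.left] [hf : Surjective f.hom.left.left] :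
    Module.FaithfullyFlat (Ob (OEt X) Y) (Ov (OEt X) (Over.mk f)) := by
  haveI : Module.Flat (Ob (OEt X) Y) (Ov (OEt X) (Over.mk f)) :=
    (affEt X).flat f (show IsAffine Y.obj.left.left from inferInstance) (show IsAffine T.obj.left.left from inferInstance)
  refine Module.FaithfullyFlat.of_comap_surjective fun P => ?_
  let A := Γ(Y.obj.left.left, ⊤)
  let up : A →+* Ob (OEt X) Y := (ULift.ringEquiv.symm : A ≃+* ULift.{u + 1} A).toRingHom
  haveI : (P.asIdeal.comap up).IsPrime := Ideal.IsPrime.comap _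
  obtain ⟨x, hx⟩ := exists_primeAtPt_eq (U := Y.obj.left.left) (P.asIdeal.comap up)
  obtain ⟨z, hz⟩ := f.hom.left.left.surjective x
  let down : Ov (OEt X) (Over.mk f) →+* Γ(T.obj.left.left, ⊤) :=
    (ULift.ringEquiv : ULift.{u + 1} Γ(T.obj.left.left, ⊤) ≃+* _).toRingHom
  refine ⟨⟨(primeAtPt _ z).comap down, inferInstance⟩, PrimeSpectrum.ext ?_⟩
  ext a
  have h1 : a.down ∈ (primeAtPt _ z).comap f.hom.left.left.appTop.hom ↔ a ∈ P.asIdeal := by
    rw [comap_primeAtPt, hz, hx]
    exact Iff.rfl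
  exact h1

theorem exists_affine_cover_lift {Y : EtOver X} [IsAffine Y.obj.left.left] {F G : AbEt X} (φ : F ⟶ G)
    (s : G.obj.obj (op Y)) (hs : Presheaf.imageSieve φ.hom s ∈ etTop X Y) :
    ∃ (T : EtOver X) (f : T ⟶ Y), IsAffine T.obj.left.left ∧ Surjective f.hom.left.left ∧
      Sieve.generate (Presieve.singleton f) ∈ etTop X Y ∧ ∃ r, φ.hom.app (op T) r = G.obj.map f.op s := by
  classical
  obtain ⟨n, hn, W, w, hw, hcov, -⟩ := (affEt X).fam Y (show IsAffine Y.obj.left.left from inferInstance) _ hs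
  let Z : n → Scheme.{u} := fun k => (W k).obj.left.left
  haveI : ∀ k, IsAffine (Z k) := fun k => (hw k).1
  let b : ∀ k, Z k ⟶ Y.obj.left.left := fun k => (w k).hom.left.left
  haveI : ∀ k, Etale (b k) := fun k => EtOver.etale_left (w k)
  haveI : Etale (Sigma.desc b) := IsZariskiLocalAtSource.sigmaDesc fun k => inferInstance
  haveI hA : IsAffine (∐ Z) := inferInstance
  let g : Over.mk (Sigma.desc b ≫ Y.obj.left.hom) ⟶ Y.obj.left := Over.homMk (Sigma.desc b) rfl
  let T : EtOver X := EtOver.mk ((yon S).map g ≫ Y.obj.hom)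
    (repWith_comp ((repWith_yon_map_iff _ _).2 (show Etale (Sigma.desc b) by infer_instance)) Y.property)
  let f : T ⟶ Y := EtOver.homMk g rfl
  let j : ∀ k, W k ⟶ T := fun k => EtOver.homMk
    (Over.homMk (Sigma.ι Z k) (by
      show Sigma.ι Z k ≫ Sigma.desc b ≫ Y.obj.left.hom = (W k).obj.left.hom
      rw [Sigma.ι_desc_assoc]
      exact Over.w (w k).hom.left)) (by
      show (yon S).map _ ≫ (yon S).map g ≫ Y.obj.hom = (W k).obj.hom
      rw [← Functor.map_comp_assoc, ← EtOver.w (w k)]
      congr 2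
      exact Over.OverMorphism.ext (Sigma.ι_desc _ _))
  have hjf : ∀ k, j k ≫ f = w k := fun k =>
    EtOver.hom_ext _ _ (Over.OverMorphism.ext (Sigma.ι_desc _ _))
  obtain ⟨R, hR, hle⟩ := Precoverage.mem_toGrothendieck_iff_of_isStableUnderComposition.1
    (show Sieve.ofArrows W w ∈ (etPre X).toGrothendieck Y from hcov)
  obtain ⟨ι, V, v, rfl⟩ := Presieve.exists_eq_ofArrows R
  have hsurj : ∀ y : Y.obj.left.left, ∃ k, ∃ z : Z k, b k z = y := fun y => by
    obtain ⟨i, z, hz⟩ := (ofArrows_mem_etPre_iff V v).1 hR y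
    obtain ⟨_, a, _, ⟨k⟩, ha⟩ := hle _ _ ⟨i⟩
    refine ⟨k, a.hom.left.left z, ?_⟩
    rw [← hz, ← ha]
    rfl
  haveI hf : Surjective f.hom.left.left := ⟨fun y => by
    obtain ⟨k, z, hz⟩ := hsurj y
    refine ⟨Sigma.ι Z k z, ?_⟩
    show Sigma.desc b (Sigma.ι Z k z) = y
    rw [← Scheme.Hom.comp_apply, Sigma.ι_desc]
    exact hz⟩
  refine ⟨T, f, hA, hf, ?_, ?_⟩
  · have : Sieve.ofArrows (fun _ : PUnit.{u + 1} => T) (fun _ => f) ∈ etTop X Y :=
      ofArrows_mem_etTop _ _ fun y => ⟨⟨⟩, f.hom.left.left.surjective y⟩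
    rwa [Sieve.ofArrows, Presieve.ofArrows_pUnit] at this
  have hcT : Sieve.generate (Presieve.ofArrows W j) ∈ etTop X T :=
    ofArrows_mem_etTop W j fun z => by
      obtain ⟨k, x, hx⟩ := (sigmaOpenCover Z).exists_eq z
      exact ⟨k, x, hx⟩
  let FT := (sheafCompose (etTop X) (forget AddCommGrpCat.{u + 1})).obj F
  let GT := (sheafCompose (etTop X) (forget AddCommGrpCat.{u + 1})).obj G
  have hsh : ∀ H : Sheaf (etTop X) (Type (u + 1)), (Presieve.ofArrows W j).IsSheafFor H.obj :=
    fun H => (Presieve.isSheafFor_iff_generate _).2 ((isSheaf_iff_isSheaf_of_type _ _).1 H.property _ hcT)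
  choose r₁ hr₁ using fun k => (hw k).2.1
  obtain ⟨r₀, hr₀, -⟩ := (Presieve.isSheafFor_arrows_iff _ _).1 (hsh FT) r₁ (fun i i' Z' gi gj hij => by
    by_cases h : i = i'
    · subst h
      haveI : Mono (j i).hom.left.left := inferInstanceAs (Mono (Sigma.ι Z i))
      obtain rfl : gi = gj := EtOver.hom_ext _ _ (Over.OverMorphism.ext
        ((cancel_mono (j i).hom.left.left).1 (congrArg (fun m : Z' ⟶ T => m.hom.left.left) hij)))
      rfl
    · haveI : IsEmpty Z'.obj.left.left := ⟨fun z =>
        (disjoint_opensRange_sigmaι Z i i' h).le_bot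
          ⟨⟨gi.hom.left.left z, rfl⟩, ⟨gj.hom.left.left z, (congr($(hij).hom.left.left.base z)).symm⟩⟩⟩
      have hbot : (⊥ : Sieve Z') ∈ etTop X Z' := by
        refine (etTop X).superset_covering bot_le ?_
        have := ofArrows_mem_etTop (E := Z') (fun e : PEmpty.{u + 1} => e.elim) (fun e => e.elim)
          (fun z => isEmptyElim z)
        refine (etTop X).superset_covering ?_ this
        exact (Sieve.generate_le_iff _ _).2 fun _ _ hh => by rcases hh with ⟨e⟩; exact e.elim
      exact (((isSheaf_iff_isSheaf_of_type _ _).1 FT.property ⊥ hbot).isSeparatedFor).ext fun _ _ h => h.elim)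
  change F.obj.obj (op T) at r₀
  refine ⟨r₀, (hsh GT).isSeparatedFor.ext ?_⟩
  rintro _ _ ⟨k⟩
  show G.obj.map (j k).op (φ.hom.app (op T) r₀) = G.obj.map (j k).op (G.obj.map f.op s)
  rw [← Functor.map_comp_apply, ← op_comp, hjf, ← hr₁ k]
  refine (ConcreteCategory.congr_hom (φ.hom.naturality (j k).op) r₀).symm.trans ?_
  exact congrArg (φ.hom.app (op (W k))) (hr₀ k)

variable (X) in
/-- Affine objects with their surjective affine covers. -/
def affCover : FibPow.CoverClass.{u + 1} (etTop X) where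
  B Y := IsAffine Y.obj.left.left
  Cov T Y f := IsAffine T.obj.left.left ∧ IsAffine Y.obj.left.left ∧ Surjective f.hom.left.left
  mem _ _ f E := fun ⟨h₁, h₂, _⟩ n => isAffine_pow (hT := h₁) (hY := h₂) E n
  refine' Y hY F G φ s hs := by
    haveI : IsAffine Y.obj.left.left := hY
    obtain ⟨T, f, hT, hf, hcov, hr⟩ := exists_affine_cover_lift φ s hs
    exact ⟨T, f, FibPow.ofPullbacks f, ⟨hT, hY, hf⟩, hcov, hr⟩

/-- Quasi-coherent modules are Čech acyclic for affine covers. -/
theorem acyclic_of_isQuasicoherent (M : ModEt X) [M.IsQuasicoherent] :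
    (affCover X).Acyclic ((toAbEt X).obj M) := fun T Y f E hf => by
  obtain ⟨hT, hY, hs⟩ := hf
  haveI : IsAffine T.obj.left.left := hT
  haveI : IsAffine Y.obj.left.left := hY
  haveI : Surjective f.hom.left.left := hs
  haveI := faithfullyFlat_of_surjective f
  exact vanishes_of_good (O := OEt X) M E (affEt X) hY hT (fun n => isAffine_pow E n)
    fun n => good_of_isQuasicoherent M (isAffine_pow E n)

/-- The final object of the site of a representable sheaf. -/
def topObj {T : Over S} (e : (yon S).obj T ≅ X) : EtOver X := EtOver.mk e.hom (repWith_iso _)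

/-- It is final. -/
def isTerminalTopObj {T : Over S} (e : (yon S).obj T ≅ X) : IsTerminal (topObj e) :=
  IsTerminal.ofUniqueHom
    (fun E => EtOver.homMk ((yon S).map_surjective (E.obj.hom ≫ e.inv)).choose (by
      show (yon S).map _ ≫ e.hom = E.obj.hom
      rw [((yon S).map_surjective (E.obj.hom ≫ e.inv)).choose_spec]
      exact (Category.assoc _ _ _).trans ((congrArg (E.obj.hom ≫ ·) e.inv_hom_id).trans (Category.comp_id _))))
    (fun E g => EtOver.hom_ext _ _ ((yon S).map_injective
      (((Iso.eq_comp_inv e).2 (EtOver.w g)).trans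
        ((yon S).map_surjective (E.obj.hom ≫ e.inv)).choose_spec.symm)))

end GrothLib.AlgSp.QCohEt
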