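import Mathlib.RingTheory.Flat.Basic
import Mathlib.RingTheory.Ideal.Quotient.Operations
import Mathlib.RingTheory.TensorProduct.Maps
import Mathlib.LinearAlgebra.TensorProduct.Pi
import Mathlib.RingTheory.Ideal.Maximal

/-!
# Descent of elements along faithfully flat families

* `eq_zero_of_forall`, `exists_of_equalizer`.
-/

universe u v w

open TensorProduct

namespace GrothLib.AlgSp.QCohEt

variable {A : Type u} [CommRing A] {n : Type v} (B : n → Type u) [∀ k, CommRing (B k)] [∀ k, Algebra A (B k)]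
  [∀ k, Module.Flat A (B k)] {M : Type w} [AddCommGroup M] [Module A M]

/-- An element vanishing in all members of a faithfully flat family vanishes. -/
theorem eq_zero_of_forall (hS : ∀ P : Ideal A, P.IsPrime → ∃ k, ∃ Q : Ideal (B k), Q.IsPrime ∧ Q.comap (algebraMap A (B k)) = P)
    (m : M) (h : ∀ k, (1 : B k) ⊗ₜ[A] m = 0) : m = 0 := by
  by_contra hm
  let I : Ideal A := LinearMap.ker (LinearMap.toSpanSingleton A M m)
  have hI : I ≠ ⊤ := fun e => hm (by
    have : (1 : A) ∈ I := e ▸ Submodule.mem_top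
    simpa [I] using this)
  obtain ⟨P, hP, hIP⟩ := Ideal.exists_le_maximal I hI
  obtain ⟨k, Q, hQ, hQP⟩ := hS P hP.isPrime
  let f : (A ⧸ I) →ₗ[A] M := Submodule.liftQ I (LinearMap.toSpanSingleton A M m) le_rfl
  have hf : Function.Injective f := LinearMap.ker_eq_bot.1 (Submodule.ker_liftQ_eq_bot _ _ _ le_rfl)
  have hz : (1 : B k) ⊗ₜ[A] (Ideal.Quotient.mk I 1) = 0 :=
    Module.Flat.lTensor_preserves_injective_linearMap f hf (by
      rw [LinearMap.lTensor_tmul, map_zero]
      show (1 : B k) ⊗ₜ[A] ((1 : A) • m) = 0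
      rw [one_smul]
      exact h k)
  let q : (A ⧸ I) →ₐ[A] (B k ⧸ Q) := Ideal.Quotient.liftₐ I (Algebra.ofId A (B k ⧸ Q)) fun a ha => by
    show Ideal.Quotient.mk Q (algebraMap A (B k) a) = 0
    rw [Ideal.Quotient.eq_zero_iff_mem]
    exact (hQP.symm ▸ hIP ha : a ∈ Q.comap (algebraMap A (B k)))
  have h1 := congrArg (Algebra.TensorProduct.productMap (Ideal.Quotient.mkₐ A Q) q) hz
  rw [map_zero, Algebra.TensorProduct.productMap_apply_tmul, map_one, one_mul, map_one, map_one] at h1
  exact hQ.ne_top ((Ideal.eq_top_iff_one _).2 (Ideal.Quotient.eq_zero_iff_mem.1 (by rw [map_one]; exact h1)))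

/-- Compatible elements over a finite faithfully flat family come from the base. -/
theorem exists_of_equalizer [Finite n]
    (hS : ∀ P : Ideal A, P.IsPrime → ∃ k, ∃ Q : Ideal (B k), Q.IsPrime ∧ Q.comap (algebraMap A (B k)) = P)
    (x : ∀ k, B k ⊗[A] M)
    (h : ∀ k l, (Algebra.TensorProduct.includeLeft : B k →ₐ[A] B k ⊗[A] B l).toLinearMap.rTensor M (x k) =
      (Algebra.TensorProduct.includeRight : B l →ₐ[A] B k ⊗[A] B l).toLinearMap.rTensor M (x l)) :
    ∃ y : M, ∀ k, (1 : B k) ⊗ₜ[A] y = x k := by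
  classical
  haveI := Fintype.ofFinite n
  let g : M →ₗ[A] (∀ l, B l ⊗[A] M) := LinearMap.pi fun l => TensorProduct.mk A (B l) M 1
  suffices hx : x ∈ LinearMap.range g by
    obtain ⟨y, hy⟩ := hx
    exact ⟨y, fun k => congrFun hy k⟩
  rw [← Submodule.Quotient.mk_eq_zero]
  refine eq_zero_of_forall B hS (Submodule.Quotient.mk x : (∀ l, B l ⊗[A] M) ⧸ LinearMap.range g) fun k => ?_
  show (LinearMap.range g).mkQ.lTensor (B k) ((1 : B k) ⊗ₜ[A] x) = 0
  suffices e : g.lTensor (B k) (x k) = (1 : B k) ⊗ₜ[A] x by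
    rw [← e, ← LinearMap.comp_apply, ← LinearMap.lTensor_comp, LinearMap.range_mkQ_comp, LinearMap.lTensor_zero,
      LinearMap.zero_apply]
  apply (TensorProduct.piRight A A (B k) fun l => B l ⊗[A] M).injective
  funext l
  have e1 : ∀ z : B k ⊗[A] M, TensorProduct.piRight A A (B k) (fun l => B l ⊗[A] M) (g.lTensor (B k) z) l =
      TensorProduct.assoc A (B k) (B l) M
        ((Algebra.TensorProduct.includeLeft : B k →ₐ[A] B k ⊗[A] B l).toLinearMap.rTensor M z) := by
    intro z
    induction z using TensorProduct.induction_on with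
    | zero => simp
    | add a b ha hb => simp only [map_add, Pi.add_apply, ha, hb]
    | tmul b m => simp [g]
  have e2 : ∀ z : B l ⊗[A] M, (1 : B k) ⊗ₜ[A] z = TensorProduct.assoc A (B k) (B l) M
      ((Algebra.TensorProduct.includeRight : B l →ₐ[A] B k ⊗[A] B l).toLinearMap.rTensor M z) := by
    intro z
    induction z using TensorProduct.induction_on with
    | zero => simp
    | add a b ha hb => simp only [map_add, TensorProduct.tmul_add, ha, hb]
    | tmul b m => simp
  rw [e1, h k l, ← e2]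
  simp

end GrothLib.AlgSp.QCohEt
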