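import Groth.Agent.Lib.AlgSp.FreeSheafExt
import Groth.Agent.Lib.AlgSp.ElemChain
import Groth.Agent.Lib.AlgSp.QCohMV
import Groth.Agent.Lib.AlgSp.QCohOpenExt

/-!
# A bound on the cohomology of acyclic sheaves on a quasi-compact quasi-separated space

* `Bd`: vanishing of high Ext groups out of the free sheaf on a presheaf, for all acyclic sheaves.
* `bd_pIn_union`: opens of affine objects that are unions of finitely many basic opens.
* `bd_step`: an elementary step.
* `exists_acyclic_bound`.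
-/

universe u

open CategoryTheory CategoryTheory.Limits CategoryTheory.Abelian AlgebraicGeometry Opposite
set_option backward.isDefEq.respectTransparency false

noncomputable section

namespace GrothLib.AlgSp.QCohEt

open _root_.AlgSp
open GrothLib GrothLib.AlgSp

variable {S : Scheme.{u}} {X : Sp S}

theorem ofPt_hom_comp {E E' : EtOver X} (g : E' ⟶ E) (w : ↥E'.obj.left.left) :
    Points.ofPt E'.obj.hom w = Points.ofPt E.obj.hom (g.hom.left.left w) := by
  rw [← EtOver.w g]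
  exact ofPt_map_comp _ _ _

/-- Sections of a sheaf of types glue uniquely along a covering family. -/
theorem existsUnique_glue (G : Sheaf (etTop X) (Type (u + 1))) {E : EtOver X} {I : Type*} {Z : I → EtOver X}
    (g : ∀ i, Z i ⟶ E) (h : Sieve.ofArrows Z g ∈ etTop X E) (x : ∀ i, G.obj.obj (op (Z i)))
    (hc : ∀ i j (W : EtOver X) (a : W ⟶ Z i) (b : W ⟶ Z j), a ≫ g i = b ≫ g j →
      G.obj.map a.op (x i) = G.obj.map b.op (x j)) :
    ∃! t : G.obj.obj (op E), ∀ i, G.obj.map (g i).op t = x i :=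
  (Presieve.isSheafFor_arrows_iff _ _).1 ((Presieve.isSheafFor_iff_generate _).2
    (((isSheaf_iff_isSheaf_of_type _ _).1 G.property) _ h)) x hc

theorem eq_of_arrows (G : Sheaf (etTop X) (Type (u + 1))) {E : EtOver X} {I : Type*} {Z : I → EtOver X}
    (g : ∀ i, Z i ⟶ E) (h : Sieve.ofArrows Z g ∈ etTop X E) (s t : G.obj.obj (op E))
    (he : ∀ i, G.obj.map (g i).op s = G.obj.map (g i).op t) : s = t := by
  obtain ⟨_, -, hu⟩ := existsUnique_glue G g h (fun i => G.obj.map (g i).op s) (fun i j W a b hab => by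
    rw [← Functor.map_comp_apply, ← Functor.map_comp_apply, ← op_comp, ← op_comp, hab])
  exact (hu s fun _ => rfl).trans (hu t fun i => (he i).symm).symm

/-- The objects lying over a set of points, as a presheaf. -/
def pOn (W : Set (Points X)) : (EtOver X)ᵒᵖ ⥤ Type (u + 1) where
  obj Z := ULift.{u + 1} (PLift (Set.range (Points.ofPt Z.unop.obj.hom) ⊆ W))
  map {Z Z'} g := ↾fun h => ⟨⟨by
    rintro _ ⟨w, rfl⟩
    rw [ofPt_hom_comp g.unop]
    exact h.down.down ⟨_, rfl⟩⟩⟩

/-- The maps to an object landing in a set of its points, as a presheaf. -/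
def pIn (E : EtOver X) (W : Set ↥E.obj.left.left) : (EtOver X)ᵒᵖ ⥤ Type (u + 1) where
  obj Z := {a : ULift.{u + 1} (Z.unop ⟶ E) // Set.range a.down.hom.left.left ⊆ W}
  map {Z Z'} g := ↾fun a => ⟨⟨g.unop ≫ a.1.down⟩, by
    rintro _ ⟨w, rfl⟩
    exact a.2 ⟨g.unop.hom.left.left w, rfl⟩⟩
  map_id Z := ConcreteCategory.hom_ext _ _ fun a => Subtype.ext (congrArg ULift.up (Category.id_comp a.1.down))
  map_comp f g := ConcreteCategory.hom_ext _ _ fun a => Subtype.ext
    (congrArg ULift.up (Category.assoc g.unop f.unop a.1.down))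

/-- Inclusions. -/
def pInMap {E : EtOver X} {W W' : Set ↥E.obj.left.left} (h : W ⊆ W') : pIn E W ⟶ pIn E W' where
  app Z := ↾fun a => ⟨a.1, a.2.trans h⟩

/-- The free sheaf has no high Ext into acyclic sheaves. -/
def Bd (P : (EtOver X)ᵒᵖ ⥤ Type (u + 1)) (n : ℕ) : Prop :=
  ∀ F : AbEt X, (affCover X).Acyclic F → ∀ q, n ≤ q →
    ∀ x : Ext ((freeSh (etTop X)).obj P) F (q + 1), x = 0

theorem Bd.mono {P : (EtOver X)ᵒᵖ ⥤ Type (u + 1)} {n m : ℕ} (h : Bd P n) (hm : n ≤ m) : Bd P m :=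
  fun F hF q hq => h F hF q (hm.trans hq)

theorem ext_eq_zero_of_iso {A B F : AbEt X} (e : A ≅ B) {q : ℕ} (h : ∀ x : Ext B F q, x = 0) (x : Ext A F q) :
    x = 0 := by
  have h0 : (Ext.mk₀ e.inv).comp x (zero_add q) = 0 := h _
  rw [← Ext.mk₀_id_comp x, ← e.hom_inv_id, ← Ext.mk₀_comp_mk₀, Ext.comp_assoc_of_second_deg_zero, h0,
    Ext.comp_zero]

theorem Bd.of_iso {P P' : (EtOver X)ᵒᵖ ⥤ Type (u + 1)} (e : P ≅ P') {n : ℕ} (h : Bd P' n) : Bd P n :=
  fun F hF q hq => ext_eq_zero_of_iso ((freeSh (etTop X)).mapIso e) (h F hF q hq)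

theorem bd_affine (E : EtOver X) (hE : IsAffine E.obj.left.left) : Bd (uliftYoneda.{u + 1}.obj E) 0 :=
  fun F hF q _ => ext_freeSh_yoneda_vanish (affCover X) hE q F hF

theorem bd_of_empty (P : (EtOver X)ᵒᵖ ⥤ Type (u + 1))
    (hP : ∀ Z : EtOver X, P.obj (op Z) → IsEmpty ↥Z.obj.left.left) : Bd P 0 := fun F _ q _ x => by
  have hz : IsZero ((freeSh (etTop X)).obj P) := by
    rw [IsZero.iff_id_eq_zero]
    refine ((freeShAdj (etTop X)).homEquiv _ _).injective (NatTrans.ext (funext fun Z => ?_))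
    ext p
    haveI := hP Z.unop p
    exact eq_of_arrows ((sheafCompose _ (forget AddCommGrpCat.{u + 1})).obj _)
      (I := PEmpty.{1}) (Z := PEmpty.elim) (fun i => i.elim)
      (ofArrows_mem_etTop _ _ fun w => isEmptyElim w) _ _ fun i => i.elim
  rw [← Ext.mk₀_id_comp x, hz.eq_of_src (𝟙 _) 0, Ext.mk₀_zero, Ext.zero_comp]

theorem bd_union {P₁ P₂ P₃ P₄ : (EtOver X)ᵒᵖ ⥤ Type (u + 1)} {a : P₁ ⟶ P₂} {b : P₁ ⟶ P₃} {c : P₂ ⟶ P₄}
    {d : P₃ ⟶ P₄} [Mono b] (w : a ≫ c = b ≫ d)
    (H : ∀ (G : Sheaf (etTop X) (Type (u + 1))) (x : P₂ ⟶ G.obj) (y : P₃ ⟶ G.obj), a ≫ x = b ≫ y →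
      ∃! z : P₄ ⟶ G.obj, c ≫ z = x ∧ d ≫ z = y)
    {n₁ n₂ n₃ : ℕ} (h₁ : Bd P₁ n₁) (h₂ : Bd P₂ n₂) (h₃ : Bd P₃ n₃) : Bd P₄ (max (max n₂ n₃) (n₁ + 1)) := by
  intro F hF q hq x
  obtain ⟨q', rfl⟩ : ∃ q', q = q' + 1 := ⟨q - 1, by omega⟩
  exact ext_vanish_of_pushout w H F (q' + 1) (h₁ F hF q' (by omega)) (h₂ F hF _ (by omega))
    (h₃ F hF _ (by omega)) x

/-- The open part of an object over a set of points. -/
abbrev partObj (Z : EtOver X) {W : Set (Points X)} (hW : IsOpen W) : Z.obj.left.left.Opens :=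
  ⟨Points.ofPt Z.obj.hom ⁻¹' W, hW.preimage (Points.continuous_ofPt _)⟩

theorem range_ofPt_opensObj {Z : EtOver X} (O : Z.obj.left.left.Opens) {W : Set (Points X)}
    (h : ∀ z ∈ O, Points.ofPt Z.obj.hom z ∈ W) : Set.range (Points.ofPt (opensObj Z O).obj.hom) ⊆ W := by
  rintro _ ⟨w, rfl⟩
  rw [ofPt_hom_comp (opensInc Z O)]
  exact h _ w.2

theorem exists_opens_factor {Z E : EtOver X} (q : Z ⟶ E) (O : E.obj.left.left.Opens)
    (h : ∀ w, q.hom.left.left w ∈ O) : ∃ k : Z ⟶ opensObj E O, k ≫ opensInc E O = q := by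
  have hr : Set.range q.hom.left.left ⊆ Set.range O.ι := by
    rintro _ ⟨w, rfl⟩
    rw [Scheme.Opens.range_ι]
    exact h w
  let l : Z.obj.left ⟶ Over.mk (O.ι ≫ E.obj.left.hom) := Over.homMk (IsOpenImmersion.lift O.ι q.hom.left.left hr) (by
    change IsOpenImmersion.lift O.ι q.hom.left.left hr ≫ O.ι ≫ E.obj.left.hom = Z.obj.left.hom
    rw [IsOpenImmersion.lift_fac_assoc]
    exact Over.w q.hom.left)
  let i : Over.mk (O.ι ≫ E.obj.left.hom) ⟶ E.obj.left := Over.homMk O.ι rfl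
  have hl : l ≫ i = q.hom.left := Over.OverMorphism.ext (IsOpenImmersion.lift_fac _ _ _)
  exact ⟨EtOver.homMk l ((Category.assoc _ _ _).symm.trans ((congrArg (· ≫ E.obj.hom)
    (((yon S).map_comp l i).symm.trans (congrArg (yon S).map hl))).trans (EtOver.w q))), EtOver.hom_ext _ _ hl⟩

/-- Glueing of maps on two opens of an affine object. -/
theorem bd_pIn_sup (E : EtOver X) {W D : Set ↥E.obj.left.left} (hW : IsOpen W) (hD : IsOpen D) {n₁ n₂ n₃ : ℕ}
    (h₁ : Bd (pIn E (W ∩ D)) n₁) (h₂ : Bd (pIn E W) n₂) (h₃ : Bd (pIn E D) n₃) :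
    Bd (pIn E (W ∪ D)) (max (max n₂ n₃) (n₁ + 1)) := by
  let b : pIn E (W ∩ D) ⟶ pIn E D := pInMap Set.inter_subset_right
  haveI : ∀ Z, Mono (b.app Z) := fun Z => (mono_iff_injective _).2 fun p q h => Subtype.ext (congrArg Subtype.val h :)
  haveI : Mono b := NatTrans.mono_of_mono_app b
  refine bd_union (a := pInMap Set.inter_subset_left) (b := b) (c := pInMap Set.subset_union_left)
    (d := pInMap Set.subset_union_right) rfl (fun G x y hxy => ?_) h₁ h₂ h₃
  have hagree : ∀ (Z : EtOver X) (p : Z ⟶ E) (hp : Set.range p.hom.left.left ⊆ W)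
      (hp' : Set.range p.hom.left.left ⊆ D), x.app (op Z) ⟨⟨p⟩, hp⟩ = y.app (op Z) ⟨⟨p⟩, hp'⟩ :=
    fun Z p hp hp' => congrArg (fun k : pIn E (W ∩ D) ⟶ G.obj => k.app (op Z) ⟨⟨p⟩, Set.subset_inter hp hp'⟩) hxy
  let O : ∀ {Z : EtOver X} (_ : Z ⟶ E), Bool → Z.obj.left.left.Opens := fun {Z} p i =>
    ⟨p.hom.left.left ⁻¹' (bif i then D else W), (Bool.rec (motive := fun i => IsOpen (bif i then D else W)) hW hD i).preimage
      p.hom.left.left.continuous⟩
  have hO : ∀ {Z : EtOver X} (p : Z ⟶ E) (i : Bool),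
      Set.range (opensInc Z (O p i) ≫ p).hom.left.left ⊆ bif i then D else W := by
    rintro Z p i _ ⟨w, rfl⟩
    exact w.2
  let v : ∀ {Z : EtOver X} (p : Z ⟶ E) (i : Bool), G.obj.obj (op (opensObj Z (O p i))) := fun {Z} p i =>
    match i with
    | true => y.app _ ⟨⟨opensInc Z (O p true) ≫ p⟩, hO p true⟩
    | false => x.app _ ⟨⟨opensInc Z (O p false) ≫ p⟩, hO p false⟩
  have hmem : ∀ {Z : EtOver X} (a : (pIn E (W ∪ D)).obj (op Z)),
      Sieve.ofArrows (fun i => opensObj Z (O a.1.down i)) (fun i => opensInc Z (O a.1.down i)) ∈ etTop X Z :=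
    fun {Z} a => ofArrows_mem_etTop _ _ fun w => by
      rcases a.2 ⟨w, rfl⟩ with h | h
      · exact ⟨false, ⟨w, h⟩, rfl⟩
      · exact ⟨true, ⟨w, h⟩, rfl⟩
  have hx : ∀ {Z Z' : EtOver X} (g : Z' ⟶ Z) (p : Z ⟶ E) (hp : Set.range p.hom.left.left ⊆ W) (hp' : _),
      G.obj.map g.op (x.app (op Z) ⟨⟨p⟩, hp⟩) = x.app (op Z') ⟨⟨g ≫ p⟩, hp'⟩ := fun g p hp _ =>
    (NatTrans.naturality_apply x g.op _).symm
  have hy : ∀ {Z Z' : EtOver X} (g : Z' ⟶ Z) (p : Z ⟶ E) (hp : Set.range p.hom.left.left ⊆ D) (hp' : _),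
      G.obj.map g.op (y.app (op Z) ⟨⟨p⟩, hp⟩) = y.app (op Z') ⟨⟨g ≫ p⟩, hp'⟩ := fun g p hp _ =>
    (NatTrans.naturality_apply y g.op _).symm
  have hsub : ∀ {Z Z' : EtOver X} (g : Z' ⟶ Z) (q : Z ⟶ E) {A : Set ↥E.obj.left.left},
      Set.range q.hom.left.left ⊆ A → Set.range (g ≫ q).hom.left.left ⊆ A := by
    rintro Z Z' g q A h _ ⟨w, rfl⟩
    exact h ⟨g.hom.left.left w, rfl⟩
  have key : ∀ {Z : EtOver X} (a : (pIn E (W ∪ D)).obj (op Z)), ∃! t : G.obj.obj (op Z),
      ∀ i, G.obj.map (opensInc Z (O a.1.down i)).op t = v a.1.down i := fun {Z} a =>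
    existsUnique_glue G _ (hmem a) _ fun i j T p q hpq => by
      have e : p ≫ opensInc Z (O a.1.down i) ≫ a.1.down = q ≫ opensInc Z (O a.1.down j) ≫ a.1.down := by
        rw [← Category.assoc, hpq, Category.assoc]
      cases i <;> cases j
      · rw [cancel_opensInc _ _ hpq]
      · dsimp only [v]
        rw [hx p _ (hO _ _) (hsub p _ (hO _ _)), hy q _ (hO _ _) (hsub q _ (hO _ _))]
        refine (hagree _ _ _ (by rw [e]; exact hsub q _ (hO _ _))).trans ?_
        congr 1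
        exact Subtype.ext (ULift.ext _ _ e)
      · dsimp only [v]
        rw [hy p _ (hO _ _) (hsub p _ (hO _ _)), hx q _ (hO _ _) (hsub q _ (hO _ _))]
        refine Eq.trans ?_ (hagree _ _ _ (by rw [← e]; exact hsub p _ (hO _ _))).symm
        congr 1
        exact Subtype.ext (ULift.ext _ _ e)
      · rw [cancel_opensInc _ _ hpq]
  choose t ht hu using @key
  refine ⟨{ app := fun Z => ↾fun a => t (Z := Z.unop) a, naturality := ?_ }, ⟨?_, ?_⟩, ?_⟩
  · intro Z Z' g
    ext a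
    refine eq_of_arrows G _ (hmem ((pIn E (W ∪ D)).map g a)) _ _ fun i => ?_
    refine (ht ((pIn E (W ∪ D)).map g a) i).trans ?_
    show _ = G.obj.map (opensInc Z'.unop (O (g.unop ≫ a.1.down) i)).op (G.obj.map g (t a))
    obtain ⟨k, hk⟩ : ∃ k : opensObj Z'.unop (O (g.unop ≫ a.1.down) i) ⟶ opensObj Z.unop (O a.1.down i),
        k ≫ opensInc Z.unop (O a.1.down i) = opensInc Z'.unop (O (g.unop ≫ a.1.down) i) ≫ g.unop :=
      exists_opens_factor _ _ fun w => w.2
    rw [← Functor.map_comp_apply, show g ≫ (opensInc Z'.unop (O (g.unop ≫ a.1.down) i)).op =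
      (opensInc Z.unop (O a.1.down i)).op ≫ k.op by rw [← op_comp, hk, op_comp, Quiver.Hom.op_unop],
      Functor.map_comp_apply, ht a i]
    cases i
    · refine (Eq.trans ?_ (hx k _ _ (hsub k _ (hO _ _))).symm)
      dsimp only [v]
      congr 1
      refine Subtype.ext (ULift.ext _ _ ?_)
      exact (Category.assoc _ _ _).symm.trans ((congrArg (· ≫ a.1.down) hk.symm).trans (Category.assoc _ _ _))
    · refine (Eq.trans ?_ (hy k _ _ (hsub k _ (hO _ _))).symm)
      dsimp only [v]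
      congr 1
      refine Subtype.ext (ULift.ext _ _ ?_)
      exact (Category.assoc _ _ _).symm.trans ((congrArg (· ≫ a.1.down) hk.symm).trans (Category.assoc _ _ _))
  · ext ⟨Z⟩ p
    refine (hu ((pInMap Set.subset_union_left).app _ p) (x.app _ p) fun i => ?_).symm
    cases i
    · exact hx _ _ p.2 (hO _ _)
    · exact (hx _ _ p.2 (hsub _ _ p.2)).trans (hagree _ _ _ (hO p.1.down true))
  · ext ⟨Z⟩ p
    refine (hu ((pInMap Set.subset_union_right).app _ p) (y.app _ p) fun i => ?_).symm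
    cases i
    · exact (hy _ _ p.2 (hsub _ _ p.2)).trans (hagree _ _ (hO p.1.down false) (hsub _ _ p.2)).symm
    · exact hy _ _ p.2 (hO _ _)
  · rintro z ⟨hz₁, hz₂⟩
    ext ⟨Z⟩ p
    refine hu p (z.app _ p) fun i => ?_
    refine (NatTrans.naturality_apply z (opensInc Z (O p.1.down i)).op p).symm.trans ?_
    cases i
    · exact congrArg (fun k : pIn E W ⟶ G.obj => k.app _ ⟨⟨_⟩, hO p.1.down false⟩) hz₁
    · exact congrArg (fun k : pIn E D ⟶ G.obj => k.app _ ⟨⟨_⟩, hO p.1.down true⟩) hz₂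

/-- Maps landing in an open are maps to the open. -/
def pInIso (E : EtOver X) (O : E.obj.left.left.Opens) : pIn E (O : Set ↥E.obj.left.left) ≅
    uliftYoneda.{u + 1}.obj (opensObj E O) :=
  (NatIso.ofComponents (fun Z => (Equiv.ofBijective
    (fun b : ULift.{u + 1} (Z.unop ⟶ opensObj E O) =>
      (⟨⟨b.down ≫ opensInc E O⟩, by rintro _ ⟨w, rfl⟩; exact (b.down.hom.left.left w).2⟩ : (pIn E O).obj Z))
    ⟨fun b b' h => ULift.ext _ _ (cancel_opensInc E O (congrArg (fun p => p.1.down) h)), fun p => by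
      obtain ⟨k, hk⟩ := exists_opens_factor p.1.down O fun w => p.2 ⟨w, rfl⟩
      exact ⟨⟨k⟩, Subtype.ext (ULift.ext _ _ hk)⟩⟩).toIso) fun {Z Z'} g => by
      ext b
      exact Subtype.ext (ULift.ext _ _ (Category.assoc _ _ _))).symm

theorem bd_pIn_basicUnion (E : EtOver X) (hE : IsAffine E.obj.left.left) (n : ℕ) :
    ∀ s : Finset Γ(E.obj.left.left, ⊤), s.card ≤ n →
      Bd (pIn E (⋃ i ∈ s, (E.obj.left.left.basicOpen i : Set ↥E.obj.left.left))) n := by
  classical
  haveI := hE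
  induction n with
  | zero =>
    intro s hs
    obtain rfl := Finset.card_eq_zero.1 (Nat.le_zero.1 hs)
    exact bd_of_empty _ fun Z a => ⟨fun w => by simpa using a.2 ⟨w, rfl⟩⟩
  | succ n ih =>
    intro s hs
    rcases s.eq_empty_or_nonempty with rfl | ⟨t, ht⟩
    · exact (ih ∅ (by simp)).mono (by omega)
    have hs' : (s.erase t).card ≤ n := by
      have := Finset.card_erase_add_one ht
      omega
    have e₁ : (⋃ i ∈ s, (E.obj.left.left.basicOpen i : Set ↥E.obj.left.left)) =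
        (⋃ i ∈ s.erase t, (E.obj.left.left.basicOpen i : Set ↥E.obj.left.left)) ∪ E.obj.left.left.basicOpen t := by
      conv_lhs => rw [← Finset.insert_erase ht]
      rw [Finset.set_biUnion_insert, Set.union_comm]
    have e₂ : (⋃ i ∈ s.erase t, (E.obj.left.left.basicOpen i : Set ↥E.obj.left.left)) ∩ E.obj.left.left.basicOpen t =
        ⋃ i ∈ (s.erase t).image (· * t), (E.obj.left.left.basicOpen i : Set ↥E.obj.left.left) := by
      rw [Finset.set_biUnion_finset_image, Set.iUnion₂_inter]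
      simp only [Scheme.basicOpen_mul, TopologicalSpace.Opens.coe_inf]
    have h₃ : Bd (pIn E (E.obj.left.left.basicOpen t : Set ↥E.obj.left.left)) 0 :=
      Bd.of_iso (pInIso E _) (bd_affine _ ((isAffineOpen_top E.obj.left.left).basicOpen t))
    have h₁ := ih ((s.erase t).image (· * t)) (Finset.card_image_le.trans hs')
    rw [← e₂] at h₁
    rw [e₁]
    exact (bd_pIn_sup E (isOpen_biUnion fun i _ => (E.obj.left.left.basicOpen i).isOpen)
      (E.obj.left.left.basicOpen t).isOpen h₁ (ih _ hs') h₃).mono (by omega)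

/-- The inclusion of the part of an etale chart over an open. -/
def pInToOn (E : EtOver X) (W : Set (Points X)) : pIn E (Points.ofPt E.obj.hom ⁻¹' W) ⟶ pOn W where
  app Z := ↾fun a => ⟨⟨by
    rintro _ ⟨w, rfl⟩
    rw [ofPt_hom_comp a.1.down]
    exact a.2 ⟨w, rfl⟩⟩⟩

/-- Forgetting the condition. -/
def pInToYoneda (E : EtOver X) (W : Set ↥E.obj.left.left) : pIn E W ⟶ uliftYoneda.{u + 1}.obj E where
  app Z := ↾fun a => a.1

/-- Points over an open. -/
def pOnMap {W W' : Set (Points X)} (h : W ⊆ W') : pOn W ⟶ pOn W' where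
  app Z := ↾fun a => ⟨⟨a.down.down.trans h⟩⟩

/-- Objects mapping to an object lie over its image. -/
def yonedaToOn (E : EtOver X) (W : Set (Points X)) (h : Set.range (Points.ofPt E.obj.hom) ⊆ W) :
    uliftYoneda.{u + 1}.obj E ⟶ pOn W where
  app Z := ↾fun a => ⟨⟨by
    rintro _ ⟨w, rfl⟩
    rw [ofPt_hom_comp a.down]
    exact h ⟨_, rfl⟩⟩⟩

/-- An elementary step. -/
theorem bd_step (hX : IsAlgSpace X) {O : Set (Points X)} (hO : IsOpen O) (V : EtOver X)
    (hlift : ∀ (T : Over S) (γ : (yon S).obj T ⟶ X),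
      (∀ t, Points.ofPt γ t ∈ O ∪ Set.range (Points.ofPt V.obj.hom) ∧ Points.ofPt γ t ∉ O) →
        ∃! l : T ⟶ V.obj.left, (yon S).map l ≫ V.obj.hom = γ) {n₁ n₂ n₃ : ℕ}
    (h₁ : Bd (pIn V (Points.ofPt V.obj.hom ⁻¹' O)) n₁) (h₂ : Bd (pOn O) n₂)
    (h₃ : Bd (uliftYoneda.{u + 1}.obj V) n₃) :
    Bd (pOn (O ∪ Set.range (Points.ofPt V.obj.hom))) (max (max n₂ n₃) (n₁ + 1)) := by
  let O' := O ∪ Set.range (Points.ofPt V.obj.hom)
  let b := pInToYoneda V (Points.ofPt V.obj.hom ⁻¹' O)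
  haveI : ∀ Z, Mono (b.app Z) := fun Z => (mono_iff_injective _).2 fun p q h => Subtype.ext h
  haveI : Mono b := NatTrans.mono_of_mono_app b
  refine bd_union (a := pInToOn V O) (b := b) (c := pOnMap Set.subset_union_left)
    (d := yonedaToOn V O' Set.subset_union_right) rfl (fun G x y hxy => ?_) h₁ h₂ h₃
  have hagree : ∀ (Z : EtOver X) (p : Z ⟶ V) (hz : Set.range (Points.ofPt Z.obj.hom) ⊆ O),
      x.app (op Z) ⟨⟨hz⟩⟩ = y.app (op Z) ⟨p⟩ := fun Z p hz =>
    congrArg (fun k : pIn V (Points.ofPt V.obj.hom ⁻¹' O) ⟶ G.obj => k.app (op Z)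
      ⟨⟨p⟩, by
        rintro _ ⟨w, rfl⟩
        show Points.ofPt V.obj.hom (p.hom.left.left w) ∈ O
        rw [← ofPt_hom_comp p w]
        exact hz ⟨w, rfl⟩⟩) hxy
  have hx : ∀ {Z Z' : EtOver X} (g : Z' ⟶ Z) (hz : Set.range (Points.ofPt Z.obj.hom) ⊆ O) (hz' : _),
      G.obj.map g.op (x.app (op Z) ⟨⟨hz⟩⟩) = x.app (op Z') ⟨⟨hz'⟩⟩ := fun g hz _ =>
    (NatTrans.naturality_apply x g.op _).symm
  have hy : ∀ {Z Z' : EtOver X} (g : Z' ⟶ Z) (p : Z ⟶ V),
      G.obj.map g.op (y.app (op Z) ⟨p⟩) = y.app (op Z') ⟨g ≫ p⟩ := fun g p =>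
    (NatTrans.naturality_apply y g.op _).symm
  have hon : ∀ {Z Z' : EtOver X} (_ : Z' ⟶ Z) {A : Set (Points X)},
      Set.range (Points.ofPt Z.obj.hom) ⊆ A → Set.range (Points.ofPt Z'.obj.hom) ⊆ A := by
    rintro Z Z' g A h _ ⟨w, rfl⟩
    rw [ofPt_hom_comp g]
    exact h ⟨_, rfl⟩
  have hpart : ∀ (Z : EtOver X), Set.range (Points.ofPt (opensObj Z (partObj Z hO)).obj.hom) ⊆ O := fun Z =>
    range_ofPt_opensObj _ fun z hz => hz
  have hVe : IsEtaleMor V.obj.hom := isEtaleMor_of_locP hX (EtLocal.locP_of_repWith .etale hX V.property)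
  have hΔ := repWith_openImmersion_diag_of_etale (IsAlgSpace.yon_obj V.obj.left) hX hVe
  -- two maps to `V` have the same value
  have hsame : ∀ (T : EtOver X) (p q : T ⟶ V), Set.range (Points.ofPt T.obj.hom) ⊆ O' →
      y.app (op T) ⟨p⟩ = y.app (op T) ⟨q⟩ := fun T p q hT => by
    obtain ⟨ab, h1, h2⟩ : ∃ ab, ab ≫ pullback.fst V.obj.hom V.obj.hom = (yon S).map p.hom.left ∧
        ab ≫ pullback.snd V.obj.hom V.obj.hom = (yon S).map q.hom.left :=
      ⟨pullback.lift _ _ ((EtOver.w p).trans (EtOver.w q).symm), pullback.lift_fst _ _ _, pullback.lift_snd _ _ _⟩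
    let P : T.obj.left.left.Opens := ⟨Points.ofPt ab ⁻¹' Set.range (Points.map (pullback.diagonal V.obj.hom)),
      (isOpen_range_openImmersion hΔ).preimage (Points.continuous_ofPt ab)⟩
    have hP : opensInc T P ≫ p = opensInc T P ≫ q := by
      obtain ⟨z, hz⟩ := (exists_factor_iff hΔ ((yon S).map (opensInc T P).hom.left ≫ ab)).2 (by
        rintro _ ⟨w, rfl⟩
        obtain ⟨w, rfl⟩ := (Points.schemeEquiv (opensObj T P).obj.left).surjective w
        rw [show Points.schemeEquiv _ w = Points.ofScheme _ w from rfl, ← Points.ofPt_eq_map_ofScheme,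
          ofPt_map_comp]
        exact w.2)
      refine EtOver.hom_ext _ _ ((yon S).map_injective ?_)
      refine ((yon S).map_comp _ _).trans (Eq.trans ?_ ((yon S).map_comp _ _).symm)
      rw [← h1, ← h2, ← Category.assoc, ← Category.assoc, ← hz]
      simp only [Category.assoc, pullback.diagonal_fst, pullback.diagonal_snd]
    refine eq_of_arrows G (fun i : Bool => opensInc T (bif i then P else partObj T hO))
      (ofArrows_mem_etTop _ _ fun w => ?_) _ _ fun i => ?_
    · by_cases hw : Points.ofPt T.obj.hom w ∈ O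
      · exact ⟨false, ⟨w, hw⟩, rfl⟩
      · refine ⟨true, ⟨w, ?_⟩, rfl⟩
        obtain ⟨K, _, str, g, hg⟩ := exists_ofPt (Points.ofPt ab w)
        change Points.ofPt ab w ∈ Set.range _
        rw [← hg]
        have hpt : Points.ofPt ((g ≫ pullback.fst V.obj.hom V.obj.hom) ≫ V.obj.hom) (IsLocalRing.closedPoint K) =
            Points.ofPt T.obj.hom w := by
          rw [← Points.map_ofPt, ← Points.map_ofPt, hg, Points.map_ofPt, Points.map_ofPt, h1, EtOver.w p]
        obtain ⟨l₁, hl₁⟩ := (yon S).map_surjective (g ≫ pullback.fst V.obj.hom V.obj.hom)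
        obtain ⟨l₂, hl₂⟩ := (yon S).map_surjective (g ≫ pullback.snd V.obj.hom V.obj.hom)
        have el : l₁ = l₂ := (hlift _ ((g ≫ pullback.fst V.obj.hom V.obj.hom) ≫ V.obj.hom) (fun t => by
          rw [Subsingleton.elim (α := PrimeSpectrum K) t (IsLocalRing.closedPoint K), hpt]
          exact ⟨hT ⟨w, rfl⟩, hw⟩)).unique (by rw [hl₁])
          (by rw [hl₂, Category.assoc, Category.assoc, pullback.condition])
        have hgd : g = (g ≫ pullback.fst V.obj.hom V.obj.hom) ≫ pullback.diagonal V.obj.hom := by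
          apply pullback.hom_ext
          · rw [Category.assoc, pullback.diagonal_fst, Category.comp_id]
          · rw [Category.assoc, pullback.diagonal_snd, Category.comp_id, ← hl₁, ← hl₂, el]
        exact ⟨Points.ofPt (g ≫ pullback.fst V.obj.hom V.obj.hom) (IsLocalRing.closedPoint K),
          by rw [Points.map_ofPt, ← hgd]⟩
    · cases i
      · exact (hy (opensInc T (partObj T hO)) p).trans
          (((hagree _ _ (hpart T)).symm.trans (hagree _ _ (hpart T))).trans (hy (opensInc T (partObj T hO)) q).symm)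
      · refine (hy (opensInc T P) p).trans (Eq.trans ?_ (hy (opensInc T P) q).symm)
        rw [hP]
  let A : ∀ (Z : EtOver X), Bool → EtOver X := fun Z i => bif i then EtOver.prodObj Z V else opensObj Z (partObj Z hO)
  let g : ∀ (Z : EtOver X) (i : Bool), A Z i ⟶ Z := fun Z i => match i with
    | true => EtOver.prodFst Z V
    | false => opensInc Z (partObj Z hO)
  let v : ∀ (Z : EtOver X) (i : Bool), G.obj.obj (op (A Z i)) := fun Z i => match i with
    | true => y.app _ ⟨EtOver.prodSnd Z V⟩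
    | false => x.app _ ⟨⟨hpart Z⟩⟩
  have hmem : ∀ {Z : EtOver X} (_ : (pOn O').obj (op Z)), Sieve.ofArrows (A Z) (g Z) ∈ etTop X Z :=
    fun {Z} a => ofArrows_mem_etTop _ _ fun w => by
      rcases a.down.down ⟨w, rfl⟩ with h | ⟨v, hv⟩
      · exact ⟨false, ⟨w, h⟩, rfl⟩
      · have e : Points.map Z.obj.hom (Points.ofScheme _ w) = Points.map V.obj.hom (Points.ofScheme _ v) := by
          rw [← Points.ofPt_eq_map_ofScheme, ← Points.ofPt_eq_map_ofScheme, hv]
        obtain ⟨q, hq, -⟩ := exists_of_isPullback (V.property.1.isPullback Z.obj.hom).flip e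
        obtain ⟨z, rfl⟩ := (Points.schemeEquiv _).surjective q
        refine ⟨true, z, (Points.schemeEquiv Z.obj.left).injective ?_⟩
        exact (map_yon_ofPt (EtOver.prodFst Z V).hom.left z).symm.trans hq
  have key : ∀ {Z : EtOver X} (_ : (pOn O').obj (op Z)), ∃! t : G.obj.obj (op Z),
      ∀ i, G.obj.map (g Z i).op t = v Z i := fun {Z} a =>
    existsUnique_glue G _ (hmem a) _ fun i j T p q hpq => by
      have hT : Set.range (Points.ofPt T.obj.hom) ⊆ O' := hon (p ≫ g Z i) a.down.down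
      cases i <;> cases j
      · exact congrArg (fun r : T ⟶ opensObj Z (partObj Z hO) => G.obj.map r.op (x.app _ ⟨⟨hpart Z⟩⟩))
          (cancel_opensInc Z _ hpq)
      · exact (hx p (hpart Z) (hon p (hpart Z))).trans ((hagree _ _ _).trans (hy q _).symm)
      · exact ((hy p _).trans ((hagree _ _ _).symm)).trans (hx q (hpart Z) (hon q (hpart Z))).symm
      · exact (hy p _).trans ((hsame T _ _ hT).trans (hy q _).symm)
  choose t ht hu using @key
  refine ⟨{ app := fun Z => ↾fun a => t (Z := Z.unop) a, naturality := ?_ }, ⟨?_, ?_⟩, ?_⟩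
  · intro Z Z' k
    ext a
    refine eq_of_arrows G _ (hmem ((pOn O').map k a)) _ _ fun i => ?_
    refine (ht ((pOn O').map k a) i).trans ?_
    show _ = G.obj.map (g Z'.unop i).op (G.obj.map k (t a))
    cases i
    · obtain ⟨m, hm⟩ := exists_opens_factor (opensInc Z'.unop (partObj Z'.unop hO) ≫ k.unop) (partObj Z.unop hO)
        fun w => by
          show Points.ofPt _ _ ∈ O
          rw [← ofPt_hom_comp]
          exact hpart Z'.unop ⟨w, rfl⟩
      rw [← Functor.map_comp_apply, show k ≫ (g Z'.unop false).op = (g Z.unop false).op ≫ m.op by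
        rw [← op_comp]; exact congrArg Quiver.Hom.op hm.symm, Functor.map_comp_apply, ht a false]
      exact (hx m (hpart Z.unop) (hpart Z'.unop)).symm
    · let m : A Z'.unop true ⟶ A Z.unop true :=
        (EtOver.prodIsLimit Z.unop V).lift (BinaryFan.mk (EtOver.prodFst Z'.unop V ≫ k.unop) (EtOver.prodSnd Z'.unop V))
      have hm₁ : m ≫ EtOver.prodFst Z.unop V = EtOver.prodFst Z'.unop V ≫ k.unop :=
        (EtOver.prodIsLimit Z.unop V).fac _ ⟨WalkingPair.left⟩
      have hm₂ : m ≫ EtOver.prodSnd Z.unop V = EtOver.prodSnd Z'.unop V :=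
        (EtOver.prodIsLimit Z.unop V).fac _ ⟨WalkingPair.right⟩
      rw [← Functor.map_comp_apply, show k ≫ (g Z'.unop true).op = (g Z.unop true).op ≫ m.op by
        rw [← op_comp]; exact congrArg Quiver.Hom.op hm₁.symm, Functor.map_comp_apply, ht a true]
      refine Eq.trans ?_ (hy m _).symm
      rw [hm₂]
  · ext ⟨Z⟩ a
    refine (hu ((pOnMap Set.subset_union_left).app _ a) (x.app _ a) fun i => ?_).symm
    cases i
    · exact hx _ a.down.down (hpart Z)
    · exact (hx _ a.down.down (hon (g Z true) a.down.down)).trans (hagree _ _ _)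
  · ext ⟨Z⟩ a
    refine (hu ((yonedaToOn V O' Set.subset_union_right).app _ a) (y.app _ a) fun i => ?_).symm
    cases i
    · exact (hy _ a.down).trans (hagree _ _ (hpart Z)).symm
    · exact (hy _ a.down).trans (hsame _ _ _ (hon (g Z true) ((yonedaToOn V O' Set.subset_union_right).app _ a).down.down))
  · rintro z ⟨hz₁, hz₂⟩
    ext ⟨Z⟩ a
    refine hu a (z.app _ a) fun i => ?_
    refine (NatTrans.naturality_apply z (g Z i).op a).symm.trans ?_
    cases i
    · exact congrArg (fun k : pOn O ⟶ G.obj => k.app _ ⟨⟨hpart Z⟩⟩) hz₁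
    · exact congrArg (fun k : uliftYoneda.{u + 1}.obj V ⟶ G.obj => k.app _ ⟨EtOver.prodSnd Z V⟩) hz₂

/-- The cohomology of acyclic sheaves on a quasi-compact quasi-separated space is bounded. -/
theorem exists_acyclic_bound [QuasiSeparatedSpace ↥S] (hX : IsAlgSpace X) (hqc : IsQuasiCompactSp X)
    (hqs : IsQuasiSeparatedSp X) :
    ∃ n : ℕ, ∀ F : AbEt X, (affCover X).Acyclic F → ∀ q, n ≤ q → Subsingleton (Sheaf.H F q) := by
  have main : ∀ O' : Set (Points X), Relation.ReflTransGen (ElemStep (X := X)) ∅ O' → ∃ n, Bd (pOn O') n := by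
    intro O' h
    induction h with
    | refl => exact ⟨0, bd_of_empty _ fun Z a => ⟨fun w => a.down.down ⟨w, rfl⟩⟩⟩
    | @tail A B hA hs ih =>
      obtain ⟨n₂, h₂⟩ := ih
      obtain ⟨hO, V, f, hV, he, rfl, hl⟩ := hs
      haveI := hV
      let E : EtOver X := EtOver.mk f he
      have hc : IsCompact (Points.ofPt f ⁻¹' A) :=
        compact_preimage f he hqs hX hO (isCompact_of_reach hA isCompact_empty)
      obtain ⟨s, hsfin, hs⟩ := isCompact_and_isOpen_iff_finite_and_eq_biUnion_basicOpen.1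
        ⟨hc, hO.preimage (Points.continuous_ofPt f)⟩
      have h₁ : Bd (pIn E (Points.ofPt E.obj.hom ⁻¹' A)) hsfin.toFinset.card := by
        refine (congrArg (fun W => Bd (pIn E W) hsfin.toFinset.card) ?_).mp
          (bd_pIn_basicUnion E hV hsfin.toFinset.card hsfin.toFinset le_rfl)
        refine Eq.trans ?_ hs.symm
        ext w
        simp only [Set.mem_iUnion, Set.Finite.mem_toFinset, SetLike.mem_coe, exists_prop]
        rfl
      exact ⟨_, bd_step hX hO E hl h₁ h₂ (bd_affine E hV)⟩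
  obtain ⟨n, hn⟩ := main _ (elemReach_univ hX hqc hqs)
  refine ⟨n + 1, fun F hF q hq => ?_⟩
  obtain ⟨q', rfl⟩ : ∃ q', q = q' + 1 := ⟨q - 1, by omega⟩
  letI : ∀ Z, Unique ((pOn (Set.univ : Set (Points X))).obj Z) := fun Z =>
    { default := ⟨⟨Set.subset_univ _⟩⟩, uniq := fun _ => rfl }
  exact subsingleton_of_forall_eq 0 fun x =>
    ext_eq_zero_of_iso (freeShIsoConst (pOn (Set.univ : Set (Points X)))).symm (hn F hF q' (by omega)) x

end GrothLib.AlgSp.QCohEt
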