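import Groth.Agent.Lib.AlgSp.QCohSite
import Groth.Agent.Lib.FibPow.Cartan

/-!
# Čech acyclicity of modules whose sections are base changes

* `vanishes_of_good`: the Čech complex of a faithfully flat map between affine objects is acyclic.
-/

universe u

open CategoryTheory CategoryTheory.Limits Opposite TensorProduct
set_option backward.isDefEq.respectTransparency false

noncomputable section

namespace GrothLib.AlgSp.QCohEt

variable {C : Type (u + 1)} [Category.{u} C] {J : GrothendieckTopology C} {O : Sheaf J CommRingCat.{u + 1}}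
  (M : SheafOfModules.{u + 1} (RR O)) {T Y : C} {f : T ⟶ Y} (E : GrothLib.FibPow f)

/-- A fibre power, over the base. -/
abbrev powOver (n : ℕ) : Over Y := Over.mk (E.π n 0 ≫ f)

theorem powOver_w (n : ℕ) (k : Fin (n + 2)) : E.δ n k ≫ E.π n 0 ≫ f = E.π (n + 1) 0 ≫ f := by
  rw [E.δ_π_assoc, E.w]

/-- Omission of a component, over the base. -/
abbrev deltaOver (n : ℕ) (k : Fin (n + 2)) : powOver E (n + 1) ⟶ powOver E n :=
  Over.homMk (E.δ n k) (powOver_w E n k)

/-- The first projection, over the base. -/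
abbrev fstOver (n : ℕ) : powOver E n ⟶ Over.mk f := Over.homMk (E.π n 0) rfl

/-- Repetition of the first component. -/
def sigmaOver (n : ℕ) : powOver E n ⟶ powOver E (n + 1) :=
  Over.homMk (E.lift (n + 1) (Fin.cases (E.π n 0) (E.π n)) (by
    have : ∀ i : Fin (n + 2), (Fin.cases (E.π n 0) (E.π n) i : E.P n ⟶ T) ≫ f = E.π n 0 ≫ f := fun i => by
      cases i using Fin.cases with
      | zero => rfl
      | succ i => simp only [Fin.cases_succ]; exact E.w _ _ _
    exact fun i j => (this i).trans (this j).symm)) (by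
    show _ ≫ E.π (n + 1) 0 ≫ f = E.π n 0 ≫ f
    rw [E.lift_π_assoc]
    rfl)

theorem sigmaOver_π_zero (n : ℕ) : (sigmaOver E n).left ≫ E.π (n + 1) 0 = E.π n 0 := by
  simp [sigmaOver, E.lift_π]

theorem sigmaOver_π_succ (n : ℕ) (i : Fin (n + 1)) : (sigmaOver E n).left ≫ E.π (n + 1) i.succ = E.π n i := by
  simp [sigmaOver, E.lift_π]

theorem sigmaOver_delta_one (n : ℕ) : sigmaOver E n ≫ deltaOver E n (Fin.succ 0) = 𝟙 _ := by
  refine Over.OverMorphism.ext (E.hom_ext n _ _ fun i => ?_)
  simp only [Over.comp_left, Over.id_left, Category.assoc, Category.id_comp, Over.homMk_left, E.δ_π]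
  cases i using Fin.cases with
  | zero => rw [Fin.succ_succAbove_zero, sigmaOver_π_zero]
  | succ i => rw [Fin.succ_succAbove_succ, Fin.zero_succAbove, sigmaOver_π_succ]

theorem sigmaOver_delta (n : ℕ) (j : Fin (n + 1)) :
    sigmaOver E (n + 1) ≫ deltaOver E (n + 1) j.succ.succ = deltaOver E n j.succ ≫ sigmaOver E n := by
  refine Over.OverMorphism.ext (E.hom_ext (n + 1) _ _ fun i => ?_)
  simp only [Over.comp_left, Category.assoc, Over.homMk_left, E.δ_π]
  cases i using Fin.cases with
  | zero => rw [Fin.succ_succAbove_zero, sigmaOver_π_zero, sigmaOver_π_zero, E.δ_π, Fin.succ_succAbove_zero]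
  | succ i => rw [Fin.succ_succAbove_succ, sigmaOver_π_succ, sigmaOver_π_succ, E.δ_π]

theorem delta_fst (n : ℕ) (k : Fin (n + 2)) :
    deltaOver E (n + 1) k.succ ≫ fstOver E (n + 1) = fstOver E (n + 2) := by
  refine Over.OverMorphism.ext ?_
  simp only [Over.comp_left, Over.homMk_left, E.δ_π, Fin.succ_succAbove_zero]

theorem delta_delta (n : ℕ) (k : Fin (n + 2)) :
    deltaOver E (n + 1) k.succ ≫ deltaOver E n 0 = deltaOver E (n + 1) 0 ≫ deltaOver E n k := by
  refine Over.OverMorphism.ext (E.hom_ext n _ _ fun i => ?_)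
  simp only [Over.comp_left, Category.assoc, Over.homMk_left, E.δ_π, Fin.zero_succAbove,
    Fin.succ_succAbove_succ]

/-- The differential, linear over the base. -/
def dOver (n : ℕ) : SecO M (powOver E n) →ₗ[Ob O Y] SecO M (powOver E (n + 1)) :=
  ∑ k : Fin (n + 2), (-1 : ℤ) ^ (k : ℕ) • mresA M (deltaOver E n k)

theorem dOver_apply (n : ℕ) (x : SecO M (powOver E n)) :
    dOver M E n x = ∑ k : Fin (n + 2), (-1 : ℤ) ^ (k : ℕ) • mresA M (deltaOver E n k) x := by
  rw [dOver, LinearMap.sum_apply]
  rfl

/-- The shifted differential. -/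
def dShift (n : ℕ) : SecO M (powOver E (n + 1)) →ₗ[Ob O Y] SecO M (powOver E (n + 2)) :=
  ∑ k : Fin (n + 2), (-1 : ℤ) ^ (k : ℕ) • mresA M (deltaOver E (n + 1) k.succ)

theorem dShift_apply (n : ℕ) (x : SecO M (powOver E (n + 1))) :
    dShift M E n x = ∑ k : Fin (n + 2), (-1 : ℤ) ^ (k : ℕ) • mresA M (deltaOver E (n + 1) k.succ) x := by
  rw [dShift, LinearMap.sum_apply]
  rfl

theorem mresA_comp {E₀ : C} {U V W : Over E₀} (a : W ⟶ V) (b : U ⟶ W) (m : SecO M V) :
    mresA M (b ≫ a) m = mresA M b (mresA M a m) :=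
  mres_comp M a.left b.left m

theorem shift_homotopy (n : ℕ) (y : SecO M (powOver E (n + 2))) :
    dShift M E n (mresA M (sigmaOver E (n + 1)) y) +
      mresA M (sigmaOver E (n + 2)) (dShift M E (n + 1) y) = y := by
  rw [dShift_apply, dShift_apply, map_sum, Fin.sum_univ_succ (n := n + 2)]
  simp only [map_zsmul, Fin.val_zero, pow_zero, one_smul, Fin.val_succ, pow_succ, mul_neg, mul_one, neg_smul,
    Finset.sum_neg_distrib]
  rw [← mresA_comp M (deltaOver E (n + 2) (Fin.succ 0)) (sigmaOver E (n + 2)), sigmaOver_delta_one]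
  have h : ∀ j : Fin (n + 2), mresA M (sigmaOver E (n + 2)) (mresA M (deltaOver E (n + 2) j.succ.succ) y) =
      mresA M (deltaOver E (n + 1) j.succ) (mresA M (sigmaOver E (n + 1)) y) := fun j => by
    rw [← mresA_comp, ← mresA_comp, sigmaOver_delta]
  rw [Finset.sum_congr rfl fun j _ => (map_neg (mresA M (sigmaOver E (n + 2))) _).trans
    (congrArg Neg.neg (((mresA M (sigmaOver E (n + 2))).toAddMonoidHom.map_zsmul _ _).trans
      (congrArg _ (h j)))), Finset.sum_neg_distrib]
  have : mresA M (𝟙 (powOver E (n + 2))) y = y := mres_id M _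
  rw [this]
  abel

variable (S : AffSite O)

theorem bijective_productMap (hY : S.Aff Y) (hP : ∀ n, S.Aff (E.P n)) (hT : S.Aff T) (n : ℕ) :
    Function.Bijective (Algebra.TensorProduct.productMap (rho O (fstOver E (n + 1))) (rho O (deltaOver E n 0))) := by
  obtain ⟨P, p, p', -, hbij, hlift⟩ := S.ov (Over.mk f) (powOver E n) hY hT (hP n)
  obtain ⟨q, hq, hq'⟩ := hlift (powOver E (n + 1)) (fstOver E (n + 1)) (deltaOver E n 0)
  have hw : ∀ i : Fin (n + 2), (Fin.cases p.left (fun i => p'.left ≫ E.π n i) i : P.left ⟶ T) ≫ f = P.hom := by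
    intro i
    cases i using Fin.cases with
    | zero => exact Over.w p
    | succ i =>
      simp only [Fin.cases_succ, Category.assoc]
      rw [E.w n i 0]
      exact Over.w p'
  let l : P ⟶ powOver E (n + 1) := Over.homMk
    (E.lift (n + 1) (Fin.cases p.left fun i => p'.left ≫ E.π n i) fun i j => (hw i).trans (hw j).symm) (by
      show _ ≫ E.π (n + 1) 0 ≫ f = P.hom
      rw [E.lift_π_assoc]
      exact hw 0)
  have hl : l ≫ fstOver E (n + 1) = p := Over.OverMorphism.ext (by simp [l, E.lift_π])
  have hl' : l ≫ deltaOver E n 0 = p' := Over.OverMorphism.ext (E.hom_ext n _ _ fun i => by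
    simp [l, E.lift_π, E.δ_π, Fin.zero_succAbove])
  have hql : q ≫ l = 𝟙 _ := Over.OverMorphism.ext (E.hom_ext (n + 1) _ _ fun i => by
    simp only [Over.comp_left, Over.id_left, Category.assoc, Category.id_comp]
    cases i using Fin.cases with
    | zero => rw [show l.left ≫ E.π (n + 1) 0 = p.left from congrArg CommaMorphism.left hl]
              exact congrArg CommaMorphism.left hq
    | succ i =>
      rw [show l.left ≫ E.π (n + 1) i.succ = p'.left ≫ E.π n i by simp [l, E.lift_π]]
      have := congrArg CommaMorphism.left hq'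
      simp only [Over.comp_left, Over.homMk_left] at this
      rw [reassoc_of% this, E.δ_π, Fin.zero_succAbove])
  have hrho : ∀ {U V W : Over Y} (a : W ⟶ V) (b : U ⟶ W) (c : Ov O V), rho O (b ≫ a) c = rho O b (rho O a c) :=
    fun a b c => res_comp O a.left b.left c
  have h1 : ∀ z, rho O l (Algebra.TensorProduct.productMap (rho O (fstOver E (n + 1))) (rho O (deltaOver E n 0)) z) =
      Algebra.TensorProduct.productMap (rho O p) (rho O p') z := by
    intro z
    induction z using TensorProduct.induction_on with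
    | zero => simp
    | add a b ha hb => simp only [map_add, ha, hb]
    | tmul b c =>
      rw [Algebra.TensorProduct.productMap_apply_tmul, Algebra.TensorProduct.productMap_apply_tmul, map_mul,
        ← hrho, ← hrho, hl, hl']
  have hlinj : Function.Injective (rho O l) := Function.LeftInverse.injective (g := rho O q) fun c => by
    rw [← hrho, hql]
    exact res_id O _
  refine ⟨fun a b hab => hbij.1 (by rw [← h1, ← h1, hab]), fun c => ?_⟩
  obtain ⟨z, hz⟩ := hbij.2 (rho O l c)
  exact ⟨z, hlinj (by rw [h1, hz])⟩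

/-- Čech acyclicity of a module whose sections are base changes, for a faithfully flat affine map. -/
theorem vanishes_of_good (hY : S.Aff Y) (hT : S.Aff T) (hP : ∀ n, S.Aff (E.P n))
    [Module.FaithfullyFlat (Ob O Y) (Ov O (Over.mk f))] (hgood : ∀ n, Good M S (E.P n)) :
    E.Vanishes M.val.presheaf := by
  intro n c hc
  have hd : ∀ (m : ℕ) (x : SecO M (powOver E m)), (dOver M E m x : Sec M (E.P (m + 1))) =
      E.d M.val.presheaf m (show Sec M (E.P m) from x) := by
    intro m x
    rw [dOver_apply, E.d_apply]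
    rfl
  let Φ : ∀ m, Ov O (Over.mk f) ⊗[Ob O Y] SecO M (powOver E m) →+ SecO M (powOver E (m + 1)) :=
    fun m => phi M (fstOver E (m + 1)) (deltaOver E m 0)
  have hΦbij : ∀ m, Function.Bijective (Φ m) := fun m =>
    bijective_phi M S _ _ (hgood m) (hP (m + 1)) (bijective_productMap E S hY hP hT m)
  have hΦ : ∀ m z, Φ (m + 1) ((dOver M E m).lTensor _ z) = dShift M E m (Φ m z) := by
    intro m z
    rw [dShift_apply]
    simp only [dOver, LinearMap.lTensor, map_sum]
    induction z using TensorProduct.induction_on with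
    | zero => simp
    | add a b ha hb => simp only [map_add, ha, hb, smul_add, Finset.sum_add_distrib]
    | tmul b x =>
      simp only [TensorProduct.map_tmul, LinearMap.sum_apply, LinearMap.smul_apply, TensorProduct.tmul_sum,
        TensorProduct.tmul_smul, map_sum, map_zsmul, LinearMap.id_apply]
      refine Finset.sum_congr rfl fun k _ => congrArg _ ?_
      exact phi_nat M _ _ _ _ (deltaOver E m k) (deltaOver E (m + 1) k.succ) (delta_fst E m k)
        (delta_delta E m k) (b ⊗ₜ x)
  have hc' : dOver M E (n + 1) c = 0 := (hd _ _).trans hc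
  let y := Φ (n + 1) ((1 : Ov O (Over.mk f)) ⊗ₜ[Ob O Y] (show SecO M (powOver E (n + 1)) from c))
  have hy : dShift M E (n + 1) y = 0 := by
    show dShift M E (n + 1) (Φ (n + 1) _) = 0
    rw [← hΦ, LinearMap.lTensor_tmul, hc', TensorProduct.tmul_zero, map_zero]
  obtain ⟨z, hz⟩ := (hΦbij n).2 (mresA M (sigmaOver E (n + 1)) y)
  have h1 : (dOver M E n).lTensor _ z = (1 : Ov O (Over.mk f)) ⊗ₜ[Ob O Y] (show SecO M (powOver E (n + 1)) from c) := by
    refine (hΦbij (n + 1)).1 ?_
    rw [hΦ, hz]
    have := shift_homotopy M E n y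
    rw [hy, map_zero, add_zero] at this
    exact this
  have h2 : (1 : Ov O (Over.mk f)) ⊗ₜ[Ob O Y]
      (LinearMap.range (dOver M E n)).mkQ (show SecO M (powOver E (n + 1)) from c) = 0 := by
    rw [← LinearMap.lTensor_tmul, ← h1, ← LinearMap.comp_apply, ← LinearMap.lTensor_comp]
    simp [LinearMap.range_mkQ_comp]
  have h3 : (LinearMap.range (dOver M E n)).mkQ (show SecO M (powOver E (n + 1)) from c) = 0 :=
    Module.FaithfullyFlat.tensorProduct_mk_injective (A := Ob O Y) (B := Ov O (Over.mk f))
      (SecO M (powOver E (n + 1)) ⧸ LinearMap.range (dOver M E n)) (by simpa using h2)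
  obtain ⟨b, hb⟩ := (Submodule.Quotient.mk_eq_zero _).1 h3
  exact ⟨b, (hd n b).symm.trans hb⟩

end GrothLib.AlgSp.QCohEt
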