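import Groth.Agent.Lib.AlgSp.QCohExtStep
import Groth.Agent.Lib.AlgSp.QCohExt

/-!
# Images and sums of quasi-coherent submodules of finite type

* `exists_image`: the image of a map of quasi-coherent modules of finite type;
* `exists_sup`: two submodules of finite type lie in a third one.
-/

universe u

open CategoryTheory CategoryTheory.Limits AlgebraicGeometry Opposite
set_option backward.isDefEq.respectTransparency false

noncomputable section

namespace GrothLib.AlgSp.QCohEt

open _root_.AlgSp
open GrothLib GrothLib.AlgSp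

variable {S : Scheme.{u}} {X : Sp S}

theorem good_biprod (A B : ModEt X) [A.IsQuasicoherent] [B.IsQuasicoherent] {E : EtOver X}
    (hE : IsAffine E.obj.left.left) : Good (O := OEt X) (A ⊞ B) (affEt X) E := by
  let T : ShortComplex (ModEt X) := ShortComplex.mk (biprod.inl : A ⟶ A ⊞ B) biprod.snd biprod.inl_snd
  haveI : Mono T.f := inferInstanceAs (Mono (biprod.inl : A ⟶ A ⊞ B))
  haveI : Epi T.g := inferInstanceAs (Epi (biprod.snd : A ⊞ B ⟶ B))
  have hT : T.Exact := (ShortComplex.Splitting.mk (S := T) biprod.fst biprod.inr biprod.inl_fst biprod.inr_snd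
    biprod.total).exact
  exact good_middle (O := OEt X) (affEt X) hT hE (fun Z _ hZ => good_of_isQuasicoherent A hZ) (good_of_isQuasicoherent B hE)

theorem finite_biprod (A B : ModEt X) {E : EtOver X}
    [Module.Finite (Ob (OEt X) E) (Sec (O := OEt X) A E)] [Module.Finite (Ob (OEt X) E) (Sec (O := OEt X) B E)] :
    Module.Finite (Ob (OEt X) E) (Sec (O := OEt X) (A ⊞ B) E) := by
  refine Module.Finite.of_surjective ((app (O := OEt X) (biprod.inl : A ⟶ A ⊞ B) E).coprod
    (app (O := OEt X) (biprod.inr : B ⟶ A ⊞ B) E)) fun x => ?_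
  refine ⟨(app (O := OEt X) (biprod.fst : A ⊞ B ⟶ A) E x, app (O := OEt X) (biprod.snd : A ⊞ B ⟶ B) E x), ?_⟩
  rw [LinearMap.coprod_apply, ← app_comp, ← app_comp]
  have : app (O := OEt X) (biprod.fst ≫ biprod.inl + biprod.snd ≫ biprod.inr : A ⊞ B ⟶ A ⊞ B) E x = x := by
    rw [biprod.total]
    rfl
  exact this

/-- The image of a map of quasi-coherent modules. -/
theorem exists_image {A M : ModEt X} [A.IsQuasicoherent] [M.IsQuasicoherent] (φ : A ⟶ M) :
    ∃ (K : ModEt X) (i : K ⟶ M) (p : A ⟶ K), Mono i ∧ p ≫ i = φ ∧ K.IsQuasicoherent ∧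
      ∀ E : EtOver X, IsAffine E.obj.left.left → Function.Surjective (app (O := OEt X) p E) := by
  let T : ShortComplex (ModEt X) := ShortComplex.mk φ (cokernel.π φ) (cokernel.condition φ)
  haveI : Epi T.g := inferInstanceAs (Epi (cokernel.π φ))
  have hTe : T.Exact := ShortComplex.exact_of_g_is_cokernel T (cokernelIsCokernel _)
  haveI : Epi (kernel.lift T.g T.f T.zero) := T.exact_iff_epi_kernel_lift.1 hTe
  let T' : ShortComplex (ModEt X) :=
    ShortComplex.mk (kernel.ι (cokernel.π φ)) (cokernel.π φ) (kernel.condition _)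
  haveI : Mono T'.f := inferInstanceAs (Mono (kernel.ι (cokernel.π φ)))
  have hK : ∀ E : EtOver X, IsAffine E.obj.left.left → Good (O := OEt X) (kernel (cokernel.π φ)) (affEt X) E :=
    fun E hE => good_left (O := OEt X) (affEt X) (T := T') (ShortComplex.exact_of_f_is_kernel T' (kernelIsKernel _)) hE
      (good_of_isQuasicoherent M hE)
      (good_right (O := OEt X) (affEt X) (T := T) hTe hE (good_of_isQuasicoherent A hE) (good_of_isQuasicoherent M hE))
  exact ⟨kernel (cokernel.π φ), kernel.ι _, kernel.lift T.g T.f T.zero, inferInstance, kernel.lift_ι _ _ _,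
    isQuasicoherent_of_good _ hK, fun E hE => surjective_app_of_epi (O := OEt X) (affEt X) (kernel.lift T.g T.f T.zero) hE
      (good_of_isQuasicoherent A hE) (hK E hE)⟩

/-- Two submodules of finite type lie in a third one. -/
theorem exists_sup {A B M : ModEt X} [A.IsQuasicoherent] [B.IsQuasicoherent] [M.IsQuasicoherent]
    [A.IsFiniteType] [B.IsFiniteType] (a : A ⟶ M) (b : B ⟶ M) :
    ∃ (K : ModEt X) (i : K ⟶ M) (ka : A ⟶ K) (kb : B ⟶ K), Mono i ∧ K.IsQuasicoherent ∧ K.IsFiniteType ∧
      ka ≫ i = a ∧ kb ≫ i = b := by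
  haveI : (A ⊞ B : ModEt X).IsQuasicoherent := isQuasicoherent_of_good _ fun E hE => good_biprod A B hE
  obtain ⟨K, i, p, hi, hp, hK, hs⟩ := exists_image (biprod.desc a b)
  refine ⟨K, i, biprod.inl ≫ p, biprod.inr ≫ p, hi, hK, isFiniteType_of_good K (fun E hE => good_of_isQuasicoherent K hE)
    (fun E hE => ?_), by rw [Category.assoc, hp, biprod.inl_desc], by rw [Category.assoc, hp, biprod.inr_desc]⟩
  haveI := finite_sec_of_isFiniteType A hE
  haveI := finite_sec_of_isFiniteType B hE
  haveI := finite_biprod A B (E := E)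
  exact Module.Finite.of_surjective _ (hs E hE)

/-- Nothing is asked over the empty open. -/
theorem finOn_empty (M : ModEt X) : FinOn M (∅ : Set (Points X)) := fun E _ hEO => by
  haveI : IsEmpty ↥E.obj.left.left := ⟨fun x => hEO ⟨x, rfl⟩⟩
  haveI : Subsingleton (Sec (O := OEt X) M E) := ⟨fun x y =>
    sec_ext_fam (O := OEt X) M (n := PEmpty.{u + 1}) (W := fun k => k.elim) (fun k => k.elim)
      (ofArrows_mem_etTop _ _ fun z => isEmptyElim z) fun k => k.elim⟩
  infer_instance

theorem isQuasicoherent_of_iso {K K' : ModEt X} (e : K ≅ K') [hK : K.IsQuasicoherent] : K'.IsQuasicoherent := by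
  have : Mono e.inv := inferInstance
  haveI : (SheafOfModules.isQuasicoherent (OEtRing X)).IsClosedUnderIsomorphisms := inferInstance
  exact (SheafOfModules.isQuasicoherent (OEtRing X)).prop_of_iso e hK

theorem isFiniteType_of_iso {K K' : ModEt X} (e : K ≅ K') [K.IsQuasicoherent] [K.IsFiniteType] : K'.IsFiniteType := by
  haveI := isQuasicoherent_of_iso e
  refine isFiniteType_of_good K' (fun E hE => good_of_isQuasicoherent K' hE) fun E hE => ?_
  haveI := finite_sec_of_isFiniteType K hE
  refine Module.Finite.of_surjective (app (O := OEt X) e.hom E) fun x => ⟨app (O := OEt X) e.inv E x, ?_⟩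
  rw [← app_comp, e.inv_hom_id]
  rfl

end GrothLib.AlgSp.QCohEt
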