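import Mathlib.Algebra.Category.ModuleCat.Sheaf.Quasicoherent
import Mathlib.Algebra.Category.ModuleCat.Presheaf.Free
import Mathlib.CategoryTheory.Sites.EpiMono
import Mathlib.CategoryTheory.ConcreteCategory.EpiMono
import Mathlib.Algebra.Category.Grp.Abelian
import Mathlib.CategoryTheory.Sites.Abelian
import Groth.Agent.Lib.QCoh.ToSheaf
import Mathlib.Algebra.Category.Grp.EpiMono

/-!
# Generating sections generate locally

* `exists_span`: a section of a sheaf of modules is locally in the span of generating sections.
-/

universe u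

open CategoryTheory CategoryTheory.Limits Opposite
set_option backward.isDefEq.respectTransparency false

namespace GrothLib.AlgSp.QCohEt

variable {C : Type (u + 1)} [Category.{u} C] {J : GrothendieckTopology C} {R : Sheaf J RingCat.{u + 1}}
  [HasSheafify J AddCommGrpCat.{u + 1}] [J.WEqualsLocallyBijective AddCommGrpCat.{u + 1}]

/-- Locally every section is in the span of generating sections. -/
theorem exists_span {N : SheafOfModules.{u + 1} R} (G : N.GeneratingSections) {V : C} (x : N.val.obj (op V)) :
    ∃ T ∈ J V, ∀ ⦃W : C⦄ (h : W ⟶ V), T.arrows h →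
      N.val.map h.op x ∈ Submodule.span (R.obj.obj (op W))
        (Set.range fun i => (show ↥(N.val.obj (op W)) from (G.s i).val (op W))) := by
  let P₀ : PresheafOfModules.{u + 1} R.obj := PresheafOfModules.freeObj ((Functor.const Cᵒᵖ).obj G.I)
  let f : P₀ ⟶ N.val := PresheafOfModules.freeObjDesc
    { app := fun V => ↾fun i => (G.s i).val V
      naturality := fun V W g => by
        ext i
        exact ((G.s i).property g).symm }
  let sh := (PresheafOfModules.sheafification (𝟙 R.obj)).obj P₀
  let η : P₀ ⟶ sh.val := PresheafOfModules.sheafificationHomEquiv (𝟙 R.obj) (𝟙 sh)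
  let fh : sh ⟶ N := (PresheafOfModules.sheafificationHomEquiv (𝟙 R.obj)).symm f
  have hη : (PresheafOfModules.toPresheaf _).map η ≫ ((SheafOfModules.toSheaf R).map fh).hom =
      (PresheafOfModules.toPresheaf _).map f := by
    have h := PresheafOfModules.toPresheaf_map_sheafificationHomEquiv_def (𝟙 R.obj) fh
    rw [Equiv.apply_symm_apply] at h
    exact h.symm
  have happ : ∀ (V : Cᵒᵖ) (z : P₀.obj V), fh.val.app V (η.app V z) = f.app V z := fun V z =>
    ConcreteCategory.congr_hom (NatTrans.congr_app hη V) z
  let φ : SheafOfModules.free G.I ⟶ sh := sh.freeHomEquiv.symm fun i =>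
    PresheafOfModules.sectionsMk (fun V => η.app V (ModuleCat.freeMk i)) fun V W g => by
      rw [← PresheafOfModules.naturality_apply]
      exact congrArg (η.app W) (ModuleCat.freeDesc_apply _ i)
  have hφ : φ ≫ fh = G.π := by
    apply N.freeHomEquiv.injective
    funext i
    rw [SheafOfModules.freeHomEquiv_comp_apply, Equiv.apply_symm_apply]
    refine Eq.trans ?_ (congrFun (N.freeHomEquiv.apply_symm_apply G.s) i).symm
    refine PresheafOfModules.sections_ext _ _ fun V => ?_
    show fh.val.app V (η.app V (ModuleCat.freeMk i)) = _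
    rw [happ]
    exact ModuleCat.freeDesc_apply _ i
  haveI : Epi fh := epi_of_epi_fac hφ
  haveI : Sheaf.IsLocallySurjective ((SheafOfModules.toSheaf R).map fh) :=
    (Sheaf.isLocallySurjective_iff_epi' (A := AddCommGrpCat.{u + 1}) _).2 (GrothLib.QCoh.toSheaf_map_epi fh)
  haveI : Presheaf.IsLocallySurjective J ((PresheafOfModules.toPresheaf R.obj).map η) := by
    show Presheaf.IsLocallySurjective J (toSheafify J P₀.presheaf)
    infer_instance
  haveI : Presheaf.IsLocallySurjective J ((PresheafOfModules.toPresheaf R.obj).map f) := by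
    rw [← hη]
    infer_instance
  refine ⟨_, Presheaf.imageSieve_mem J ((PresheafOfModules.toPresheaf R.obj).map f) x, ?_⟩
  rintro W h ⟨z, hz⟩
  have hz' : (f.app (op W)).hom z = N.val.map h.op x := hz
  rw [← hz']
  refine (LinearMap.range_le_iff_comap.2 ?_) (LinearMap.mem_range_self (f.app (op W)).hom z)
  rw [eq_top_iff]
  rintro y -
  induction y using Finsupp.induction_linear with
  | zero => exact zero_mem _
  | add a b ha hb => exact add_mem ha hb
  | single i r =>
    rw [Submodule.mem_comap, ← Finsupp.smul_single_one, map_smul]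
    refine Submodule.smul_mem _ _ (Submodule.subset_span ⟨i, ?_⟩)
    exact (ModuleCat.freeDesc_apply (M := N.val.obj (op W)) (↾fun j => (G.s j).val (op W)) i).symm

end GrothLib.AlgSp.QCohEt
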