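import Groth.Agent.Lib.AlgSp.QCohNoethUnion
import Groth.Agent.Lib.AlgSp.QCohPushFin
import Groth.Agent.Lib.AlgSp.EtColimSections
import Groth.Agent.Lib.AlgSp.EtModGroth
import Groth.Agent.Lib.SheafCoh.ModColim
import Mathlib.CategoryTheory.Limits.Types.Filtered

/-!
# Maps out of finitely presented modules and directed colimits on a space

* `exists_hom_of_gens`, `hom_ext_gens`, `nonempty_isColimit_hom`.
-/

set_option autoImplicit false
set_option backward.isDefEq.respectTransparency false
universe u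

open CategoryTheory CategoryTheory.Limits AlgebraicGeometry Opposite TensorProduct

noncomputable section

namespace GrothLib.AlgSp.HomColim

open GrothLib.AlgSp.QCohEt

section Generic

variable {C : Type (u + 1)} [Category.{u} C] {J : GrothendieckTopology C} {O : Sheaf J CommRingCat.{u + 1}}
  {G F : SheafOfModules.{u + 1} (RR O)} {E : C} {r : ℕ}

/-- Combinations of restrictions of finitely many sections. -/
def comb {M : SheafOfModules.{u + 1} (RR O)} (s : Fin r → Sec M E) {W : C} (t : W ⟶ E) :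
    (Fin r → Ob O W) →ₗ[Ob O W] Sec M W :=
  Fintype.linearCombination (Ob O W) fun q => mres M t (s q)

theorem comb_apply {M : SheafOfModules.{u + 1} (RR O)} (s : Fin r → Sec M E) {W : C} (t : W ⟶ E)
    (c : Fin r → Ob O W) : comb s t c = ∑ q, c q • mres M t (s q) :=
  Fintype.linearCombination_apply ..

theorem mres_comb {M : SheafOfModules.{u + 1} (RR O)} (s : Fin r → Sec M E) {W Z : C} (t : W ⟶ E) (g : Z ⟶ W)
    (c : Fin r → Ob O W) : mres M g (comb s t c) = comb s (g ≫ t) (fun q => res O g (c q)) := by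
  rw [comb_apply, comb_apply, map_sum]
  exact Finset.sum_congr rfl fun q _ => by rw [mres_smul, mres_comp]

theorem app_comb (φ : G ⟶ F) (s : Fin r → Sec G E) {W : C} (t : W ⟶ E) (c : Fin r → Ob O W) :
    app φ W (comb s t c) = comb (fun q => app φ E (s q)) t c := by
  rw [comb_apply, comb_apply, map_sum]
  exact Finset.sum_congr rfl fun q _ => by rw [map_smul, app_mres]

theorem comb_single {M : SheafOfModules.{u + 1} (RR O)} (s : Fin r → Sec M E) {W : C} (t : W ⟶ E) (q : Fin r) :
    comb s t (Pi.single q 1) = mres M t (s q) :=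
  (Fintype.linearCombination_apply_single ..).trans (one_smul _ _)

variable (P : C → Prop) (s : Fin r → Sec G E)
  (hcov : ∀ V : C, ∃ T ∈ J V, ∀ ⦃Z : C⦄ (z : Z ⟶ V), T.arrows z →
    ∃ (W : C) (a : Z ⟶ W) (b : W ⟶ V), P W ∧ Nonempty (W ⟶ E) ∧ a ≫ b = z)
  (hspan : ∀ W, P W → ∀ (t : W ⟶ E) (x : Sec G W), ∃ c, comb s t c = x)

include hcov in
omit s in
theorem sec_ext_local {M : SheafOfModules.{u + 1} (RR O)} {V : C} {x x' : Sec M V}
    (h : ∀ (W : C) (b : W ⟶ V), P W → (W ⟶ E) → mres M b x = mres M b x') : x = x' := by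
  obtain ⟨T, hT, hT'⟩ := hcov V
  refine sec_ext M hT fun Z z hz => ?_
  obtain ⟨W, a, b, hW, ⟨t⟩, rfl⟩ := hT' z hz
  rw [mres_comp, mres_comp, h W b hW t]

include hcov hspan in
/-- Maps are determined by the generators. -/
theorem hom_ext_gens (φ φ' : G ⟶ F) (h : ∀ q, app φ E (s q) = app φ' E (s q)) : φ = φ' := by
  ext1
  refine PresheafOfModules.hom_ext fun V => ?_
  ext x
  show app φ V.unop x = app φ' V.unop x
  refine sec_ext_local P hcov fun W b hW t => ?_
  obtain ⟨c, hc⟩ := hspan W hW t (mres G b x)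
  rw [← app_mres, ← app_mres, ← hc, app_comb, app_comb]
  exact congrArg (fun y => comb y t c) (funext h)

include hcov hspan in
/-- Values on generators satisfying the relations extend to maps. -/
theorem exists_hom_of_gens (hE : P E) (y : Fin r → Sec F E)
    (hrel : ∀ W, P W → ∀ (t t' : W ⟶ E) (c c' : Fin r → Ob O W),
      comb s t c = comb s t' c' → comb y t c = comb y t' c') :
    ∃ φ : G ⟶ F, ∀ q, app φ E (s q) = y q := by
  classical
  let IsVal : ∀ V : C, Sec G V → Sec F V → Prop := fun V x z =>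
    ∀ ⦃W : C⦄ (g : W ⟶ V), P W → ∀ (t : W ⟶ E) (c : Fin r → Ob O W), comb s t c = mres G g x →
      comb y t c = mres F g z
  have key : ∀ V x, ∃! z, IsVal V x z := by
    intro V x
    obtain ⟨T, hT, hT'⟩ := hcov V
    choose W a b hW ht hab using fun (Z : C) (z : Z ⟶ V) (hz : T.arrows z) => hT' z hz
    choose c hc using fun (Z : C) (z : Z ⟶ V) (hz : T.arrows z) =>
      hspan _ (hW Z z hz) (ht Z z hz).some (mres G (b Z z hz) x)
    let fam : Presieve.FamilyOfElements (F.val.presheaf ⋙ CategoryTheory.forget AddCommGrpCat.{u + 1}) T.arrows :=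
      fun Z z hz => mres F (a Z z hz) (comb y (ht Z z hz).some (c Z z hz))
    have hval : ∀ {Z W₀ : C} (z : Z ⟶ V) (hz : T.arrows z) (g : W₀ ⟶ Z), P W₀ → ∀ (t : W₀ ⟶ E) (d : Fin r → Ob O W₀),
        comb s t d = mres G (g ≫ z) x → comb y t d = mres F g (fam z hz) := by
      intro Z W₀ z hz g hW₀ t d hd
      show _ = mres F g (mres F (a Z z hz) (comb y (ht Z z hz).some (c Z z hz)))
      rw [← mres_comp, mres_comb]
      refine hrel W₀ hW₀ _ _ _ _ ?_
      rw [← mres_comb, hc, hd, ← mres_comp, Category.assoc, hab]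
    have hfam : fam.Compatible := fun Z₁ Z₂ Z g₁ g₂ f₁ f₂ h₁ h₂ e => by
      show mres F g₁ (fam f₁ h₁) = mres F g₂ (fam f₂ h₂)
      refine sec_ext_local P hcov fun W₀ b₀ hW₀ t => ?_
      obtain ⟨d, hd⟩ := hspan W₀ hW₀ t (mres G ((b₀ ≫ g₁) ≫ f₁) x)
      have h1 := hval f₁ h₁ (b₀ ≫ g₁) hW₀ t d hd
      have h2 := hval f₂ h₂ (b₀ ≫ g₂) hW₀ t d (by rw [hd, Category.assoc, Category.assoc, e])
      exact (mres_comp F g₁ b₀ _).symm.trans (h1.symm.trans (h2.trans (mres_comp F g₂ b₀ _)))
    have hsh : Presieve.IsSheaf J (F.val.presheaf ⋙ CategoryTheory.forget AddCommGrpCat.{u + 1}) :=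
      (isSheaf_iff_isSheaf_of_type _ _).1
        ((Presheaf.isSheaf_iff_isSheaf_forget J F.val.presheaf (CategoryTheory.forget AddCommGrpCat.{u + 1})).1
          F.isSheaf)
    obtain ⟨z, hz, -⟩ := hsh _ hT fam hfam
    refine ⟨z, fun W' g hW' t d hd => ?_, fun z' hz' => sec_ext F hT fun Z f hf => ?_⟩
    · refine sec_ext F (J.pullback_stable g hT) fun Z k hk => ?_
      refine sec_ext_local P hcov fun W₀ b₀ hW₀ _ => ?_
      have e : mres F (k ≫ g) z = fam (k ≫ g) hk := hz _ hk
      rw [← mres_comp F g k, e, ← mres_comp, mres_comb]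
      refine hval (k ≫ g) hk b₀ hW₀ _ _ ?_
      rw [← mres_comb, hd, ← mres_comp, Category.assoc]
    · have e : mres F f z = fam f hf := hz _ hf
      rw [e]
      refine sec_ext_local P hcov fun W₀ b₀ hW₀ t => ?_
      obtain ⟨d, hd⟩ := hspan W₀ hW₀ t (mres G (b₀ ≫ f) x)
      rw [← mres_comp, ← hz' (b₀ ≫ f) hW₀ t d hd]
      exact hval f hf b₀ hW₀ t d hd
  choose val hval huniq using key
  have hu : ∀ V x z, IsVal V x z → z = val V x := huniq
  have hadd : ∀ V x x', val V (x + x') = val V x + val V x' := fun V x x' => by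
    refine (hu V _ _ fun W g hW t d hd => ?_).symm
    obtain ⟨d₁, h₁⟩ := hspan W hW t (mres G g x)
    obtain ⟨d₂, h₂⟩ := hspan W hW t (mres G g x')
    rw [map_add, ← hval V x g hW t d₁ h₁, ← hval V x' g hW t d₂ h₂, ← map_add (comb y t)]
    refine hrel W hW t t d (d₁ + d₂) ?_
    rw [hd, map_add (comb s t), h₁, h₂, map_add]
  have hsmul : ∀ V (a : Ob O V) x, val V (a • x) = a • val V x := fun V a x => by
    refine (hu V _ _ fun W g hW t d hd => ?_).symm
    obtain ⟨d₁, h₁⟩ := hspan W hW t (mres G g x)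
    rw [mres_smul, ← hval V x g hW t d₁ h₁, ← map_smul (comb y t)]
    refine hrel W hW t t d (res O g a • d₁) ?_
    rw [hd, map_smul (comb s t), h₁, mres_smul]
  have hnat : ∀ (V W : C) (g : W ⟶ V) x, mres F g (val V x) = val W (mres G g x) := fun V W g x => by
    refine hu W _ _ fun Z k hZ t d hd => ?_
    rw [← mres_comp]
    exact hval V x (k ≫ g) hZ t d (by rw [hd, ← mres_comp])
  refine ⟨⟨PresheafOfModules.homMk
    { app := fun V => AddCommGrpCat.ofHom (AddMonoidHom.mk' (fun x => val V.unop x) (hadd V.unop))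
      naturality := fun V W g => by
        ext x
        exact (hnat V.unop W.unop g.unop x).symm }
    fun V a x => hsmul V.unop a x⟩, fun q => ?_⟩
  show val E (s q) = y q
  refine (mres_id F (val E (s q))).symm.trans (Eq.trans ?_ (mres_id F (y q)))
  rw [← comb_single y (𝟙 E) q]
  exact (hval E (s q) (𝟙 E) hE (𝟙 E) (Pi.single q 1) (comb_single s (𝟙 E) q)).symm

/-- Combinations through the comparison map. -/
theorem comb_eq_theta {M : SheafOfModules.{u + 1} (RR O)} {N : Type (u + 1)} [AddCommGroup N] [Module (Ob O E) N]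
    (κ : N →ₗ[Ob O E] Sec M E) (v : Fin r → N) {W : C} (t : W ⟶ E) (c : Fin r → Ob O W) :
    comb (fun q => κ (v q)) t c = theta κ (Over.mk t) (∑ q, (show Ov O (Over.mk t) from c q) ⊗ₜ[Ob O E] v q) := by
  rw [comb_apply, map_sum]
  exact Finset.sum_congr rfl fun q _ => rfl

theorem exists_comb_eq (S : AffSite O) (hG : Good G S E) (hs : Submodule.span (Ob O E) (Set.range s) = ⊤)
    {W : C} (hW : S.Aff W) (t : W ⟶ E) (x : Sec G W) : ∃ c, comb s t c = x := by
  obtain ⟨z, rfl⟩ := (hG (Over.mk t) hW).2 x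
  show theta (LinearMap.id : Sec G E →ₗ[Ob O E] Sec G E) (Over.mk t) z ∈ LinearMap.range (comb s t)
  induction z using TensorProduct.induction_on with
  | zero => rw [map_zero]; exact zero_mem _
  | add a b ha hb => rw [map_add]; exact add_mem ha hb
  | tmul b m =>
    rw [theta_tmul, LinearMap.id_apply]
    refine Submodule.smul_mem _ _ ?_
    have hm : m ∈ Submodule.span (Ob O E) (Set.range s) := hs ▸ Submodule.mem_top
    induction hm using Submodule.span_induction with
    | mem v hv =>
      obtain ⟨q, rfl⟩ := hv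
      exact ⟨Pi.single q 1, comb_single s t q⟩
    | zero => rw [map_zero]; exact zero_mem _
    | add a b _ _ ha hb => rw [map_add]; exact add_mem ha hb
    | smul c a _ ha =>
      rw [mres_smul]
      exact Submodule.smul_mem _ _ ha

end Generic

open _root_.AlgSp

variable {S : Scheme.{u}} {X : Sp S}

theorem preservesColimitsOfShape_toSheaf (K : Type (u + 1)) [SmallCategory K] :
    PreservesColimitsOfShape K (SheafOfModules.toSheaf.{u + 1} (OEtRing X)) :=
  ⟨fun {F} =>
    haveI : PreservesColimitsOfShape K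
        (PresheafOfModules.sheafification (𝟙 (OEtRing X).obj) ⋙ SheafOfModules.toSheaf.{u + 1} (OEtRing X)) :=
      inferInstanceAs (PreservesColimitsOfShape K
        (PresheafOfModules.toPresheaf (OEtRing X).obj ⋙ presheafToSheaf (etTop X) AddCommGrpCat.{u + 1}))
    SheafCoh.preservesColimit_of_reflector (PresheafOfModules.sheafificationAdjunction (𝟙 (OEtRing X).obj)) _ F⟩

/-- A morphism with image in an open factors through it. -/
theorem exists_opensObj_lift {T : EtOver X} (B : EtOver X) (O : B.obj.left.left.Opens) (f : T ⟶ B)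
    (h : Set.range f.hom.left.left ⊆ O) : ∃ n : T ⟶ opensObj B O, n ≫ opensInc B O = f := by
  obtain ⟨q, hq⟩ := GrothLib.AlgSp.exists_lift_opens f.hom.left O h
  exact ⟨EtOver.homMk q ((Category.assoc _ _ _).symm.trans ((congrArg (· ≫ B.obj.hom)
    (((yon S).map_comp q _).symm.trans (congrArg (yon S).map hq))).trans (EtOver.w f))), EtOver.hom_ext _ _ hq⟩

variable {I : Type (u + 1)} [Preorder I] [IsDirectedOrder I] [Nonempty I] {D : I ⥤ ModEt X} {c : Cocone D}
  (hc : IsColimit c)

include hc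

theorem exists_sec_stage {W : EtOver X} (hW : IsAffine W.obj.left.left) :
    (∀ z : Sec (O := OEt X) c.pt W, ∃ (i : I) (x : Sec (O := OEt X) (D.obj i) W),
      app (O := OEt X) (c.ι.app i) W x = z) ∧
    ∀ (i : I) (x : Sec (O := OEt X) (D.obj i) W), app (O := OEt X) (c.ι.app i) W x = 0 →
      ∃ (j : I) (h : i ≤ j), app (O := OEt X) (D.map (homOfLE h)) W x = 0 := by
  haveI := hW
  haveI : IsFiltered I := inferInstance
  haveI := preservesColimitsOfShape_toSheaf (X := X) I
  obtain ⟨hg, hk⟩ := GrothLib.AlgSp.EtColim.sections_colimit_et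
    (isColimitOfPreserves (SheafOfModules.toSheaf.{u + 1} (OEtRing X)) hc) W
  exact ⟨hg, fun i x hx => by
    obtain ⟨j, f, hf⟩ := hk i x hx
    exact ⟨j, leOfHom f, hf⟩⟩

/-- Finitely many sections killed in the colimit are killed at one stage. -/
theorem exists_kill {α : Type*} [Finite α] (W : α → EtOver X) (hW : ∀ l, IsAffine (W l).obj.left.left) {i : I}
    (x : ∀ l, Sec (O := OEt X) (D.obj i) (W l)) (hx : ∀ l, app (O := OEt X) (c.ι.app i) (W l) (x l) = 0) :
    ∃ (j : I) (h : i ≤ j), ∀ l, app (O := OEt X) (D.map (homOfLE h)) (W l) (x l) = 0 := by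
  choose j hj hj0 using fun l => (exists_sec_stage hc (hW l)).2 i (x l) (hx l)
  obtain ⟨k, hk⟩ := Finite.exists_le (fun o : Option α => o.elim i j)
  refine ⟨k, hk none, fun l => ?_⟩
  rw [show homOfLE (hk none) = homOfLE (hj l) ≫ homOfLE (hk (some l)) from Subsingleton.elim _ _, Functor.map_comp,
    app_comp, hj0, map_zero]

omit hc [IsDirectedOrder I] [Nonempty I] in
theorem app_ι_map {i j : I} (h : i ≤ j) (W : EtOver X) (x : Sec (O := OEt X) (D.obj i) W) :
    app (O := OEt X) (c.ι.app j) W (app (O := OEt X) (D.map (homOfLE h)) W x) = app (O := OEt X) (c.ι.app i) W x :=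
  congrArg (fun φ => app (O := OEt X) φ W x) (c.w (homOfLE h))

omit hc [IsDirectedOrder I] [Nonempty I] in
theorem app_map_map {i j k : I} (h : i ≤ j) (h' : j ≤ k) (W : EtOver X) (x : Sec (O := OEt X) (D.obj i) W) :
    app (O := OEt X) (D.map (homOfLE h')) W (app (O := OEt X) (D.map (homOfLE h)) W x) =
      app (O := OEt X) (D.map (homOfLE (h.trans h'))) W x := by
  rw [← app_comp, ← Functor.map_comp, homOfLE_comp]

variable [QuasiSeparatedSpace ↥S] (hqc : IsQuasiCompactSp X) (hqs : IsQuasiSeparatedSp X) (G : ModEt X)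
  [G.IsFinitePresentation]

include hqc hqs

/-- Hom out of a finitely presented module commutes with the colimit. -/
theorem nonempty_isColimit_hom : Nonempty (IsColimit ((coyoneda.obj (op G)).mapCocone c)) := by
  classical
  obtain ⟨U, a, hU, ha, hsur⟩ := GrothLib.AlgSp.exists_affine_atlas_of_qc hqc
  haveI := hU
  let he := GrothLib.AlgSp.QCohEt.isEtaleMor_of_repWith a ha
  let E : EtOver X := (EtOver.postcomp a he).obj (topU U)
  have hE : IsAffine E.obj.left.left := hU
  let Aff : EtOver X → Prop := fun W => IsAffine W.obj.left.left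
  have hG : ∀ W : EtOver X, Aff W → Good (O := OEt X) G (affEt X) W := fun W hW => good_of_isQuasicoherent G hW
  haveI := fp_sec_of_isFinitePresentation G (E := E) hE
  let A := Ob (OEt X) E
  let N := Sec (O := OEt X) G E
  obtain ⟨r, s, hs⟩ := Module.Finite.exists_fin (R := A) (M := N)
  have hcov : ∀ V : EtOver X, ∃ T ∈ etTop X V, ∀ ⦃Z : EtOver X⦄ (z : Z ⟶ V), T.arrows z →
      ∃ (W : EtOver X) (p : Z ⟶ W) (b : W ⟶ V), Aff W ∧ Nonempty (W ⟶ E) ∧ p ≫ b = z := by
    intro V
    let B := EtOver.bcObj ha.1 V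
    haveI hπ : Surjective (EtOver.bcπ ha.1 V).left := hsur.2 _ _ _ (EtOver.isPullback_bcObj ha.1 V)
    choose O hO hxO _ using fun b : ↥B.obj.left.left => exists_isAffineOpen_mem_and_subset (x := b)
      (U := (⊤ : B.obj.left.left.Opens)) trivial
    let z : ∀ b, (EtOver.postcomp a he).obj (opensObj B (O b)) ⟶ V := fun b =>
      (EtOver.postcomp a he).map (opensInc B (O b)) ≫ (postAdj ha.1 he).counit.app V
    refine ⟨Sieve.ofArrows (fun b => (EtOver.postcomp a he).obj (opensObj B (O b))) z,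
      ofArrows_mem_etTop _ _ fun x => ?_, fun Z g hg => ?_⟩
    · obtain ⟨b, hb⟩ := hπ.surj x
      exact ⟨b, ⟨b, hxO b⟩, hb⟩
    · obtain ⟨_, p, _, ⟨b⟩, rfl⟩ := hg
      exact ⟨_, p, z b, hO b, ⟨(EtOver.postcomp a he).map ((htopU U).from _)⟩, rfl⟩
  have hspan : ∀ W, Aff W → ∀ (t : W ⟶ E) (x : Sec (O := OEt X) G W), ∃ d, comb (O := OEt X) s t d = x :=
    fun W hW t x => exists_comb_eq (O := OEt X) s (affEt X) (hG E hE) hs hW t x
  refine ⟨Types.FilteredColimit.isColimitOf' _ _ (fun ψ => ?_) fun i φ φ' h => ?_⟩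
  swap
  · change (φ : G ⟶ D.obj i) ≫ c.ι.app i = φ' ≫ c.ι.app i at h
    obtain ⟨j, hj, hj0⟩ := exists_kill hc (fun _ : Fin r => E) (fun _ => hE) (i := i)
      (fun q => app (O := OEt X) φ E (s q) - app (O := OEt X) φ' E (s q)) (fun q => by
        rw [map_sub, ← app_comp, ← app_comp, h, sub_self])
    refine ⟨j, homOfLE hj, ?_⟩
    show (φ : G ⟶ D.obj i) ≫ D.map (homOfLE hj) = φ' ≫ D.map (homOfLE hj)
    refine hom_ext_gens (O := OEt X) Aff s hcov hspan _ _ fun q => ?_
    rw [app_comp, app_comp]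
    exact sub_eq_zero.1 ((map_sub _ _ _).symm.trans (hj0 q))
  · change G ⟶ c.pt at ψ
    -- lifts of the values on the generators
    choose i₁ y₁ hy₁ using fun q => (exists_sec_stage hc hE).1 (app (O := OEt X) ψ E (s q))
    obtain ⟨i, hi⟩ := Finite.exists_le i₁
    let y₀ : Fin r → Sec (O := OEt X) (D.obj i) E := fun q => app (O := OEt X) (D.map (homOfLE (hi q))) E (y₁ q)
    have hy₀ : ∀ q, app (O := OEt X) (c.ι.app i) E (y₀ q) = app (O := OEt X) ψ E (s q) := fun q =>
      (app_ι_map (hi q) E (y₁ q)).trans (hy₁ q)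
    -- relations on the chart
    let Λ : (Fin r → A) →ₗ[A] N := Fintype.linearCombination A s
    have hΛ : Function.Surjective Λ := by
      rw [← LinearMap.range_eq_top, Fintype.range_linearCombination, hs]
    obtain ⟨R, hR⟩ := Module.FinitePresentation.fg_ker Λ hΛ
    let Λ₀ : (Fin r → A) →ₗ[A] Sec (O := OEt X) (D.obj i) E := Fintype.linearCombination A y₀
    obtain ⟨j, hij, hj⟩ := exists_kill hc (fun _ : ↥R => E) (fun _ => hE) (i := i) (fun ρ => Λ₀ ρ.1) (fun ρ => by
      have h0 : Λ ρ.1 = 0 := LinearMap.mem_ker.1 (hR ▸ Submodule.subset_span ρ.2)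
      have key : (app (O := OEt X) (c.ι.app i) E).comp Λ₀ = (app (O := OEt X) ψ E).comp Λ := LinearMap.ext fun v => by
        show app (O := OEt X) (c.ι.app i) E (Fintype.linearCombination A y₀ v) =
          app (O := OEt X) ψ E (Fintype.linearCombination A s v)
        rw [Fintype.linearCombination_apply, Fintype.linearCombination_apply, map_sum, map_sum]
        refine Finset.sum_congr rfl fun q _ => ?_
        exact (map_smul (app (O := OEt X) (c.ι.app i) E) (v q) (y₀ q)).trans
          ((congrArg (fun w => v q • w) (hy₀ q)).trans (map_smul (app (O := OEt X) ψ E) (v q) (s q)).symm)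
      exact (LinearMap.congr_fun key ρ.1).trans ((congrArg (fun v => app (O := OEt X) ψ E v) h0).trans (map_zero (app (O := OEt X) ψ E))))
    let y : Fin r → Sec (O := OEt X) (D.obj j) E := fun q => app (O := OEt X) (D.map (homOfLE hij)) E (y₀ q)
    have hy : ∀ q, app (O := OEt X) (c.ι.app j) E (y q) = app (O := OEt X) ψ E (s q) := fun q =>
      (app_ι_map hij E (y₀ q)).trans (hy₀ q)
    let Λ₁ : (Fin r → A) →ₗ[A] Sec (O := OEt X) (D.obj j) E := (app (O := OEt X) (D.map (homOfLE hij)) E).comp Λ₀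
    have hker : LinearMap.ker Λ ≤ LinearMap.ker Λ₁ := by
      rw [← hR, Submodule.span_le]
      intro ρ hρ
      exact LinearMap.mem_ker.2 (hj ⟨ρ, hρ⟩)
    let lam : N →ₗ[A] Sec (O := OEt X) (D.obj j) E :=
      ((LinearMap.ker Λ).liftQ Λ₁ hker).comp (Λ.quotKerEquivOfSurjective hΛ).symm.toLinearMap
    have hlam : ∀ v, lam (Λ v) = Λ₁ v := fun v => by
      have e : (Λ.quotKerEquivOfSurjective hΛ).symm (Λ v) = Submodule.Quotient.mk v := by
        rw [LinearEquiv.symm_apply_eq]
        rfl
      show (LinearMap.ker Λ).liftQ Λ₁ hker ((Λ.quotKerEquivOfSurjective hΛ).symm (Λ v)) = _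
      rw [e]
      rfl
    have hlams : ∀ q, lam (s q) = y q := fun q => by
      have := hlam (Pi.single q 1)
      simp only [Λ, Λ₁, Λ₀, LinearMap.comp_apply, Fintype.linearCombination_apply_single, one_smul] at this
      exact this
    -- the overlap
    obtain ⟨hB, -⟩ := isQcqsObj_bcObj a ha hqs E
    let B := EtOver.bcObj ha.1 E
    haveI : CompactSpace ↥B.obj.left.left := hB
    choose O hO hxO _ using fun b : ↥B.obj.left.left => exists_isAffineOpen_mem_and_subset (x := b)
      (U := (⊤ : B.obj.left.left.Opens)) trivial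
    obtain ⟨T, hT⟩ := isCompact_univ.elim_finite_subcover (fun b => (O b : Set ↥B.obj.left.left))
      (fun b => (O b).2) fun b _ => Set.mem_iUnion.2 ⟨b, hxO b⟩
    let Wl : ↥T → EtOver X := fun l => (EtOver.postcomp a he).obj (opensObj B (O l.1))
    let al : ∀ l, Wl l ⟶ E := fun l => (EtOver.postcomp a he).map ((htopU U).from _)
    let bl : ∀ l, Wl l ⟶ E := fun l =>
      (EtOver.postcomp a he).map (opensInc B (O l.1)) ≫ (postAdj ha.1 he).counit.app E
    choose d hd using fun l q => hspan (Wl l) (hO l.1) (al l) (mres (O := OEt X) G (bl l) (s q))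
    obtain ⟨k, hjk, hk⟩ := exists_kill hc (fun p : ↥T × Fin r => Wl p.1) (fun p => hO p.1.1) (i := j)
      (fun p => comb (O := OEt X) y (al p.1) (d p.1 p.2) - mres (O := OEt X) (D.obj j) (bl p.1) (y p.2)) (fun p => by
        rw [map_sub, sub_eq_zero]
        exact (app_comb (O := OEt X) (c.ι.app j) y (al p.1) (d p.1 p.2)).trans
          ((congrArg (fun v => comb (O := OEt X) v (al p.1) (d p.1 p.2)) (funext hy)).trans
            ((app_comb (O := OEt X) ψ s (al p.1) (d p.1 p.2)).symm.trans
              ((congrArg _ (hd p.1 p.2)).trans ((app_mres (O := OEt X) ψ (bl p.1) (s p.2)).trans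
                ((congrArg _ (hy p.2).symm).trans (app_mres (O := OEt X) (c.ι.app j) (bl p.1) (y p.2)).symm))))))
    let z : Fin r → Sec (O := OEt X) (D.obj k) E := fun q => app (O := OEt X) (D.map (homOfLE hjk)) E (y q)
    let lamk := (app (O := OEt X) (D.map (homOfLE hjk)) E).comp lam
    have hlamk : ∀ q, lamk (s q) = z q := fun q => congrArg _ (hlams q)
    have hsame : ∀ W, Aff W → ∀ (t : W ⟶ E) (e e' : Fin r → Ob (OEt X) W),
        comb (O := OEt X) s t e = comb (O := OEt X) s t e' → comb (O := OEt X) z t e = comb (O := OEt X) z t e' := by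
      intro W hW t e e' h
      rw [← funext hlamk, comb_eq_theta (O := OEt X) lamk s, comb_eq_theta (O := OEt X) lamk s]
      refine congrArg _ ((hG E hE (Over.mk t) hW).1 ?_)
      exact (comb_eq_theta (O := OEt X) LinearMap.id s t e).symm.trans
        (h.trans (comb_eq_theta (O := OEt X) LinearMap.id s t e'))
    obtain ⟨φ, hφ⟩ := exists_hom_of_gens (O := OEt X) Aff s hcov hspan hE z (fun W hW t t' e e' hee => by
      obtain ⟨V, hV⟩ := exists_over_lift he (Over.mk t)
      obtain rfl : (EtOver.postcomp a he).obj V.left = W := congrArg (fun W : Over _ => W.left) hV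
      obtain rfl : (EtOver.postcomp a he).map V.hom = t := by
        injection hV with _ _ h3
      let g : V.left ⟶ B := (postAdj ha.1 he).homEquiv V.left E t'
      have hg : (EtOver.postcomp a he).map g ≫ (postAdj ha.1 he).counit.app E = t' := by
        exact ((postAdj ha.1 he).homEquiv_counit _ _ g).symm.trans (Equiv.symm_apply_apply _ t')
      have hl₀ : ∀ x : ↥V.left.obj.left.left, ∃ l : ↥T, g.hom.left.left.base x ∈ O l.1 := fun x => by
        obtain ⟨b, hb, hxb⟩ := Set.mem_iUnion₂.1 (hT (Set.mem_univ (g.hom.left.left.base x)))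
        exact ⟨⟨b, hb⟩, hxb⟩
      choose l hl using hl₀
      choose O₂ hO₂ hxO₂ hle₂ using fun x : ↥V.left.obj.left.left =>
        exists_isAffineOpen_mem_and_subset (x := x) (U := g.hom.left.left ⁻¹ᵁ O (l x).1) (hl x)
      refine sec_ext (O := OEt X) _ (T := Sieve.ofArrows (fun x => (EtOver.postcomp a he).obj (opensObj V.left (O₂ x)))
        (fun x => (EtOver.postcomp a he).map (opensInc V.left (O₂ x)))) ?_ ?_
      · exact ofArrows_mem_etTop _ _ fun x => ⟨x, ⟨x, hxO₂ x⟩, rfl⟩
      rintro Z w ⟨_, p, _, ⟨x⟩, rfl⟩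
      rw [mres_comp, mres_comp]
      refine congrArg _ ?_
      let ι₂ := opensInc V.left (O₂ x)
      obtain ⟨h₂, hh₂⟩ := exists_opensObj_lift B (O (l x).1) (ι₂ ≫ g) (by
        rintro _ ⟨q, rfl⟩
        exact hle₂ x q.2)
      let m : (EtOver.postcomp a he).obj (opensObj V.left (O₂ x)) ⟶ Wl (l x) := (EtOver.postcomp a he).map h₂
      have hma : m ≫ al (l x) = (EtOver.postcomp a he).map ι₂ ≫ (EtOver.postcomp a he).map V.hom := by
        show (EtOver.postcomp a he).map h₂ ≫ (EtOver.postcomp a he).map _ = _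
        rw [← Functor.map_comp, ← Functor.map_comp]
        exact congrArg _ ((htopU U).hom_ext _ _)
      have hmb : m ≫ bl (l x) = (EtOver.postcomp a he).map ι₂ ≫ t' := by
        show (EtOver.postcomp a he).map h₂ ≫ (EtOver.postcomp a he).map _ ≫ _ = _
        rw [← Category.assoc, ← Functor.map_comp, hh₂, Functor.map_comp, Category.assoc, hg]
      let W₂ := (EtOver.postcomp a he).obj (opensObj V.left (O₂ x))
      let t₂ : W₂ ⟶ E := (EtOver.postcomp a he).map ι₂ ≫ (EtOver.postcomp a he).map V.hom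
      let D₂ : Fin r → Fin r → Ob (OEt X) W₂ := fun q q' => res (OEt X) m (d (l x) q q')
      have hs' : ∀ q, mres (O := OEt X) G ((EtOver.postcomp a he).map ι₂ ≫ t') (s q) =
          comb (O := OEt X) s t₂ (D₂ q) := fun q => by
        rw [← hmb, mres_comp, ← hd, mres_comb, hma]
      have hz' : ∀ q, mres (O := OEt X) (D.obj k) ((EtOver.postcomp a he).map ι₂ ≫ t') (z q) =
          comb (O := OEt X) z t₂ (D₂ q) := fun q => by
        have h0 := hk (l x, q)
        rw [map_sub, sub_eq_zero, app_comb, app_mres] at h0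
        rw [← hmb, mres_comp, show mres (O := OEt X) (D.obj k) (bl (l x)) (z q) =
          comb (O := OEt X) z (al (l x)) (d (l x) q) from h0.symm, mres_comb, hma]
      rw [mres_comb, mres_comb]
      let e₂ : Fin r → Ob (OEt X) W₂ := fun q => res (OEt X) ((EtOver.postcomp a he).map ι₂) (e' q)
      have hcs : comb (O := OEt X) s ((EtOver.postcomp a he).map ι₂ ≫ t') e₂ =
          comb (O := OEt X) s t₂ (∑ q, e₂ q • D₂ q) := by
        rw [comb_apply, map_sum]
        exact Finset.sum_congr rfl fun q _ => by rw [hs', map_smul]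
      have hcz : comb (O := OEt X) z ((EtOver.postcomp a he).map ι₂ ≫ t') e₂ =
          comb (O := OEt X) z t₂ (∑ q, e₂ q • D₂ q) := by
        rw [comb_apply, map_sum]
        exact Finset.sum_congr rfl fun q _ => by rw [hz', map_smul]
      rw [hcz]
      refine hsame W₂ (hO₂ x) t₂ _ _ ?_
      rw [← hcs, ← mres_comb, ← mres_comb, hee])
    refine ⟨k, φ, ?_⟩
    show ψ = φ ≫ c.ι.app k
    refine hom_ext_gens (O := OEt X) Aff s hcov hspan _ _ fun q => ?_
    rw [app_comp, hφ]
    exact (hy q).symm.trans (app_ι_map hjk E (y q)).symm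

end GrothLib.AlgSp.HomColim
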