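import Groth.Agent.Lib.AlgSp.QCohSub
import Groth.Agent.Lib.AlgSp.QCohWeakAss
import Mathlib.RingTheory.Smooth.IntegralClosure
import Mathlib.Algebra.Category.ModuleCat.Sheaf.ChangeOfRings

/-!
# The integral closure of `O_X` in a quasi-coherent algebra

* `SubFam.good_of_range`: a submodule with the sections of a compatible family is good.
* `intFam`: integral sections form a compatible family.
-/

universe u

open CategoryTheory CategoryTheory.Limits AlgebraicGeometry Opposite TensorProduct
set_option backward.isDefEq.respectTransparency false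

noncomputable section

namespace GrothLib.AlgSp.QCohEt

section Generic

variable {C : Type (u + 1)} [Category.{u} C] {J : GrothendieckTopology C} {O : Sheaf J CommRingCat.{u + 1}}
  [HasSheafify J AddCommGrpCat.{u + 1}] [J.WEqualsLocallyBijective AddCommGrpCat.{u + 1}]

omit [HasSheafify J AddCommGrpCat.{u + 1}] [J.WEqualsLocallyBijective AddCommGrpCat.{u + 1}] in
theorem SubFam.good_of_range {F : SheafOfModules.{u + 1} (RR O)} {S : AffSite O} (P : SubFam F S)
    {G : SheafOfModules.{u + 1} (RR O)} (ι : G ⟶ F) (hι : ∀ E, Function.Injective (app ι E))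
    (hrange : ∀ E, S.Aff E → LinearMap.range (app ι E) = P.P E) (hF : ∀ E, S.Aff E → Good F S E)
    {E : C} (hE : S.Aff E) : Good G S E := by
  intro V hV
  haveI : Module.Flat (Ob O E) (Ov O V) := S.flat V.hom hE hV
  have key : ∀ c, app ι V.left (theta LinearMap.id V c) = theta LinearMap.id V ((app ι E).lTensor (Ov O V) c) :=
    fun c => (app_theta ι LinearMap.id V c).trans (by rw [← theta_comp, LinearMap.comp_id, LinearMap.id_comp])
  constructor
  · intro a b hab
    exact Module.Flat.lTensor_preserves_injective_linearMap (M := Ov O V) (app ι E) (hι E)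
      ((hF E hE V hV).1 ((key a).symm.trans ((congrArg _ hab).trans (key b))))
  · intro x
    obtain ⟨d, hd⟩ := P.exists_lTensor V hE hV (s := app ι V.left x) (by rw [← hrange _ hV]; exact ⟨x, rfl⟩)
    let e : P.P E →ₗ[Ob O E] Sec G E :=
      (LinearEquiv.ofInjective (app ι E) (hι E)).symm.toLinearMap ∘ₗ
        (LinearEquiv.ofEq _ _ (hrange E hE).symm).toLinearMap
    refine ⟨e.lTensor (Ov O V) d, hι V.left ((key _).trans (Eq.trans ?_ hd))⟩
    rw [← theta_comp, ← theta_comp, LinearMap.id_comp]
    refine congrArg (fun g => theta g V d) (LinearMap.ext fun y => ?_)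
    exact congrArg Subtype.val ((LinearEquiv.ofInjective (app ι E) (hι E)).apply_symm_apply _)

variable {A : Sheaf J CommRingCat.{u + 1}} (φ : O ⟶ A)

/-- An algebra as a module. -/
abbrev algMod : SheafOfModules.{u + 1} (RR O) :=
  (SheafOfModules.restrictScalars ((sheafCompose J (forget₂ CommRingCat.{u + 1} RingCat.{u + 1})).map φ)).obj
    (SheafOfModules.unit ((sheafCompose J (forget₂ CommRingCat.{u + 1} RingCat.{u + 1})).obj A))

omit [HasSheafify J AddCommGrpCat.{u + 1}] [J.WEqualsLocallyBijective AddCommGrpCat.{u + 1}] in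
theorem isIntegralElem_res {E W : C} (w : W ⟶ E) {s : A.obj.obj (op E)}
    (hs : (φ.hom.app (op E)).hom.IsIntegralElem s) :
    (φ.hom.app (op W)).hom.IsIntegralElem ((A.obj.map w.op).hom s) := by
  obtain ⟨p, hp, he⟩ := hs
  refine ⟨p.map (O.obj.map w.op).hom, hp.map _, ?_⟩
  rw [Polynomial.eval₂_map, ← CommRingCat.hom_comp, φ.hom.naturality w.op, CommRingCat.hom_comp,
    ← Polynomial.hom_eval₂, he, map_zero]

omit [HasSheafify J AddCommGrpCat.{u + 1}] [J.WEqualsLocallyBijective AddCommGrpCat.{u + 1}] in
theorem mem_span_integral (S : AffSite O) {E W : C} (w : W ⟶ E)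
    (hW : S.Aff W) (hgood : Good (algMod φ) S E) [Algebra.Smooth (Ob O E) (Ov O (Over.mk w))]
    (x : A.obj.obj (op W)) (hx : (φ.hom.app (op W)).hom.IsIntegralElem x) :
    (show Sec (algMod φ) W from x) ∈ Submodule.span (Ob O W)
      (mres (algMod φ) w '' {s | (φ.hom.app (op E)).hom.IsIntegralElem (show A.obj.obj (op E) from s)}) := by
  let V : Over E := Over.mk w
  let AE := A.obj.obj (op E)
  let AW := A.obj.obj (op W)
  letI : Algebra (Ob O E) AE := (φ.hom.app (op E)).hom.toAlgebra
  letI : Algebra (Ob O E) AW := ((φ.hom.app (op W)).hom.comp (res O w)).toAlgebra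
  let f : Ov O V →ₐ[Ob O E] AW :=
    { (φ.hom.app (op W)).hom with commutes' := fun r => rfl }
  let g : AE →ₐ[Ob O E] AW :=
    { (A.obj.map w.op).hom with
      commutes' := fun r => by
        show (A.obj.map w.op).hom ((φ.hom.app (op E)).hom r) = (φ.hom.app (op W)).hom (res O w r)
        rw [← CommRingCat.comp_apply, ← φ.hom.naturality w.op]
        rfl }
  let Φ : Ov O V ⊗[Ob O E] AE →ₐ[Ob O E] AW :=
    Algebra.TensorProduct.lift f g fun a b => Commute.all _ _
  have hΦ : ∀ c, (show Sec (algMod φ) W from Φ c) =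
      theta (LinearMap.id : Sec (algMod φ) E →ₗ[Ob O E] Sec (algMod φ) E) V c := by
    intro c
    induction c using TensorProduct.induction_on with
    | zero => exact (map_zero Φ).trans (map_zero _).symm
    | add a b ha hb => exact (map_add Φ a b).trans ((congrArg₂ (· + ·) ha hb).trans (map_add _ a b).symm)
    | tmul b m => exact Algebra.TensorProduct.lift_tmul f g (fun a b => Commute.all _ _) b m
  have hbij := hgood V hW
  obtain ⟨c, hc'⟩ : ∃ c : Ov O V ⊗[Ob O E] AE, Φ c = x :=
    (hbij.2 x).elim fun c hc => ⟨c, (hΦ c).trans hc⟩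
  obtain ⟨p, hp, he⟩ := hx
  have hcint : _root_.IsIntegral (Ov O V) c := by
    refine ⟨p, hp, ?_⟩
    have hinj : Function.Injective Φ := fun a b hab => hbij.1 ((hΦ a).symm.trans (hab.trans (hΦ b)))
    refine hinj (Eq.trans ?_ (map_zero Φ).symm)
    show Φ.toRingHom _ = 0
    rw [Polynomial.hom_eval₂]
    show Polynomial.eval₂ _ (Φ c) p = 0
    rw [hc', show Φ.toRingHom.comp (algebraMap (Ov O V) (Ov O V ⊗[Ob O E] AE)) = f.toRingHom from
      RingHom.ext fun b => (Algebra.TensorProduct.lift_tmul f g (fun a b => Commute.all _ _) b (1 : AE)).trans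
        ((congrArg (fun t => f b * t) (map_one g)).trans (mul_one _))]
    exact he
  obtain ⟨y, hy⟩ := (TensorProduct.toIntegralClosure_bijective_of_smooth (R := Ob O E) (S := Ov O V) (B := AE)).2
    ⟨c, hcint⟩
  have hy' : Algebra.TensorProduct.map (AlgHom.id (Ov O V) (Ov O V)) (integralClosure (Ob O E) AE).val y = c :=
    congrArg Subtype.val hy
  rw [← hc', ← hy']
  clear hy hy' hcint hc'
  induction y using TensorProduct.induction_on with
  | zero =>
    rw [map_zero, map_zero]
    exact zero_mem _
  | add a b ha hb =>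
    rw [map_add, map_add]
    exact add_mem ha hb
  | tmul b a =>
    rw [Algebra.TensorProduct.map_tmul, hΦ, theta_tmul, LinearMap.id_apply]
    exact Submodule.smul_mem _ _ (Submodule.subset_span ⟨_, a.2, rfl⟩)

end Generic

open _root_.AlgSp

variable {S : Scheme.{u}} {X : Sp S} {A : EtSh X CommRingCat.{u + 1}} (φ : OEt X ⟶ A)

/-- The integral sections. -/
def intFam (hgood : ∀ E : EtOver X, IsAffine E.obj.left.left → Good (O := OEt X) (algMod φ) (affEt X) E) :
    SubFam (O := OEt X) (algMod φ) (affEt X) where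
  P E :=
    { carrier := {s | (φ.hom.app (op E)).hom.IsIntegralElem (show A.obj.obj (op E) from s)}
      add_mem' := fun ha hb => RingHom.IsIntegralElem.add (φ.hom.app (op E)).hom ha hb
      zero_mem' := RingHom.isIntegralElem_zero (φ.hom.app (op E)).hom
      smul_mem' := fun c s hs =>
        RingHom.IsIntegralElem.mul (φ.hom.app (op E)).hom (RingHom.isIntegralElem_map (φ.hom.app (op E)).hom) hs }
  map_mem w _ _ s hs := isIntegralElem_res φ w hs
  gen {E W} w hE hW := fun x hx => by
    haveI := EtOver.etale_left w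
    haveI : IsAffine E.obj.left.left := hE
    haveI : IsAffine W.obj.left.left := hW
    haveI : Algebra.Etale (Ob (OEt X) E) (Ov (OEt X) (Over.mk w)) :=
      RingHom.etale_algebraMap.1 (ulift_etale (HasRingHomProperty.appTop (P := @Etale) w.hom.left.left inferInstance))
    exact mem_span_integral (O := OEt X) φ (affEt X) w hW (hgood E hE) _ hx

end GrothLib.AlgSp.QCohEt
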