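import Mathlib.CategoryTheory.Adjunction.Mates
import Mathlib.CategoryTheory.Abelian.Basic
import Mathlib.Algebra.Homology.ShortComplex.ShortExact

/-!
# The left-adjoint Mayer-Vietoris sequence from the right-adjoint one
-/

universe v u

open CategoryTheory CategoryTheory.Limits

noncomputable section

namespace GrothLib.AlgSp.QCohEt

variable {A : Type u} [Category.{v} A] [Abelian A] {LU LV LP RU RV RP : A ⥤ A} [RP.Additive]
  (aU : LU ⊣ RU) (aV : LV ⊣ RV) (aP : LP ⊣ RP) (gU : RU ⟶ RP) (gV : RV ⟶ RP) (ηU : ∀ G : A, G ⟶ RU.obj G)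
  (ηV : ∀ G : A, G ⟶ RV.obj G)

/-- Transposes of conjugates. -/
theorem homEquiv_conjugate {L L' R R' : A ⥤ A} (a : L ⊣ R) (a' : L' ⊣ R') (g : R ⟶ R') {F G : A} (φ : L.obj F ⟶ G) :
    a'.homEquiv F G (((conjugateEquiv a a').symm g).app F ≫ φ) = a.homEquiv F G φ ≫ g.app G := by
  have h := unit_conjugateEquiv a a' ((conjugateEquiv a a').symm g) F
  rw [Equiv.apply_symm_apply] at h
  rw [Adjunction.homEquiv_unit, Adjunction.homEquiv_unit, Functor.map_comp, ← Category.assoc, ← h, Category.assoc,
    Category.assoc, g.naturality]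

theorem homEquiv_comp {L R : A ⥤ A} (a : L ⊣ R) {F G G' : A} (φ : L.obj F ⟶ G) (h : G ⟶ G') :
    a.homEquiv F G' (φ ≫ h) = a.homEquiv F G φ ≫ R.map h := a.homEquiv_naturality_right φ h

/-- If the right-adjoint sequence is short exact on every object, so is the left-adjoint one. -/
theorem shortExact_dual (natU : ∀ {G G' : A} (h : G ⟶ G'), h ≫ ηU G' = ηU G ≫ RU.map h)
    (natV : ∀ {G G' : A} (h : G ⟶ G'), h ≫ ηV G' = ηV G ≫ RV.map h) (hR : ∀ G : A, ∃ h : biprod.lift (ηU G) (ηV G) ≫
      biprod.desc (gU.app G) (-(gV.app G)) = 0, (ShortComplex.mk _ _ h).ShortExact)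
    (F : A) (εU : LU.obj F ⟶ F) (εV : LV.obj F ⟶ F) (hεU : aU.homEquiv F F εU = ηU F)
    (hεV : aV.homEquiv F F εV = ηV F) :
    ∃ h : biprod.lift (((conjugateEquiv aU aP).symm gU).app F) (-(((conjugateEquiv aV aP).symm gV).app F)) ≫
        biprod.desc εU εV = 0, (ShortComplex.mk _ _ h).ShortExact := by
  have hηU : ∀ {G : A} (h : F ⟶ G), aU.homEquiv F G (εU ≫ h) = h ≫ ηU G := fun {G} h => by
    rw [homEquiv_comp, hεU]; exact (natU h).symm
  have hηV : ∀ {G : A} (h : F ⟶ G), aV.homEquiv F G (εV ≫ h) = h ≫ ηV G := fun {G} h => by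
    rw [homEquiv_comp, hεV]; exact (natV h).symm
  let i := biprod.lift (((conjugateEquiv aU aP).symm gU).app F) (-(((conjugateEquiv aV aP).symm gV).app F))
  let p := biprod.desc εU εV
  have key : ∀ {G : A} (φU : LU.obj F ⟶ G) (φV : LV.obj F ⟶ G),
      aP.homEquiv F G (i ≫ biprod.desc φU φV) =
        aU.homEquiv F G φU ≫ gU.app G - aV.homEquiv F G φV ≫ gV.app G := fun {G} φU φV => by
    rw [← homEquiv_conjugate aU aP gU, ← homEquiv_conjugate aV aP gV]
    simp only [i, biprod.lift_desc, Preadditive.neg_comp, Adjunction.homEquiv_unit, ← sub_eq_add_neg,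
      Functor.map_sub, Preadditive.comp_sub]
  have hip : i ≫ p = 0 := by
    apply (aP.homEquiv F F).injective
    obtain ⟨h, -⟩ := hR F
    rw [biprod.lift_desc, Preadditive.comp_neg, add_neg_eq_zero] at h
    rw [key, hεU, hεV, h, sub_self, Adjunction.homEquiv_unit, Functor.map_zero, comp_zero]
  refine ⟨hip, ?_⟩
  haveI : Epi p := by
    refine Preadditive.epi_of_cancel_zero _ fun {G} h hh => ?_
    obtain ⟨hG, hs⟩ := hR G
    have := hs.mono_f
    refine (cancel_mono (biprod.lift (ηU G) (ηV G))).1 ?_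
    rw [zero_comp]
    ext
    · rw [Category.assoc, biprod.lift_fst, zero_comp, ← hηU,
        show εU ≫ h = 0 by simpa [p] using congrArg (biprod.inl ≫ ·) hh]
      have := hηU (0 : F ⟶ G)
      rwa [comp_zero, zero_comp] at this
    · rw [Category.assoc, biprod.lift_snd, zero_comp, ← hηV,
        show εV ≫ h = 0 by simpa [p] using congrArg (biprod.inr ≫ ·) hh]
      have := hηV (0 : F ⟶ G)
      rwa [comp_zero, zero_comp] at this
  haveI : Mono i := by
    let G := LP.obj F
    obtain ⟨hG, hs⟩ := hR G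
    let f := biprod.lift (ηU G) (ηV G)
    let g := biprod.desc (gU.app G) (-(gV.app G))
    have := hs.mono_f
    have := hs.epi_g
    haveI : Mono f := hs.mono_f
    haveI : Epi g := hs.epi_g
    let ψ : F ⟶ RP.obj G := aP.homEquiv F G (𝟙 _)
    let P := pullback g ψ
    let k : G ⟶ P := pullback.lift f 0 (by rw [zero_comp]; exact hG)
    haveI : Mono k := mono_of_mono_fac (pullback.lift_fst f 0 _ : k ≫ pullback.fst g ψ = f)
    have hk : k ≫ pullback.snd g ψ = 0 := pullback.lift_snd _ _ _
    have hex : (ShortComplex.mk k (pullback.snd g ψ) hk).Exact := by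
      rw [ShortComplex.exact_iff_epi_kernel_lift]
      haveI : IsSplitEpi (kernel.lift (pullback.snd g ψ) k hk) := by
        let z := kernel.ι (pullback.snd g ψ) ≫ pullback.fst g ψ
        have hz : z ≫ g = 0 := by
          simp only [z, Category.assoc, pullback.condition, kernel.condition_assoc, zero_comp]
        refine IsSplitEpi.mk' ⟨hs.exact.lift z hz, ?_⟩
        rw [← cancel_mono (kernel.ι (pullback.snd g ψ)), Category.assoc, kernel.lift_ι, Category.id_comp]
        apply pullback.hom_ext
        · rw [Category.assoc, pullback.lift_fst]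
          exact hs.exact.lift_f z hz
        · rw [Category.assoc, hk, comp_zero, kernel.condition]
      infer_instance
    let α : P ⟶ RU.obj P ⊞ RV.obj P :=
      pullback.fst g ψ ≫ biprod.map (RU.map k) (RV.map k) - biprod.lift (ηU P) (ηV P)
    have hkα : k ≫ α = 0 := by
      rw [Preadditive.comp_sub, ← Category.assoc, pullback.lift_fst, sub_eq_zero]
      ext
      · simp only [f, Category.assoc, biprod.map_fst, biprod.lift_fst, biprod.lift_fst_assoc]
        exact (natU k).symm
      · simp only [f, Category.assoc, biprod.map_snd, biprod.lift_snd, biprod.lift_snd_assoc]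
        exact (natV k).symm
    haveI : Epi (pullback.snd g ψ) := inferInstance
    let θ : F ⟶ RU.obj P ⊞ RV.obj P := hex.desc α hkα
    have hθ : pullback.snd g ψ ≫ θ = α := hex.g_desc α hkα
    have hP := (hR P).choose
    have hθg : θ ≫ biprod.desc (gU.app P) (-(gV.app P)) = ψ ≫ RP.map k := by
      rw [← cancel_epi (pullback.snd g ψ), ← Category.assoc, hθ, Preadditive.sub_comp, hP, sub_zero, Category.assoc,
        show biprod.map (RU.map k) (RV.map k) ≫ biprod.desc (gU.app P) (-(gV.app P)) = g ≫ RP.map k by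
          ext <;> simp [g], ← Category.assoc, ← Category.assoc, pullback.condition]
    let φU := (aU.homEquiv F P).symm (θ ≫ biprod.fst)
    let φV := (aV.homEquiv F P).symm (θ ≫ biprod.snd)
    have e : i ≫ biprod.desc φU φV = k := by
      apply (aP.homEquiv F P).injective
      rw [key, Equiv.apply_symm_apply, Equiv.apply_symm_apply]
      refine Eq.trans ?_ ((hθg).trans ((homEquiv_comp aP (𝟙 G) k).symm.trans (by rw [Category.id_comp])))
      rw [biprod.desc_eq, Preadditive.comp_add, Preadditive.comp_neg, Preadditive.comp_neg, sub_eq_add_neg,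
        Category.assoc, Category.assoc]
    exact mono_of_mono_fac e
  have hcol : IsColimit (CokernelCofork.ofπ p hip) := CokernelCofork.IsColimit.ofπ' p hip fun {G} u hu => by
    have h0 : aU.homEquiv F G (biprod.inl ≫ u) ≫ gU.app G - aV.homEquiv F G (biprod.inr ≫ u) ≫ gV.app G = 0 := by
      rw [← key, show biprod.desc (biprod.inl ≫ u) (biprod.inr ≫ u) = u by ext <;> simp, hu,
        Adjunction.homEquiv_unit, Functor.map_zero, comp_zero]
    have hs := (hR G).choose_spec
    let θ : F ⟶ RU.obj G ⊞ RV.obj G :=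
      biprod.lift (aU.homEquiv F G (biprod.inl ≫ u)) (aV.homEquiv F G (biprod.inr ≫ u))
    have hθ : θ ≫ biprod.desc (gU.app G) (-(gV.app G)) = 0 := by
      rw [biprod.lift_desc, Preadditive.comp_neg, ← sub_eq_add_neg, h0]
    haveI := hs.mono_f
    let l := hs.exact.lift θ hθ
    have hl : l ≫ biprod.lift (ηU G) (ηV G) = θ := hs.exact.lift_f θ hθ
    refine ⟨l, ?_⟩
    ext
    · rw [biprod.inl_desc_assoc]
      apply (aU.homEquiv F G).injective
      rw [hηU]
      simpa [θ] using congrArg (· ≫ biprod.fst) hl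
    · rw [biprod.inr_desc_assoc]
      apply (aV.homEquiv F G).injective
      rw [hηV]
      simpa [θ] using congrArg (· ≫ biprod.snd) hl
  exact ShortComplex.ShortExact.mk' (ShortComplex.exact_of_g_is_cokernel _ hcol) ‹Mono i› ‹Epi p›

end GrothLib.AlgSp.QCohEt
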