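import Groth.Agent.Lib.AlgSp.QCohWeakAss
import Groth.Agent.Lib.AssPts.Alg
import Groth.Agent.Lib.AlgSp.Rep
import Groth.Agent.S10818

/-!
# Weakly associated points of direct images along affine morphisms

* `weakAssEt_push_eq`: equality, given the algebra on every affine chart.
-/

universe u

open CategoryTheory CategoryTheory.Limits AlgebraicGeometry Opposite
set_option backward.isDefEq.respectTransparency false

namespace GrothLib.AlgSp.QCohEt

open _root_.AlgSp

variable {S : Scheme.{u}}

/-- Base change of an affine chart along an affine morphism is affine. -/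
theorem isAffine_bcObj {X Y : Sp S} {f : X ⟶ Y} (hf : Representable f) (haff : IsAffineMor f) (E : EtOver Y)
    [IsAffine E.obj.left.left] : IsAffine (EtOver.bcObj hf E).obj.left.left := by
  obtain ⟨W, i, fst, sq, hW⟩ := haff (inferInstanceAs (IsAffine E.obj.left.left)) E.obj.hom
  let e : (yon S).obj (EtOver.bcObj hf E).obj.left ≅ (yon S).obj W :=
    (EtOver.isPullback_bcObj hf E).isoIsPullback _ _ sq
  haveI : IsAffine ((Over.forget S).obj W) := hW
  exact IsAffine.of_isIso ((Over.forget S).mapIso ((yon S).preimageIso e)).hom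

/-- Weakly associated points of a direct image along an affine morphism. -/
theorem weakAssEt_push_eq {X Y : Space S} (f : X ⟶ Y) (hf : Representable f.hom) (haff : IsAffineMor f.hom)
    (M : ModEt X.obj) [M.IsQuasicoherent] [((pushModEt hf).obj M).IsQuasicoherent]
    (halg : ∀ (E : EtOver Y.obj), IsAffine E.obj.left.left →
      letI := (EtOver.bcπ hf E).left.appTop.hom.toAlgebra
      ∀ (N : Type u) [AddCommGroup N] [Module Γ((EtOver.bcObj hf E).obj.left.left, ⊤) N]
        [Module Γ(E.obj.left.left, ⊤) N]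
        [IsScalarTower Γ(E.obj.left.left, ⊤) Γ((EtOver.bcObj hf E).obj.left.left, ⊤) N],
        Ideal.comap (algebraMap Γ(E.obj.left.left, ⊤) Γ((EtOver.bcObj hf E).obj.left.left, ⊤)) ''
          FlatCA.weakAss Γ((EtOver.bcObj hf E).obj.left.left, ⊤) N ⊆ FlatCA.weakAss Γ(E.obj.left.left, ⊤) N) :
    WeakAssEt ((pushModEt hf).obj M) = Points.map f.hom '' WeakAssEt M := by
  refine Set.Subset.antisymm (Groth.Agent.S10818.result X Y f hf haff M) ?_
  rintro _ ⟨x, hx, rfl⟩
  obtain ⟨E, hE, v, hv⟩ := exists_affine_chart_at Y.property (Points.map f.hom x)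
  haveI := hE
  haveI := isAffine_bcObj hf haff E
  let W := EtOver.bcObj hf E
  obtain ⟨z, hzx, hzv⟩ := exists_of_isPullback (EtOver.isPullback_bcObj hf E) (x := x)
    (y := Points.schemeEquiv E.obj.left v) (by rw [hv.symm, Points.ofPt_eq_map_ofScheme]; rfl)
  obtain ⟨w, rfl⟩ := (Points.schemeEquiv W.obj.left).surjective z
  have hwx : Points.ofPt W.obj.hom w = x := (Points.ofPt_eq_map_ofScheme _ _).trans hzx
  have hwv : (EtOver.bcπ hf E).left w = v := by
    apply (Points.schemeEquiv E.obj.left).injective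
    rw [← hzv]
    exact (map_yon_ofPt _ _).symm
  obtain ⟨s, hs⟩ := isWeakAssOn_of_mem X.property M hx W w hwx
  letI := (EtOver.bcπ hf E).left.appTop.hom.toAlgebra
  let B := Γ(W.obj.left.left, ⊤)
  let J : Ideal B := annSect s
  have hJ : ∀ b c : B, b • (Ideal.Quotient.mk J c) = Ideal.Quotient.mk J (b * c) := fun b c => rfl
  have hone : (⊥ : Submodule B (B ⧸ J)).colon {Ideal.Quotient.mk J 1} = J := by
    ext b
    rw [Submodule.mem_colon_singleton, Submodule.mem_bot, hJ, mul_one, Ideal.Quotient.eq_zero_iff_mem]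
  obtain ⟨m', hm'⟩ := (GrothLib.AssPts.mem_weakAss_iff).1 (halg E hE (B ⧸ J) ⟨_, GrothLib.AssPts.mem_weakAss_iff.2
    ⟨Ideal.Quotient.mk J 1, by rw [hone]; exact hs⟩, rfl⟩)
  obtain ⟨c, rfl⟩ := Ideal.Quotient.mk_surjective m'
  let s' : sectModEt ((pushModEt hf).obj M) E := (upΓ W c • s : sectModEt M W)
  refine ⟨E, hE, v, hv, s', ?_⟩
  have hann : annSect s' = (⊥ : Submodule Γ(E.obj.left.left, ⊤) (B ⧸ J)).colon {Ideal.Quotient.mk J c} := by
    ext a
    rw [mem_annSect_iff, Submodule.mem_colon_singleton, Submodule.mem_bot]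
    have h2 : a • Ideal.Quotient.mk J c = Ideal.Quotient.mk J ((EtOver.bcπ hf E).left.appTop.hom a * c) := rfl
    rw [h2, Ideal.Quotient.eq_zero_iff_mem, mem_annSect_iff, map_mul, mul_smul]
    exact Iff.rfl
  rw [hann, ← hwv, ← comap_primeAtPt]
  exact hm'

end GrothLib.AlgSp.QCohEt
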