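import Groth.Agent.Lib.AlgSp.QCohColimit
import Mathlib.Algebra.Category.ModuleCat.Sheaf.Colimits
import Mathlib.Algebra.Category.ModuleCat.Presheaf.Colimits
import Mathlib.LinearAlgebra.DirectSum.TensorProduct

/-!
# Coproducts of good modules indexed one universe up

* `exists_sum_sigma_big`, `good_sigma_big`.
-/

universe u

open CategoryTheory CategoryTheory.Limits Opposite TensorProduct DirectSum
set_option backward.isDefEq.respectTransparency false

noncomputable section

namespace GrothLib.AlgSp.QCohEt

variable {C : Type (u + 1)} [Category.{u} C] {J : GrothendieckTopology C} {O : Sheaf J CommRingCat.{u + 1}}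
  [HasSheafify J AddCommGrpCat.{u + 1}] [J.WEqualsLocallyBijective AddCommGrpCat.{u + 1}]

/-- Sections of a coproduct are locally finite sums of sections of the summands. -/
theorem exists_sum_sigma_big {I : Type (u + 1)} [HasCoproductsOfShape I (SheafOfModules.{u + 1} (RR O))] (D : I → SheafOfModules.{u + 1} (RR O)) {V : C} (x : Sec (∐ D) V) :
    ∃ T ∈ J V, ∀ ⦃W : C⦄ (h : W ⟶ V), T.arrows h →
      mres (∐ D) h x ∈ ⨆ i, LinearMap.range (app (Sigma.ι D i) W) := by
  let M := ∐ D
  let P : I → PresheafOfModules.{u + 1} (RR O).obj := fun i => (D i).val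
  let P₀ := ∐ P
  let f : P₀ ⟶ M.val := Sigma.desc fun i => (Sigma.ι D i).val
  let sh := (PresheafOfModules.sheafification (𝟙 (RR O).obj)).obj P₀
  let η : P₀ ⟶ sh.val := PresheafOfModules.sheafificationHomEquiv (𝟙 (RR O).obj) (𝟙 sh)
  let fh : sh ⟶ M := (PresheafOfModules.sheafificationHomEquiv (𝟙 (RR O).obj)).symm f
  have hη : (PresheafOfModules.toPresheaf _).map η ≫ ((SheafOfModules.toSheaf (RR O)).map fh).hom =
      (PresheafOfModules.toPresheaf _).map f := by
    have h := PresheafOfModules.toPresheaf_map_sheafificationHomEquiv_def (𝟙 (RR O).obj) fh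
    rw [Equiv.apply_symm_apply] at h
    exact h.symm
  have hη' : η ≫ fh.val = f := (PresheafOfModules.toPresheaf _).map_injective (by
    rw [Functor.map_comp]
    exact hη)
  let φ : M ⟶ sh := Sigma.desc fun i => ⟨Sigma.ι P i ≫ η⟩
  have hφ : φ ≫ fh = 𝟙 M := by
    refine Sigma.hom_ext _ _ fun i => ?_
    rw [Sigma.ι_desc_assoc, Category.comp_id]
    ext1
    exact ((Category.assoc _ _ _).trans (congrArg (Sigma.ι P i ≫ ·) hη')).trans (Sigma.ι_desc _ i)
  haveI : Epi fh := epi_of_epi_fac hφ
  haveI : Sheaf.IsLocallySurjective ((SheafOfModules.toSheaf (RR O)).map fh) :=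
    (Sheaf.isLocallySurjective_iff_epi' (A := AddCommGrpCat.{u + 1}) _).2 (GrothLib.QCoh.toSheaf_map_epi fh)
  haveI : Presheaf.IsLocallySurjective J ((PresheafOfModules.toPresheaf (RR O).obj).map η) := by
    show Presheaf.IsLocallySurjective J (toSheafify J P₀.presheaf)
    infer_instance
  haveI : Presheaf.IsLocallySurjective J ((PresheafOfModules.toPresheaf (RR O).obj).map f) := by
    rw [← hη]
    infer_instance
  refine ⟨_, Presheaf.imageSieve_mem J ((PresheafOfModules.toPresheaf (RR O).obj).map f) (U := op V) x, ?_⟩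
  rintro W h ⟨z, hz⟩
  have hz' : (f.app (op W)).hom z = mres M h x := hz
  let K : Submodule ((RR O).obj.obj (op W)) (M.val.obj (op W)) := ⨆ i, LinearMap.range (app (Sigma.ι D i) W)
  have hq : f.app (op W) ≫ ModuleCat.ofHom K.mkQ = 0 := by
    refine (isColimitOfPreserves (PresheafOfModules.evaluation.{u + 1} (RR O).obj (op W))
      (coproductIsCoproduct P)).hom_ext fun ⟨i⟩ => ?_
    rw [comp_zero]
    refine ModuleCat.hom_ext (LinearMap.ext fun y => ?_)
    show K.mkQ (((Sigma.ι P i ≫ f).app (op W)).hom y) = 0
    rw [Sigma.ι_desc, Submodule.mkQ_apply, Submodule.Quotient.mk_eq_zero]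
    exact le_iSup (fun i => LinearMap.range (app (Sigma.ι D i) W)) i ⟨y, rfl⟩
  rw [← hz']
  exact (Submodule.Quotient.mk_eq_zero K).1 (LinearMap.congr_fun (congrArg ModuleCat.Hom.hom hq) z)

variable (S : AffSite O)

/-- Coproducts of good modules are good. -/
theorem good_sigma_big {I : Type (u + 1)} [HasCoproductsOfShape I (SheafOfModules.{u + 1} (RR O))] (D : I → SheafOfModules.{u + 1} (RR O)) {E : C} (hE : S.Aff E)
    (h : ∀ i, Good (D i) S E) : Good (∐ D) S E := by
  classical
  let N := ⨁ i, Sec (D i) E
  let κ : N →ₗ[Ob O E] Sec (∐ D) E := DirectSum.toModule (Ob O E) I _ fun i => app (Sigma.ι D i) E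
  refine good_of_theta S hE κ (bijective_theta S κ ?_ ?_)
  · intro V hV z hz
    suffices h0 : z = 0 from ⟨⊤, J.top_mem _, fun W w _ _ => by rw [h0, map_zero]⟩
    apply (TensorProduct.directSumRight (Ob O E) (Ob O E) (Ov O V) fun i => Sec (D i) E).injective
    rw [map_zero]
    refine DirectSum.ext_component (R := Ob O E) fun i => ?_
    rw [map_zero]
    let π : ∐ D ⟶ D i := Sigma.desc fun j => if h : j = i then eqToHom (congrArg D h) else 0
    have hπ : (app π E).comp κ = DirectSum.component (Ob O E) I (fun i => Sec (D i) E) i := by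
      refine DirectSum.linearMap_ext (Ob O E) fun j => LinearMap.ext fun y => ?_
      show app π E (κ (DirectSum.lof (Ob O E) I (fun i => Sec (D i) E) j y)) =
        DirectSum.component (Ob O E) I (fun i => Sec (D i) E) i (DirectSum.lof (Ob O E) I (fun i => Sec (D i) E) j y)
      rw [DirectSum.toModule_lof, DirectSum.component.of, ← app_comp, Sigma.ι_desc]
      by_cases hji : j = i
      · subst hji
        rw [dif_pos rfl, dif_pos rfl]
        rfl
      · rw [dif_neg hji, dif_neg hji]
        rfl
    have key : ∀ t, DirectSum.component (Ob O E) I (fun i => Ov O V ⊗[Ob O E] Sec (D i) E) i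
        (TensorProduct.directSumRight (Ob O E) (Ob O E) (Ov O V) (fun i => Sec (D i) E) t) =
          (DirectSum.component (Ob O E) I (fun i => Sec (D i) E) i).lTensor (Ov O V) t := by
      intro t
      induction t using TensorProduct.induction_on with
      | zero => simp only [map_zero]
      | add a b ha hb => simp only [map_add, ha, hb]
      | tmul b c =>
        induction c using DirectSum.induction_on with
        | zero => simp only [TensorProduct.tmul_zero, map_zero]
        | add a c ha hc => simp only [TensorProduct.tmul_add, map_add, ha, hc]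
        | of j y =>
          show DirectSum.component (Ob O E) I _ i (TensorProduct.directSumRight (Ob O E) (Ob O E) (Ov O V)
            (fun i => Sec (D i) E) (b ⊗ₜ DirectSum.lof (Ob O E) I (fun i => Sec (D i) E) j y)) =
            b ⊗ₜ DirectSum.component (Ob O E) I (fun i => Sec (D i) E) i (DirectSum.lof (Ob O E) I _ j y)
          rw [TensorProduct.directSumRight_tmul_lof, DirectSum.component.of, DirectSum.component.of]
          by_cases hji : j = i
          · subst hji
            rw [dif_pos rfl, dif_pos rfl]
          · rw [dif_neg hji, dif_neg hji, TensorProduct.tmul_zero]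
    rw [key]
    apply (h i V hV).1
    rw [map_zero, ← theta_comp, LinearMap.id_comp, ← hπ]
    exact (app_theta π κ V z).symm.trans ((congrArg _ hz).trans (map_zero _))
  · intro V _ x
    obtain ⟨T, hT, hT'⟩ := exists_sum_sigma_big D x
    refine ⟨T, hT, fun W w hW hw => ?_⟩
    let W' : Over E := push (Over.mk w)
    have hle : (⨆ i, LinearMap.range (app (Sigma.ι D i) W)) ≤ LinearMap.range (thetaL κ W') := by
      refine iSup_le fun i => ?_
      rintro _ ⟨y, rfl⟩
      obtain ⟨c, rfl⟩ := (h i W' hW).2 y
      refine ⟨(DirectSum.lof (Ob O E) I (fun i => Sec (D i) E) i).lTensor (Ov O W') c, ?_⟩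
      show theta κ W' _ = _
      rw [← theta_comp]
      refine Eq.trans ?_ (app_theta (Sigma.ι D i) LinearMap.id W' c).symm
      rw [LinearMap.comp_id]
      refine congrArg (fun g => theta g W' c) ?_
      refine LinearMap.ext fun y => ?_
      show DirectSum.toModule (Ob O E) I (Sec (∐ D) E) (fun i => app (Sigma.ι D i) E)
        (DirectSum.lof (Ob O E) I (fun i => Sec (D i) E) i y) = app (Sigma.ι D i) E y
      rw [DirectSum.toModule_lof]
    exact hle (hT' w hw)


end GrothLib.AlgSp.QCohEt
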