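import Mathlib.Algebra.Category.Ring.FilteredColimits
import Groth.Agent.Lib.AlgSp.QCohAlg
import Groth.Agent.Lib.AlgSp.QCohGen
import Mathlib.Algebra.Category.ModuleCat.Sheaf.Limits
import Mathlib.RingTheory.RingHom.Flat
import Mathlib.Algebra.Category.Ring.Basic

/-!
# Sections of quasi-coherent modules on sites with affine objects

* `AffSite`: affine objects with faithfully flat finite covers and affine overlaps.
* `bijective_theta`: a locally bijective comparison from a tensor product is bijective.
-/

universe u

open CategoryTheory CategoryTheory.Limits Opposite TensorProduct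
set_option backward.isDefEq.respectTransparency false

noncomputable section

namespace GrothLib.AlgSp.QCohEt

variable {C : Type (u + 1)} [Category.{u} C] {J : GrothendieckTopology C} (O : Sheaf J CommRingCat.{u + 1})

/-- The sheaf of rings without commutativity. -/
abbrev RR : Sheaf J RingCat.{u + 1} := (sheafCompose J (forget₂ CommRingCat.{u + 1} RingCat.{u + 1})).obj O

/-- The ring of sections on an object. -/
abbrev Ob (V : C) : Type (u + 1) := O.obj.obj (op V)

/-- Restriction of functions. -/
def res {V W : C} (f : W ⟶ V) : Ob O V →+* Ob O W := (O.obj.map f.op).hom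

theorem res_comp {U V W : C} (f : W ⟶ V) (g : U ⟶ W) (a : Ob O V) : res O (g ≫ f) a = res O g (res O f a) := by
  show (O.obj.map (g ≫ f).op).hom a = _
  rw [op_comp, Functor.map_comp]
  rfl

theorem res_id {V : C} (a : Ob O V) : res O (𝟙 V) a = a := by
  show (O.obj.map (𝟙 V).op).hom a = _
  rw [op_id, CategoryTheory.Functor.map_id]
  rfl

/-- Sections over an object over a base, as an algebra. -/
def Ov {E : C} (V : Over E) : Type (u + 1) := Ob O V.left

instance {E : C} (V : Over E) : CommRing (Ov O V) := inferInstanceAs (CommRing (Ob O V.left))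

instance {E : C} (V : Over E) : Algebra (Ob O E) (Ov O V) := (res O V.hom).toAlgebra

/-- A ring map as an algebra map. -/
def rho {E : C} {V W : Over E} (f : W ⟶ V) : Ov O V →ₐ[Ob O E] Ov O W :=
  { (res O f.left : Ob O V.left →+* Ob O W.left) with
    commutes' := fun a => by
      show res O f.left (res O V.hom a) = res O W.hom a
      rw [← res_comp, Over.w] }

theorem rho_apply {E : C} {V W : Over E} (f : W ⟶ V) (a : Ov O V) : rho O f a = res O f.left a := rfl

variable {O} (M : SheafOfModules.{u + 1} (RR O))

/-- Sections of a module. -/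
abbrev Sec (V : C) : Type (u + 1) := M.val.obj (op V)

instance (V : C) : Module (Ob O V) (Sec M V) := inferInstanceAs (Module ((RR O).obj.obj (op V)) (M.val.obj (op V)))

/-- Restriction of sections. -/
def mres {V W : C} (f : W ⟶ V) : Sec M V →+ Sec M W := (M.val.presheaf.map f.op).hom

theorem mres_smul {V W : C} (f : W ⟶ V) (a : Ob O V) (m : Sec M V) : mres M f (a • m) = res O f a • mres M f m :=
  M.val.map_smul f.op a m

theorem mres_comp {U V W : C} (f : W ⟶ V) (g : U ⟶ W) (m : Sec M V) : mres M (g ≫ f) m = mres M g (mres M f m) := by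
  show (M.val.presheaf.map (g ≫ f).op).hom m = _
  rw [op_comp, Functor.map_comp]
  rfl

theorem mres_id {V : C} (m : Sec M V) : mres M (𝟙 V) m = m := by
  show (M.val.presheaf.map (𝟙 V).op).hom m = _
  rw [op_id, CategoryTheory.Functor.map_id]
  rfl

/-- Sections agreeing on a covering sieve are equal. -/
theorem sec_ext {V : C} {T : Sieve V} (hT : T ∈ J V) {x y : Sec M V}
    (h : ∀ ⦃W⦄ (w : W ⟶ V), T.arrows w → mres M w x = mres M w y) : x = y :=
  ((isSheaf_iff_isSheaf_of_type _ _).1
    ((Presheaf.isSheaf_iff_isSheaf_forget J M.val.presheaf (CategoryTheory.forget AddCommGrpCat.{u + 1})).1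
      M.isSheaf) _ hT).isSeparatedFor.ext h

theorem sec_ext_fam {V : C} {n : Type u} {W : n → C} (w : ∀ k, W k ⟶ V) (hT : Sieve.ofArrows W w ∈ J V)
    {x y : Sec M V} (h : ∀ k, mres M (w k) x = mres M (w k) y) : x = y :=
  sec_ext M hT fun Z z hz => by
    obtain ⟨_, g, _, ⟨k⟩, rfl⟩ := hz
    rw [mres_comp, mres_comp, h]

variable {M}

/-- The comparison map of a tensor product with sections. -/
def theta {E : C} {N : Type (u + 1)} [AddCommGroup N] [Module (Ob O E) N] (κ : N →ₗ[Ob O E] Sec M E) (V : Over E) :
    Ov O V ⊗[Ob O E] N →+ Sec M V.left :=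
  TensorProduct.liftAddHom
    { toFun := fun b =>
        { toFun := fun m => (b : Ob O V.left) • mres M V.hom (κ m)
          map_zero' := by rw [map_zero, map_zero, smul_zero]
          map_add' := fun m m' => by rw [map_add, map_add, smul_add] }
      map_zero' := AddMonoidHom.ext fun m => zero_smul (Ob O V.left) _
      map_add' := fun b b' => AddMonoidHom.ext fun m => add_smul (b : Ob O V.left) b' _ }
    (fun a b m => by
      show ((show Ob O V.left from res O V.hom a) * (show Ob O V.left from b)) • mres M V.hom (κ m) = (b : Ob O V.left) • mres M V.hom (κ (a • m))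
      rw [map_smul, mres_smul, smul_smul, mul_comm])

theorem theta_tmul {E : C} {N : Type (u + 1)} [AddCommGroup N] [Module (Ob O E) N] (κ : N →ₗ[Ob O E] Sec M E)
    (V : Over E) (b : Ov O V) (m : N) : theta κ V (b ⊗ₜ m) = (b : Ob O V.left) • mres M V.hom (κ m) := rfl

theorem theta_smul {E : C} {N : Type (u + 1)} [AddCommGroup N] [Module (Ob O E) N] (κ : N →ₗ[Ob O E] Sec M E)
    (V : Over E) (c : Ov O V) (z : Ov O V ⊗[Ob O E] N) : theta κ V (c • z) = (c : Ob O V.left) • theta κ V z := by
  induction z using TensorProduct.induction_on with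
  | zero => rw [smul_zero, map_zero, smul_zero]
  | add a b ha hb => rw [smul_add, map_add, ha, hb, map_add, smul_add]
  | tmul b m => exact mul_smul (c : Ob O V.left) b _

theorem theta_rho {E : C} {N : Type (u + 1)} [AddCommGroup N] [Module (Ob O E) N] (κ : N →ₗ[Ob O E] Sec M E)
    {V W : Over E} (f : W ⟶ V) (z : Ov O V ⊗[Ob O E] N) :
    theta κ W ((rho O f).toLinearMap.rTensor N z) = mres M f.left (theta κ V z) := by
  induction z using TensorProduct.induction_on with
  | zero => simp
  | add a b ha hb => simp only [map_add, ha, hb]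
  | tmul b m =>
    rw [LinearMap.rTensor_tmul, theta_tmul, theta_tmul, mres_smul, ← mres_comp, Over.w]
    rfl

variable (O)

/-- An object with a morphism to an object over a base, over the base. -/
abbrev push {E : C} {V : Over E} (W : Over V.left) : Over E := Over.mk (W.hom ≫ V.hom)

/-- Its projection. -/
abbrev pr {E : C} {V : Over E} (W : Over V.left) : push W ⟶ V := Over.homMk W.hom rfl

instance {E : C} {N : Type (u + 1)} [AddCommGroup N] [Module (Ob O E) N] (V : Over E) :
    Module (Ob O V.left) (Ov O V ⊗[Ob O E] N) := inferInstanceAs (Module (Ov O V) (Ov O V ⊗[Ob O E] N))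

theorem smul_tmul_left {E : C} {N : Type (u + 1)} [AddCommGroup N] [Module (Ob O E) N] (V : Over E) (c : Ob O V.left)
    (b : Ov O V) (m : N) : c • (b ⊗ₜ[Ob O E] m) = ((show Ov O V from c) * b) ⊗ₜ[Ob O E] m := rfl

/-- Sections over a small object through a bigger one. -/
def psi {E : C} (N : Type (u + 1)) [AddCommGroup N] [Module (Ob O E) N] (V : Over E) (W : Over V.left) :
    Ov O (push W) ⊗[Ob O E] N →+ Ov O W ⊗[Ob O V.left] (Ov O V ⊗[Ob O E] N) :=
  TensorProduct.liftAddHom
    { toFun := fun b =>
        { toFun := fun m => (show Ov O W from b) ⊗ₜ[Ob O V.left] ((1 : Ov O V) ⊗ₜ[Ob O E] m)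
          map_zero' := by rw [TensorProduct.tmul_zero, TensorProduct.tmul_zero]
          map_add' := fun m m' => by rw [TensorProduct.tmul_add, TensorProduct.tmul_add] }
      map_zero' := AddMonoidHom.ext fun m => TensorProduct.zero_tmul _ _
      map_add' := fun b b' => AddMonoidHom.ext fun m => TensorProduct.add_tmul _ _ _ }
    (fun a b m => by
      show (show Ov O W from (show Ob O W.left from res O (W.hom ≫ V.hom) a) * (show Ob O W.left from b)) ⊗ₜ[Ob O V.left] ((1 : Ov O V) ⊗ₜ[Ob O E] m) =
        (show Ov O W from b) ⊗ₜ[Ob O V.left] ((1 : Ov O V) ⊗ₜ[Ob O E] (a • m))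
      have h1 : (show Ov O W from (show Ob O W.left from res O (W.hom ≫ V.hom) a) * (show Ob O W.left from b)) = (res O V.hom a) • (show Ov O W from b) := by
        rw [Algebra.smul_def, res_comp]
        rfl
      rw [h1, TensorProduct.smul_tmul, smul_tmul_left, ← TensorProduct.smul_tmul a, Algebra.smul_def]
      rfl)

theorem psi_tmul {E : C} (N : Type (u + 1)) [AddCommGroup N] [Module (Ob O E) N] (V : Over E) (W : Over V.left)
    (b : Ov O (push W)) (m : N) :
    psi O N V W (b ⊗ₜ m) = (show Ov O W from b) ⊗ₜ[Ob O V.left] ((1 : Ov O V) ⊗ₜ[Ob O E] m) := rfl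

theorem psi_rho {E : C} (N : Type (u + 1)) [AddCommGroup N] [Module (Ob O E) N] (V : Over E) (W : Over V.left)
    (z : Ov O V ⊗[Ob O E] N) :
    psi O N V W ((rho O (pr W)).toLinearMap.rTensor N z) = (1 : Ov O W) ⊗ₜ[Ob O V.left] z := by
  induction z using TensorProduct.induction_on with
  | zero => simp
  | add a b ha hb => simp only [map_add, TensorProduct.tmul_add, ha, hb]
  | tmul c m =>
    rw [LinearMap.rTensor_tmul, psi_tmul]
    have h1 : (show Ov O W from (rho O (pr W)).toLinearMap c) = (show Ob O V.left from c) • (1 : Ov O W) := by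
      rw [Algebra.smul_def, mul_one]
      rfl
    rw [h1, TensorProduct.smul_tmul, smul_tmul_left, mul_one]

theorem theta_psi {E : C} {N : Type (u + 1)} [AddCommGroup N] [Module (Ob O E) N] (κ : N →ₗ[Ob O E] Sec M E)
    (V : Over E) (W : Over V.left) (θ' : Ov O V ⊗[Ob O E] N →ₗ[Ob O V.left] Sec M V.left)
    (h : ∀ z, θ' z = theta κ V z) (z : Ov O (push W) ⊗[Ob O E] N) :
    theta θ' W (psi O N V W z) = theta κ (push W) z := by
  induction z using TensorProduct.induction_on with
  | zero => exact (congrArg _ (map_zero _)).trans ((map_zero _).trans (map_zero _).symm)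
  | add a b ha hb => simp only [map_add, ha, hb]
  | tmul c m =>
    rw [psi_tmul, theta_tmul, h, theta_tmul, theta_tmul]
    show (show Ob O W.left from c) • mres M W.hom ((1 : Ob O V.left) • mres M V.hom (κ m)) = _
    rw [one_smul, ← mres_comp]
    rfl

/-- Affine objects, with faithfully flat finite affine covers and affine overlaps. -/
structure AffSite where
  Aff : C → Prop
  fam : ∀ (V : C), Aff V → ∀ T ∈ J V, ∃ (n : Type u) (_ : Finite n) (W : n → C) (w : ∀ k, W k ⟶ V),
    (∀ k, Aff (W k) ∧ T.arrows (w k) ∧ Module.Flat (Ob O V) (Ov O (Over.mk (w k)))) ∧ Sieve.ofArrows W w ∈ J V ∧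
      ∀ P : Ideal (Ob O V), P.IsPrime → ∃ k, ∃ Q : Ideal (Ov O (Over.mk (w k))), Q.IsPrime ∧
        Q.comap (algebraMap (Ob O V) (Ov O (Over.mk (w k)))) = P
  flat : ∀ {V W : C} (w : W ⟶ V), Aff V → Aff W → Module.Flat (Ob O V) (Ov O (Over.mk w))
  ov : ∀ {V : C} (W W' : Over V), Aff V → Aff W.left → Aff W'.left →
    ∃ (P : Over V) (p : P ⟶ W) (p' : P ⟶ W'), Aff P.left ∧
      Function.Bijective (Algebra.TensorProduct.productMap (rho O p) (rho O p')) ∧
      ∀ (Z : Over V) (a : Z ⟶ W) (b : Z ⟶ W'), ∃ q : Z ⟶ P, q ≫ p = a ∧ q ≫ p' = b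

variable {O} (S : AffSite O)

section Local

variable {E : C} {N : Type (u + 1)} [AddCommGroup N] [Module (Ob O E) N] (κ : N →ₗ[Ob O E] Sec M E)

/-- Locally injective comparisons are injective. -/
theorem injective_theta
    (hinj : ∀ (V : Over E), S.Aff V.left → ∀ z, theta κ V z = 0 → ∃ T ∈ J V.left, ∀ ⦃W⦄ (w : W ⟶ V.left),
      S.Aff W → T.arrows w → (rho O (pr (Over.mk w))).toLinearMap.rTensor N z = 0)
    (V : Over E) (hV : S.Aff V.left) : Function.Injective (theta κ V) := by
  rw [injective_iff_map_eq_zero]
  intro z hz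
  obtain ⟨T, hT, hT'⟩ := hinj V hV z hz
  obtain ⟨n, _, W, w, hw, -, hS⟩ := S.fam V.left hV T hT
  haveI := fun k => (hw k).2.2
  refine eq_zero_of_forall (fun k => Ov O (Over.mk (w k))) hS z fun k => ?_
  rw [← psi_rho, hT' (w k) (hw k).1 (hw k).2.1, map_zero]

/-- A locally bijective comparison is bijective. -/
theorem bijective_theta
    (hinj : ∀ (V : Over E), S.Aff V.left → ∀ z, theta κ V z = 0 → ∃ T ∈ J V.left, ∀ ⦃W⦄ (w : W ⟶ V.left),
      S.Aff W → T.arrows w → (rho O (pr (Over.mk w))).toLinearMap.rTensor N z = 0)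
    (hsurj : ∀ (V : Over E), S.Aff V.left → ∀ x : Sec M V.left, ∃ T ∈ J V.left, ∀ ⦃W⦄ (w : W ⟶ V.left),
      S.Aff W → T.arrows w → ∃ z, theta κ (push (Over.mk w)) z = mres M w x)
    (V : Over E) (hV : S.Aff V.left) : Function.Bijective (theta κ V) := by
  refine ⟨injective_theta S κ hinj V hV, fun x => ?_⟩
  obtain ⟨T, hT, hT'⟩ := hsurj V hV x
  obtain ⟨n, _, W, w, hw, hcov, hS⟩ := S.fam V.left hV T hT
  haveI := fun k => (hw k).2.2
  let Wk : n → Over V.left := fun k => Over.mk (w k)
  choose z hz using fun k => hT' (w k) (hw k).1 (hw k).2.1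
  obtain ⟨y, hy⟩ := exists_of_equalizer (fun k => Ov O (Wk k)) hS (fun k => psi O N V (Wk k) (z k)) (fun k l => by
    obtain ⟨P, p, p', hP, hbij, -⟩ := S.ov (Wk k) (Wk l) hV (hw k).1 (hw l).1
    let e := AlgEquiv.ofBijective _ hbij
    apply (TensorProduct.congr e.toLinearEquiv (LinearEquiv.refl _ _)).injective
    let i : push (V := V) P ⟶ push (Wk k) := Over.homMk p.left (by
      show p.left ≫ (Wk k).hom ≫ V.hom = P.hom ≫ V.hom
      rw [Over.w_assoc])
    let i' : push (V := V) P ⟶ push (Wk l) := Over.homMk p'.left (by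
      show p'.left ≫ (Wk l).hom ≫ V.hom = P.hom ≫ V.hom
      rw [Over.w_assoc])
    have hzz : (rho O i).toLinearMap.rTensor N (z k) = (rho O i').toLinearMap.rTensor N (z l) := by
      apply injective_theta S κ hinj (push P) hP
      rw [theta_rho, theta_rho, hz, hz]
      show mres M p.left (mres M (w k) x) = mres M p'.left (mres M (w l) x)
      exact (mres_comp M (w k) p.left x).symm.trans
        ((congrArg (fun f => mres M f x) ((Over.w p).trans (Over.w p').symm)).trans (mres_comp M (w l) p'.left x))
    have eL : ∀ t, TensorProduct.congr e.toLinearEquiv (LinearEquiv.refl _ _)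
        ((Algebra.TensorProduct.includeLeft : Ov O (Wk k) →ₐ[Ob O V.left] _).toLinearMap.rTensor _
          (psi O N V (Wk k) t)) = psi O N V P ((rho O i).toLinearMap.rTensor N t) := by
      intro t
      induction t using TensorProduct.induction_on with
      | zero => simp
      | add a b ha hb => simp only [map_add, ha, hb]
      | tmul c m => simp [psi_tmul, e, rho_apply, i]
    have eR : ∀ t, TensorProduct.congr e.toLinearEquiv (LinearEquiv.refl _ _)
        ((Algebra.TensorProduct.includeRight : Ov O (Wk l) →ₐ[Ob O V.left] _).toLinearMap.rTensor _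
          (psi O N V (Wk l) t)) = psi O N V P ((rho O i').toLinearMap.rTensor N t) := by
      intro t
      induction t using TensorProduct.induction_on with
      | zero => simp
      | add a b ha hb => simp only [map_add, ha, hb]
      | tmul c m => simp [psi_tmul, e, rho_apply, i']
    rw [eL, eR, hzz])
  refine ⟨y, sec_ext_fam M w hcov fun k => ?_⟩
  let θ' : Ov O V ⊗[Ob O E] N →ₗ[Ob O V.left] Sec M V.left :=
    { toFun := theta κ V
      map_add' := map_add _
      map_smul' := fun c t => theta_smul κ V c t }
  have h := theta_psi O κ V (Wk k) θ' (fun _ => rfl) (z k)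
  rw [← hy k, theta_tmul, hz k] at h
  rw [← h]
  exact (one_smul (Ob O (W k)) _).symm

end Local

variable (M)

/-- The sections of a module on affine objects over an affine object are base changes. -/
def Good (E : C) : Prop :=
  ∀ V : Over E, S.Aff V.left → Function.Bijective (theta (LinearMap.id : Sec M E →ₗ[Ob O E] Sec M E) V)

variable {M}

/-- A bijective comparison with some module makes an object good. -/
theorem good_of_theta {E : C} (hE : S.Aff E) {N : Type (u + 1)} [AddCommGroup N] [Module (Ob O E) N]
    (κ : N →ₗ[Ob O E] Sec M E) (h : ∀ V : Over E, S.Aff V.left → Function.Bijective (theta κ V)) : Good M S E := by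
  let V₀ : Over E := Over.mk (𝟙 E)
  have h1 : ∀ (b : Ov O V₀) (m : N), b ⊗ₜ[Ob O E] m = (1 : Ov O V₀) ⊗ₜ[Ob O E] ((show Ob O E from b) • m) := fun b m => by
    rw [← TensorProduct.smul_tmul, Algebra.smul_def, mul_one]
    exact congrArg (· ⊗ₜ[Ob O E] m) (res_id O (show Ob O E from b)).symm
  have h2 : ∀ m, theta κ V₀ ((1 : Ov O V₀) ⊗ₜ[Ob O E] m) = κ m := fun m => (one_smul (Ob O E) _).trans (mres_id M _)
  have hκ : Function.Bijective κ := by
    obtain ⟨hi, hs⟩ := h V₀ hE
    refine ⟨(injective_iff_map_eq_zero κ).2 fun m hm => ?_, fun x => ?_⟩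
    · have h3 : (1 : Ov O V₀) ⊗ₜ[Ob O E] m = 0 := hi (by rw [h2, map_zero]; exact hm)
      have h4 := congrArg ((TensorProduct.lid (Ob O E) N).toLinearMap ∘ₗ (LinearMap.rTensor N
        ({ toFun := fun b => (show Ob O E from b)
           map_add' := fun _ _ => rfl
           map_smul' := fun a b => by
             show res O (𝟙 E) a * (show Ob O E from b) = a * (show Ob O E from b)
             rw [res_id] } : Ov O V₀ →ₗ[Ob O E] Ob O E))) h3
      rw [map_zero, LinearMap.comp_apply, LinearMap.rTensor_tmul] at h4
      exact (one_smul (Ob O E) m).symm.trans h4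
    · obtain ⟨z, rfl⟩ := hs x
      induction z using TensorProduct.induction_on with
      | zero => exact ⟨0, by rw [map_zero, map_zero]⟩
      | add a b ha hb =>
        obtain ⟨p, hp⟩ := ha
        obtain ⟨q, hq⟩ := hb
        exact ⟨p + q, by rw [map_add, map_add, hp, hq]⟩
      | tmul b m => exact ⟨(show Ob O E from b) • m, by rw [h1 b m, h2]⟩
  intro V hV
  let e := LinearEquiv.ofBijective κ hκ
  have h3 : ∀ z, theta (LinearMap.id : Sec M E →ₗ[Ob O E] Sec M E) V z = theta κ V (e.symm.toLinearMap.lTensor (Ov O V) z) := by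
    intro z
    induction z using TensorProduct.induction_on with
    | zero => simp
    | add a b ha hb => simp only [map_add, ha, hb]
    | tmul b m =>
      rw [LinearMap.lTensor_tmul, theta_tmul, theta_tmul, LinearMap.id_apply]
      exact congrArg (fun v => (show Ob O V.left from b) • mres M V.hom v) (e.apply_symm_apply m).symm
  exact (funext h3 : ⇑(theta _ V) = _) ▸
    (h V hV).comp (TensorProduct.congr (LinearEquiv.refl (Ob O E) (Ov O V)) e.symm).bijective

variable (M)

/-- Sections over an object over a base, as a module over the base. -/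
def SecO {E : C} (V : Over E) : Type (u + 1) := Sec M V.left

instance {E : C} (V : Over E) : AddCommGroup (SecO M V) := inferInstanceAs (AddCommGroup (Sec M V.left))

instance {E : C} (V : Over E) : Module (Ov O V) (SecO M V) := inferInstanceAs (Module (Ob O V.left) (Sec M V.left))

instance {E : C} (V : Over E) : Module (Ob O E) (SecO M V) := Module.compHom _ (algebraMap (Ob O E) (Ov O V))

instance {E : C} (V : Over E) : IsScalarTower (Ob O E) (Ov O V) (SecO M V) :=
  ⟨fun a b m => by rw [Algebra.smul_def, mul_smul]; rfl⟩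

/-- Restriction of sections over a base. -/
def mresA {E : C} {V W : Over E} (f : W ⟶ V) : SecO M V →ₗ[Ob O E] SecO M W where
  toFun := mres M f.left
  map_add' := map_add _
  map_smul' a m := by
    show mres M f.left ((res O V.hom a) • (show Sec M V.left from m)) = (res O W.hom a) • mres M f.left m
    rw [mres_smul, ← res_comp, Over.w]

/-- Products of sections on an overlap. -/
def phi {E : C} {V Y P : Over E} (p : P ⟶ V) (p' : P ⟶ Y) : Ov O V ⊗[Ob O E] SecO M Y →+ SecO M P :=
  TensorProduct.liftAddHom
    { toFun := fun b =>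
        { toFun := fun m => rho O p b • mresA M p' m
          map_zero' := by rw [map_zero, smul_zero]
          map_add' := fun m m' => by rw [map_add, smul_add] }
      map_zero' := AddMonoidHom.ext fun m => by
        show rho O p 0 • mresA M p' m = 0
        rw [map_zero, zero_smul]
      map_add' := fun b b' => AddMonoidHom.ext fun m => by
        show rho O p (b + b') • mresA M p' m = rho O p b • mresA M p' m + rho O p b' • mresA M p' m
        rw [map_add, add_smul] }
    (fun a b m => by
      show rho O p (a • b) • mresA M p' m = rho O p b • mresA M p' (a • m)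
      rw [map_smul, map_smul, smul_assoc, smul_comm])

theorem phi_tmul {E : C} {V Y P : Over E} (p : P ⟶ V) (p' : P ⟶ Y) (b : Ov O V) (m : SecO M Y) :
    phi M p p' (b ⊗ₜ m) = rho O p b • mresA M p' m := rfl

theorem phi_nat {E : C} {V Y Y' P P' : Over E} (p : P ⟶ V) (p' : P ⟶ Y) (q : P' ⟶ V) (q' : P' ⟶ Y') (f : Y' ⟶ Y)
    (r : P' ⟶ P) (h : r ≫ p = q) (h' : r ≫ p' = q' ≫ f) (z : Ov O V ⊗[Ob O E] SecO M Y) :
    phi M q q' ((mresA M f).lTensor (Ov O V) z) = mresA M r (phi M p p' z) := by
  induction z using TensorProduct.induction_on with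
  | zero => simp
  | add a b ha hb => simp only [map_add, ha, hb]
  | tmul b m =>
    rw [LinearMap.lTensor_tmul, phi_tmul, phi_tmul]
    show res O q.left (show Ob O V.left from b) • mres M q'.left (mres M f.left m) =
      mres M r.left (res O p.left (show Ob O V.left from b) • mres M p'.left m)
    rw [mres_smul, ← res_comp, ← mres_comp, ← mres_comp]
    have e := congrArg CommaMorphism.left h'
    have e' := congrArg CommaMorphism.left h
    simp only [Over.comp_left] at e e'
    rw [e, e']

theorem bijective_phi {E : C} {V Y P : Over E} (p : P ⟶ V) (p' : P ⟶ Y) (hY : Good M S Y.left) (hP : S.Aff P.left)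
    (hbij : Function.Bijective (Algebra.TensorProduct.productMap (rho O p) (rho O p'))) :
    Function.Bijective (phi M p p') := by
  let P' : Over Y.left := Over.mk p'.left
  let e := AlgEquiv.ofBijective _ hbij
  let ξ : Ov O V ⊗[Ob O E] SecO M Y →+ Ov O P' ⊗[Ob O Y.left] Sec M Y.left :=
    TensorProduct.liftAddHom
      { toFun := fun b =>
          { toFun := fun m => (show Ov O P' from rho O p b) ⊗ₜ[Ob O Y.left] (show Sec M Y.left from m)
            map_zero' := TensorProduct.tmul_zero _ _
            map_add' := fun m m' => TensorProduct.tmul_add _ _ _ }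
        map_zero' := AddMonoidHom.ext fun m => by
          show (show Ov O P' from rho O p 0) ⊗ₜ[Ob O Y.left] (show Sec M Y.left from m) = 0
          rw [map_zero]
          exact TensorProduct.zero_tmul _ _
        map_add' := fun b b' => AddMonoidHom.ext fun m => by
          show (show Ov O P' from rho O p (b + b')) ⊗ₜ[Ob O Y.left] (show Sec M Y.left from m) = _
          rw [map_add]
          exact TensorProduct.add_tmul _ _ _ }
      (fun a b m => by
        show (show Ov O P' from rho O p (a • b)) ⊗ₜ[Ob O Y.left] (show Sec M Y.left from m) =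
          (show Ov O P' from rho O p b) ⊗ₜ[Ob O Y.left] ((res O Y.hom a) • (show Sec M Y.left from m))
        rw [← TensorProduct.smul_tmul (res O Y.hom a), map_smul]
        congr 1
        rw [Algebra.smul_def, Algebra.smul_def]
        show (show Ob O P.left from res O P.hom a) * _ = (show Ob O P.left from res O p'.left (res O Y.hom a)) * _
        rw [← res_comp, Over.w])
  let sm : SecO M Y → (Ov O Y →ₗ[Ob O E] SecO M Y) := fun m => (LinearMap.toSpanSingleton (Ov O Y) _ m).restrictScalars _
  let f : Ov O P' → SecO M Y → Ov O V ⊗[Ob O E] SecO M Y := fun r m =>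
    (sm m).lTensor (Ov O V) (e.symm (show Ov O P from r))
  have hsm : ∀ (c : Ov O Y) (m : SecO M Y) (t : Ov O V ⊗[Ob O E] Ov O Y),
      (sm m).lTensor (Ov O V) (((1 : Ov O V) ⊗ₜ[Ob O E] c) * t) = (sm (c • m)).lTensor (Ov O V) t := by
    intro c m t
    induction t using TensorProduct.induction_on with
    | zero => simp
    | add a b ha hb => simp only [mul_add, map_add, ha, hb]
    | tmul b d =>
      simp [sm, mul_smul, smul_comm c d]
  have hadd : ∀ (m m' : SecO M Y) (t : Ov O V ⊗[Ob O E] Ov O Y),
      (sm (m + m')).lTensor (Ov O V) t = (sm m).lTensor (Ov O V) t + (sm m').lTensor (Ov O V) t := by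
    intro m m' t
    induction t using TensorProduct.induction_on with
    | zero => simp
    | add a b ha hb => simp only [map_add, ha, hb]; abel
    | tmul b d => simp [sm, TensorProduct.tmul_add]
  let g : Ov O P' ⊗[Ob O Y.left] Sec M Y.left →+ Ov O V ⊗[Ob O E] SecO M Y :=
    TensorProduct.liftAddHom
      { toFun := fun r =>
          { toFun := fun m => f r m
            map_zero' := by
              have h0 := hadd 0 0 (e.symm (show Ov O P from r))
              rw [add_zero] at h0
              exact add_eq_left.1 h0.symm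
            map_add' := fun m m' => hadd m m' _ }
        map_zero' := AddMonoidHom.ext fun m => by
          show (sm m).lTensor (Ov O V) (e.symm (0 : Ov O P)) = 0
          rw [map_zero, map_zero]
        map_add' := fun r r' => AddMonoidHom.ext fun m => by
          show (sm m).lTensor (Ov O V) (e.symm ((show Ov O P from r) + (show Ov O P from r'))) = _
          rw [map_add, map_add]
          rfl }
      (fun c r m => by
        show (sm m).lTensor (Ov O V) (e.symm ((rho O p' (show Ov O Y from c)) * (show Ov O P from r))) =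
          (sm ((show Ov O Y from c) • m)).lTensor (Ov O V) (e.symm (show Ov O P from r))
        rw [← hsm, map_mul]
        congr 2
        apply e.injective
        simp [e])
  have hgξ : ∀ z, g (ξ z) = z := by
    intro z
    induction z using TensorProduct.induction_on with
    | zero => simp
    | add a b ha hb => simp only [map_add, ha, hb]
    | tmul b m =>
      show (sm m).lTensor (Ov O V) (e.symm (rho O p b)) = b ⊗ₜ[Ob O E] m
      have : e.symm (rho O p b) = b ⊗ₜ[Ob O E] (1 : Ov O Y) := e.injective (by simp [e])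
      rw [this]
      simp [sm]
  have hξg : ∀ z, ξ (g z) = z := by
    intro z
    induction z using TensorProduct.induction_on with
    | zero => simp
    | add a b ha hb => simp only [map_add, ha, hb]
    | tmul r m =>
      obtain ⟨t, ht⟩ := e.surjective (show Ov O P from r)
      show ξ ((sm m).lTensor (Ov O V) (e.symm (show Ov O P from r))) = r ⊗ₜ[Ob O Y.left] m
      rw [← ht, AlgEquiv.symm_apply_apply]
      have key : ∀ t, ξ ((sm m).lTensor (Ov O V) t) = (show Ov O P' from e t) ⊗ₜ[Ob O Y.left] (show Sec M Y.left from m) := by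
        intro t
        induction t using TensorProduct.induction_on with
        | zero => simp only [map_zero]; exact (TensorProduct.zero_tmul _ _).symm
        | add a b ha hb =>
          simp only [map_add, ha, hb]
          exact (TensorProduct.add_tmul _ _ _).symm
        | tmul b d =>
          show (show Ov O P' from rho O p b) ⊗ₜ[Ob O Y.left] ((show Ob O Y.left from d) • (show Sec M Y.left from m)) = _
          rw [← TensorProduct.smul_tmul, Algebra.smul_def, mul_comm]
          congr 1
      rw [key t, ht]
  have hθ : ∀ z, theta (LinearMap.id : Sec M Y.left →ₗ[Ob O Y.left] Sec M Y.left) P' (ξ z) = phi M p p' z := by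
    intro z
    induction z using TensorProduct.induction_on with
    | zero => simp only [map_zero]
    | add a b ha hb => simp only [map_add, ha, hb]
    | tmul b m => rfl
  exact (funext hθ : _ = ⇑(phi M p p')) ▸ (hY P' hP).comp
    ⟨Function.LeftInverse.injective hgξ, Function.RightInverse.surjective hξg⟩

/-- Goodness is local. -/
theorem good_of_cover {E : C} (hE : S.Aff E) {T : Sieve E} (hT : T ∈ J E)
    (hgood : ∀ ⦃Z : C⦄ (z : Z ⟶ E), S.Aff Z → T.arrows z → Good M S Z) : Good M S E := by
  classical
  obtain ⟨n, _, W, w, hw, hcov, -⟩ := S.fam E hE T hT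
  intro V hV
  haveI : Module.Flat (Ob O E) (Ov O V) := S.flat V.hom hE hV
  let Wk : n → Over E := fun k => Over.mk (w k)
  choose Pk pk pk' hPk hbk hlk using fun k => S.ov V (Wk k) hE hV (hw k).1
  choose Q r r' hQ hbQ hlQ using fun kl : n × n => S.ov (Wk kl.1) (Wk kl.2) hE (hw kl.1).1 (hw kl.2).1
  choose Pq pq pq' hPq hbq hlq using fun kl : n × n => S.ov V (Q kl) hE hV (hQ kl)
  have hQgood : ∀ kl, Good M S (Q kl).left := fun kl =>
    hgood (Q kl).hom (hQ kl) (by rw [← Over.w (r kl)]; exact T.downward_closed (hw kl.1).2.1 _)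
  let ε : Sec M E →ₗ[Ob O E] (∀ k, SecO M (Wk k)) := LinearMap.pi fun k =>
    { toFun := mres M (w k)
      map_add' := map_add _
      map_smul' := fun a m => mres_smul M (w k) a m }
  let δ : (∀ k, SecO M (Wk k)) →ₗ[Ob O E] (∀ kl, SecO M (Q kl)) := LinearMap.pi fun kl =>
    (mresA M (r kl)).comp (LinearMap.proj kl.1) - (mresA M (r' kl)).comp (LinearMap.proj kl.2)
  haveI := Fintype.ofFinite n
  have hεinj : Function.Injective ε := fun m m' h => sec_ext_fam M w hcov fun k => congrFun h k
  have hex : Function.Exact ε δ := by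
    intro y
    constructor
    · intro hy
      let F := M.val.presheaf ⋙ CategoryTheory.forget AddCommGrpCat.{u + 1}
      have hF : Presieve.IsSheafFor F (Presieve.ofArrows W w) := by
        have h := (isSheaf_iff_isSheaf_of_type _ _).1
          ((Presheaf.isSheaf_iff_isSheaf_forget J M.val.presheaf (CategoryTheory.forget AddCommGrpCat.{u + 1})).1
            M.isSheaf) _ hcov
        rwa [Sieve.ofArrows, ← Presieve.isSheafFor_iff_generate] at h
      obtain ⟨s, hs, -⟩ := (Presieve.isSheafFor_arrows_iff _ _).1 hF (fun k => (y k : Sec M (W k)))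
        (fun k l Z a b hab => by
          obtain ⟨q, hq, hq'⟩ := hlQ (k, l) (Over.mk (a ≫ w k)) (Over.homMk a rfl) (Over.homMk b hab.symm)
          have h0 : mresA M (r (k, l)) (y k) = mresA M (r' (k, l)) (y l) := sub_eq_zero.1 (congrFun hy (k, l))
          have e := congrArg CommaMorphism.left hq
          have e' := congrArg CommaMorphism.left hq'
          simp only [Over.comp_left, Over.homMk_left] at e e'
          show mres M a (y k) = mres M b (y l)
          rw [← e, ← e', mres_comp, mres_comp]
          exact congrArg (mres M q.left) h0)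
      exact ⟨s, funext fun k => hs k⟩
    · rintro ⟨s, rfl⟩
      funext kl
      show mres M (r kl).left (mres M (w kl.1) s) - mres M (r' kl).left (mres M (w kl.2) s) = 0
      rw [sub_eq_zero]
      exact (mres_comp M (w kl.1) (r kl).left s).symm.trans ((congrArg (fun f => mres M f s)
        ((Over.w (r kl)).trans (Over.w (r' kl)).symm)).trans (mres_comp M (w kl.2) (r' kl).left s))
  have hcomp : ∀ k (z : Ov O V ⊗[Ob O E] Sec M E),
      phi M (pk k) (pk' k) (((LinearMap.proj k).comp ε).lTensor (Ov O V) z) =
        mres M (pk k).left (theta (LinearMap.id : Sec M E →ₗ[Ob O E] Sec M E) V z) := by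
    intro k z
    induction z using TensorProduct.induction_on with
    | zero => simp only [map_zero]
    | add a b ha hb => simp only [map_add, ha, hb]
    | tmul b m =>
      rw [LinearMap.lTensor_tmul, phi_tmul, theta_tmul, LinearMap.id_apply, mres_smul]
      show res O (pk k).left b • mres M (pk' k).left (mres M (w k) m) = _
      congr 1
      exact (mres_comp M (w k) (pk' k).left m).symm.trans ((congrArg (fun f => mres M f m)
        ((Over.w (pk' k)).trans (Over.w (pk k)).symm)).trans (mres_comp M V.hom (pk k).left m))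
  let πk := fun k => (LinearMap.proj k : (∀ k, SecO M (Wk k)) →ₗ[Ob O E] SecO M (Wk k))
  have hpiR : ∀ (k : n) (z : Ov O V ⊗[Ob O E] (∀ k, SecO M (Wk k))),
      (πk k).lTensor (Ov O V) z = TensorProduct.piRight (Ob O E) (Ob O E) (Ov O V) (fun k => SecO M (Wk k)) z k := by
    intro k z
    induction z using TensorProduct.induction_on with
    | zero => simp
    | add a b ha hb => simp only [map_add, Pi.add_apply, ha, hb]
    | tmul b m => simp [πk]
  refine ⟨(injective_iff_map_eq_zero _).2 fun z hz => ?_, fun x => ?_⟩
  · apply Module.Flat.lTensor_preserves_injective_linearMap (M := Ov O V) ε hεinj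
    rw [map_zero]
    apply (TensorProduct.piRight (Ob O E) (Ob O E) (Ov O V) (fun k => SecO M (Wk k))).injective
    funext k
    rw [← hpiR, map_zero, Pi.zero_apply, ← LinearMap.comp_apply, ← LinearMap.lTensor_comp]
    apply (bijective_phi M S (pk k) (pk' k) (hgood _ (hw k).1 (hw k).2.1) (hPk k) (hbk k)).1
    rw [hcomp, hz, map_zero, map_zero]
  · choose y hy using fun k => (bijective_phi M S (pk k) (pk' k) (hgood _ (hw k).1 (hw k).2.1) (hPk k) (hbk k)).2
      (mres M (pk k).left x)
    let yy := (TensorProduct.piRight (Ob O E) (Ob O E) (Ov O V) (fun k => SecO M (Wk k))).symm y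
    have hyy : ∀ k, (πk k).lTensor (Ov O V) yy = y k := fun k => by
      rw [hpiR]
      exact congrFun ((TensorProduct.piRight (Ob O E) (Ob O E) (Ov O V) (fun k => SecO M (Wk k))).apply_symm_apply y) k
    have hδ : δ.lTensor (Ov O V) yy = 0 := by
      apply (TensorProduct.piRight (Ob O E) (Ob O E) (Ov O V) (fun kl => SecO M (Q kl))).injective
      funext kl
      have h1 : ∀ z, TensorProduct.piRight (Ob O E) (Ob O E) (Ov O V) (fun kl => SecO M (Q kl)) (δ.lTensor (Ov O V) z) kl =
          (mresA M (r kl)).lTensor (Ov O V) ((πk kl.1).lTensor (Ov O V) z) -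
            (mresA M (r' kl)).lTensor (Ov O V) ((πk kl.2).lTensor (Ov O V) z) := by
        intro z
        induction z using TensorProduct.induction_on with
        | zero => simp
        | add a b ha hb => simp only [map_add, Pi.add_apply, ha, hb]; abel
        | tmul b m => simp [δ, πk, TensorProduct.tmul_sub]
      rw [h1, hyy, hyy, map_zero, Pi.zero_apply, sub_eq_zero]
      obtain ⟨q₁, hq₁, hq₁'⟩ := hlk kl.1 (Pq kl) (pq kl) (pq' kl ≫ r kl)
      obtain ⟨q₂, hq₂, hq₂'⟩ := hlk kl.2 (Pq kl) (pq kl) (pq' kl ≫ r' kl)
      apply (bijective_phi M S (pq kl) (pq' kl) (hQgood kl) (hPq kl) (hbq kl)).1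
      rw [phi_nat M (pk kl.1) (pk' kl.1) (pq kl) (pq' kl) (r kl) q₁ hq₁ hq₁' (y kl.1),
        phi_nat M (pk kl.2) (pk' kl.2) (pq kl) (pq' kl) (r' kl) q₂ hq₂ hq₂' (y kl.2), hy, hy]
      show mres M q₁.left (mres M (pk kl.1).left x) = mres M q₂.left (mres M (pk kl.2).left x)
      rw [← mres_comp, ← mres_comp]
      exact congrArg (fun f => mres M f x) ((congrArg CommaMorphism.left hq₁).trans (congrArg CommaMorphism.left hq₂).symm)
    obtain ⟨z, hz⟩ := (Module.Flat.lTensor_exact (Ov O V) hex yy).1 hδ
    refine ⟨z, sec_ext M (J.pullback_stable V.hom hcov) fun Z a ha => ?_⟩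
    obtain ⟨_, b, _, ⟨k⟩, hb⟩ := ha
    obtain ⟨q, hq, -⟩ := hlk k (Over.mk (a ≫ V.hom)) (Over.homMk a rfl) (Over.homMk b hb)
    have e := congrArg CommaMorphism.left hq
    simp only [Over.comp_left, Over.homMk_left] at e
    rw [← e, mres_comp, mres_comp]
    refine congrArg (mres M q.left) ((hcomp k z).symm.trans ?_)
    rw [LinearMap.lTensor_comp, LinearMap.comp_apply, hz, hyy, hy]

end GrothLib.AlgSp.QCohEt
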