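import Groth.Agent.Lib.AlgSp.QCohAbelian
import Groth.Agent.Lib.AlgSp.QCohFP

/-!
# Exhaustive directed systems of submodules are colimits

* `nonempty_isColimit_of_exhaustive`.
-/

universe u v w

open CategoryTheory CategoryTheory.Limits Opposite
set_option backward.isDefEq.respectTransparency false

noncomputable section

namespace GrothLib.AlgSp.QCohEt

variable {C : Type (u + 1)} [Category.{u} C] {J : GrothendieckTopology C} {O : Sheaf J CommRingCat.{u + 1}}

/-- A directed system of submodules which is locally exhaustive has the module as colimit. -/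
theorem nonempty_isColimit_of_exhaustive {P : Type w} [Category.{v} P] [IsFiltered P]
    {D : P ⥤ SheafOfModules.{u + 1} (RR O)} (c : Cocone D) [∀ p, Mono (c.ι.app p)]
    (hex : ∀ (V : C) (x : Sec c.pt V), ∃ T ∈ J V, ∀ ⦃W : C⦄ (g : W ⟶ V), T.arrows g →
      ∃ (p : P) (y : Sec (D.obj p) W), app (c.ι.app p) W y = mres c.pt g x) :
    Nonempty (IsColimit c) := by
  classical
  let ι : ∀ p, D.obj p ⟶ c.pt := fun p => c.ι.app p
  let τ : ∀ (s : Cocone D) (p : P), D.obj p ⟶ s.pt := fun s p => s.ι.app p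
  have hι : ∀ {p q : P} (a : p ⟶ q), D.map a ≫ ι q = ι p := fun a => c.w a
  have hτ : ∀ (s : Cocone D) {p q : P} (a : p ⟶ q), D.map a ≫ τ s q = τ s p := fun s _ _ a => s.w a
  haveI : ∀ p, Mono (ι p) := fun p => inferInstanceAs (Mono (c.ι.app p))
  have hex : ∀ (V : C) (x : Sec c.pt V), ∃ T ∈ J V, ∀ ⦃W : C⦄ (g : W ⟶ V), T.arrows g →
      ∃ (p : P) (y : Sec (D.obj p) W), app (ι p) W y = mres c.pt g x := hex
  let IsVal : ∀ (s : Cocone D) (V : C), Sec c.pt V → Sec s.pt V → Prop := fun s V x z =>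
    ∀ ⦃W : C⦄ (g : W ⟶ V) (p : P) (y : Sec (D.obj p) W), app (ι p) W y = mres c.pt g x →
      app (τ s (p)) W y = mres s.pt g z
  have hwd : ∀ (s : Cocone D) (W : C) (p q : P) (y : Sec (D.obj p) W) (y' : Sec (D.obj q) W),
      app (ι p) W y = app (ι q) W y' → app (τ s (p)) W y = app (τ s (q)) W y' := by
    intro s W p q y y' h
    let r := IsFiltered.max p q
    let a := IsFiltered.leftToMax p q
    let b := IsFiltered.rightToMax p q
    have e : app (D.map a) W y = app (D.map b) W y' := app_injective (ι r) W (by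
      rw [← app_comp, ← app_comp, hι, hι, h])
    rw [← hτ s a, ← hτ s b, app_comp, app_comp, e]
  have key : ∀ (s : Cocone D) (V : C) (x : Sec c.pt V), ∃! z, IsVal s V x z := by
    intro s V x
    obtain ⟨T, hT, hT'⟩ := hex V x
    choose p y hy using fun (W : C) (g : W ⟶ V) (hg : T.arrows g) => hT' g hg
    let fam : Presieve.FamilyOfElements (s.pt.val.presheaf ⋙ CategoryTheory.forget AddCommGrpCat.{u + 1}) T.arrows :=
      fun W g hg => app (τ s ((p W g hg))) W (y W g hg)
    have hfam : fam.Compatible := fun Z₁ Z₂ W g₁ g₂ f₁ f₂ h₁ h₂ e => by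
      show mres s.pt g₁ (app _ Z₁ (y _ f₁ h₁)) = mres s.pt g₂ (app _ Z₂ (y _ f₂ h₂))
      rw [← app_mres, ← app_mres]
      refine hwd s W _ _ _ _ ?_
      rw [app_mres, app_mres, hy, hy, ← mres_comp, ← mres_comp, e]
    have hsh : Presieve.IsSheaf J (s.pt.val.presheaf ⋙ CategoryTheory.forget AddCommGrpCat.{u + 1}) :=
      (isSheaf_iff_isSheaf_of_type _ _).1
        ((Presheaf.isSheaf_iff_isSheaf_forget J s.pt.val.presheaf (CategoryTheory.forget AddCommGrpCat.{u + 1})).1
          s.pt.isSheaf)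
    obtain ⟨z, hz, -⟩ := hsh _ hT fam hfam
    refine ⟨z, fun W g q y' hy' => ?_, fun z' hz' => sec_ext s.pt hT fun W g hg => ?_⟩
    · refine sec_ext s.pt (J.pullback_stable g hT) fun Z k hk => ?_
      rw [← app_mres, ← mres_comp]
      have e : mres s.pt (k ≫ g) z = fam (k ≫ g) hk := hz _ hk
      rw [e]
      refine hwd s Z _ _ _ _ ?_
      rw [app_mres, hy', ← mres_comp, hy]
    · have e : mres s.pt g z = fam g hg := hz _ hg
      rw [e]
      exact (hz' g (p W g hg) (y W g hg) (hy W g hg)).symm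
  choose val hval huniq using fun s V x => key s V x
  have huniq' : ∀ s V x z, IsVal s V x z → z = val s V x := huniq
  have hadd : ∀ s V x x', val s V (x + x') = val s V x + val s V x' := fun s V x x' => by
    symm
    refine huniq' s V _ _ fun W g q y hy => ?_
    obtain ⟨T, hT, hT'⟩ := hex W (mres c.pt g x)
    refine sec_ext s.pt hT fun Z k hk => ?_
    obtain ⟨p₁, y₁, hy₁⟩ := hT' k hk
    rw [← mres_comp] at hy₁
    let r := IsFiltered.max p₁ q
    let a := IsFiltered.leftToMax p₁ q
    let b := IsFiltered.rightToMax p₁ q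
    let y₂ : Sec (D.obj r) Z := app (D.map b) Z (mres (D.obj q) k y) - app (D.map a) Z y₁
    have h₂ : app (ι r) Z y₂ = mres c.pt (k ≫ g) x' := by
      show app (ι r) Z (app (D.map b) Z (mres (D.obj q) k y) - app (D.map a) Z y₁) = _
      rw [map_sub, ← app_comp, ← app_comp, hι, hι, app_mres, hy, ← mres_comp, hy₁, map_add, add_sub_cancel_left]
    rw [← app_mres, ← mres_comp, map_add, ← hval s V x (k ≫ g) p₁ y₁ hy₁, ← hval s V x' (k ≫ g) r y₂ h₂]
    show app (τ s (q)) Z (mres (D.obj q) k y) =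
      app (τ s (p₁)) Z y₁ + app (τ s (r)) Z (app (D.map b) Z (mres (D.obj q) k y) - app (D.map a) Z y₁)
    rw [map_sub, ← app_comp, ← app_comp, hτ, hτ, add_sub_cancel]
  have hsmul : ∀ s V (a : Ob O V) x, val s V (a • x) = a • val s V x := fun s V a x => by
    symm
    refine huniq' s V _ _ fun W g q y hy => ?_
    obtain ⟨T, hT, hT'⟩ := hex W (mres c.pt g x)
    refine sec_ext s.pt hT fun Z k hk => ?_
    obtain ⟨p₁, y₁, hy₁⟩ := hT' k hk
    rw [← mres_comp] at hy₁
    rw [← app_mres, ← mres_comp, mres_smul, ← hval s V x (k ≫ g) p₁ y₁ hy₁, ← map_smul]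
    refine hwd s Z _ _ _ _ ?_
    rw [app_mres, hy, ← mres_comp, mres_smul, map_smul, hy₁]
  have hnat : ∀ s (V W : C) (g : W ⟶ V) x, mres s.pt g (val s V x) = val s W (mres c.pt g x) := fun s V W g x => by
    refine huniq' s W _ _ fun Z k q y hy => ?_
    rw [← mres_comp]
    exact hval s V x (k ≫ g) q y (by rw [hy, ← mres_comp])
  let desc : ∀ s : Cocone D, c.pt ⟶ s.pt := fun s => ⟨PresheafOfModules.homMk
    { app := fun V => AddCommGrpCat.ofHom (AddMonoidHom.mk' (fun x => val s V.unop x) (hadd s V.unop))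
      naturality := fun V W g => by
        ext x
        exact (hnat s V.unop W.unop g.unop x).symm }
    fun V a x => hsmul s V.unop a x⟩
  have hdesc : ∀ s V x, app (desc s) V x = val s V x := fun _ _ _ => rfl
  refine ⟨{ desc := desc, fac := fun s p => ?_, uniq := fun s m hm => ?_ }⟩
  · ext1
    refine PresheafOfModules.hom_ext fun V => ?_
    ext y
    show app (c.ι.app p ≫ desc s) V.unop y = app (τ s (p)) V.unop y
    rw [app_comp]
    refine (hdesc s V.unop _).trans ?_
    have h := hval s V.unop (app (ι p) V.unop y) (𝟙 _) p y (mres_id _ _).symm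
    rw [mres_id] at h
    exact h.symm
  · ext1
    refine PresheafOfModules.hom_ext fun V => ?_
    ext x
    show app m V.unop x = app (desc s) V.unop x
    rw [hdesc]
    refine huniq' s V.unop x _ fun W g q y hy => ?_
    rw [← show ι q ≫ m = τ s q from hm q, app_comp, hy, app_mres]

end GrothLib.AlgSp.QCohEt
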