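import Groth.Agent.Lib.FibreDimAt6.Generic
import Mathlib.AlgebraicGeometry.Morphisms.Smooth
import Mathlib.RingTheory.RingHom.StandardSmooth

import Groth.Agent.Lib.FibreDimAt6.Smooth
import Groth.Agent.Lib.AlgSp.LqfPoint
import Groth.Agent.Lib.AlgSp.PointProps
import Groth.Agent.Lib.AlgSp.FlatPoint
import Groth.Agent.Lib.CMMor6.LocalDim
import Groth.Agent.Lib.Equidim6.RelDim
import Groth.Agent.Lib.Equidim6.Retro
import Groth.Agent.Lib.EtFibre.Basic

/-!
# Relative dimension and local dimension for algebraic spaces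

* `fibreDimAt_eq_of_standardSmooth`, `exists_open_fibreDimAt_eq_of_smooth`, `exists_noeth_chart_at`.
-/

set_option autoImplicit false
universe u
open CategoryTheory CategoryTheory.Limits AlgebraicGeometry Topology
set_option backward.isDefEq.respectTransparency false
set_option linter.style.haveILetI false

namespace GrothLib.AlgSp

open _root_.AlgSp GrothLib.FibreDimAt6

theorem fibreDimAt_eq_of_standardSmooth (n : ℕ) {X Y : Scheme.{u}} (f : X ⟶ Y) {V : Y.Opens} (hV : IsAffineOpen V)
    {W : X.Opens} (hW : IsAffineOpen W) (hsub : W ≤ f ⁻¹ᵁ V)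
    (hstd : RingHom.IsStandardSmoothOfRelativeDimension n (f.appLE V W hsub).hom) (x : X) (hxW : x ∈ W) :
    FlatMor.fibreDimAt f x = (n : WithBot ℕ∞) := by
  let R : CommRingCat.{u} := Γ(Y, V)
  let A : CommRingCat.{u} := Γ(X, W)
  obtain ⟨g, hg, het⟩ := RingHom.IsStandardSmoothOfRelativeDimension.exists_etale_mvPolynomial hstd
  letI := (f.appLE V W hsub).hom.toAlgebra
  letI := g.toAlgebra
  haveI : IsScalarTower R (MvPolynomial (Fin n) R) A := IsScalarTower.of_algebraMap_eq fun r =>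
    (RingHom.congr_fun hg r).symm
  haveI : Algebra.Etale (MvPolynomial (Fin n) R) A := het
  haveI : Algebra.FiniteType R A := Algebra.FiniteType.trans (S := MvPolynomial (Fin n) R) inferInstance inferInstance
  have hsq : hW.fromSpec ≫ f = Spec.map (CommRingCat.ofHom (algebraMap R A)) ≫ hV.fromSpec :=
    (hV.SpecMap_appLE_fromSpec f hW hsub).symm
  obtain ⟨q, hq⟩ : ∃ q : PrimeSpectrum A, hW.fromSpec q = x := hW.range_fromSpec.symm.subset hxW
  have hfs : f x = hV.fromSpec (PrimeSpectrum.comap (algebraMap R A) q) := by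
    rw [← hq, ← Scheme.Hom.comp_apply, hsq]
    rfl
  have key : ∀ (e : A), e ∉ q.asIdeal →
      topologicalKrullDim ↥(hW.fromSpec '' (PrimeSpectrum.basicOpen e : Set (PrimeSpectrum A)) ∩ f ⁻¹' {f x}) =
        (n : WithBot ℕ∞) := fun e he => by
    let ℓ : Spec (CommRingCat.of (Localization.Away e)) ⟶ Spec A :=
      Spec.map (CommRingCat.ofHom (algebraMap A (Localization.Away e)))
    haveI : IsOpenImmersion ℓ := IsOpenImmersion.of_isLocalization e
    have hr : Set.range (ℓ ≫ hW.fromSpec) = hW.fromSpec '' (PrimeSpectrum.basicOpen e : Set (PrimeSpectrum A)) := by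
      rw [Scheme.Hom.comp_base, TopCat.coe_comp, Set.range_comp]
      exact congrArg _ (PrimeSpectrum.localization_away_comap_range (Localization.Away e) e)
    have hj : (ℓ ≫ hW.fromSpec) ≫ f =
        Spec.map (CommRingCat.ofHom (algebraMap R (Localization.Away e))) ≫ hV.fromSpec := by
      rw [Category.assoc, hsq, ← Category.assoc, ← Spec.map_comp, ← CommRingCat.ofHom_comp,
        ← IsScalarTower.algebraMap_eq]
    rw [← hr, hfs, dim_trace f (ℓ ≫ hW.fromSpec) hV.fromSpec hj]
    exact dim_fiber_away_eq q e he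
  refine le_antisymm ?_ ?_
  · refine le_trans (fibreDimAt_le_of_open f x W hxW) (le_of_eq ?_)
    rw [← key 1 (fun h => q.isPrime.ne_top ((Ideal.eq_top_iff_one _).mpr h))]
    rw [PrimeSpectrum.basicOpen_one, TopologicalSpace.Opens.coe_top]
    exact congrArg (fun Z : Set X => topologicalKrullDim ↥(Z ∩ f ⁻¹' {f x}))
      ((Set.image_univ (f := hW.fromSpec)).trans hW.range_fromSpec).symm
  · obtain ⟨U, hxU, hU⟩ := fibreDimAt_attained f x
    obtain ⟨_, ⟨e, rfl⟩, he, hsubU⟩ := PrimeSpectrum.isTopologicalBasis_basic_opens.exists_subset_of_mem_open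
      (show q ∈ (hW.fromSpec ⁻¹' (U : Set X) : Set (PrimeSpectrum A)) from (congrArg (· ∈ (U : Set X)) hq).mpr hxU)
      (U.2.preimage hW.fromSpec.continuous)
    rw [← hU, ← key e he]
    exact (Topology.IsEmbedding.inclusion (Set.inter_subset_inter_left _
      (Set.image_subset_iff.mpr hsubU))).isInducing.topologicalKrullDim_le

/-- The fibre dimension of a smooth morphism is locally constant. -/
theorem exists_open_fibreDimAt_eq_of_smooth {X Y : Scheme.{u}} (f : X ⟶ Y) [Smooth f] (x : X) :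
    ∃ (n : ℕ) (W : X.Opens), x ∈ W ∧ ∀ y ∈ W, FlatMor.fibreDimAt f y = (n : WithBot ℕ∞) := by
  obtain ⟨V, hV, W, hW, hxW, e, hstd⟩ := Smooth.exists_isStandardSmooth f x
  letI := (f.appLE V W e).hom.toAlgebra
  haveI : Algebra.IsStandardSmooth Γ(Y, V) Γ(X, W) := hstd
  obtain ⟨ι, σ, hσ, hι, ⟨P⟩⟩ := Algebra.IsStandardSmooth.out (R := Γ(Y, V)) (S := Γ(X, W))
  exact ⟨P.dimension, W, hxW, fun y hy => fibreDimAt_eq_of_standardSmooth P.dimension f hV hW e
    (⟨ι, σ, hσ, hι, P, rfl⟩ : Algebra.IsStandardSmoothOfRelativeDimension P.dimension Γ(Y, V) Γ(X, W)) y hy⟩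

variable {S : Scheme.{u}} {X Y : Sp S}

/-- Charts of noetherian schemes at a point of a morphism of finite type to a locally noetherian space. -/
theorem exists_noeth_chart_at (hX : IsAlgSpace X) (hY : IsAlgSpace Y) (hN : IsLocNoethSp Y) {f : X ⟶ Y}
    (hf : LocP @LocallyOfFiniteType f) (x : Points X) :
    ∃ (U V : Over S) (a : (yon S).obj U ⟶ X) (b : (yon S).obj V ⟶ Y) (h : U ⟶ V) (u : ↥U.left),
      RepWith @Etale a ∧ RepWith @Etale b ∧ IsLocallyNoetherian U.left ∧ IsLocallyNoetherian V.left ∧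
        a ≫ f = (yon S).map h ≫ b ∧ Points.ofPt a u = x := by
  obtain ⟨V, q, qe, qs, hV⟩ := hN
  obtain ⟨U, p, α, pe, hp, hps⟩ := exists_chart_over hX hY f q qe
  obtain ⟨u, rfl⟩ := surjective_ofPt_of_repWith (hps qs) x
  haveI : IsLocallyNoetherian V.left := hV
  haveI : LocallyOfFiniteType α.left := hf p q α pe qe hp
  exact ⟨U, V, p, q, α, u, pe, qe, LocallyOfFiniteType.isLocallyNoetherian α.left, ‹_›, hp, rfl⟩

end GrothLib.AlgSp
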