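import Groth.Prelude.Def_AlgSpRep
import Groth.Agent.Lib.AlgSp.UnramMono
import Groth.Agent.Lib.AlgSp.Quotient
import Groth.Agent.Lib.AlgSp.LocPPoints
import Groth.Agent.Lib.AlgSt.SpaceLemmas

/-!
# Maps of presheaves representable by algebraic spaces
-/

set_option backward.isDefEq.respectTransparency false
set_option backward.isDefEq.respectTransparency.types false

universe u

open CategoryTheory CategoryTheory.Limits AlgebraicGeometry Opposite

namespace GrothLib.AlgSp

open _root_.AlgSp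

variable {S : Scheme.{u}} {F G H : PSp S}

/-- A presheaf over an algebraic space, all whose pullbacks to schemes are algebraic spaces, is one. -/
theorem isAlgSpaceP_of_forall_pullback {P : PSp S} {Z : Sp S} (hZ : IsAlgSpace Z) (a : P ⟶ Z.obj)
    (h : ∀ (U : Over S) (y : (pyon S).obj U ⟶ Z.obj) {L : PSp S} (fst : L ⟶ (pyon S).obj U) (snd : L ⟶ P),
      IsPullback fst snd y a → IsAlgSpaceP L) : IsAlgSpaceP P :=
  GrothLib.AlgSt.exists_space_of_forall_pullback hZ a fun U y => by
    have sq := IsPullback.of_hasPullback y.hom a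
    obtain ⟨hs, hL⟩ := h U y.hom _ _ sq
    exact ⟨⟨_, hs⟩, _, _, hL, sq⟩

/-- The fibre product with an algebraic space of a map representable by algebraic spaces. -/
theorem isAlgSpaceP_of_isPullback {a : F ⟶ G} (ha : RepBySp a) {X : Sp S} (hX : IsAlgSpace X)
    {ξ : X.obj ⟶ G} {F' : PSp S} {fst : F' ⟶ X.obj} {snd : F' ⟶ F} (sq : IsPullback fst snd ξ a) :
    IsAlgSpaceP F' :=
  isAlgSpaceP_of_forall_pullback hX fst fun _ y _ l₁ l₂ sqL =>
    ha (y ≫ ξ) (l₂ ≫ snd) l₁ (sqL.paste_vert sq.flip.flip |>.flip)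

theorem isSheaf_of_repBySp {a : F ⟶ G} (ha : RepBySp a) (hG : Presheaf.IsSheaf (J S) G) :
    Presheaf.IsSheaf (J S) F :=
  GrothLib.AlgSt.isSheaf_of_forall_pullback (G := (⟨G, hG⟩ : Sp S)) a fun U y => by
    have sq := IsPullback.of_hasPullback y.hom a
    obtain ⟨hs, hL⟩ := ha y.hom _ _ sq.flip
    exact ⟨⟨_, hs⟩, _, _, sq⟩

theorem isAlgSpaceP_of_repBySp {a : F ⟶ G} (ha : RepBySp a) (hG : IsAlgSpaceP G) : IsAlgSpaceP F := by
  obtain ⟨hs, hG⟩ := hG
  exact isAlgSpaceP_of_forall_pullback (Z := ⟨G, hs⟩) hG a fun _ y _ _ _ sq => ha y _ _ sq.flip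

theorem repBySp_of_isPullback {a : F ⟶ G} (ha : RepBySp a) {F' G' : PSp S} {a' : F' ⟶ G'} {g : G' ⟶ G}
    {g' : F' ⟶ F} (sq : IsPullback g' a' a g) : RepBySp a' :=
  fun _ ξ _ fst snd sq' => ha (ξ ≫ g) (fst ≫ g') snd (sq'.paste_horiz sq)

theorem repBySp_comp {a : F ⟶ G} {b : G ⟶ H} (ha : RepBySp a) (hb : RepBySp b) : RepBySp (a ≫ b) := by
  intro U ξ F' fst snd sq
  obtain ⟨hs, hG'⟩ := hb ξ _ _ (IsPullback.of_hasPullback b ξ)
  exact isAlgSpaceP_of_isPullback (X := ⟨_, hs⟩) (ξ := pullback.fst b ξ)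
    (fst := pullback.lift (fst ≫ a) snd (by rw [Category.assoc, sq.w])) (snd := fst) ha hG'
    (IsPullback.of_bot (v₂₁ := pullback.snd b ξ) (v₂₂ := b) (h₃₁ := ξ)
      (by rw [pullback.lift_snd]; exact sq) (pullback.lift_fst _ _ _).symm (IsPullback.of_hasPullback b ξ)).flip

/-- The product of `a` with an identity is a base change of `a`. -/
theorem isPullback_prodMap_id {X Y : PSp S} (f : X ⟶ Y) (Z : PSp S) :
    IsPullback (prod.fst : X ⨯ Z ⟶ X) (prod.map f (𝟙 Z)) f prod.fst := by
  refine ⟨⟨(prod.map_fst _ _).symm⟩, ⟨PullbackCone.IsLimit.mk _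
    (fun c => prod.lift c.fst (c.snd ≫ prod.snd)) (fun c => prod.lift_fst _ _) (fun c => ?_) (fun c m h₁ h₂ => ?_)⟩⟩
  · apply prod.hom_ext
    · simp [c.condition]
    · simp
  · apply prod.hom_ext
    · simpa using h₁
    · simpa using congrArg (fun x => x ≫ prod.snd) h₂

theorem isPullback_id_prodMap {X Y : PSp S} (f : X ⟶ Y) (Z : PSp S) :
    IsPullback (prod.snd : Z ⨯ X ⟶ X) (prod.map (𝟙 Z) f) f prod.snd := by
  refine ⟨⟨(prod.map_snd _ _).symm⟩, ⟨PullbackCone.IsLimit.mk _
    (fun c => prod.lift (c.snd ≫ prod.fst) c.fst) (fun c => prod.lift_snd _ _) (fun c => ?_) (fun c m h₁ h₂ => ?_)⟩⟩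
  · apply prod.hom_ext
    · simp
    · simp [c.condition]
  · apply prod.hom_ext
    · simpa using congrArg (fun x => x ≫ prod.fst) h₂
    · simpa using h₁

theorem repBySp_prodMap {F₁ G₁ F₂ G₂ : PSp S} {a₁ : F₁ ⟶ G₁} {a₂ : F₂ ⟶ G₂} (h₁ : RepBySp a₁)
    (h₂ : RepBySp a₂) : RepBySp (prod.map a₁ a₂) := by
  rw [show prod.map a₁ a₂ = prod.map a₁ (𝟙 F₂) ≫ prod.map (𝟙 G₁) a₂ by simp]
  exact repBySp_comp (repBySp_of_isPullback h₁ (isPullback_prodMap_id a₁ F₂))
    (repBySp_of_isPullback h₂ (isPullback_id_prodMap a₂ G₁))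

theorem repBySp_of_comp {a : F ⟶ G} {b : G ⟶ H} (hΔ : RepBySp (pullback.diagonal b)) (hab : RepBySp (a ≫ b)) :
    RepBySp a := by
  let γ : F ⟶ pullback (a ≫ b) b := pullback.lift (𝟙 F) a (Category.id_comp _)
  have hγ : IsPullback a γ (pullback.diagonal b) (pullback.map (a ≫ b) b b b a (𝟙 G) (𝟙 H) (by simp) (by simp)) := by
    refine IsPullback.of_bot (v₂₁ := pullback.fst (a ≫ b) b) (v₂₂ := pullback.fst b b) (h₃₁ := a) ?_ ?_ ?_
    · rw [pullback.lift_fst, pullback.diagonal_fst]
      exact IsPullback.of_vert_isIso ⟨by simp⟩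
    · apply pullback.hom_ext <;> simp [γ, pullback.map, Category.id_comp a]
    · refine IsPullback.of_right (h₁₂ := pullback.snd b b) (v₁₃ := b) (h₂₂ := b) ?_ (by simp [pullback.map])
        (IsPullback.of_hasPullback b b).flip
      simpa [pullback.map] using (IsPullback.of_hasPullback (a ≫ b) b).flip
  have h₁ : RepBySp γ := repBySp_of_isPullback hΔ hγ
  have h₂ : RepBySp (pullback.snd (a ≫ b) b) := repBySp_of_isPullback hab (IsPullback.of_hasPullback (a ≫ b) b)
  have := repBySp_comp h₁ h₂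
  rwa [pullback.lift_snd] at this

/-- The equalizer of two maps from a scheme to an algebraic space over a scheme is representable. -/
theorem repBySp_diagonal {a : F ⟶ G} (ha : RepBySp a) : RepBySp (pullback.diagonal a) := by
  intro U ξ F' fst snd sq
  obtain ⟨hs, hP⟩ := ha (ξ ≫ pullback.fst a a ≫ a) _ _ (IsPullback.of_hasPullback a (ξ ≫ pullback.fst a a ≫ a))
  let P : Sp S := ⟨_, hs⟩
  let π : P ⟶ (yon S).obj U := ObjectProperty.homMk (pullback.snd a (ξ ≫ pullback.fst a a ≫ a))
  let x : (yon S).obj U ⟶ P := ObjectProperty.homMk (pullback.lift (ξ ≫ pullback.fst a a) (𝟙 _)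
    (by rw [Category.assoc, Category.id_comp]))
  let y : (yon S).obj U ⟶ P := ObjectProperty.homMk (pullback.lift (ξ ≫ pullback.snd a a) (𝟙 _)
    (by rw [Category.assoc, ← pullback.condition, Category.id_comp]))
  have hx : x ≫ π = 𝟙 _ := ObjectProperty.hom_ext _ (pullback.lift_snd _ _ _)
  have hy : y ≫ π = 𝟙 _ := ObjectProperty.hom_ext _ (pullback.lift_snd _ _ _)
  obtain ⟨W, w₁, w₂, sqW⟩ := exists_isPullback_yon hP.diag x y
  obtain rfl : w₁ = w₂ := (yon S).map_injective (by
    have := sqW.w =≫ π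
    rwa [Category.assoc, Category.assoc, hx, hy, Category.comp_id, Category.comp_id] at this)
  have sq' : IsPullback ((yon S).map w₁).hom ((yon S).map w₁).hom x.hom y.hom :=
    sqW.map (sheafToPresheaf (J S) (Type (u + 1)))
  have hx1 : x.hom ≫ pullback.fst a _ = ξ ≫ pullback.fst a a := pullback.lift_fst _ _ _
  have hy1 : y.hom ≫ pullback.fst a _ = ξ ≫ pullback.snd a a := pullback.lift_fst _ _ _
  have hx2 : x.hom ≫ pullback.snd a _ = 𝟙 _ := pullback.lift_snd _ _ _
  have hy2 : y.hom ≫ pullback.snd a _ = 𝟙 _ := pullback.lift_snd _ _ _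
  have w : (((yon S).map w₁).hom ≫ ξ ≫ pullback.fst a a) ≫ pullback.diagonal a = ((yon S).map w₁).hom ≫ ξ := by
    apply pullback.hom_ext
    · rw [Category.assoc, Category.assoc, Category.assoc, pullback.diagonal_fst, Category.comp_id]
      exact (Category.assoc _ _ _).symm
    · rw [Category.assoc, Category.assoc, Category.assoc, pullback.diagonal_snd, Category.comp_id]
      refine Eq.trans ?_ (Category.assoc _ _ _).symm
      rw [← hx1, ← hy1]
      exact (Category.assoc _ _ _).symm.trans ((sq'.w =≫ _).trans (Category.assoc _ _ _))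
  have hc : ∀ (c : PullbackCone (pullback.diagonal a) ξ),
      c.fst = c.snd ≫ ξ ≫ pullback.fst a a ∧ c.snd ≫ x.hom = c.snd ≫ y.hom := fun c => by
    have h₁ := c.condition =≫ pullback.fst a a
    have h₂ := c.condition =≫ pullback.snd a a
    rw [Category.assoc, Category.assoc, pullback.diagonal_fst, Category.comp_id] at h₁
    rw [Category.assoc, Category.assoc, pullback.diagonal_snd, Category.comp_id] at h₂
    refine ⟨h₁, pullback.hom_ext ?_ ?_⟩
    · rw [Category.assoc, Category.assoc, hx1, hy1]; exact h₁.symm.trans h₂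
    · rw [Category.assoc, Category.assoc, hx2, hy2]
  have key : IsPullback (((yon S).map w₁).hom ≫ ξ ≫ pullback.fst a a) ((yon S).map w₁).hom (pullback.diagonal a) ξ := by
    refine ⟨⟨w⟩, ⟨PullbackCone.IsLimit.mk _ (fun c => sq'.lift c.snd c.snd (hc c).2) (fun c => ?_) (fun c => ?_)
      (fun c m h₁ h₂ => ?_)⟩⟩
    · rw [← Category.assoc, sq'.lift_fst]; exact (hc c).1.symm
    · exact sq'.lift_fst _ _ _
    · exact sq'.hom_ext (h₂.trans (sq'.lift_fst _ _ _).symm) (h₂.trans (sq'.lift_snd _ _ _).symm)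
  exact IsAlgSpaceP.of_iso ((isAlgSpaceP_obj_iff _).2 (IsAlgSpace.yon_obj W)) (key.isoIsPullback _ _ sq)

theorem repBySp_diag_iff (F : PSp S) :
    RepBySp (Limits.diag F) ↔ ∀ (T : Over S) (ξ : (pyon S).obj T ⟶ F), RepBySp ξ := by
  constructor
  · intro h T ξ U η F' fst snd sq
    let T' : Over S := T ⨯ U
    have hpb : IsPullback (fst ≫ ξ) (prod.lift fst snd ≫ inv (prodComparison (pyon S) T U)) (Limits.diag F)
        (prodComparison (pyon S) T U ≫ prod.map ξ η) := by
      refine ⟨⟨?_⟩, ⟨PullbackCone.IsLimit.mk _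
        (fun c => sq.lift (c.snd ≫ prodComparison (pyon S) T U ≫ prod.fst)
          (c.snd ≫ prodComparison (pyon S) T U ≫ prod.snd) ?_) (fun c => ?_) (fun c => ?_) (fun c m h₁ h₂ => ?_)⟩⟩
      · apply prod.hom_ext <;> simp [sq.w]
      · have h₁ := c.condition =≫ prod.fst
        have h₂ := c.condition =≫ prod.snd
        simp only [Limits.diag, Category.assoc, prod.lift_fst, prod.lift_snd, prod.map_fst, prod.map_snd,
          Category.comp_id] at h₁ h₂
        rw [Category.assoc, Category.assoc, Category.assoc, Category.assoc, ← h₁, ← h₂]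
      · have h₁ := c.condition =≫ prod.fst
        simp only [Limits.diag, Category.assoc, prod.lift_fst, prod.map_fst, Category.comp_id] at h₁
        rw [sq.lift_fst_assoc, h₁]
        simp only [Category.assoc]
      · rw [← Category.assoc, IsIso.comp_inv_eq]
        apply prod.hom_ext <;> simp
      · rw [← Category.assoc, IsIso.comp_inv_eq] at h₂
        apply sq.hom_ext
        · rw [sq.lift_fst]
          simpa using eq_whisker h₂ (prod.fst : (pyon S).obj T ⨯ (pyon S).obj U ⟶ _)
        · rw [sq.lift_snd]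
          simpa using eq_whisker h₂ (prod.snd : (pyon S).obj T ⨯ (pyon S).obj U ⟶ _)
    exact h (U := T') _ _ _ hpb
  · intro h U ξ F' fst snd sq
    let x := ξ ≫ (prod.fst : F ⨯ F ⟶ F)
    let y := ξ ≫ (prod.snd : F ⨯ F ⟶ F)
    have sqP := IsPullback.of_hasPullback x y
    obtain ⟨hs, hP⟩ := h U x y _ _ sqP
    let P : Sp S := ⟨_, hs⟩
    let δ : P ⟶ (yon S).obj U ⨯ (yon S).obj U :=
      prod.lift (ObjectProperty.homMk (pullback.fst x y)) (ObjectProperty.homMk (pullback.snd x y))
    have hUU := isAlgSpace_prod (IsAlgSpace.yon_obj U) (IsAlgSpace.yon_obj U)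
    have hQ := isAlgSpace_pullback' hUU hP (IsAlgSpace.yon_obj U) δ (Limits.diag ((yon S).obj U))
    have sqQ := IsPullback.of_hasPullback δ (Limits.diag ((yon S).obj U))
    have e₁ : (pullback.fst δ (Limits.diag _)).hom ≫ pullback.fst x y = (pullback.snd δ (Limits.diag _)).hom := by
      simpa [δ, Limits.diag] using congrArg (fun m : _ ⟶ (yon S).obj U ⨯ (yon S).obj U => (m ≫ (prod.fst : (yon S).obj U ⨯ (yon S).obj U ⟶ _)).hom) sqQ.w
    have e₂ : (pullback.fst δ (Limits.diag _)).hom ≫ pullback.snd x y = (pullback.snd δ (Limits.diag _)).hom := by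
      simpa [δ, Limits.diag] using congrArg (fun m : _ ⟶ (yon S).obj U ⨯ (yon S).obj U => (m ≫ (prod.snd : (yon S).obj U ⨯ (yon S).obj U ⟶ _)).hom) sqQ.w
    have key : IsPullback ((pullback.snd δ (Limits.diag _)).hom ≫ x) (pullback.snd δ (Limits.diag _)).hom
        (Limits.diag F) ξ := by
      have sq' := sqQ.map (sheafToPresheaf (J S) (Type (u + 1)))
      refine ⟨⟨?_⟩, ⟨PullbackCone.IsLimit.mk _ (fun c => sq'.lift
        (pullback.lift c.snd c.snd ?_) c.snd ?_) (fun c => ?_) (fun c => ?_) (fun c m h₁ h₂ => ?_)⟩⟩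
      · have hw := congrArg (fun m => (pullback.fst δ (Limits.diag _)).hom ≫ m) (pullback.condition (f := x) (g := y))
        simp only [← Category.assoc, e₁, e₂] at hw
        apply prod.hom_ext
        · simp [x]
        · simpa [y] using hw
      · have h₁ := c.condition =≫ prod.fst
        have h₂ := c.condition =≫ prod.snd
        simp only [Limits.diag, Category.assoc, prod.lift_fst, prod.lift_snd, Category.comp_id] at h₁ h₂
        exact h₁.symm.trans h₂
      · have : PreservesLimit (Limits.pair ((yon S).obj U) ((yon S).obj U)) (sheafToPresheaf (J S) (Type (u + 1))) :=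
          inferInstance
        apply (cancel_mono (prodComparison (sheafToPresheaf (J S) (Type (u + 1))) _ _)).1
        apply prod.hom_ext <;> simp [δ, Limits.diag, prodComparison, ← ObjectProperty.FullSubcategory.comp_hom]
      · have h₁ := c.condition =≫ prod.fst
        simp only [Limits.diag, Category.assoc, prod.lift_fst, Category.comp_id] at h₁
        exact (Category.assoc _ _ _).symm.trans ((congrArg (· ≫ x) (sq'.lift_snd _ _ _)).trans h₁.symm)
      · exact sq'.lift_snd _ _ _
      · apply sq'.hom_ext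
        · rw [sq'.lift_fst]
          apply pullback.hom_ext
          · rw [pullback.lift_fst, Category.assoc]; erw [e₁]; exact h₂
          · rw [pullback.lift_snd, Category.assoc]; erw [e₂]; exact h₂
        · rw [sq'.lift_snd]; exact h₂
    exact IsAlgSpaceP.of_iso ((isAlgSpaceP_obj_iff _).2 hQ) (key.isoIsPullback _ _ sq)

end GrothLib.AlgSp
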