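import Groth.Agent.Lib.AlgSp.SourceLocal
import Groth.Agent.Lib.AlgSp.Space

/-!
# Properties of a morphism whose composite with a retraction has them

If `p : F ⟶ X` has a section and `p ≫ g` is flat (locally of finite presentation), so is `g`.
-/

universe u

open CategoryTheory CategoryTheory.Limits AlgebraicGeometry

namespace GrothLib.AlgSp

open _root_.AlgSp

variable {S : Scheme.{u}}

/-- `P` passes to `g` from `p ≫ g` for `p` with a section. -/
def Retracts (P : MorphismProperty Scheme.{u}) : Prop :=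
  ∀ ⦃F X Y : Scheme.{u}⦄ (p : F ⟶ X) (σ : X ⟶ F) (g : X ⟶ Y), σ ≫ p = 𝟙 X → P (p ≫ g) → P g

theorem retracts_flat : Retracts.{u} @Flat := by
  intro F X Y p σ g hσ h
  have : Flat (p ≫ g) := h
  refine Flat.of_stalkMap g fun x => ?_
  have hx : p (σ x) = x := by rw [← Scheme.Hom.comp_apply, hσ]; rfl
  rw [← hx]
  have hiso : ∀ f : X ⟶ X, f = 𝟙 X → Function.Bijective (f.stalkMap x).hom := by
    rintro _ rfl
    exact ConcreteCategory.bijective_of_isIso ((𝟙 X : X ⟶ X).stalkMap x)
  have hb := hiso _ hσ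
  rw [Scheme.Hom.stalkMap_comp] at hb
  have h1 : ((p.stalkMap (σ x)).hom.comp (g.stalkMap (p (σ x))).hom).Flat := by
    have h1 := Flat.stalkMap (p ≫ g) (σ x)
    rw [Scheme.Hom.stalkMap_comp] at h1
    exact h1
  let ψ := (g.stalkMap (p (σ x))).hom
  let φ := (p.stalkMap (σ x)).hom
  let χ := (σ.stalkMap x).hom
  let e : X.presheaf.stalk (p (σ x)) ≃+* X.presheaf.stalk x := RingEquiv.ofBijective (χ.comp φ) hb
  letI := ψ.toAlgebra
  letI := (φ.comp ψ).toAlgebra
  let i : X.presheaf.stalk (p (σ x)) →ₗ[Y.presheaf.stalk (g (p (σ x)))] F.presheaf.stalk (σ x) :=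
    { toFun := φ
      map_add' := φ.map_add
      map_smul' := fun a b => φ.map_mul (ψ a) b }
  let r : F.presheaf.stalk (σ x) →ₗ[Y.presheaf.stalk (g (p (σ x)))] X.presheaf.stalk (p (σ x)) :=
    { toFun := fun c => e.symm (χ c)
      map_add' := fun a b => by rw [map_add, map_add]
      map_smul' := fun a b => by
        change e.symm (χ (φ (ψ a) * b)) = ψ a * e.symm (χ b)
        rw [map_mul, map_mul, show χ (φ (ψ a)) = e (ψ a) from rfl, e.symm_apply_apply] }
  have : Module.Flat (Y.presheaf.stalk (g (p (σ x)))) (F.presheaf.stalk (σ x)) := h1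
  exact Module.Flat.of_retract i r (LinearMap.ext fun b => e.symm_apply_apply b)

theorem retracts_lfp : Retracts.{u} @LocallyOfFinitePresentation := by
  intro F X Y p σ g hσ h
  have : LocallyOfFinitePresentation (p ≫ g) := h
  have : LocallyOfFiniteType p := locallyOfFiniteType_of_comp p g
  have : LocallyOfFinitePresentation σ :=
    GrothLib.DiagGrp.lfp_of_comp_of_lft σ p (by rw [hσ]; infer_instance) inferInstance
  have e : g = σ ≫ p ≫ g := by rw [← Category.assoc, hσ, Category.id_comp]
  rw [e]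
  infer_instance

/-- Properties passing to retracts do so for algebraic spaces. -/
theorem locP_of_retract {P : MorphismProperty Scheme.{u}} (hP : EtLocal P) (hR : Retracts P) {F U : Sp S}
    {W : Over S} (hF : IsAlgSpace F) (hU : IsAlgSpace U) (p : F ⟶ (yon S).obj W) (σ : (yon S).obj W ⟶ F)
    (hσ : σ ≫ p = 𝟙 _) (g : (yon S).obj W ⟶ U) (h : LocP P (p ≫ g)) : LocP P g := by
  obtain ⟨V, b, be, bs⟩ := hU.atlas
  obtain ⟨W₁, a, g₁, ae, ha, has⟩ := exists_chart_over (IsAlgSpace.yon_obj W) hU g b be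
  have sq := IsPullback.of_hasPullback p a
  have hF₁ := isAlgSpace_pullback' (IsAlgSpace.yon_obj W) hF (IsAlgSpace.yon_obj W₁) p a
  obtain ⟨P₀, w, we, ws⟩ := hF₁.atlas
  obtain ⟨p₁, hp₁⟩ := (yon S).map_surjective (w ≫ pullback.snd p a)
  let σ₁ : (yon S).obj W₁ ⟶ pullback p a := pullback.lift (a ≫ σ) (𝟙 _) (by simp [hσ])
  obtain ⟨W₂, c, l, ce, hc, hcs⟩ := exists_chart_over (IsAlgSpace.yon_obj W₁) hF₁ σ₁ w we
  obtain ⟨c, rfl⟩ := (yon S).map_surjective c
  have hl : l ≫ p₁ = c := (yon S).map_injective (by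
    rw [Functor.map_comp, hp₁, ← Category.assoc, ← hc, Category.assoc, pullback.lift_snd, Category.comp_id])
  have hce : Etale c.left := (repWith_yon_map_iff _ _).1 ce
  have hcsurj : Surjective c.left := (repWith_yon_map_iff _ _).1 (hcs ws)
  have sq' := GrothLib.AlgSp.isPullback_left (IsPullback.of_hasPullback p₁ c)
  have he : Etale (pullback.fst p₁ c).left := MorphismProperty.of_isPullback (P := @Etale) sq'.flip hce
  have hcomp : MorphismProperty.IsStableUnderComposition @Etale.{u} := inferInstance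
  have hpg : P (p₁ ≫ g₁).left := h (w ≫ pullback.fst p a) b (p₁ ≫ g₁)
    (repWith_comp we (repWith_of_isPullback sq.flip ae)) be (by
      simp only [Functor.map_comp, hp₁, Category.assoc, ← ha, pullback.condition_assoc])
  refine hP.locP_of_chart (a := a) (b := b) (h := g₁) ae (has bs) be ha (hP.descend c.left g₁.left hce hcsurj ?_)
  refine hR (pullback.snd p₁ c).left (pullback.lift l (𝟙 W₂) (by rw [hl, Category.id_comp]) : W₂ ⟶ _).left _ ?_ ?_
  · rw [← Over.comp_left, pullback.lift_snd]; rfl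
  · rw [← Category.assoc, ← Over.comp_left, ← pullback.condition, Over.comp_left, Category.assoc]
    exact hP.comp_mem _ _ (hP.of_etale _ he) hpg

end GrothLib.AlgSp
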