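import Groth.Agent.Lib.AlgSp.SchematicDense
import Groth.Agent.Lib.AlgSp.DecentTop
import Groth.Agent.Lib.GrpdQuot.InvariantOpen
import Groth.Agent.Lib.AlgSp.DiagAffine

/-!
# Quasi-separated spaces are schemes near points of codimension zero
-/

universe u

open CategoryTheory CategoryTheory.Limits AlgebraicGeometry

namespace GrothLib.AlgSp

open _root_.AlgSp

variable {S : Scheme.{u}} {X : Sp S}

theorem compactSpace_pullback_of_affine_base {A B : Over S} [CompactSpace ↥A.left] [CompactSpace ↥B.left]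
    {V : S.Opens} (hV : IsAffineOpen V) (hA : Set.range A.hom ⊆ V) (hB : Set.range B.hom ⊆ V) :
    CompactSpace ↥(pullback A.hom B.hom) := by
  haveI : IsAffine V.toScheme := hV
  let f := IsOpenImmersion.lift V.ι A.hom (by rw [Scheme.Opens.range_ι]; exact hA)
  let g := IsOpenImmersion.lift V.ι B.hom (by rw [Scheme.Opens.range_ι]; exact hB)
  haveI : QuasiCompact f := quasiCompact_of_compactSpace f
  haveI : CompactSpace ↥(pullback f g) := QuasiCompact.compactSpace_of_compactSpace (pullback.snd f g)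
  let e : pullback f g ≅ pullback (f ≫ V.ι) (g ≫ V.ι) := {
    hom := pullback.lift (pullback.fst f g) (pullback.snd f g) (by rw [pullback.condition_assoc])
    inv := pullback.lift (pullback.fst (f ≫ V.ι) (g ≫ V.ι)) (pullback.snd (f ≫ V.ι) (g ≫ V.ι))
      ((cancel_mono V.ι).1 (by rw [Category.assoc, Category.assoc, pullback.condition]))
    hom_inv_id := pullback.hom_ext
      (by rw [Category.assoc, pullback.lift_fst, pullback.lift_fst, Category.id_comp])
      (by rw [Category.assoc, pullback.lift_snd, pullback.lift_snd, Category.id_comp])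
    inv_hom_id := pullback.hom_ext
      (by rw [Category.assoc, pullback.lift_fst, pullback.lift_fst, Category.id_comp])
      (by rw [Category.assoc, pullback.lift_snd, pullback.lift_snd, Category.id_comp]) }
  haveI : CompactSpace ↥(pullback (f ≫ V.ι) (g ≫ V.ι)) := (Scheme.homeoOfIso e).compactSpace
  have hf : f ≫ V.ι = A.hom := IsOpenImmersion.lift_fac _ _ _
  have hg : g ≫ V.ι = B.hom := IsOpenImmersion.lift_fac _ _ _
  rw [← hf, ← hg]; infer_instance

/-- Fibre products over a quasi-separated space of charts over an affine open of the base are compact. -/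
theorem compactSpace_chart_pullback (hqs : IsQuasiSeparatedSp X) {A B T : Over S} [CompactSpace ↥A.left]
    [CompactSpace ↥B.left] {V : S.Opens} (hV : IsAffineOpen V) (hA : Set.range A.hom ⊆ V) (hB : Set.range B.hom ⊆ V)
    {g : (yon S).obj A ⟶ X} {b : (yon S).obj B ⟶ X} {p : T ⟶ A} {d : T ⟶ B}
    (sq : IsPullback ((yon S).map p) ((yon S).map d) g b) : CompactSpace ↥T.left := by
  haveI := compactSpace_pullback_of_affine_base hV hA hB
  haveI : QuasiCompact (prod.lift p d).left := prop_prodLift_of_repWith_diag hqs sq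
  haveI : CompactSpace ↥(A ⨯ B : Over S).left := (Scheme.homeoOfIso (Over.prodLeftIsoPullback A B)).symm.compactSpace
  exact QuasiCompact.compactSpace_of_compactSpace (prod.lift p d).left

theorem range_cfg_subset {U : Over S} {a : (yon S).obj U ⟶ X} {k : ℕ} (c : SectionCfg a (k + 1)) :
    Set.range c.W.hom ⊆ Set.range U.hom := by
  rintro _ ⟨x, rfl⟩
  exact ⟨(c.e 0).left x, by rw [← Scheme.Hom.comp_apply, Over.w]⟩

/-- The degree loci are the images of quasi-compact configurations. -/
theorem exists_compact_cfg (hX : IsAlgSpace X) (hqs : IsQuasiSeparatedSp X) {U : Over S} [IsAffine U.left]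
    {a : (yon S).obj U ⟶ X} (ha : RepWith @Etale a) {V : S.Opens} (hV : IsAffineOpen V)
    (hU : Set.range U.hom ⊆ V) (k : ℕ) :
    ∃ c : SectionCfg a (k + 1), CompactSpace ↥c.W.left ∧ degGE a (k + 1) ⊆ Set.range (Points.ofPt c.g) := by
  induction k with
  | zero =>
    exact ⟨⟨U, a, ha, fun _ => 𝟙 U, fun _ => by rw [CategoryTheory.Functor.map_id, Category.id_comp],
      fun i j hne => absurd (Subsingleton.elim (α := Fin 1) i j) hne⟩, inferInstance, (degGE_one (a := a)).subset⟩
  | succ k ih =>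
    obtain ⟨c, hc, hcr⟩ := ih
    obtain ⟨T, p, d, σ, O, sq, hσ, hcov, c', j, hj, hjr, -, -, hg'⟩ := exists_step hX ha c
    haveI : CompactSpace ↥T.left := compactSpace_chart_pullback hqs hV ((range_cfg_subset c).trans hU) hU sq
    refine ⟨c', ?_, fun x hx => ?_⟩
    · have hcl : IsClosed (O : Set ↥T.left) := by
        rw [← isOpen_compl_iff]
        have : (O : Set ↥T.left)ᶜ = ⋃ i, Set.range (σ i).left := by
          ext t
          simp only [Set.mem_compl_iff, Set.mem_iUnion]
          exact ⟨fun h => (hcov t).resolve_left h, fun ⟨i, hi⟩ ht => Set.disjoint_left.1 (hσ i).2.2.2 ht hi⟩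
        rw [this]
        exact isOpen_iUnion fun i => by haveI := (hσ i).2.2.1; exact (σ i).left.isOpenEmbedding.isOpen_range
      have hcomp : IsCompact (Set.range j.left) := hjr ▸ hcl.isCompact
      haveI : IsOpenImmersion j.left := hj
      exact ⟨(j.left.isOpenEmbedding.isInducing.isCompact_iff).2 (by rwa [Set.image_univ])⟩
    obtain ⟨z, hz⟩ := hcr (degGE_succ_subset _ hx)
    obtain ⟨L, _, w, γ, l, hγ, hl, hlc⟩ := hx
    obtain ⟨Ω, _, w', α, β, hαβ, -, hβ⟩ := exists_common_field (f := γ) (g := c.g)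
      (x := Points.ofScheme (Over.mk w) (IsLocalRing.closedPoint L)) (y := Points.ofScheme c.W z) (by
        rw [← Points.ofPt_eq_map_ofScheme, ← Points.ofPt_eq_map_ofScheme, hγ, hz])
    obtain ⟨α, rfl⟩ := (yon S).map_surjective α
    obtain ⟨β, rfl⟩ := (yon S).map_surjective β
    have hν : ∀ i, ∃ ν : Over.mk w' ⟶ T, ν ≫ p = β ∧ ν ≫ d = α ≫ l i := fun i => by
      obtain ⟨ν, hν⟩ := (yon S).map_surjective (sq.lift ((yon S).map β) ((yon S).map (α ≫ l i)) (by
        rw [← hαβ, Functor.map_comp, Category.assoc, hlc]))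
      exact ⟨ν, (yon S).map_injective (by rw [Functor.map_comp, hν, sq.lift_fst]),
        (yon S).map_injective (by rw [Functor.map_comp, hν, sq.lift_snd])⟩
    choose ν hν₁ hν₂ using hν
    by_cases hO : ∃ i, (ν i).left (IsLocalRing.closedPoint Ω) ∈ O
    · obtain ⟨i, hi⟩ := hO
      obtain ⟨z', hz'⟩ : (ν i).left (IsLocalRing.closedPoint Ω) ∈ Set.range j.left := hjr ▸ hi
      refine ⟨z', ?_⟩
      rw [hg', ofPt_map_comp, Over.comp_left, Scheme.Hom.comp_apply, hz', ← Scheme.Hom.comp_apply, ← Over.comp_left,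
        hν₁, ← ofPt_map_comp, ← hαβ, ofPt_map_comp, ← hγ]
      exact congrArg (Points.ofPt γ) (Subsingleton.elim (α := PrimeSpectrum L) _ _)
    exfalso
    push Not at hO
    choose f hf using fun i => (hcov _).resolve_left (hO i)
    obtain ⟨i, i', hne, hff⟩ := Fintype.exists_ne_map_eq_of_card_lt f (by simp)
    have hlift : ∀ i, α ≫ l i = β ≫ c.e (f i) := fun i => by
      haveI := (hσ (f i)).2.2.1
      have hsub : Set.range (ν i).left ⊆ Set.range (σ (f i)).left := by
        rintro _ ⟨z', rfl⟩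
        rw [show z' = IsLocalRing.closedPoint Ω from Subsingleton.elim (α := PrimeSpectrum Ω) _ _]
        exact hf i
      let μ : Over.mk w' ⟶ c.W := Over.homMk (IsOpenImmersion.lift (σ (f i)).left (ν i).left hsub) (by
        rw [← Over.w (σ (f i)), ← Category.assoc, IsOpenImmersion.lift_fac]
        exact Over.w (ν i))
      have hμ : μ ≫ σ (f i) = ν i := Over.OverMorphism.ext (IsOpenImmersion.lift_fac _ _ _)
      have h₁ : β = μ := by rw [← hν₁ i, ← hμ, Category.assoc, (hσ (f i)).1, Category.comp_id]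
      rw [← hν₂ i, ← hμ, Category.assoc, (hσ (f i)).2.1, h₁]
    have h := hlift i
    rw [hff, ← hlift i'] at h
    haveI : Subsingleton ↥(Over.mk w).left := inferInstanceAs (Subsingleton (PrimeSpectrum L))
    haveI : Nonempty ↥(Over.mk w').left := ⟨IsLocalRing.closedPoint Ω⟩
    haveI : Surjective α.left := ⟨fun y => ⟨Classical.arbitrary _, Subsingleton.elim _ _⟩⟩
    haveI : Flat α.left := by
      obtain ⟨f, hf⟩ : ∃ f : CommRingCat.of L ⟶ CommRingCat.of Ω, Spec.map f = α.left := ⟨_, Spec.map_preimage _⟩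
      rw [← hf]
      refine Flat.SpecMap_iff.2 ?_
      letI := f.hom.toAlgebra
      exact (Module.Flat.of_free : Module.Flat L Ω)
    haveI : Epi α.left := Flat.epi_of_flat_of_surjective _
    haveI : Epi α := (Over.forget S).epi_of_epi_map ‹Epi α.left›
    exact hne (hl ((cancel_epi α).1 h))

theorem exists_constant_degree_nhd (hX : IsAlgSpace X) (hd : IsDecent X) (hqs : IsQuasiSeparatedSp X)
    {U : Over S} [IsAffine U.left] {a : (yon S).obj U ⟶ X} (ha : RepWith @Etale a) {V : S.Opens}
    (hV : IsAffineOpen V) (hU : Set.range U.hom ⊆ V) (v : ↥U.left)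
    (hv : ringKrullDim ↥(U.left.presheaf.stalk v) = 0) :
    ∃ (n : ℕ) (N : Set (Points X)), IsOpen N ∧ Points.ofPt a v ∈ N ∧ N ⊆ degGE a (n + 1) ∧
      ∀ x ∈ N, x ∉ degGE a (n + 2) := by
  classical
  obtain ⟨q, hq, -, hqc⟩ := hd (Points.ofPt a v)
  obtain ⟨M, hM⟩ := exists_not_mem_degGE hX ha q hqc
  have hex : ∃ k, Points.ofPt a v ∉ degGE a (k + 1) :=
    ⟨M, fun h => hM (hq ▸ degGE_succ_subset _ h)⟩
  rcases hn : Nat.find hex with _ | n
  · have := Nat.find_spec hex
    rw [hn, degGE_one] at this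
    exact absurd (Set.mem_range_self v) this
  have hout : Points.ofPt a v ∉ degGE a (n + 2) := by
    have := Nat.find_spec hex; rwa [hn] at this
  have hin : Points.ofPt a v ∈ degGE a (n + 1) := not_not.1 (Nat.find_min hex (m := n) (by omega))
  obtain ⟨c, hc, hcr⟩ := exists_compact_cfg hX hqs ha hV hU (n + 1)
  obtain ⟨T, p, d, sq⟩ := exists_isPullback_yon hX.diag c.g a
  haveI : CompactSpace ↥T.left := compactSpace_chart_pullback hqs hV ((range_cfg_subset c).trans hU) hU sq
  have hA : Points.ofPt a ⁻¹' degGE a (n + 2) = Set.range d.left := by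
    ext u
    constructor
    · intro hu
      obtain ⟨z, hz⟩ := hcr hu
      obtain ⟨t, -, ht⟩ := (ofPt_eq_ofPt_iff sq z u).1 hz
      exact ⟨t, ht⟩
    · rintro ⟨t, rfl⟩
      show Points.ofPt a (d.left t) ∈ degGE a (n + 2)
      rw [← ofPt_map_comp, ← sq.w, ofPt_map_comp]
      exact mem_degGE_of_cfg c _
  haveI : QuasiCompact d.left := quasiCompact_of_compactSpace _
  have hcl : v ∉ closure (Set.range d.left) := by
    intro hmem
    obtain ⟨y, -, hy⟩ := GrothLib.GrpdQuot.exists_specializes_of_mem_closure d.left Set.univ isClosed_univ v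
      (by rwa [Set.image_univ])
    have hmax : IsMax v := by
      rw [← Order.coheight_eq_zero]
      rw [ringKrullDim_stalk_eq_coheight] at hv
      exact WithBot.coe_inj.1 hv
    have e : d.left y = v := (Specializes.antisymm hy (hmax (show v ≤ d.left y from hy))).eq
    exact hout (show v ∈ Points.ofPt a ⁻¹' degGE a (n + 2) from hA ▸ ⟨y, e⟩)
  refine ⟨n, degGE a (n + 1) ∩ Points.ofPt a '' (closure (Set.range d.left))ᶜ,
    (isOpen_degGE hX ha n).inter (isOpenMap_ofPt_of_etale ha _ isClosed_closure.isOpen_compl),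
    ⟨hin, v, hcl, rfl⟩, Set.inter_subset_left, ?_⟩
  rintro _ ⟨-, u, hu, rfl⟩ hu'
  exact hu (subset_closure (hA.subset hu'))

/-- Points of codimension zero of quasi-separated spaces have schematic neighbourhoods. -/
theorem exists_schematic_nhd_of_codim_zero (hX : IsAlgSpace X) (hqs : IsQuasiSeparatedSp X) {x : Points X}
    (hx : HasAt (fun U u => ringKrullDim ↥(U.presheaf.stalk u) = 0) X x) :
    ∃ N : Set (Points X), IsOpen N ∧ x ∈ N ∧ (openSub X N).obj.IsRepresentable := by
  obtain ⟨U, a, u, ha, rfl, hu⟩ := hx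
  obtain ⟨V, hV, huV, -⟩ := exists_isAffineOpen_mem_and_subset (U := (⊤ : S.Opens)) (x := U.hom u) trivial
  obtain ⟨A, hA, huA, hAV⟩ := exists_isAffineOpen_mem_and_subset (U := U.hom ⁻¹ᵁ V) (x := u) huV
  let i : Over.mk (A.ι ≫ U.hom) ⟶ U := Over.homMk A.ι rfl
  haveI : IsAffine (Over.mk (A.ι ≫ U.hom)).left := hA
  have hb : RepWith @Etale ((yon S).map i ≫ a) :=
    repWith_comp ((repWith_yon_map_iff _ _).2 (inferInstanceAs (Etale A.ι))) ha
  obtain ⟨n, N, hN, hm, h₁, h₂⟩ := exists_constant_degree_nhd hX (isDecent_of_isQuasiSeparatedSp hX hqs) hqs hb hV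
    (by rintro _ ⟨z, rfl⟩; exact hAV z.2) ⟨u, huA⟩ (by
      haveI : Etale A.ι := inferInstance
      exact (ringKrullDim_stalk_eq_of_etale A.ι _).trans hu)
  exact ⟨N, hN, by rwa [ofPt_map_comp] at hm, isRepresentable_of_constant_degree hX hb hN h₁ h₂⟩

/-- Zariski locally quasi-separated spaces have a dense open subscheme with all points of codimension zero. -/
theorem exists_open_subscheme_codim_zero (hX : IsAlgSpace X) {ι : Type u} (Xi : ι → Sp S) (j : ∀ i, Xi i ⟶ X)
    (hj : IsZarCover Xi j) (hXi : ∀ i, IsAlgSpace (Xi i)) (hqs : ∀ i, IsQuasiSeparatedSp (Xi i)) :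
    ∃ N : Set (Points X), IsOpen N ∧ Dense N ∧ (openSub X N).obj.IsRepresentable ∧
      ∀ x : Points X, HasAt (fun U u => ringKrullDim ↥(U.presheaf.stalk u) = 0) X x → x ∈ N := by
  obtain ⟨N, hN, hd, hr, hmax⟩ := exists_max_open_subscheme hX
    (isDecent_of_openCover hX Xi j hj fun i => isDecent_of_isQuasiSeparatedSp (hXi i) (hqs i))
  refine ⟨N, hN, hd, hr, fun x hx => hmax x ?_⟩
  obtain ⟨U, a, u, ha, rfl, hu⟩ := hx
  obtain ⟨i, y, hy⟩ := hj.2 (Points.ofPt a u)
  obtain ⟨U', fst, k, sq⟩ := exists_isPullback_of_representable (hj.1 i).1 a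
  haveI : IsOpenImmersion k.left := (hj.1 i).2 _ _ _ sq
  have hu' : u ∈ Set.range k.left := (Set.ext_iff.1 (preimage_range_map sq) u).1 ⟨y, hy⟩
  obtain ⟨u', rfl⟩ := hu'
  have hmap : Points.map (j i) (Points.ofPt fst u') = Points.ofPt a (k.left u') := by
    rw [Points.map_ofPt, sq.w, ofPt_map_comp]
  obtain ⟨M, hM, hxM, hrM⟩ := exists_schematic_nhd_of_codim_zero (hXi i) (hqs i)
    (x := Points.ofPt fst u') ⟨U', fst, u', repWith_of_isPullback sq.flip ha, rfl,
      (ringKrullDim_stalk_eq_of_etale k.left u').trans hu⟩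
  haveI := mono_openSubι (Xi i) M
  have hopen : RepWith @IsOpenImmersion (openSubι (Xi i) M ≫ j i) := repWith_comp (repWith_openSubι hM) (hj.1 i)
  have hM' : IsOpen (Points.map (j i) '' M) :=
    isOpenMap_map_of_repWith (fun _ _ h (hh : IsOpenImmersion h) => h.isOpenEmbedding.isOpenMap) (hj.1 i) M hM
  have hrange : Set.range (Points.map (openSubι (Xi i) M ≫ j i)) = Points.map (j i) '' M := by
    rw [show Points.map (openSubι (Xi i) M ≫ j i) = Points.map (j i) ∘ Points.map (openSubι (Xi i) M) from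
      funext fun z => Points.map_comp _ _ z, Set.range_comp, range_openSubι]
  obtain ⟨e, -⟩ := exists_iso_of_range_eq hopen (repWith_openSubι (F := X) hM') (hrange.trans range_openSubι.symm)
  refine ⟨_, hM', ⟨_, hxM, hmap⟩, ?_⟩
  haveI := hrM
  exact ((Functor.IsRepresentable.has_representation
    (F := (openSub (Xi i) M).obj)).choose_spec.some.ofIso ((sheafToPresheaf _ _).mapIso e)).isRepresentable

end GrothLib.AlgSp
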