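import Mathlib.AlgebraicGeometry.Morphisms.Separated

/-!
# Closed immersions into products of affine schemes
-/

universe u

open CategoryTheory CategoryTheory.Limits AlgebraicGeometry Opposite TensorProduct

namespace GrothLib.AlgSp

variable {P U V : Scheme.{u}} [IsAffine U] [IsAffine V] [IsAffine P] (a : P ⟶ U) (b : P ⟶ V)

theorem isClosedImmersion_lift_of_surjective
    (h : Function.Surjective (Algebra.TensorProduct.productMap a.appTop.hom.toIntAlgHom b.appTop.hom.toIntAlgHom)) :
    IsClosedImmersion (pullback.lift a b (terminal.hom_ext _ _) :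
      P ⟶ pullback (terminal.from U) (terminal.from V)) := by
  set e : P ⟶ pullback (terminal.from U) (terminal.from V) := pullback.lift a b (terminal.hom_ext _ _)
  refine IsClosedImmersion.of_surjective_of_isAffine e fun x => ?_
  obtain ⟨z, rfl⟩ := h x
  induction z using TensorProduct.induction_on with
  | zero => exact ⟨0, by simp⟩
  | tmul x y =>
    refine ⟨(pullback.fst (terminal.from U) (terminal.from V)).appTop x *
      (pullback.snd (terminal.from U) (terminal.from V)).appTop y, ?_⟩
    rw [map_mul, ← CommRingCat.comp_apply, ← CommRingCat.comp_apply, ← Scheme.Hom.comp_appTop,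
      ← Scheme.Hom.comp_appTop, pullback.lift_fst, pullback.lift_snd]
    rfl
  | add x y hx hy =>
    obtain ⟨x', hx'⟩ := hx
    obtain ⟨y', hy'⟩ := hy
    exact ⟨x' + y', by rw [map_add, map_add, hx', hy']⟩

theorem surjective_of_isClosedImmersion_lift
    [IsClosedImmersion (pullback.lift a b (terminal.hom_ext _ _) :
      P ⟶ pullback (terminal.from U) (terminal.from V))] :
    Function.Surjective (Algebra.TensorProduct.productMap a.appTop.hom.toIntAlgHom b.appTop.hom.toIntAlgHom) := by
  set φ := Algebra.TensorProduct.productMap a.appTop.hom.toIntAlgHom b.appTop.hom.toIntAlgHom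
  let C : CommRingCat.{u} := CommRingCat.of (Γ(U, ⊤) ⊗[ℤ] Γ(V, ⊤))
  let i₁ : Γ(U, ⊤) ⟶ C := CommRingCat.ofHom Algebra.TensorProduct.includeLeftRingHom
  let i₂ : Γ(V, ⊤) ⟶ C := CommRingCat.ofHom (Algebra.TensorProduct.includeRight : _ →ₐ[ℤ] _).toRingHom
  let Φ : C ⟶ Γ(P, ⊤) := CommRingCat.ofHom φ.toRingHom
  let g : Spec C ⟶ pullback (terminal.from U) (terminal.from V) :=
    pullback.lift (Spec.map i₁ ≫ U.isoSpec.inv) (Spec.map i₂ ≫ V.isoSpec.inv) (terminal.hom_ext _ _)
  have h₁ : i₁ ≫ Φ = a.appTop := by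
    ext x; simp [i₁, Φ, φ, C]
  have h₂ : i₂ ≫ Φ = b.appTop := by
    ext x; simp [i₂, Φ, φ, C]
  have e : (P.isoSpec.hom ≫ Spec.map Φ) ≫ g = pullback.lift a b (terminal.hom_ext _ _) := by
    apply pullback.hom_ext
    · simp only [g, Category.assoc, pullback.lift_fst]
      rw [← Spec.map_comp_assoc, h₁, ← Category.assoc, Iso.comp_inv_eq, Scheme.isoSpec_hom_naturality]
    · simp only [g, Category.assoc, pullback.lift_snd]
      rw [← Spec.map_comp_assoc, h₂, ← Category.assoc, Iso.comp_inv_eq, Scheme.isoSpec_hom_naturality]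
  have : IsClosedImmersion ((P.isoSpec.hom ≫ Spec.map Φ) ≫ g) := by rw [e]; infer_instance
  have : IsSeparated g := inferInstance
  have h3 := IsClosedImmersion.of_comp (P.isoSpec.hom ≫ Spec.map Φ) g
  rw [MorphismProperty.cancel_left_of_respectsIso @IsClosedImmersion] at h3
  have h4 := Scheme.Hom.app_surjective (Spec.map Φ) ⊤ (isAffineOpen_top _)
  intro x
  obtain ⟨y, hy⟩ := h4 ((Scheme.ΓSpecIso Γ(P, ⊤)).inv x)
  refine ⟨(Scheme.ΓSpecIso C).hom y, ?_⟩
  have := ConcreteCategory.congr_hom (Scheme.ΓSpecIso_naturality Φ) y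
  simp only [CommRingCat.comp_apply] at this
  change Φ ((Scheme.ΓSpecIso C).hom y) = x
  rw [← this]
  erw [hy]
  exact Iso.inv_hom_id_apply _ _

end GrothLib.AlgSp
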