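import Groth.Agent.Lib.AlgSp.SliceStep

/-!
# Slicing a flat chart to a flat, locally quasi-finite one

`exists_lqf_chart_through`: if `π : yon U ⟶ F` is flat and lfp, every finite type point of `U` lies, up to
the relation given by `F`, on a flat, lfp, locally quasi-finite chart.
-/

universe u

open CategoryTheory CategoryTheory.Limits AlgebraicGeometry IsLocalRing

namespace GrothLib.AlgSp

open _root_.AlgSp

variable {S : Scheme.{u}} {F : Sp S}

/-- The point `x` of the chart `π` is reached by a flat, lfp, locally quasi-finite chart. -/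
def Reach {U P : Over S} (π : (yon S).obj U ⟶ F) (x : P ⟶ U) : Prop :=
  ∃ (Y : Over S) (g : Y ⟶ U) (T : Over S) (l : T ⟶ P) (y : T ⟶ Y), Nonempty T.left ∧
    RepWith @Flat ((yon S).map g ≫ π) ∧ RepWith @LocallyOfFinitePresentation ((yon S).map g ≫ π) ∧
    RepWith @LocallyQuasiFinite ((yon S).map g ≫ π) ∧
    (yon S).map y ≫ (yon S).map g ≫ π = (yon S).map l ≫ (yon S).map x ≫ π

theorem Reach.trans {U U₁ P P₁ : Over S} {π : (yon S).obj U ⟶ F} {x : P ⟶ U} {g₁ : U₁ ⟶ U}
    {x₁ : P₁ ⟶ U₁} (l : P₁ ⟶ P)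
    (h : (yon S).map x₁ ≫ (yon S).map g₁ ≫ π = (yon S).map l ≫ (yon S).map x ≫ π)
    (hr : Reach ((yon S).map g₁ ≫ π) x₁) : Reach π x := by
  obtain ⟨Y, g, T, m, y, hT, h₁, h₂, h₃, e⟩ := hr
  have eg : (yon S).map (g ≫ g₁) ≫ π = (yon S).map g ≫ (yon S).map g₁ ≫ π := by
    rw [(yon S).map_comp, Category.assoc]
  exact ⟨Y, g ≫ g₁, T, m ≫ l, y, hT, eg ▸ h₁, eg ▸ h₂, eg ▸ h₃, by
    rw [eg, e, h, (yon S).map_comp m l, Category.assoc]⟩

variable {U : Over S} {π : (yon S).obj U ⟶ F} {K : Type u} [Field K] {str : Spec (CommRingCat.of K) ⟶ S}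
  {x : Over.mk str ⟶ U} {X : Over S} {q : X ⟶ U} {p : X ⟶ Over.mk str} {e : Over.mk str ⟶ X}

theorem exists_lift_kernelPair (sq : IsPullback ((yon S).map q) ((yon S).map p) π ((yon S).map x ≫ π))
    (heq : e ≫ q = x) (hep : e ≫ p = 𝟙 _) {R : Over S} {t s : R ⟶ U} {eR : U ⟶ R}
    (sqR : IsPullback ((yon S).map t) ((yon S).map s) π π) (het : eR ≫ t = 𝟙 U) (hes : eR ≫ s = 𝟙 U) :
    ∃ τ : X ⟶ R, τ ≫ t = q ∧ e ≫ τ = x ≫ eR ∧ IsPullback τ.left p.left s.left x.left := by
  let τ : X ⟶ R := (yon S).preimage (sqR.lift ((yon S).map q) ((yon S).map (p ≫ x))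
    (by rw [Functor.map_comp, Category.assoc]; exact sq.w))
  have hτt : τ ≫ t = q := (yon S).map_injective (by rw [Functor.map_comp, Functor.map_preimage, IsPullback.lift_fst])
  have hτs : τ ≫ s = p ≫ x := (yon S).map_injective (by rw [Functor.map_comp, Functor.map_preimage, IsPullback.lift_snd])
  refine ⟨τ, hτt, (yon S).map_injective (sqR.hom_ext ?_ ?_), isPullback_left (isPullback_of_isPullback_yon
    (IsPullback.of_right ?_ (by rw [← Functor.map_comp, ← Functor.map_comp, hτs]) sqR))⟩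
  · rw [← Functor.map_comp, ← Functor.map_comp, Category.assoc, hτt, heq, Category.assoc, het, Category.comp_id]
  · rw [← Functor.map_comp, ← Functor.map_comp, Category.assoc, hτs, ← Category.assoc, hep, Category.id_comp,
      Category.assoc, hes, Category.comp_id]
  · rw [← Functor.map_comp, hτt]
    exact sq

/-- An isolated point of the fibre gives a quasi-finite chart. -/
theorem reach_of_isOpen_singleton (hπ : RepWith @Flat π) (hπ' : RepWith @LocallyOfFinitePresentation π)
    (sq : IsPullback ((yon S).map q) ((yon S).map p) π ((yon S).map x ≫ π))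
    (heq : e ≫ q = x) (hep : e ≫ p = 𝟙 _) (h : IsOpen ({e.left (closedPoint K)} : Set X.left)) :
    Reach π x := by
  obtain ⟨R, t, s, eR, sqR, het, hes⟩ := exists_self_pullback hπ.1 (𝟙 U)
  rw [(yon S).map_id, Category.id_comp] at sqR
  obtain ⟨O, hO, hOf, hOp, hOq⟩ := exists_qf_open hπ hπ' sqR het hes
  obtain ⟨τ, hτt, heτ, sqx⟩ := exists_lift_kernelPair sq heq hep sqR het hes
  have : LocallyOfFinitePresentation s.left := hπ'.2 _ _ _ sqR
  have : LocallyOfFiniteType p.left := MorphismProperty.of_isPullback sqx (inferInstanceAs (LocallyOfFiniteType s.left))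
  have hqf : p.left.QuasiFiniteAt (e.left (closedPoint K)) := by
    rw [Scheme.Hom.quasiFiniteAt_iff_isOpen_singleton_asFiber]
    have key : ({p.left.asFiber (e.left (closedPoint K))} : Set (p.left.fiber (p.left (e.left (closedPoint K))))) =
        p.left.fiberι (p.left (e.left (closedPoint K))) ⁻¹' {e.left (closedPoint K)} := by
      apply Set.Subset.antisymm
      · rintro z hz
        exact (congrArg (fun w => p.left.fiberι (p.left (e.left (closedPoint K))) w) (Set.mem_singleton_iff.1 hz)).trans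
          (p.left.fiberι_asFiber _)
      · intro z hz
        exact (p.left.fiberι _).isEmbedding.injective ((Set.mem_singleton_iff.1 hz).trans (p.left.fiberι_asFiber _).symm)
    rw [key]
    exact h.preimage (p.left.fiberι _).continuous
  have := qfAt_descend sqx _ hqf
  have hmem : x.left (closedPoint K) ∈ O := by
    rw [hO]
    have e₁ : τ.left (e.left (closedPoint K)) = eR.left (x.left (closedPoint K)) :=
      congrArg (fun k : Over.mk str ⟶ R => k.left (closedPoint K)) heτ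
    rwa [e₁] at this
  obtain ⟨x', hx'⟩ := exists_lift_opens x O (by
    rintro _ ⟨z, rfl⟩
    rwa [Subsingleton.elim (α := PrimeSpectrum K) z (closedPoint K)])
  exact ⟨openOver O, openOverι O, Over.mk str, 𝟙 _, x', ⟨closedPoint K⟩, hOf, hOp, hOq, by
    rw [(yon S).map_id, Category.id_comp, ← Category.assoc, ← Functor.map_comp, hx']⟩

/-- One step: a non isolated point gives a chart through it with a smaller fibre. -/
theorem exists_slice_step (hπ : RepWith @Flat π) (hπ' : RepWith @LocallyOfFinitePresentation π)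
    [LocallyOfFiniteType x.left] (sq : IsPullback ((yon S).map q) ((yon S).map p) π ((yon S).map x ≫ π))
    (heq : e ≫ q = x) (hep : e ≫ p = 𝟙 _) {A : CommRingCat.{u}} (j : Spec A ⟶ X.left) [IsOpenImmersion j]
    {n : ℕ} (hdim : ringKrullDim A ≤ ((n + 1 : ℕ) : WithBot ℕ∞)) (hA : ¬ DiscreteTopology (PrimeSpectrum A)) :
    ∃ (U₁ : Over S) (g₁ : U₁ ⟶ U) (π₁ : (yon S).obj U₁ ⟶ F) (_ : π₁ = (yon S).map g₁ ≫ π) (K₁ : Type u)
      (_ : Field K₁)
      (str₁ : Spec (CommRingCat.of K₁) ⟶ S) (x₁ : Over.mk str₁ ⟶ U₁) (l : Over.mk str₁ ⟶ Over.mk str)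
      (X₁ : Over S) (q₁ : X₁ ⟶ U₁) (p₁ : X₁ ⟶ Over.mk str₁) (e₁ : Over.mk str₁ ⟶ X₁)
      (C : CommRingCat.{u}) (jC : Spec C ⟶ X₁.left),
      RepWith @Flat π₁ ∧ RepWith @LocallyOfFinitePresentation π₁ ∧ LocallyOfFiniteType x₁.left ∧
      (yon S).map x₁ ≫ π₁ = (yon S).map l ≫ (yon S).map x ≫ π ∧
      IsPullback ((yon S).map q₁) ((yon S).map p₁) π₁ ((yon S).map x₁ ≫ π₁) ∧ e₁ ≫ q₁ = x₁ ∧ e₁ ≫ p₁ = 𝟙 _ ∧
      IsOpenImmersion jC ∧ e₁.left (closedPoint K₁) ∈ Set.range jC ∧ ringKrullDim C ≤ (n : WithBot ℕ∞) := by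
  have hπt : RepWith @LocallyOfFiniteType π := repWith_mono hπ' fun A B f hf => by
    have : LocallyOfFinitePresentation f := hf; infer_instance
  have : LocallyOfFiniteType p.left := hπt.2 _ _ _ sq
  have hqlft : LocallyOfFiniteType q.left :=
    (repWith_comp ((repWith_yon_map_iff _ _).2 ‹LocallyOfFiniteType x.left›) hπt).2 _ _ _ sq.flip
  obtain ⟨K', _, r₀, hr₀, hext⟩ := exists_point_extension (K := K) p.left j hdim hA
  -- the new point
  let str' : Spec (CommRingCat.of K') ⟶ S := r₀ ≫ X.hom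
  let r : Over.mk str' ⟶ X := Over.homMk r₀ rfl
  let lO : Over.mk str' ⟶ Over.mk str := r ≫ p
  let x' : Over.mk str' ⟶ U := r ≫ q
  have hx' : LocallyOfFiniteType x'.left := inferInstanceAs (LocallyOfFiniteType (r₀ ≫ q.left))
  have hrel : (yon S).map x' ≫ π = (yon S).map lO ≫ (yon S).map x ≫ π := by
    simp only [x', lO, Functor.map_comp, Category.assoc]; rw [sq.w]
  obtain ⟨X', fst', p', sq'⟩ := exists_isPullback_of_representable hπ.1 ((yon S).map x' ≫ π)
  obtain ⟨q', rfl⟩ := (yon S).map_surjective fst'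
  let m : X' ⟶ X := (yon S).preimage (sq.lift ((yon S).map q') ((yon S).map (p' ≫ lO))
    (by rw [sq'.w, hrel, (yon S).map_comp p' lO, Category.assoc]))
  have hmq : m ≫ q = q' := (yon S).map_injective (by rw [Functor.map_comp, Functor.map_preimage, IsPullback.lift_fst])
  have hmp : m ≫ p = p' ≫ lO := (yon S).map_injective (by rw [Functor.map_comp, Functor.map_preimage, IsPullback.lift_snd])
  have sqm : IsPullback m.left p'.left p.left lO.left := by
    refine isPullback_left (isPullback_of_isPullback_yon (IsPullback.of_right ?_ (by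
      rw [← Functor.map_comp, ← Functor.map_comp, hmp]) sq))
    rw [← Functor.map_comp, hmq, ← hrel]
    exact sq'
  let e' : Over.mk str' ⟶ X' := (yon S).preimage (sq'.lift ((yon S).map x') ((yon S).map (𝟙 _))
    (by rw [(yon S).map_id, Category.id_comp]))
  have he'q : e' ≫ q' = x' := (yon S).map_injective (by rw [Functor.map_comp, Functor.map_preimage, IsPullback.lift_fst])
  have he'p : e' ≫ p' = 𝟙 _ := (yon S).map_injective (by rw [Functor.map_comp, Functor.map_preimage, IsPullback.lift_snd])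
  have he'm : e' ≫ m = r := (yon S).map_injective (sq.hom_ext
    (by rw [← Functor.map_comp, ← Functor.map_comp, Category.assoc, hmq, he'q])
    (by rw [← Functor.map_comp, ← Functor.map_comp, Category.assoc, hmp, ← Category.assoc, he'p, Category.id_comp]))
  obtain ⟨A₂, hN, j', hj', a₁, ha₁, hdim₂, hnzd⟩ :=
    hext m.left p'.left sqm e'.left (congrArg CommaMorphism.left he'm)
  -- the function
  obtain ⟨V, hV, hu, h, A₄, j₄, ψ, a₄, hj₄, hψ, ha₄, hhu, hha, hnz, hdim₄⟩ :=
    exists_cut_function (j' ≫ q'.left) a₁ (fun Q hQ hTQ => j'.isOpenEmbedding.injective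
      (eq_of_specializes_fibre hπt x' sq' (z := j' Q) (e := j' a₁)
        (by rw [ha₁]; exact congrArg (fun k : Over.mk str' ⟶ U => k.left (closedPoint K')) he'q)
        (hQ.map j'.continuous) hTQ)) hdim₂ hnzd
  -- flatness of the cut
  obtain ⟨R, t, s, eR, sqR, het, hes⟩ := exists_self_pullback hπ.1 (𝟙 U)
  rw [(yon S).map_id, Category.id_comp] at sqR
  obtain ⟨τ, hτt, heτ, sqx⟩ := exists_lift_kernelPair sq' he'q he'p sqR het hes
  have hτt' : τ.left ≫ t.left = q'.left := congrArg CommaMorphism.left hτt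
  let θ : Spec A₄ ⟶ R.left := (j₄ ≫ j') ≫ τ.left
  have hθt : θ ≫ t.left = Spec.map ψ ≫ hV.fromSpec := by
    simp only [θ, Category.assoc, hτt']; exact hψ
  have hpt : (j₄ ≫ j') a₄ = e'.left (closedPoint K') := by rw [Scheme.Hom.comp_apply, ha₄, ha₁]
  have hker : RingHom.ker (θ.stalkMap a₄).hom =
      (maximalIdeal (U.left.presheaf.stalk (s.left (θ a₄)))).map (s.left.stalkMap (θ a₄)).hom := by
    show RingHom.ker (((j₄ ≫ j') ≫ τ.left).stalkMap a₄).hom = _
    rw [Scheme.Hom.stalkMap_comp (j₄ ≫ j') τ.left]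
    refine (RingHom.ker_comp_of_injective _ ?_).trans (ker_stalkMap_field_fibre sqx _)
    exact (ConcreteCategory.bijective_of_isIso ((j₄ ≫ j').stalkMap a₄)).1
  have hθu : t.left (θ a₄) = x'.left (closedPoint K') :=
    ((congrArg (fun k : Spec A₄ ⟶ U.left => k a₄)
      (show θ ≫ t.left = (j₄ ≫ j') ≫ q'.left by simp only [θ, Category.assoc, hτt'])).trans
      (congrArg (fun z => q'.left z) hpt)).trans
      (congrArg (fun k : Over.mk str' ⟶ U => k.left (closedPoint K')) he'q)
  have hθe : eR.left (t.left (θ a₄)) = θ a₄ := by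
    rw [hθu]
    show _ = τ.left ((j₄ ≫ j') a₄)
    rw [hpt]
    exact (congrArg (fun k : Over.mk str' ⟶ R => k.left (closedPoint K')) heτ).symm
  obtain ⟨O, hO, hOf, hOp⟩ := exists_flat_cut hπ hπ' sqR het hes hV h ψ θ hθt a₄ hha hnz hker hθe
  -- the point on the cut
  let x'₀ : Spec (CommRingCat.of K') ⟶ U.left := x'.left
  have hxu : x'₀ (closedPoint K') = (j' ≫ q'.left) a₁ := by
    rw [Scheme.Hom.comp_apply, ha₁]
    exact (congrArg (fun k : Over.mk str' ⟶ U => k.left (closedPoint K')) he'q).symm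
  have hrg : Set.range x'₀ ⊆ Set.range hV.fromSpec := by
    rintro _ ⟨z, rfl⟩
    rw [Subsingleton.elim (α := PrimeSpectrum K') z (closedPoint K'), hxu, hV.range_fromSpec]
    exact hu
  obtain ⟨χ, hχ⟩ := Spec.map_surjective (IsOpenImmersion.lift hV.fromSpec x'₀ hrg)
  have hχx : Spec.map χ ≫ hV.fromSpec = x'₀ := by rw [hχ, IsOpenImmersion.lift_fac]
  have hχ0 : χ h = 0 := by
    have hp : Spec.map χ (closedPoint K') = hV.primeIdealOf ⟨_, hu⟩ := hV.fromSpec.isOpenEmbedding.injective (by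
      rw [hV.fromSpec_primeIdealOf]
      exact (congrArg (fun k : Spec (CommRingCat.of K') ⟶ U.left => k (closedPoint K')) hχx).trans hxu)
    have : χ h ∈ (closedPoint K').asIdeal := by rw [← hp] at hhu; exact hhu
    have hbot : (closedPoint K').asIdeal = ⊥ := maximalIdeal_eq_bot
    rw [hbot] at this
    exact this
  let y₀ : Over.mk str' ⟶ cutOver hV h := Over.homMk
    (Spec.map (CommRingCat.ofHom (Ideal.Quotient.lift (Ideal.span {h}) χ.hom fun a ha => by
      obtain ⟨b, rfl⟩ := Ideal.mem_span_singleton'.1 ha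
      rw [map_mul, hχ0, mul_zero]))) (by
      show Spec.map _ ≫ ((Spec.map _ ≫ hV.fromSpec) ≫ U.hom) = str'
      rw [← Category.assoc, ← Category.assoc, ← Spec.map_comp, ← CommRingCat.ofHom_comp, Ideal.Quotient.lift_comp_mk,
        CommRingCat.ofHom_hom, hχx]
      exact Over.w x')
  have hy₀ : y₀ ≫ cutι hV h = x' := by
    apply Over.OverMorphism.ext
    show Spec.map _ ≫ (Spec.map _ ≫ hV.fromSpec) = x'.left
    rw [← Category.assoc, ← Spec.map_comp, ← CommRingCat.ofHom_comp, Ideal.Quotient.lift_comp_mk,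
      CommRingCat.ofHom_hom, hχx]
  obtain ⟨x₁, hx₁⟩ := exists_lift_opens y₀ O (by
    rintro _ ⟨z, rfl⟩
    refine hO _ ?_
    rw [Subsingleton.elim (α := PrimeSpectrum K') z (closedPoint K'), hθu]
    exact congrArg (fun k : Over.mk str' ⟶ U => k.left (closedPoint K')) hy₀)
  set g₁ := openOverι O ≫ cutι hV h with hg₁
  set π₁ := (yon S).map g₁ ≫ π with hπ₁
  have hx₁g : x₁ ≫ g₁ = x' := by rw [hg₁, ← Category.assoc, hx₁, hy₀]
  have hx₁π : (yon S).map x₁ ≫ π₁ = (yon S).map x' ≫ π := by rw [hπ₁, ← Category.assoc, ← Functor.map_comp, hx₁g]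
  have hx₁ft : LocallyOfFiniteType x₁.left := by
    have : LocallyOfFiniteType (x₁.left ≫ g₁.left) := by
      rw [← Over.comp_left, hx₁g]; exact hx'
    exact locallyOfFiniteType_of_comp _ g₁.left
  obtain ⟨X₁, fst₁, p₁, sq₁⟩ := exists_isPullback_of_representable hOf.1 ((yon S).map x₁ ≫ π₁)
  obtain ⟨q₁, rfl⟩ := (yon S).map_surjective fst₁
  let e₁ : Over.mk str' ⟶ X₁ := (yon S).preimage (sq₁.lift ((yon S).map x₁) ((yon S).map (𝟙 _))
    (by rw [(yon S).map_id, Category.id_comp]))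
  have he₁q : e₁ ≫ q₁ = x₁ := (yon S).map_injective (by rw [Functor.map_comp, Functor.map_preimage, IsPullback.lift_fst])
  have he₁p : e₁ ≫ p₁ = 𝟙 _ := (yon S).map_injective (by rw [Functor.map_comp, Functor.map_preimage, IsPullback.lift_snd])
  let ε : X₁ ⟶ X' := (yon S).preimage (sq'.lift ((yon S).map (q₁ ≫ g₁)) ((yon S).map p₁)
    (by rw [← hx₁π, Functor.map_comp, Category.assoc]; exact sq₁.w))
  have hεq : ε ≫ q' = q₁ ≫ g₁ := (yon S).map_injective (by rw [Functor.map_comp, Functor.map_preimage, IsPullback.lift_fst])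
  have hεp : ε ≫ p' = p₁ := (yon S).map_injective (by rw [Functor.map_comp, Functor.map_preimage, IsPullback.lift_snd])
  have sε : IsPullback q₁.left ε.left g₁.left q'.left := by
    refine isPullback_left (isPullback_of_isPullback_yon (IsPullback.of_bot ?_ (by
      rw [← Functor.map_comp, ← Functor.map_comp, hεq]) sq'))
    rw [← Functor.map_comp, hεp, ← hx₁π]
    exact sq₁
  have he₁ε : e₁ ≫ ε = e' := (yon S).map_injective (sq'.hom_ext
    (by rw [← Functor.map_comp, ← Functor.map_comp, Category.assoc, hεq, ← Category.assoc, he₁q, hx₁g, he'q])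
    (by rw [← Functor.map_comp, ← Functor.map_comp, Category.assoc, hεp, he₁p, he'p]))
  -- the affine neighbourhood
  have cA := isPullback_cut hV ψ (f := (j₄ ≫ j') ≫ q'.left) (by rw [Category.assoc]; exact hψ.symm)
    (Ideal.span {h}) (J := (Ideal.span {h}).map ψ.hom) rfl
  let J₄ : Ideal A₄ := (Ideal.span {h}).map ψ.hom
  let c : Spec (CommRingCat.of (A₄ ⧸ J₄)) ⟶ (cutOver hV h).left :=
    Spec.map (CommRingCat.ofHom (Ideal.quotientMap J₄ ψ.hom Ideal.le_comap_map))
  have sP := (IsPullback.of_hasPullback c O.ι).flip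
  let Pb := pullback c O.ι
  have sbig : IsPullback (pullback.snd c O.ι) (pullback.fst c O.ι ≫ Spec.map (CommRingCat.ofHom (Ideal.Quotient.mk J₄)))
      g₁.left ((j₄ ≫ j') ≫ q'.left) := sP.paste_vert cA.flip
  let ε₄ : Pb ⟶ X₁.left := sε.lift (pullback.snd c O.ι)
    ((pullback.fst c O.ι ≫ Spec.map (CommRingCat.ofHom (Ideal.Quotient.mk J₄))) ≫ j₄ ≫ j')
    (by rw [Category.assoc]; exact sbig.w)
  have s₄ : IsPullback ε₄ (pullback.fst c O.ι ≫ Spec.map (CommRingCat.ofHom (Ideal.Quotient.mk J₄))) ε.left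
      (j₄ ≫ j') := by
    refine IsPullback.of_right ?_ (sε.lift_snd _ _ _) sε.flip.flip.flip.flip
    rw [sε.lift_fst]
    exact sbig
  have hε₄ : IsOpenImmersion ε₄ := MorphismProperty.of_isPullback s₄.flip inferInstance
  obtain ⟨w, hw₁, -⟩ := Scheme.Pullback.exists_preimage_pullback (f := ε.left) (g := j₄ ≫ j')
    (e₁.left (closedPoint K')) a₄ (by rw [hpt, ← he₁ε]; rfl)
  let w₀ : Pb := s₄.isoPullback.inv w
  have hw₀ : ε₄ w₀ = e₁.left (closedPoint K') := by
    rw [← Scheme.Hom.comp_apply, s₄.isoPullback_inv_fst]; exact hw₁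
  let B₄ := A₄ ⧸ J₄
  let f₀ : Pb ⟶ Spec (CommRingCat.of B₄) := pullback.fst c O.ι
  obtain ⟨_, ⟨g₂, rfl⟩, hg₂, hg₂P⟩ := PrimeSpectrum.isTopologicalBasis_basic_opens.exists_subset_of_mem_open
    (show f₀ w₀ ∈ Set.range f₀ from ⟨w₀, rfl⟩) f₀.isOpenEmbedding.isOpen_range
  let C := CommRingCat.of (Localization.Away g₂)
  let jB : Spec C ⟶ Spec (CommRingCat.of B₄) := Spec.map (CommRingCat.ofHom (algebraMap B₄ (Localization.Away g₂)))
  have : IsOpenImmersion jB := IsOpenImmersion.of_isLocalization g₂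
  have hrB : Set.range jB = (PrimeSpectrum.basicOpen g₂ : Set (PrimeSpectrum B₄)) :=
    PrimeSpectrum.localization_away_comap_range _ g₂
  let jP : Spec C ⟶ Pb := IsOpenImmersion.lift f₀ jB (hrB ▸ hg₂P)
  have hjP : jP ≫ f₀ = jB := IsOpenImmersion.lift_fac _ _ _
  have : IsOpenImmersion (jP ≫ f₀) := hjP ▸ inferInstance
  have hjPo : IsOpenImmersion jP := IsOpenImmersion.of_comp jP f₀
  obtain ⟨c₀, hc₀⟩ : f₀ w₀ ∈ Set.range jB := hrB ▸ hg₂
  refine ⟨openOver O, g₁, π₁, hπ₁, K', inferInstance, str', x₁, lO, X₁, q₁, p₁, e₁, C, jP ≫ ε₄, hOf, hOp, hx₁ft,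
    hx₁π.trans hrel, sq₁, he₁q, he₁p, MorphismProperty.comp_mem @IsOpenImmersion jP ε₄ hjPo hε₄, ⟨c₀, ?_⟩, ?_⟩
  · rw [Scheme.Hom.comp_apply, ← hw₀]
    refine congrArg _ (f₀.isOpenEmbedding.injective ?_)
    rw [← Scheme.Hom.comp_apply, hjP, hc₀]
  · refine (ringKrullDim_le_of_isLocalization (A := B₄) (B := Localization.Away g₂) (.powers g₂)).trans ?_
    have hJ₄ : J₄ = Ideal.span {ψ h} := by simp [J₄, Ideal.map_span]
    have h1 : ringKrullDim B₄ + 1 ≤ ((n + 1 : ℕ) : WithBot ℕ∞) := by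
      show ringKrullDim (A₄ ⧸ J₄) + 1 ≤ _
      rw [hJ₄]
      exact (ringKrullDim_quotient_succ_le_of_nonZeroDivisor hnz).trans hdim₄
    push_cast at h1
    revert h1
    cases ringKrullDim B₄ with
    | bot => exact fun _ => bot_le
    | coe a =>
      intro h1
      norm_cast at h1 ⊢
      cases a with
      | top => simp at h1
      | coe b => norm_cast at h1 ⊢; omega

/-- Slicing: every finite type point of a chart is reached by a flat, lfp, locally quasi-finite chart. -/
theorem reach_of_dim (n : ℕ) : ∀ {U : Over S} {π : (yon S).obj U ⟶ F}, RepWith @Flat π →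
    RepWith @LocallyOfFinitePresentation π → ∀ {K : Type u} [Field K] {str : Spec (CommRingCat.of K) ⟶ S}
      {x : Over.mk str ⟶ U} [LocallyOfFiniteType x.left] {X : Over S} {q : X ⟶ U} {p : X ⟶ Over.mk str}
      {e : Over.mk str ⟶ X}, IsPullback ((yon S).map q) ((yon S).map p) π ((yon S).map x ≫ π) →
      e ≫ q = x → e ≫ p = 𝟙 _ → ∀ {A : CommRingCat.{u}} (j : Spec A ⟶ X.left) [IsOpenImmersion j],
      e.left (closedPoint K) ∈ Set.range j → ringKrullDim A ≤ (n : WithBot ℕ∞) → Reach π x := by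
  have disc : ∀ {U : Over S} {π : (yon S).obj U ⟶ F}, RepWith @Flat π →
    RepWith @LocallyOfFinitePresentation π → ∀ {K : Type u} [Field K] {str : Spec (CommRingCat.of K) ⟶ S}
      {x : Over.mk str ⟶ U} {X : Over S} {q : X ⟶ U} {p : X ⟶ Over.mk str}
      {e : Over.mk str ⟶ X}, IsPullback ((yon S).map q) ((yon S).map p) π ((yon S).map x ≫ π) →
      e ≫ q = x → e ≫ p = 𝟙 _ → ∀ {A : CommRingCat.{u}} (j : Spec A ⟶ X.left) [IsOpenImmersion j],
      e.left (closedPoint K) ∈ Set.range j → DiscreteTopology (PrimeSpectrum A) → Reach π x := by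
    intro U π hπ hπ' K _ str x X q p e sq heq hep A j _ ⟨a, ha⟩ hd
    refine reach_of_isOpen_singleton hπ hπ' sq heq hep ?_
    rw [← ha, ← Set.image_singleton]
    exact j.isOpenEmbedding.isOpenMap _ (isOpen_discrete (α := PrimeSpectrum A) _)
  induction n with
  | zero =>
    intro U π hπ hπ' K _ str x _ X q p e sq heq hep A j _ hj hdim
    have : LocallyOfFiniteType p.left := (repWith_mono hπ' fun A B f hf => by
      have : LocallyOfFinitePresentation f := hf; exact (inferInstance : LocallyOfFiniteType f)).2 _ _ _ sq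
    refine disc hπ hπ' sq heq hep j hj ?_
    obtain ⟨φ, hφ⟩ := Spec.map_surjective (j ≫ p.left)
    have hft : φ.hom.FiniteType := (HasRingHomProperty.Spec_iff (P := @LocallyOfFiniteType)).1
      (hφ ▸ inferInstanceAs (LocallyOfFiniteType (j ≫ p.left)))
    letI : Algebra K A := φ.hom.toAlgebra
    have : Algebra.FiniteType K A := hft
    have : IsNoetherianRing A := Algebra.FiniteType.isNoetherianRing K A
    have : Ring.KrullDimLE 0 A := (Order.krullDimLE_iff _ _).2 hdim
    have : IsArtinianRing A := isArtinianRing_iff_isNoetherianRing_krullDimLE_zero.2 ⟨‹_›, ‹_›⟩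
    infer_instance
  | succ n ih =>
    intro U π hπ hπ' K _ str x _ X q p e sq heq hep A j _ hj hdim
    by_cases hd : DiscreteTopology (PrimeSpectrum A)
    · exact disc hπ hπ' sq heq hep j hj hd
    obtain ⟨U₁, g₁, π₁, rfl, K₁, _, str₁, x₁, l, X₁, q₁, p₁, e₁, C, jC, h₁, h₂, h₃, hrel, sq₁, heq₁, hep₁, hjC,
      hrC, hdC⟩ :=
      exists_slice_step hπ hπ' sq heq hep j hdim hd
    exact Reach.trans l hrel (ih h₁ h₂ sq₁ heq₁ hep₁ jC hrC hdC)

end GrothLib.AlgSp
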