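import Groth.Agent.Lib.AlgSp.SliceLemmas

/-!
# Cutting by one function: local computations
-/

universe u

open CategoryTheory CategoryTheory.Limits AlgebraicGeometry IsLocalRing

namespace GrothLib.AlgSp

/-- Nonzerodivisors stay nonzerodivisors in flat algebras. -/
theorem mem_nonZeroDivisors_map_of_flat {A B : Type u} [CommRing A] [CommRing B] [Algebra A B] [Module.Flat A B]
    {a : A} (ha : a ∈ nonZeroDivisors A) : algebraMap A B a ∈ nonZeroDivisors B := by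
  have hw : RingTheory.Sequence.IsWeaklyRegular A [a] := by
    rw [RingTheory.Sequence.isWeaklyRegular_cons_iff]
    exact ⟨fun y z e => sub_eq_zero.mp ((mem_nonZeroDivisors_iff.mp ha).1 _
      (by rw [mul_sub]; exact sub_eq_zero.mpr e)), RingTheory.Sequence.IsWeaklyRegular.nil _ _⟩
  have := hw.of_flat (S := B)
  simp only [List.map_cons, List.map_nil, RingTheory.Sequence.isWeaklyRegular_cons_iff] at this
  rw [mem_nonZeroDivisors_iff_right]
  intro y hy
  exact this.1 (by simpa [mul_comm] using hy)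

theorem isPullback_comp_mono_cut {C : Type*} [Category C] {P X Y Z W : C} {fst : P ⟶ X} {snd : P ⟶ Y} {f : X ⟶ Z}
    {g : Y ⟶ Z} (sq : IsPullback fst snd f g) (i : Z ⟶ W) [Mono i] : IsPullback fst snd (f ≫ i) (g ≫ i) :=
  ⟨⟨by rw [reassoc_of% sq.w]⟩, ⟨PullbackCone.IsLimit.mk _
    (fun c => sq.lift c.fst c.snd ((cancel_mono i).1 (by simpa using c.condition)))
    (fun c => sq.lift_fst _ _ _) (fun c => sq.lift_snd _ _ _)
    (fun c m h₁ h₂ => sq.hom_ext (by rw [h₁, sq.lift_fst]) (by rw [h₂, sq.lift_snd]))⟩⟩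

/-- The base change of a closed subscheme of an affine open along a morphism from an affine scheme. -/
theorem isPullback_cut {U : Scheme.{u}} {V : U.Opens} (hV : IsAffineOpen V) {B : CommRingCat.{u}}
    (φ : Γ(U, V) ⟶ B) {f : Spec B ⟶ U} (hf : Spec.map φ ≫ hV.fromSpec = f) (I : Ideal Γ(U, V)) {J : Ideal B}
    (hJ : J = I.map φ.hom) :
    IsPullback (Spec.map (CommRingCat.ofHom (Ideal.Quotient.mk J)))
      (Spec.map (CommRingCat.ofHom (Ideal.quotientMap J φ.hom (hJ ▸ Ideal.le_comap_map))))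
      f (Spec.map (CommRingCat.ofHom (Ideal.Quotient.mk I)) ≫ hV.fromSpec) := by
  subst hJ hf
  exact isPullback_comp_mono_cut (isPullback_SpecMap_quotient φ I) hV.fromSpec

theorem stalkMap_germ_appLE {X Y : Scheme.{u}} (f : X ⟶ Y) (U : Y.Opens) (V : X.Opens) (e : V ≤ f ⁻¹ᵁ U)
    (x : X) (hx : x ∈ V) (s : Γ(Y, U)) :
    f.stalkMap x (Y.presheaf.germ U (f x) (e hx) s) = X.presheaf.germ V x hx (f.appLE U V e s) := by
  rw [Scheme.Hom.germ_stalkMap_apply, Scheme.Hom.appLE, CommRingCat.comp_apply, TopCat.Presheaf.germ_res_apply]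

/-- The local conditions for slicing: let `θ : Spec A ⟶ R` with `θ ≫ t = Spec ψ` and kernel `m O` at `P`. -/
theorem slice_local_conditions {U R : Scheme.{u}} {s t : R ⟶ U} {V : U.Opens} (hV : IsAffineOpen V)
    {A : CommRingCat.{u}} (ψ : Γ(U, V) ⟶ A) (θ : Spec A ⟶ R) (hθ : θ ≫ t = Spec.map ψ ≫ hV.fromSpec)
    (P : Spec A) (hP : θ P ∈ t ⁻¹ᵁ V) {h : Γ(U, V)} (hh : ψ h ∈ P.asIdeal) (hnzd : ψ h ∈ nonZeroDivisors A)
    (hker : RingHom.ker (θ.stalkMap P).hom =
      (maximalIdeal (U.presheaf.stalk (s (θ P)))).map (s.stalkMap (θ P)).hom) :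
    R.presheaf.germ (t ⁻¹ᵁ V) (θ P) hP (t.app V h) ∈ maximalIdeal (R.presheaf.stalk (θ P)) ∧
      Ideal.Quotient.mk ((maximalIdeal (U.presheaf.stalk (s (θ P)))).map (s.stalkMap (θ P)).hom)
        (R.presheaf.germ (t ⁻¹ᵁ V) (θ P) hP (t.app V h)) ∈
      nonZeroDivisors (R.presheaf.stalk (θ P) ⧸ (maximalIdeal (U.presheaf.stalk (s (θ P)))).map (s.stalkMap (θ P)).hom) := by
  have e : (⊤ : (Spec A).Opens) ≤ (θ ≫ t) ⁻¹ᵁ V := fun y _ => by
    show (θ ≫ t) y ∈ V
    rw [hθ]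
    show hV.fromSpec (Spec.map ψ y) ∈ (V : Set U)
    rw [← hV.range_fromSpec]
    exact ⟨_, rfl⟩
  have key : (θ ≫ t).appLE V ⊤ e = ψ ≫ (Scheme.ΓSpecIso A).inv := by
    have : ∀ (g : Spec A ⟶ U), g = Spec.map ψ ≫ hV.fromSpec → ∀ e', g.appLE V ⊤ e' = ψ ≫ (Scheme.ΓSpecIso A).inv := by
      rintro g rfl e'
      simp [Scheme.Hom.comp_appLE, IsAffineOpen.fromSpec_app_of_le _ _ le_rfl, Scheme.Hom.map_appLE,
        Scheme.ΓSpecIso_inv_naturality, Scheme.Hom.appLE, Scheme.Hom.appTop]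
      rw [← Functor.map_comp]
      exact (congrArg (_ ≫ ·) ((Spec A).presheaf.map_id _)).trans (Category.comp_id _)
    exact this _ hθ e
  letI : Algebra A ((Spec A).presheaf.stalk P) :=
    ((Scheme.ΓSpecIso A).inv ≫ (Spec A).presheaf.germ ⊤ P trivial).hom.toAlgebra
  haveI : IsLocalization.AtPrime ((Spec A).presheaf.stalk P) P.asIdeal :=
    StructureSheaf.IsLocalization.to_stalk A P
  haveI : Module.Flat A ((Spec A).presheaf.stalk P) := IsLocalization.flat _ P.asIdeal.primeCompl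
  have himg : θ.stalkMap P (R.presheaf.germ (t ⁻¹ᵁ V) (θ P) hP (t.app V h)) =
      algebraMap A ((Spec A).presheaf.stalk P) (ψ h) := by
    rw [stalkMap_germ_appLE θ (t ⁻¹ᵁ V) ⊤ e P trivial, ← CommRingCat.comp_apply (t.app V),
      show t.app V ≫ θ.appLE (t ⁻¹ᵁ V) ⊤ e = (θ ≫ t).appLE V ⊤ e from (Scheme.Hom.comp_appLE θ t _ _ e).symm, key]
    rfl
  refine ⟨(mem_maximalIdeal _).mpr fun hu => ?_, ?_⟩
  · have := hu.map (θ.stalkMap P).hom
    rw [himg, IsLocalization.AtPrime.isUnit_to_map_iff ((Spec A).presheaf.stalk P) P.asIdeal] at this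
    exact this hh
  · have hn : θ.stalkMap P (R.presheaf.germ (t ⁻¹ᵁ V) (θ P) hP (t.app V h)) ∈ nonZeroDivisors _ :=
      himg ▸ mem_nonZeroDivisors_map_of_flat hnzd
    generalize R.presheaf.germ (t ⁻¹ᵁ V) (θ P) hP (t.app V h) = w at hn ⊢
    rw [mem_nonZeroDivisors_iff_right]
    intro y hy
    obtain ⟨y, rfl⟩ := Ideal.Quotient.mk_surjective y
    rw [← map_mul, Ideal.Quotient.eq_zero_iff_mem, ← hker, RingHom.mem_ker, map_mul] at hy
    rw [Ideal.Quotient.eq_zero_iff_mem, ← hker, RingHom.mem_ker]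
    exact (mem_nonZeroDivisors_iff_right.mp hn) _ hy

end GrothLib.AlgSp
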