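import Groth.Agent.Lib.AlgSp.SliceChart
import Groth.Agent.Lib.AlgSp.EtaleChart
import Groth.Agent.Lib.GrpSchField.GrpdStabDim

/-!
# Fibres of a chart over field valued points have discrete fibres over `U`
-/

universe u

open CategoryTheory CategoryTheory.Limits AlgebraicGeometry

namespace GrothLib.AlgSp

open _root_.AlgSp

variable {S : Scheme.{u}} {F : Sp S} {U : Over S} {π : (yon S).obj U ⟶ F}

theorem eq_of_specializes_of_kernelPair {K : Type u} [Field K] {str : Spec (CommRingCat.of K) ⟶ S} {G : Over S}
    {s t : G ⟶ Over.mk str} {f : (yon S).obj (Over.mk str) ⟶ F}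
    (sq : IsPullback ((yon S).map t) ((yon S).map s) f f) [LocallyOfFiniteType s.left] [LocallyOfFiniteType t.left]
    {η z : G.left} (h : η ⤳ z) : z = η := by
  have heq := isEqvRel_of_isPullback sq
  obtain ⟨e, het, hes⟩ := (heq.equivalence (Over.mk str)).refl (𝟙 _)
  obtain ⟨i, hit, his⟩ := (heq.equivalence G).symm (x := t) (y := s) ⟨𝟙 G, Category.id_comp _, Category.id_comp _⟩
  let α : Over.mk (pullback.fst s.left t.left ≫ G.hom) ⟶ G := Over.homMk (pullback.fst s.left t.left) rfl
  let β : Over.mk (pullback.fst s.left t.left ≫ G.hom) ⟶ G := Over.homMk (pullback.snd s.left t.left) (by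
    change pullback.snd s.left t.left ≫ G.hom = pullback.fst s.left t.left ≫ G.hom
    rw [← Over.w t, ← Category.assoc, ← pullback.condition, Category.assoc, Over.w t, ← Over.w s])
  obtain ⟨c, hct, hcs⟩ := (heq.equivalence _).trans (x := α ≫ t) (y := α ≫ s) (z := β ≫ s) ⟨α, rfl, rfl⟩
    ⟨β, (Over.OverMorphism.ext pullback.condition.symm : β ≫ t = α ≫ s), rfl⟩
  have hw : t.left ≫ (Over.mk str).hom = s.left ≫ (Over.mk str).hom := (Over.w t).trans (Over.w s).symm
  have hmono : ∀ {T : Scheme.{u}} (a b : T ⟶ G.left), a ≫ t.left = b ≫ t.left → a ≫ s.left = b ≫ s.left → a = b :=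
    fun a b h₁ h₂ => scheme_hom_ext heq a b h₁ h₂
  let Gr := GrothLib.GrpdQuot.ofEquivRel (Over.mk str).left G.left (Over.mk str).hom s.left t.left hw hmono
    ⟨e.left, congrArg CommaMorphism.left hes, congrArg CommaMorphism.left het⟩
    ⟨i.left, congrArg CommaMorphism.left his, congrArg CommaMorphism.left hit⟩
    ⟨c.left, congrArg CommaMorphism.left hcs, congrArg CommaMorphism.left hct⟩
  have : Mono Gr.j := GrothLib.GrpdQuot.mono_j_ofEquivRel _ _ _ _ _ hw hmono _ _ _
  have : LocallyOfFiniteType Gr.s := ‹LocallyOfFiniteType s.left›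
  have : LocallyOfFiniteType Gr.t := ‹LocallyOfFiniteType t.left›
  exact Gr.j.injective (GrothLib.GrpSchField.j_eq_of_specializes Gr (Iso.refl _) h)

/-- In the fibre of a chart over a field valued point `x` a generization of the section having the same
image in `U` is equal to it. -/
theorem eq_of_specializes_fibre (hπ : RepWith @LocallyOfFiniteType π) {K : Type u} [Field K]
    {str : Spec (CommRingCat.of K) ⟶ S} (x : Over.mk str ⟶ U) [LocallyOfFiniteType x.left] {X : Over S}
    {q : X ⟶ U} {p : X ⟶ Over.mk str} (sq : IsPullback ((yon S).map q) ((yon S).map p) π ((yon S).map x ≫ π))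
    {z : X.left} {e : X.left} (he : q.left e = x.left (IsLocalRing.closedPoint K)) (hz : z ⤳ e)
    (hq : q.left z = q.left e) : z = e := by
  have sb := IsPullback.of_hasPullback q x
  have sG := isPullback_stack sq.flip sb
  rw [← Functor.map_comp] at sG
  set t := pullback.fst q x ≫ p
  set s := pullback.snd q x
  have hx : RepWith @LocallyOfFiniteType ((yon S).map x ≫ π) :=
    repWith_comp ((repWith_yon_map_iff _ _).2 ‹_›) hπ
  have : LocallyOfFiniteType s.left := hx.2 _ _ _ sG
  have : LocallyOfFiniteType t.left := hx.2 _ _ _ sG.flip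
  have sl := (isPullback_left sb).flip
  let u := q.left e
  let x₁ : Spec (CommRingCat.of K) ⟶ U.left := x.left
  let j : Spec (CommRingCat.of K) ⟶ Spec (U.left.residueField (x₁ (IsLocalRing.closedPoint K))) :=
    Spec.map (Scheme.descResidueField (Scheme.stalkClosedPointTo x₁))
  have hj : j ≫ U.left.fromSpecResidueField (x₁ (IsLocalRing.closedPoint K)) = x₁ :=
    Scheme.descResidueField_stalkClosedPointTo_fromSpecResidueField K U.left x₁
  let ν : (pullback q x).left ⟶ q.left.fiber (x₁ (IsLocalRing.closedPoint K)) :=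
    pullback.lift (pullback.fst q x).left (s.left ≫ j) (by rw [Category.assoc, hj]; exact (isPullback_left sb).w)
  have sν : IsPullback ν s.left (q.left.fiberToSpecResidueField _) j := by
    refine IsPullback.of_right ?_ (pullback.lift_snd _ _ _) (IsPullback.of_hasPullback _ _)
    rw [show ν ≫ pullback.fst q.left (U.left.fromSpecResidueField _) = (pullback.fst q x).left from
      pullback.lift_fst _ _ _, hj]
    exact isPullback_left sb
  have : Flat j := by
    refine (HasRingHomProperty.Spec_iff (P := @Flat)).2 ?_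
    algebraize [(Scheme.descResidueField (Scheme.stalkClosedPointTo x₁)).hom]
    exact (inferInstance : Module.Flat (U.left.residueField (x₁ (IsLocalRing.closedPoint K))) K)
  have hνflat : Flat ν := MorphismProperty.of_isPullback (P := @Flat) sν.flip this
  obtain ⟨z', hz'⟩ : z ∈ Set.range (q.left.fiberι (x₁ (IsLocalRing.closedPoint K))) := by
    rw [Scheme.Hom.range_fiberι]; exact hq.trans he
  obtain ⟨g₀, hg₀, -⟩ := Scheme.Pullback.exists_preimage_pullback (f := q.left) (g := x.left) e
    (IsLocalRing.closedPoint K) he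
  let g : (pullback q x).left := (isPullback_left sb).isoPullback.inv g₀
  have hg : (pullback.fst q x).left g = e := by
    rw [← Scheme.Hom.comp_apply, IsPullback.isoPullback_inv_fst]; exact hg₀
  have hνι : ν ≫ q.left.fiberι _ = (pullback.fst q x).left := pullback.lift_fst _ _ _
  have hsp : z' ⤳ ν g := by
    rw [← (q.left.fiberι (x₁ (IsLocalRing.closedPoint K))).isEmbedding.isInducing.specializes_iff, hz',
      ← Scheme.Hom.comp_apply, hνι, hg]
    exact hz
  obtain ⟨g', hg', hgz⟩ := Flat.generalizingMap ν hsp
  have := eq_of_specializes_of_kernelPair sG hg'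
  subst this
  rw [← hz', ← hgz, ← Scheme.Hom.comp_apply, hνι, hg]

end GrothLib.AlgSp
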