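import Groth.Agent.Lib.AlgSp.FlatLocusBC
import Groth.Agent.Lib.FibreFlat.Stalk
import Groth.Agent.Lib.Dim.Ring
import Mathlib.AlgebraicGeometry.ZariskisMainTheorem

/-!
# Pointwise properties and fibres, for slicing

* `flat_stalk_descend`, `qfAt_bc`, `qfAt_descend`: pointwise flatness and quasi-finiteness under base change;
* `ker_stalkMap_field_fibre`: the local ring of a fibre over a field-valued point receives
  `O / m O` injectively;
* `isPullback_SpecMap_quotient`: a closed subscheme of an affine scheme pulled back to an affine scheme;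
* `exists_nonassociated_maximal`: a non-discrete affine algebraic scheme has a closed point with depth.
-/

universe u

open CategoryTheory CategoryTheory.Limits AlgebraicGeometry

namespace GrothLib.AlgSp

section Pointwise

variable {U V U' V' : Scheme.{u}} {p : U' ⟶ U} {h' : U' ⟶ V'} {h : U ⟶ V} {q : V' ⟶ V}

/-- Flatness at a point descends along a flat base change. -/
theorem flat_stalk_descend (sq : IsPullback p h' h q) [Flat q] (u : U') (hu : (h'.stalkMap u).hom.Flat) :
    (h.stalkMap (p u)).hom.Flat :=
  have : Flat p := MorphismProperty.of_isPullback sq.flip ‹_›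
  flat_stalk_right p h u (Flat.stalkMap p u)
    ((flat_stalk_congr sq.w.symm).1 (flat_stalk_comp h' q u hu (Flat.stalkMap q _)))

/-- Quasi-finiteness at a point is stable under base change. -/
theorem qfAt_bc [LocallyOfFiniteType h] (sq : IsPullback p h' h q) (u : U') (hu : h.QuasiFiniteAt (p u)) :
    h'.QuasiFiniteAt u := by
  let O := h.quasiFiniteLocus
  have : LocallyQuasiFinite (O.ι ≫ h) := by
    rw [← Scheme.Hom.quasiFiniteLocus_eq_top_iff, Scheme.Hom.quasiFiniteLocus_comp]
    exact O.ι_preimage_self
  have sqO := (IsPullback.of_hasPullback O.ι p).paste_vert sq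
  have : LocallyQuasiFinite (pullback.snd O.ι p ≫ h') :=
    MorphismProperty.of_isPullback (P := @LocallyQuasiFinite) sqO ‹_›
  obtain ⟨z, -, hz⟩ := Scheme.Pullback.exists_preimage_pullback (f := O.ι) (g := p) (⟨p u, hu⟩ : O) u rfl
  subst hz
  exact Scheme.Hom.quasiFiniteAt_comp_iff_of_isOpenImmersion.1 ((pullback.snd O.ι p ≫ h').quasiFiniteAt z)

/-- Quasi-finiteness at a point descends along any base change. -/
theorem qfAt_descend [LocallyOfFiniteType h] (sq : IsPullback p h' h q) (u : U') (hu : h'.QuasiFiniteAt u) :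
    h.QuasiFiniteAt (p u) := by
  have : LocallyOfFiniteType h' := MorphismProperty.of_isPullback sq ‹_›
  rw [Scheme.Hom.quasiFiniteAt_iff_isOpen_singleton_asFiber] at hu ⊢
  have sq' := isPullback_fiberToSpecResidueField_of_isPullback sq (h' u)
  let π : h'.fiber (h' u) ⟶ h.fiber (q (h' u)) := pullback.map _ _ _ _ p (Spec.map (q.residueFieldMap (h' u))) q sq.w.symm
    (Scheme.Hom.SpecMap_residueFieldMap_fromSpecResidueField q (h' u)).symm
  have hπι : π ≫ h.fiberι _ = h'.fiberι _ ≫ p := pullback.lift_fst _ _ _
  have ho : UniversallyOpen π := MorphismProperty.of_isPullback (P := @UniversallyOpen) sq'.flip inferInstance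
  have h0 := π.isOpenMap _ hu
  rw [Set.image_singleton] at h0
  have key : ∀ y, y = h (p u) → ∀ z : h.fiber y, h.fiberι y z = p u → IsOpen ({z} : Set (h.fiber y)) →
      IsOpen ({h.asFiber (p u)} : Set (h.fiber (h (p u)))) := by
    rintro y rfl z hz H
    have : z = h.asFiber (p u) := (h.fiberι _).isEmbedding.injective (hz.trans (h.fiberι_asFiber (p u)).symm)
    exact this ▸ H
  refine key _ ?_ _ ?_ h0
  · rw [← Scheme.Hom.comp_apply, ← sq.w, Scheme.Hom.comp_apply]
  · rw [← Scheme.Hom.comp_apply, hπι, Scheme.Hom.comp_apply, Scheme.Hom.fiberι_asFiber]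

/-- For the fibre over a field valued point, the local ring of the base maps onto a subring `O / m O`
of the local ring of the fibre. -/
theorem ker_stalkMap_field_fibre {K : Type u} [Field K] {x : Spec (CommRingCat.of K) ⟶ V} {U' : Scheme.{u}}
    {τ : U' ⟶ U} {p' : U' ⟶ Spec (CommRingCat.of K)} (sq : IsPullback τ p' h x) (z : U') :
    RingHom.ker (τ.stalkMap z).hom =
      (IsLocalRing.maximalIdeal (V.presheaf.stalk (h (τ z)))).map (h.stalkMap (τ z)).hom := by
  let v := x (IsLocalRing.closedPoint K)
  let j : Spec (CommRingCat.of K) ⟶ Spec (V.residueField v) :=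
    Spec.map (Scheme.descResidueField (Scheme.stalkClosedPointTo x))
  have hj : j ≫ V.fromSpecResidueField v = x :=
    Scheme.descResidueField_stalkClosedPointTo_fromSpecResidueField K V x
  have : Flat j := by
    refine (HasRingHomProperty.Spec_iff (P := @Flat)).2 ?_
    algebraize [(Scheme.descResidueField (Scheme.stalkClosedPointTo x)).hom]
    exact (inferInstance : Module.Flat (V.residueField v) K)
  let π : U' ⟶ h.fiber v := pullback.lift τ (p' ≫ j) (by rw [Category.assoc, hj]; exact sq.w)
  have sq₁ : IsPullback π p' (h.fiberToSpecResidueField v) j := by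
    refine IsPullback.of_right ?_ (pullback.lift_snd _ _ _) (IsPullback.of_hasPullback _ _)
    rw [show π ≫ pullback.fst h (V.fromSpecResidueField v) = τ from pullback.lift_fst _ _ _, hj]
    exact sq
  have : Flat π := MorphismProperty.of_isPullback (P := @Flat) sq₁.flip ‹_›
  have hτ : π ≫ h.fiberι v = τ := pullback.lift_fst _ _ _
  have hv : h (h.fiberι v (π z)) = v := by
    rw [← Set.mem_singleton_iff, ← Set.mem_preimage, ← h.range_fiberι v]
    exact ⟨_, rfl⟩
  have hinj : Function.Injective (π.stalkMap z).hom := by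
    letI := (π.stalkMap z).hom.toAlgebra
    haveI : Module.Flat ((h.fiber v).presheaf.stalk (π z)) (U'.presheaf.stalk z) := Flat.stalkMap π z
    haveI : IsLocalHom (algebraMap ((h.fiber v).presheaf.stalk (π z)) (U'.presheaf.stalk z)) :=
      inferInstanceAs (IsLocalHom (π.stalkMap z).hom)
    haveI := Module.FaithfullyFlat.of_flat_of_isLocalHom (A := (h.fiber v).presheaf.stalk (π z))
      (B := U'.presheaf.stalk z)
    exact FaithfulSMul.algebraMap_injective _ _
  clear_value π
  subst hτ
  rw [Scheme.Hom.stalkMap_comp]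
  refine (RingHom.ker_comp_of_injective _ hinj).trans ?_
  exact (GrothLib.FibreFlat.fiberι_stalkMap h v (π z)).2

end Pointwise

section Algebra

/-- A closed subscheme of an affine scheme, pulled back to an affine scheme. -/
theorem isPullback_SpecMap_quotient {A B : CommRingCat.{u}} (φ : A ⟶ B) (I : Ideal A) :
    IsPullback (Spec.map (CommRingCat.ofHom (Ideal.Quotient.mk (I.map φ.hom))))
      (Spec.map (CommRingCat.ofHom (Ideal.quotientMap (I.map φ.hom) φ.hom Ideal.le_comap_map)))
      (Spec.map φ) (Spec.map (CommRingCat.ofHom (Ideal.Quotient.mk I))) := by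
  refine isPullback_SpecMap_of_isPushout _ _ _ _ ?_
  refine ⟨⟨by ext a; rfl⟩, ⟨PushoutCocone.IsColimit.mk _
    (fun s => CommRingCat.ofHom (Ideal.Quotient.lift (I.map φ.hom) s.inl.hom ?_)) ?_ ?_ ?_⟩⟩
  · intro b hb
    refine Ideal.map_le_iff_le_comap.mpr (fun a ha => ?_ : I ≤ (RingHom.ker s.inl.hom).comap φ.hom) hb
    show s.inl.hom (φ.hom a) = 0
    rw [← RingHom.comp_apply, ← CommRingCat.hom_comp, s.condition]
    show s.inr.hom (Ideal.Quotient.mk I a) = 0
    rw [Ideal.Quotient.eq_zero_iff_mem.mpr ha, map_zero]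
  · intro s; ext b; rfl
  · intro s
    ext a
    show s.inl.hom (φ.hom a) = s.inr.hom (Ideal.Quotient.mk I a)
    exact RingHom.congr_fun (congrArg CommRingCat.Hom.hom s.condition) a
  · intro s m h₁ h₂
    ext b
    exact RingHom.congr_fun (congrArg CommRingCat.Hom.hom h₁) b

/-- A finitely generated algebra over a field whose spectrum has a non isolated point has a maximal
ideal containing a nonzerodivisor. -/
theorem exists_maximal_nonZeroDivisor {K A : Type u} [Field K] [CommRing A] [Algebra K A]
    [Algebra.FiniteType K A] (h : ¬ DiscreteTopology (PrimeSpectrum A)) :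
    ∃ M : Ideal A, M.IsMaximal ∧ ∃ a ∈ M, a ∈ nonZeroDivisors A := by
  have : IsJacobsonRing A := isJacobsonRing_of_finiteType (A := K)
  have : IsNoetherianRing A := Algebra.FiniteType.isNoetherianRing K A
  by_contra hc
  push Not at hc
  refine h (JacobsonSpace.discreteTopology ?_)
  refine ((associatedPrimes.finite A A).preimage
    (f := PrimeSpectrum.asIdeal) fun _ _ _ _ e => PrimeSpectrum.ext e).subset fun x hx => ?_
  have hm := (PrimeSpectrum.isClosed_singleton_iff_isMaximal x).mp hx
  obtain ⟨P, hP, hle⟩ : ∃ P ∈ associatedPrimes A A, x.asIdeal ≤ P :=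
    (x.asIdeal.subset_union_prime_finite (associatedPrimes.finite A A) (f := id) 0 0 fun _ hP _ _ => hP.isPrime).1
      (by
        simp_rw [id, biUnion_associatedPrimes_eq_compl_nonZeroDivisors]
        exact fun a ha => hc x.asIdeal hm a ha)
  show x.asIdeal ∈ associatedPrimes A A
  rwa [hm.eq_of_le hP.isPrime.ne_top hle]

/-- An element outside the associated primes below `P` is a nonzerodivisor on a neighbourhood of `P`. -/
theorem exists_away_nonZeroDivisor {A : Type u} [CommRing A] [IsNoetherianRing A] (P : Ideal A) [P.IsPrime]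
    {h : A} (hh : ∀ q ∈ associatedPrimes A A, q ≤ P → h ∉ q) :
    ∃ g ∉ P, algebraMap A (Localization.Away g) h ∈ nonZeroDivisors (Localization.Away g) := by
  let I := LinearMap.ker (LinearMap.mulLeft A h)
  have hann : ¬ Module.annihilator A I ≤ P := fun hle => by
    obtain ⟨q, hq, hqP⟩ := Ideal.exists_minimalPrimes_le hle
    refine hh q ?_ hqP (hq.1.2 ?_)
    · exact associatedPrimes.subset_of_injective (f := I.subtype) I.injective_subtype
        (Module.associatedPrimes.minimalPrimes_annihilator_subset_associatedPrimes A I hq)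
    · exact Module.mem_annihilator.mpr fun y => Subtype.ext y.2
  obtain ⟨g, hg, hgP⟩ := SetLike.not_le_iff_exists.mp hann
  refine ⟨g, hgP, mem_nonZeroDivisors_iff_right.mpr fun y hy => ?_⟩
  obtain ⟨a, ⟨_, n, rfl⟩, rfl⟩ := IsLocalization.exists_mk'_eq (Submonoid.powers g) y
  rw [mul_comm, IsLocalization.mul_mk'_eq_mk'_of_mul, IsLocalization.mk'_eq_zero_iff] at hy
  obtain ⟨⟨_, m, rfl⟩, hy⟩ := hy
  have hk : g ^ m * a ∈ I := by
    show h * (g ^ m * a) = 0
    rw [← hy]; ring
  rw [IsLocalization.mk'_eq_zero_iff]
  refine ⟨⟨g ^ (m + 1), m + 1, rfl⟩, ?_⟩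
  have := congrArg Subtype.val (Module.mem_annihilator.mp hg ⟨_, hk⟩)
  show g ^ (m + 1) * a = 0
  rw [pow_succ', mul_assoc]
  exact this

/-- Localization does not increase the dimension. -/
theorem ringKrullDim_le_of_isLocalization {A B : Type u} [CommRing A] [CommRing B] [Algebra A B]
    (M : Submonoid A) [IsLocalization M B] : ringKrullDim B ≤ ringKrullDim A :=
  Order.krullDim_le_of_strictMono _ 
    ((OrderEmbedding.subtype _).strictMono.comp (IsLocalization.primeSpectrumOrderIso M B).strictMono)

end Algebra

end GrothLib.AlgSp
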