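import Groth.Agent.Lib.AlgSp.SliceFibre
import Groth.Agent.Lib.AlgSp.SliceCut
import Groth.Agent.S1348

/-!
# One slicing step
-/

universe u

open CategoryTheory CategoryTheory.Limits AlgebraicGeometry IsLocalRing

namespace GrothLib.AlgSp

open _root_.AlgSp

/-- A finite field extension realised by a closed point with depth, and the base change of the fibre. -/
theorem exists_point_extension {K : Type u} [Field K] {X : Scheme.{u}} (p : X ⟶ Spec (CommRingCat.of K))
    [LocallyOfFiniteType p] {A : CommRingCat.{u}} (j : Spec A ⟶ X) [IsOpenImmersion j] {N : WithBot ℕ∞}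
    (hdim : ringKrullDim A ≤ N) (h : ¬ DiscreteTopology (PrimeSpectrum A)) :
    ∃ (K' : Type u) (_ : Field K') (r : Spec (CommRingCat.of K') ⟶ X), LocallyOfFiniteType r ∧
      ∀ {X' : Scheme.{u}} (m : X' ⟶ X) (p' : X' ⟶ Spec (CommRingCat.of K')), IsPullback m p' p (r ≫ p) →
      ∀ (e' : Spec (CommRingCat.of K') ⟶ X'), e' ≫ m = r →
      ∃ (A₂ : CommRingCat.{u}) (_ : IsNoetherianRing A₂) (j' : Spec A₂ ⟶ X') (_ : IsOpenImmersion j') (a₁ : Spec A₂),
        j' a₁ = e' (closedPoint K') ∧ ringKrullDim A₂ ≤ N ∧ ∃ a ∈ a₁.asIdeal, a ∈ nonZeroDivisors A₂ := by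
  obtain ⟨φ, hφ⟩ := Spec.map_surjective (j ≫ p)
  have hft : φ.hom.FiniteType := (HasRingHomProperty.Spec_iff (P := @LocallyOfFiniteType)).1
    (hφ ▸ inferInstanceAs (LocallyOfFiniteType (j ≫ p)))
  algebraize [φ.hom]
  obtain ⟨M, hM, a, haM, ha⟩ := exists_maximal_nonZeroDivisor (K := K) h
  letI : Field (A ⧸ M) := Ideal.Quotient.field M
  let mk : A ⟶ CommRingCat.of (A ⧸ M) := CommRingCat.ofHom (Ideal.Quotient.mk M)
  have : IsClosedImmersion (Spec.map mk) := IsClosedImmersion.spec_of_surjective _ Ideal.Quotient.mk_surjective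
  refine ⟨A ⧸ M, inferInstance, Spec.map mk ≫ j, inferInstance, ?_⟩
  intro X' m p' sqm e' he'
  have hl : (Spec.map mk ≫ j) ≫ p = Spec.map (φ ≫ mk) := by rw [Category.assoc, ← hφ, Spec.map_comp]
  rw [hl] at sqm
  have hfin : IsFinite (Spec.map (φ ≫ mk)) := (IsFinite.SpecMap_iff _).2 <| by
    have : Algebra.FiniteType K (A ⧸ M) := inferInstance
    have : Module.Finite K (A ⧸ M) := finite_of_finite_type_of_isJacobsonRing K (A ⧸ M)
    exact RingHom.finite_algebraMap.2 this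
  have hflat : Flat (Spec.map (φ ≫ mk)) := Flat.SpecMap_iff.2 <| by
    exact RingHom.flat_algebraMap_iff.2 (inferInstance : Module.Flat K (A ⧸ M))
  have sqA := isPullback_SpecMap_pushout φ (φ ≫ mk)
  have hf₂ : IsFinite (Spec.map (pushout.inl φ (φ ≫ mk))) := MorphismProperty.of_isPullback sqA.flip hfin
  have hl₂ : Flat (Spec.map (pushout.inl φ (φ ≫ mk))) := MorphismProperty.of_isPullback (P := @Flat) sqA.flip hflat
  let j' : Spec (pushout φ (φ ≫ mk)) ⟶ X' := sqm.lift (Spec.map (pushout.inl φ (φ ≫ mk)) ≫ j)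
    (Spec.map (pushout.inr φ (φ ≫ mk))) (by rw [Category.assoc, ← hφ]; exact sqA.w)
  have sqj : IsPullback (Spec.map (pushout.inl φ (φ ≫ mk))) j' j m := by
    refine IsPullback.of_bot ?_ (sqm.lift_fst _ _ _).symm sqm
    rw [sqm.lift_snd]; rwa [hφ] at sqA
  have : IsOpenImmersion j' := MorphismProperty.of_isPullback sqj ‹IsOpenImmersion j›
  obtain ⟨z, hz₁, hz₂⟩ := Scheme.Pullback.exists_preimage_pullback (f := j) (g := m)
    (Spec.map mk (closedPoint (A ⧸ M))) (e' (closedPoint (A ⧸ M))) (congrArg (fun k => k (closedPoint (A ⧸ M))) he'.symm)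
  let a₁ := sqj.isoPullback.inv z
  have h₁ : Spec.map (pushout.inl φ (φ ≫ mk)) a₁ = Spec.map mk (closedPoint (A ⧸ M)) := by
    rw [← Scheme.Hom.comp_apply, sqj.isoPullback_inv_fst]; exact hz₁
  have h₂ : j' a₁ = e' (closedPoint (A ⧸ M)) := by
    rw [← Scheme.Hom.comp_apply, sqj.isoPullback_inv_snd]; exact hz₂
  have hfin₂ := (IsFinite.SpecMap_iff _).1 hf₂
  have hflat₂ := Flat.SpecMap_iff.1 hl₂
  algebraize [(pushout.inl φ (φ ≫ mk)).hom]
  haveI : IsNoetherianRing A := Algebra.FiniteType.isNoetherianRing K A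
  haveI hN : IsNoetherianRing (pushout φ (φ ≫ mk) : CommRingCat) := IsNoetherianRing.of_finite A _
  refine ⟨_, hN, j', inferInstance, a₁, h₂, le_trans (GrothLib.Dim.ringKrullDim_le_of_isIntegral A _) hdim,
    algebraMap A _ a, ?_, mem_nonZeroDivisors_map_of_flat ha⟩
  show a ∈ (Spec.map (pushout.inl φ (φ ≫ mk)) a₁).asIdeal
  rw [h₁]
  show Ideal.Quotient.mk M a ∈ (closedPoint (A ⧸ M)).asIdeal
  rw [Ideal.Quotient.eq_zero_iff_mem.2 haM]
  exact Ideal.zero_mem _

/-- A function on `U` vanishing at the image and not dividing zero near the point. -/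
theorem exists_cut_function {U : Scheme.{u}} {A₂ : CommRingCat.{u}} [IsNoetherianRing A₂] (T : Spec A₂ ⟶ U)
    (a₁ : Spec A₂) (hgen : ∀ Q : Spec A₂, Q ⤳ a₁ → T Q = T a₁ → Q = a₁) {N : WithBot ℕ∞}
    (hdim : ringKrullDim A₂ ≤ N) (hnzd : ∃ a ∈ a₁.asIdeal, a ∈ nonZeroDivisors A₂) :
    ∃ (V : U.Opens) (hV : IsAffineOpen V) (hu : T a₁ ∈ V) (h : Γ(U, V)) (A₄ : CommRingCat.{u})
      (j₄ : Spec A₄ ⟶ Spec A₂) (ψ : Γ(U, V) ⟶ A₄) (a₄ : Spec A₄), IsOpenImmersion j₄ ∧
      j₄ ≫ T = Spec.map ψ ≫ hV.fromSpec ∧ j₄ a₄ = a₁ ∧ h ∈ (hV.primeIdealOf ⟨T a₁, hu⟩).asIdeal ∧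
      ψ h ∈ a₄.asIdeal ∧ ψ h ∈ nonZeroDivisors A₄ ∧ ringKrullDim A₄ ≤ N := by
  obtain ⟨_, ⟨V, hV, rfl⟩, hu, -⟩ := U.isBasis_affineOpens.exists_subset_of_mem_open (Set.mem_univ (T a₁)) isOpen_univ
  obtain ⟨_, ⟨g₀, rfl⟩, hg₀, hgV⟩ := PrimeSpectrum.isTopologicalBasis_basic_opens.exists_subset_of_mem_open
    (show a₁ ∈ (T ⁻¹ᵁ V : Set (Spec A₂)) from hu) (T ⁻¹ᵁ V).2
  let A₃ := CommRingCat.of (Localization.Away g₀)
  let j₃ : Spec A₃ ⟶ Spec A₂ := Spec.map (CommRingCat.ofHom (algebraMap A₂ (Localization.Away g₀)))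
  have : IsOpenImmersion j₃ := IsOpenImmersion.of_isLocalization g₀
  have hr : Set.range j₃ = (PrimeSpectrum.basicOpen g₀ : Set (PrimeSpectrum A₂)) :=
    PrimeSpectrum.localization_away_comap_range _ g₀
  obtain ⟨a₃, ha₃⟩ : a₁ ∈ Set.range j₃ := hr ▸ hg₀
  have hrV : Set.range (j₃ ≫ T) ⊆ Set.range hV.fromSpec := by
    rintro _ ⟨y, rfl⟩
    rw [hV.range_fromSpec]
    exact hgV (hr ▸ ⟨y, rfl⟩ : j₃ y ∈ (PrimeSpectrum.basicOpen g₀ : Set (PrimeSpectrum A₂)))
  obtain ⟨ψ, hψ⟩ := Spec.map_surjective (IsOpenImmersion.lift hV.fromSpec (j₃ ≫ T) hrV)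
  have hψT : Spec.map ψ ≫ hV.fromSpec = j₃ ≫ T := by rw [hψ, IsOpenImmersion.lift_fac]
  have hpt : ∀ Q, hV.fromSpec (Spec.map ψ Q) = T (j₃ Q) := fun Q => by
    rw [← Scheme.Hom.comp_apply, hψT, Scheme.Hom.comp_apply]
  haveI : IsNoetherianRing (Localization.Away g₀) := IsLocalization.isNoetherianRing (.powers g₀) _ ‹_›
  obtain ⟨a, ha, ha0⟩ := hnzd
  have ha' : algebraMap A₂ (Localization.Away g₀) a ∈ a₃.asIdeal := by
    have := ha; rw [← ha₃] at this; exact this
  haveI : Module.Flat A₂ (Localization.Away g₀) := IsLocalization.flat _ (.powers g₀)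
  have hP : ¬ ((Spec.map ψ a₃).asIdeal : Set Γ(U, V)) ⊆
      ⋃ q ∈ {q ∈ associatedPrimes A₃ A₃ | q ≤ a₃.asIdeal}, (q.comap ψ.hom : Set Γ(U, V)) := by
    rw [Ideal.subset_union_prime_finite ((associatedPrimes.finite A₃ A₃).subset (Set.sep_subset _ _)) ⊥ ⊥
      (fun q hq _ _ => hq.1.isPrime.comap _)]
    rintro ⟨q, ⟨hq, hqP⟩, hle⟩
    haveI := hq.isPrime
    let Q : Spec A₃ := ⟨q, hq.isPrime⟩
    have hQ : Q ⤳ a₃ := (PrimeSpectrum.le_iff_specializes Q a₃).1 hqP
    have hTQ : T (j₃ Q) = T (j₃ a₃) := by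
      rw [← hpt, ← hpt]
      exact congrArg _ (PrimeSpectrum.ext (le_antisymm (Ideal.comap_mono hqP) hle))
    have := hgen (j₃ Q) (ha₃ ▸ hQ.map j₃.continuous) (by rw [hTQ, ha₃])
    have hQa : Q = a₃ := j₃.isOpenEmbedding.injective (this.trans ha₃.symm)
    have hzero : algebraMap A₂ (Localization.Away g₀) a ∈ q := by rw [show q = a₃.asIdeal from congrArg PrimeSpectrum.asIdeal hQa]; exact ha'
    have : algebraMap A₂ (Localization.Away g₀) a ∈ ⋃ p ∈ associatedPrimes A₃ A₃, (p : Set A₃) :=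
      Set.mem_biUnion hq hzero
    rw [biUnion_associatedPrimes_eq_compl_nonZeroDivisors] at this
    exact this (mem_nonZeroDivisors_map_of_flat ha0)
  obtain ⟨h, hh, hh'⟩ := Set.not_subset.1 hP
  obtain ⟨g₁, hg₁, hn⟩ := exists_away_nonZeroDivisor a₃.asIdeal (h := ψ h) fun q hq hqP hmem =>
    hh' (Set.mem_biUnion (x := q) ⟨hq, hqP⟩ hmem)
  let ι₁ : A₃ ⟶ CommRingCat.of (Localization.Away g₁) := CommRingCat.ofHom (algebraMap A₃ (Localization.Away g₁))
  have : IsOpenImmersion (Spec.map ι₁) := IsOpenImmersion.of_isLocalization g₁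
  obtain ⟨a₄, ha₄⟩ : a₃ ∈ Set.range (Spec.map ι₁) :=
    (PrimeSpectrum.localization_away_comap_range (Localization.Away g₁) g₁).symm ▸ hg₁
  have hu' : hV.primeIdealOf ⟨T a₁, hu⟩ = Spec.map ψ a₃ :=
    hV.fromSpec.isOpenEmbedding.injective (by rw [hV.fromSpec_primeIdealOf, hpt, ha₃])
  refine ⟨V, hV, hu, h, _, Spec.map ι₁ ≫ j₃, ψ ≫ ι₁, a₄, inferInstance, ?_, ?_, hu' ▸ hh, ?_, hn, ?_⟩
  · rw [Category.assoc, ← hψT, ← Spec.map_comp_assoc]
  · rw [Scheme.Hom.comp_apply, ha₄, ha₃]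
  · show ψ h ∈ (Spec.map ι₁ a₄).asIdeal
    rw [ha₄]; exact hh
  · exact (ringKrullDim_le_of_isLocalization (A := A₃) (B := Localization.Away g₁) (.powers g₁)).trans
      ((ringKrullDim_le_of_isLocalization (A := A₂) (B := Localization.Away g₀) (.powers g₀)).trans hdim)

variable {S : Scheme.{u}}

/-- The closed subscheme of an affine open cut out by one function, over `S`. -/
noncomputable abbrev cutOver {U : Over S} {V : U.left.Opens} (hV : IsAffineOpen V) (h : Γ(U.left, V)) : Over S :=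
  Over.mk ((Spec.map (CommRingCat.ofHom (Ideal.Quotient.mk (Ideal.span {h}))) ≫ hV.fromSpec) ≫ U.hom)

/-- Its map to `U`. -/
noncomputable abbrev cutι {U : Over S} {V : U.left.Opens} (hV : IsAffineOpen V) (h : Γ(U.left, V)) : cutOver hV h ⟶ U :=
  Over.homMk (Spec.map (CommRingCat.ofHom (Ideal.Quotient.mk (Ideal.span {h}))) ≫ hV.fromSpec) rfl

theorem lfp_cutι {U : Over S} {V : U.left.Opens} (hV : IsAffineOpen V) (h : Γ(U.left, V)) :
    LocallyOfFinitePresentation (cutι hV h).left := by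
  haveI : LocallyOfFinitePresentation (Spec.map (CommRingCat.ofHom (Ideal.Quotient.mk (Ideal.span {h})))) :=
    (LocallyOfFinitePresentation.SpecMap_iff _).mpr
      (RingHom.FinitePresentation.of_surjective _ Ideal.Quotient.mk_surjective (by
        show (RingHom.ker (Ideal.Quotient.mk _)).FG
        rw [Ideal.mk_ker]
        exact Submodule.fg_span_singleton _))
  exact inferInstanceAs (LocallyOfFinitePresentation (Spec.map _ ≫ hV.fromSpec))

variable {F : Sp S} {U : Over S} {π : (yon S).obj U ⟶ F}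

/-- The cut is a flat chart near a point where the function is fibrewise regular. -/
theorem exists_flat_cut (hπ : RepWith @Flat π) (hπ' : RepWith @LocallyOfFinitePresentation π)
    {R : Over S} {t s : R ⟶ U} {eR : U ⟶ R} (sqR : IsPullback ((yon S).map t) ((yon S).map s) π π)
    (het : eR ≫ t = 𝟙 U) (hes : eR ≫ s = 𝟙 U) {V : U.left.Opens} (hV : IsAffineOpen V) (h : Γ(U.left, V))
    {A : CommRingCat.{u}} (ψ : Γ(U.left, V) ⟶ A) (θ : Spec A ⟶ R.left)
    (hθ : θ ≫ t.left = Spec.map ψ ≫ hV.fromSpec) (P : Spec A) (hh : ψ h ∈ P.asIdeal)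
    (hnzd : ψ h ∈ nonZeroDivisors A)
    (hker : RingHom.ker (θ.stalkMap P).hom =
      (maximalIdeal (U.left.presheaf.stalk (s.left (θ P)))).map (s.left.stalkMap (θ P)).hom)
    (hP : eR.left (t.left (θ P)) = θ P) :
    ∃ O : (cutOver hV h).left.Opens, (∀ y, (cutι hV h).left y = t.left (θ P) → y ∈ O) ∧
      RepWith @Flat ((yon S).map (openOverι O ≫ cutι hV h) ≫ π) ∧
      RepWith @LocallyOfFinitePresentation ((yon S).map (openOverι O ≫ cutι hV h) ≫ π) := by
  set Y := cutOver hV h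
  set g := cutι hV h with hg
  have hglfp := lfp_cutι hV h
  have hfp : RepWith @LocallyOfFinitePresentation ((yon S).map g ≫ π) :=
    repWith_comp ((repWith_yon_map_iff _ _).2 hglfp) hπ'
  obtain ⟨K₁, f₁, a, σ, sq, hσf, hσa⟩ := exists_self_pullback hπ.1 g
  have : LocallyOfFinitePresentation a.left := hfp.2 _ _ _ sq
  obtain ⟨O, hO, hOf, hOp⟩ := exists_flat_open hπ hfp sq hσf hσa
  refine ⟨O, fun y hy => (hO y).2 ?_, hOf, hOp⟩
  -- `K₁ = R ×_U Y`
  let ρ : K₁ ⟶ R := (yon S).preimage (sqR.lift ((yon S).map (f₁ ≫ g)) ((yon S).map a)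
    (by rw [Functor.map_comp, Category.assoc]; exact sq.w))
  have hρt : ρ ≫ t = f₁ ≫ g := (yon S).map_injective (by rw [Functor.map_comp, Functor.map_preimage, IsPullback.lift_fst])
  have hρs : ρ ≫ s = a := (yon S).map_injective (by rw [Functor.map_comp, Functor.map_preimage, IsPullback.lift_snd])
  have sK : IsPullback ρ.left f₁.left t.left g.left := by
    refine isPullback_left (isPullback_of_isPullback_yon (IsPullback.of_right ?_ (by
      rw [← Functor.map_comp, ← Functor.map_comp, hρt]) sqR.flip))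
    rw [← Functor.map_comp, hρs]
    exact sq.flip
  have hσρ : σ ≫ ρ = g ≫ eR := (yon S).map_injective (sqR.hom_ext
    (by rw [← Functor.map_comp, ← Functor.map_comp, Category.assoc, hρt, Category.assoc, het, Category.comp_id,
      ← Category.assoc, hσf, Category.id_comp])
    (by rw [← Functor.map_comp, ← Functor.map_comp, Category.assoc, hρs, Category.assoc, hes, Category.comp_id, hσa]))
  have hy' : ρ.left (σ.left y) = θ P := by
    rw [← hP, ← hy]
    exact congrArg (fun k : cutOver hV h ⟶ R => k.left y) hσρ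
  -- flatness near `θ P`
  have : Flat s.left := hπ.2 _ _ _ sqR
  have : LocallyOfFinitePresentation s.left := hπ'.2 _ _ _ sqR
  have hPV : θ P ∈ t.left ⁻¹ᵁ V := by
    show t.left (θ P) ∈ (V : Set U.left)
    rw [← Scheme.Hom.comp_apply, hθ, ← hV.range_fromSpec]
    exact ⟨_, rfl⟩
  obtain ⟨hm, hreg⟩ := slice_local_conditions hV ψ θ hθ P hPV hh hnzd hker
  obtain ⟨V', hV', hx', h', hgerm, -, hflat', -⟩ :=
    Groth.Agent.S1348.result s.left (θ P) (Flat.stalkMap _ _) _ hm hreg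
  obtain ⟨W, hW, iU, iV, hres⟩ := R.left.presheaf.germ_eq (θ P) hx' hPV h' (t.left.app V h) hgerm
  obtain ⟨_, ⟨D, hD, rfl⟩, hPD, hDW⟩ := R.left.isBasis_affineOpens.exists_subset_of_mem_open hW W.2
  have hDV' : D ≤ V' := le_trans hDW iU.le
  have hDV : D ≤ t.left ⁻¹ᵁ V := le_trans hDW iV.le
  let φ : Γ(U.left, V) ⟶ Γ(R.left, D) := t.left.appLE V D hDV
  let φ' : Γ(R.left, V') ⟶ Γ(R.left, D) := R.left.presheaf.map (homOfLE hDV').op
  have hφh : φ' h' = φ h := by
    have := congrArg (R.left.presheaf.map (homOfLE hDW).op) hres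
    simp only [← CommRingCat.comp_apply, ← Functor.map_comp] at this
    simp only [φ, φ', Scheme.Hom.appLE, ← CommRingCat.comp_apply, Category.assoc, ← Functor.map_comp] at this ⊢
    exact this
  let J : Ideal Γ(R.left, D) := (Ideal.span {h}).map φ.hom
  have hJ' : J = (Ideal.span {h'}).map φ'.hom := by
    simp only [J, Ideal.map_span, Set.image_singleton]
    exact congrArg (fun b => Ideal.span {b}) hφh.symm
  have c₁ := isPullback_cut hV φ (IsAffineOpen.SpecMap_appLE_fromSpec t.left hV hD hDV) (Ideal.span {h}) (J := J) rfl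
  have hmapD : Spec.map φ' ≫ hV'.fromSpec = hD.fromSpec := hV'.map_fromSpec hD _
  have c₂ := isPullback_cut hV' φ' hmapD (Ideal.span {h'}) (J := J) hJ'
  let jD : Spec (CommRingCat.of (Γ(R.left, D) ⧸ J)) ⟶ K₁.left := sK.lift
    (Spec.map (CommRingCat.ofHom (Ideal.Quotient.mk J)) ≫ hD.fromSpec) _ (by rw [Category.assoc]; exact c₁.w)
  have sD : IsPullback (Spec.map (CommRingCat.ofHom (Ideal.Quotient.mk J))) jD hD.fromSpec ρ.left :=
    IsPullback.of_bot (by rw [sK.lift_snd]; exact c₁) (sK.lift_fst _ _ _).symm sK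
  have : IsOpenImmersion jD := MorphismProperty.of_isPullback sD inferInstance
  have : IsOpenImmersion (Spec.map φ') := by
    have : IsOpenImmersion (Spec.map φ' ≫ hV'.fromSpec) := by rw [hmapD]; infer_instance
    exact IsOpenImmersion.of_comp _ hV'.fromSpec
  have hflatD : Flat (jD ≫ a.left) := by
    have ha : a.left = ρ.left ≫ s.left := by rw [← Over.comp_left, hρs]
    rw [ha, ← Category.assoc, sK.lift_fst, Category.assoc]
    have e : Spec.map (CommRingCat.ofHom (Ideal.Quotient.mk J)) ≫ hD.fromSpec =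
        Spec.map (CommRingCat.ofHom (Ideal.quotientMap J φ'.hom (hJ' ▸ Ideal.le_comap_map))) ≫
          Spec.map (CommRingCat.ofHom (Ideal.Quotient.mk (Ideal.span {h'}))) ≫ hV'.fromSpec := c₂.w
    rw [reassoc_of% e]
    have : IsOpenImmersion (Spec.map (CommRingCat.ofHom
        (Ideal.quotientMap J φ'.hom (hJ' ▸ Ideal.le_comap_map)))) :=
      MorphismProperty.of_isPullback c₂ (by rw [← hmapD]; infer_instance)
    infer_instance
  obtain ⟨w, hw₁, hw₂⟩ := Scheme.Pullback.exists_preimage_pullback (f := hD.fromSpec) (g := ρ.left)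
    (hD.primeIdealOf ⟨θ P, hPD⟩) (σ.left y) (by rw [hD.fromSpec_primeIdealOf, hy'])
  have hjw : jD (sD.isoPullback.inv w) = σ.left y := by
    rw [← Scheme.Hom.comp_apply, sD.isoPullback_inv_snd]; exact hw₂
  rw [← hjw]
  exact flat_stalk_right jD a.left _ (Flat.stalkMap jD _) (Flat.stalkMap _ _)

end GrothLib.AlgSp
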