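import Groth.Agent.Lib.AlgSp.UnivExist
import Groth.Agent.Lib.AlgSp.Retraction
import Groth.Agent.Lib.Thickening.Affine
import Mathlib.RingTheory.RingHom.FaithfullyFlat

/-!
# Gluing infinitesimal lifts on etale coverings
-/

universe u

open CategoryTheory CategoryTheory.Limits AlgebraicGeometry Opposite

namespace GrothLib.AlgSp

open _root_.AlgSp

variable {S : Scheme.{u}}

/-- Over an affine base an etale cover can be refined by an affine one. -/
theorem exists_affine_etale_refinement {V U : Over S} [IsAffine U.left] (c : V ⟶ U) [Etale c.left]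
    [Surjective c.left] :
    ∃ (V' : Over S) (d : V' ⟶ V), IsAffine V'.left ∧ Etale (d ≫ c).left ∧ Surjective (d ≫ c).left := by
  obtain ⟨O : V.left.Opens, hO, e⟩ := c.left.isOpenMap.exists_opens_image_eq_of_prespectralSpace
    c.left.continuous (by simp) isOpen_univ isCompact_univ
  have : CompactSpace (O : Scheme.{u}) := isCompact_iff_compactSpace.1 hO
  obtain ⟨Y, p, hsurj, hp, hY⟩ :=
    (O : Scheme.{u}).exists_hom_isAffine_of_isZariskiLocalAtSource @IsLocalIso
  have : Etale p := IsLocalIso.le_of_isZariskiLocalAtSource @Etale _ _ p hp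
  refine ⟨Over.mk ((p ≫ O.ι) ≫ V.hom), Over.homMk (p ≫ O.ι) rfl, hY, ?_, ⟨fun x => ?_⟩⟩
  · change Etale ((p ≫ O.ι) ≫ c.left); infer_instance
  · obtain ⟨y, hy, e⟩ := e.ge (Set.mem_univ x)
    obtain ⟨z, hz⟩ := p.surjective ⟨y, hy⟩
    refine ⟨z, ?_⟩
    change ((p ≫ O.ι) ≫ c.left) z = x
    simpa [hz] using e

/-- A thickening of a representable sheaf given by universality is unique. -/
theorem exists_iso_univAff_space {P : Sp S} {R W : Over S} {Z : Sp S} (hZ : IsAlgSpace Z)
    {hR : (yon S).obj R ⟶ P} {j : R ⟶ W} {g : (yon S).obj W ⟶ P} (hj : FOT j)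
    (w₁ : (yon S).map j ≫ g = hR) (H₁ : UnivAff hR ((yon S).map j) g)
    {i : (yon S).obj R ⟶ Z} {h' : Z ⟶ P} (hi : IsFOThickMor i) (w₂ : i ≫ h' = hR) (H₂ : UnivAff hR i h') :
    ∃ φ : (yon S).obj W ≅ Z, (yon S).map j ≫ φ.hom = i ∧ φ.hom ≫ h' = g := by
  obtain ⟨m, hm, hmg⟩ := H₂.exists_lift hj (𝟙 _) g (by rw [w₁, Category.id_comp])
  obtain ⟨n, hn, hng⟩ := H₁.exists_lift_thick hZ hi (𝟙 _) h' (by rw [w₂, Category.id_comp])
  rw [Category.id_comp] at hm hn
  refine ⟨⟨m, n, ?_, ?_⟩, hm, hmg⟩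
  · refine H₁.1.hom_ext hj (a := 𝟙 _) ?_ ?_ ?_
    · rw [reassoc_of% hm, hn, Category.id_comp]
    · rw [Category.comp_id, Category.id_comp]
    · rw [Category.assoc, hng, hmg, Category.id_comp]
  · refine H₂.1.hom_ext_thick hZ hi (a := 𝟙 _) ?_ ?_ ?_
    · rw [reassoc_of% hn, hm, Category.id_comp]
    · rw [Category.comp_id, Category.id_comp]
    · rw [Category.assoc, hmg, hng, Category.id_comp]

theorem surjective_of_isClosedImmersion_specMap {R T : CommRingCat.{u}} (φ : R ⟶ T)
    [IsClosedImmersion (Spec.map φ)] : Function.Surjective φ.hom := by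
  obtain ⟨-, hs⟩ := IsClosedImmersion.isAffine_surjective_of_isAffine (Spec.map φ)
  intro x
  obtain ⟨y, hy⟩ := hs ((Scheme.ΓSpecIso T).inv.hom x)
  refine ⟨(Scheme.ΓSpecIso R).hom.hom y, ?_⟩
  have h := Scheme.ΓSpecIso_naturality φ
  have h' : φ.hom ((Scheme.ΓSpecIso R).hom.hom y) = (Scheme.ΓSpecIso T).hom.hom ((Spec.map φ).appTop.hom y) :=
    (congr($(h).hom y)).symm
  rw [h', hy]
  exact congr($((Scheme.ΓSpecIso T).inv_hom_id).hom x)

theorem ker_sq_of_fot_specMap {R T : CommRingCat.{u}} (φ : R ⟶ T)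
    (h : MoreMor.IsFirstOrderThickening (Spec.map φ)) : RingHom.ker φ.hom ^ 2 = ⊥ := by
  have : IsClosedImmersion (Spec.map φ) := h.1.1
  have hker : (Spec.map φ).ker.ideal ⟨⊤, isAffineOpen_top _⟩ =
      (RingHom.ker φ.hom).map (Scheme.ΓSpecIso R).inv.hom := by
    rw [Scheme.Hom.ker_apply]
    show RingHom.ker (Spec.map φ).appTop.hom = _
    have h0 : (Spec.map φ).appTop = (Scheme.ΓSpecIso R).hom ≫ φ ≫ (Scheme.ΓSpecIso T).inv := by
      rw [← Category.assoc]
      exact (Iso.eq_comp_inv _).mpr (Scheme.ΓSpecIso_naturality _)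
    rw [h0, CommRingCat.hom_comp, ← RingHom.comap_ker]
    have h1 : RingHom.ker (Scheme.ΓSpecIso T).inv.hom = ⊥ :=
      RingHom.ker_coe_equiv (Scheme.ΓSpecIso T).symm.commRingCatIsoToRingEquiv
    rw [CommRingCat.hom_comp, ← RingHom.comap_ker, h1, ← RingHom.ker_eq_comap_bot]
    exact (Ideal.map_comap_of_equiv (Scheme.ΓSpecIso R).symm.commRingCatIsoToRingEquiv).symm
  have h2 : (Spec.map φ).ker.ideal ⟨⊤, isAffineOpen_top _⟩ ^ 2 = ⊥ := by
    rw [pow_two]
    have := congrArg (fun J : (Spec R).IdealSheafData => J.ideal ⟨⊤, isAffineOpen_top _⟩) h.2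
    simpa [-Scheme.Hom.ker_apply] using this
  rw [hker, ← Ideal.map_pow] at h2
  exact (Ideal.map_eq_bot_iff_of_injective
    (Scheme.ΓSpecIso R).symm.commRingCatIsoToRingEquiv.injective).1 h2

theorem algebraMap_spec {R T : CommRingCat.{u}} {Q : Scheme.{u}} (q : Q ⟶ Spec R) (e : Spec T ⟶ Q)
    (φ : R ⟶ T) (h : Spec.map φ = e ≫ q) (x : R) :
    (Spec.preimage (e ≫ q)).hom x = φ.hom x := by
  rw [← h, Spec.preimage_map]

/-- Formal smoothness can be checked after a surjective etale map on the source. -/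
theorem fs_of_etale_comp {F G : Sp S} (hF : IsAlgSpace F) (hG : IsAlgSpace G) {f : F ⟶ G} {U : Over S}
    {a : (yon S).obj U ⟶ F} (ha : RepWith @Etale a) (has : RepWith @Surjective a)
    (hU : IsFormallySmoothMor (a ≫ f)) : IsFormallySmoothMor f := by
  intro sq
  have ht := fot_j sq
  have hP := isAlgSpace_pullback' hG hF (IsAlgSpace.yon_obj sq.ptT') f sq.bot
  let σ : (yon S).obj sq.ptT ⟶ pullback f sq.bot := pullback.lift sq.top ((yon S).map sq.j) sq.comm
  have hjfu : IsFormallyUnramifiedMor ((yon S).map sq.j) := by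
    refine (fu_yon_map_iff _).2 ?_
    have := ht.1.1
    infer_instance
  have hσ : IsFormallyUnramifiedMor σ := fu_of_comp (b := pullback.snd f sq.bot) (by
    rw [show σ ≫ pullback.snd f sq.bot = _ from pullback.lift_snd _ _ _]; exact hjfu)
  obtain ⟨Z', i, h', hZ', hi, hih, HU, -⟩ := exists_univThick (IsAlgSpace.yon_obj sq.ptT) hP hσ
  -- an affine etale cover of the thickening on which the top arrow lifts to `U`
  obtain ⟨W₀, u₀, s₀, sq₀⟩ := exists_isPullback_of_representable ha.1 sq.top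
  have : Etale s₀.left := ha.2 _ _ _ sq₀
  obtain ⟨W', c', j', hc', sqc', hcs'⟩ := exists_etale_extension ht s₀
  have := hcs' (has.2 _ _ _ sq₀)
  have : IsAffine sq.ptT'.left := inferInstanceAs (IsAffine (Spec _))
  obtain ⟨T₂, d, hT₂, hde, hds⟩ := exists_affine_etale_refinement c'
  let c : T₂ ⟶ sq.ptT' := d ≫ c'
  let R := pullback sq.j c
  let k : R ⟶ W₀ := sqc'.lift (pullback.snd sq.j c ≫ d) (pullback.fst sq.j c) (by
    rw [Category.assoc]; exact (pullback.condition (f := sq.j) (g := c)).symm)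
  let uR : (yon S).obj R ⟶ (yon S).obj U := (yon S).map k ≫ u₀
  have huR : uR ≫ a = (yon S).map (pullback.fst sq.j c) ≫ sq.top := by
    rw [Category.assoc, sq₀.w, ← Functor.map_comp_assoc]
    exact congrArg (fun m => (yon S).map m ≫ sq.top) (sqc'.lift_snd _ _ _)
  have hiR : FOT (pullback.snd sq.j c) := fot_pullback_snd ht c
  have : IsClosedImmersion (pullback.snd sq.j c).left := hiR.1.1
  have : IsAffine R.left := isAffine_of_isAffineHom (pullback.snd sq.j c).left
  -- the universal thickening of `R` inside the scheme chart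
  obtain ⟨PU, pu, pt, sqP⟩ := exists_isPullback_yon hG.diag (a ≫ f) sq.bot
  let m : (yon S).obj PU ⟶ pullback f sq.bot := pullback.lift ((yon S).map pu ≫ a) ((yon S).map pt)
    (by rw [Category.assoc, sqP.w])
  have sqm : IsPullback ((yon S).map pu) m a (pullback.fst f sq.bot) := by
    refine IsPullback.of_bot ?_ (pullback.lift_fst _ _ _).symm (IsPullback.of_hasPullback f sq.bot)
    rw [show m ≫ pullback.snd f sq.bot = _ from pullback.lift_snd _ _ _]
    exact sqP
  have hme : RepWith @Etale m := repWith_of_isPullback sqm ha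
  obtain ⟨σ₂, hσ₂⟩ := (yon S).map_surjective
    (sqP.lift uR ((yon S).map (pullback.fst sq.j c ≫ sq.j)) (by
      rw [← Category.assoc, huR, Category.assoc, sq.comm, Functor.map_comp, Category.assoc]))
  have hσm : (yon S).map σ₂ ≫ m = (yon S).map (pullback.fst sq.j c) ≫ σ := by
    apply pullback.hom_ext
    · rw [Category.assoc, pullback.lift_fst, Category.assoc, pullback.lift_fst, hσ₂, sqP.lift_fst_assoc, huR]
    · rw [Category.assoc, pullback.lift_snd, Category.assoc, pullback.lift_snd, hσ₂, sqP.lift_snd,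
        Functor.map_comp]
  have hce : RepWith @Etale ((yon S).map c) := (repWith_yon_map_iff _ _).2 hde
  have hef : RepWith @Etale ((yon S).map (pullback.fst sq.j c)) :=
    repWith_of_isPullback (isPullback_yon (IsPullback.of_hasPullback sq.j c)).flip hce
  have hσ₂fu : FormallyUnramified σ₂.left := (fu_yon_map_iff _).1 (fu_of_comp (b := m) (by
    rw [hσm]; exact fu_comp (fu_of_fe (fe_of_repWith_etale hef)) hσ))
  obtain ⟨W₁', i₁', g₁', hu₁⟩ := GrothLib.UnivThick.exists_univThickening σ₂.left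
  let W₁ : Over S := Over.mk (g₁' ≫ PU.hom)
  let i₁ : R ⟶ W₁ := Over.homMk i₁' (by
    show i₁' ≫ g₁' ≫ PU.hom = R.hom
    rw [reassoc_of% hu₁.2.1, Over.w σ₂])
  let g₁ : W₁ ⟶ PU := Over.homMk g₁' rfl
  have w₁ : (yon S).map i₁ ≫ (yon S).map g₁ = (yon S).map σ₂ := by
    rw [← Functor.map_comp]; exact congrArg _ (Over.OverMorphism.ext hu₁.2.1)
  have H₁ : UnivAff ((yon S).map (pullback.fst sq.j c) ≫ σ) ((yon S).map i₁) ((yon S).map g₁ ≫ m) := by
    rw [← hσm]
    exact univAff_comp_base w₁ (fe_of_repWith_etale hme) (univAff_of_scheme hu₁)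
  have hW₁ : IsAffine W₁.left := by
    have := hu₁.1.1.1
    have := hu₁.1.1.2
    exact GrothLib.Thickening.isAffine_of_thickening i₁'
  -- compare with the pullback of the universal thickening
  let a' := h' ≫ pullback.snd f sq.bot
  have hi' : i ≫ a' = (yon S).map sq.j := by
    rw [← Category.assoc, hih]; exact pullback.lift_snd _ _ _
  let i₂ : (yon S).obj R ⟶ pullback a' ((yon S).map c) :=
    pullback.lift ((yon S).map (pullback.fst sq.j c) ≫ i) ((yon S).map (pullback.snd sq.j c))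
      (by rw [Category.assoc, hi', ← Functor.map_comp, ← Functor.map_comp, pullback.condition])
  have sqi₂ : IsPullback ((yon S).map (pullback.fst sq.j c)) i₂ i (pullback.fst a' ((yon S).map c)) := by
    refine IsPullback.of_bot ?_ (pullback.lift_fst _ _ _).symm (IsPullback.of_hasPullback _ _)
    rw [show i₂ ≫ pullback.snd _ _ = _ from pullback.lift_snd _ _ _, hi']
    exact isPullback_yon (IsPullback.of_hasPullback sq.j c)
  have hZ₂ : IsAlgSpace (pullback a' ((yon S).map c)) :=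
    isAlgSpace_pullback' (IsAlgSpace.yon_obj sq.ptT') hZ' (IsAlgSpace.yon_obj T₂) _ _
  have w₂ : i₂ ≫ pullback.fst a' ((yon S).map c) ≫ h' = (yon S).map (pullback.fst sq.j c) ≫ σ := by
    rw [pullback.lift_fst_assoc, Category.assoc, hih]
  obtain ⟨e, -, -⟩ := exists_iso_univAff_space hZ₂ (j := i₁) hu₁.1
    (by rw [← Category.assoc, w₁, hσm]) H₁ (isFOThick_baseChange hZ' hi sqi₂) w₂
    (univAff_etale sqi₂.w.symm (fe_of_repWith_etale (repWith_of_isPullback
      (IsPullback.of_hasPullback a' ((yon S).map c)).flip hce)) HU)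
  obtain ⟨w, hw⟩ := (yon S).map_surjective (e.hom ≫ pullback.snd a' ((yon S).map c))
  have sqW : IsPullback (e.hom ≫ pullback.fst a' ((yon S).map c)) ((yon S).map w) a' ((yon S).map c) :=
    (IsPullback.of_hasPullback _ _).of_iso e.symm (Iso.refl _) (Iso.refl _) (Iso.refl _)
      (by simp) (by simp [hw]) (by simp) (by simp)
  have hce' : Etale c.left := hde
  have : Surjective c.left := hds
  obtain ⟨W, hW, ⟨η⟩⟩ := exists_iso_yon_of_isPullback_affine a' c _ w sqW
  -- as an algebra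
  let Wc : Over S := Over.mk (W.left.isoSpec.inv ≫ W.hom)
  let η' : (yon S).obj Wc ≅ Z' := (yon S).mapIso (Over.isoMk W.left.isoSpec.symm : Wc ≅ W) ≪≫ η
  obtain ⟨i₀, hi₀⟩ := (yon S).map_surjective (i ≫ η'.inv)
  obtain ⟨q, hq⟩ := (yon S).map_surjective (η'.hom ≫ a')
  have : IsAffine Wc.left := inferInstanceAs (IsAffine (Spec _))
  have hFOT : FOT i₀ := isFirstOrderThickening_of_isFOThickMor_yon_map (g := i₀) inferInstance (by
    rw [hi₀]
    refine isFOThick_baseChange hZ' hi (g := η'.hom) (g' := 𝟙 _) ?_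
    exact IsPullback.of_horiz_isIso ⟨by simp⟩)
  have hq₀ : i₀ ≫ q = sq.j := (yon S).map_injective (by
    rw [Functor.map_comp, hi₀, hq, Category.assoc, Iso.inv_hom_id_assoc, hi'])
  obtain ⟨φr, hφr⟩ := Spec.map_surjective i₀.left
  obtain ⟨γ, hγ⟩ := Spec.map_surjective (R := CommRingCat.of sq.A) q.left
  have hφγ : γ ≫ φr = CommRingCat.ofHom (Ideal.Quotient.mk sq.I) := Spec.map_injective (by
    rw [Spec.map_comp, hφr, hγ]; exact congrArg Over.Hom.left hq₀)
  have : IsClosedImmersion (Spec.map φr) := by rw [hφr]; exact hFOT.1.1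
  have hφs := surjective_of_isClosedImmersion_specMap φr
  have hφk : RingHom.ker φr.hom ^ 2 = ⊥ := ker_sq_of_fot_specMap φr (by rw [hφr]; exact hFOT)
  letI : Algebra sq.A Γ(W.left, ⊤) := γ.hom.toAlgebra
  let φ : Γ(W.left, ⊤) →ₐ[sq.A] sq.A ⧸ sq.I := ⟨φr.hom, fun x => congr($(hφγ).hom x)⟩
  have hN : ∀ x y, φ x = 0 → φ y = 0 → x * y = 0 := fun x y hx hy => by
    have := Ideal.mul_mem_mul (show x ∈ RingHom.ker φr.hom from hx) (show y ∈ RingHom.ker φr.hom from hy)
    rwa [← pow_two, hφk, Ideal.mem_bot] at this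
  let hW' : (yon S).obj Wc ⟶ pullback f sq.bot := η'.hom ≫ h'
  have hi₀W : (yon S).map i₀ ≫ hW' = σ := by
    rw [hi₀, Category.assoc, Iso.inv_hom_id_assoc, hih]
  have hqW : hW' ≫ pullback.snd f sq.bot = (yon S).map q := by
    rw [hq, Category.assoc]
  -- the cover algebra
  let T₂c : Over S := Over.mk (T₂.left.isoSpec.inv ≫ T₂.hom)
  let eT : T₂c ≅ T₂ := Over.isoMk T₂.left.isoSpec.symm
  obtain ⟨δ, hδ⟩ := Spec.map_surjective (R := CommRingCat.of sq.A) (eT.hom ≫ c).left
  letI : Algebra sq.A Γ(T₂.left, ⊤) := δ.hom.toAlgebra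
  have : IsIso eT.hom.left := inferInstanceAs (IsIso ((Over.forget S).map eT.hom))
  have hδf : Flat (Spec.map δ) := by rw [hδ]; exact inferInstanceAs (Flat (eT.hom.left ≫ c.left))
  have hδs : Surjective (Spec.map δ) := by rw [hδ]; exact inferInstanceAs (Surjective (eT.hom.left ≫ c.left))
  have : Module.Flat sq.A Γ(T₂.left, ⊤) := HasRingHomProperty.Spec_iff.1 hδf
  have : Module.FaithfullyFlat sq.A Γ(T₂.left, ⊤) :=
    Module.FaithfullyFlat.of_comap_surjective fun p => hδs.surj p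
  have hLifts : LiftsOver φ Γ(T₂.left, ⊤) := by
    intro T T'' _ _ _ _ ψ π hπ J hJ hkJ β hβ
    let B' : Over S := Over.mk (Spec.map (CommRingCat.ofHom (algebraMap sq.A T)) ≫ sq.str)
    let B : Over S := Over.mk (Spec.map (CommRingCat.ofHom (algebraMap sq.A T'')) ≫ sq.str)
    let B₀ : Over S := Over.mk
      (Spec.map (CommRingCat.ofHom (algebraMap sq.A (T ⧸ J))) ≫ sq.str)
    let ρ : T'' →ₐ[sq.A] T ⧸ J :=
      AlgHom.liftOfSurjective π hπ (Ideal.Quotient.mkₐ sq.A J) (fun x hx => by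
        show Ideal.Quotient.mk J x = 0
        exact Ideal.Quotient.eq_zero_iff_mem.2 (hkJ hx))
    have hρ : ∀ x, ρ (π x) = Ideal.Quotient.mk J x := fun x =>
      AlgHom.liftOfSurjective_apply π hπ (Ideal.Quotient.mkₐ sq.A J) _ x
    have hmapA : ∀ {T₀ T₁ : Type u} [CommRing T₀] [CommRing T₁] [Algebra sq.A T₀] [Algebra sq.A T₁]
        (χ : T₀ →ₐ[sq.A] T₁),
        Spec.map (CommRingCat.ofHom χ.toRingHom) ≫ Spec.map (CommRingCat.ofHom (algebraMap sq.A T₀)) =
          Spec.map (CommRingCat.ofHom (algebraMap sq.A T₁)) := fun χ => by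
      rw [← Spec.map_comp]; congr 1; ext x; exact χ.commutes x
    let tB : B ⟶ B' := Over.homMk (Spec.map (CommRingCat.ofHom π.toRingHom))
      (by show Spec.map _ ≫ Spec.map _ ≫ sq.str = Spec.map _ ≫ sq.str; rw [← Category.assoc, hmapA π])
    let v : B₀ ⟶ B := Over.homMk (Spec.map (CommRingCat.ofHom ρ.toRingHom))
      (by show Spec.map _ ≫ Spec.map _ ≫ sq.str = Spec.map _ ≫ sq.str; rw [← Category.assoc, hmapA ρ])
    have hvt : (v ≫ tB).left = Spec.map (CommRingCat.ofHom (Ideal.Quotient.mk J)) := by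
      show Spec.map _ ≫ Spec.map _ = _
      rw [← Spec.map_comp]; congr 1; ext x; exact hρ x
    have hvt' : FOT (v ≫ tB) := by
      show MoreMor.IsFirstOrderThickening (v ≫ tB).left
      rw [hvt]
      exact GrothLib.UnivThick.fot_spec _ Ideal.Quotient.mk_surjective
        (by rw [CommRingCat.hom_ofHom, Ideal.mk_ker, pow_two, hJ])
    have hv : FOT v := by
      refine GrothLib.UnivThick.fot_spec _ (fun x => ?_) ?_
      · obtain ⟨x, rfl⟩ := Ideal.Quotient.mk_surjective x
        exact ⟨π x, hρ x⟩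
      · refine le_bot_iff.1 ?_
        rw [pow_two, Ideal.mul_le]
        intro x hx y hy
        obtain ⟨x, rfl⟩ := hπ x
        obtain ⟨y, rfl⟩ := hπ y
        have hx' : x ∈ J := Ideal.Quotient.eq_zero_iff_mem.1 ((hρ x).symm.trans hx)
        have hy' : y ∈ J := Ideal.Quotient.eq_zero_iff_mem.1 ((hρ y).symm.trans hy)
        have := Ideal.mul_mem_mul hx' hy'
        rw [hJ, Ideal.mem_bot] at this
        rw [Ideal.mem_bot, ← map_mul, this, map_zero]
    have hIJ : ∀ x ∈ sq.I, algebraMap sq.A T x ∈ J := fun x hx => by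
      have h0 : φ (algebraMap sq.A Γ(W.left, ⊤) x) = 0 := by
        rw [AlgHom.commutes]; exact Ideal.Quotient.eq_zero_iff_mem.2 hx
      obtain ⟨y, hy, hy'⟩ := (Ideal.mem_map_iff_of_surjective π hπ).1 (hβ _ h0)
      have : algebraMap sq.A T x - y ∈ J := hkJ (by
        rw [RingHom.mem_ker, map_sub, hy', AlgHom.commutes, AlgHom.commutes, sub_self])
      simpa using J.add_mem this hy
    let rr : sq.A ⧸ sq.I →ₐ[sq.A] T ⧸ J := Ideal.Quotient.liftₐ sq.I (Algebra.ofId sq.A (T ⧸ J))
      (fun x hx => Ideal.Quotient.eq_zero_iff_mem.2 (hIJ x hx))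
    have hrr : ∀ x, rr (φ x) = ρ (β x) := fun x => by
      obtain ⟨y, hy⟩ := Ideal.Quotient.mk_surjective (φ x)
      have h0 : φ (x - algebraMap sq.A Γ(W.left, ⊤) y) = 0 :=
        GrothLib.SmoothLocal6.sub_algebraMap_mem hy.symm
      obtain ⟨z, hz, hz'⟩ := (Ideal.mem_map_iff_of_surjective π hπ).1 (hβ _ h0)
      have h1 : ρ (β (x - algebraMap sq.A Γ(W.left, ⊤) y)) = 0 := by
        rw [← hz', hρ]; exact Ideal.Quotient.eq_zero_iff_mem.2 hz
      rw [map_sub, map_sub, sub_eq_zero, AlgHom.commutes, AlgHom.commutes] at h1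
      rw [h1, ← hy]
      rfl
    let r : B₀ ⟶ sq.ptT := Over.homMk (Spec.map (CommRingCat.ofHom rr.toRingHom)) (by
      show Spec.map _ ≫ Spec.map _ ≫ sq.str = Spec.map _ ≫ sq.str
      rw [← Spec.map_comp_assoc]; congr 2)
    let r₂ : B₀ ⟶ T₂ := (Over.homMk (Spec.map (CommRingCat.ofHom
      ((Ideal.Quotient.mkₐ sq.A J).comp ψ).toRingHom)) (by
        show Spec.map _ ≫ T₂.left.isoSpec.inv ≫ T₂.hom = _
        rw [show T₂.left.isoSpec.inv ≫ T₂.hom = (eT.hom ≫ c).left ≫ sq.str from (Over.w (eT.hom ≫ c)).symm,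
          ← hδ, ← Spec.map_comp_assoc]
        congr 2; ext x; exact ((Ideal.Quotient.mkₐ sq.A J).comp ψ).commutes x) : B₀ ⟶ T₂c) ≫ eT.hom
    have hrc : r ≫ sq.j = r₂ ≫ c := by
      apply Over.OverMorphism.ext
      simp only [r₂, Category.assoc]
      show Spec.map _ ≫ Spec.map _ = Spec.map _ ≫ (eT.hom ≫ c).left
      rw [← hδ, ← Spec.map_comp, ← Spec.map_comp]
      congr 1; ext x
      exact (rr.commutes x).trans (((Ideal.Quotient.mkₐ sq.A J).comp ψ).commutes x).symm
    let βS : B ⟶ Wc := Over.homMk (Spec.map (CommRingCat.ofHom β.toRingHom)) (by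
      show Spec.map _ ≫ Wc.hom = Spec.map _ ≫ sq.str
      rw [show Wc.hom = q.left ≫ sq.str from (Over.w q).symm, ← hγ, ← Spec.map_comp_assoc]
      congr 2; ext x; exact β.commutes x)
    let β' : B' ⟶ sq.ptT' := Over.homMk (Spec.map (CommRingCat.ofHom (algebraMap sq.A T))) rfl
    have hβq : βS ≫ q = tB ≫ β' := by
      apply Over.OverMorphism.ext
      show Spec.map _ ≫ q.left = Spec.map _ ≫ Spec.map _
      rw [← hγ, ← Spec.map_comp, ← Spec.map_comp]
      congr 1; ext x
      exact (β.commutes x).trans (π.commutes x).symm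
    have hvβ : v ≫ βS = r ≫ i₀ := by
      apply Over.OverMorphism.ext
      show Spec.map _ ≫ Spec.map _ = Spec.map _ ≫ i₀.left
      rw [← hφr, ← Spec.map_comp, ← Spec.map_comp]
      congr 1; ext x; exact (hrr x).symm
    let uB₀ : (yon S).obj B₀ ⟶ (yon S).obj U := (yon S).map (pullback.lift r r₂ hrc) ≫ uR
    have huB₀ : uB₀ ≫ a = (yon S).map r ≫ sq.top := by
      rw [Category.assoc, huR, ← Functor.map_comp_assoc, pullback.lift_fst]
    obtain ⟨uB, ⟨huB, huBa⟩, -⟩ := existsUnique_lift_of_fe (fe_of_repWith_etale ha) hv uB₀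
      ((yon S).map βS ≫ hW' ≫ pullback.fst f sq.bot) (by
        rw [huB₀, ← Functor.map_comp_assoc, hvβ, Functor.map_comp_assoc, reassoc_of% hi₀W, pullback.lift_fst])
    have hB' : IsAffine B'.left := inferInstanceAs (IsAffine (Spec _))
    have hcomm : uB ≫ a ≫ f = (yon S).map tB ≫ (yon S).map β' ≫ sq.bot := by
      rw [reassoc_of% huBa, pullback.condition, reassoc_of% hqW, ← Functor.map_comp_assoc, hβq,
        Functor.map_comp_assoc]
    have htB : FOT tB := GrothLib.UnivThick.fot_spec _ hπ (le_bot_iff.1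
      ((Ideal.pow_right_mono (show RingHom.ker π.toRingHom ≤ J from hkJ) 2).trans (pow_two J ▸ hJ.le)))
    obtain ⟨L, hL, hLf⟩ := hasLift_affine hU htB uB ((yon S).map β' ≫ sq.bot) hcomm
    let mB : (yon S).obj B' ⟶ pullback f sq.bot := pullback.lift (L ≫ a) ((yon S).map β')
      (by rw [Category.assoc, hLf])
    have hmB : (yon S).map tB ≫ mB = (yon S).map βS ≫ hW' := by
      apply pullback.hom_ext
      · rw [Category.assoc, pullback.lift_fst, reassoc_of% hL, huBa]; simp only [hW', Category.assoc]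
      · rw [Category.assoc, pullback.lift_snd, Category.assoc, hqW, ← Functor.map_comp, ← Functor.map_comp, hβq]
    obtain ⟨α', hα', hαm⟩ := HU.exists_lift hvt' ((yon S).map r) mB (by
      rw [Functor.map_comp_assoc, hmB, ← Functor.map_comp_assoc, hvβ, Functor.map_comp_assoc, hi₀W])
    obtain ⟨α₀, hα₀⟩ := (yon S).map_surjective (α' ≫ η'.inv)
    have hαW : (yon S).map α₀ ≫ hW' = mB := by
      rw [hα₀, Category.assoc, Iso.inv_hom_id_assoc, hαm]
    have hαv : (v ≫ tB) ≫ α₀ = r ≫ i₀ := (yon S).map_injective (by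
      rw [Functor.map_comp, hα₀, reassoc_of% hα', Functor.map_comp, hi₀])
    have htα : tB ≫ α₀ = βS := by
      refine (yon S).map_injective ((cancel_mono η'.hom).1 ?_)
      refine HU.1.hom_ext hv (a := (yon S).map r) ?_ ?_ ?_
      · rw [← Functor.map_comp_assoc, ← Category.assoc v, hαv, Functor.map_comp_assoc, hi₀]
        simp
      · rw [← Functor.map_comp_assoc, hvβ, Functor.map_comp_assoc, hi₀]
        simp
      · simp only [Category.assoc]
        rw [Functor.map_comp_assoc]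
        exact (congrArg ((yon S).map tB ≫ ·) hαW).trans hmB
    have hαq : α₀ ≫ q = β' := (yon S).map_injective (by
      rw [Functor.map_comp, ← hqW, reassoc_of% hαW, pullback.lift_snd])
    obtain ⟨αr, hαr⟩ := Spec.map_surjective (S := CommRingCat.of T) α₀.left
    refine ⟨⟨αr.hom, fun x => ?_⟩, AlgHom.ext fun x => ?_⟩
    · have := congrArg Over.Hom.left hαq
      rw [Over.comp_left, ← hαr, ← hγ, ← Spec.map_comp] at this
      exact congr($(Spec.map_injective this).hom x)
    · have := congrArg Over.Hom.left htα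
      simp only [Over.comp_left, βS, tB, Over.homMk_left, ← hαr, ← Spec.map_comp] at this
      exact congr($(Spec.map_injective this).hom x)
  obtain ⟨s, hs⟩ := exists_retraction (by rw [← pow_two, sq.sq_zero]) φ hN Γ(T₂.left, ⊤) hLifts
  let Ls : sq.ptT' ⟶ Wc := Over.homMk (Spec.map (CommRingCat.ofHom s.toRingHom)) (by
    show Spec.map _ ≫ Wc.hom = sq.str
    rw [show Wc.hom = q.left ≫ sq.str from (Over.w q).symm, ← hγ, ← Spec.map_comp_assoc,
      show γ ≫ CommRingCat.ofHom s.toRingHom = 𝟙 _ from CommRingCat.hom_ext (RingHom.ext fun x => s.commutes x),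
      Spec.map_id, Category.id_comp])
  have hjL : sq.j ≫ Ls = i₀ := Over.OverMorphism.ext (by
    show Spec.map _ ≫ Spec.map _ = i₀.left
    rw [← hφr, ← Spec.map_comp]
    congr 1; ext x; exact AlgHom.congr_fun hs x)
  have hLq : Ls ≫ q = 𝟙 _ := Over.OverMorphism.ext (by
    show Spec.map _ ≫ q.left = 𝟙 _
    rw [← hγ, ← Spec.map_comp, show γ ≫ CommRingCat.ofHom s.toRingHom = 𝟙 _ from
      CommRingCat.hom_ext (RingHom.ext fun x => s.commutes x), Spec.map_id])
  refine ⟨(yon S).map Ls ≫ hW' ≫ pullback.fst f sq.bot, ?_, ?_⟩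
  · rw [← Functor.map_comp_assoc, hjL, reassoc_of% hi₀W, pullback.lift_fst]
  · rw [Category.assoc, Category.assoc, pullback.condition, reassoc_of% hqW, ← Functor.map_comp_assoc, hLq,
      CategoryTheory.Functor.map_id, Category.id_comp]

end GrothLib.AlgSp
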