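import Groth.Agent.Lib.AlgSp.LocP
import Groth.Agent.Lib.AlgSp.Points
import Groth.Agent.Lib.AlgSp.Space
import Groth.Agent.Lib.EtaleThick26.Glue
import Groth.Agent.S2097
import Mathlib.AlgebraicGeometry.Morphisms.Smooth
import Groth.Prelude.Def_AlgSpInf
import Groth.Prelude.Def_AlgSp4

/-!
# Smooth morphisms lift etale locally along thickenings

Main results: `exists_local_lift_scheme`, `exists_etale_extension_thick`, `exists_smooth_lift_space`.
-/

universe u

open CategoryTheory CategoryTheory.Limits AlgebraicGeometry TopologicalSpace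

namespace GrothLib.AlgSp

/-- A smooth morphism of schemes lifts Zariski locally along a thickening. -/
theorem exists_local_lift_scheme {U V W W' : Scheme.{u}} (h : U ⟶ V) [Smooth h] (t : W ⟶ W') [IsClosedImmersion t]
    [Surjective t] (a : W ⟶ U) (b : W' ⟶ V) (w : a ≫ h = t ≫ b) (x : W') :
    ∃ (O : Scheme.{u}) (o : O ⟶ W') (l : O ⟶ U), IsOpenImmersion o ∧ x ∈ Set.range o ∧ l ≫ h = o ≫ b ∧
      pullback.snd t o ≫ l = pullback.fst t o ≫ a := by
  obtain ⟨w₀, rfl⟩ := t.surjective x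
  obtain ⟨_, ⟨V₀, hV, rfl⟩, hxV, -⟩ := V.isBasis_affineOpens.exists_subset_of_mem_open
    (Set.mem_univ (b (t w₀))) isOpen_univ
  obtain ⟨_, ⟨U₀, hU, rfl⟩, hxU, hUV⟩ := U.isBasis_affineOpens.exists_subset_of_mem_open
    (show a w₀ ∈ h ⁻¹ᵁ V₀ by
      change h (a w₀) ∈ V₀
      rw [← Scheme.Hom.comp_apply, w, Scheme.Hom.comp_apply]; exact hxV) (h ⁻¹ᵁ V₀).2
  have hi : Topology.IsEmbedding t := t.isClosedEmbedding.isEmbedding
  have ho : IsOpen (t '' (a ⁻¹' (U₀ : Set U))) :=
    (hi.toHomeomorphOfSurjective t.surjective).isOpenMap _ (U₀.2.preimage a.continuous)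
  obtain ⟨_, ⟨O, hO, rfl⟩, hxO, hOsub⟩ := W'.isBasis_affineOpens.exists_subset_of_mem_open
    (show t w₀ ∈ t '' (a ⁻¹' (U₀ : Set U)) ∩ (b ⁻¹ᵁ V₀ : Set W') from ⟨⟨w₀, hxU, rfl⟩, hxV⟩)
    (ho.inter (b ⁻¹ᵁ V₀).2)
  let R := Γ(V, V₀)
  let B := Γ(U, U₀)
  let A := Γ(W', O)
  have hfac : ∀ z : ↥(pullback t hO.fromSpec), a (pullback.fst t hO.fromSpec z) ∈ U₀ := fun z => by
    have : t (pullback.fst t hO.fromSpec z) ∈ (O : Set W') := by
      rw [← Scheme.Hom.comp_apply, pullback.condition, Scheme.Hom.comp_apply, ← hO.range_fromSpec]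
      exact ⟨_, rfl⟩
    obtain ⟨⟨q, hq, hq'⟩, -⟩ := hOsub this
    rw [← hi.injective hq']
    exact hq
  have hc : IsClosedImmersion (pullback.snd t hO.fromSpec) := inferInstance
  obtain ⟨I, e, he⟩ := IsClosedImmersion.Spec_iff.1 hc
  have hs : Surjective (pullback.snd t hO.fromSpec) := inferInstance
  have hI : ∀ y ∈ I, IsNilpotent y := by
    intro y hy
    rw [← mem_nilradical, nilradical_eq_sInf, Submodule.mem_sInf]
    intro p hp
    obtain ⟨q, hq⟩ := hs.surj ⟨p, hp⟩
    rw [he, Scheme.Hom.comp_apply] at hq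
    have : (Ideal.Quotient.mk I) y ∈ (e.hom q).asIdeal := by
      rw [Ideal.Quotient.eq_zero_iff_mem.2 hy]; exact zero_mem _
    have h2 := congrArg PrimeSpectrum.asIdeal hq
    change Ideal.comap (Ideal.Quotient.mk I) (e.hom q).asIdeal = p at h2
    rw [← h2]; exact this
  have hr : Set.range (pullback.fst t hO.fromSpec ≫ a) ⊆ Set.range hU.fromSpec := by
    rintro _ ⟨z, rfl⟩
    rw [hU.range_fromSpec, Scheme.Hom.comp_apply]
    exact hfac z
  let a₀ := IsOpenImmersion.lift hU.fromSpec _ hr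
  have ea : a₀ ≫ hU.fromSpec = pullback.fst t hO.fromSpec ≫ a := IsOpenImmersion.lift_fac _ _ _
  let φ : R ⟶ B := h.appLE V₀ U₀ hUV
  let β : R ⟶ A := b.appLE V₀ O (fun z hz => (hOsub hz).2)
  obtain ⟨g, hg⟩ := Spec.map_surjective (e.inv ≫ a₀)
  have hcomm : φ ≫ g = β ≫ CommRingCat.ofHom (Ideal.Quotient.mk I) := by
    apply Spec.map_injective
    rw [← cancel_mono hV.fromSpec, Spec.map_comp, Spec.map_comp, Category.assoc, Category.assoc,
      IsAffineOpen.SpecMap_appLE_fromSpec _ hV hU, IsAffineOpen.SpecMap_appLE_fromSpec _ hV hO, hg,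
      ← Category.assoc, Category.assoc e.inv, ea, Category.assoc, Category.assoc, w, ← Category.assoc (pullback.fst t _),
      pullback.condition, ← Category.assoc, ← Category.assoc, he, e.inv_hom_id_assoc, Category.assoc]
  have hφ : φ.hom.Smooth := Smooth.smooth_appLE h hV hU hUV
  algebraize [φ.hom, β.hom]
  obtain ⟨g', hg'⟩ := Groth.Agent.S2097.result (R := R) (S := B) (A := A) I hI
    { g.hom with commutes' := fun r => congrArg (fun k : R ⟶ CommRingCat.of (A ⧸ I) => k.hom r) hcomm }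
  refine ⟨_, hO.fromSpec, Spec.map (CommRingCat.ofHom g'.toRingHom) ≫ hU.fromSpec, inferInstance,
    by rw [hO.range_fromSpec]; exact hxO, ?_, ?_⟩
  · rw [Category.assoc, ← IsAffineOpen.SpecMap_appLE_fromSpec h hV hU hUV, ← Category.assoc, ← Spec.map_comp,
      ← IsAffineOpen.SpecMap_appLE_fromSpec b hV hO (fun z hz => (hOsub hz).2)]
    congr 2
    ext r
    exact g'.commutes r
  · rw [← ea, he, Category.assoc, ← Spec.map_comp_assoc,
      show CommRingCat.ofHom g'.toRingHom ≫ CommRingCat.ofHom (Ideal.Quotient.mk I) = g from by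
        ext r
        exact AlgHom.congr_fun hg' r,
      hg, Category.assoc e.inv, e.hom_inv_id_assoc]

open _root_.AlgSp

variable {S : Scheme.{u}}

theorem exists_etale_extension_thick {A A' W : Over S} {t : A ⟶ A'} [IsClosedImmersion t.left] [Surjective t.left]
    (sW : W ⟶ A) [Etale sW.left] :
    ∃ (W' : Over S) (c : W' ⟶ A') (j : W ⟶ W'), Etale c.left ∧ IsPullback j sW c t := by
  obtain ⟨Y', q', j, hq', sq⟩ := GrothLib.EtaleThick.exists_lift t.left sW.left
  let W' : Over S := Over.mk (q' ≫ A'.hom)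
  let jO : W ⟶ W' := Over.homMk j (by
    show j ≫ q' ≫ A'.hom = W.hom
    rw [sq.w_assoc, Over.w t, Over.w sW])
  exact ⟨W', Over.homMk q' rfl, jO, hq',
    isPullback_of_left (c := t) (c' := jO) (snd' := sW) (snd := Over.homMk q' rfl) sq⟩

theorem exists_smooth_lift_space {X Y T T' : Sp S} (hX : IsAlgSpace X) (hY : IsAlgSpace Y) (hT' : IsAlgSpace T')
    {f : X ⟶ Y} (hf : LocP @Smooth f) {i : T ⟶ T'} (hi : IsThickMor i) {a : T ⟶ X} {b : T' ⟶ Y}
    (w : a ≫ f = i ≫ b) (t' : Points T') :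
    ∃ (V : Over S) (e : (yon S).obj V ⟶ T') (ℓ : (yon S).obj V ⟶ X),
      RepWith @Etale e ∧ t' ∈ Set.range (Points.ofPt e) ∧ ℓ ≫ f = e ≫ b ∧
      ∀ (P : Sp S) (p₁ : P ⟶ T) (p₂ : P ⟶ (yon S).obj V), IsPullback p₁ p₂ i e → p₂ ≫ ℓ = p₁ ≫ a := by
  obtain ⟨V, bV, be, bs⟩ := hY.atlas
  have sXv := IsPullback.of_hasPullback f bV
  have hXv : IsAlgSpace (pullback f bV) := isAlgSpace_pullback' hY hX (IsAlgSpace.yon_obj V) f bV
  obtain ⟨U, r, re, rs⟩ := hXv.atlas
  obtain ⟨h, hh⟩ := (yon S).map_surjective (r ≫ pullback.snd f bV)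
  have ae : RepWith @Etale (r ≫ pullback.fst f bV) := repWith_comp re (repWith_of_isPullback sXv.flip be)
  have comm : (r ≫ pullback.fst f bV) ≫ f = (yon S).map h ≫ bV := by rw [Category.assoc, sXv.w, ← Category.assoc, hh]
  have : Smooth h.left := hf _ _ _ ae be comm
  have sG := IsPullback.of_hasPullback b bV
  obtain ⟨W', g, ge, gs⟩ := (isAlgSpace_pullback' hY hT' (IsAlgSpace.yon_obj V) b bV).atlas
  obtain ⟨β, hβ⟩ := (yon S).map_surjective (g ≫ pullback.snd b bV)
  let e₁ := g ≫ pullback.fst b bV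
  have e₁e : RepWith @Etale e₁ := repWith_comp ge (repWith_of_isPullback sG.flip be)
  obtain ⟨w', hw'⟩ := surjective_ofPt_of_repWith (repWith_comp gs (repWith_of_isPullback sG.flip bs) :
    RepWith @Surjective e₁) t'
  have eb : e₁ ≫ b = (yon S).map β ≫ bV := by rw [Category.assoc, sG.w, ← Category.assoc, hβ]
  obtain ⟨W, p, tW, sqW⟩ := exists_isPullback_of_representable hi.1 e₁
  have htW := hi.2 _ _ _ sqW
  have : IsClosedImmersion tW.left := htW.1
  have : Surjective tW.left := htW.2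
  have hα : (p ≫ a) ≫ f = (yon S).map (tW ≫ β) ≫ bV := by
    rw [Category.assoc, w, ← Category.assoc, sqW.w, Category.assoc, eb, Functor.map_comp, Category.assoc]
  obtain ⟨W₁, u, sW, sq₁⟩ := exists_isPullback_of_representable re.1 (pullback.lift (p ≫ a) _ hα)
  obtain ⟨u, rfl⟩ := (yon S).map_surjective u
  have : Etale sW.left := re.2 _ _ _ sq₁
  have : Surjective sW.left := rs.2 _ _ _ sq₁
  obtain ⟨W₁', c, j, hc, sqj⟩ := exists_etale_extension_thick (t := tW) sW
  have sqj' := isPullback_left sqj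
  have : IsClosedImmersion j.left := MorphismProperty.of_isPullback sqj'.flip ‹_›
  have : Surjective j.left := MorphismProperty.of_isPullback sqj'.flip ‹_›
  have hu : u ≫ h = j ≫ c ≫ β := (yon S).map_injective (by
    rw [Functor.map_comp, hh, ← Category.assoc, sq₁.w, Category.assoc, pullback.lift_snd, ← Functor.map_comp,
      ← Category.assoc sW, ← sqj.w, Category.assoc])
  obtain ⟨z, hz⟩ := (inferInstance : Surjective (sW.left ≫ tW.left)).surj w'
  obtain ⟨O, o, l, ho, hzo, hl, hl'⟩ := exists_local_lift_scheme h.left j.left u.left (c ≫ β).left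
    (congrArg CommaMorphism.left hu) (j.left z)
  let V₁ : Over S := Over.mk (o ≫ W₁'.hom)
  let oO : V₁ ⟶ W₁' := Over.homMk o rfl
  have hlw : l ≫ U.hom = o ≫ W₁'.hom := by
    rw [← Over.w h, ← Category.assoc, hl, Category.assoc, Over.w]
  let lO : V₁ ⟶ U := Over.homMk l hlw
  have hlh : lO ≫ h = oO ≫ c ≫ β := by
    apply Over.OverMorphism.ext
    exact hl
  let e := (yon S).map (oO ≫ c) ≫ e₁
  have : Etale (oO ≫ c).left := by
    have : IsOpenImmersion oO.left := ho
    rw [Over.comp_left]; infer_instance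
  refine ⟨V₁, e, (yon S).map lO ≫ r ≫ pullback.fst f bV, repWith_comp ((repWith_yon_map_iff _ _).2 this) e₁e,
    ?_, ?_, fun P p₁ p₂ sP => ?_⟩
  · obtain ⟨v, hv⟩ := hzo
    refine ⟨v, ?_⟩
    rw [ofPt_map_comp, ← hw', ← hz, Over.comp_left, Scheme.Hom.comp_apply]
    show Points.ofPt e₁ (c.left (o v)) = _
    rw [hv, ← Scheme.Hom.comp_apply, sqj'.w]
  · rw [Category.assoc, comm, ← Category.assoc, ← Functor.map_comp, hlh]
    simp only [e, Category.assoc, eb, Functor.map_comp]
  · have hpt : p₁ ≫ i = (p₂ ≫ (yon S).map (oO ≫ c)) ≫ e₁ := by rw [sP.w, Category.assoc]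
    let q : P ⟶ (yon S).obj W := sqW.lift _ _ hpt
    have hq : q ≫ (yon S).map tW = (p₂ ≫ (yon S).map oO) ≫ (yon S).map c := by
      rw [sqW.lift_snd, Functor.map_comp, Category.assoc]
    have sqj₁ := (isPullback_yon sqj).flip
    let q₁ : P ⟶ (yon S).obj W₁ := sqj₁.lift q _ hq
    have so : IsPullback (pullback.fst j oO) (pullback.snd j oO) j oO := IsPullback.of_hasPullback _ _
    let q₂ : P ⟶ (yon S).obj (pullback j oO) := (isPullback_yon so).lift q₁ p₂ (sqj₁.lift_snd _ _ _)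
    have key : pullback.snd j oO ≫ lO = pullback.fst j oO ≫ u := by
      apply Over.OverMorphism.ext
      have s0 := isPullback_left so
      have e1 := s0.isoPullback_hom_fst
      have e2 := s0.isoPullback_hom_snd
      rw [Over.comp_left, Over.comp_left]
      refine (congrArg (fun k => k ≫ lO.left) e2).symm.trans (Eq.trans ?_ (congrArg (fun k => k ≫ u.left) e1))
      rw [Category.assoc, Category.assoc]
      exact congrArg _ hl'
    have hq₂₁ : q₂ ≫ (yon S).map (pullback.fst j oO) = q₁ := (isPullback_yon so).lift_fst _ _ _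
    have hq₂₂ : q₂ ≫ (yon S).map (pullback.snd j oO) = p₂ := (isPullback_yon so).lift_snd _ _ _
    rw [← hq₂₂, Category.assoc, ← Category.assoc ((yon S).map _) ((yon S).map lO), ← Functor.map_comp, key,
      Functor.map_comp, Category.assoc, ← Category.assoc, hq₂₁, ← Category.assoc ((yon S).map u), sq₁.w,
      Category.assoc, pullback.lift_fst, ← Category.assoc, sqj₁.lift_fst, ← Category.assoc, sqW.lift_fst]

end GrothLib.AlgSp
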