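import Groth.Agent.S2793
import Groth.Agent.S10629
import Groth.Agent.Lib.AlgSp.FormalLiftSpace
import Groth.Agent.Lib.AlgSp.EtaleLocallyProps
import Groth.Agent.Lib.AlgSp.NormSplit
import Groth.Agent.Lib.ThickFT6.Basic

/-!
# Smoothness and lifting along small extensions

* `exists_lift_of_smooth_at`: near a smooth point lifts exist along square zero extensions of local rings;
* `exists_lift_of_small`: lifts along principal small extensions give lifts along small extensions;
* `exists_smooth_nhd_of_lift`: lifting along small extensions gives smoothness of charts.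
-/

set_option autoImplicit false
universe u
open CategoryTheory CategoryTheory.Limits AlgebraicGeometry IsLocalRing
set_option backward.isDefEq.respectTransparency false

namespace GrothLib.AlgSp

open _root_.AlgSp

theorem specMap_fromSpecStalk_closedPoint {U : Scheme.{u}} {x : U} {R : Type u} [CommRing R] [IsLocalRing R]
    (g : U.presheaf.stalk x ⟶ CommRingCat.of R) [IsLocalHom g.hom] :
    (Spec.map g ≫ U.fromSpecStalk x) (closedPoint R) = x :=
  (congrArg (U.fromSpecStalk x) (IsLocalRing.comap_closedPoint g.hom)).trans Scheme.fromSpecStalk_closedPoint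

variable {S : Scheme.{u}} {X Y : Sp S}

/-- Near a smooth point lifts exist along square zero extensions of local rings. -/
theorem exists_lift_of_smooth_at (hX : IsAlgSpace X) (hY : IsAlgSpace Y) {f : X ⟶ Y} {x : Points X}
    (hx : HasAtMor (fun U _ h u => ∃ W : U.Opens, u ∈ W ∧ Smooth (W.ι ≫ h)) f x)
    (B' B : Type u) [CommRing B'] [CommRing B] [IsLocalRing B] (π : B' →+* B) (hπ : Function.Surjective π)
    (hk : RingHom.ker π ^ 2 = ⊥) (s : Spec (CommRingCat.of B') ⟶ S)
    (α : (yon S).obj (Over.mk (Spec.map (CommRingCat.ofHom π) ≫ s)) ⟶ X)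
    (β : (yon S).obj (Over.mk s) ⟶ Y) (hα : Points.ofPt α (closedPoint B) = x)
    (hc : α ≫ f = (yon S).map (Over.homMk (Spec.map (CommRingCat.ofHom π)) :
      Over.mk (Spec.map (CommRingCat.ofHom π) ≫ s) ⟶ Over.mk s) ≫ β) :
    ∃ γ : (yon S).obj (Over.mk s) ⟶ X, (yon S).map (Over.homMk (Spec.map (CommRingCat.ofHom π)) :
      Over.mk (Spec.map (CommRingCat.ofHom π) ≫ s) ⟶ Over.mk s) ≫ γ = α ∧ γ ≫ f = β := by
  obtain ⟨U, V, a, b, h, u, ha, hb, c, hux, W, hu, hW⟩ := hx
  let W' : Over S := Over.mk (W.ι ≫ U.hom)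
  let iW : W' ⟶ U := Over.homMk W.ι rfl
  have haW : RepWith @Etale ((yon S).map iW ≫ a) :=
    repWith_comp ((repWith_yon_map_iff _ iW).2 (inferInstanceAs (Etale W.ι))) ha
  let O := Set.range (Points.ofPt ((yon S).map iW ≫ a))
  have hO : IsOpen O := by
    have := isOpenMap_ofPt_of_etale haW _ isOpen_univ
    rwa [Set.image_univ] at this
  have hj : RepWith @IsOpenImmersion (openSubι X O) := repWith_openSubι hO
  haveI := mono_openSubι X O
  have hO' : IsAlgSpace (openSub X O) := isAlgSpace_openSub hX hO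
  obtain ⟨a₀, ha₀⟩ := (exists_factor_iff hj ((yon S).map iW ≫ a)).2 (by
    rw [range_openSubι]
    rintro _ ⟨y, rfl⟩
    obtain ⟨w', rfl⟩ := (Points.schemeEquiv W').surjective y
    exact ⟨w', Points.ofPt_eq_map_ofScheme _ w'⟩)
  have hje : RepWith @Etale (openSubι X O) := repWith_mono hj fun A B m hm => by
    have : IsOpenImmersion m := hm
    exact inferInstanceAs (Etale m)
  have a₀e : RepWith @Etale a₀ := repWith_etale_lift hX hO' haW _ hje a₀ ha₀
  have a₀s : RepWith @Surjective a₀ := repWith_surjective_of_ofPt a₀e.1 fun y => by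
    obtain ⟨w', hw'⟩ : Points.map (openSubι X O) y ∈ O := range_openSubι.le ⟨y, rfl⟩
    refine ⟨w', injective_map_of_mono (openSubι X O) ?_⟩
    rw [Points.map_ofPt, ha₀]
    exact hw'
  have hsm : LocP @Smooth (openSubι X O ≫ f) :=
    EtLocal.locP_of_chart EtLocal.smooth a₀e a₀s hb
      (h := iW ≫ h) (by rw [← Category.assoc, ha₀, Category.assoc, c, Functor.map_comp, Category.assoc])
      (by exact hW)
  have hfs : IsFormallySmoothMor (openSubι X O ≫ f) :=
    ((Groth.Agent.S10629.result (X := ⟨_, hO'⟩) (Y := ⟨_, hY⟩) (ObjectProperty.homMk (openSubι X O ≫ f))).1 hsm).2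
  obtain ⟨α₀, hα₀⟩ := (exists_factor_iff hj α).2 (by
    rw [range_openSubι]
    rintro _ ⟨z, rfl⟩
    obtain ⟨z, rfl⟩ := (Points.schemeEquiv (Over.mk (Spec.map (CommRingCat.ofHom π) ≫ s))).surjective z
    have hz : Points.ofPt α z ⤳ Points.ofPt α (closedPoint B) :=
      (IsLocalRing.specializes_closedPoint (R := B) z).map (Points.continuous_ofPt α)
    have h1 : Points.ofPt α (closedPoint B) ∈ O := by
      refine ⟨⟨u, hu⟩, ?_⟩
      rw [ofPt_map_comp, hα, ← hux]
      rfl
    rw [show Points.schemeEquiv (Over.mk (Spec.map (CommRingCat.ofHom π) ≫ s)) z = Points.ofScheme _ z from rfl,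
      ← Points.ofPt_eq_map_ofScheme]
    exact hz.mem_open hO h1)
  haveI : IsAffine (Over.mk s).left := inferInstanceAs (IsAffine (Spec (CommRingCat.of B')))
  obtain ⟨l, hl₁, hl₂⟩ := hasLift_affine hfs
    (t := (Over.homMk (Spec.map (CommRingCat.ofHom π)) : Over.mk (Spec.map (CommRingCat.ofHom π) ≫ s) ⟶ Over.mk s))
    (GrothLib.UnivThick.fot_spec (CommRingCat.ofHom π) hπ hk) α₀ β (by rw [reassoc_of% hα₀, hc])
  exact ⟨l ≫ openSubι X O, by rw [reassoc_of% hl₁, hα₀], by rw [Category.assoc, hl₂]⟩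

/-- The lifting property against a surjection of rings, with the small scheme over `x`. -/
def LiftsHom (f : X ⟶ Y) (x : Points X) (Q : ∀ {T : Over S}, ((yon S).obj T ⟶ Y) → Prop)
    {B' B : Type u} [CommRing B'] [CommRing B] (π : B' →+* B) : Prop :=
  ∀ (s : Spec (CommRingCat.of B') ⟶ S)
    (α : (yon S).obj (Over.mk (Spec.map (CommRingCat.ofHom π) ≫ s)) ⟶ X)
    (β : (yon S).obj (Over.mk s) ⟶ Y), (∀ z, Points.ofPt α z = x) → Q β →
    α ≫ f = (yon S).map (Over.homMk (Spec.map (CommRingCat.ofHom π)) :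
      Over.mk (Spec.map (CommRingCat.ofHom π) ≫ s) ⟶ Over.mk s) ≫ β →
    ∃ γ : (yon S).obj (Over.mk s) ⟶ X, (yon S).map (Over.homMk (Spec.map (CommRingCat.ofHom π)) :
      Over.mk (Spec.map (CommRingCat.ofHom π) ≫ s) ⟶ Over.mk s) ≫ γ = α ∧ γ ≫ f = β

/-- Lifting along principal small extensions. -/
def LiftsSmall (f : X ⟶ Y) (x : Points X) (Q : ∀ {T : Over S}, ((yon S).obj T ⟶ Y) → Prop) : Prop :=
  ∀ (B' B : Type u) [CommRing B'] [CommRing B] [IsLocalRing B'] [IsLocalRing B]
    [IsArtinianRing B'] [IsArtinianRing B] (π : B' →+* B), Function.Surjective π →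
    (∃ t : B', RingHom.ker π = Ideal.span {t} ∧ ∀ a ∈ maximalIdeal B', a * t = 0) →
    ∀ (s : Spec (CommRingCat.of B') ⟶ S)
      (α : (yon S).obj (Over.mk (Spec.map (CommRingCat.ofHom π) ≫ s)) ⟶ X)
      (β : (yon S).obj (Over.mk s) ⟶ Y),
      Points.ofPt α (closedPoint B) = x → Q β →
      α ≫ f = (yon S).map (Over.homMk (Spec.map (CommRingCat.ofHom π)) :
        Over.mk (Spec.map (CommRingCat.ofHom π) ≫ s) ⟶ Over.mk s) ≫ β →
      ∃ γ : (yon S).obj (Over.mk s) ⟶ X, (yon S).map (Over.homMk (Spec.map (CommRingCat.ofHom π)) :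
        Over.mk (Spec.map (CommRingCat.ofHom π) ≫ s) ⟶ Over.mk s) ≫ γ = α ∧ γ ≫ f = β

/-- Lifting properties compose. -/
theorem LiftsHom.comp {f : X ⟶ Y} {x : Points X} {Q : ∀ {T : Over S}, ((yon S).obj T ⟶ Y) → Prop}
    {B'' B' B : Type u} [CommRing B''] [CommRing B'] [CommRing B] {π₂ : B'' →+* B'} {π₁ : B' →+* B}
    (hQ : ∀ {T T' : Over S} (i : T ⟶ T') (β : (yon S).obj T' ⟶ Y), IsClosedImmersion i.left → Q β →
      Q ((yon S).map i ≫ β))
    (h₂ : LiftsHom f x Q π₂) (h₁ : LiftsHom f x Q π₁) (hs₂ : Function.Surjective π₂)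
    (hs₁ : Function.Surjective (Spec.map (CommRingCat.ofHom π₁))) : LiftsHom f x Q (π₁.comp π₂) := by
  intro s α β hα hβ hc
  let s₂ : Spec (CommRingCat.of B') ⟶ S := Spec.map (CommRingCat.ofHom π₂) ≫ s
  let i₂ : Over.mk s₂ ⟶ Over.mk s := Over.homMk (Spec.map (CommRingCat.ofHom π₂))
  let i₁ : Over.mk (Spec.map (CommRingCat.ofHom π₁) ≫ s₂) ⟶ Over.mk s₂ :=
    Over.homMk (Spec.map (CommRingCat.ofHom π₁))
  have hs : Spec.map (CommRingCat.ofHom (π₁.comp π₂)) =
      Spec.map (CommRingCat.ofHom π₁) ≫ Spec.map (CommRingCat.ofHom π₂) := by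
    rw [CommRingCat.ofHom_comp, Spec.map_comp]
  let e : Over.mk (Spec.map (CommRingCat.ofHom π₁) ≫ s₂) ≅
      Over.mk (Spec.map (CommRingCat.ofHom (π₁.comp π₂)) ≫ s) :=
    Over.isoMk (Iso.refl _) (by
      show 𝟙 _ ≫ Spec.map (CommRingCat.ofHom (π₁.comp π₂)) ≫ s = Spec.map (CommRingCat.ofHom π₁) ≫ _ ≫ s
      rw [Category.id_comp, hs, Category.assoc])
  let i : Over.mk (Spec.map (CommRingCat.ofHom (π₁.comp π₂)) ≫ s) ⟶ Over.mk s :=
    Over.homMk (Spec.map (CommRingCat.ofHom (π₁.comp π₂)))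
  have he : e.hom ≫ i = i₁ ≫ i₂ := Over.OverMorphism.ext (by
    show 𝟙 _ ≫ Spec.map (CommRingCat.ofHom (π₁.comp π₂)) = _
    rw [Category.id_comp]
    exact hs)
  obtain ⟨γ₁, hγ₁, hγ₁f⟩ := h₁ s₂ ((yon S).map e.hom ≫ α) ((yon S).map i₂ ≫ β)
    (fun z => by rw [ofPt_map_comp]; exact hα _)
    (hQ i₂ β (IsClosedImmersion.spec_of_surjective _ hs₂) hβ)
    (by rw [Category.assoc, hc, ← Functor.map_comp_assoc, ← Functor.map_comp_assoc, he])
  have hγx : ∀ z, Points.ofPt γ₁ z = x := by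
    intro z
    obtain ⟨w, rfl⟩ : ∃ w, i₁.left w = z := hs₁ z
    have hγ₁' : (yon S).map i₁ ≫ γ₁ = (yon S).map e.hom ≫ α := hγ₁
    rw [← ofPt_map_comp, hγ₁', ofPt_map_comp, hα]
  obtain ⟨γ, hγ, hγf⟩ := h₂ s γ₁ β hγx hβ hγ₁f
  refine ⟨γ, ?_, hγf⟩
  rw [← cancel_epi ((yon S).map e.hom), ← Functor.map_comp_assoc, he, Functor.map_comp, Category.assoc, hγ]
  exact hγ₁

/-- Lifts along principal small extensions give lifts along small extensions. -/
theorem exists_lift_of_small {f : X ⟶ Y} {x : Points X} {Q : ∀ {T : Over S}, ((yon S).obj T ⟶ Y) → Prop}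
    (hQ : ∀ {T T' : Over S} (i : T ⟶ T') (β : (yon S).obj T' ⟶ Y), IsClosedImmersion i.left → Q β →
      Q ((yon S).map i ≫ β))
    (H : LiftsSmall f x Q) (A' : Type u) [CommRing A'] [IsLocalRing A'] [IsArtinianRing A'] (I : Ideal A')
    (hI : I ≠ ⊤) (hIm : I * maximalIdeal A' = ⊥) : LiftsHom f x Q (Ideal.Quotient.mk I) := by
  classical
  obtain ⟨G, rfl⟩ := IsNoetherian.noetherian I
  induction G using Finset.induction with
  | empty =>
    intro s α β hα hβ hc
    haveI : Nontrivial (A' ⧸ Submodule.span A' ((∅ : Finset A') : Set A')) :=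
      Ideal.Quotient.nontrivial_iff.2 hI
    haveI : IsLocalRing (A' ⧸ Submodule.span A' ((∅ : Finset A') : Set A')) :=
      IsLocalRing.of_surjective' _ Ideal.Quotient.mk_surjective
    exact H A' _ (Ideal.Quotient.mk _) Ideal.Quotient.mk_surjective ⟨0, by
      rw [Ideal.mk_ker]; simp, fun a _ => mul_zero a⟩ s α β (hα _) hβ hc
  | @insert t G ht ih =>
    let J : Ideal A' := Submodule.span A' (G : Set A')
    let K : Ideal A' := Submodule.span A' ((insert t G : Finset A') : Set A')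
    have hJK : J ≤ K := Submodule.span_mono (by simp)
    have hK : K = Ideal.span {t} ⊔ J := by
      show Ideal.span ((insert t G : Finset A') : Set A') = _
      rw [Finset.coe_insert, Ideal.span_insert]
    have hJ : J ≠ ⊤ := fun h => hI (top_le_iff.1 (h ▸ hJK))
    have hJm : J * maximalIdeal A' = ⊥ := le_bot_iff.1 ((Ideal.mul_mono_left hJK).trans hIm.le)
    haveI : Nontrivial (A' ⧸ J) := Ideal.Quotient.nontrivial_iff.2 hJ
    haveI : Nontrivial (A' ⧸ K) := Ideal.Quotient.nontrivial_iff.2 hI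
    haveI : IsLocalRing (A' ⧸ J) := IsLocalRing.of_surjective' _ Ideal.Quotient.mk_surjective
    haveI : IsLocalRing (A' ⧸ K) := IsLocalRing.of_surjective' _ Ideal.Quotient.mk_surjective
    let π : A' ⧸ J →+* A' ⧸ K := Ideal.Quotient.factor hJK
    have hπmk : π.comp (Ideal.Quotient.mk J) = Ideal.Quotient.mk K := Ideal.Quotient.factor_comp_mk hJK
    have hπ : Function.Surjective π := Ideal.Quotient.factor_surjective hJK
    have h₁ : LiftsHom f x Q π := fun s α β hα hβ hc => H (A' ⧸ J) (A' ⧸ K) π hπ ⟨Ideal.Quotient.mk J t, by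
        rw [show RingHom.ker π = K.map (Ideal.Quotient.mk J) from Ideal.Quotient.factor_ker hJK, hK, Ideal.map_sup,
          Ideal.map_span, Set.image_singleton, Ideal.map_quotient_self, sup_bot_eq],
      fun a ha => by
        obtain ⟨a, rfl⟩ := Ideal.Quotient.mk_surjective a
        have ha' : a ∈ maximalIdeal A' := fun hu => ha (hu.map _)
        have h2 : t * a ∈ K * maximalIdeal A' :=
          Ideal.mul_mem_mul (Ideal.subset_span (by simp)) ha'
        rw [hIm, Ideal.mem_bot] at h2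
        rw [← map_mul, mul_comm, h2, map_zero]⟩ s α β (hα _) hβ hc
    have hsp : Function.Surjective (Spec.map (CommRingCat.ofHom π)) := fun z => by
      haveI : Subsingleton ↥(Spec (CommRingCat.of (A' ⧸ J))) :=
        inferInstanceAs (Subsingleton (PrimeSpectrum (A' ⧸ J)))
      exact ⟨closedPoint (A' ⧸ K), Subsingleton.elim _ _⟩
    have := LiftsHom.comp hQ (ih hJ hJm) h₁ Ideal.Quotient.mk_surjective hsp
    rwa [hπmk] at this

/-- Lifting along small extensions at the image of a point gives smoothness of charts at the point. -/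
theorem exists_smooth_nhd_of_lift (hX : IsAlgSpace X) (hY : IsAlgSpace Y) {f : X ⟶ Y} (hN : IsLocNoethSp Y)
    (hft : LocP @LocallyOfFiniteType f) {U V : Over S} {a : (yon S).obj U ⟶ X} {b : (yon S).obj V ⟶ Y}
    {h : U ⟶ V} (ha : RepWith @Etale a) (hb : RepWith @Etale b) (c : a ≫ f = (yon S).map h ≫ b) (u : ↥U.left)
    {Q : ∀ {T : Over S}, ((yon S).obj T ⟶ Y) → Prop}
    (hQ : ∀ {T T' : Over S} (i : T ⟶ T') (β : (yon S).obj T' ⟶ Y), IsClosedImmersion i.left → Q β →
      Q ((yon S).map i ≫ β))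
    (H : LiftsSmall f (Points.ofPt a u) Q)
    (hQu : ∀ (A' : Type u) [CommRing A'] [IsLocalRing A'] [IsArtinianRing A']
      (g : U.left.presheaf.stalk u →+* ResidueField A') (_ : Function.Surjective g)
      (t : Spec (CommRingCat.of A') ⟶ V.left),
      Spec.map (CommRingCat.ofHom g) ≫ U.left.fromSpecStalk u ≫ h.left = Spec.map (CommRingCat.ofHom (residue A')) ≫ t →
      Q ((yon S).map (Over.homMk t rfl : Over.mk (t ≫ V.hom) ⟶ V) ≫ b)) :
    ∃ W : U.left.Opens, u ∈ W ∧ Smooth (W.ι ≫ h.left) := by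
  haveI : IsLocallyNoetherian V.left :=
    etaleLocally_chart (fun _ _ => isLocallyNoetherian_of_etale) (fun _ _ => isLocallyNoetherian_desc) hN b hb
  haveI : LocallyOfFiniteType h.left := hft a b h ha hb c
  refine (Groth.Agent.S2793.result h.left u).2 fun A' _ _ _ hA _ I hI hIm g₀ hg₀ hgm hgs => ?_
  haveI : Nontrivial (A' ⧸ I) := Ideal.Quotient.nontrivial_iff.2 hI
  haveI : IsLocalRing (A' ⧸ I) := IsLocalRing.of_surjective' _ Ideal.Quotient.mk_surjective
  have hmax : (maximalIdeal A').map (Ideal.Quotient.mk I) ≤ maximalIdeal (A' ⧸ I) :=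
    IsLocalRing.le_maximalIdeal (J := (maximalIdeal A').map (Ideal.Quotient.mk I)) fun htop => by
      have h1 := Ideal.comap_map_of_surjective (Ideal.Quotient.mk I) Ideal.Quotient.mk_surjective (maximalIdeal A')
      rw [htop, Ideal.comap_top, ← RingHom.ker_eq_comap_bot, Ideal.mk_ker] at h1
      exact (maximalIdeal.isMaximal A').ne_top (top_le_iff.1 (h1.le.trans (sup_le le_rfl (IsLocalRing.le_maximalIdeal hI))))
  haveI : IsLocalHom g₀ := ⟨fun x hx => by_contra fun hn => hmax (hgm x hn) hx⟩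
  let T' : Spec (CommRingCat.of A') ⟶ V.left := Spec.map (CommRingCat.ofHom hA) ≫ V.left.fromSpecStalk (h.left u)
  let T : Spec (CommRingCat.of (A' ⧸ I)) ⟶ U.left := Spec.map (CommRingCat.ofHom g₀) ≫ U.left.fromSpecStalk u
  have hTT : T ≫ h.left = Spec.map (CommRingCat.ofHom (Ideal.Quotient.mk I)) ≫ T' := by
    show (_ ≫ _) ≫ _ = _ ≫ _ ≫ _
    rw [Category.assoc, ← Scheme.SpecMap_stalkMap_fromSpecStalk, ← Spec.map_comp_assoc, ← Spec.map_comp_assoc]
    exact congrArg (fun m => Spec.map m ≫ _) (CommRingCat.hom_ext hg₀)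
  let s : Spec (CommRingCat.of A') ⟶ S := T' ≫ V.hom
  let bT : Over.mk s ⟶ V := Over.homMk T' rfl
  let iI : Over.mk (Spec.map (CommRingCat.ofHom (Ideal.Quotient.mk I)) ≫ s) ⟶ Over.mk s :=
    Over.homMk (Spec.map (CommRingCat.ofHom (Ideal.Quotient.mk I)))
  let aT : Over.mk (Spec.map (CommRingCat.ofHom (Ideal.Quotient.mk I)) ≫ s) ⟶ U := Over.homMk T (by
    show T ≫ U.hom = _ ≫ T' ≫ V.hom
    rw [← Over.w h, reassoc_of% hTT])
  have hah : aT ≫ h = iI ≫ bT := Over.OverMorphism.ext hTT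
  -- the lift to the space
  let gκ : U.left.presheaf.stalk u →+* ResidueField A' :=
    (Ideal.Quotient.lift I (residue A') fun y hy =>
      (residue_eq_zero_iff y).2 (IsLocalRing.le_maximalIdeal hI hy)).comp g₀
  have hQb : Q ((yon S).map bT ≫ b) := by
    refine hQu A' gκ (fun y => ?_) T' ?_
    · obtain ⟨a', rfl⟩ := residue_surjective y
      obtain ⟨b', hb'⟩ := hgs a'
      refine ⟨b', ?_⟩
      obtain ⟨m, hm, hm'⟩ := (Ideal.mem_map_iff_of_surjective _ Ideal.Quotient.mk_surjective).1 hb'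
      simp only [gκ, RingHom.comp_apply]
      rw [show g₀ b' = Ideal.Quotient.mk I (m + a') by rw [map_add, hm', sub_add_cancel], Ideal.Quotient.lift_mk,
        map_add, (residue_eq_zero_iff m).2 hm, zero_add]
    · show Spec.map _ ≫ _ ≫ _ = _
      rw [CommRingCat.ofHom_comp, Spec.map_comp, Category.assoc]
      refine (congrArg (_ ≫ ·) ((Category.assoc _ _ _).symm.trans hTT)).trans ?_
      rw [← Category.assoc, ← Spec.map_comp, ← CommRingCat.ofHom_comp]
      congr 3
  obtain ⟨γ, hγ, hγf⟩ := exists_lift_of_small hQ H A' I hI hIm s ((yon S).map aT ≫ a) ((yon S).map bT ≫ b)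
    (fun z => by
      rw [ofPt_map_comp]
      have hz : aT.left z = u := by
        have e : z = closedPoint (A' ⧸ I) := @Subsingleton.elim _
          (inferInstanceAs (Subsingleton (PrimeSpectrum (A' ⧸ I)))) _ _
        subst e
        haveI : IsLocalHom (CommRingCat.ofHom g₀).hom := ‹IsLocalHom g₀›
        exact specMap_fromSpecStalk_closedPoint (CommRingCat.ofHom g₀)
      rw [hz]) hQb (by rw [Category.assoc, c, ← Functor.map_comp_assoc, hah, Functor.map_comp_assoc])
  -- the lift to the chart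
  have sqP := IsPullback.of_hasPullback f b
  have hP := isAlgSpace_pullback' hY hX (IsAlgSpace.yon_obj V) f b
  obtain ⟨lU, hlU₁, hlU₂⟩ : ∃ l, l ≫ pullback.fst f b = a ∧ l ≫ pullback.snd f b = (yon S).map h :=
    ⟨sqP.lift _ _ c, sqP.lift_fst _ _ c, sqP.lift_snd _ _ c⟩
  have hlUe : RepWith @Etale lU := repWith_etale_lift hX hP ha _ (repWith_of_isPullback sqP.flip hb) lU hlU₁
  obtain ⟨γP, hγP₁, hγP₂⟩ : ∃ l, l ≫ pullback.fst f b = γ ∧ l ≫ pullback.snd f b = (yon S).map bT :=
    ⟨sqP.lift _ _ hγf, sqP.lift_fst _ _ hγf, sqP.lift_snd _ _ hγf⟩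
  haveI : IsAffine (Over.mk s).left := inferInstanceAs (IsAffine (Spec (CommRingCat.of A')))
  have hfot : FOT iI := GrothLib.UnivThick.fot_spec (CommRingCat.ofHom (Ideal.Quotient.mk I))
    Ideal.Quotient.mk_surjective (by
      rw [CommRingCat.hom_ofHom, Ideal.mk_ker, pow_two]
      exact le_bot_iff.1 ((Ideal.mul_mono_right (IsLocalRing.le_maximalIdeal hI)).trans hIm.le))
  obtain ⟨γU, hγU₁, hγU₂⟩ := hasLift_affine (fs_of_fe (fe_of_repWith_etale hlUe)) hfot ((yon S).map aT) γP
    (sqP.hom_ext (by rw [Category.assoc, hlU₁, Category.assoc, hγP₁, hγ])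
      (by rw [Category.assoc, hlU₂, Category.assoc, hγP₂, ← Functor.map_comp, hah, Functor.map_comp]))
  obtain ⟨γU, rfl⟩ := (yon S).map_surjective γU
  have e₁ : iI ≫ γU = aT := (yon S).map_injective (by rw [Functor.map_comp, hγU₁])
  have e₂ : γU ≫ h = bT := (yon S).map_injective (by
    rw [Functor.map_comp, ← hlU₂, ← Category.assoc, hγU₂, hγP₂])
  obtain ⟨⟨x, g, hg⟩, hgx⟩ := (SpecToEquivOfLocalRing U.left (CommRingCat.of A')).symm.surjective γU.left
  change Spec.map g ≫ U.left.fromSpecStalk x = γU.left at hgx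
  obtain rfl : x = u := by
    have h1 : (iI ≫ γU).left (closedPoint (A' ⧸ I)) = u := by
      rw [e₁]
      haveI : IsLocalHom (CommRingCat.ofHom g₀).hom := ‹IsLocalHom g₀›
      exact specMap_fromSpecStalk_closedPoint (CommRingCat.ofHom g₀)
    haveI : IsLocalHom (Ideal.Quotient.mk I) := IsLocalHom.of_surjective _ Ideal.Quotient.mk_surjective
    rw [Over.comp_left, Scheme.Hom.comp_apply, ← hgx,
      show iI.left (closedPoint (A' ⧸ I)) = closedPoint A' from IsLocalRing.comap_closedPoint (Ideal.Quotient.mk I)] at h1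
    exact (specMap_fromSpecStalk_closedPoint (R := A') g).symm.trans h1
  refine ⟨g.hom, ?_, ?_⟩
  · have h1 : Spec.map (h.left.stalkMap x ≫ g) ≫ V.left.fromSpecStalk (h.left x) =
        Spec.map (CommRingCat.ofHom hA) ≫ V.left.fromSpecStalk (h.left x) := by
      rw [Spec.map_comp, Category.assoc, Scheme.SpecMap_stalkMap_fromSpecStalk, reassoc_of% hgx,
        ← Over.comp_left, e₂]
      rfl
    exact congrArg CommRingCat.Hom.hom (Spec.map_injective ((cancel_mono _).1 h1))
  · have h1 : Spec.map (g ≫ CommRingCat.ofHom (Ideal.Quotient.mk I)) ≫ U.left.fromSpecStalk x =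
        Spec.map (CommRingCat.ofHom g₀) ≫ U.left.fromSpecStalk x := by
      rw [Spec.map_comp, Category.assoc, hgx]
      exact congrArg (·.left) e₁
    exact congrArg CommRingCat.Hom.hom (Spec.map_injective ((cancel_mono _).1 h1))

end GrothLib.AlgSp
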