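import Groth.Agent.Lib.AlgSp.SourceDescent

/-!
# Descent of properties of morphisms along smooth surjections of the source
-/

universe u

open CategoryTheory Limits AlgebraicGeometry TensorProduct

namespace GrothLib.AlgSp

/-- `P` can be checked after an smooth surjective cover of the source. -/
def SmoothSourceDescends (P : MorphismProperty Scheme.{u}) : Prop :=
  ∀ ⦃X' X Y : Scheme.{u}⦄ (c : X' ⟶ X) (f : X ⟶ Y), Smooth c → Surjective c → P (c ≫ f) → P f

/-- Every compact target of an smooth surjection receives an smooth surjection from an affine scheme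
factoring through it. -/
theorem exists_affine_smooth_cover {X' X : Scheme.{u}} [CompactSpace X] (c : X' ⟶ X) [Smooth c]
    [Surjective c] : ∃ (T : Scheme.{u}) (p : T ⟶ X'), IsAffine T ∧ Smooth p ∧ Surjective (p ≫ c) := by
  let 𝒰 := X'.affineCover
  obtain ⟨s, hs⟩ := isCompact_univ.elim_finite_subcover (fun i => Set.range (𝒰.f i ≫ c))
    (fun i => (𝒰.f i ≫ c).isOpenMap.isOpen_range) (fun x _ => by
      obtain ⟨x', rfl⟩ := c.surjective x
      obtain ⟨i, y, rfl⟩ := 𝒰.exists_eq x'
      exact Set.mem_iUnion.2 ⟨i, y, rfl⟩)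
  refine ⟨∐ fun i : s => 𝒰.X i.1, Sigma.desc fun i => 𝒰.f i.1, inferInstance, ?_, ⟨fun x => ?_⟩⟩
  · rw [IsZariskiLocalAtSource.iff_of_openCover (P := @Smooth) (sigmaOpenCover _)]
    intro i
    change Smooth (Sigma.ι (fun i : s => 𝒰.X i.1) i ≫ Sigma.desc fun i : s => 𝒰.f i.1)
    rw [Sigma.ι_desc]
    infer_instance
  · obtain ⟨i, hi, y, hy⟩ := Set.mem_iUnion₂.1 (hs (Set.mem_univ x))
    refine ⟨Sigma.ι (fun i : s => 𝒰.X i.1) ⟨i, hi⟩ y, ?_⟩
    rw [← Scheme.Hom.comp_apply, Sigma.ι_desc_assoc]
    exact hy

section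

variable (P : MorphismProperty Scheme.{u})
  (Q : ∀ {R S : Type u} [CommRing R] [CommRing S], (R →+* S) → Prop) [HasRingHomProperty P Q]

theorem smoothSourceDescends_of_ringHom [P.IsStableUnderComposition]
    (hEt : (@Smooth : MorphismProperty Scheme.{u}) ≤ P)
    (H : ∀ {A B C : Type u} [CommRing A] [CommRing B] [CommRing C] (φ : A →+* B) (ψ : B →+* C),
      ψ.Smooth → ψ.FaithfullyFlat → Q (ψ.comp φ) → Q φ) : SmoothSourceDescends P := by
  intro X' X Y c f hc hs h
  wlog hY : IsAffine Y generalizing X' X Y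
  · rw [IsZariskiLocalAtTarget.iff_of_openCover (P := P) Y.affineCover]
    intro i
    change P (pullback.snd f (Y.affineCover.f i))
    refine this (pullback.snd c (pullback.fst f (Y.affineCover.f i))) _ inferInstance inferInstance ?_
      inferInstance
    refine IsZariskiLocalAtTarget.of_isPullback (iY := Y.affineCover.f i)
      (iX := pullback.fst c (pullback.fst f (Y.affineCover.f i))) ?_ h
    exact (IsPullback.of_hasPullback c (pullback.fst f (Y.affineCover.f i))).paste_vert
      (IsPullback.of_hasPullback f (Y.affineCover.f i))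
  wlog hX : IsAffine X generalizing X' X
  · rw [IsZariskiLocalAtSource.iff_of_openCover (P := P) X.affineCover]
    intro i
    change P (X.affineCover.f i ≫ f)
    refine this (pullback.snd c (X.affineCover.f i)) _ inferInstance inferInstance ?_ inferInstance
    rw [← pullback.condition_assoc]
    exact IsZariskiLocalAtSource.comp h _
  obtain ⟨T, p, hT, hp, hps⟩ := exists_affine_smooth_cover c
  have hpc : Smooth (p ≫ c) := inferInstance
  have hP : P ((p ≫ c) ≫ f) := by
    rw [Category.assoc]
    exact P.comp_mem _ _ (hEt _ _ p hp) h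
  rw [HasRingHomProperty.iff_of_isAffine (P := P)] at hP ⊢
  rw [Scheme.Hom.comp_appTop] at hP
  rw [HasRingHomProperty.iff_of_isAffine (P := @Smooth)] at hpc
  refine H _ _ hpc ?_ (by simpa using hP)
  rw [RingHom.FaithfullyFlat.iff_flat_and_comap_surjective]
  exact ⟨HasRingHomProperty.appTop (P := @Flat) (p ≫ c) inferInstance,
    ((MorphismProperty.arrow_mk_iso_iff @Surjective (arrowIsoSpecΓOfIsAffine (p ≫ c))).1 hps).surj⟩

end

open RingHom in
theorem smoothSourceDescends_flat : SmoothSourceDescends.{u} @Flat := by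
  refine smoothSourceDescends_of_ringHom _ RingHom.Flat (fun _ _ _ (_ : Smooth _) => inferInstance) ?_
  intro A B C _ _ _ φ ψ _ h hf
  algebraize [φ, ψ, ψ.comp φ]
  exact RingHom.flat_algebraMap_iff.2 (flat_of_faithfullyFlat (C := C))

theorem smoothSourceDescends_lft : SmoothSourceDescends.{u} @LocallyOfFiniteType := by
  refine smoothSourceDescends_of_ringHom _ RingHom.FiniteType (fun _ _ _ (_ : Smooth _) => inferInstance) ?_
  intro A B C _ _ _ φ ψ he h hf
  algebraize [φ, ψ, ψ.comp φ]
  exact RingHom.finiteType_algebraMap.2 (EtaleDescent.finiteType (C := C))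

theorem smoothSourceDescends_lfp : SmoothSourceDescends.{u} @LocallyOfFinitePresentation := by
  refine smoothSourceDescends_of_ringHom _ RingHom.FinitePresentation
    (fun _ _ _ (_ : Smooth _) => inferInstance) ?_
  intro A B C _ _ _ φ ψ he h hf
  algebraize [φ, ψ, ψ.comp φ]
  exact RingHom.finitePresentation_algebraMap.2 (EtaleDescent.finitePresentation (C := C))

end GrothLib.AlgSp
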