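import Groth.Agent.Lib.AlgSp.LocP
import Groth.Agent.Lib.AlgSp.Points
import Groth.Agent.Lib.AlgSp.SmoothSourceDescent
import Groth.Prelude.Def_AlgSpCov
import Groth.Prelude.Def_AlgSp4

/-!
# Chartwise properties that are smooth local on the source and target
-/

universe u

open CategoryTheory CategoryTheory.Limits AlgebraicGeometry Opposite

namespace GrothLib.AlgSp

open _root_.AlgSp

variable {S : Scheme.{u}} {Q : MorphismProperty Scheme.{u}}

/-- A property of morphisms of schemes descends from smooth neighbourhoods of the points of the source. -/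
theorem of_smooth_neighbourhoods (hD : SmoothSourceDescends Q) [IsZariskiLocalAtSource Q] {U W : Scheme.{u}}
    (h : U ⟶ W)
    (H : ∀ u : U, ∃ (R : Scheme.{u}) (p : R ⟶ U), Smooth p ∧ u ∈ Set.range p ∧ Q (p ≫ h)) : Q h := by
  choose R p hp hu hQ using H
  let V : U → U.Opens := fun u => ⟨Set.range (p u), have := hp u; (p u).isOpenMap.isOpen_range⟩
  rw [IsZariskiLocalAtSource.iff_of_iSup_eq_top (P := Q) V
    (TopologicalSpace.Opens.ext (by
      rw [TopologicalSpace.Opens.coe_iSup, TopologicalSpace.Opens.coe_top, Set.iUnion_eq_univ_iff]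
      exact fun u => ⟨u, hu u⟩))]
  intro u
  have := hp u
  refine hD (p u ∣_ V u) ((V u).ι ≫ h) inferInstance ⟨fun x => ?_⟩ ?_
  · obtain ⟨r, hr⟩ := x.2
    let r' : ↥(p u ⁻¹ᵁ V u) := ⟨r, r, rfl⟩
    refine ⟨r', (V u).ι.isOpenEmbedding.injective ?_⟩
    rw [← Scheme.Hom.comp_apply, morphismRestrict_ι, Scheme.Hom.comp_apply]
    exact hr
  · rw [morphismRestrict_ι_assoc]
    exact IsZariskiLocalAtSource.comp (hQ u) _

theorem locP_smooth_id_of_isAlgSpace {X : Sp S} (hX : IsAlgSpace X) : LocP @Smooth (𝟙 X) :=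
  EtLocal.locP_of_repWith EtLocal.smooth hX (repWith_mono (repWith_iso (P := @Etale) (𝟙 X)) fun _ _ t h => by
    have : Etale t := h
    exact (inferInstance : Smooth t))

/-- `LocP Q` is smooth local on the source and target. -/
theorem isSmoothLocalST_locP (hQ : EtLocal Q)
    (hsm : ∀ ⦃A B : Scheme.{u}⦄ (g : A ⟶ B), Smooth g → Q g) (hD : SmoothSourceDescends Q)
    [IsZariskiLocalAtSource Q] : IsSmoothLocalST (LocP (S := S) Q) where
  precomp _ _ _ hX hY hZ f g hf hg := EtLocal.locP_comp hQ hX hY hZ (locP_mono hsm hf) hg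
  baseChange _ _ _ _ hX hY _ hY' f g f' g' sq _ hf := EtLocal.locP_of_isPullback hQ hX hY hY' sq hf
  locality X Y hX hY f := by
    refine ⟨fun hf x => ⟨X, Y, 𝟙 X, 𝟙 Y, f, x, hX, hY,
      locP_smooth_id_of_isAlgSpace hX,
      locP_smooth_id_of_isAlgSpace hY, by simp, Points.map_id x, hf⟩,
      fun H U W a c h ha hc e => ?_⟩
    refine of_smooth_neighbourhoods hD h.left fun u => ?_
    obtain ⟨U', V', a', b', h', v, hU', hV', ha', hb', e', hv, hh'⟩ := H (Points.map a (Points.schemeHomeo U u))
    -- a smooth neighbourhood of `u` that is etale over `U'`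
    have sqR := IsPullback.of_hasPullback a a'
    obtain ⟨q, hq₁, -⟩ := exists_of_isPullback sqR hv.symm
    have hR₀ := isAlgSpace_pullback' hX (IsAlgSpace.yon_obj U) hU' a a'
    obtain ⟨R, r, re, rs⟩ := hR₀.atlas
    obtain ⟨pU, hpU⟩ := (yon S).map_surjective (r ≫ pullback.fst a a')
    have hpUs : Smooth pU.left :=
      EtLocal.locP_comp EtLocal.smooth (IsAlgSpace.yon_obj R) hR₀ (IsAlgSpace.yon_obj U)
        (EtLocal.locP_of_repWith EtLocal.smooth hR₀ (repWith_mono re fun _ _ t h => by
          have : Etale t := h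
          exact (inferInstance : Smooth t)))
        (EtLocal.locP_of_isPullback EtLocal.smooth hU' hX (IsAlgSpace.yon_obj U) sqR.flip ha')
        (𝟙 _) (𝟙 _) pU (repWith_id _ R) (repWith_id _ U) (by rw [Category.id_comp, Category.comp_id, hpU])
    obtain ⟨r₀, hr₀⟩ := surjective_ofPt_of_repWith rs q
    -- an etale chart of `V' ×_Y W`
    have hS₀ := isAlgSpace_pullback' hY hV' (IsAlgSpace.yon_obj W) b' c
    obtain ⟨S', s, se, ss⟩ := hS₀.atlas
    obtain ⟨β, hβ⟩ := (yon S).map_surjective (s ≫ pullback.snd b' c)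
    have sqS := IsPullback.of_hasPullback b' c
    have hβs : Smooth β.left :=
      EtLocal.locP_comp EtLocal.smooth (IsAlgSpace.yon_obj S') hS₀ (IsAlgSpace.yon_obj W)
        (EtLocal.locP_of_repWith EtLocal.smooth hS₀ (repWith_mono se fun _ _ t h => by
          have : Etale t := h
          exact (inferInstance : Smooth t)))
        (EtLocal.locP_of_isPullback EtLocal.smooth hV' hY (IsAlgSpace.yon_obj W) sqS hb')
        (𝟙 _) (𝟙 _) β (repWith_id _ S') (repWith_id _ W) (by rw [Category.id_comp, Category.comp_id, hβ])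
    let m : (yon S).obj R ⟶ pullback b' c :=
      pullback.lift (r ≫ pullback.snd a a' ≫ h') ((yon S).map (pU ≫ h)) (by
        rw [Functor.map_comp, hpU, Category.assoc, Category.assoc, Category.assoc, Category.assoc, ← e', ← e,
          ← reassoc_of% sqR.w])
    obtain ⟨R', r₁, r₂, sq⟩ := exists_isPullback_yon hS₀.diag m s
    have e₁ := repWith_of_isPullback sq.flip se
    have s₁ : Surjective r₁.left := (repWith_yon_map_iff _ _).1 (repWith_of_isPullback sq.flip ss)
    have he₁ : Etale r₁.left := (repWith_yon_map_iff _ _).1 e₁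
    have hQ₂ : Q r₂.left := hh' ((yon S).map r₁ ≫ r ≫ pullback.snd a a') (s ≫ pullback.fst b' c) r₂
      (repWith_comp e₁ (repWith_comp re (repWith_of_isPullback sqR ha)))
      (repWith_comp se (repWith_of_isPullback sqS.flip hc))
      (by
        have := congrArg (fun t => t ≫ pullback.fst b' c) sq.w
        simp only [Category.assoc] at this
        erw [pullback.lift_fst] at this
        simpa only [Category.assoc, Functor.map_comp] using this)
    obtain ⟨r', hr'⟩ := s₁.surj r₀
    refine ⟨R'.left, r₁.left ≫ pU.left, inferInstance, ⟨r', ?_⟩, ?_⟩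
    · rw [Scheme.Hom.comp_apply, hr']
      refine (Points.schemeHomeo U).injective ?_
      rw [← Points.map_yon_map_apply, hpU]
      refine Eq.trans ?_ ((congrArg (Points.map (pullback.fst a a')) hr₀).trans hq₁)
      rw [Points.map_ofPt, Points.ofPt_eq_map_ofScheme]
      rfl
    · have : (r₁ ≫ pU) ≫ h = r₂ ≫ β := (yon S).map_injective (by
        have := congrArg (fun t => t ≫ pullback.snd b' c) sq.w
        simp only [Category.assoc] at this
        erw [pullback.lift_snd] at this
        simpa only [Category.assoc, Functor.map_comp, hβ] using this)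
      rw [← Over.comp_left, ← Over.comp_left, this, Over.comp_left]
      exact hQ.comp_mem _ _ hQ₂ (hsm _ hβs)

theorem isSmoothLocalST_lft : IsSmoothLocalST (LocP (S := S) @LocallyOfFiniteType) :=
  isSmoothLocalST_locP EtLocal.lft (fun _ _ g (_ : Smooth g) => inferInstance) smoothSourceDescends_lft

theorem isSmoothLocalST_lfp : IsSmoothLocalST (LocP (S := S) @LocallyOfFinitePresentation) :=
  isSmoothLocalST_locP EtLocal.lfp (fun _ _ g (_ : Smooth g) => inferInstance) smoothSourceDescends_lfp

theorem isSmoothLocalST_flat : IsSmoothLocalST (LocP (S := S) @Flat) :=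
  isSmoothLocalST_locP EtLocal.flat (fun _ _ g (_ : Smooth g) => inferInstance) smoothSourceDescends_flat

end GrothLib.AlgSp
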