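import Groth.Agent.Lib.AlgSp.SourceLocal
import Groth.Agent.Lib.AlgSp.FppfCover
import Mathlib.AlgebraicGeometry.Sites.Fpqc
import Mathlib.AlgebraicGeometry.Sites.Etale

/-!
# Chart-wise properties local on the source
-/

universe u

open CategoryTheory CategoryTheory.Limits AlgebraicGeometry MorphismProperty

namespace GrothLib.AlgSp

open _root_.AlgSp

variable {S : Scheme.{u}}

/-- A scheme chart of each member over a chart of the base, through which lifts factor etale locally. -/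
theorem exists_chart_lifts {C : MorphismProperty Scheme.{u}} (hC : EtLocal C)
    (hCet : ∀ ⦃A B : Scheme.{u}⦄ (c : A ⟶ B), Etale c → C c) {ι : Type u} {X : Sp S} {Xi : ι → Sp S}
    {g : ∀ i, Xi i ⟶ X} (hX : IsAlgSpace X) (hXi : ∀ i, IsAlgSpace (Xi i)) (hg : ∀ i, LocP C (g i))
    {U : Over S} (a : (yon S).obj U ⟶ X) (ha : RepWith @Etale a) (i : ι) :
    ∃ (W : Over S) (c : W ⟶ U) (b : (yon S).obj W ⟶ Xi i), RepWith @Etale b ∧
      (yon S).map c ≫ a = b ≫ g i ∧ C c.left ∧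
      ∀ (T : Over S) (z : T ⟶ U) (l : (yon S).obj T ⟶ Xi i), l ≫ g i = (yon S).map z ≫ a →
        ∃ (R : Over S) (r : R ⟶ T) (m : R ⟶ W), Etale r.left ∧ Surjective r.left ∧ m ≫ c = r ≫ z := by
  obtain ⟨W, w, we, ws⟩ := (isAlgSpace_pullback' hX (hXi i) (IsAlgSpace.yon_obj U) (g i) a).atlas
  obtain ⟨c, hc⟩ := (yon S).map_surjective (w ≫ pullback.snd (g i) a)
  have hb : RepWith @Etale (w ≫ pullback.fst (g i) a) :=
    repWith_comp we (repWith_of_isPullback (IsPullback.of_hasPullback (g i) a).flip ha)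
  have comm : (yon S).map c ≫ a = (w ≫ pullback.fst (g i) a) ≫ g i := by
    rw [hc, Category.assoc, Category.assoc, pullback.condition]
  refine ⟨W, c, _, hb, comm, hg i _ a c hb ha comm.symm, fun T z l hl => ?_⟩
  obtain ⟨R, m, r, sq⟩ := exists_isPullback_of_representable we.1 (pullback.lift l ((yon S).map z) hl)
  obtain ⟨m, rfl⟩ := (yon S).map_surjective m
  refine ⟨R, r, m, we.2 _ _ _ sq, ws.2 _ _ _ sq, (yon S).map_injective ?_⟩
  rw [Functor.map_comp, Functor.map_comp, hc, reassoc_of% sq.w, pullback.lift_snd]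

/-- A property local on the source for `K` gives a chart-wise property local on the source for `τ`. -/
theorem isLocalOnSource_locP_of {K : Precoverage Scheme.{u}} {P : MorphismProperty Scheme.{u}}
    [P.IsLocalAtSource K] {C : MorphismProperty Scheme.{u}}
    (hpair : ∀ ⦃W U : Scheme.{u}⦄ (w : W ⟶ U), C w → (PreZeroHypercover.mk (ULift.{u} Bool)
      (fun b => if b.down then W else U) (fun ⟨b⟩ => match b with | true => w | false => 𝟙 U)).presieve₀ ∈ K U)
    (het : ∀ ⦃W U : Scheme.{u}⦄ (w : W ⟶ U), Etale w → Surjective w →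
      (PreZeroHypercover.mk PUnit.{u + 1} (fun _ => W) (fun _ => w)).presieve₀ ∈ K U)
    {τ : CovNotion S}
    (hg : ∀ ⦃ι : Type u⦄ ⦃X : Sp S⦄ (Xi : ι → Sp S) (g : ∀ i, Xi i ⟶ X), IsAlgSpace X →
      (∀ i, IsAlgSpace (Xi i)) → τ Xi g → ∀ i, LocP C (g i))
    (hcov : ∀ ⦃ι : Type u⦄ ⦃X : Sp S⦄ (Xi : ι → Sp S) (g : ∀ i, Xi i ⟶ X), IsAlgSpace X →
      (∀ i, IsAlgSpace (Xi i)) → τ Xi g → ∀ (U : Over S) (a : (yon S).obj U ⟶ X), RepWith @Etale a →
      ∃ (W : ι → Over S) (c : ∀ i, W i ⟶ U) (b : ∀ i, (yon S).obj (W i) ⟶ Xi i),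
        (∀ i, RepWith @Etale (b i)) ∧ (∀ i, (yon S).map (c i) ≫ a = b i ≫ g i) ∧
        (PreZeroHypercover.mk ι (fun i => (W i).left) (fun i => (c i).left)).presieve₀ ∈ K U.left) :
    IsLocalOnSource τ (LocP (S := S) P) := by
  intro ι X Xi g hX hXi hτ Y f hY
  constructor
  · intro hf i Ui V a' b k ha' hb w
    have sq := IsPullback.of_hasPullback f b
    obtain ⟨U, u, ue, us⟩ := (isAlgSpace_pullback' hY hX (IsAlgSpace.yon_obj V) f b).atlas
    obtain ⟨α, hα⟩ := (yon S).map_surjective (u ≫ pullback.snd f b)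
    have pe : RepWith @Etale (u ≫ pullback.fst f b) :=
      repWith_comp ue (repWith_of_isPullback sq.flip hb)
    have hPα : P α.left := hf _ b α pe hb (by rw [hα, Category.assoc, Category.assoc, pullback.condition])
    obtain ⟨W, m, r, sqW⟩ := exists_isPullback_of_representable ue.1
      (pullback.lift (a' ≫ g i) ((yon S).map k) (by rw [Category.assoc, w]))
    obtain ⟨m, rfl⟩ := (yon S).map_surjective m
    have hre : Etale r.left := ue.2 _ _ _ sqW
    have hm : C m.left := hg Xi g hX hXi hτ i ((yon S).map r ≫ a') _ m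
      (repWith_comp ((repWith_yon_map_iff @Etale r).2 hre) ha') pe
      (by rw [reassoc_of% sqW.w, pullback.lift_fst, Category.assoc])
    have e : m ≫ α = r ≫ k := (yon S).map_injective (by
      rw [Functor.map_comp, Functor.map_comp, hα, reassoc_of% sqW.w, pullback.lift_snd])
    have h1 : P (m.left ≫ α.left) :=
      IsLocalAtSource.comp (hpair m.left hm) _ (Presieve.ofArrows.mk (ULift.up true)) hPα
    refine IsLocalAtSource.of_forall_comp (het r.left hre (us.2 _ _ _ sqW)) ?_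
    rintro _ _ ⟨_⟩
    rw [← Over.comp_left, ← e]
    exact h1
  · intro h U V a b k ha hb w
    obtain ⟨W, c, b', hb', hw, hK⟩ := hcov Xi g hX hXi hτ U a ha
    refine IsLocalAtSource.of_forall_comp hK ?_
    rintro _ _ ⟨i⟩
    rw [← Over.comp_left]
    exact h i (b' i) b (c i ≫ k) (hb' i) hb (by
      rw [Functor.map_comp, Category.assoc, ← w, reassoc_of% hw i])

variable {Q : MorphismProperty Scheme.{u}}

theorem pair_mem_precoverage [Q.ContainsIdentities] ⦃W U : Scheme.{u}⦄ (w : W ⟶ U) (h : Q w) :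
    (PreZeroHypercover.mk (ULift.{u} Bool) (fun b => if b.down then W else U)
      (fun ⟨b⟩ => match b with | true => w | false => 𝟙 U)).presieve₀ ∈ Scheme.precoverage Q U := by
  refine (Scheme.presieve₀_mem_precoverage_iff _).2 ⟨fun x => ⟨⟨false⟩, x, rfl⟩, ?_⟩
  rintro ⟨_ | _⟩
  · exact Q.id_mem U
  · exact h

theorem etale_mem_precoverage (hQ : ∀ ⦃A B : Scheme.{u}⦄ (c : A ⟶ B), Etale c → Q c)
    ⦃W U : Scheme.{u}⦄ (w : W ⟶ U) (he : Etale w) (hs : Surjective w) :
    (PreZeroHypercover.mk PUnit.{u + 1} (fun _ => W) (fun _ => w)).presieve₀ ∈ Scheme.precoverage Q U :=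
  (Scheme.presieve₀_mem_precoverage_iff _).2 ⟨fun x => ⟨⟨⟩, hs.surj x⟩, fun _ => hQ w he⟩

theorem isLocalOnSource_locP_precoverage (hQ : EtLocal Q) [Q.ContainsIdentities]
    (hQet : ∀ ⦃A B : Scheme.{u}⦄ (c : A ⟶ B), Etale c → Q c)
    {P : MorphismProperty Scheme.{u}} [P.IsLocalAtSource (Scheme.precoverage Q)] {τ : CovNotion S}
    (hτ : ∀ ⦃ι : Type u⦄ ⦃X : Sp S⦄ (Xi : ι → Sp S) (g : ∀ i, Xi i ⟶ X), IsAlgSpace X →
      (∀ i, IsAlgSpace (Xi i)) → τ Xi g →
      (∀ i, LocP Q (g i)) ∧ ∀ x : Points X, ∃ i, x ∈ Set.range (Points.map (g i))) :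
    IsLocalOnSource τ (LocP (S := S) P) :=
  isLocalOnSource_locP_of (K := Scheme.precoverage Q) pair_mem_precoverage (etale_mem_precoverage hQet)
    (fun _ _ Xi g hX hXi h => (hτ Xi g hX hXi h).1) fun _ _ Xi g hX hXi h U a ha => by
      obtain ⟨W, c, b, hb, hw, hc, hs⟩ :=
        exists_chart_cover hQ hQet hX hXi (hτ Xi g hX hXi h).1 (hτ Xi g hX hXi h).2 a ha
      exact ⟨W, c, b, hb, hw, (Scheme.presieve₀_mem_precoverage_iff _).2 ⟨hs, hc⟩⟩

theorem isLocalOnSource_locP_fpqc {P : MorphismProperty Scheme.{u}}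
    [P.IsLocalAtSource Scheme.fpqcPrecoverage] : IsLocalOnSource (IsFpqcCover (S := S)) (LocP (S := S) P) := by
  refine isLocalOnSource_locP_of (K := Scheme.fpqcPrecoverage) (C := @Flat) ?_ ?_
    (fun _ _ _ _ _ _ h i => h.1 i) ?_
  · intro W U w hw
    refine ⟨Scheme.presieve₀_mem_qcPrecoverage_iff.2 ?_, pair_mem_precoverage w hw⟩
    exact QuasiCompactCover.of_hom (𝒱 := PreZeroHypercover.singleton.{u} (𝟙 U))
      { s₀ := fun _ => ⟨false⟩, h₀ := fun _ => 𝟙 U, w₀ := fun _ => Category.id_comp _ }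
  · intro W U w he hs
    refine ⟨Scheme.presieve₀_mem_qcPrecoverage_iff.2 ?_,
      etale_mem_precoverage (fun _ _ c (_ : Etale c) => (inferInstance : Flat c)) w he hs⟩
    exact ⟨fun {O} hO => .of_isOpenMap (fun _ => w.continuous) (fun _ => w.isOpenMap)
      (fun x _ => ⟨⟨⟩, hs.surj x⟩) O.2 hO.isCompact⟩
  · intro ι X Xi g hX hXi h U a ha
    choose W c b hb hw hc hlift using fun i =>
      exists_chart_lifts EtLocal.flat (fun _ _ c (_ : Etale c) => (inferInstance : Flat c)) hX hXi h.1 a ha i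
    refine ⟨W, c, b, hb, hw, ?_⟩
    have key : ∀ (O : U.left.Opens), IsAffineOpen O →
        IsCompactOpenCovered (fun i => ((c i).left : (W i).left → U.left)) (O : Set U.left) := by
      intro O hO
      let j : Over.mk (O.ι ≫ U.hom) ⟶ U := Over.homMk O.ι rfl
      obtain ⟨n, T, d, hTa, -, hTs, hTl⟩ := h.2 (Over.mk (O.ι ≫ U.hom)) hO ((yon S).map j ≫ a)
      choose idx l hl using hTl
      choose R r m hre hrs hm using fun k => hlift (idx k) (T k) (d k ≫ j) (l k)
        (by rw [hl, Functor.map_comp, Category.assoc])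
      have hQ : ∀ k, ∃ Q : (W (idx k)).left.Opens, IsCompact (Q : Set (W (idx k)).left) ∧
          (c (idx k)).left '' Q ⊆ O ∧ Set.range (d k ≫ j).left ⊆ (c (idx k)).left '' Q := by
        intro k
        have := hTa k
        have hsub : Set.range (m k).left ⊆ ((c (idx k)).left ⁻¹ᵁ O : Set (W (idx k)).left) := by
          rintro _ ⟨x, rfl⟩
          change (c (idx k)).left ((m k).left x) ∈ (O : Set U.left)
          rw [← Scheme.Hom.comp_apply, ← Over.comp_left, hm, Over.comp_left, Scheme.Hom.comp_apply,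
            Over.comp_left, Scheme.Hom.comp_apply, ← Scheme.Opens.range_ι O]
          exact ⟨_, rfl⟩
        obtain ⟨s, hs, hcov⟩ : ∃ s : Set (W (idx k)).left.affineOpens, s.Finite ∧
            (∀ V ∈ s, (V.1 : Set (W (idx k)).left) ⊆ (c (idx k)).left ⁻¹ᵁ O) ∧
            (⊤ : Set (T k).left) ⊆ ⋃ V ∈ s, (r k).left '' ((m k).left ⁻¹ᵁ V.1) := by
          obtain ⟨s, hs⟩ := (isCompact_univ (X := (T k).left)).elim_finite_subcover
            (fun V : {V : (W (idx k)).left.affineOpens //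
                (V.1 : Set (W (idx k)).left) ⊆ (c (idx k)).left ⁻¹ᵁ O} =>
              (r k).left '' ((m k).left ⁻¹ᵁ V.1.1))
            (fun V => (r k).left.isOpenMap _ ((m k).left ⁻¹ᵁ V.1.1).2) (fun t _ => by
              obtain ⟨x, rfl⟩ := (r k).left.surjective t
              obtain ⟨V, hV, hxV, hVO⟩ := exists_isAffineOpen_mem_and_subset (hsub ⟨x, rfl⟩)
              exact Set.mem_iUnion.2 ⟨⟨⟨V, hV⟩, hVO⟩, x, hxV, rfl⟩)
          refine ⟨Subtype.val '' SetLike.coe s, s.finite_toSet.image _, ?_, ?_⟩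
          · rintro _ ⟨V, -, rfl⟩; exact V.2
          · rw [Set.top_eq_univ, Set.biUnion_image]; exact hs
        refine ⟨⨆ V ∈ s, V.1, ?_, ?_, ?_⟩
        · simp only [TopologicalSpace.Opens.coe_iSup]
          exact hs.isCompact_biUnion fun V _ => V.2.isCompact
        · rintro _ ⟨x, hx, rfl⟩
          simp only [TopologicalSpace.Opens.coe_iSup, Set.mem_iUnion] at hx
          obtain ⟨V, hV, hx⟩ := hx
          exact hcov.1 V hV hx
        · rintro _ ⟨t, rfl⟩
          obtain ⟨V, hV, x, hx, rfl⟩ := Set.mem_iUnion₂.1 (hcov.2 (Set.mem_univ t))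
          refine ⟨(m k).left x, ?_, ?_⟩
          · simp only [TopologicalSpace.Opens.coe_iSup, Set.mem_iUnion]
            exact ⟨V, hV, hx⟩
          · rw [← Scheme.Hom.comp_apply, ← Over.comp_left, hm, Over.comp_left, Scheme.Hom.comp_apply]
      choose Q hQc hQsub hQcov using hQ
      refine .of_finite idx Q hQc (Set.Subset.antisymm (Set.iUnion_subset hQsub) fun x hx => ?_)
      obtain ⟨z, rfl⟩ : x ∈ Set.range O.ι := (Scheme.Opens.range_ι O).symm ▸ hx
      obtain ⟨k, t, ht⟩ := hTs z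
      refine Set.mem_iUnion.2 ⟨k, hQcov k ⟨t, ?_⟩⟩
      rw [← ht, Over.comp_left, Scheme.Hom.comp_apply]
      rfl
    refine ⟨Scheme.presieve₀_mem_qcPrecoverage_iff.2 ⟨fun {O} hO => key O hO⟩,
      (Scheme.presieve₀_mem_precoverage_iff _).2 ⟨fun x => ?_, hc⟩⟩
    obtain ⟨O, hO, hxO, -⟩ := exists_isAffineOpen_mem_and_subset (U := (⊤ : U.left.Opens)) (x := x) trivial
    obtain ⟨s, -, V, -, hV⟩ := key O hO
    obtain ⟨i, hi, y, -, hy⟩ := Set.mem_iUnion₂.1 (hV.symm.subset hxO)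
    exact ⟨i, y, hy⟩

end GrothLib.AlgSp
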