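import Groth.Agent.Lib.AlgSp.NormSplit
import Groth.Agent.Lib.AlgSp.FiniteNhd
import Groth.Agent.Lib.AlgSp.GenericFiniteDense
import Groth.Agent.Lib.AlgSp.LqfPoint
import Groth.Agent.Lib.Weight.FiniteIsolated

/-!
# Splitting off finitely many quasi-finite points etale locally

* `finite_qf_fibre_of_qc`: a quasi-compact space over an affine scheme has finitely many quasi-finite points over a point;
* `exists_finite_split_many`: finitely many quasi-finite points over one point of the base.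
-/

set_option autoImplicit false
universe u
open CategoryTheory CategoryTheory.Limits AlgebraicGeometry
set_option backward.isDefEq.respectTransparency false

namespace GrothLib.AlgSp

open _root_.AlgSp

variable {S : Scheme.{u}}

/-- The isolated points of a fibre of a finite type morphism are finite in number. -/
theorem finite_quasiFiniteAt_fibre {U V : Scheme.{u}} (h : U ⟶ V) [LocallyOfFiniteType h] [QuasiCompact h]
    (v : V) : {u : U | h u = v ∧ h.QuasiFiniteAt u}.Finite := by
  haveI : LocallyOfFiniteType (h.fiberToSpecResidueField v) := MorphismProperty.pullback_snd h _ inferInstance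
  haveI : IsLocallyNoetherian (h.fiber v) := LocallyOfFiniteType.isLocallyNoetherian (h.fiberToSpecResidueField v)
  haveI : QuasiCompact (h.fiberToSpecResidueField v) := MorphismProperty.pullback_snd h _ inferInstance
  haveI : CompactSpace ↥(h.fiber v) := QuasiCompact.compactSpace_of_compactSpace (h.fiberToSpecResidueField v)
  haveI : IsNoetherian (h.fiber v) := AlgebraicGeometry.IsNoetherian.mk
  let J : Set ↥(h.fiber v) := {x | IsOpen ({x} : Set ↥(h.fiber v))}
  have hJ : J.Finite := by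
    haveI : DiscreteTopology ↥J := discreteTopology_iff_isOpen_singleton.2 fun g => by
      have e : ({g} : Set ↥J) = Subtype.val ⁻¹' {g.1} :=
        Set.ext fun z => ⟨fun h => congrArg Subtype.val h, fun h => Subtype.ext h⟩
      rw [e]; exact IsOpen.preimage continuous_subtype_val g.2
    haveI : CompactSpace ↥J := isCompact_iff_compactSpace.1 (TopologicalSpace.NoetherianSpace.isCompact J)
    exact Set.finite_coe_iff.1 finite_of_compact_of_discrete
  refine (hJ.image (h.fiberι v)).subset fun u hu => ?_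
  obtain ⟨rfl, hq⟩ := hu
  rw [Scheme.Hom.quasiFiniteAt_iff_isOpen_singleton_asFiber] at hq
  exact ⟨h.asFiber u, hq, Scheme.Hom.fiberι_asFiber h u⟩

/-- A quasi-compact space over an affine scheme has finitely many quasi-finite points over a point. -/
theorem finite_qf_fibre_of_qc {P : Sp S} (hP : IsAlgSpace P) {V : Over S} [IsAffine V.left]
    {q : P ⟶ (yon S).obj V} (hl : LocP @LocallyOfFiniteType q) (hqc : IsQuasiCompactMor q) (v : ↥V.left) :
    {z : Points P | Points.map q z = Points.ofScheme V v ∧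
      HasAtMor (fun _ _ h u => FlatMor.fibreDimAt h u ≤ 0) q z}.Finite := by
  have hV := IsAlgSpace.yon_obj V
  obtain ⟨U, a, hU, ae, as⟩ := exists_affine_surjective_chart hP
    (hqc hV (isQuasiCompactSp_yon V) (𝟙 _) (𝟙 P) q IsPullback.of_id_fst)
  haveI := hU
  obtain ⟨h, hh⟩ := (yon S).map_surjective (a ≫ q)
  haveI : LocallyOfFiniteType h.left := hl a (𝟙 _) h ae (repWith_id _ V) (by rw [hh, Category.comp_id])
  refine ((finite_quasiFiniteAt_fibre h.left v).image (Points.ofPt a)).subset fun z hz => ?_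
  obtain ⟨u, rfl⟩ := surjective_ofPt_of_repWith as z
  obtain ⟨h1, h2⟩ := hz
  refine ⟨u, ⟨?_, ?_⟩, rfl⟩
  · apply (Points.schemeEquiv V).injective
    refine Eq.trans ?_ h1
    rw [Points.map_ofPt, ← hh]
    exact ((Points.ofScheme_toScheme V _).symm.trans (congrArg (Points.ofScheme V) (Points.toScheme_ofPt h u))).symm
  · exact (quasiFiniteAt_iff_fibreDimAt h.left u).2
      ((hasAtMor_fibreDim_iff hP hV ae (repWith_id _ V) (by rw [hh, Category.comp_id]) u (fun d => d ≤ 0)).1 h2)

/-- Finitely many quasi-finite points over one point of the base split off simultaneously. -/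
theorem exists_finite_split_many {P : Sp S} (hP : IsAlgSpace P) {V : Over S} {q : P ⟶ (yon S).obj V}
    (hl : LocP @LocallyOfFiniteType q) (hsep : IsSeparatedMor q) (v : ↥V.left) {Z : Set (Points P)} (hZ : Z.Finite)
    (hZv : ∀ z ∈ Z, Points.map q z = Points.ofScheme V v)
    (hZq : ∀ z ∈ Z, HasAtMor (fun _ _ h u => FlatMor.fibreDimAt h u ≤ 0) q z) :
    ∃ (V' A : Over S) (ψ : V' ⟶ V) (g : A ⟶ V') (kP : (yon S).obj A ⟶ P) (u : ↥V'.left),
      Etale ψ.left ∧ IsFinite g.left ∧ ψ.left u = v ∧ kP ≫ q = (yon S).map (g ≫ ψ) ∧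
      (∀ a : ↥A.left, g.left a = u → Points.ofPt kP a ∈ Z) ∧
      ∀ {P' : Sp S} {c : P' ⟶ P} {q' : P' ⟶ (yon S).obj V'} (_ : IsPullback c q' q ((yon S).map ψ))
        (k : (yon S).obj A ⟶ P'), k ≫ c = kP → k ≫ q' = (yon S).map g →
        RepWith @IsOpenImmersion k ∧ RepWith @IsClosedImmersion k ∧
          ∀ w : Points P', Points.map q' w = Points.ofScheme V' u → Points.map c w ∈ Z →
            w ∈ Set.range (Points.map k) := by
  have hV := IsAlgSpace.yon_obj V
  -- the quasi-finite locus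
  let O : Set (Points P) := {z | HasAtMor (fun U _ h u => ∃ W : U.Opens, u ∈ W ∧ LocallyQuasiFinite (W.ι ≫ h) ∧
    LocallyOfFiniteType (W.ι ≫ h)) q z}
  have hO : IsOpen O := isOpen_hasAtMor_lqf q
  have hj : RepWith @IsOpenImmersion (openSubι P O) := repWith_openSubι hO
  haveI := mono_openSubι P O
  have hje : RepWith @Etale (openSubι P O) := repWith_mono hj fun A B m hm => by
    have : IsOpenImmersion m := hm
    exact inferInstanceAs (Etale m)
  have hO' : IsAlgSpace (openSub P O) := isAlgSpace_openSub hP hO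
  have hlO : LocP @LocallyOfFiniteType (openSubι P O ≫ q) :=
    EtLocal.locP_comp EtLocal.lft hO' hP hV (EtLocal.locP_of_repWith EtLocal.lft hP (repWith_mono hj fun A B m hm => by
      have : IsOpenImmersion m := hm
      exact inferInstanceAs (LocallyOfFiniteType m))) hl
  have hqO : LocP (@LocallyQuasiFinite ⊓ @LocallyOfFiniteType) (openSubι P O ≫ q) := by
    refine locP_lqf_of_fibreDim hO' hV hlO fun x => ?_
    obtain ⟨U, V₁, a, b, h, u, ha, hb, hc, hu, hd⟩ :=
      (hasAtMor_lqf_iff hP hV hl _).1 (range_openSubι.le ⟨x, rfl⟩ : Points.map (openSubι P O) x ∈ O)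
    haveI : LocallyOfFiniteType h.left := hl a b h ha hb hc
    let Uo : U.left.Opens := ⟨Points.ofPt a ⁻¹' O, hO.preimage (Points.continuous_ofPt a)⟩
    let U' : Over S := Over.mk (Uo.ι ≫ U.hom)
    let i : U' ⟶ U := Over.homMk Uo.ι rfl
    obtain ⟨a', ha'⟩ := (exists_factor_iff hj ((yon S).map i ≫ a)).2 (by
      rintro _ ⟨y, rfl⟩
      obtain ⟨y, rfl⟩ := (Points.schemeEquiv U').surjective y
      rw [range_openSubι, show Points.schemeEquiv U' y = Points.ofScheme U' y from rfl,
        ← Points.ofPt_eq_map_ofScheme, ofPt_map_comp]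
      exact y.2)
    have hue : u ∈ Uo := by
      show Points.ofPt a u ∈ O
      rw [hu]
      exact range_openSubι.le ⟨x, rfl⟩
    refine ⟨U', V₁, a', b, i ≫ h, ⟨u, hue⟩, repWith_etale_lift hP hO'
      (repWith_comp ((repWith_yon_map_iff _ i).2 (inferInstanceAs (Etale Uo.ι))) ha) _ hje _ ha', hb, ?_, ?_, ?_⟩
    · rw [reassoc_of% ha', hc, ← Functor.map_comp_assoc]
    · apply injective_map_of_mono (openSubι P O)
      rw [Points.map_ofPt, ha', ofPt_map_comp]
      exact hu
    · haveI : LocallyOfFiniteType (Uo.ι ≫ h.left) := inferInstance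
      exact (quasiFiniteAt_iff_fibreDimAt (Uo.ι ≫ h.left) ⟨u, hue⟩).1
        (Scheme.Hom.quasiFiniteAt_comp_iff_of_isOpenImmersion.2 ((quasiFiniteAt_iff_fibreDimAt h.left u).2 hd))
  have hsO : IsSeparatedMor (openSubι P O ≫ q) := isSeparatedMor_comp isSeparatedMor_of_mono hsep
  obtain ⟨M, ⟨e⟩⟩ := exists_iso_yon_of_lqf_separated hO' _ hqO hsO
  obtain ⟨g₀, hg₀⟩ := (yon S).map_surjective (e.hom ≫ openSubι P O ≫ q)
  obtain ⟨hq₀, hl₀⟩ : LocallyQuasiFinite g₀.left ∧ LocallyOfFiniteType g₀.left :=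
    hqO e.hom (𝟙 _) g₀ (repWith_iso _) (repWith_id _ V) (by rw [hg₀, Category.comp_id])
  haveI : IsSeparated g₀.left := (repWith_yon_map_iff _ g₀).1 ((isSeparatedMor_iff_repWith (representable_yon_map g₀)).1
    (repWith_of_isPullback (isPullback_diagonal_of_isPullback
      (IsPullback.of_horiz_isIso ⟨by rw [hg₀, Category.comp_id]⟩ :
        IsPullback e.hom ((yon S).map g₀) (openSubι P O ≫ q) (𝟙 _))) hsO))
  let p : ↥M.left → Points P := Points.ofPt (e.hom ≫ openSubι P O)
  have hpinj : Function.Injective p := fun m m' h => by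
    have hm : Points.map (e.hom ≫ openSubι P O) (Points.ofScheme M m) =
        Points.map (e.hom ≫ openSubι P O) (Points.ofScheme M m') :=
      (Points.ofPt_eq_map_ofScheme _ m).symm.trans (h.trans (Points.ofPt_eq_map_ofScheme _ m'))
    exact (Points.schemeEquiv M).injective (injective_map_of_mono (e.hom ≫ openSubι P O) hm)
  have hpsurj : ∀ z ∈ O, ∃ m, p m = z := fun z hz => by
    obtain ⟨y, hy⟩ := range_openSubι.ge hz
    obtain ⟨m, hm⟩ := (Points.schemeEquiv M).surjective (Points.map e.inv y)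
    refine ⟨m, (Points.ofPt_eq_map_ofScheme _ m).trans ?_⟩
    rw [show Points.ofScheme M m = _ from hm, ← Points.map_comp, e.inv_hom_id_assoc, hy]
  have hpq : ∀ m, Points.map q (p m) = Points.ofScheme V (g₀.left m) := fun m => by
    show Points.map q (Points.ofPt _ m) = _
    rw [Points.map_ofPt, Category.assoc, ← hg₀]
    exact (Points.ofScheme_toScheme V _).symm.trans (congrArg (Points.ofScheme V) (Points.toScheme_ofPt g₀ m))
  -- the finite parts
  have hx : ∀ z : Z, ∃ m, p m = z.1 := fun z =>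
    hpsurj _ ((hasAtMor_lqf_iff hP hV hl _).2 (hZq _ z.2))
  choose x hx using hx
  have hxv : ∀ z : Z, g₀.left (x z) = v := fun z => (Points.schemeEquiv V).injective
    ((hpq _).symm.trans (by rw [hx]; exact hZv _ z.2))
  obtain ⟨n, ⟨eZ⟩⟩ := @Finite.exists_equiv_fin _ hZ.to_subtype
  obtain ⟨U, ψ₀, u, ⟨hψe, hψu, hψb⟩, hparts⟩ := GrothLib.Weight.exists_finite_parts (f := g₀.left) v
    (fun i : Fin n => x (eZ.symm i)) (fun i => hxv _) (fun i => g₀.left.quasiFiniteAt _) Finset.univ
  choose Vp vp hvV hVfin hvu huniq hvx hvb using fun i => hparts i (Finset.mem_univ i)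
  obtain ⟨-, hfin⟩ := GrothLib.Weight.isFinite_union (pullback.snd g₀.left ψ₀) n Vp hVfin
  let A₁ := ⨆ i, Vp i
  let V' : Over S := Over.mk (ψ₀ ≫ V.hom)
  let ψ : V' ⟶ V := Over.homMk ψ₀ rfl
  let Q : Over S := Over.mk (pullback.snd g₀.left ψ₀ ≫ V'.hom)
  let p₁ : Q ⟶ M := Over.homMk (pullback.fst g₀.left ψ₀) (by
    show pullback.fst g₀.left ψ₀ ≫ M.hom = pullback.snd g₀.left ψ₀ ≫ ψ₀ ≫ V.hom
    rw [← Over.w g₀, ← Category.assoc, pullback.condition, Category.assoc])
  let p₂ : Q ⟶ V' := Over.homMk (pullback.snd g₀.left ψ₀) rfl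
  have sqQ : IsPullback p₁ p₂ g₀ ψ := isPullback_of_left (IsPullback.of_hasPullback g₀.left ψ₀)
  let A : Over S := Over.mk (A₁.ι ≫ Q.hom)
  let iA : A ⟶ Q := Over.homMk A₁.ι rfl
  refine ⟨V', A, ψ, iA ≫ p₂, (yon S).map (iA ≫ p₁) ≫ e.hom ≫ openSubι P O, u, hψe, hfin, hψu, ?_, ?_, ?_⟩
  · rw [Category.assoc, Category.assoc, ← hg₀, ← Functor.map_comp, Category.assoc, sqQ.w, ← Category.assoc]
  · intro a ha
    obtain ⟨i, hi⟩ := TopologicalSpace.Opens.mem_iSup.1 (show A₁.ι a ∈ ⨆ i, Vp i from a.2)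
    have h1 : A₁.ι a = vp i := huniq i _ hi ha
    rw [ofPt_map_comp, show (iA ≫ p₁).left a = pullback.fst g₀.left ψ₀ (A₁.ι a) from rfl, h1, hvx]
    show p (x (eZ.symm i)) ∈ Z
    rw [hx]
    exact (eZ.symm i).2
  intro P' c q' sq k hk₁ hk₂
  have wj : ((yon S).map p₁ ≫ e.hom ≫ openSubι P O) ≫ q = (yon S).map p₂ ≫ (yon S).map ψ := by
    rw [Category.assoc, Category.assoc, ← hg₀, ← Functor.map_comp, ← Functor.map_comp, sqQ.w]
  let j := sq.lift _ _ wj
  have hjq : j ≫ q' = (yon S).map p₂ := sq.lift_snd _ _ wj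
  have sqj : IsPullback ((yon S).map p₁) j (e.hom ≫ openSubι P O) c := by
    refine IsPullback.of_bot ?_ (sq.lift_fst _ _ wj).symm sq
    rw [hjq, Category.assoc, ← hg₀]
    exact isPullback_yon sqQ
  have hjo : RepWith @IsOpenImmersion j :=
    repWith_of_isPullback sqj (repWith_comp (repWith_iso _) hj)
  have hk : k = (yon S).map iA ≫ j := sq.hom_ext
    (by rw [hk₁, Category.assoc, sq.lift_fst, Functor.map_comp, Category.assoc])
    (by rw [hk₂, Category.assoc, sq.lift_snd, Functor.map_comp])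
  have hko : RepWith @IsOpenImmersion k := by
    rw [hk]
    exact repWith_comp ((repWith_yon_map_iff _ iA).2 (inferInstanceAs (IsOpenImmersion A₁.ι))) hjo
  refine ⟨hko, repWith_clopen_of_finite_comp hko
    (repWith_of_isPullback (isPullback_diagonal_of_isPullback sq) hsep) _ hk₂ hfin, fun w hw hcw => ?_⟩
  obtain ⟨i, hi⟩ : ∃ i, p (x (eZ.symm i)) = Points.map c w :=
    ⟨eZ ⟨_, hcw⟩, by rw [Equiv.symm_apply_apply, hx]⟩
  obtain ⟨r, hr₁, hr₂⟩ := exists_of_isPullback sqj
    (x := Points.ofScheme M (x (eZ.symm i))) (y := w) ((Points.ofPt_eq_map_ofScheme _ _).symm.trans hi)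
  obtain ⟨r, rfl⟩ := (Points.schemeEquiv Q).surjective r
  have e1 : pullback.fst g₀.left ψ₀ r = x (eZ.symm i) := (Points.schemeEquiv M).injective
    ((map_yon_ofPt p₁ r).symm.trans hr₁)
  have e2 : pullback.snd g₀.left ψ₀ r = u := by
    refine (Points.schemeEquiv V').injective ((map_yon_ofPt p₂ r).symm.trans ?_)
    rw [← hjq, Points.map_comp]
    exact (congrArg (Points.map q') hr₂).trans hw
  obtain ⟨_, -, -, hu'⟩ := GrothLib.Weight.existsUnique_point_over g₀.left ψ₀ u hψb (x (eZ.symm i))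
    ((hxv _).trans hψu.symm)
  have hrA : r ∈ A₁ := TopologicalSpace.Opens.mem_iSup.2 ⟨i, by
    rw [hu' r e1 e2, ← hu' (vp i) (hvx i) (hvu i)]; exact hvV i⟩
  refine ⟨Points.ofScheme A ⟨r, hrA⟩, ?_⟩
  rw [hk, Points.map_comp]
  exact (congrArg (Points.map j) (map_yon_ofPt iA (⟨r, hrA⟩ : ↥A.left))).trans hr₂

end GrothLib.AlgSp
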