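import Groth.Prelude.Def_AlgSpGpd
import Groth.Agent.Lib.AlgSp.Diag

/-!
# The diagonal of `j : R ⟶ U ×_B U`, the stabilizer and the unit section

`isPullback_diagonal_j_unit`, `repWith_diag_stab_of_j`, `repWith_unit_of_diag_stab`,
`repWith_diag_j_of_unit`.
-/

universe u

open CategoryTheory CategoryTheory.Limits AlgebraicGeometry

namespace GrothLib.AlgSp

open _root_.AlgSp

variable {S : Scheme.{u}}

variable {B : Sp S} (G : GroupoidSp B)

/-- Composition of two composable arrows. -/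
noncomputable def cPair {T : Sp S} (α β : T ⟶ G.R) (h : α ≫ G.s = β ≫ G.t) : T ⟶ G.R :=
  pullback.lift α β h ≫ G.c

theorem cPair_congr {T : Sp S} {α α' β β' : T ⟶ G.R} (ha : α = α') (hb : β = β') (h : α ≫ G.s = β ≫ G.t)
    (h' : α' ≫ G.s = β' ≫ G.t) : cPair G α β h = cPair G α' β' h' := by
  subst ha; subst hb; rfl

theorem comp_cPair {T T' : Sp S} (q : T' ⟶ T) (α β : T ⟶ G.R) (h : α ≫ G.s = β ≫ G.t) :
    q ≫ cPair G α β h = cPair G (q ≫ α) (q ≫ β) (by rw [Category.assoc, Category.assoc, h]) := by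
  rw [cPair, cPair, ← Category.assoc]
  congr 1
  apply pullback.hom_ext
  · rw [Category.assoc, pullback.lift_fst, pullback.lift_fst]
  · rw [Category.assoc, pullback.lift_snd, pullback.lift_snd]

variable (eG : G.U ⟶ G.stabilizer) (heG : eG ≫ G.stabilizerι = G.e)


include heG in
theorem unit_stabilizerToU : eG ≫ G.stabilizerToU = 𝟙 G.U := by
  have h := congrArg (eG ≫ ·) (congrArg (· ≫ pullback.fst G.pU G.pU) (pullback.condition (f := G.j) (g := G.diag)))
  change eG ≫ (G.stabilizerι ≫ G.j) ≫ _ = eG ≫ (G.stabilizerToU ≫ G.diag) ≫ _ at h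
  simp only [Category.assoc, GroupoidSp.j_fst, GroupoidSp.diag, pullback.lift_fst, Category.comp_id] at h
  rw [← h, reassoc_of% heG, G.e_t]

/-- The loop `r₁⁻¹ ∘ r₂` of two arrows with the same endpoints. -/
noncomputable def loop {T : Sp S} (r₁ r₂ : T ⟶ G.R) (ht : r₁ ≫ G.t = r₂ ≫ G.t) (hs : r₁ ≫ G.s = r₂ ≫ G.s) :
    T ⟶ G.stabilizer :=
  pullback.lift (pullback.lift (r₁ ≫ G.i) r₂ (by rw [Category.assoc, G.i_s, ht]) ≫ G.c) (r₂ ≫ G.s) (by
    apply pullback.hom_ext
    · rw [Category.assoc, GroupoidSp.j_fst, G.comp_t, Category.assoc, G.i_t, hs, GroupoidSp.diag,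
        Category.assoc, pullback.lift_fst, Category.comp_id]
    · rw [Category.assoc, GroupoidSp.j_snd, G.comp_s, GroupoidSp.diag, Category.assoc, pullback.lift_snd,
        Category.comp_id])

theorem loop_ι {T : Sp S} (r₁ r₂ : T ⟶ G.R) (ht : r₁ ≫ G.t = r₂ ≫ G.t) (hs : r₁ ≫ G.s = r₂ ≫ G.s) :
    loop G r₁ r₂ ht hs ≫ G.stabilizerι =
      pullback.lift (r₁ ≫ G.i) r₂ (by rw [Category.assoc, G.i_s, ht]) ≫ G.c :=
  pullback.lift_fst _ _ _

theorem loop_toU {T : Sp S} (r₁ r₂ : T ⟶ G.R) (ht : r₁ ≫ G.t = r₂ ≫ G.t) (hs : r₁ ≫ G.s = r₂ ≫ G.s) :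
    loop G r₁ r₂ ht hs ≫ G.stabilizerToU = r₂ ≫ G.s :=
  pullback.lift_snd _ _ _

theorem fst_t_eq_snd_t : pullback.fst G.j G.j ≫ G.t = pullback.snd G.j G.j ≫ G.t := by
  rw [← GroupoidSp.j_fst, pullback.condition_assoc]

theorem fst_s_eq_snd_s : pullback.fst G.j G.j ≫ G.s = pullback.snd G.j G.j ≫ G.s := by
  rw [← GroupoidSp.j_snd, pullback.condition_assoc]

include heG in
/-- The diagonal of `j` is a base change of the unit section. -/
theorem isPullback_diagonal_j_unit :
    IsPullback G.s (pullback.diagonal G.j) eG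
      (loop G (pullback.fst G.j G.j) (pullback.snd G.j G.j) (fst_t_eq_snd_t G) (fst_s_eq_snd_s G)) := by
  have he := unit_stabilizerToU G eG heG
  have hmon : ∀ {T : Sp S} (x y : T ⟶ G.stabilizer), x ≫ G.stabilizerι = y ≫ G.stabilizerι →
      x ≫ G.stabilizerToU = y ≫ G.stabilizerToU → x = y := fun x y h₁ h₂ => pullback.hom_ext h₁ h₂
  have hp := fst_t_eq_snd_t G
  have hq := fst_s_eq_snd_s G
  refine isPullback_of_yon (hmon _ _ ?_ ?_) fun T u q huq => ?_
  · rw [Category.assoc, heG, Category.assoc, loop_ι]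
    change G.s ≫ G.e = pullback.diagonal G.j ≫ cPair G _ _ _
    rw [comp_cPair, cPair_congr G (show _ = 𝟙 G.R ≫ G.i by rw [pullback.diagonal_fst_assoc, Category.id_comp])
      (pullback.diagonal_snd G.j) _ (by rw [Category.assoc, G.i_s])]
    exact ((G.i_comp (𝟙 G.R)).trans (Category.id_comp _)).symm
  · rw [Category.assoc, he, Category.comp_id, Category.assoc, loop_toU, pullback.diagonal_snd_assoc]
  · have hu : u = (q ≫ pullback.snd G.j G.j) ≫ G.s := by
      have := congrArg (· ≫ G.stabilizerToU) huq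
      simp only [Category.assoc, he, Category.comp_id, loop_toU] at this
      rw [Category.assoc]; exact this
    obtain ⟨a₁, ha₁⟩ : ∃ a, a = q ≫ pullback.fst G.j G.j := ⟨_, rfl⟩
    obtain ⟨a₂, ha₂⟩ : ∃ a, a = q ≫ pullback.snd G.j G.j := ⟨_, rfl⟩
    rw [← ha₂] at hu
    have ht : a₁ ≫ G.t = a₂ ≫ G.t := by rw [ha₁, ha₂, Category.assoc, Category.assoc, hp]
    have hs' : a₁ ≫ G.s = a₂ ≫ G.s := by rw [ha₁, ha₂, Category.assoc, Category.assoc, hq]
    have hloop : cPair G (a₁ ≫ G.i) a₂ (by rw [Category.assoc, G.i_s, ht]) = u ≫ G.e := by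
      have := congrArg (· ≫ G.stabilizerι) huq
      simp only [Category.assoc, heG, loop_ι] at this
      change u ≫ G.e = q ≫ cPair G _ _ _ at this
      rw [this, comp_cPair]
      exact cPair_congr G (by rw [ha₁, Category.assoc]) ha₂ _ _
    have h12 : a₁ = a₂ := by
      have hA := G.assoc a₁ (a₁ ≫ G.i) a₂ (by rw [Category.assoc, G.i_t]) (by rw [Category.assoc, G.i_s, ht])
      change cPair G (cPair G a₁ (a₁ ≫ G.i) _) a₂ _ = cPair G a₁ (cPair G (a₁ ≫ G.i) a₂ _) _ at hA
      have e1 : cPair G a₁ (a₁ ≫ G.i) (by rw [Category.assoc, G.i_t]) = a₂ ≫ G.t ≫ G.e :=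
        (G.comp_i a₁).trans (by rw [← Category.assoc, ht, Category.assoc])
      have e2 : cPair G (a₁ ≫ G.i) a₂ (by rw [Category.assoc, G.i_s, ht]) = a₁ ≫ G.s ≫ G.e := by
        rw [hloop, hu, ← hs', Category.assoc]
      rw [cPair_congr G e1 rfl _ (by rw [Category.assoc, Category.assoc, G.e_s, Category.comp_id]),
        cPair_congr G rfl e2 _ (by rw [Category.assoc, Category.assoc, G.e_t, Category.comp_id])] at hA
      exact ((G.e_comp a₂).symm.trans (hA.trans (G.comp_e a₁))).symm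
    refine ⟨a₁, ⟨by rw [hs', hu], ?_⟩, fun z hz => ?_⟩
    · apply pullback.hom_ext
      · rw [Category.assoc, pullback.diagonal_fst, Category.comp_id, ha₁]
      · rw [Category.assoc, pullback.diagonal_snd, Category.comp_id, h12, ha₂]
    · rw [ha₁, ← hz.2, Category.assoc, pullback.diagonal_fst, Category.comp_id]

variable {P : MorphismProperty Scheme.{u}}

theorem repWith_diag_stab_of_j (h : RepWith P (pullback.diagonal G.j)) :
    RepWith P (pullback.diagonal G.stabilizerToU) :=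
  repWith_of_isPullback (isPullback_diagonal_of_isPullback (IsPullback.of_hasPullback G.j G.diag)) h

include heG in
theorem repWith_unit_of_diag_stab (h : RepWith P (pullback.diagonal G.stabilizerToU)) : RepWith P eG :=
  repWith_of_isPullback (isPullback_section G.stabilizerToU eG (unit_stabilizerToU G eG heG)) h

include heG in
theorem repWith_diag_j_of_unit (h : RepWith P eG) : RepWith P (pullback.diagonal G.j) :=
  repWith_of_isPullback (isPullback_diagonal_j_unit G eG heG) h

end GrothLib.AlgSp
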