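import Groth.Agent.Lib.Hensel.Properties
import Groth.Agent.Lib.Hensel.Henselization
import Groth.Agent.Lib.Hensel.TensorIntegral
import Groth.Agent.Lib.GorFlat.Rings
import Groth.Agent.Lib.AlgSp.EtLocalRing
import Groth.Agent.Lib.Hensel.Noetherian
import Groth.Agent.Lib.EtSec.LocConn
import Groth.Agent.Lib.GorMor23.Mor
import Groth.Agent.Lib.FibreFlat.Stalk
import Groth.Agent.S0754
import Groth.Agent.Lib.WeakEtale.Basic

/-!
# Quotients of strict henselizations; Gorenstein closed fibres of maps of strict henselizations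
-/

set_option autoImplicit false
set_option linter.style.haveILetI false

universe u

open CategoryTheory AlgebraicGeometry IsLocalRing

namespace GrothLib.AlgSp

variable {B R : Type u} [CommRing B] [IsLocalRing B] [CommRing R] [IsLocalRing R] [Algebra B R]
  [IsLocalHom (algebraMap B R)] [_root_.Hensel.IsStrictHenselization B R]

theorem isSepClosure_of_equiv {K L K' L' : Type u} [Field K] [Field L] [Field K'] [Field L'] [Algebra K L]
    [Algebra K' L'] (eK : K ≃+* K') (eL : L ≃+* L') (he : ∀ x, eL (algebraMap K L x) = algebraMap K' L' (eK x))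
    (h : IsSepClosure K L) : IsSepClosure K' L' := by
  haveI := h.separable
  haveI := h.sep_closed
  exact ⟨isSepClosed_ringEquiv eL.symm, Algebra.IsSeparable.of_equiv_equiv eK eL (RingHom.ext fun x => (he x).symm)⟩

theorem map_le_maximalIdeal_strictHens {J : Ideal B} (hJ : J ≤ maximalIdeal B) :
    J.map (algebraMap B R) ≤ maximalIdeal R :=
  (Ideal.map_mono hJ).trans (GrothLib.Hensel.IsStrictHenselization.map_maximalIdeal (R := B) (S := R)).le

theorem isLocalHom_quotient_map {J : Ideal B} (hJ : J ≤ maximalIdeal B) [IsLocalRing (R ⧸ J.map (algebraMap B R))] :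
    IsLocalHom (algebraMap (B ⧸ J) (R ⧸ J.map (algebraMap B R))) := ⟨fun b hb => by
  obtain ⟨b, rfl⟩ := Ideal.Quotient.mk_surjective b
  haveI : IsLocalHom (Ideal.Quotient.mk (J.map (algebraMap B R))) :=
    IsLocalHom.of_surjective _ Ideal.Quotient.mk_surjective
  exact (isUnit_of_map_unit (algebraMap B R) b
    (isUnit_of_map_unit (Ideal.Quotient.mk (J.map (algebraMap B R))) (algebraMap B R b) hb)).map _⟩

/-- A quotient of a strict henselization is a strict henselization of the quotient. -/
theorem isStrictHenselization_quotient (J : Ideal B) [IsLocalRing (B ⧸ J)]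
    [IsLocalRing (R ⧸ J.map (algebraMap B R))] [IsLocalHom (algebraMap (B ⧸ J) (R ⧸ J.map (algebraMap B R)))] :
    _root_.Hensel.IsStrictHenselization (B ⧸ J) (R ⧸ J.map (algebraMap B R)) := by
  haveI := (inferInstance : _root_.Hensel.IsStrictHenselization B R).henselian
  haveI : IsLocalHom (Ideal.Quotient.mk J) := IsLocalHom.of_surjective _ Ideal.Quotient.mk_surjective
  haveI : IsLocalHom (Ideal.Quotient.mk (J.map (algebraMap B R))) :=
    IsLocalHom.of_surjective _ Ideal.Quotient.mk_surjective
  have hbij : ∀ {A : Type u} [CommRing A] [IsLocalRing A] (I : Ideal A) [IsLocalRing (A ⧸ I)]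
      [IsLocalHom (Ideal.Quotient.mk I)], Function.Bijective (ResidueField.map (Ideal.Quotient.mk I)) := by
    intro A _ _ I _ _
    refine ⟨(ResidueField.map _).injective, fun x => ?_⟩
    obtain ⟨x, rfl⟩ := IsLocalRing.residue_surjective x
    obtain ⟨a, rfl⟩ := Ideal.Quotient.mk_surjective x
    exact ⟨residue A a, ResidueField.map_residue _ a⟩
  let eB := RingEquiv.ofBijective _ (hbij J)
  let eR := RingEquiv.ofBijective _ (hbij (J.map (algebraMap B R)))
  have hcomm : ∀ x, eR (ResidueField.map (algebraMap B R) x) =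
      ResidueField.map (algebraMap (B ⧸ J) (R ⧸ J.map (algebraMap B R))) (eB x) := by
    intro x
    obtain ⟨b, rfl⟩ := IsLocalRing.residue_surjective x
    rfl
  refine ⟨?_, ?_, ?_⟩
  · exact GrothLib.Hensel.henselianLocalRing_of_isIntegral_isLocalHom (R := R)
  · exact isSepClosure_of_equiv eB eR hcomm
      (inferInstance : _root_.Hensel.IsStrictHenselization B R).isSepClosure
  · intro T _ _ f _ τ hτ
    haveI : IsLocalHom (f.comp (Ideal.Quotient.mk J)) := RingHom.isLocalHom_comp _ _
    have hτ' : (τ.comp eR.toRingHom).comp (ResidueField.map (algebraMap B R)) =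
        ResidueField.map (f.comp (Ideal.Quotient.mk J)) := by
      refine RingHom.ext fun x => ?_
      obtain ⟨b, rfl⟩ := IsLocalRing.residue_surjective x
      exact (congrArg τ (hcomm _)).trans (RingHom.congr_fun hτ _)
    obtain ⟨g, ⟨hg₁, hg₂⟩, huniq⟩ :=
      (inferInstance : _root_.Hensel.IsStrictHenselization B R).universal T (f.comp (Ideal.Quotient.mk J))
        (τ.comp eR.toRingHom) hτ'
    have hker : ∀ x ∈ J.map (algebraMap B R), g x = 0 := by
      suffices J.map (algebraMap B R) ≤ RingHom.ker g from fun x hx => this hx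
      refine Ideal.map_le_iff_le_comap.2 fun b hb => ?_
      show g (algebraMap B R b) = 0
      rw [← RingHom.comp_apply, hg₁, RingHom.comp_apply, Ideal.Quotient.eq_zero_iff_mem.2 hb, map_zero]
    refine ⟨Ideal.Quotient.lift _ g hker, ⟨Ideal.Quotient.ringHom_ext ?_, fun x => ?_⟩, ?_⟩
    · exact hg₁
    · obtain ⟨x, rfl⟩ := Ideal.Quotient.mk_surjective x
      exact hg₂ x
    · intro g' hg'
      refine Ideal.Quotient.ringHom_ext ?_
      rw [huniq (g'.comp (Ideal.Quotient.mk _)) ⟨?_, fun x => hg'.2 _⟩]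
      · rfl
      · exact (RingHom.comp_assoc _ _ _).trans (congrArg (fun k => RingHom.comp k (Ideal.Quotient.mk J)) hg'.1)

/-- Gorensteinness of a noetherian quotient is read on the strict henselization. -/
theorem gorenstein_quot_iff_strictHens {J : Ideal B} (hJ : J ≤ maximalIdeal B) [IsNoetherianRing (B ⧸ J)] :
    LocCoh.IsGorensteinLocalRing (B ⧸ J) ↔ LocCoh.IsGorensteinLocalRing (R ⧸ J.map (algebraMap B R)) := by
  haveI := (Ideal.Quotient.nontrivial_iff (I := J)).2 (ne_top_of_le_ne_top (maximalIdeal.isMaximal B).ne_top hJ)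
  haveI := (Ideal.Quotient.nontrivial_iff (I := J.map (algebraMap B R))).2
    (ne_top_of_le_ne_top (maximalIdeal.isMaximal R).ne_top (map_le_maximalIdeal_strictHens hJ))
  haveI : IsLocalRing (B ⧸ J) := IsLocalRing.of_surjective' (Ideal.Quotient.mk _) Ideal.Quotient.mk_surjective
  haveI : IsLocalRing (R ⧸ J.map (algebraMap B R)) :=
    IsLocalRing.of_surjective' (Ideal.Quotient.mk _) Ideal.Quotient.mk_surjective
  haveI := isLocalHom_quotient_map (R := R) hJ
  haveI := isStrictHenselization_quotient (R := R) J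
  haveI : IsNoetherianRing (R ⧸ J.map (algebraMap B R)) :=
    GrothLib.Hensel.IsStrictHenselization.isNoetherianRing_iff.1 ‹IsNoetherianRing (B ⧸ J)›
  haveI := GrothLib.Hensel.IsStrictHenselization.flat (R := B ⧸ J) (S := R ⧸ J.map (algebraMap B R))
  rw [GorFlat.gorenstein_flat_local_iff (B ⧸ J) (R ⧸ J.map (algebraMap B R))]
  refine (and_iff_left ?_).symm
  letI := Ideal.Quotient.field (maximalIdeal (R ⧸ J.map (algebraMap B R)))
  exact (GorFlat.gorenstein_congr (Ideal.quotEquivOfEq (GrothLib.Hensel.IsStrictHenselization.map_maximalIdeal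
    (R := B ⧸ J) (S := R ⧸ J.map (algebraMap B R))).symm)).1 (GorFlat.gorenstein_of_isRegularLocalRing _)

theorem flat_of_comp_strictHens {X : Scheme.{u}} (x : X) (A : Type u) [CommRing A] [IsLocalRing A]
    [Algebra (X.presheaf.stalk x) A] [IsLocalHom (algebraMap (X.presheaf.stalk x) A)]
    [_root_.Hensel.IsStrictHenselization (X.presheaf.stalk x) A] {C : Type u} [CommRing C] (φ : A →+* C)
    (h : (φ.comp (algebraMap (X.presheaf.stalk x) A)).Flat) : φ.Flat := by
  have h₀ : WeaklyEtale (Spec.map (CommRingCat.ofHom (algebraMap (X.presheaf.stalk x) A)) ≫ X.fromSpecStalk x) :=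
    Groth.Agent.S0754.result X x A
  haveI : WeaklyEtale (Spec.map (CommRingCat.ofHom (algebraMap (X.presheaf.stalk x) A))) :=
    WeaklyEtale.of_comp _ (X.fromSpecStalk x)
  haveI : Flat (Spec.map (CommRingCat.ofHom φ) ≫ Spec.map (CommRingCat.ofHom (algebraMap (X.presheaf.stalk x) A))) := by
    rw [← Spec.map_comp, ← CommRingCat.ofHom_comp]
    exact Flat.SpecMap_iff.2 h
  exact Flat.SpecMap_iff.1 (GrothLib.EtSec.flat_of_comp_weaklyEtale (Spec.map (CommRingCat.ofHom φ))
    (Spec.map (CommRingCat.ofHom (algebraMap (X.presheaf.stalk x) A))))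

end GrothLib.AlgSp
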