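import Groth.Agent.Lib.AlgSp.UnivCfg
import Groth.Agent.Lib.AlgSp.KernelGrpd
import Groth.Agent.Lib.AlgSp.SchematicDense
import Groth.Agent.Lib.AlgSp.SourceDescent

/-!
# The chart of unordered configurations

* `exists_symChart`: for an affine etale chart `a` and `k : ℕ` there is a scheme `M`, separated over `S` and etale over
  `X`, through which every morphism to the locus of degree exactly `k + 1` factors uniquely.
-/

universe u

open CategoryTheory CategoryTheory.Limits AlgebraicGeometry

namespace GrothLib.AlgSp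

open _root_.AlgSp

variable {S : Scheme.{u}} {X : Sp S} {U : Over S} {a : (yon S).obj U ⟶ X} {k : ℕ} (c : SectionCfg a k)

/-- Two families of configurations having the same underlying sets at every point. -/
def SameSet {T : Over S} (x y : T ⟶ c.W) : Prop :=
  (yon S).map x ≫ c.g = (yon S).map y ≫ c.g ∧
    ∀ t i, ∃ j, resι T t ≫ x ≫ c.e i = resι T t ≫ y ≫ c.e j

theorem equivalence_sameSet (T : Over S) : Equivalence (SameSet c (T := T)) where
  refl x := ⟨rfl, fun _ i => ⟨i, rfl⟩⟩
  symm := fun {x y} h => ⟨h.1.symm, fun t j => by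
    choose f hf using h.2 t
    have hinj : Function.Injective f := fun i i' e => by
      by_contra hne
      exact c.disj i i' hne _ inferInstance _ (resι T t ≫ x) ((Category.assoc _ _ _).trans
        ((hf i).trans ((congrArg (fun j => resι T t ≫ y ≫ c.e j) e).trans
          ((hf i').symm.trans (Category.assoc _ _ _).symm))))
    obtain ⟨i, rfl⟩ := (Finite.injective_iff_surjective.1 hinj) j
    exact ⟨i, (hf i).symm⟩⟩
  trans := fun {x y z} h h' => ⟨h.1.trans h'.1, fun t i => by
    obtain ⟨j, hj⟩ := h.2 t i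
    obtain ⟨l, hl⟩ := h'.2 t j
    exact ⟨l, hj.trans hl⟩⟩

theorem exists_relation (hX : IsAlgSpace X) (ha : RepWith @Etale a) (hc : IsUnivCfg c) [IsSeparated c.W.hom] :
    ∃ (R : Over S) (s t : R ⟶ c.W), IsEqvRel s t ∧ IsFinite s.left ∧ Etale s.left ∧ Etale t.left ∧
      ∀ (T : Over S) (x y : T ⟶ c.W), (∃ r, r ≫ t = x ∧ r ≫ s = y) ↔ SameSet c x y := by
  obtain ⟨Q, q₁, q₂, sq⟩ := exists_isPullback_yon hX.diag c.g c.g
  have hE : ∀ i j, ∃ O : Q.left.Opens, ∀ (T : Over S) (h : T ⟶ Q),
      Set.range h.left ⊆ O ↔ h ≫ q₁ ≫ c.e i = h ≫ q₂ ≫ c.e j := fun i j =>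
    exists_eqOpen hX ha _ _ (by
      rw [Functor.map_comp, Functor.map_comp, Category.assoc, Category.assoc, c.comm, c.comm, sq.w])
  choose E hE using hE
  let K : Q.left.Opens := ⟨⋂ i, ⋃ j, (E i j : Set ↥Q.left),
    isOpen_iInter_of_finite fun i => isOpen_iUnion fun j => (E i j).isOpen⟩
  let R : Over S := Over.mk (K.ι ≫ Q.hom)
  let ι : R ⟶ Q := Over.homMk K.ι rfl
  haveI : IsOpenImmersion ι.left := inferInstanceAs (IsOpenImmersion K.ι)
  haveI : Mono ι := (Over.forget S).mono_of_mono_map (inferInstanceAs (Mono K.ι))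
  haveI : Etale q₁.left := c.etale.2 _ _ _ sq.flip
  haveI : Etale q₂.left := c.etale.2 _ _ _ sq
  have hmem : ∀ (T : Over S) (l : T ⟶ Q), Set.range l.left ⊆ K ↔
      ∀ t i, ∃ j, resι T t ≫ (l ≫ q₁) ≫ c.e i = resι T t ≫ (l ≫ q₂) ≫ c.e j := by
    intro T l
    have key : ∀ t i j, l.left t ∈ E i j ↔
        resι T t ≫ (l ≫ q₁) ≫ c.e i = resι T t ≫ (l ≫ q₂) ≫ c.e j := fun t i j => by
      rw [← SetLike.mem_coe, ← Set.singleton_subset_iff, ← range_resι_comp, hE]
      simp only [Category.assoc]
    constructor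
    · intro h t i
      obtain ⟨j, hj⟩ := Set.mem_iUnion.1 (Set.mem_iInter.1 (h ⟨t, rfl⟩) i)
      exact ⟨j, (key t i j).1 hj⟩
    · rintro h _ ⟨t, rfl⟩
      exact Set.mem_iInter.2 fun i => Set.mem_iUnion.2 ⟨_, (key t i _).2 (h t i).choose_spec⟩
  have hiff : ∀ (T : Over S) (x y : T ⟶ c.W),
      (∃ r, r ≫ ι ≫ q₁ = x ∧ r ≫ ι ≫ q₂ = y) ↔ SameSet c x y := by
    intro T x y
    constructor
    · rintro ⟨r, rfl, rfl⟩
      refine ⟨by simp only [Functor.map_comp, Category.assoc, sq.w], fun t i => ?_⟩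
      obtain ⟨j, hj⟩ := (hmem T (r ≫ ι)).1 (by rintro _ ⟨z, rfl⟩; exact (r.left z).2) t i
      exact ⟨j, by simpa only [Category.assoc] using hj⟩
    · rintro ⟨hg, hpt⟩
      obtain ⟨l, hl₁, hl₂⟩ := exists_lift_yon sq x y hg
      obtain ⟨r, hr⟩ := exists_lift_opens l K ((hmem T l).2 (by rw [hl₁, hl₂]; exact hpt))
      have hr' : r ≫ ι = l := hr
      exact ⟨r, by rw [← Category.assoc, hr', hl₁], by rw [← Category.assoc, hr', hl₂]⟩
  have heq : IsEqvRel (ι ≫ q₂) (ι ≫ q₁) := ⟨fun T r r' h₁ h₂ => by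
    rw [← cancel_mono ι]
    exact (yon S).map_injective (sq.hom_ext
      (by rw [← Functor.map_comp, ← Functor.map_comp, Category.assoc, Category.assoc, h₁])
      (by rw [← Functor.map_comp, ← Functor.map_comp, Category.assoc, Category.assoc, h₂])),
    fun T => by
      have : (fun x y : T ⟶ c.W => ∃ r : T ⟶ R, r ≫ ι ≫ q₁ = x ∧ r ≫ ι ≫ q₂ = y) = SameSet c :=
        funext fun x => funext fun y => propext (hiff T x y)
      rw [this]
      exact equivalence_sameSet c T⟩
  haveI hse : Etale (ι ≫ q₂).left := inferInstanceAs (Etale (ι.left ≫ q₂.left))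
  haveI : IsSeparated q₂.left := by
    let jQ : Q.left ⟶ pullback c.W.hom c.W.hom := pullback.lift q₁.left q₂.left ((Over.w q₁).trans (Over.w q₂).symm)
    haveI : Mono jQ := ⟨fun α β h => scheme_ext_of_pullback sq
      (by rw [← pullback.lift_fst q₁.left q₂.left ((Over.w q₁).trans (Over.w q₂).symm), ← Category.assoc, ← Category.assoc]
          exact congrArg (· ≫ _) h)
      (by rw [← pullback.lift_snd q₁.left q₂.left ((Over.w q₁).trans (Over.w q₂).symm), ← Category.assoc, ← Category.assoc]
          exact congrArg (· ≫ _) h)⟩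
    have e : jQ ≫ pullback.snd c.W.hom c.W.hom = q₂.left := pullback.lift_snd _ _ _
    rw [← e]; infer_instance
  -- sections over all permutations
  have hσ : ∀ π : Equiv.Perm (Fin k), ∃ σ : c.W ⟶ R, σ ≫ ι ≫ q₂ = 𝟙 _ ∧
      (∀ i, σ ≫ ι ≫ q₁ ≫ c.e i = c.e (π i)) ∧
      (yon S).map (σ ≫ ι ≫ q₁) ≫ c.g = c.g := fun π => by
    obtain ⟨m, ⟨hm, hmg⟩, -⟩ := hc c.W c.g (fun i => c.e (π i)) (fun i => c.comm _)
      fun t i j hij => c.disj _ _ (π.injective.ne hij) _ inferInstance _ (resι c.W t)
    obtain ⟨σ, h₁, h₂⟩ := (hiff _ m (𝟙 _)).2 ⟨by rw [CategoryTheory.Functor.map_id, Category.id_comp, hmg],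
      fun t i => ⟨π i, by rw [hm, Category.id_comp]⟩⟩
    exact ⟨σ, h₂, fun i => by rw [← hm i, ← h₁]; simp only [Category.assoc], by rw [h₁, hmg]⟩
  choose σ hσs hσe hσg using hσ
  have hcov : ∀ x : ↥R.left, ∃ π, x ∈ Set.range (σ π).left := by
    intro x
    obtain ⟨hg, hpt⟩ := (hiff _ (resι R x ≫ ι ≫ q₁) (resι R x ≫ ι ≫ q₂)).1 ⟨resι R x, rfl, rfl⟩
    have hid : ∀ z : ↥(resPt R x).left, ∀ {A : Over S} (f f' : resPt R x ⟶ A),
        resι (resPt R x) z ≫ f = resι (resPt R x) z ≫ f' → f = f' := fun z A f f' h => by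
      have : IsClosedImmersion ((resPt R x).left.fromSpecResidueField z) :=
        isClosed_singleton_iff_isClosedImmersion.1 (by
          have : ({z} : Set ↥(resPt R x).left) = Set.univ := Set.eq_univ_of_forall fun y =>
            Set.mem_singleton_iff.2 (Subsingleton.elim (α := PrimeSpectrum (R.left.residueField x)) y z)
          rw [this]
          exact isClosed_univ)
      have : Surjective ((resPt R x).left.fromSpecResidueField z) := ⟨fun y =>
        ⟨IsLocalRing.closedPoint _, Subsingleton.elim (α := PrimeSpectrum (R.left.residueField x)) _ _⟩⟩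
      have : IsReduced (resPt R x).left := inferInstanceAs (IsReduced (Spec (R.left.residueField x)))
      have : IsIso ((resPt R x).left.fromSpecResidueField z) := isIso_of_isClosedImmersion_of_surjective _
      haveI : IsIso ((Over.forget S).map (resι (resPt R x) z)) := this
      haveI : IsIso (resι (resPt R x) z) := isIso_of_reflects_iso _ (Over.forget S)
      exact (cancel_epi _).1 h
    let z : ↥(resPt R x).left := IsLocalRing.closedPoint (R.left.residueField x)
    choose f hf using hpt z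
    have hf' : ∀ i, (resι R x ≫ ι ≫ q₁) ≫ c.e i = (resι R x ≫ ι ≫ q₂) ≫ c.e (f i) := fun i => hid z _ _ (hf i)
    have hinj : Function.Injective f := fun i i' e => by
      by_contra hne
      exact c.disj i i' hne _ inferInstance _ (resι R x ≫ ι ≫ q₁) ((hf' i).trans
        ((congrArg (fun j => (resι R x ≫ ι ≫ q₂) ≫ c.e j) e).trans (hf' i').symm))
    refine ⟨Equiv.ofBijective f ⟨hinj, Finite.injective_iff_surjective.1 hinj⟩,
      ((resι R x ≫ ι ≫ q₂)).left z, ?_⟩
    have e : (resι R x ≫ ι ≫ q₂) ≫ σ (Equiv.ofBijective f ⟨hinj, Finite.injective_iff_surjective.1 hinj⟩) =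
        resι R x := by
      refine heq.injective _ _ _ ?_ (by rw [Category.assoc, hσs, Category.comp_id])
      refine hc.hom_ext (fun i => ?_) ?_
      · rw [hf' i]
        simp only [Category.assoc, hσe, Equiv.ofBijective_apply]
      · rw [hg]
        simp only [Functor.map_comp, Category.assoc]
        have h0 := hσg (Equiv.ofBijective f ⟨hinj, Finite.injective_iff_surjective.1 hinj⟩)
        simp only [Functor.map_comp, Category.assoc] at h0
        rw [h0]
    exact (congrArg (fun h : resPt R x ⟶ R => h.left z) e).trans (resι_apply R x z)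
  haveI : UniversallyClosed (ι ≫ q₂).left := universallyClosed_of_sections (ι ≫ q₂).left (fun π => (σ π).left)
    (fun π => congrArg (fun f : c.W ⟶ c.W => f.left) (hσs π)) hcov
  haveI : IsSeparated (ι ≫ q₂).left := inferInstanceAs (IsSeparated (ι.left ≫ q₂.left))
  haveI : QuasiCompact (ι ≫ q₂).left := inferInstance
  haveI : IsProper (ι ≫ q₂).left := { }
  haveI : LocallyQuasiFinite (ι ≫ q₂).left := locallyQuasiFinite_of_unramified _
  exact ⟨R, ι ≫ q₂, ι ≫ q₁, heq, IsFinite.of_isProper_of_locallyQuasiFinite _, hse,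
    inferInstanceAs (Etale (ι.left ≫ q₁.left)), hiff⟩

/-- The quotient of the ordered configurations by reordering. -/
theorem exists_symQuot (hX : IsAlgSpace X) [IsAffine U.left] (ha : RepWith @Etale a) (k : ℕ) :
    ∃ (c : SectionCfg a (k + 1)) (M : Over S) (π : c.W ⟶ M) (b : (yon S).obj M ⟶ X),
      IsUnivCfg c ∧ IsFinite π.left ∧ Etale π.left ∧ Surjective π.left ∧ (yon S).map π ≫ b = c.g ∧
      RepWith @Etale b ∧ IsSeparated M.hom ∧ M.left.IsSeparated ∧
      (RepWith @QuasiCompact a → CompactSpace ↥M.left) ∧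
      ∀ (T : Over S) (x y : T ⟶ c.W), SameSet c x y → x ≫ π = y ≫ π := by
  obtain ⟨c, hc, hsep, habs, hcpt, haff⟩ := exists_univ_cfg hX ha k
  obtain ⟨R, s, t, heq, hsf, hse, hte, hiff⟩ := exists_relation c hX ha hc
  haveI := hsf
  haveI := hse
  let p := yonQuotπ s t
  haveI : Sheaf.IsLocallySurjective p := isLocallySurjective_yonQuotπ s t
  have sqp := isPullback_yonQuotπ heq
  obtain ⟨M, hM⟩ := (isRepresentable_of_finite_kernelPair sqp haff).has_representation
  let e := isoOfRepresentableBy hM.some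
  obtain ⟨π, hπ⟩ := (yon S).map_surjective (p ≫ e.inv)
  have hπ' : p ≫ e.symm.hom = 𝟙 _ ≫ (yon S).map π := (hπ.trans rfl).symm.trans (Category.id_comp _).symm
  have sqπ : IsPullback ((yon S).map t) ((yon S).map s) ((yon S).map π) ((yon S).map π) :=
    sqp.of_iso (Iso.refl _) (Iso.refl _) (Iso.refl _) e.symm (by simp) (by simp) hπ' hπ'
  haveI : Sheaf.IsLocallySurjective ((yon S).map π) := by
    haveI : Sheaf.IsLocallySurjective e.inv := inferInstance
    rw [hπ]; exact isLocallySurjective_comp _ _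
  obtain ⟨-, hπe', hπs'⟩ := isAlgSpace_of_kernelPair sqπ hse hte
  haveI hπe : Etale π.left := (repWith_yon_map_iff _ _).1 hπe'
  haveI hπs : Surjective π.left := (repWith_yon_map_iff _ _).1 hπs'
  haveI : IsFinite π.left := fppfDescends_isFinite π.left π.left t.left s.left
    ((isPullback_left (isPullback_of_isPullback_yon sqπ))) inferInstance inferInstance inferInstance hsf
  have hgw : (yon S).map t ≫ c.g = (yon S).map s ≫ c.g := ((hiff R t s).1 ⟨𝟙 R, Category.id_comp t, Category.id_comp s⟩).1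
  haveI := IsRegularEpiCategory.regularEpiOfEpi ((yon S).map π)
  obtain ⟨b, hb⟩ := IsRegularEpi.exists_of_isKernelPair ((yon S).map π) sqπ c.g hgw
  have hbe : RepWith @Etale b := by
    refine ⟨representable_of_source_scheme hX b, fun V V' g fst snd sq => ?_⟩
    obtain ⟨Q, f', sq'⟩ : ∃ (Q : Over S) (f' : Q ⟶ V') (q : Q ⟶ c.W), IsPullback q.left f'.left π.left (Functor.preimage (yon S) fst).left := by
      refine ⟨Over.mk (pullback.snd π.left ((yon S).preimage fst).left ≫ V'.hom), Over.homMk (pullback.snd _ _) rfl,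
        Over.homMk (pullback.fst _ _) ?_, IsPullback.of_hasPullback _ _⟩
      change pullback.fst _ _ ≫ c.W.hom = pullback.snd _ _ ≫ V'.hom
      rw [← Over.w π, pullback.condition_assoc, Over.w]
    obtain ⟨q, hq⟩ := sq'
    haveI : Etale f'.left := MorphismProperty.of_isPullback hq hπe
    haveI : Surjective f'.left := MorphismProperty.of_isPullback hq hπs
    refine etaleSourceDescends_etale f'.left snd.left ‹_› ‹_› ?_
    have hfst : (yon S).map ((yon S).preimage fst) = fst := Functor.map_preimage _ _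
    have sq'' : IsPullback ((yon S).map q) ((yon S).map (f' ≫ snd)) c.g g := by
      rw [← hb, Functor.map_comp]
      refine IsPullback.paste_vert ?_ sq
      rw [← hfst]
      exact isPullback_yon (isPullback_of_left hq)
    exact c.etale.2 _ _ _ sq''
  haveI : IsSeparated (π.left ≫ M.hom) := by rw [Over.w π]; exact hsep
  refine ⟨c, M, π, b, hc, ‹IsFinite π.left›, hπe, hπs, hb, hbe,
    GrothLib.GrpdQuot.isSeparated_of_comp_surjective π.left M.hom, ⟨?_⟩, fun hq => ?_, fun T x y h => ?_⟩
  · haveI : IsSeparated (π.left ≫ terminal.from M.left) := by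
      rw [terminal.comp_from]; exact habs.isSeparated_terminal_from
    exact GrothLib.GrpdQuot.isSeparated_of_comp_surjective π.left _
  · haveI := hcpt hq
    exact π.left.surjective.compactSpace π.left.continuous
  · obtain ⟨r, rfl, rfl⟩ := (hiff T x y).2 h
    have e : t ≫ π = s ≫ π := (yon S).map_injective (by rw [Functor.map_comp, Functor.map_comp, sqπ.w])
    rw [Category.assoc, Category.assoc, e]

/-- The scheme of unordered configurations, separated over the base and etale over the space. -/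
theorem exists_symChart (hX : IsAlgSpace X) [IsAffine U.left] (ha : RepWith @Etale a) (k : ℕ) :
    ∃ (M : Over S) (b : (yon S).obj M ⟶ X), RepWith @Etale b ∧ IsSeparated M.hom ∧ M.left.IsSeparated ∧
      (RepWith @QuasiCompact a → CompactSpace ↥M.left) ∧
      Set.range (Points.ofPt b) = degGE a (k + 1) ∧
      ∀ (T : Over S) (γ : (yon S).obj T ⟶ X),
        (∀ t, Points.ofPt γ t ∈ degGE a (k + 1) ∧ Points.ofPt γ t ∉ degGE a (k + 2)) →
          ∃! l : T ⟶ M, (yon S).map l ≫ b = γ := by
  obtain ⟨c, M, π, b, hc, hπf, hπe, hπs, hb, hbe, hsM, haM, hcM, hπeq⟩ := exists_symQuot hX ha k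
  refine ⟨M, b, hbe, hsM, haM, hcM, ?_, fun T γ hγ => ?_⟩
  · ext x
    constructor
    · rintro ⟨m, rfl⟩
      obtain ⟨w, rfl⟩ := π.left.surjective m
      rw [← ofPt_map_comp, hb]
      exact mem_degGE_of_cfg c w
    · rintro ⟨L, _, w, γ, l, rfl, hl, hc'⟩
      obtain ⟨c₀, lam, hlam, hg₀⟩ := exists_cfg hX ha k L inferInstance w γ l hl hc'
      obtain ⟨m, ⟨-, hm⟩, -⟩ := hc c₀.W c₀.g c₀.e c₀.comm
        fun t i j hij => c₀.disj i j hij _ inferInstance _ (resι c₀.W t)
      exact ⟨(lam ≫ m ≫ π).left (IsLocalRing.closedPoint L), by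
        rw [← ofPt_map_comp, Functor.map_comp, Functor.map_comp, Category.assoc, Category.assoc, hb, hm, hg₀]⟩
  -- lifting
  have hsame : ∀ {T' : Over S} (h : T' ⟶ T) (x y : T' ⟶ c.W), (yon S).map x ≫ c.g = (yon S).map h ≫ γ →
      (yon S).map y ≫ c.g = (yon S).map h ≫ γ → x ≫ π = y ≫ π := by
    intro T' h x y hx hy
    refine hπeq T' x y ⟨hx.trans hy.symm, fun z i => by
      by_contra hne
      push Not at hne
      refine (hγ (h.left z)).2 ⟨T'.left.residueField z, inferInstance, _, (yon S).map (resι T' z ≫ y) ≫ c.g,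
        Fin.snoc (fun j => resι T' z ≫ y ≫ c.e j) (resι T' z ≫ x ≫ c.e i), ?_, ?_, fun j => ?_⟩
      · rw [Functor.map_comp, Category.assoc, hy, ofPt_map_comp, ofPt_map_comp, resι_apply]
      · rw [Fin.snoc_injective_iff]
        refine ⟨fun j j' e => ?_, fun ⟨j, e⟩ => hne j e.symm⟩
        by_contra hjj
        exact c.disj j j' hjj _ inferInstance _ (resι T' z ≫ y) ((Category.assoc _ _ _).trans (e.trans (Category.assoc _ _ _).symm))
      · induction j using Fin.lastCases with
        | last => rw [Fin.snoc_last, Functor.map_comp, Functor.map_comp, Category.assoc, Category.assoc, c.comm,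
            Functor.map_comp, Category.assoc, hx, hy]
        | cast j => rw [Fin.snoc_castSucc, Functor.map_comp, Functor.map_comp, Category.assoc, Category.assoc, c.comm,
            Functor.map_comp, Category.assoc]⟩
  obtain ⟨P, p₁, p₂, sqP⟩ := exists_isPullback_yon hX.diag γ c.g
  haveI : Etale p₁.left := c.etale.2 _ _ _ sqP.flip
  haveI : Surjective p₁.left := ⟨fun z => by
    obtain ⟨L, _, w, γ', l, hx, hl, hc'⟩ := (hγ z).1
    obtain ⟨c₀, lam, hlam, hg₀⟩ := exists_cfg hX ha k L inferInstance w γ' l hl hc'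
    obtain ⟨m, ⟨-, hm⟩, -⟩ := hc c₀.W c₀.g c₀.e c₀.comm
      fun t i j hij => c₀.disj i j hij _ inferInstance _ (resι c₀.W t)
    obtain ⟨r, hr, -⟩ := (ofPt_eq_ofPt_iff sqP z ((lam ≫ m).left (IsLocalRing.closedPoint L))).1 (by
      rw [← hx, ← ofPt_map_comp, Functor.map_comp, Category.assoc, hm, hg₀])
    exact ⟨r, hr⟩⟩
  haveI : Sheaf.IsLocallySurjective ((yon S).map p₁) := TrivLocus.isLocallySurjective_of_etale p₁
  haveI := IsRegularEpiCategory.regularEpiOfEpi ((yon S).map p₁)
  have hker := isPullback_yon (IsPullback.of_hasPullback p₁ p₁)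
  obtain ⟨l', hl'⟩ := IsRegularEpi.exists_of_isKernelPair ((yon S).map p₁) hker ((yon S).map (p₂ ≫ π)) (by
    rw [← Functor.map_comp, ← Functor.map_comp, ← Category.assoc, ← Category.assoc]
    refine congrArg _ (hsame (pullback.fst p₁ p₁ ≫ p₁) _ _ ?_ ?_)
    · rw [Functor.map_comp, Category.assoc, ← sqP.w, Functor.map_comp, Category.assoc]
    · rw [Functor.map_comp, Category.assoc, ← sqP.w, pullback.condition, Functor.map_comp, Category.assoc])
  obtain ⟨l, rfl⟩ := (yon S).map_surjective l'
  refine ⟨l, ?_, fun l₂ hl₂ => ?_⟩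
  · show (yon S).map l ≫ b = γ
    rw [← cancel_epi ((yon S).map p₁), ← Category.assoc, hl', Functor.map_comp, Category.assoc, hb, sqP.w]
  · -- uniqueness: both lifts agree after lifting to configurations
    obtain ⟨A, α, β, sqA⟩ : ∃ (A : Over S) (α : A ⟶ P) (β : A ⟶ c.W), IsPullback α β (p₁ ≫ l₂) π :=
      ⟨_, _, _, IsPullback.of_hasPullback (p₁ ≫ l₂) π⟩
    haveI : Etale α.left := MorphismProperty.of_isPullback (isPullback_left sqA.flip) hπe
    haveI : Surjective α.left := MorphismProperty.of_isPullback (isPullback_left sqA.flip) hπs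
    haveI : Sheaf.IsLocallySurjective ((yon S).map α) := TrivLocus.isLocallySurjective_of_etale α
    apply (yon S).map_injective
    rw [← cancel_epi ((yon S).map p₁), ← cancel_epi ((yon S).map α), hl', ← Functor.map_comp, ← Functor.map_comp,
      ← Functor.map_comp]
    refine congrArg _ ?_
    rw [sqA.w, ← Category.assoc]
    refine hsame (α ≫ p₁) _ _ ?_ ?_
    · rw [← hb, ← Category.assoc, ← Functor.map_comp, ← sqA.w, Functor.map_comp, Functor.map_comp, Category.assoc,
        Category.assoc, hl₂, Functor.map_comp, Category.assoc]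
    · rw [Functor.map_comp, Category.assoc, ← sqP.w, Functor.map_comp, Category.assoc]

end GrothLib.AlgSp
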