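import Groth.Agent.Lib.AlgSp.SymChart
import Groth.Agent.Lib.AlgSp.Strata
import Groth.Agent.Lib.AlgSp.SigmaChart
import Groth.Agent.Lib.AlgSp.PointsUniv
import Groth.Agent.Lib.AlgSp.FlatMono

/-!
# Field valued points lift to separated etale charts

* `exists_lift_of_subfamily`: a finite etale family of constant degree inside the fibres of a chart gives a lift to the
  scheme of unordered configurations.
* `exists_sep_chart_lifting_field_points`: one separated etale chart lifts every field valued point.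
-/

universe u

open CategoryTheory CategoryTheory.Limits AlgebraicGeometry

namespace GrothLib.AlgSp

open _root_.AlgSp

variable {S : Scheme.{u}} {X : Sp S}

/-- A family of constant degree in the fibres of a chart over `T` gives a lift of `T`. -/
theorem exists_lift_of_subfamily {U : Over S} {a : (yon S).obj U ⟶ X} {n : ℕ} {c : SectionCfg a (n + 1)}
    (hc : IsUnivCfg c) {M : Over S} {π : c.W ⟶ M} {b : (yon S).obj M ⟶ X} (hb : (yon S).map π ≫ b = c.g)
    (hπeq : ∀ (T : Over S) (x y : T ⟶ c.W), SameSet c x y → x ≫ π = y ≫ π)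
    {T V : Over S} [IsAffine V.left] (vT : V ⟶ T) [Etale vT.left] (vU : V ⟶ U) (γ : (yon S).obj T ⟶ X)
    (hγ : (yon S).map vU ≫ a = (yon S).map vT ≫ γ)
    (hmono : ∀ {Z : Over S} (p q : Z ⟶ V), p ≫ vT = q ≫ vT → p ≫ vU = q ≫ vU → p = q)
    (hdeg : ∀ t, Points.ofPt (𝟙 ((yon S).obj T)) t ∈ degGE ((yon S).map vT) (n + 1) ∧
      Points.ofPt (𝟙 ((yon S).obj T)) t ∉ degGE ((yon S).map vT) (n + 2)) :
    ∃ l : T ⟶ M, (yon S).map l ≫ b = γ := by
  have hT : IsAlgSpace ((yon S).obj T) := IsAlgSpace.yon_obj T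
  have hv : RepWith @Etale ((yon S).map vT) := (repWith_yon_map_iff _ _).2 ‹Etale vT.left›
  obtain ⟨c', hc', -, -, -, -⟩ := exists_univ_cfg hT hv n
  obtain ⟨p, hp⟩ := (yon S).map_surjective c'.g
  haveI : Etale p.left := (repWith_yon_map_iff _ _).1 (hp ▸ c'.etale)
  have hpe : ∀ i, c'.e i ≫ vT = p := fun i => (yon S).map_injective (by rw [Functor.map_comp, hp]; exact c'.comm i)
  haveI : Surjective p.left := ⟨fun t => by
    obtain ⟨L, _, w, δ, ls, hx, hls, hlc⟩ := (hdeg t).1
    obtain ⟨c₀, lam, -, hg₀⟩ := exists_cfg hT hv n L inferInstance w δ ls hls hlc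
    obtain ⟨m, ⟨-, hm⟩, -⟩ := hc' c₀.W c₀.g c₀.e c₀.comm
      fun t' i j hij => c₀.disj i j hij _ inferInstance _ (resι c₀.W t')
    refine ⟨(lam ≫ m).left (IsLocalRing.closedPoint L), ?_⟩
    have h1 : Points.ofPt c'.g ((lam ≫ m).left (IsLocalRing.closedPoint L)) = Points.ofPt (𝟙 _) t := by
      rw [← ofPt_map_comp, Functor.map_comp, Category.assoc, hm, hg₀, hx]
    rw [← hp, ← Category.comp_id ((yon S).map p), ofPt_map_comp, Points.ofPt_eq_map_ofScheme,
      Points.ofPt_eq_map_ofScheme, Points.map_id, Points.map_id] at h1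
    exact (Points.schemeEquiv T).injective h1⟩
  obtain ⟨m, ⟨hm, hmg⟩, -⟩ := hc c'.W ((yon S).map p ≫ γ) (fun i => c'.e i ≫ vU)
    (fun i => by rw [Functor.map_comp, Category.assoc, hγ, ← Category.assoc, ← Functor.map_comp, hpe])
    (fun t i j hij h => c'.disj i j hij _ inferInstance _ (resι c'.W t)
      (hmono _ _ (by rw [Category.assoc, Category.assoc, hpe, hpe]) (by
        rw [Category.assoc, Category.assoc]; exact h)))
  haveI : Sheaf.IsLocallySurjective ((yon S).map p) := TrivLocus.isLocallySurjective_of_etale p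
  haveI := IsRegularEpiCategory.regularEpiOfEpi ((yon S).map p)
  have hker := isPullback_yon (IsPullback.of_hasPullback p p)
  obtain ⟨l', hl'⟩ := IsRegularEpi.exists_of_isKernelPair ((yon S).map p) hker ((yon S).map (m ≫ π)) (by
    rw [← Functor.map_comp, ← Functor.map_comp, ← Category.assoc, ← Category.assoc]
    refine congrArg _ (hπeq _ _ _ ⟨?_, fun z i => ?_⟩)
    · rw [Functor.map_comp, Functor.map_comp, Category.assoc, Category.assoc, hmg, ← Category.assoc,
        ← Category.assoc, ← Functor.map_comp, ← Functor.map_comp, pullback.condition]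
    · by_contra hne
      push Not at hne
      let Z := pullback p p
      refine (hdeg ((pullback.fst p p ≫ p).left z)).2 ⟨Z.left.residueField z, inferInstance, _,
        (yon S).map (resι Z z ≫ pullback.fst p p ≫ p) ≫ 𝟙 _,
        Fin.snoc (fun j => resι Z z ≫ pullback.snd p p ≫ c'.e j) (resι Z z ≫ pullback.fst p p ≫ c'.e i), ?_, ?_,
        fun j => ?_⟩
      · rw [ofPt_map_comp, Over.comp_left, Scheme.Hom.comp_apply, resι_apply]
      · rw [Fin.snoc_injective_iff]
        refine ⟨fun j j' e => ?_, fun ⟨j, e⟩ => hne j ?_⟩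
        · by_contra hjj
          exact c'.disj j j' hjj _ inferInstance _ (resι Z z ≫ pullback.snd p p)
            ((Category.assoc _ _ _).trans (e.trans (Category.assoc _ _ _).symm))
        · simp only [Category.assoc, hm]
          have := congrArg (fun q : resPt Z z ⟶ V => q ≫ vU) e
          simp only [Category.assoc] at this
          exact this.symm
      · induction j using Fin.lastCases with
        | last => rw [Fin.snoc_last, ← Functor.map_comp, Category.comp_id, Category.assoc, Category.assoc, hpe]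
        | cast j => rw [Fin.snoc_castSucc, ← Functor.map_comp, Category.comp_id, Category.assoc, Category.assoc,
            hpe, pullback.condition])
  obtain ⟨l, rfl⟩ := (yon S).map_surjective l'
  refine ⟨l, ?_⟩
  rw [← cancel_epi ((yon S).map p), ← Category.assoc, hl', Functor.map_comp, Category.assoc, hb, hmg]

/-- One separated etale chart lifts every field valued point. -/
theorem exists_sep_chart_lifting_field_points (hX : IsAlgSpace X) :
    ∃ (M : Over S) (b : (yon S).obj M ⟶ X), IsSeparated M.hom ∧ RepWith @Etale b ∧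
      ∀ (q : FieldPt X), ∃ l : q.pt ⟶ M, (yon S).map l ≫ b = q.toHom := by
  classical
  obtain ⟨ι, W, r, hW, hr, hrs, -⟩ := exists_affine_charts hX
  choose c M π b hc _hπf _hπe _hπs hb hbe hsep _habs _hcpt hπeq using fun j : ι × ℕ =>
    haveI := hW j.1
    exists_symQuot hX (hr j.1) j.2
  let I := Shrink.{u} (ι × ℕ)
  let V : I → Over S := fun i => M ((equivShrink _).symm i)
  obtain ⟨P, hP, -⟩ := exists_hom_of_sigma V (fun i => b ((equivShrink _).symm i))
  refine ⟨sigmaOver V, P, isSeparated_sigmaOver V fun i => hsep _,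
    repWith_sigma hX.diag V _ P hP @Etale fun i => hbe _, fun q => ?_⟩
  obtain ⟨i, w, hw⟩ := hrs (Points.mk q)
  haveI := hW i
  obtain ⟨Q, c₀, d₀, sq⟩ := exists_isPullback_yon hX.diag q.toHom (r i)
  haveI : Etale c₀.left := (hr i).2 _ _ _ sq.flip
  obtain ⟨z, -, -⟩ := (ofPt_eq_ofPt_iff sq (IsLocalRing.closedPoint q.K) w).1
    ((Points.ofPt_toHom q _).trans hw.symm)
  obtain ⟨A, hA, hzA, -⟩ := exists_isAffineOpen_mem_and_subset (U := (⊤ : Q.left.Opens)) (x := z) trivial
  let Vq : Over S := Over.mk (A.ι ≫ Q.hom)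
  let j : Vq ⟶ Q := Over.homMk A.ι rfl
  haveI : IsAffine Vq.left := hA
  haveI : IsOpenImmersion j.left := inferInstanceAs (IsOpenImmersion A.ι)
  haveI : Mono j := (Over.forget S).mono_of_mono_map (inferInstanceAs (Mono A.ι))
  haveI : Etale (j ≫ c₀).left := inferInstanceAs (Etale (j.left ≫ c₀.left))
  have hT : IsAlgSpace ((yon S).obj q.pt) := IsAlgSpace.yon_obj _
  have hv : RepWith @Etale ((yon S).map (j ≫ c₀)) := (repWith_yon_map_iff _ _).2 ‹Etale (j ≫ c₀).left›
  let p₀ : FieldPt ((yon S).obj q.pt) := ⟨q.K, q.str, (J S).uliftYonedaEquiv.{u + 1} (𝟙 _)⟩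
  have hp₀ : p₀.toHom = 𝟙 ((yon S).obj q.pt) := Equiv.symm_apply_apply _ _
  obtain ⟨N, hN⟩ := exists_not_mem_degGE hT hv p₀ (hp₀ ▸ repWith_iso (𝟙 _))
  have hpt : ∀ t, Points.ofPt (𝟙 ((yon S).obj q.pt)) t = Points.mk p₀ := fun t => by
    rw [← Points.ofPt_toHom p₀ t, hp₀]
  have hex : ∃ k, Points.mk p₀ ∉ degGE ((yon S).map (j ≫ c₀)) (k + 1) :=
    ⟨N, fun h => hN (degGE_succ_subset _ h)⟩
  rcases hn : Nat.find hex with _ | n
  · have h := Nat.find_spec hex
    rw [hn, degGE_one] at h
    refine absurd ⟨⟨z, hzA⟩, ?_⟩ h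
    rw [← hpt ((j ≫ c₀).left ⟨z, hzA⟩), ← ofPt_map_comp, Category.comp_id]
  have hout : Points.mk p₀ ∉ degGE ((yon S).map (j ≫ c₀)) (n + 2) := by
    have := Nat.find_spec hex; rwa [hn] at this
  have hin : Points.mk p₀ ∈ degGE ((yon S).map (j ≫ c₀)) (n + 1) :=
    not_not.1 (Nat.find_min hex (m := n) (by omega))
  obtain ⟨l, hl⟩ := exists_lift_of_subfamily (hc (i, n)) (hb (i, n)) (hπeq (i, n)) (j ≫ c₀) (j ≫ d₀) q.toHom
    (by rw [Functor.map_comp, Functor.map_comp, Category.assoc, Category.assoc, sq.w])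
    (fun x y h₁ h₂ => (cancel_mono j).1 ((yon S).map_injective (sq.hom_ext
      (by rw [← Functor.map_comp, ← Functor.map_comp, Category.assoc, Category.assoc, h₁])
      (by rw [← Functor.map_comp, ← Functor.map_comp, Category.assoc, Category.assoc, h₂]))))
    fun t => by rw [hpt]; exact ⟨hin, hout⟩
  have key : ∀ k, ∀ l : q.pt ⟶ M k, (yon S).map l ≫ b k = q.toHom →
      ∃ l' : q.pt ⟶ sigmaOver V, (yon S).map l' ≫ P = q.toHom := fun k => by
    obtain ⟨s, rfl⟩ := (equivShrink (ι × ℕ)).symm.surjective k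
    intro l hl
    exact ⟨l ≫ sigmaι V s, by rw [Functor.map_comp, Category.assoc, hP, hl]⟩
  exact key _ l hl

end GrothLib.AlgSp
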