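import Groth.Agent.Lib.AlgSp.ThickPres
import Groth.Prelude.Def_AlgSpEt

/-!
# Thickenings of affine schemes on presentations

* `AffPres.closedPres`: the presentation of the closed subspace of an invariant ideal;
* `AffPres.exists_thick_chart`, `AffPres.exists_psi`: a thickening of an affine scheme on the chart;
* `AffPres.exists_affine_of_model`: the space is affine once the etale chart descends to an affine scheme.
-/

set_option autoImplicit false
universe u
open CategoryTheory CategoryTheory.Limits AlgebraicGeometry TensorProduct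
set_option backward.isDefEq.respectTransparency false

namespace GrothLib.AlgSp

open _root_.AlgSp NilContent

variable {S : Scheme.{u}} {X : Sp S}

namespace AffPres

variable (P : AffPres X)

/-- `l` modulo an ideal. -/
noncomputable def lQuot (K : Ideal P.B) : quotRing K ⟶ quotRing (K.map P.l.hom) :=
  CommRingCat.ofHom (Ideal.quotientMap _ P.l.hom Ideal.le_comap_map)

/-- `r` modulo an invariant ideal. -/
noncomputable def rQuot {K : Ideal P.B} (hK : K.map P.r.hom = K.map P.l.hom) :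
    quotRing K ⟶ quotRing (K.map P.l.hom) :=
  CommRingCat.ofHom (Ideal.quotientMap _ P.r.hom (hK ▸ Ideal.le_comap_map))

theorem quotMap_lQuot (K : Ideal P.B) : quotMap K ≫ P.lQuot K = P.l ≫ quotMap (K.map P.l.hom) :=
  CommRingCat.hom_ext (RingHom.ext fun _ => rfl)

theorem quotMap_rQuot {K : Ideal P.B} (hK : K.map P.r.hom = K.map P.l.hom) :
    quotMap K ≫ P.rQuot hK = P.r ≫ quotMap (K.map P.l.hom) :=
  CommRingCat.hom_ext (RingHom.ext fun _ => rfl)

theorem closed_w {K : Ideal P.B} (hK : K.map P.r.hom = K.map P.l.hom) :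
    Spec.map (P.rQuot hK) ≫ Spec.map (quotMap K) ≫ P.sB = Spec.map (P.lQuot K) ≫ Spec.map (quotMap K) ≫ P.sB := by
  rw [← Category.assoc, ← Category.assoc, ← Spec.map_comp, ← Spec.map_comp, quotMap_rQuot, quotMap_lQuot]
  exact P.str_eq _

theorem isPullback_closed {K : Ideal P.B} (hK : K.map P.r.hom = K.map P.l.hom) {Z : Sp S} {i : Z ⟶ X} [Mono i]
    {p : (yon S).obj (Over.mk (Spec.map (quotMap K) ≫ P.sB)) ⟶ Z}
    (sqK : IsPullback p ((yon S).map (quotι K P.sB)) i P.a) :
    IsPullback ((yon S).map (specMap (P.lQuot K) rfl :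
        Over.mk (Spec.map (P.lQuot K) ≫ Spec.map (quotMap K) ≫ P.sB) ⟶ _))
      ((yon S).map (specMap (P.rQuot hK) (P.closed_w hK))) p p := by
  have hmono := mono_quotι K P.sB
  let cι : Over.mk (Spec.map (P.lQuot K) ≫ Spec.map (quotMap K) ≫ P.sB) ⟶ Over.mk (Spec.map P.l ≫ P.sB) :=
    Over.homMk (Spec.map (quotMap (K.map P.l.hom))) (by
      show Spec.map _ ≫ Spec.map P.l ≫ P.sB = Spec.map _ ≫ Spec.map _ ≫ P.sB
      rw [← Category.assoc, ← Category.assoc, ← Spec.map_comp, ← Spec.map_comp, quotMap_lQuot])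
  haveI : Mono cι.left := by
    haveI := IsClosedImmersion.spec_of_surjective (quotMap (K.map P.l.hom)) Ideal.Quotient.mk_surjective
    exact inferInstanceAs (Mono (Spec.map (quotMap (K.map P.l.hom))))
  haveI : Mono cι := (Over.forget S).mono_of_mono_map ‹Mono cι.left›
  have hl : specMap (P.lQuot K) rfl ≫ quotι K P.sB = cι ≫ specMap P.l rfl := Over.OverMorphism.ext (by
    show Spec.map _ ≫ Spec.map _ = Spec.map _ ≫ Spec.map _
    rw [← Spec.map_comp, ← Spec.map_comp, quotMap_lQuot])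
  have hr : specMap (P.rQuot hK) (P.closed_w hK) ≫ quotι K P.sB = cι ≫ specMap P.r P.w := Over.OverMorphism.ext (by
    show Spec.map _ ≫ Spec.map _ = Spec.map _ ≫ Spec.map _
    rw [← Spec.map_comp, ← Spec.map_comp, quotMap_rQuot])
  refine isPullback_of_yon ?_ fun T u v huv => ?_
  · rw [← cancel_mono i, Category.assoc, Category.assoc, sqK.w, ← Functor.map_comp_assoc,
      ← Functor.map_comp_assoc, hl, hr, Functor.map_comp_assoc, Functor.map_comp_assoc, P.sq.w]
  · obtain ⟨u, rfl⟩ := (yon S).map_surjective u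
    obtain ⟨v, rfl⟩ := (yon S).map_surjective v
    have hw : (yon S).map (u ≫ quotι K P.sB) ≫ P.a = (yon S).map (v ≫ quotι K P.sB) ≫ P.a := by
      rw [Functor.map_comp, Functor.map_comp, Category.assoc, Category.assoc, ← sqK.w, reassoc_of% huv]
    obtain ⟨m, hm⟩ := (yon S).map_surjective (P.sq.lift _ _ hw)
    have hm₁ : m ≫ specMap P.l rfl = u ≫ quotι K P.sB := (yon S).map_injective (by
      rw [Functor.map_comp, hm, P.sq.lift_fst])
    have hm₂ : m ≫ specMap P.r P.w = v ≫ quotι K P.sB := (yon S).map_injective (by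
      rw [Functor.map_comp, hm, P.sq.lift_snd])
    have hk : ∀ c ∈ K.map P.l.hom, (gam m.left).hom c = 0 := by
      have : K.map P.l.hom ≤ RingHom.ker (gam m.left).hom := Ideal.map_le_iff_le_comap.2 fun k hk => by
        have h1 := (exists_factor_quot_iff K P.sB (m ≫ specMap P.l rfl)).1 ⟨u, hm₁.symm⟩ k hk
        rw [Over.comp_left] at h1
        have h2 : (gam (m.left ≫ Spec.map P.l)).hom k = 0 := h1
        rw [gam_comp] at h2
        exact h2
      exact fun c hc => this hc
    obtain ⟨m', hm'⟩ := (exists_factor_quot_iff _ (Spec.map P.l ≫ P.sB) m).2 hk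
    have hm'' : m'.left ≫ Spec.map (quotMap (K.map P.l.hom)) = m.left := congrArg (·.left) hm'
    let e : T ⟶ Over.mk (Spec.map (P.lQuot K) ≫ Spec.map (quotMap K) ≫ P.sB) := Over.homMk m'.left (by
      show m'.left ≫ Spec.map _ ≫ Spec.map _ ≫ P.sB = T.hom
      have hobj : Spec.map (P.lQuot K) ≫ Spec.map (quotMap K) ≫ P.sB =
          Spec.map (quotMap (K.map P.l.hom)) ≫ Spec.map P.l ≫ P.sB := by
        rw [← Category.assoc, ← Category.assoc, ← Spec.map_comp, ← Spec.map_comp, quotMap_lQuot]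
      exact (congrArg (m'.left ≫ ·) hobj).trans (Over.w m'))
    have he : e ≫ cι = m := Over.OverMorphism.ext hm''
    refine ⟨(yon S).map e, ⟨?_, ?_⟩, fun e' ⟨h₁, h₂⟩ => ?_⟩
    · rw [← Functor.map_comp]
      refine congrArg _ ((cancel_mono (quotι K P.sB)).1 ?_)
      rw [Category.assoc, hl, reassoc_of% he, hm₁]
    · rw [← Functor.map_comp]
      refine congrArg _ ((cancel_mono (quotι K P.sB)).1 ?_)
      rw [Category.assoc, hr, reassoc_of% he, hm₂]
    · obtain ⟨e', rfl⟩ := (yon S).map_surjective e'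
      refine congrArg _ ((cancel_mono cι).1 ((yon S).map_injective (P.sq.hom_ext ?_ ?_)))
      · rw [← Functor.map_comp, ← Functor.map_comp, he, hm₁, Category.assoc, ← hl, Functor.map_comp,
          Functor.map_comp, reassoc_of% h₁, Functor.map_comp]
      · rw [← Functor.map_comp, ← Functor.map_comp, he, hm₂, Category.assoc, ← hr, Functor.map_comp,
          Functor.map_comp, reassoc_of% h₂, Functor.map_comp]

/-- The presentation of a closed subspace. -/
noncomputable def closedPres {K : Ideal P.B} (hK : K.map P.r.hom = K.map P.l.hom) {Z : Sp S} {i : Z ⟶ X} [Mono i]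
    {p : (yon S).obj (Over.mk (Spec.map (quotMap K) ≫ P.sB)) ⟶ Z}
    (sqK : IsPullback p ((yon S).map (quotι K P.sB)) i P.a) : AffPres Z where
  B := quotRing K
  C := quotRing (K.map P.l.hom)
  sB := Spec.map (quotMap K) ≫ P.sB
  l := P.lQuot K
  r := P.rQuot hK
  w := P.closed_w hK
  a := p
  ae := repWith_of_isPullback sqK.flip P.ae
  asurj := repWith_of_isPullback sqK.flip P.asurj
  sq := P.isPullback_closed hK sqK

/-- Invariant ideals cut out closed subspaces. -/
theorem exists_closed (hX : IsAlgSpace X) {K : Ideal P.B} (hK : K.map P.r.hom = K.map P.l.hom) :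
    ∃ (Z : Sp S) (i : Z ⟶ X) (p : (yon S).obj (Over.mk (Spec.map (quotMap K) ≫ P.sB)) ⟶ Z),
      IsAlgSpace Z ∧ RepWith @IsClosedImmersion i ∧ Mono i ∧
        IsPullback p ((yon S).map (quotι K P.sB)) i P.a := by
  haveI := isClosedImmersion_quotι K P.sB
  obtain ⟨Z, i, p, hZ, hi, sq⟩ := exists_closed_subspace_of_stable hX P.ae P.asurj (quotι K P.sB)
    fun {T} x y hxy x' hx' => by
      refine (exists_factor_quot_iff K P.sB y).2 fun k hk => ?_
      obtain ⟨m, hm⟩ := (yon S).map_surjective (P.sq.lift _ _ hxy)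
      have hm₁ : m ≫ specMap P.l rfl = x := (yon S).map_injective (by rw [Functor.map_comp, hm, P.sq.lift_fst])
      have hm₂ : m ≫ specMap P.r P.w = y := (yon S).map_injective (by rw [Functor.map_comp, hm, P.sq.lift_snd])
      have hxk := (exists_factor_quot_iff K P.sB x).1 ⟨x', hx'⟩
      have h1 : P.r.hom k ∈ RingHom.ker (gam m.left).hom := by
        refine (Ideal.map_le_iff_le_comap.2 fun k' hk' => ?_) (hK ▸ Ideal.mem_map_of_mem P.r.hom hk)
        have h2 := hxk k' hk'
        rw [← hm₁] at h2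
        have h3 : (gam (m.left ≫ Spec.map P.l)).hom k' = 0 := h2
        rw [gam_comp] at h3
        exact h3
      rw [← hm₂]
      show (gam (m.left ≫ Spec.map P.r)).hom k = 0
      rw [gam_comp]
      exact h1
  exact ⟨Z, i, p, hZ, hi, mono_of_repWith_mono (repWith_mono hi fun A B g (hg : IsClosedImmersion g) =>
    inferInstanceAs (Mono g)), sq⟩

/-- A thickening of an affine scheme on the chart. -/
theorem exists_thick_chart {A : CommRingCat.{u}} {sA : Spec A ⟶ S} {i : (yon S).obj (Over.mk sA) ⟶ X}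
    (hi : IsThickMor i) :
    ∃ (I : Ideal P.B) (π : A ⟶ quotRing I) (hπ : Spec.map π ≫ sA = Spec.map (quotMap I) ≫ P.sB),
      I ≤ nilradical P.B ∧ I.map P.r.hom = I.map P.l.hom ∧ π.hom.Etale ∧
      Function.Surjective (PrimeSpectrum.comap π.hom) ∧
      IsPullback ((yon S).map (specMap π hπ)) ((yon S).map (quotι I P.sB)) i P.a := by
  obtain ⟨W₀, p₁, j, sqW⟩ := exists_isPullback_of_representable hi.1 P.a
  have hj : MoreMor.IsThickening j.left := hi.2 _ _ _ sqW
  haveI := hj.1
  obtain ⟨I, e, he⟩ := (IsClosedImmersion.Spec_iff (f := j.left)).1 hj.1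
  let e' : W₀ ≅ Over.mk (Spec.map (quotMap I) ≫ P.sB) := Over.isoMk e (by
    show e.hom ≫ Spec.map (quotMap I) ≫ P.sB = W₀.hom
    rw [← Category.assoc]
    exact (congrArg (· ≫ P.sB) he.symm).trans (Over.w j))
  obtain ⟨m, hm⟩ := (yon S).map_surjective ((yon S).map e'.inv ≫ p₁)
  obtain ⟨π, hπ, rfl⟩ := exists_specMap m
  have sq : IsPullback ((yon S).map (specMap π hπ)) ((yon S).map (quotι I P.sB)) i P.a := by
    refine sqW.of_iso ((yon S).mapIso e') (Iso.refl _) (Iso.refl _) (Iso.refl _) ?_ ?_ (by simp) (by simp)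
    · rw [Functor.mapIso_hom, hm, ← Functor.map_comp_assoc, e'.hom_inv_id, CategoryTheory.Functor.map_id,
        Category.id_comp, Iso.refl_hom, Category.comp_id]
    · rw [Functor.mapIso_hom, Iso.refl_hom, Category.comp_id, ← Functor.map_comp]
      exact congrArg _ (Over.OverMorphism.ext he)
  have hnil : I ≤ nilradical P.B := by
    intro x hx
    rw [nilradical_eq_sInf, Ideal.mem_sInf]
    intro 𝔭 h𝔭
    obtain ⟨y, hy⟩ := hj.2.surj ⟨𝔭, h𝔭⟩
    rw [he, Scheme.Hom.comp_apply] at hy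
    have h1 : (PrimeSpectrum.comap (Ideal.Quotient.mk I) (e.hom y)).asIdeal = 𝔭 := congrArg PrimeSpectrum.asIdeal hy
    rw [← h1]
    show Ideal.Quotient.mk I x ∈ (e.hom y).asIdeal
    rw [Ideal.Quotient.eq_zero_iff_mem.2 hx]
    exact zero_mem _
  refine ⟨I, π, hπ, hnil, ?_, ?_, ?_, sq⟩
  · letI := P.l.hom.toAlgebra
    refine (P.invariant_iff I).1 (Ideal.map_le_iff_le_comap.2 fun k hk => ?_)
    let D := quotRing (I.map P.l.hom)
    let sD : Spec D ⟶ S := Spec.map (P.l ≫ quotMap _) ≫ P.sB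
    have hy : Spec.map (P.r ≫ quotMap (I.map P.l.hom)) ≫ P.sB = sD := P.str_eq _
    let x' : Over.mk sD ⟶ Over.mk (Spec.map (quotMap I) ≫ P.sB) := specMap (P.lQuot I) (by
      rw [← Category.assoc, ← Spec.map_comp, quotMap_lQuot])
    have hw : ((yon S).map x' ≫ (yon S).map (specMap π hπ)) ≫ i =
        (yon S).map (specMap (P.r ≫ quotMap (I.map P.l.hom)) hy) ≫ P.a := by
      rw [Category.assoc, sq.w, ← Category.assoc, ← Functor.map_comp,
        ← P.comp_eq (sD := sD) rfl hy (quotMap (I.map P.l.hom)) rfl rfl]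
      congr 2
      refine Over.OverMorphism.ext ?_
      show Spec.map _ ≫ Spec.map _ = Spec.map _
      rw [← Spec.map_comp, quotMap_lQuot]
    obtain ⟨y', hy'⟩ := (yon S).map_surjective (sq.lift _ _ hw)
    obtain ⟨g, hg, rfl⟩ := exists_specMap y'
    have h1 : specMap g hg ≫ quotι I P.sB = specMap (P.r ≫ quotMap (I.map P.l.hom)) hy :=
      (yon S).map_injective (by rw [Functor.map_comp, hy', sq.lift_snd])
    have h2 : quotMap I ≫ g = P.r ≫ quotMap (I.map P.l.hom) :=
      Spec.map_injective (by rw [Spec.map_comp]; exact congrArg (·.left) h1)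
    have h3 := ConcreteCategory.congr_hom h2 k
    show P.r.hom k ∈ I.map P.l.hom
    rw [← Ideal.Quotient.eq_zero_iff_mem]
    refine h3.symm.trans ?_
    show g.hom (Ideal.Quotient.mk I k) = 0
    rw [Ideal.Quotient.eq_zero_iff_mem.2 hk, map_zero]
  · have h : Etale (Spec.map π) := (repWith_yon_map_iff _ _).1 (repWith_of_isPullback sq.flip P.ae)
    exact (HasRingHomProperty.Spec_iff (P := @Etale)).1 h
  · have h : Surjective (Spec.map π) := (repWith_yon_map_iff _ _).1 (repWith_of_isPullback sq.flip P.asurj)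
    exact h.surj

/-- The relation on a thickening of an affine scheme. -/
theorem exists_psi {A : CommRingCat.{u}} {sA : Spec A ⟶ S} {i : (yon S).obj (Over.mk sA) ⟶ X} [Mono i]
    {I : Ideal P.B} (hI : I.map P.r.hom = I.map P.l.hom) {π : A ⟶ quotRing I}
    {hπ : Spec.map π ≫ sA = Spec.map (quotMap I) ≫ P.sB}
    (sqW : IsPullback ((yon S).map (specMap π hπ)) ((yon S).map (quotι I P.sB)) i P.a) :
    letI : Algebra A (P.B ⧸ I) := π.hom.toAlgebra
    ∃ ψ : P.C →+* (P.B ⧸ I) ⊗[A] (P.B ⧸ I), (∀ b, ψ (P.l.hom b) = Ideal.Quotient.mk I b ⊗ₜ 1) ∧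
      (∀ b, ψ (P.r.hom b) = 1 ⊗ₜ Ideal.Quotient.mk I b) ∧ RingHom.ker ψ ≤ I.map P.l.hom := by
  letI : Algebra A (P.B ⧸ I) := π.hom.toAlgebra
  let T := CommRingCat.of ((P.B ⧸ I) ⊗[A] (P.B ⧸ I))
  let inl : quotRing I ⟶ T := CommRingCat.ofHom Algebra.TensorProduct.includeLeftRingHom
  let inr : quotRing I ⟶ T :=
    CommRingCat.ofHom (Algebra.TensorProduct.includeRight : (P.B ⧸ I) →ₐ[A] _).toRingHom
  have hπlr : π ≫ inl = π ≫ inr := CommRingCat.hom_ext (RingHom.ext fun x =>
    show algebraMap A (P.B ⧸ I) x ⊗ₜ[A] (1 : P.B ⧸ I) = (1 : P.B ⧸ I) ⊗ₜ[A] algebraMap A (P.B ⧸ I) x by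
      rw [Algebra.algebraMap_eq_smul_one, smul_tmul])
  let sT : Spec T ⟶ S := Spec.map (π ≫ inl) ≫ sA
  have hf : ∀ (f : quotRing I ⟶ T), π ≫ f = π ≫ inl →
      Spec.map f ≫ Spec.map (quotMap I) ≫ P.sB = sT := fun f hf => by
    rw [← hπ, ← Category.assoc, ← Spec.map_comp, hf]
  have hx : Spec.map (quotMap I ≫ inl) ≫ P.sB = sT := by rw [Spec.map_comp, Category.assoc, hf inl rfl]
  have hy : Spec.map (quotMap I ≫ inr) ≫ P.sB = sT := by rw [Spec.map_comp, Category.assoc, hf inr hπlr.symm]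
  have key : ∀ (f : quotRing I ⟶ T) (hf' : π ≫ f = π ≫ inl) (h : Spec.map (quotMap I ≫ f) ≫ P.sB = sT),
      (yon S).map (specMap (quotMap I ≫ f) h) ≫ P.a = (yon S).map (specMap (π ≫ inl) rfl) ≫ i := by
    intro f hf' h
    have e₁ : specMap (quotMap I ≫ f) h = specMap f (hf f hf') ≫ quotι I P.sB :=
      Over.OverMorphism.ext (Spec.map_comp _ _)
    have e₂ : (specMap (π ≫ inl) rfl : Over.mk sT ⟶ _) = specMap f (hf f hf') ≫ specMap π hπ :=
      Over.OverMorphism.ext (by show Spec.map _ = Spec.map _ ≫ Spec.map _; rw [← Spec.map_comp, hf'])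
    rw [e₁, e₂, Functor.map_comp, Functor.map_comp, Category.assoc, Category.assoc, sqW.w]
  obtain ⟨c, hcl, hcr⟩ := P.exists_of_comp_eq hx hy
    ((key inl rfl hx).trans (key inr hπlr.symm hy).symm)
  refine ⟨c.hom, fun b => ConcreteCategory.congr_hom hcl b, fun b => ConcreteCategory.congr_hom hcr b, ?_⟩
  -- the left inverse
  let q := quotMap (I.map P.l.hom)
  have hxy : π ≫ P.lQuot I = π ≫ P.rQuot hI := by
    let sD : Spec (quotRing (I.map P.l.hom)) ⟶ S := Spec.map (P.l ≫ q) ≫ P.sB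
    have h₁ : Spec.map (P.lQuot I) ≫ Spec.map (quotMap I) ≫ P.sB = sD := by
      rw [← Category.assoc, ← Spec.map_comp, quotMap_lQuot]
    have h₂ : Spec.map (P.rQuot hI) ≫ Spec.map (quotMap I) ≫ P.sB = sD := (P.closed_w hI).trans h₁
    have e : specMap (P.lQuot I) h₁ ≫ specMap π hπ = specMap (P.rQuot hI) h₂ ≫ specMap π hπ := by
      refine (yon S).map_injective ((cancel_mono i).1 ?_)
      rw [Functor.map_comp, Functor.map_comp, Category.assoc, Category.assoc, sqW.w, ← Category.assoc,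
        ← Category.assoc, ← Functor.map_comp, ← Functor.map_comp]
      have e₁ : specMap (P.lQuot I) h₁ ≫ quotι I P.sB = specMap (P.l ≫ q) (rfl : _ = sD) := Over.OverMorphism.ext (by
        show Spec.map _ ≫ Spec.map _ = Spec.map _
        rw [← Spec.map_comp, quotMap_lQuot])
      have e₂ : specMap (P.rQuot hI) h₂ ≫ quotι I P.sB = specMap (P.r ≫ q) (P.str_eq q) := Over.OverMorphism.ext (by
        show Spec.map _ ≫ Spec.map _ = Spec.map _
        rw [← Spec.map_comp, quotMap_rQuot])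
      rw [e₁, e₂]
      exact P.comp_eq rfl (P.str_eq q) q rfl rfl
    exact Spec.map_injective (by rw [Spec.map_comp, Spec.map_comp]; exact congrArg (·.left) e)
  letI : Algebra A (P.C ⧸ I.map P.l.hom) := (π ≫ P.lQuot I).hom.toAlgebra
  let χ : (P.B ⧸ I) ⊗[A] (P.B ⧸ I) →ₐ[A] P.C ⧸ I.map P.l.hom := Algebra.TensorProduct.lift
    { (P.lQuot I).hom with commutes' := fun _ => rfl }
    { (P.rQuot hI).hom with commutes' := fun x => (ConcreteCategory.congr_hom hxy x).symm }
    fun x y => mul_comm _ _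
  have hχ : c ≫ CommRingCat.ofHom χ.toRingHom = q := by
    refine P.hext ?_ ?_
    · rw [← Category.assoc, hcl, Category.assoc, ← P.quotMap_lQuot I]
      refine congrArg _ (CommRingCat.hom_ext (RingHom.ext fun x => ?_))
      show χ (x ⊗ₜ 1) = _
      rw [Algebra.TensorProduct.lift_tmul, map_one, mul_one]
      rfl
    · rw [← Category.assoc, hcr, Category.assoc, ← P.quotMap_rQuot hI]
      refine congrArg _ (CommRingCat.hom_ext (RingHom.ext fun x => ?_))
      show χ (1 ⊗ₜ x) = _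
      rw [Algebra.TensorProduct.lift_tmul, map_one, one_mul]
      rfl
  intro z hz
  have h := ConcreteCategory.congr_hom hχ z
  rw [CommRingCat.comp_apply] at h
  rw [show c.hom z = 0 from hz, map_zero] at h
  exact Ideal.Quotient.eq_zero_iff_mem.1 h.symm

/-- The space is affine once the chart of the thickening descends to an affine scheme. -/
theorem exists_affine_of_model (hX : IsAlgSpace X) {A : CommRingCat.{u}} {sA : Spec A ⟶ S}
    {i : (yon S).obj (Over.mk sA) ⟶ X} (hi : IsThickMor i) {D : CommRingCat.{u}} {d : P.B ⟶ D} {π : A ⟶ D}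
    {hπ : Spec.map π ≫ sA = Spec.map d ≫ P.sB} (hπe : π.hom.Etale)
    (hπs : Function.Surjective (PrimeSpectrum.comap π.hom))
    (sqW : IsPullback ((yon S).map (specMap π hπ)) ((yon S).map (specMap d rfl : Over.mk (Spec.map d ≫ P.sB) ⟶ _)) i P.a)
    {A' B₁ : CommRingCat.{u}} (j : A' ⟶ P.B) (sA' : Spec A' ⟶ S)
    (hjl : j ≫ P.l = j ≫ P.r) (hjs : Spec.map j ≫ sA' = P.sB) (θ : A' ⟶ A) (hθ : j ≫ d = θ ≫ π)
    (g : A' ⟶ B₁) (hg : g.hom.Etale) (hgs : Function.Surjective (PrimeSpectrum.comap g.hom))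
    (q : B₁ ⟶ D) (hpush : IsPushout θ g π q) :
    ∃ Q : Over S, IsAffine Q.left ∧ Nonempty ((yon S).obj Q ≅ X) := by
  haveI : Etale (Spec.map π) := (HasRingHomProperty.Spec_iff (P := @Etale)).2 hπe
  haveI : Surjective (Spec.map π) := ⟨hπs⟩
  haveI : Etale (Spec.map g) := (HasRingHomProperty.Spec_iff (P := @Etale)).2 hg
  haveI : Surjective (Spec.map g) := ⟨hgs⟩
  have hθs : Spec.map θ ≫ sA' = sA := by
    rw [← cancel_epi (Spec.map π), ← Category.assoc, ← Spec.map_comp, ← hθ, Spec.map_comp, Category.assoc, hjs, hπ]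
  have hjw : specMap P.l rfl ≫ specMap j hjs = specMap P.r P.w ≫ specMap j hjs := Over.OverMorphism.ext (by
    show Spec.map _ ≫ Spec.map _ = Spec.map _ ≫ Spec.map _
    rw [← Spec.map_comp, ← Spec.map_comp, hjl])
  obtain ⟨f, hf⟩ := P.exists_desc hX (specMap j hjs) hjw
  have hπl : Sheaf.IsLocallySurjective ((yon S).map (specMap π hπ)) :=
    chart_isLocallySurjective ((repWith_yon_map_iff _ _).2 ‹Etale (Spec.map π)›)
      ((repWith_yon_map_iff _ _).2 ‹Surjective (Spec.map π)›)
  have hif : i ≫ f = (yon S).map (specMap θ hθs) := by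
    have : Epi ((yon S).map (specMap π hπ)) := (Sheaf.isLocallySurjective_iff_epi _).1 hπl
    rw [← cancel_epi ((yon S).map (specMap π hπ)), reassoc_of% sqW.w, hf, ← Functor.map_comp, ← Functor.map_comp]
    refine congrArg _ (Over.OverMorphism.ext ?_)
    show Spec.map _ ≫ Spec.map _ = Spec.map _ ≫ Spec.map _
    rw [← Spec.map_comp, ← Spec.map_comp, hθ]
  let T₁ : Over S := Over.mk (Spec.map g ≫ sA')
  let c : T₁ ⟶ Over.mk sA' := specMap g rfl
  have hq : Spec.map q ≫ Spec.map g ≫ sA' = Spec.map (d) ≫ P.sB := by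
    rw [← Category.assoc, ← Spec.map_comp, ← hpush.w, Spec.map_comp, Category.assoc, hθs, hπ]
  have sq₂ : IsPullback ((yon S).map (specMap π hπ)) ((yon S).map (specMap q hq : _ ⟶ T₁)) (i ≫ f)
      ((yon S).map c) := by
    rw [hif]
    exact isPullback_yon (isPullback_of_left (isPullback_SpecMap_of_isPushout _ _ _ _ hpush))
  have hiUH : IsIntUH i := by
    haveI := mono_of_thick hi
    refine ⟨repWith_mono hi fun A B g hg => ?_, isUnivInjectiveMor_of_mono i,
      (homeo_of_thick hi hX).bijective.2⟩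
    haveI : IsClosedImmersion g := hg.1
    exact inferInstanceAs (IsIntegralHom g)
  obtain ⟨V, v, qv, sqV⟩ : ∃ (V : Sp S) (v : V ⟶ X) (qv : V ⟶ (yon S).obj T₁), IsPullback v qv f ((yon S).map c) :=
    ⟨_, _, _, IsPullback.of_hasPullback f ((yon S).map c)⟩
  have hV : IsAlgSpace V := isAlgSpace_pullback (IsAlgSpace.yon_obj _).diag hX (IsAlgSpace.yon_obj _) sqV
  have hve : IsEtaleMor v := isEtaleMor_of_locP hX (EtLocal.locP_of_repWith .etale hX
    (repWith_of_isPullback sqV.flip ((repWith_yon_map_iff _ c).2 ‹Etale (Spec.map g)›)))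
  let l₀ := sqV.lift ((yon S).map (specMap π hπ) ≫ i) ((yon S).map (specMap q hq : _ ⟶ T₁))
    (by rw [Category.assoc, sq₂.w])
  have sql : IsPullback ((yon S).map (specMap π hπ)) l₀ i v :=
    IsPullback.of_bot (by rw [sqV.lift_snd]; exact sq₂) (sqV.lift_fst _ _ _).symm sqV
  have hWA := IsAlgSpace.yon_obj (Over.mk P.sB)
  have hW₀ := IsAlgSpace.yon_obj (Over.mk (Spec.map (d) ≫ P.sB))
  obtain ⟨u₁, ⟨hu₁, hu₁'⟩, -⟩ := existsUnique_lift_hom hX hWA hV hW₀ hiUH hve sqW sql (𝟙 _) (Category.id_comp _)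
  obtain ⟨u₂, ⟨hu₂, hu₂'⟩, -⟩ := existsUnique_lift_hom hX hV hWA hW₀ hiUH (isEtaleMor_of_repWith P.a P.ae) sql sqW
    (𝟙 _) (Category.id_comp _)
  rw [Category.id_comp] at hu₁' hu₂'
  have e₁ : u₁ ≫ u₂ = 𝟙 _ := (existsUnique_lift_hom hX hWA hWA hW₀ hiUH (isEtaleMor_of_repWith P.a P.ae) sqW sqW
    (𝟙 _) (Category.id_comp _)).unique
      ⟨by rw [Category.assoc, hu₂, hu₁], by rw [reassoc_of% hu₁', hu₂', Category.id_comp]⟩
      ⟨Category.id_comp _, by rw [Category.comp_id, Category.id_comp]⟩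
  have e₂ : u₂ ≫ u₁ = 𝟙 _ := (existsUnique_lift_hom hX hV hV hW₀ hiUH hve sql sql
    (𝟙 _) (Category.id_comp _)).unique
      ⟨by rw [Category.assoc, hu₁, hu₂], by rw [reassoc_of% hu₂', hu₁', Category.id_comp]⟩
      ⟨Category.id_comp _, by rw [Category.comp_id, Category.id_comp]⟩
  obtain ⟨w, hw⟩ := (yon S).map_surjective (u₁ ≫ qv)
  haveI : IsAffine (Over.mk sA').left := inferInstanceAs (IsAffine (Spec A'))
  haveI : IsAffine T₁.left := inferInstanceAs (IsAffine (Spec B₁))
  haveI : IsAffine (Over.mk P.sB).left := inferInstanceAs (IsAffine (Spec P.B))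
  haveI : Etale c.left := ‹Etale (Spec.map g)›
  haveI : Surjective c.left := ‹Surjective (Spec.map g)›
  refine exists_iso_yon_of_isPullback_affine f c P.a w ?_
  refine sqV.of_iso ⟨u₂, u₁, e₂, e₁⟩ (Iso.refl _) (Iso.refl _) (Iso.refl _) ?_ ?_ (by simp) (by simp)
  · simp [hu₂]
  · rw [Iso.refl_hom, Category.comp_id, hw, ← Category.assoc, e₂, Category.id_comp]

end AffPres

end GrothLib.AlgSp
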