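import Groth.Agent.Lib.AlgSp.UnivClosed
import Groth.Agent.Lib.AlgSp.FlatMono
import Groth.Agent.Lib.AlgSp.FpqcProps
import Groth.Prelude.Def_AlgSpInf

/-!
# Thickenings of algebraic spaces are universal homeomorphisms

Main results:
* `mono_of_thick`, `homeo_of_thick`, `thick_comp`;
* `univSp_thick_iff`: universal topological properties transfer along thickenings;
* `quasiCompact_thick_iff`, `surjective_thick_iff`.
-/

universe u

open CategoryTheory CategoryTheory.Limits AlgebraicGeometry TopologicalSpace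

namespace GrothLib.AlgSp

open _root_.AlgSp

variable {S : Scheme.{u}} {X X' Y Y' : Sp S}

theorem thick_comp {i : X ⟶ X'} {j : X' ⟶ Y} (hi : IsThickMor i) (hj : IsThickMor j) : IsThickMor (i ≫ j) := by
  have : (thick.{u}).IsStableUnderComposition := by
    constructor
    intro A B C f g hf hg
    exact ⟨MorphismProperty.comp_mem _ _ _ hf.1 hg.1, MorphismProperty.comp_mem _ _ _ hf.2 hg.2⟩
  exact repWith_comp hi hj

theorem mono_of_thick {i : X ⟶ X'} (hi : IsThickMor i) : Mono i :=
  mono_of_repWith_mono (repWith_mono hi fun A B g hg => by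
    have : IsClosedImmersion g := hg.1
    exact inferInstanceAs (Mono g))

theorem homeo_of_thick {i : X ⟶ X'} (hi : IsThickMor i) (hX' : IsAlgSpace X') :
    IsHomeomorph (Points.map i) := by
  have := mono_of_thick hi
  refine ((isHomeomorph_iff_continuous_isClosedMap_bijective).2 ⟨Points.continuous_map i, ?_,
    injective_map_of_mono i, surjective_map_of_repWith (repWith_mono hi fun A B g hg => hg.2)⟩)
  have hu : IsUnivClosedMor i := isUnivClosedMor_of_repWith (repWith_mono hi fun A B g hg => by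
    have : IsClosedImmersion g := hg.1
    exact inferInstanceAs (UniversallyClosed g))
  exact hu hX' (𝟙 _) (𝟙 _) i (IsPullback.of_horiz_isIso ⟨by simp⟩)

/-- A property of maps on points invariant under homeomorphisms transfers along a morphism of thickenings. -/
theorem univSp_thick_iff {Q : MorphismProperty (Sp S)}
    (hQ : ∀ {P P' Z Z' : Sp S} (c : P ⟶ P') (a : Z ⟶ Z') (e : P ⟶ Z) (e' : P' ⟶ Z'),
      IsHomeomorph (Points.map c) → IsHomeomorph (Points.map a) → c ≫ e' = e ≫ a → (Q e ↔ Q e'))
    {i : X ⟶ X'} {j : Y ⟶ Y'} {f : X ⟶ Y} {f' : X' ⟶ Y'} (hX' : IsAlgSpace X') (hY' : IsAlgSpace Y')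
    (hi : IsThickMor i) (hj : IsThickMor j) (w : i ≫ f' = f ≫ j) :
    UnivSp Q f ↔ UnivSp Q f' := by
  have := mono_of_thick hj
  constructor
  · intro hf Z Z' hZ g fst snd sq
    have sqb : IsPullback (pullback.fst g j) (pullback.snd g j) g j := IsPullback.of_hasPullback g j
    have sqP : IsPullback (pullback.fst fst i) (pullback.snd fst i) fst i := IsPullback.of_hasPullback fst i
    have ha : IsThickMor (pullback.fst g j) := repWith_of_isPullback sqb.flip hj
    have hc : IsThickMor (pullback.fst fst i) := repWith_of_isPullback sqP.flip hi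
    have hw : (pullback.fst fst i ≫ snd) ≫ g = (pullback.snd fst i ≫ f) ≫ j := by
      rw [Category.assoc, Category.assoc, ← sq.w, ← w, ← Category.assoc, ← Category.assoc, sqP.w]
    let e := sqb.lift _ _ hw
    have sqe : IsPullback (pullback.snd fst i) e f (pullback.snd g j) := by
      refine IsPullback.of_bot ?_ (sqb.lift_snd _ _ hw).symm sqb.flip
      rw [show e ≫ pullback.fst g j = pullback.fst fst i ≫ snd from sqb.lift_fst _ _ hw, ← w]
      exact sqP.flip.paste_vert sq
    have hq := hf (isAlgSpace_of_representable hZ ha.1) (pullback.snd g j) _ e sqe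
    exact (hQ _ _ e snd (homeo_of_thick hc (isAlgSpace_pullback hY'.diag hX' hZ sq))
      (homeo_of_thick ha hZ) (sqb.lift_fst _ _ hw).symm).1 hq
  · intro hf' Z Z' hZ g fst snd sq
    let P' := pullback f' (g ≫ j)
    have sq' : IsPullback (pullback.fst f' (g ≫ j)) (pullback.snd f' (g ≫ j)) f' (g ≫ j) :=
      IsPullback.of_hasPullback _ _
    have hw : (fst ≫ i) ≫ f' = snd ≫ g ≫ j := by
      rw [Category.assoc, w, ← Category.assoc, sq.w, Category.assoc]
    let c := sq'.lift _ _ hw
    have sqb : IsPullback fst snd (i ≫ f') (g ≫ j) := by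
      rw [w]
      refine ⟨⟨by rw [← Category.assoc, sq.w, Category.assoc]⟩, ⟨PullbackCone.IsLimit.mk _
        (fun s => sq.lift s.fst s.snd ((cancel_mono j).1 (by
          rw [Category.assoc, Category.assoc]; exact s.condition)))
        (fun s => sq.lift_fst _ _ _) (fun s => sq.lift_snd _ _ _)
        fun s m h₁ h₂ => sq.hom_ext (by rw [sq.lift_fst]; exact h₁) (by rw [sq.lift_snd]; exact h₂)⟩⟩
    have sqc : IsPullback fst c i (pullback.fst f' (g ≫ j)) := by
      refine IsPullback.of_bot ?_ (sq'.lift_fst _ _ hw).symm sq'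
      rw [show c ≫ pullback.snd f' (g ≫ j) = snd from sq'.lift_snd _ _ hw]
      exact sqb
    have hc : IsThickMor c := repWith_of_isPullback sqc hi
    have hh : IsHomeomorph (Points.map (𝟙 Z)) := by
      have : Points.map (𝟙 Z) = id := funext Points.map_id
      rw [this]
      exact IsHomeomorph.id
    refine (hQ c (𝟙 Z) snd _ (homeo_of_thick hc (isAlgSpace_pullback hY'.diag hX' hZ sq')) hh ?_).2
      (hf' hZ _ _ _ sq')
    rw [Category.comp_id]; exact sq'.lift_snd _ _ hw

theorem map_comm {P P' Z Z' : Sp S} {c : P ⟶ P'} {a : Z ⟶ Z'} {e : P ⟶ Z} {e' : P' ⟶ Z'} (w : c ≫ e' = e ≫ a) :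
    Points.map e' ∘ Points.map c = Points.map a ∘ Points.map e :=
  funext fun x => by rw [Function.comp_apply, Function.comp_apply, ← Points.map_comp, w, Points.map_comp]

theorem univClosed_thick_iff {i : X ⟶ X'} {j : Y ⟶ Y'} {f : X ⟶ Y} {f' : X' ⟶ Y'} (hX' : IsAlgSpace X')
    (hY' : IsAlgSpace Y') (hi : IsThickMor i) (hj : IsThickMor j) (w : i ≫ f' = f ≫ j) :
    IsUnivClosedMor f ↔ IsUnivClosedMor f' := by
  refine univSp_thick_iff (fun c a e e' hc ha hw => ?_) hX' hY' hi hj w
  change IsClosedMap (Points.map e) ↔ IsClosedMap (Points.map e')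
  constructor
  · intro h
    exact IsClosedMap.of_comp_surjective hc.bijective.2 hc.continuous (map_comm hw ▸ ha.isClosedMap.comp h)
  · intro h A hA
    have h2 := (map_comm hw ▸ h.comp hc.isClosedMap : IsClosedMap (Points.map a ∘ Points.map e)) A hA
    rw [← Set.preimage_image_eq (Points.map e '' A) ha.bijective.1, ← Set.image_comp]
    exact h2.preimage ha.continuous

theorem univOpen_thick_iff {i : X ⟶ X'} {j : Y ⟶ Y'} {f : X ⟶ Y} {f' : X' ⟶ Y'} (hX' : IsAlgSpace X')
    (hY' : IsAlgSpace Y') (hi : IsThickMor i) (hj : IsThickMor j) (w : i ≫ f' = f ≫ j) :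
    IsUnivOpenMor f ↔ IsUnivOpenMor f' := by
  refine univSp_thick_iff (fun c a e e' hc ha hw => ?_) hX' hY' hi hj w
  change IsOpenMap (Points.map e) ↔ IsOpenMap (Points.map e')
  constructor
  · intro h A hA
    have h2 := ha.isOpenMap _ (h _ (hA.preimage hc.continuous))
    rwa [← Set.image_comp, ← map_comm hw, Set.image_comp, Set.image_preimage_eq A hc.bijective.2] at h2
  · intro h A hA
    have h2 := h _ (hc.isOpenMap A hA)
    rw [← Set.image_comp, map_comm hw, Set.image_comp] at h2
    rw [← Set.preimage_image_eq (Points.map e '' A) ha.bijective.1]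
    exact h2.preimage ha.continuous

theorem univInjective_thick_iff {i : X ⟶ X'} {j : Y ⟶ Y'} {f : X ⟶ Y} {f' : X' ⟶ Y'} (hX' : IsAlgSpace X')
    (hY' : IsAlgSpace Y') (hi : IsThickMor i) (hj : IsThickMor j) (w : i ≫ f' = f ≫ j) :
    IsUnivInjectiveMor f ↔ IsUnivInjectiveMor f' := by
  refine univSp_thick_iff (fun c a e e' hc ha hw => ?_) hX' hY' hi hj w
  constructor
  · intro h
    refine Function.Injective.of_comp_right (f := Points.map e') (g := Points.map c) ?_ hc.bijective.2
    rw [map_comm hw]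
    exact ha.bijective.1.comp h
  · intro h
    have h2 := h.comp hc.bijective.1
    rw [map_comm hw] at h2
    exact h2.of_comp

theorem surjective_thick_iff {i : X ⟶ X'} {j : Y ⟶ Y'} {f : X ⟶ Y} {f' : X' ⟶ Y'} (hX' : IsAlgSpace X')
    (hY' : IsAlgSpace Y') (hi : IsThickMor i) (hj : IsThickMor j) (w : i ≫ f' = f ≫ j) :
    IsSurjectiveMor f ↔ IsSurjectiveMor f' := by
  have hc := homeo_of_thick hi hX'
  have ha := homeo_of_thick hj hY'
  change Function.Surjective (Points.map f) ↔ Function.Surjective (Points.map f')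
  constructor
  · intro h
    have h2 := ha.bijective.2.comp h
    rw [← map_comm w] at h2
    exact h2.of_comp
  · intro h
    have h2 := h.comp hc.bijective.2
    rw [map_comm w] at h2
    exact h2.of_comp_left ha.bijective.1

theorem isQuasiCompactSp_thick_iff {c : X ⟶ X'} (hc : IsThickMor c) (hX' : IsAlgSpace X') :
    IsQuasiCompactSp X ↔ IsQuasiCompactSp X' := by
  have hh := (homeo_of_thick hc hX').homeomorph
  constructor
  · intro h
    have := compactSpace_points_of_isQuasiCompactSp h
    have := hh.compactSpace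
    exact isQuasiCompactSp_of_compactSpace_points hX'
  · intro h
    have := compactSpace_points_of_isQuasiCompactSp h
    have := hh.symm.compactSpace
    exact isQuasiCompactSp_of_compactSpace_points (isAlgSpace_of_representable hX' hc.1)

theorem quasiCompact_thick_iff {i : X ⟶ X'} {j : Y ⟶ Y'} {f : X ⟶ Y} {f' : X' ⟶ Y'} (hX' : IsAlgSpace X')
    (hY' : IsAlgSpace Y') (hi : IsThickMor i) (hj : IsThickMor j) (w : i ≫ f' = f ≫ j) :
    IsQuasiCompactMor f ↔ IsQuasiCompactMor f' := by
  have := mono_of_thick hj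
  constructor
  · intro hf Z Z' hZ hqc g fst snd sq
    have sqb : IsPullback (pullback.fst g j) (pullback.snd g j) g j := IsPullback.of_hasPullback g j
    have sqP : IsPullback (pullback.fst fst i) (pullback.snd fst i) fst i := IsPullback.of_hasPullback fst i
    have ha : IsThickMor (pullback.fst g j) := repWith_of_isPullback sqb.flip hj
    have hc : IsThickMor (pullback.fst fst i) := repWith_of_isPullback sqP.flip hi
    have hw : (pullback.fst fst i ≫ snd) ≫ g = (pullback.snd fst i ≫ f) ≫ j := by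
      rw [Category.assoc, Category.assoc, ← sq.w, ← w, ← Category.assoc, ← Category.assoc, sqP.w]
    have sqe : IsPullback (pullback.snd fst i) (sqb.lift _ _ hw) f (pullback.snd g j) := by
      refine IsPullback.of_bot ?_ (sqb.lift_snd _ _ hw).symm sqb.flip
      rw [show sqb.lift _ _ hw ≫ pullback.fst g j = pullback.fst fst i ≫ snd from sqb.lift_fst _ _ hw, ← w]
      exact sqP.flip.paste_vert sq
    refine (isQuasiCompactSp_thick_iff hc (isAlgSpace_pullback hY'.diag hX' hZ sq)).1 ?_
    exact hf (isAlgSpace_of_representable hZ ha.1) ((isQuasiCompactSp_thick_iff ha hZ).2 hqc) _ _ _ sqe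
  · intro hf' Z Z' hZ hqc g fst snd sq
    have sq' : IsPullback (pullback.fst f' (g ≫ j)) (pullback.snd f' (g ≫ j)) f' (g ≫ j) :=
      IsPullback.of_hasPullback _ _
    have hw : (fst ≫ i) ≫ f' = snd ≫ g ≫ j := by
      rw [Category.assoc, w, ← Category.assoc, sq.w, Category.assoc]
    have sqb : IsPullback fst snd (i ≫ f') (g ≫ j) := by
      rw [w]
      refine ⟨⟨by rw [← Category.assoc, sq.w, Category.assoc]⟩, ⟨PullbackCone.IsLimit.mk _
        (fun s => sq.lift s.fst s.snd ((cancel_mono j).1 (by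
          rw [Category.assoc, Category.assoc]; exact s.condition)))
        (fun s => sq.lift_fst _ _ _) (fun s => sq.lift_snd _ _ _)
        fun s m h₁ h₂ => sq.hom_ext (by rw [sq.lift_fst]; exact h₁) (by rw [sq.lift_snd]; exact h₂)⟩⟩
    have sqc : IsPullback fst (sq'.lift _ _ hw) i (pullback.fst f' (g ≫ j)) := by
      refine IsPullback.of_bot ?_ (sq'.lift_fst _ _ hw).symm sq'
      rw [show sq'.lift _ _ hw ≫ pullback.snd f' (g ≫ j) = snd from sq'.lift_snd _ _ hw]
      exact sqb
    refine (isQuasiCompactSp_thick_iff (repWith_of_isPullback sqc hi)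
      (isAlgSpace_pullback hY'.diag hX' hZ sq')).2 ?_
    exact hf' hZ hqc _ _ _ sq'

theorem isPullback_comp_mono {P : Sp S} {A B C D : Sp S} {f : A ⟶ C} {g : B ⟶ C} (j : C ⟶ D) [Mono j]
    {fst : P ⟶ A} {snd : P ⟶ B} (sq : IsPullback fst snd f g) : IsPullback fst snd (f ≫ j) (g ≫ j) :=
  ⟨⟨by rw [← Category.assoc, sq.w, Category.assoc]⟩, ⟨PullbackCone.IsLimit.mk _
    (fun s => sq.lift s.fst s.snd ((cancel_mono j).1 (by
      rw [Category.assoc, Category.assoc]; exact s.condition)))
    (fun s => sq.lift_fst _ _ _) (fun s => sq.lift_snd _ _ _)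
    fun s m h₁ h₂ => sq.hom_ext (by rw [sq.lift_fst]; exact h₁) (by rw [sq.lift_snd]; exact h₂)⟩⟩

/-- The diagonals of a morphism of thickenings form a morphism of thickenings. -/
theorem exists_thick_diagonal {i : X ⟶ X'} {j : Y ⟶ Y'} {f : X ⟶ Y} {f' : X' ⟶ Y'}
    (hi : IsThickMor i) (hj : IsThickMor j) (w : i ≫ f' = f ≫ j) :
    ∃ k : pullback f f ⟶ pullback f' f', IsThickMor k ∧
      i ≫ pullback.diagonal f' = pullback.diagonal f ≫ k := by
  have := mono_of_thick hj
  have sqA : IsPullback (pullback.fst f f) (pullback.snd f f) (i ≫ f') (i ≫ f') := by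
    rw [w]; exact isPullback_comp_mono j (IsPullback.of_hasPullback f f)
  have sq1 := IsPullback.of_hasPullback f' (i ≫ f')
  have sq2 := IsPullback.of_hasPullback f' f'
  have hw1 : (pullback.fst f f ≫ i) ≫ f' = pullback.snd f f ≫ i ≫ f' := by
    rw [Category.assoc]; exact sqA.w
  have hw2 : pullback.fst f' (i ≫ f') ≫ f' = (pullback.snd f' (i ≫ f') ≫ i) ≫ f' := by
    rw [Category.assoc]; exact sq1.w
  let k₁ : pullback f f ⟶ pullback f' (i ≫ f') := pullback.lift _ _ hw1
  let k₂ : pullback f' (i ≫ f') ⟶ pullback f' f' := pullback.lift _ _ hw2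
  have sqk₁ : IsPullback (pullback.fst f f) k₁ i (pullback.fst f' (i ≫ f')) := by
    refine IsPullback.of_bot ?_ (pullback.lift_fst _ _ hw1).symm sq1
    rw [show k₁ ≫ pullback.snd f' (i ≫ f') = pullback.snd f f from pullback.lift_snd _ _ hw1]
    exact sqA
  have sqk₂ : IsPullback (pullback.snd f' (i ≫ f')) k₂ i (pullback.snd f' f') := by
    refine IsPullback.of_bot ?_ (pullback.lift_snd _ _ hw2).symm sq2.flip
    rw [show k₂ ≫ pullback.fst f' f' = pullback.fst f' (i ≫ f') from pullback.lift_fst _ _ hw2]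
    exact sq1.flip
  refine ⟨k₁ ≫ k₂, thick_comp (repWith_of_isPullback sqk₁ hi) (repWith_of_isPullback sqk₂ hi), ?_⟩
  have e1 : k₁ ≫ pullback.fst f' (i ≫ f') = pullback.fst f f ≫ i := pullback.lift_fst _ _ hw1
  have e2 : k₁ ≫ pullback.snd f' (i ≫ f') = pullback.snd f f := pullback.lift_snd _ _ hw1
  have e3 : k₂ ≫ pullback.fst f' f' = pullback.fst f' (i ≫ f') := pullback.lift_fst _ _ hw2
  have e4 : k₂ ≫ pullback.snd f' f' = pullback.snd f' (i ≫ f') ≫ i := pullback.lift_snd _ _ hw2
  refine pullback.hom_ext ?_ ?_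
  · simp only [Category.assoc, pullback.diagonal_fst, Category.comp_id, e3, e1]
    rw [← Category.assoc, pullback.diagonal_fst, Category.id_comp]
  · simp only [Category.assoc, pullback.diagonal_snd, Category.comp_id, e4]
    rw [← Category.assoc k₁, e2, ← Category.assoc, pullback.diagonal_snd, Category.id_comp]

theorem isSeparatedMor_thick_iff {i : X ⟶ X'} {j : Y ⟶ Y'} {f : X ⟶ Y} {f' : X' ⟶ Y'} (hX' : IsAlgSpace X')
    (hY' : IsAlgSpace Y') (hi : IsThickMor i) (hj : IsThickMor j) (w : i ≫ f' = f ≫ j) :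
    IsSeparatedMor f ↔ IsSeparatedMor f' := by
  obtain ⟨k, hk, e⟩ := exists_thick_diagonal hi hj w
  rw [isSeparatedMor_iff_diagonal_univClosed (isAlgSpace_of_representable hX' hi.1),
    isSeparatedMor_iff_diagonal_univClosed hX']
  exact univClosed_thick_iff hX' (isAlgSpace_pullback' hY' hX' hX' f' f') hi hk e

theorem isQuasiSeparatedMor_thick_iff {i : X ⟶ X'} {j : Y ⟶ Y'} {f : X ⟶ Y} {f' : X' ⟶ Y'} (hX' : IsAlgSpace X')
    (hY' : IsAlgSpace Y') (hi : IsThickMor i) (hj : IsThickMor j) (w : i ≫ f' = f ≫ j) :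
    IsQuasiSeparatedMor f ↔ IsQuasiSeparatedMor f' := by
  obtain ⟨k, hk, e⟩ := exists_thick_diagonal hi hj w
  have h := quasiCompact_thick_iff hX' (isAlgSpace_pullback' hY' hX' hX' f' f') hi hk e
  exact ⟨fun h1 => repWith_quasiCompact_of_isQuasiCompactMor (representable_diagonal hX' f')
      (h.1 (isQuasiCompactMor_of_repWith h1)),
    fun h1 => repWith_quasiCompact_of_isQuasiCompactMor
      (representable_diagonal (isAlgSpace_of_representable hX' hi.1) f)
      (h.2 (isQuasiCompactMor_of_repWith h1))⟩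

end GrothLib.AlgSp
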