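import Groth.Agent.Lib.AlgSp.ThickScheme
import Groth.Agent.Lib.AlgSp.ThickTop
import Groth.Agent.Lib.Thickening.Morphisms
import Groth.Prelude.Def_AlgSp3

/-!
# Morphisms of thickenings: affine, integral, representable

* `isAffineMor_thick_iff`, `isIntegralMor_thick_iff`, `representable_thick_iff`.
-/

set_option autoImplicit false
universe u
open CategoryTheory CategoryTheory.Limits AlgebraicGeometry
set_option backward.isDefEq.respectTransparency false

namespace GrothLib.AlgSp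

open _root_.AlgSp

variable {S : Scheme.{u}} {X X' Y Y' : Sp S} {i : X ⟶ X'} {j : Y ⟶ Y'} {f : X ⟶ Y} {f' : X' ⟶ Y'}

theorem isPullback_of_comp_mono' {P A B C D : Sp S} {f : A ⟶ C} {g : B ⟶ C} {j : C ⟶ D} [Mono j]
    {fst : P ⟶ A} {snd : P ⟶ B} (sq : IsPullback fst snd (f ≫ j) (g ≫ j)) : IsPullback fst snd f g :=
  ⟨⟨(cancel_mono j).1 (by rw [Category.assoc, Category.assoc, sq.w])⟩, ⟨PullbackCone.IsLimit.mk _
    (fun s => sq.lift s.fst s.snd (by rw [← Category.assoc, s.condition, Category.assoc]))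
    (fun s => sq.lift_fst _ _ _) (fun s => sq.lift_snd _ _ _)
    fun s m h₁ h₂ => sq.hom_ext (by rw [sq.lift_fst]; exact h₁) (by rw [sq.lift_snd]; exact h₂)⟩⟩

/-- A fibre of `f` over a fibre of `f'` is a thickening. -/
theorem exists_fibre_thick (hY' : IsAlgSpace Y') (hX' : IsAlgSpace X') (hi : IsThickMor i) (hj : IsThickMor j)
    (w : i ≫ f' = f ≫ j) {Z : Over S} (g : (yon S).obj Z ⟶ Y') {W Z₀ : Over S} {z : Z₀ ⟶ Z}
    {g₀ : (yon S).obj Z₀ ⟶ Y} (sqZ : IsPullback g₀ ((yon S).map z) j g)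
    {k : W ⟶ Z₀} {fst : (yon S).obj W ⟶ X} (sqW : IsPullback fst ((yon S).map k) f g₀) :
    ∃ (P' : Sp S) (p : P' ⟶ X') (q : P' ⟶ (yon S).obj Z) (c : (yon S).obj W ⟶ P'), IsAlgSpace P' ∧
      IsPullback p q f' g ∧ IsThickMor c ∧ c ≫ q = (yon S).map (k ≫ z) := by
  obtain ⟨P', p, q, sqP⟩ : ∃ (P' : Sp S) (p : P' ⟶ X') (q : P' ⟶ (yon S).obj Z), IsPullback p q f' g :=
    ⟨_, _, _, IsPullback.of_hasPullback f' g⟩
  have hw : (fst ≫ i) ≫ f' = ((yon S).map k ≫ (yon S).map z) ≫ g := by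
    rw [Category.assoc, Category.assoc, w, ← Category.assoc, sqW.w, Category.assoc, sqZ.w]
  let c := sqP.lift _ _ hw
  haveI := mono_of_thick hj
  have sqc : IsPullback fst c i p := by
    refine IsPullback.of_bot ?_ (sqP.lift_fst _ _ hw).symm sqP
    rw [show c ≫ q = (yon S).map k ≫ (yon S).map z from sqP.lift_snd _ _ hw, w]
    exact sqW.paste_vert sqZ
  exact ⟨P', p, q, c, isAlgSpace_pullback hY'.diag hX' (IsAlgSpace.yon_obj _) sqP, sqP,
    repWith_of_isPullback sqc hi, (sqP.lift_snd _ _ hw).trans ((yon S).map_comp k z).symm⟩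

/-- A fibre of `f'` restricts to a fibre of `f`. -/
theorem exists_fibre_restrict (hi : IsThickMor i) (hj : IsThickMor j) (w : i ≫ f' = f ≫ j) {Z : Over S}
    (g : (yon S).obj Z ⟶ Y) {W : Over S} {k : W ⟶ Z} {fst : (yon S).obj W ⟶ X'}
    (sqW : IsPullback fst ((yon S).map k) f' (g ≫ j)) :
    ∃ (T : Over S) (t : T ⟶ W) (a : (yon S).obj T ⟶ X), IsClosedImmersion t.left ∧ Surjective t.left ∧
      IsPullback a ((yon S).map (t ≫ k)) f g := by
  obtain ⟨T, a, t, sqT⟩ := exists_isPullback_of_representable hi.1 fst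
  have ht := hi.2 fst a t sqT
  haveI := mono_of_thick hj
  refine ⟨T, t, a, ht.1, ht.2, isPullback_of_comp_mono' (j := j) ?_⟩
  rw [Functor.map_comp, ← w]
  exact (sqT.flip.paste_horiz sqW.flip).flip

/-- A morphism of thickenings is affine exactly when its restriction is. -/
theorem isAffineMor_thick_iff (hX' : IsAlgSpace X') (hY' : IsAlgSpace Y') (hi : IsThickMor i)
    (hj : IsThickMor j) (w : i ≫ f' = f ≫ j) : IsAffineMor f ↔ IsAffineMor f' := by
  constructor
  · intro hf Z hZ g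
    obtain ⟨Z₀, g₀, z, sqZ⟩ := exists_isPullback_of_representable hj.1 g
    haveI : IsClosedImmersion z.left := (hj.2 g g₀ z sqZ).1
    obtain ⟨W, k, fst, sqW, hW⟩ := hf (isAffine_of_isAffineHom z.left) g₀
    obtain ⟨P', p, q, c, hP', sqP, hc, -⟩ := exists_fibre_thick hY' hX' hi hj w g sqZ sqW
    obtain ⟨M, hM, ⟨e⟩⟩ := exists_affine_of_thick hP' hc
    obtain ⟨m, hm⟩ := (yon S).map_surjective (e.hom ≫ q)
    exact ⟨M, m, e.hom ≫ p, sqP.of_iso e.symm (Iso.refl _) (Iso.refl _) (Iso.refl _) (by simp) (by simp [hm])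
      (by simp) (by simp), hM⟩
  · intro hf' Z hZ g
    obtain ⟨W, k, fst, sqW, hW⟩ := hf' hZ (g ≫ j)
    obtain ⟨T, t, a, ht, -, sqT⟩ := exists_fibre_restrict hi hj w g sqW
    exact ⟨T, t ≫ k, a, sqT, isAffine_of_isAffineHom t.left⟩

/-- A morphism of thickenings is integral exactly when its restriction is. -/
theorem isIntegralMor_thick_iff (hX' : IsAlgSpace X') (hY' : IsAlgSpace Y') (hi : IsThickMor i)
    (hj : IsThickMor j) (w : i ≫ f' = f ≫ j) : IsIntegralMor f ↔ IsIntegralMor f' := by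
  constructor
  · intro hf Z hZ g
    obtain ⟨Z₀, g₀, z, sqZ⟩ := exists_isPullback_of_representable hj.1 g
    haveI : IsClosedImmersion z.left := (hj.2 g g₀ z sqZ).1
    obtain ⟨W, k, fst, sqW, hW, hk⟩ := hf (isAffine_of_isAffineHom z.left) g₀
    obtain ⟨P', p, q, c, hP', sqP, hc, hcq⟩ := exists_fibre_thick hY' hX' hi hj w g sqZ sqW
    obtain ⟨M, hM, ⟨e⟩⟩ := exists_affine_of_thick hP' hc
    obtain ⟨m, hm⟩ := (yon S).map_surjective (e.hom ≫ q)
    obtain ⟨d, hd⟩ := (yon S).map_surjective (c ≫ e.inv)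
    have sqe : IsPullback (𝟙 _) (c ≫ e.inv) c e.hom := IsPullback.of_horiz_isIso ⟨by simp⟩
    have hdt := (isThickMor_yon_map_iff d).1 (by rw [hd]; exact repWith_of_isPullback sqe hc)
    haveI := hdt.1
    haveI := hdt.2
    have hdm : d ≫ m = k ≫ z := (yon S).map_injective (by
      rw [Functor.map_comp, hd, hm, Category.assoc, e.inv_hom_id_assoc, hcq])
    refine ⟨M, m, e.hom ≫ p, sqP.of_iso e.symm (Iso.refl _) (Iso.refl _) (Iso.refl _) (by simp) (by simp [hm])
      (by simp) (by simp), hM, (GrothLib.Thickening.isIntegralHom_comp_iff d.left m.left).1 ?_⟩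
    rw [← Over.comp_left, hdm, Over.comp_left]
    infer_instance
  · intro hf' Z hZ g
    obtain ⟨W, k, fst, sqW, hW, hk⟩ := hf' hZ (g ≫ j)
    obtain ⟨T, t, a, ht, -, sqT⟩ := exists_fibre_restrict hi hj w g sqW
    exact ⟨T, t ≫ k, a, sqT, isAffine_of_isAffineHom t.left,
      inferInstanceAs (IsIntegralHom (t.left ≫ k.left))⟩

/-- A morphism of thickenings is representable exactly when its restriction is. -/
theorem representable_thick_iff (hX' : IsAlgSpace X') (hY' : IsAlgSpace Y') (hi : IsThickMor i)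
    (hj : IsThickMor j) (w : i ≫ f' = f ≫ j) : Representable f ↔ Representable f' := by
  constructor
  · intro hf Z g
    obtain ⟨Z₀, g₀, z, sqZ⟩ := exists_isPullback_of_representable hj.1 g
    obtain ⟨W, fst, k, sqW⟩ := exists_isPullback_of_representable hf g₀
    obtain ⟨P', p, q, c, hP', sqP, hc, -⟩ := exists_fibre_thick hY' hX' hi hj w g sqZ sqW
    obtain ⟨M, ⟨e⟩⟩ := exists_scheme_of_thick hP' hc
    obtain ⟨m, hm⟩ := (yon S).map_surjective (e.hom ≫ q)
    exact ⟨M, m, e.hom ≫ p, sqP.of_iso e.symm (Iso.refl _) (Iso.refl _) (Iso.refl _) (by simp) (by simp [hm])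
      (by simp) (by simp)⟩
  · intro hf' Z g
    obtain ⟨W, fst, k, sqW⟩ := exists_isPullback_of_representable hf' (g ≫ j)
    obtain ⟨T, t, a, -, -, sqT⟩ := exists_fibre_restrict hi hj w g sqW
    exact ⟨T, t ≫ k, a, sqT⟩

end GrothLib.AlgSp
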