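import Groth.Agent.Lib.AlgSp.UHEtale
import Groth.Agent.Lib.AlgSp.AffineDescent
import Groth.Agent.Lib.AlgSp.FpqcAffine
import Groth.Agent.Lib.AlgSp.ThickTop
import Groth.Agent.Lib.AlgSp.RedInduced
import Groth.Agent.Lib.AlgSp.NilInvariant
import Mathlib.AlgebraicGeometry.Morphisms.FlatDescent

/-!
# Affine presentations of algebraic spaces and their invariant ideals

* `AffPres`: an etale chart `Spec B` with affine relation `Spec C`;
* `AffPres.relData`: the algebraic properties of the relation;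
* `exists_closed_pres`: invariant ideals cut out closed subspaces with presentations;
* `AffPres.exists_affine_of_model`: a thickening of an affine scheme is affine once the etale chart descends.
-/

set_option autoImplicit false
universe u
open CategoryTheory CategoryTheory.Limits AlgebraicGeometry TensorProduct
set_option backward.isDefEq.respectTransparency false

namespace GrothLib.AlgSp

open _root_.AlgSp NilContent

variable {S : Scheme.{u}}

/-- The morphism over `S` of spectra given by a ring map. -/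
noncomputable abbrev specMap {B D : CommRingCat.{u}} {sB : Spec B ⟶ S} {sD : Spec D ⟶ S} (g : B ⟶ D)
    (h : Spec.map g ≫ sB = sD) : Over.mk sD ⟶ Over.mk sB :=
  Over.homMk (Spec.map g) h

/-- The ring map of a morphism to an affine scheme. -/
noncomputable def gam {T : Scheme.{u}} {B : CommRingCat.{u}} (g : T ⟶ Spec B) : B ⟶ Γ(T, ⊤) :=
  (Scheme.ΓSpecIso B).inv ≫ g.appTop

theorem toSpecΓ_gam {T : Scheme.{u}} {B : CommRingCat.{u}} (g : T ⟶ Spec B) :
    T.toSpecΓ ≫ Spec.map (gam g) = g := by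
  rw [gam, Spec.map_comp, ← Category.assoc, ← Scheme.toSpecΓ_naturality, Category.assoc,
    toSpecΓ_SpecMap_ΓSpecIso_inv, Category.comp_id]

theorem gam_comp {T : Scheme.{u}} {B D : CommRingCat.{u}} (h : T ⟶ Spec D) (φ : B ⟶ D) :
    gam (h ≫ Spec.map φ) = φ ≫ gam h := by
  rw [gam, gam, Scheme.Hom.comp_appTop, ← Category.assoc, ← Category.assoc, Scheme.ΓSpecIso_inv_naturality]

theorem exists_specMap {B D : CommRingCat.{u}} {sB : Spec B ⟶ S} {sD : Spec D ⟶ S}
    (f : Over.mk sD ⟶ Over.mk sB) : ∃ (g : B ⟶ D) (h : Spec.map g ≫ sB = sD), f = specMap g h := by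
  obtain ⟨g, hg⟩ := Spec.map_surjective f.left
  exact ⟨g, by rw [hg]; exact Over.w f, Over.OverMorphism.ext hg.symm⟩

/-- The quotient ring as an object. -/
abbrev quotRing {B : CommRingCat.{u}} (K : Ideal B) : CommRingCat.{u} := CommRingCat.of (B ⧸ K)

/-- The quotient map. -/
abbrev quotMap {B : CommRingCat.{u}} (K : Ideal B) : B ⟶ quotRing K := CommRingCat.ofHom (Ideal.Quotient.mk K)

/-- The closed immersion of a quotient. -/
noncomputable abbrev quotι {B : CommRingCat.{u}} (K : Ideal B) (sB : Spec B ⟶ S) :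
    Over.mk (Spec.map (quotMap K) ≫ sB) ⟶ Over.mk sB := specMap (quotMap K) rfl

theorem isClosedImmersion_quotι {B : CommRingCat.{u}} (K : Ideal B) (sB : Spec B ⟶ S) :
    IsClosedImmersion (quotι K sB).left :=
  IsClosedImmersion.spec_of_surjective (quotMap K) Ideal.Quotient.mk_surjective

theorem mono_quotι {B : CommRingCat.{u}} (K : Ideal B) (sB : Spec B ⟶ S) : Mono (quotι K sB) := by
  haveI := isClosedImmersion_quotι K sB
  exact (Over.forget S).mono_of_mono_map (inferInstanceAs (Mono (quotι K sB).left))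

theorem exists_factor_quot_iff {B : CommRingCat.{u}} (K : Ideal B) (sB : Spec B ⟶ S) {T : Over S}
    (g : T ⟶ Over.mk sB) : (∃ g', g' ≫ quotι K sB = g) ↔ ∀ k ∈ K, (gam g.left).hom k = 0 := by
  constructor
  · rintro ⟨g', rfl⟩ k hk
    rw [Over.comp_left]
    show (gam (g'.left ≫ Spec.map (quotMap K))).hom k = 0
    rw [gam_comp, CommRingCat.comp_apply]
    show (gam g'.left).hom (Ideal.Quotient.mk K k) = 0
    rw [Ideal.Quotient.eq_zero_iff_mem.2 hk, map_zero]
  · intro h
    let m : quotRing K ⟶ Γ(T.left, ⊤) := CommRingCat.ofHom (Ideal.Quotient.lift K (gam g.left).hom h)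
    have hm : quotMap K ≫ m = gam g.left := CommRingCat.hom_ext (RingHom.ext fun x => rfl)
    have hm' : (T.left.toSpecΓ ≫ Spec.map m) ≫ Spec.map (quotMap K) = g.left := by
      rw [Category.assoc, ← Spec.map_comp, hm, toSpecΓ_gam]
    refine ⟨Over.homMk (T.left.toSpecΓ ≫ Spec.map m) ?_, Over.OverMorphism.ext hm'⟩
    show (T.left.toSpecΓ ≫ Spec.map m) ≫ Spec.map (quotMap K) ≫ sB = T.hom
    rw [← Category.assoc, hm']
    exact Over.w g

/-- A subscheme of a chart stable under the relation descends. -/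
theorem exists_closed_subspace_of_stable {X : Sp S} (hX : IsAlgSpace X) {U C : Over S} {a : (yon S).obj U ⟶ X}
    (hae : RepWith @Etale a) (has : RepWith @Surjective a) (ι : C ⟶ U) [IsClosedImmersion ι.left]
    (hfac : ∀ {T : Over S} (x y : T ⟶ U), (yon S).map x ≫ a = (yon S).map y ≫ a →
      ∀ x' : T ⟶ C, x' ≫ ι = x → ∃ y' : T ⟶ C, y' ≫ ι = y) :
    ∃ (Z : Sp S) (i : Z ⟶ X) (p : (yon S).obj C ⟶ Z),
      IsAlgSpace Z ∧ RepWith @IsClosedImmersion i ∧ IsPullback p ((yon S).map ι) i a := by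
  haveI : Sheaf.IsLocallySurjective a := chart_isLocallySurjective hae has
  let q := (yon S).map ι ≫ a
  let p := Limits.factorThruImage q
  let i := Limits.image.ι q
  haveI : Sheaf.IsLocallySurjective p := (Sheaf.isLocallySurjective_iff_epi p).2 inferInstance
  haveI : Mono ι.left := inferInstance
  haveI : Mono ι := (Over.forget S).mono_of_mono_map ‹Mono ι.left›
  have w : p ≫ i = (yon S).map ι ≫ a := Limits.image.fac q
  have sqC : IsPullback p ((yon S).map ι) i a := isPullback_of_yon w fun T₀ z l hzl => by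
    obtain ⟨l, rfl⟩ := (yon S).map_surjective l
    obtain ⟨V, c, y, hcf, hcp, hcs, hy⟩ := exists_fppf_lift p z
    obtain ⟨y, rfl⟩ := (yon S).map_surjective y
    haveI := hcf
    haveI := hcp
    haveI := hcs
    obtain ⟨y', hy'⟩ := hfac (y ≫ ι) (c ≫ l) (by
      rw [Functor.map_comp, Category.assoc, ← w, reassoc_of% hy, hzl, ← Category.assoc, ← Functor.map_comp]) y rfl
    obtain ⟨e, he⟩ := exists_factor_of_fppf_cover ι l c y' hy'
    refine ⟨(yon S).map e, ⟨?_, by rw [← Functor.map_comp, he]⟩, ?_⟩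
    · rw [← cancel_mono i, Category.assoc, w, ← Category.assoc, ← Functor.map_comp, he, hzl]
    · rintro e' ⟨-, he'⟩
      obtain ⟨e', rfl⟩ := (yon S).map_surjective e'
      rw [← Functor.map_comp] at he'
      rw [(cancel_mono ι).1 (((yon S).map_injective he').trans he.symm)]
  have hi : RepWith @IsClosedImmersion i := repWith_of_base_isImmersion a sqC
    (le_isImmersion_of_cases (Or.inl rfl)).1 (le_isImmersion_of_cases (Or.inl rfl)).2
    ((repWith_yon_map_iff _ _).2 ‹IsClosedImmersion ι.left›)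
  exact ⟨_, i, p, isAlgSpace_of_representable hX hi.1, hi, sqC⟩

section RelAlgebra

variable {B C : Type u} [CommRing B] [CommRing C] [Algebra B C] [Module.Flat B C]

theorem invariant_comap_aux (r : B →+* C) {Q : Type u} [CommRing Q] [Algebra B Q] (p₁ : C →+* Q)
    (hp : p₁.comp r = algebraMap B Q)
    (htrans : ∀ (T : Type u) [CommRing T] (p q : C →+* T), p.comp r = q.comp (algebraMap B C) →
      ∃ c : C →+* T, c.comp (algebraMap B C) = p.comp (algebraMap B C) ∧ c.comp r = q.comp r)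
    (E : Ideal B) (hE : ∀ k ∈ E, p₁ (algebraMap B C k) = 0) (y : B) (hy : r y ∈ E.map (algebraMap B C)) :
    r y ∈ (RingHom.ker (algebraMap B Q)).map (algebraMap B C) := by
  let p : C →+* Q ⊗[B] C := Algebra.TensorProduct.includeLeftRingHom.comp p₁
  let q : C →+* Q ⊗[B] C := (Algebra.TensorProduct.includeRight : C →ₐ[B] Q ⊗[B] C).toRingHom
  obtain ⟨c, hc, hc'⟩ := htrans _ p q (RingHom.ext fun b => by
    show p₁ (r b) ⊗ₜ[B] (1 : C) = (1 : Q) ⊗ₜ[B] algebraMap B C b
    rw [show p₁ (r b) = algebraMap B Q b from RingHom.congr_fun hp b, Algebra.algebraMap_eq_smul_one,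
      smul_tmul, Algebra.algebraMap_eq_smul_one])
  have hle : E.map (algebraMap B C) ≤ RingHom.ker c := Ideal.map_le_iff_le_comap.2 fun k hk => by
    show c (algebraMap B C k) = 0
    rw [show c (algebraMap B C k) = p (algebraMap B C k) from RingHom.congr_fun hc k]
    show p₁ (algebraMap B C k) ⊗ₜ[B] (1 : C) = 0
    rw [hE k hk, zero_tmul]
  have h1 : q (r y) = 0 := (RingHom.congr_fun hc' y).symm.trans (hle hy)
  refine mem_map_ker (Algebra.linearMap B Q) _ ?_
  rw [LinearMap.lTensor_tmul, Algebra.linearMap_apply, map_one]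
  have h2 := congrArg (TensorProduct.comm B Q C) h1
  rw [map_zero] at h2
  exact h2

theorem invariant_comap (r : B →+* C)
    (htrans : ∀ (T : Type u) [CommRing T] (p q : C →+* T), p.comp r = q.comp (algebraMap B C) →
      ∃ c : C →+* T, c.comp (algebraMap B C) = p.comp (algebraMap B C) ∧ c.comp r = q.comp r)
    (E : Ideal B) : Invariant r ((E.map (algebraMap B C)).comap r) := by
  let m : C →+* C ⧸ E.map (algebraMap B C) := Ideal.Quotient.mk _
  rw [Invariant, Ideal.map_le_iff_le_comap]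
  intro y hy
  have h := @invariant_comap_aux B C _ _ _ _ r (C ⧸ E.map (algebraMap B C)) _ (m.comp r).toAlgebra m rfl
    htrans E (fun k hk => Ideal.Quotient.eq_zero_iff_mem.2 (Ideal.mem_map_of_mem _ hk)) y hy
  have hker : RingHom.ker (m.comp r) = (E.map (algebraMap B C)).comap r := by
    rw [← RingHom.comap_ker, Ideal.mk_ker]
  exact hker ▸ h

end RelAlgebra

/-- An etale chart `Spec B` with affine relation `Spec C`. -/
structure AffPres (X : Sp S) where
  B : CommRingCat.{u}
  C : CommRingCat.{u}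
  sB : Spec B ⟶ S
  l : B ⟶ C
  r : B ⟶ C
  w : Spec.map r ≫ sB = Spec.map l ≫ sB
  a : (yon S).obj (Over.mk sB) ⟶ X
  ae : RepWith @Etale a
  asurj : RepWith @Surjective a
  sq : IsPullback ((yon S).map (specMap l (rfl : Spec.map l ≫ sB = _))) ((yon S).map (specMap r w)) a a

namespace AffPres

variable {X : Sp S} (P : AffPres X)

theorem locallySurjective : Sheaf.IsLocallySurjective P.a := chart_isLocallySurjective P.ae P.asurj

theorem exists_of_comp_eq {D : CommRingCat.{u}} {sD : Spec D ⟶ S} {x y : P.B ⟶ D} (hx : Spec.map x ≫ P.sB = sD)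
    (hy : Spec.map y ≫ P.sB = sD) (e : (yon S).map (specMap x hx) ≫ P.a = (yon S).map (specMap y hy) ≫ P.a) :
    ∃ c : P.C ⟶ D, P.l ≫ c = x ∧ P.r ≫ c = y := by
  obtain ⟨m, hm⟩ := (yon S).map_surjective (P.sq.lift _ _ e)
  obtain ⟨c, hc, rfl⟩ := exists_specMap m
  refine ⟨c, Spec.map_injective ?_, Spec.map_injective ?_⟩
  · have h1 : specMap c hc ≫ specMap P.l rfl = specMap x hx := (yon S).map_injective (by
      rw [Functor.map_comp, hm, P.sq.lift_fst])
    rw [Spec.map_comp]; exact congrArg (·.left) h1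
  · have h1 : specMap c hc ≫ specMap P.r P.w = specMap y hy := (yon S).map_injective (by
      rw [Functor.map_comp, hm, P.sq.lift_snd])
    rw [Spec.map_comp]; exact congrArg (·.left) h1

theorem str_eq {D : CommRingCat.{u}} (c : P.C ⟶ D) :
    Spec.map (P.r ≫ c) ≫ P.sB = Spec.map (P.l ≫ c) ≫ P.sB := by
  rw [Spec.map_comp, Spec.map_comp, Category.assoc, Category.assoc, P.w]

theorem comp_eq {D : CommRingCat.{u}} {sD : Spec D ⟶ S} {x y : P.B ⟶ D} (hx : Spec.map x ≫ P.sB = sD)
    (hy : Spec.map y ≫ P.sB = sD) (c : P.C ⟶ D) (hl : P.l ≫ c = x) (hr : P.r ≫ c = y) :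
    (yon S).map (specMap x hx) ≫ P.a = (yon S).map (specMap y hy) ≫ P.a := by
  subst hl hr
  have hc : Spec.map c ≫ (Spec.map P.l ≫ P.sB) = sD := by rw [← hx, Spec.map_comp, Category.assoc]
  have e₁ : specMap (P.l ≫ c) hx = specMap c hc ≫ specMap P.l rfl := Over.OverMorphism.ext (Spec.map_comp _ _)
  have e₂ : specMap (P.r ≫ c) hy = specMap c hc ≫ specMap P.r P.w := Over.OverMorphism.ext (Spec.map_comp _ _)
  rw [e₁, e₂, Functor.map_comp, Functor.map_comp, Category.assoc, Category.assoc, P.sq.w]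

theorem rel_trans {D : CommRingCat.{u}} (c₁ c₂ : P.C ⟶ D) (h : P.r ≫ c₁ = P.l ≫ c₂) :
    ∃ c : P.C ⟶ D, P.l ≫ c = P.l ≫ c₁ ∧ P.r ≫ c = P.r ≫ c₂ := by
  let sD := Spec.map (P.l ≫ c₁) ≫ P.sB
  have h₁ : Spec.map (P.r ≫ c₁) ≫ P.sB = sD := P.str_eq c₁
  have h₂ : Spec.map (P.l ≫ c₂) ≫ P.sB = sD := h ▸ h₁
  have h₃ : Spec.map (P.r ≫ c₂) ≫ P.sB = sD := (P.str_eq c₂).trans h₂
  refine P.exists_of_comp_eq (sD := sD) rfl h₃ ?_
  rw [P.comp_eq rfl h₁ c₁ rfl rfl, ← P.comp_eq h₂ h₃ c₂ rfl rfl]
  congr 2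
  exact Over.OverMorphism.ext (by show Spec.map _ = Spec.map _; rw [h])

theorem rel_symm {D : CommRingCat.{u}} (c : P.C ⟶ D) : ∃ c' : P.C ⟶ D, P.l ≫ c' = P.r ≫ c ∧ P.r ≫ c' = P.l ≫ c := by
  let sD := Spec.map (P.l ≫ c) ≫ P.sB
  exact P.exists_of_comp_eq (sD := sD) (P.str_eq c) rfl (P.comp_eq rfl (P.str_eq c) c rfl rfl).symm

theorem rel_refl {D : CommRingCat.{u}} (x : P.B ⟶ D) : ∃ c : P.C ⟶ D, P.l ≫ c = x ∧ P.r ≫ c = x :=
  P.exists_of_comp_eq (sD := Spec.map x ≫ P.sB) rfl rfl rfl

theorem hext {D : CommRingCat.{u}} {c c' : P.C ⟶ D} (hl : P.l ≫ c = P.l ≫ c') (hr : P.r ≫ c = P.r ≫ c') :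
    c = c' := by
  have hc : Spec.map c ≫ (Spec.map P.l ≫ P.sB) = Spec.map (P.l ≫ c) ≫ P.sB := by
    rw [Spec.map_comp, Category.assoc]
  have hc' : Spec.map c' ≫ (Spec.map P.l ≫ P.sB) = Spec.map (P.l ≫ c) ≫ P.sB := by
    rw [hl, Spec.map_comp, Category.assoc]
  have e : specMap c hc = specMap c' hc' := (yon S).map_injective (P.sq.hom_ext
    (by
      rw [← Functor.map_comp, ← Functor.map_comp]
      refine congrArg _ (Over.OverMorphism.ext ?_)
      show Spec.map c ≫ Spec.map P.l = Spec.map c' ≫ Spec.map P.l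
      rw [← Spec.map_comp, ← Spec.map_comp, hl])
    (by
      rw [← Functor.map_comp, ← Functor.map_comp]
      refine congrArg _ (Over.OverMorphism.ext ?_)
      show Spec.map c ≫ Spec.map P.r = Spec.map c' ≫ Spec.map P.r
      rw [← Spec.map_comp, ← Spec.map_comp, hr]))
  exact Spec.map_injective (congrArg (·.left) e)

theorem etale_l : P.l.hom.Etale := by
  have h : Etale (Spec.map P.l) := (repWith_yon_map_iff _ _).1 (repWith_of_isPullback sq_flip P.ae)
  exact (HasRingHomProperty.Spec_iff (P := @Etale)).1 h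
where
  sq_flip : IsPullback ((yon S).map (specMap P.r P.w)) ((yon S).map (specMap P.l rfl)) P.a P.a := P.sq.flip

theorem surjective_l : Function.Surjective (PrimeSpectrum.comap P.l.hom) := by
  have h : Surjective (Spec.map P.l) := (repWith_yon_map_iff _ _).1 (repWith_of_isPullback P.sq.flip P.asurj)
  exact h.surj

/-- A map from the chart equalising the relation descends. -/
theorem exists_desc (hX : IsAlgSpace X) {T : Over S} (g : Over.mk P.sB ⟶ T)
    (h : specMap P.l rfl ≫ g = specMap P.r P.w ≫ g) : ∃ f : X ⟶ (yon S).obj T, P.a ≫ f = (yon S).map g := by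
  have := P.locallySurjective
  have := IsRegularEpiCategory.regularEpiOfEpi (C := Sp S) P.a
  exact IsRegularEpi.exists_of_isKernelPair P.a P.sq ((yon S).map g) (by
    rw [← Functor.map_comp, ← Functor.map_comp, h])

/-- The relation as an algebra. -/
theorem invariant_iff (K : Ideal P.B) :
    letI := P.l.hom.toAlgebra
    Invariant P.r.hom K ↔ K.map P.r.hom = K.map P.l.hom := by
  letI := P.l.hom.toAlgebra
  refine ⟨fun h => le_antisymm h ?_, fun h => le_of_eq h⟩
  obtain ⟨σ, hl, hr⟩ := P.rel_symm (𝟙 P.C)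
  rw [Category.comp_id] at hl hr
  have h1 := Ideal.map_mono (f := σ.hom) h
  rw [Ideal.map_map, Ideal.map_map] at h1
  rwa [show σ.hom.comp P.r.hom = P.l.hom from congrArg (·.hom) hr,
    show σ.hom.comp (algebraMap P.B P.C) = P.r.hom from congrArg (·.hom) hl] at h1

theorem relData :
    letI := P.l.hom.toAlgebra
    RelData P.r.hom := by
  letI := P.l.hom.toAlgebra
  haveI : Algebra.Etale P.B P.C := RingHom.etale_algebraMap.1 P.etale_l
  haveI : Module.Flat P.B P.C := inferInstance
  refine ⟨fun E => invariant_comap _ (fun T _ p q h => ?_) E, ?_⟩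
  · obtain ⟨c, hl, hr⟩ := P.rel_trans (D := CommRingCat.of T) (CommRingCat.ofHom p) (CommRingCat.ofHom q)
      (CommRingCat.hom_ext h)
    exact ⟨c.hom, congrArg (·.hom) hl, congrArg (·.hom) hr⟩
  · obtain ⟨e, hl, hr⟩ := P.rel_refl (𝟙 P.B)
    exact ⟨e.hom, congrArg (·.hom) hl, congrArg (·.hom) hr⟩

end AffPres

end GrothLib.AlgSp
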