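import Groth.Agent.Lib.AlgSp.UHEtale
import Groth.Agent.Lib.AlgSp.QuotSpace
import Groth.Agent.Lib.AlgSp.EtSmLocality
import Groth.Agent.Lib.AlgSp.FppfCover
import Groth.Agent.Lib.AlgSp.FpqcProps
import Groth.Prelude.Def_AlgSpEt

/-!
# Etale spaces over a universal homeomorphism: essential surjectivity

* `exists_etale_space_lift`: a space etale over the source of an integral universal homeomorphism
  is the base change of a space etale over the target.
-/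

set_option autoImplicit false
universe u
open CategoryTheory CategoryTheory.Limits AlgebraicGeometry
set_option backward.isDefEq.respectTransparency false
set_option maxHeartbeats 1600000

namespace GrothLib.AlgSp

open _root_.AlgSp

variable {S : Scheme.{u}} {X Y V : Sp S}

/-- The lifted chart with its relation. -/
theorem exists_etale_space_lift (hX : IsAlgSpace X) (hY : IsAlgSpace Y) (hV : IsAlgSpace V) {f : X ⟶ Y}
    (hf : IsIntUH f) {b : V ⟶ X} (hb : IsEtaleMor b) :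
    ∃ (Q : Sp S) (q : Q ⟶ Y) (c : V ⟶ Q), IsAlgSpace Q ∧ IsEtaleMor q ∧ IsPullback b c f q := by
  have hbl := locP_of_isEtaleMor hX hb
  -- the lift of a chart
  obtain ⟨U, a, ae, as⟩ := hY.atlas
  obtain ⟨W, w, k, sqW⟩ := exists_isPullback_of_representable hf.1.1 a
  have hk : IsIntUH ((yon S).map k) := hf.of_isPullback sqW
  have we : RepWith @Etale w := repWith_of_isPullback sqW.flip ae
  have ws : RepWith @Surjective w := repWith_of_isPullback sqW.flip as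
  obtain ⟨E, b₁, e, b₁e, hb₁, hb₁s⟩ := exists_chart_over hV hX b w we
  have b₁s := hb₁s ws
  haveI : Etale e.left := hbl b₁ w e b₁e we hb₁
  obtain ⟨E', e', el, he', sqe⟩ := exists_scheme_lift k hk e
  let a₁ : (yon S).obj E' ⟶ Y := (yon S).map e' ≫ a
  have a₁e : RepWith @Etale a₁ := repWith_comp ((repWith_yon_map_iff _ e').2 he') ae
  have ha₁ : IsEtaleMor a₁ := isEtaleMor_of_repWith a₁ a₁e
  have sqE : IsPullback ((yon S).map e ≫ w) ((yon S).map el) f a₁ := (sqe.flip.paste_vert sqW.flip).flip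
  have hel : IsIntUH ((yon S).map el) := hf.of_isPullback sqE
  -- the lift of the relation
  obtain ⟨F₂, d₁, d₂, sqF⟩ := exists_isPullback_yon hV.diag b₁ b₁
  haveI : Etale d₁.left := b₁e.2 _ _ _ sqF.flip
  obtain ⟨G₂, δ, l₂, hδ, sqδ⟩ := exists_scheme_lift el hel d₁
  let a₂ : (yon S).obj G₂ ⟶ Y := (yon S).map δ ≫ a₁
  have a₂e : RepWith @Etale a₂ := repWith_comp ((repWith_yon_map_iff _ δ).2 hδ) a₁e
  have ha₂ : IsEtaleMor a₂ := isEtaleMor_of_repWith a₂ a₂e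
  have sq₂ : IsPullback ((yon S).map d₁ ≫ (yon S).map e ≫ w) ((yon S).map l₂) f a₂ :=
    (sqδ.flip.paste_vert sqE.flip).flip
  have hVA := fun T => IsAlgSpace.yon_obj (S := S) T
  have hd : (yon S).map d₂ ≫ (yon S).map e ≫ w = (yon S).map d₁ ≫ (yon S).map e ≫ w := by
    rw [← hb₁, ← Category.assoc, ← Category.assoc, sqF.w]
  obtain ⟨s, ⟨hsa, hsl⟩, -⟩ := existsUnique_lift_hom hY (hVA G₂) (hVA E') (hVA F₂) hf ha₁ sq₂ sqE
    ((yon S).map d₂) hd
  let t : (yon S).obj G₂ ⟶ (yon S).obj E' := (yon S).map δ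
  have hta : t ≫ a₁ = a₂ := rfl
  have htl : (yon S).map l₂ ≫ t = (yon S).map d₁ ≫ (yon S).map el := sqδ.w.symm
  -- the pair is a monomorphism
  obtain ⟨M, m₁, m₂, sqM⟩ : ∃ (M : Sp S) (m₁ : M ⟶ (yon S).obj E') (m₂ : M ⟶ (yon S).obj E'),
      IsPullback m₁ m₂ a₁ a₁ := ⟨_, _, _, IsPullback.of_hasPullback a₁ a₁⟩
  have hM : IsAlgSpace M := isAlgSpace_pullback hY.diag (hVA E') (hVA E') sqM
  let j : (yon S).obj G₂ ⟶ M := sqM.lift t s (hta.trans hsa.symm)
  have ha₁l := locP_of_isEtaleMor hY ha₁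
  have hje : LocP @Etale j := by
    refine EtLocal.locP_cancel EtLocal.etale
      (fun A B C f g h1 h2 => by haveI := h1; haveI := h2; exact Etale.of_comp f g) (hVA G₂) hM (hVA E')
      (g := m₁) ?_ (EtLocal.etale.locP_of_isPullback (hVA E') hY (hVA E') sqM.flip ha₁l)
    rw [sqM.lift_fst]
    exact EtLocal.locP_of_repWith .etale (hVA E') ((repWith_yon_map_iff _ δ).2 hδ)
  obtain ⟨N, n₁, n₂, sqN⟩ : ∃ (N : Sp S) (n₁ : N ⟶ X) (n₂ : N ⟶ M), IsPullback n₁ n₂ f (m₁ ≫ a₁) :=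
    ⟨_, _, _, IsPullback.of_hasPullback f (m₁ ≫ a₁)⟩
  have hN : IsAlgSpace N := isAlgSpace_pullback hY.diag hX hM sqN
  let j' : (yon S).obj F₂ ⟶ N := sqN.lift ((yon S).map d₁ ≫ (yon S).map e ≫ w) ((yon S).map l₂ ≫ j) (by
    rw [Category.assoc ((yon S).map l₂), sqM.lift_fst_assoc, hta, sq₂.w])
  have sqj : IsPullback ((yon S).map l₂) j' j n₂ := by
    refine (IsPullback.of_right (h₁₁ := j') (h₁₂ := n₁) ?_ (sqN.lift_snd _ _ _) sqN).flip
    rw [sqN.lift_fst, sqM.lift_fst_assoc, hta]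
    exact sq₂
  haveI : Mono j' := ⟨fun {T} x y hxy => by
    have h1 : ∀ z : T ⟶ (yon S).obj F₂, (z ≫ (yon S).map d₁) ≫ (yon S).map e ≫ w = (z ≫ j') ≫ n₁ := fun z => by
      rw [Category.assoc z j', sqN.lift_fst, Category.assoc]
    have h2 : ∀ z : T ⟶ (yon S).obj F₂, (z ≫ (yon S).map d₁) ≫ (yon S).map el = ((z ≫ j') ≫ n₂) ≫ m₁ := fun z => by
      rw [Category.assoc z j', sqN.lift_snd, Category.assoc, Category.assoc, Category.assoc, sqM.lift_fst, htl]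
    have h3 : ∀ z : T ⟶ (yon S).obj F₂, (z ≫ (yon S).map d₂) ≫ (yon S).map el = ((z ≫ j') ≫ n₂) ≫ m₂ := fun z => by
      rw [Category.assoc z j', sqN.lift_snd, Category.assoc, Category.assoc, Category.assoc, sqM.lift_snd, hsl]
    refine sqF.hom_ext (sqE.hom_ext ?_ ?_) (sqE.hom_ext ?_ ?_)
    · rw [h1, h1, hxy]
    · rw [h2, h2, hxy]
    · rw [Category.assoc x, Category.assoc y, hd, ← Category.assoc x, ← Category.assoc y, h1, h1, hxy]
    · rw [h3, h3, hxy]⟩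
  have hn₂ : IsSurjectiveMor n₂ := (hf.of_isPullback sqN).2.2
  haveI : Mono j := mono_of_unramified_univInjective (hVA G₂) hM
    (fun A B p q h hp hq hc => by
      haveI : Etale h.left := hje p q h hp hq hc
      exact ⟨inferInstance, inferInstance⟩)
    (univInjective_of_surjective_bc hM hN hn₂ sqj (isUnivInjectiveMor_of_mono j'))
  have hinj : ∀ {T : Sp S} (r r' : T ⟶ (yon S).obj G₂), r ≫ t = r' ≫ t → r ≫ s = r' ≫ s → r = r' :=
    fun r r' h₁ h₂ => (cancel_mono j).1 (sqM.hom_ext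
      (by rw [Category.assoc, Category.assoc, sqM.lift_fst, h₁])
      (by rw [Category.assoc, Category.assoc, sqM.lift_snd, h₂]))
  -- reflexivity and symmetry
  let ε : (yon S).obj E ⟶ (yon S).obj F₂ := sqF.lift (𝟙 _) (𝟙 _) rfl
  obtain ⟨ρ, ⟨hρa, hρl⟩, -⟩ := existsUnique_lift_hom hY (hVA E') (hVA G₂) (hVA E) hf ha₂ sqE sq₂ ε
    (by rw [sqF.lift_fst_assoc, Category.id_comp])
  have uniqE : ∀ φ : (yon S).obj E' ⟶ (yon S).obj E', φ ≫ a₁ = a₁ → (yon S).map el ≫ φ = (yon S).map el →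
      φ = 𝟙 _ := fun φ h₁ h₂ => (existsUnique_lift_hom hY (hVA E') (hVA E') (hVA E) hf ha₁ sqE sqE (𝟙 _)
        (Category.id_comp _)).unique ⟨h₁, h₂.trans (Category.id_comp _).symm⟩
        ⟨Category.id_comp _, by rw [Category.comp_id, Category.id_comp]⟩
  have hρt : ρ ≫ t = 𝟙 _ := uniqE _ (by rw [Category.assoc, hta, hρa])
    (by rw [← Category.assoc, hρl, Category.assoc, htl, sqF.lift_fst_assoc, Category.id_comp])
  have hρs : ρ ≫ s = 𝟙 _ := uniqE _ (by rw [Category.assoc, hsa, hρa])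
    (by rw [← Category.assoc, hρl, Category.assoc, hsl, sqF.lift_snd_assoc, Category.id_comp])
  let τ : (yon S).obj F₂ ⟶ (yon S).obj F₂ := sqF.lift ((yon S).map d₂) ((yon S).map d₁) sqF.w.symm
  obtain ⟨σ, ⟨hσa, hσl⟩, -⟩ := existsUnique_lift_hom hY (hVA G₂) (hVA G₂) (hVA F₂) hf ha₂ sq₂ sq₂ τ
    (by rw [sqF.lift_fst_assoc, hd])
  have hσt : σ ≫ t = s := (existsUnique_lift_hom hY (hVA G₂) (hVA E') (hVA F₂) hf ha₁ sq₂ sqE
    ((yon S).map d₂) hd).unique ⟨by rw [Category.assoc, hta, hσa], by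
      rw [← Category.assoc, hσl, Category.assoc, htl, sqF.lift_fst_assoc]⟩ ⟨hsa, hsl⟩
  have hσs : σ ≫ s = t := (existsUnique_lift_hom hY (hVA G₂) (hVA E') (hVA F₂) hf ha₁ sq₂ sqE
    ((yon S).map d₁) rfl).unique ⟨by rw [Category.assoc, hsa, hσa], by
      rw [← Category.assoc, hσl, Category.assoc, hsl, sqF.lift_snd_assoc]⟩ ⟨hta, htl⟩
  -- composition
  obtain ⟨G₃, p₁, p₂, sqG⟩ : ∃ (G₃ : Sp S) (p₁ p₂ : G₃ ⟶ (yon S).obj G₂), IsPullback p₁ p₂ s t :=
    ⟨_, _, _, IsPullback.of_hasPullback s t⟩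
  have hG₃ : IsAlgSpace G₃ := isAlgSpace_pullback (hVA E').diag (hVA G₂) (hVA G₂) sqG
  obtain ⟨F₃, u₀, g₃, sq₃⟩ : ∃ (F₃ : Sp S) (u₀ : F₃ ⟶ X) (g₃ : F₃ ⟶ G₃), IsPullback u₀ g₃ f (p₁ ≫ a₂) :=
    ⟨_, _, _, IsPullback.of_hasPullback f (p₁ ≫ a₂)⟩
  have hF₃ : IsAlgSpace F₃ := isAlgSpace_pullback hY.diag hX hG₃ sq₃
  have hp : p₂ ≫ a₂ = p₁ ≫ a₂ := by
    calc p₂ ≫ a₂ = (p₂ ≫ t) ≫ a₁ := by rw [Category.assoc p₂, hta]
      _ = (p₁ ≫ s) ≫ a₁ := by rw [sqG.w]
      _ = p₁ ≫ a₂ := by rw [Category.assoc p₁, hsa]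
  let x₁ := sq₂.lift u₀ (g₃ ≫ p₁) (by rw [Category.assoc, sq₃.w])
  let x₂ := sq₂.lift u₀ (g₃ ≫ p₂) (by rw [Category.assoc, hp, sq₃.w])
  have hx₁u : (x₁ ≫ (yon S).map d₁) ≫ (yon S).map e ≫ w = u₀ := by rw [Category.assoc]; exact sq₂.lift_fst _ _ _
  have hx₂u : (x₂ ≫ (yon S).map d₁) ≫ (yon S).map e ≫ w = u₀ := by rw [Category.assoc]; exact sq₂.lift_fst _ _ _
  have hmid : x₁ ≫ (yon S).map d₂ = x₂ ≫ (yon S).map d₁ := sqE.hom_ext
    (by rw [hx₂u, Category.assoc, hd, ← Category.assoc, hx₁u])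
    (by rw [Category.assoc, Category.assoc, ← hsl, ← htl, ← Category.assoc, ← Category.assoc x₂,
      sq₂.lift_snd, sq₂.lift_snd, Category.assoc, Category.assoc, sqG.w])
  let z : F₃ ⟶ (yon S).obj F₂ := sqF.lift (x₁ ≫ (yon S).map d₁) (x₂ ≫ (yon S).map d₂) (by
    rw [Category.assoc, sqF.w, ← Category.assoc, hmid, Category.assoc, sqF.w, ← Category.assoc])
  obtain ⟨μ, ⟨hμa, hμl⟩, -⟩ := existsUnique_lift_hom hY hG₃ (hVA G₂) hF₃ hf ha₂ sq₃ sq₂ z
    (by rw [sqF.lift_fst_assoc, hx₁u])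
  have hμt : μ ≫ t = p₁ ≫ t := (existsUnique_lift_hom hY hG₃ (hVA E') hF₃ hf ha₁ sq₃ sqE
    (x₁ ≫ (yon S).map d₁) hx₁u).unique ⟨by rw [Category.assoc, hta, hμa], by
      rw [← Category.assoc, hμl, Category.assoc, htl, sqF.lift_fst_assoc]⟩
      ⟨by rw [Category.assoc, hta], by
        rw [← Category.assoc, ← sq₂.lift_snd u₀ (g₃ ≫ p₁) (by rw [Category.assoc, sq₃.w]), Category.assoc, htl,
          ← Category.assoc]⟩
  have hμs : μ ≫ s = p₂ ≫ s := (existsUnique_lift_hom hY hG₃ (hVA E') hF₃ hf ha₁ sq₃ sqE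
    (x₂ ≫ (yon S).map d₂) (by rw [Category.assoc, hd, ← Category.assoc, hx₂u])).unique
      ⟨by rw [Category.assoc, hsa, hμa], by
        rw [← Category.assoc, hμl, Category.assoc, hsl, sqF.lift_snd_assoc]⟩
      ⟨by rw [Category.assoc, hsa, hp], by
        rw [← Category.assoc, ← sq₂.lift_snd u₀ (g₃ ≫ p₂) (by rw [Category.assoc, hp, sq₃.w]), Category.assoc, hsl,
          ← Category.assoc]⟩
  have heqv : IsEqvRelSp s t := ⟨fun T r r' => hinj r r', fun T => ⟨fun x => ⟨x ≫ ρ,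
      by rw [Category.assoc, hρt, Category.comp_id], by rw [Category.assoc, hρs, Category.comp_id]⟩,
    fun {x y} ⟨r, h₁, h₂⟩ => ⟨r ≫ σ, by rw [Category.assoc, hσt, h₂], by rw [Category.assoc, hσs, h₁]⟩,
    fun {x y v} ⟨r, h₁, h₂⟩ ⟨r', h₃, h₄⟩ => ⟨sqG.lift r r' (h₂.trans h₃.symm) ≫ μ,
      by rw [Category.assoc, hμt, sqG.lift_fst_assoc, h₁],
      by rw [Category.assoc, hμs, sqG.lift_snd_assoc, h₄]⟩⟩⟩
  -- the quotient
  have hta₂ := locP_of_isEtaleMor hY ha₂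
  have hse : LocP @Etale s := EtLocal.locP_cancel EtLocal.etale
    (fun A B C f g h1 h2 => by haveI := h1; haveI := h2; exact Etale.of_comp f g) (hVA G₂) (hVA E') hY
    (by rw [hsa]; exact hta₂) ha₁l
  have hsff : LocP @Flat s ∧ LocP @LocallyOfFinitePresentation s :=
    ⟨locP_mono (fun A B g hg => by haveI : Etale g := hg; infer_instance) hse,
      locP_mono (fun A B g hg => by haveI : Etale g := hg; infer_instance) hse⟩
  let π := quotSpπ s t
  have hQ : IsAlgSpace (quotSp s t) := isAlgSpace_quotSp (hVA G₂) (hVA E') heqv hsff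
  have sqπ : IsPullback t s π π := isPullback_quotSpπ heqv
  obtain ⟨hπs, hπf, hπp⟩ := quotSpπ_props (hVA G₂) (hVA E') heqv hsff
  have hcov : IsFppfCover (fun _ : PUnit.{u + 1} => (yon S).obj E') (fun _ => π) :=
    ⟨fun _ => ⟨hπf, hπp⟩, fun x => ⟨PUnit.unit, hπs x⟩⟩
  have hπe : IsEtaleMor π := isEtaleMor_of_fpqcLoc (hVA E') hQ
    (fpqcLoc_of_cover (fun _ _ _ _ hX hY _ hY' _ _ _ _ sq h => isEtaleMor_pullback_map hX hY hY' sq h) _ _ hQ
      (fun _ => hVA E') (isFpqcCover_of_isFppfCover hQ (fun _ => hVA E') hcov) π (hVA E')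
      (fun _ => (yon S).obj G₂) (fun _ => s) (fun _ => t) (fun _ => hVA G₂) (fun _ => sqπ)
      (fun _ => isEtaleMor_of_locP (hVA E') hse))
  have πe : RepWith @Etale π := by
    have := hπe (𝟙 _) (repWith_id _ E')
    rwa [Category.id_comp] at this
  have πs : RepWith @Surjective π := (repWith_surjective_iff πe.1).2 hπs
  let q : quotSp s t ⟶ Y := quotSpDesc a₁ (hsa.trans hta.symm)
  have hq : π ≫ q = a₁ := quotSpπ_desc _ _ _ _
  have hqe : IsEtaleMor q := isEtaleMor_of_locP hY (EtLocal.etale.locP_of_chart πe πs ae hq he')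
  -- `V` is its base change
  haveI : Sheaf.IsLocallySurjective b₁ := chart_isLocallySurjective b₁e b₁s
  haveI : Epi b₁ := (Sheaf.isLocallySurjective_iff_epi b₁).1 inferInstance
  haveI := IsRegularEpiCategory.regularEpiOfEpi b₁
  obtain ⟨c, hc⟩ := IsRegularEpi.exists_of_isKernelPair b₁ sqF ((yon S).map el ≫ π) (by
    rw [← Category.assoc, ← Category.assoc, ← htl, ← hsl, Category.assoc, Category.assoc]
    exact congrArg (_ ≫ ·) (quotSp_condition s t).symm)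
  have hw : b ≫ f = c ≫ q := by
    rw [← cancel_epi b₁, ← Category.assoc b₁, hb₁, sqE.w, ← Category.assoc b₁, hc, Category.assoc _ π, hq]
  obtain ⟨P, P₁, P₂, sqP⟩ : ∃ (P : Sp S) (P₁ : P ⟶ X) (P₂ : P ⟶ quotSp s t), IsPullback P₁ P₂ f q :=
    ⟨_, _, _, IsPullback.of_hasPullback f q⟩
  let θ := sqP.lift b c hw
  let e₀ := b₁ ≫ θ
  have sq₀ : IsPullback e₀ ((yon S).map el) P₂ π := by
    refine IsPullback.of_right ?_ (by rw [Category.assoc, sqP.lift_snd, hc]) sqP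
    rw [Category.assoc, sqP.lift_fst, hq, hb₁]
    exact sqE
  haveI : Sheaf.IsLocallySurjective e₀ :=
    chart_isLocallySurjective (repWith_of_isPullback sq₀.flip πe) (repWith_of_isPullback sq₀.flip πs)
  haveI : Epi e₀ := (Sheaf.isLocallySurjective_iff_epi e₀).1 inferInstance
  haveI := IsRegularEpiCategory.regularEpiOfEpi e₀
  obtain ⟨K, x, y, sqK⟩ : ∃ (K : Sp S) (x y : K ⟶ (yon S).obj E), IsPullback x y e₀ e₀ :=
    ⟨_, _, _, IsPullback.of_hasPullback e₀ e₀⟩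
  have hKX : x ≫ (yon S).map e ≫ w = y ≫ (yon S).map e ≫ w := by
    have := congrArg (· ≫ P₁) sqK.w
    simp only [e₀, Category.assoc, θ, sqP.lift_fst, hb₁] at this
    exact this
  have hKπ : (x ≫ (yon S).map el) ≫ π = (y ≫ (yon S).map el) ≫ π := by
    rw [Category.assoc, Category.assoc, ← sq₀.w, ← Category.assoc, sqK.w, Category.assoc]
  let r := sqπ.lift (x ≫ (yon S).map el) (y ≫ (yon S).map el) hKπ
  have hzw : (x ≫ (yon S).map e ≫ w) ≫ f = r ≫ a₂ := by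
    rw [← hta, ← Category.assoc r, sqπ.lift_fst, Category.assoc x, Category.assoc x, sqE.w]
  let zK := sq₂.lift (x ≫ (yon S).map e ≫ w) r hzw
  have hz₁ : zK ≫ (yon S).map d₁ = x := sqE.hom_ext
    (by rw [Category.assoc]; exact sq₂.lift_fst _ _ _)
    (by rw [Category.assoc, ← htl, sq₂.lift_snd_assoc, sqπ.lift_fst])
  have hz₂ : zK ≫ (yon S).map d₂ = y := sqE.hom_ext
    (by rw [Category.assoc, hd, ← hKX]; exact sq₂.lift_fst _ _ _)
    (by rw [Category.assoc, ← hsl, sq₂.lift_snd_assoc, sqπ.lift_snd])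
  obtain ⟨ψ, hψ⟩ := IsRegularEpi.exists_of_isKernelPair e₀ sqK b₁ (by
    rw [← hz₁, ← hz₂, Category.assoc, Category.assoc, sqF.w])
  haveI : IsIso θ := ⟨ψ, by rw [← cancel_epi b₁, ← Category.assoc, hψ, Category.comp_id],
    by rw [← cancel_epi e₀, ← Category.assoc, hψ, Category.comp_id]⟩
  exact ⟨quotSp s t, q, c, hQ, hqe, sqP.of_iso (asIso θ).symm (Iso.refl _) (Iso.refl _) (Iso.refl _)
    (by simp [θ]) (by simp [θ]) (by simp) (by simp)⟩

end GrothLib.AlgSp
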