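import Groth.Agent.Lib.AlgSp.PushoutAtlas
import Groth.Agent.Lib.AlgSp.Quotient
import Groth.Agent.Lib.AlgSp.ClosedSub
import Groth.Agent.Lib.AlgSp.ImmersionDescent
import Groth.Agent.Lib.AlgSp.UHEtaleSpace
import Groth.Agent.Lib.AlgSp.ThickScheme

/-!
# Pushouts of a thickening and an affine morphism of algebraic spaces

* `Chart t f`: compatible atlases of the two legs.
* `Chart.exists_space`: the space glued from the pushouts of charts and relations.
-/

set_option backward.isDefEq.respectTransparency false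

universe u

open CategoryTheory CategoryTheory.Limits AlgebraicGeometry Opposite AlgSp

namespace GrothLib.AlgSp.ThickPushout

open GrothLib.AlgSp GrothLib.Pushout6

variable {S : Scheme.{u}}

/-- Compatible atlases of a pair of morphisms out of a space. -/
structure Chart {X X' Y : AlgSp.Space S} (t : X ⟶ X') (f : X ⟶ Y) where
  U : Over S
  U' : Over S
  V : Over S
  i : U ⟶ U'
  j : U ⟶ V
  u : (yon S).obj U ⟶ X.obj
  u' : (yon S).obj U' ⟶ X'.obj
  v : (yon S).obj V ⟶ Y.obj
  sqi : IsPullback u ((yon S).map i) t.hom u'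
  sqj : IsPullback u ((yon S).map j) f.hom v
  u'e : RepWith @Etale u'
  u's : RepWith @Surjective u'
  ve : RepWith @Etale v
  vs : RepWith @Surjective v

namespace Chart

variable {X X' Y : AlgSp.Space S} {t : X ⟶ X'} {f : X ⟶ Y} (c : Chart t f)

theorem ue : RepWith @Etale c.u := repWith_of_isPullback c.sqj.flip c.ve

theorem us : RepWith @Surjective c.u := repWith_of_isPullback c.sqj.flip c.vs

theorem thick_i (ht : IsThickMor t.hom) : IsClosedImmersion c.i.left ∧ Surjective c.i.left := ht.2 _ _ _ c.sqi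

theorem affine_j (hf : IsAffineMor f.hom) : IsAffineHom c.j.left := (isAffineMor_iff.1 hf).2 _ _ _ c.sqj

variable (ht : IsThickMor t.hom) (hf : IsAffineMor f.hom)

include ht hf in
theorem covered : Covered c.i.left c.j.left := by
  obtain ⟨_, h₂⟩ := c.thick_i ht
  haveI := c.affine_j hf
  haveI := (c.thick_i ht).1
  exact covered_of_thickening c.i.left c.j.left c.i.left.surjective

include ht hf in
/-- The pushout of a chart, as a scheme over the base. -/
theorem exists_obj : ∃ (M : Over S) (a : c.U' ⟶ M) (b : c.V ⟶ M),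
    IsPushout c.i.left c.j.left a.left b.left ∧ IsPullback c.i c.j a b ∧ Surjective b.left ∧
      IsClosedImmersion b.left := by
  haveI := (c.thick_i ht).1
  haveI := (c.thick_i ht).2
  have hC := c.covered ht hf
  let r := (Pushout6.isPushout hC).desc c.U'.hom c.V.hom ((Over.w c.i).trans (Over.w c.j).symm)
  refine ⟨Over.mk r, Over.homMk (inl hC) ((Pushout6.isPushout hC).inl_desc _ _ _),
    Over.homMk (inr hC) ((Pushout6.isPushout hC).inr_desc _ _ _), Pushout6.isPushout hC, ?_,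
    ⟨surjective_inr_of_surjective hC c.i.left.surjective⟩, isClosedImmersion_inr hC⟩
  exact IsPullback.of_map (Over.forget S) (Over.OverMorphism.ext (Pushout6.isPushout hC).w)
    (Pushout6.isPullback hC)

end Chart

/-- A map into a scheme over a pair of pushouts is injective on field points of the closed part. -/
theorem exists_factor_field {A B : Scheme.{u}} (b : A ⟶ B) [IsClosedImmersion b] [Surjective b] (K : Type u) [Field K]
    (r : Spec (CommRingCat.of K) ⟶ B) : ∃ a : Spec (CommRingCat.of K) ⟶ A, a ≫ b = r := by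
  haveI : IsClosedImmersion (pullback.fst r b) := MorphismProperty.pullback_fst _ _ inferInstance
  haveI : Surjective (pullback.fst r b) := MorphismProperty.pullback_fst _ _ inferInstance
  haveI : IsIso (pullback.fst r b) := isIso_of_isClosedImmersion_of_surjective _
  exact ⟨inv (pullback.fst r b) ≫ pullback.snd r b, by
    rw [Category.assoc, ← pullback.condition, IsIso.inv_hom_id_assoc]⟩

theorem mono_of_injective_fieldPoints {A B : Scheme.{u}} (m : A ⟶ B) [FormallyUnramified m] [LocallyOfFiniteType m]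
    (h : ∀ (K : Type u) [Field K] (r₁ r₂ : Spec (CommRingCat.of K) ⟶ A), r₁ ≫ m = r₂ ≫ m → r₁ = r₂) : Mono m := by
  haveI : Surjective (pullback.diagonal m) := ⟨fun z => by
    let K := (pullback.diagonalObj m).residueField z
    let r := (pullback.diagonalObj m).fromSpecResidueField z
    have he := h K (r ≫ pullback.fst m m) (r ≫ pullback.snd m m)
      (by rw [Category.assoc, Category.assoc, pullback.condition])
    have hr : (r ≫ pullback.fst m m) ≫ pullback.diagonal m = r := by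
      apply pullback.hom_ext
      · simp
      · simp [he]
    refine ⟨(r ≫ pullback.fst m m) (IsLocalRing.closedPoint K), ?_⟩
    rw [← Scheme.Hom.comp_apply, hr]
    exact (pullback.diagonalObj m).fromSpecResidueField_apply z _⟩
  haveI : Epi (pullback.diagonal m).base := (TopCat.epi_iff_surjective _).mpr (pullback.diagonal m).surjective
  haveI : IsIso (pullback.diagonal m) := IsOpenImmersion.isIso _
  exact (pullback.isIso_diagonal_iff m).1 inferInstance

namespace Chart

variable {X X' Y : AlgSp.Space S} {t : X ⟶ X'} {f : X ⟶ Y} (c : Chart t f)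
  (ht : IsThickMor t.hom) (hf : IsAffineMor f.hom)

include ht hf in
/-- The pushouts of the charts and of their relations give an algebraic space with two cartesian squares. -/
theorem exists_space {M : Over S} (a : c.U' ⟶ M) (b : c.V ⟶ M)
    (hP : IsPushout c.i.left c.j.left a.left b.left) (hB : IsPullback c.i c.j a b)
    [IsClosedImmersion b.left] [Surjective b.left] :
    ∃ (Y' : AlgSp.Space S) (f' : X' ⟶ Y') (t' : Y ⟶ Y') (π : (yon S).obj M ⟶ Y'.obj),
      t ≫ f' = f ≫ t' ∧ RepWith @Etale π ∧ RepWith @Surjective π ∧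
      IsPullback c.u' ((yon S).map a) f'.hom π ∧ IsPullback c.v ((yon S).map b) t'.hom π ∧
      IsThickMor t'.hom := by
  haveI := (c.thick_i ht).1
  haveI := (c.thick_i ht).2
  haveI := c.affine_j hf
  haveI hmt : Mono t.hom := mono_of_closedImmersion (repWith_mono ht fun _ _ _ h => h.1)
  have hC := c.covered ht hf
  -- the three relations
  obtain ⟨RX, p₁, p₂, sqRX⟩ := exists_isPullback_yon X'.property.diag c.u' c.u'
  obtain ⟨RY, q₁, q₂, sqRY⟩ := exists_isPullback_yon Y.property.diag c.v c.v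
  obtain ⟨RU, e₁, e₂, sqRU⟩ := exists_isPullback_yon X.property.diag c.u c.u
  obtain ⟨iR', hiR₁, hiR₂⟩ := sqRX.exists_lift ((yon S).map (e₁ ≫ c.i)) ((yon S).map (e₂ ≫ c.i)) (by
    rw [Functor.map_comp, Functor.map_comp, Category.assoc, Category.assoc, ← c.sqi.w, ← Category.assoc,
      ← Category.assoc, sqRU.w])
  obtain ⟨jR', hjR₁, hjR₂⟩ := sqRY.exists_lift ((yon S).map (e₁ ≫ c.j)) ((yon S).map (e₂ ≫ c.j)) (by
    rw [Functor.map_comp, Functor.map_comp, Category.assoc, Category.assoc, ← c.sqj.w, ← Category.assoc,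
      ← Category.assoc, sqRU.w])
  obtain ⟨iR, rfl⟩ := (yon S).map_surjective iR'
  obtain ⟨jR, rfl⟩ := (yon S).map_surjective jR'
  have pbi₁ : IsPullback e₁ iR c.i p₁ := by
    refine isPullback_of_isPullback_yon (IsPullback.of_bot (v₂₁ := (yon S).map p₂) (v₂₂ := c.u') (h₃₁ := c.u')
      ?_ (by rw [← Functor.map_comp, hiR₁]) sqRX)
    rw [hiR₂, Functor.map_comp, ← c.sqi.w]
    exact sqRU.paste_vert c.sqi |>.of_iso (Iso.refl _) (Iso.refl _) (Iso.refl _) (Iso.refl _)
      (by simp) (by simp) (by simp) (by simp)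
  have pbj₁ : IsPullback e₁ jR c.j q₁ := by
    refine isPullback_of_isPullback_yon (IsPullback.of_bot (v₂₁ := (yon S).map q₂) (v₂₂ := c.v) (h₃₁ := c.v)
      ?_ (by rw [← Functor.map_comp, hjR₁]) sqRY)
    rw [hjR₂, Functor.map_comp, ← c.sqj.w]
    exact sqRU.paste_vert c.sqj |>.of_iso (Iso.refl _) (Iso.refl _) (Iso.refl _) (Iso.refl _)
      (by simp) (by simp) (by simp) (by simp)
  haveI : Etale p₁.left := c.u'e.2 _ _ _ sqRX.flip
  haveI : Etale p₂.left := c.u'e.2 _ _ _ sqRX
  haveI : Etale q₁.left := c.ve.2 _ _ _ sqRY.flip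
  haveI : Etale q₂.left := c.ve.2 _ _ _ sqRY
  haveI : IsClosedImmersion iR.left := MorphismProperty.of_isPullback (isPullback_left pbi₁) inferInstance
  haveI : Surjective iR.left := MorphismProperty.of_isPullback (isPullback_left pbi₁) ‹Surjective c.i.left›
  haveI : IsAffineHom jR.left := MorphismProperty.of_isPullback (isPullback_left pbj₁) inferInstance
  have hCR : Covered iR.left jR.left := covered_of_thickening iR.left jR.left iR.left.surjective
  -- the glued relation
  have hRP := Pushout6.isPushout hCR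
  let e := objIso hC hP
  have hab : c.i ≫ a = c.j ≫ b := hB.w
  have hiR₁' : iR ≫ p₁ = e₁ ≫ c.i := (yon S).map_injective (by rw [Functor.map_comp, hiR₁])
  have hiR₂' : iR ≫ p₂ = e₂ ≫ c.i := (yon S).map_injective (by rw [Functor.map_comp, hiR₂])
  have hjR₁' : jR ≫ q₁ = e₁ ≫ c.j := (yon S).map_injective (by rw [Functor.map_comp, hjR₁])
  have hjR₂' : jR ≫ q₂ = e₂ ≫ c.j := (yon S).map_injective (by rw [Functor.map_comp, hjR₂])
  obtain ⟨rR, hrX, hrY⟩ : ∃ r : obj iR.left jR.left ⟶ S, inl hCR ≫ r = RX.hom ∧ inr hCR ≫ r = RY.hom :=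
    ⟨hRP.desc RX.hom RY.hom ((Over.w iR).trans (Over.w jR).symm), hRP.inl_desc _ _ _, hRP.inr_desc _ _ _⟩
  let R : Over S := Over.mk rR
  let aR : RX ⟶ R := Over.homMk (inl hCR) hrX
  let bR : RY ⟶ R := Over.homMk (inr hCR) hrY
  haveI : IsClosedImmersion bR.left := isClosedImmersion_inr hCR
  haveI : Surjective bR.left := ⟨surjective_inr_of_surjective hCR iR.left.surjective⟩
  have descR : ∀ {Q : Over S} (xA : RX ⟶ Q) (xB : RY ⟶ Q), iR ≫ xA = jR ≫ xB →
      ∃ x : R ⟶ Q, aR ≫ x = xA ∧ bR ≫ x = xB := by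
    intro Q xA xB h
    let d := hRP.desc xA.left xB.left (congrArg (fun z => z.left) h)
    have hd₁ : inl hCR ≫ d = xA.left := hRP.inl_desc _ _ _
    have hd₂ : inr hCR ≫ d = xB.left := hRP.inr_desc _ _ _
    refine ⟨Over.homMk d (Pushout6.hom_ext hCR ?_ ?_), Over.OverMorphism.ext hd₁, Over.OverMorphism.ext hd₂⟩
    · rw [reassoc_of% hd₁, Over.w xA]; exact hrX.symm
    · rw [reassoc_of% hd₂, Over.w xB]; exact hrY.symm
  obtain ⟨s₁, hs₁a, hs₁b⟩ := descR (p₁ ≫ a) (q₁ ≫ b) (by rw [reassoc_of% hiR₁', hab, reassoc_of% hjR₁'])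
  obtain ⟨s₂, hs₂a, hs₂b⟩ := descR (p₂ ≫ a) (q₂ ≫ b) (by rw [reassoc_of% hiR₂', hab, reassoc_of% hjR₂'])
  have pbi₂ : IsPullback e₂ iR c.i p₂ := by
    refine isPullback_of_isPullback_yon (IsPullback.of_bot (v₂₁ := (yon S).map p₁) (v₂₂ := c.u') (h₃₁ := c.u')
      ?_ (by rw [← Functor.map_comp, ← Functor.map_comp, hiR₂']) sqRX.flip)
    rw [hiR₁, Functor.map_comp, ← c.sqi.w]
    exact sqRU.flip.paste_vert c.sqi |>.of_iso (Iso.refl _) (Iso.refl _) (Iso.refl _) (Iso.refl _)
      (by simp) (by simp) (by simp) (by simp)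
  have pbj₂ : IsPullback e₂ jR c.j q₂ := by
    refine isPullback_of_isPullback_yon (IsPullback.of_bot (v₂₁ := (yon S).map q₁) (v₂₂ := c.v) (h₃₁ := c.v)
      ?_ (by rw [← Functor.map_comp, ← Functor.map_comp, hjR₂']) sqRY.flip)
    rw [hjR₁, Functor.map_comp, ← c.sqj.w]
    exact sqRU.flip.paste_vert c.sqj |>.of_iso (Iso.refl _) (Iso.refl _) (Iso.refl _) (Iso.refl _)
      (by simp) (by simp) (by simp) (by simp)
  -- cartesianness and etaleness of the projections
  have proj : ∀ (p : RX ⟶ c.U') (q : RY ⟶ c.V) (ε : RU ⟶ c.U) (s : R ⟶ M), IsPullback ε iR c.i p →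
      IsPullback ε jR c.j q → Etale p.left → Etale q.left → aR ≫ s = p ≫ a → bR ≫ s = q ≫ b →
      Etale s.left ∧ IsPullback p aR a s ∧ IsPullback q bR b s := by
    intro p q ε s hp hq hpe hqe hsa hsb
    have pi := isPullback_left hp
    have pj := isPullback_left hq
    have hs : s.left = mapObj pi pj hC hCR ≫ e.hom := by
      refine Pushout6.hom_ext hCR ?_ ?_
      · rw [← Category.assoc, inl_mapObj, Category.assoc, inl_objIso]
        exact congrArg (fun z => z.left) hsa
      · rw [← Category.assoc, inr_mapObj, Category.assoc, inr_objIso]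
        exact congrArg (fun z => z.left) hsb
    haveI := hpe
    haveI := hqe
    refine ⟨?_, ?_, ?_⟩
    · rw [hs]
      haveI := etale_mapObj_general pi pj hC hCR
      infer_instance
    · refine IsPullback.of_map (Over.forget S) hsa.symm ?_
      exact (isPullback_inl_mapObj pi pj hC hCR).of_iso (Iso.refl _) (Iso.refl _) (Iso.refl _) e
        (by simp) (by simp [aR]) (by simp [e, inl_objIso]) (by simp [hs])
    · refine IsPullback.of_map (Over.forget S) hsb.symm ?_
      exact (isPullback_inr_mapObj pi pj hC hCR).of_iso (Iso.refl _) (Iso.refl _) (Iso.refl _) e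
        (by simp) (by simp [bR]) (by simp [e, inr_objIso]) (by simp [hs])
  obtain ⟨hs₁e, sX₁, sY₁⟩ := proj p₁ q₁ e₁ s₁ pbi₁ pbj₁ inferInstance inferInstance hs₁a hs₁b
  obtain ⟨hs₂e, sX₂, sY₂⟩ := proj p₂ q₂ e₂ s₂ pbi₂ pbj₂ inferInstance inferInstance hs₂a hs₂b
  haveI := hs₁e
  haveI := hs₂e
  -- injectivity
  haveI : Mono b.left := inferInstance
  have hmb : Mono b := (Over.forget S).mono_of_mono_map (inferInstanceAs (Mono b.left))
  let m : R.left ⟶ pullback M.hom M.hom := pullback.lift s₁.left s₂.left ((Over.w s₁).trans (Over.w s₂).symm)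
  have hm₁ : m ≫ pullback.fst M.hom M.hom = s₁.left := pullback.lift_fst _ _ _
  have hm₂ : m ≫ pullback.snd M.hom M.hom = s₂.left := pullback.lift_snd _ _ _
  haveI : FormallyUnramified (m ≫ pullback.fst M.hom M.hom) := by rw [hm₁]; infer_instance
  haveI : FormallyUnramified m := FormallyUnramified.of_comp m (pullback.fst M.hom M.hom)
  haveI : LocallyOfFiniteType (m ≫ pullback.fst M.hom M.hom) := by rw [hm₁]; infer_instance
  haveI : LocallyOfFiniteType m := locallyOfFiniteType_of_comp m (pullback.fst M.hom M.hom)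
  haveI : Mono m := mono_of_injective_fieldPoints m fun K _ r₁ r₂ hr => by
    obtain ⟨y₁, hy₁⟩ := exists_factor_field bR.left K r₁
    obtain ⟨y₂, hy₂⟩ := exists_factor_field bR.left K r₂
    have h1 : r₁ ≫ s₁.left = r₂ ≫ s₁.left := by rw [← hm₁, reassoc_of% hr]
    have h2 : r₁ ≫ s₂.left = r₂ ≫ s₂.left := by rw [← hm₂, reassoc_of% hr]
    have hb₁ : bR.left ≫ s₁.left = q₁.left ≫ b.left := congrArg (fun z => z.left) hs₁b
    have hb₂ : bR.left ≫ s₂.left = q₂.left ≫ b.left := congrArg (fun z => z.left) hs₂b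
    rw [← hy₁, ← hy₂, Category.assoc, Category.assoc, hb₁, ← Category.assoc, ← Category.assoc, cancel_mono] at h1
    rw [← hy₁, ← hy₂, Category.assoc, Category.assoc, hb₂, ← Category.assoc, ← Category.assoc, cancel_mono] at h2
    let Q : Over S := Over.mk (y₁ ≫ RY.hom)
    let z₁ : Q ⟶ RY := Over.homMk y₁ rfl
    let z₂ : Q ⟶ RY := Over.homMk y₂ (by
      change y₂ ≫ RY.hom = y₁ ≫ RY.hom
      rw [← Over.w q₁, reassoc_of% h1])
    have hz : z₁ = z₂ := (yon S).map_injective (sqRY.hom_ext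
      (by rw [← Functor.map_comp, ← Functor.map_comp]; exact congrArg _ (Over.OverMorphism.ext h1))
      (by rw [← Functor.map_comp, ← Functor.map_comp]; exact congrArg _ (Over.OverMorphism.ext h2)))
    rw [← hy₁, ← hy₂]
    exact congrArg (· ≫ bR.left) (congrArg (fun z => z.left) hz)
  have inj : ∀ (Q : Over S) (r r' : Q ⟶ R), r ≫ s₁ = r' ≫ s₁ → r ≫ s₂ = r' ≫ s₂ → r = r' := by
    intro Q r r' h₁ h₂
    apply Over.OverMorphism.ext
    rw [← cancel_mono m]
    apply pullback.hom_ext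
    · rw [Category.assoc, Category.assoc, hm₁]; exact congrArg (fun z => z.left) h₁
    · rw [Category.assoc, Category.assoc, hm₂]; exact congrArg (fun z => z.left) h₂
  -- maps into the relation from pushouts
  have intoR : ∀ {Q QX QY QC : Over S} (qi : QC ⟶ QX) (qj : QC ⟶ QY) (qa : QX ⟶ Q) (qb : QY ⟶ Q),
      IsPushout qi.left qj.left qa.left qb.left → ∀ (α β : Q ⟶ M) (u₁ u₂ : QX ⟶ c.U') (v₁ v₂ : QY ⟶ c.V),
      qa ≫ α = u₁ ≫ a → qa ≫ β = u₂ ≫ a → qb ≫ α = v₁ ≫ b → qb ≫ β = v₂ ≫ b →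
      (yon S).map u₁ ≫ c.u' = (yon S).map u₂ ≫ c.u' → (yon S).map v₁ ≫ c.v = (yon S).map v₂ ≫ c.v →
      ∃ r : Q ⟶ R, r ≫ s₁ = α ∧ r ≫ s₂ = β := by
    intro Q QX QY QC qi qj qa qb hQ α β u₁ u₂ v₁ v₂ hα₁ hβ₁ hα₂ hβ₂ hu hv
    have hw : qi ≫ qa = qj ≫ qb := Over.OverMorphism.ext hQ.w
    obtain ⟨z₁, hz₁, hz₁'⟩ := hB.exists_lift (qi ≫ u₁) (qj ≫ v₁)
      (by rw [Category.assoc, Category.assoc, ← hα₁, ← hα₂, reassoc_of% hw])
    obtain ⟨z₂, hz₂, hz₂'⟩ := hB.exists_lift (qi ≫ u₂) (qj ≫ v₂)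
      (by rw [Category.assoc, Category.assoc, ← hβ₁, ← hβ₂, reassoc_of% hw])
    obtain ⟨x', hx₁, hx₂⟩ := sqRX.exists_lift _ _ hu
    obtain ⟨x, rfl⟩ := (yon S).map_surjective x'
    obtain ⟨y', hy₁, hy₂⟩ := sqRY.exists_lift _ _ hv
    obtain ⟨y, rfl⟩ := (yon S).map_surjective y'
    rw [← Functor.map_comp] at hx₁ hx₂ hy₁ hy₂
    replace hx₁ := (yon S).map_injective hx₁
    replace hx₂ := (yon S).map_injective hx₂
    replace hy₁ := (yon S).map_injective hy₁
    replace hy₂ := (yon S).map_injective hy₂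
    obtain ⟨w', hw₁, hw₂⟩ := sqRU.exists_lift ((yon S).map z₁) ((yon S).map z₂) (by
      rw [← cancel_mono t.hom, Category.assoc, Category.assoc, c.sqi.w, ← Functor.map_comp_assoc,
        ← Functor.map_comp_assoc, hz₁, hz₂, Functor.map_comp, Functor.map_comp, Category.assoc, Category.assoc, hu])
    obtain ⟨w, rfl⟩ := (yon S).map_surjective w'
    rw [← Functor.map_comp] at hw₁ hw₂
    replace hw₁ := (yon S).map_injective hw₁
    replace hw₂ := (yon S).map_injective hw₂
    have hwX : qi ≫ x = w ≫ iR := (yon S).map_injective (sqRX.hom_ext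
      (by
        rw [← Functor.map_comp, ← Functor.map_comp, Category.assoc, Category.assoc, hx₁, hiR₁', ← Category.assoc,
          hw₁, hz₁])
      (by
        rw [← Functor.map_comp, ← Functor.map_comp, Category.assoc, Category.assoc, hx₂, hiR₂', ← Category.assoc,
          hw₂, hz₂]))
    have hwY : qj ≫ y = w ≫ jR := (yon S).map_injective (sqRY.hom_ext
      (by
        rw [← Functor.map_comp, ← Functor.map_comp, Category.assoc, Category.assoc, hy₁, hjR₁', ← Category.assoc,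
          hw₁, hz₁'])
      (by
        rw [← Functor.map_comp, ← Functor.map_comp, Category.assoc, Category.assoc, hy₂, hjR₂', ← Category.assoc,
          hw₂, hz₂']))
    have hcond : qi.left ≫ x.left ≫ aR.left = qj.left ≫ y.left ≫ bR.left := by
      have k₁ : qi.left ≫ x.left = w.left ≫ iR.left := congrArg (fun z => z.left) hwX
      have k₂ : qj.left ≫ y.left = w.left ≫ jR.left := congrArg (fun z => z.left) hwY
      rw [reassoc_of% k₁, reassoc_of% k₂]
      exact congrArg (w.left ≫ ·) hRP.w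
    let d := hQ.desc (x.left ≫ aR.left) (y.left ≫ bR.left) hcond
    have hd₁ : qa.left ≫ d = x.left ≫ aR.left := hQ.inl_desc _ _ _
    have hd₂ : qb.left ≫ d = y.left ≫ bR.left := hQ.inr_desc _ _ _
    let r : Q ⟶ R := Over.homMk d (hQ.hom_ext
      (by rw [reassoc_of% hd₁, Over.w aR, Over.w x]; exact (Over.w qa).symm)
      (by rw [reassoc_of% hd₂, Over.w bR, Over.w y]; exact (Over.w qb).symm))
    have hra : qa ≫ r = x ≫ aR := Over.OverMorphism.ext hd₁
    have hrb : qb ≫ r = y ≫ bR := Over.OverMorphism.ext hd₂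
    have l₁ : qa ≫ r ≫ s₁ = qa ≫ α := by rw [reassoc_of% hra, hs₁a, reassoc_of% hx₁, hα₁]
    have l₂ : qb ≫ r ≫ s₁ = qb ≫ α := by rw [reassoc_of% hrb, hs₁b, reassoc_of% hy₁, hα₂]
    have l₃ : qa ≫ r ≫ s₂ = qa ≫ β := by rw [reassoc_of% hra, hs₂a, reassoc_of% hx₂, hβ₁]
    have l₄ : qb ≫ r ≫ s₂ = qb ≫ β := by rw [reassoc_of% hrb, hs₂b, reassoc_of% hy₂, hβ₂]
    exact ⟨r, Over.OverMorphism.ext (hQ.hom_ext (congrArg (fun z => z.left) l₁) (congrArg (fun z => z.left) l₂)),
      Over.OverMorphism.ext (hQ.hom_ext (congrArg (fun z => z.left) l₃) (congrArg (fun z => z.left) l₄))⟩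
  obtain ⟨ρ, hρ₁, hρ₂⟩ := intoR c.i c.j a b hP (𝟙 M) (𝟙 M) (𝟙 _) (𝟙 _) (𝟙 _) (𝟙 _)
    (by simp) (by simp) (by simp) (by simp) rfl rfl
  obtain ⟨σ, hσ₁, hσ₂⟩ := intoR iR jR aR bR hRP s₂ s₁ p₂ p₁ q₂ q₁ hs₂a hs₁a hs₂b hs₁b sqRX.w.symm sqRY.w.symm
  obtain ⟨τ, hτ₁, hτ₂⟩ : ∃ τ : pullback s₂ s₁ ⟶ R,
      τ ≫ s₁ = pullback.fst s₂ s₁ ≫ s₁ ∧ τ ≫ s₂ = pullback.snd s₂ s₁ ≫ s₂ := by
    obtain ⟨k, hk⟩ : ∃ k : pullback s₂ s₁ ⟶ M, k = pullback.fst s₂ s₁ ≫ s₂ := ⟨_, rfl⟩
    have hk' : pullback.snd s₂ s₁ ≫ s₁ = k := by rw [hk, pullback.condition]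
    haveI : Etale k.left := by
      rw [hk, Over.comp_left]
      haveI : Etale (pullback.fst s₂ s₁).left :=
        MorphismProperty.of_isPullback (isPullback_left (IsPullback.of_hasPullback s₂ s₁)).flip inferInstance
      infer_instance
    haveI : IsAffineHom a.left := prop_left @IsAffineHom hC hP (isAffineHom_inl hC)
    have pX := isPullback_left (IsPullback.of_hasPullback k a)
    have pY := isPullback_left (IsPullback.of_hasPullback k b)
    have pC := isPullback_left (IsPullback.of_hasPullback c.i (pullback.snd k a))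
    obtain ⟨j₀, hj₀a, hj₀b⟩ : ∃ j₀ : pullback c.i (pullback.snd k a) ⟶ pullback k b,
        j₀ ≫ pullback.fst k b = pullback.snd c.i (pullback.snd k a) ≫ pullback.fst k a ∧
        j₀ ≫ pullback.snd k b = pullback.fst c.i (pullback.snd k a) ≫ c.j := by
      refine ⟨pullback.lift _ _ ?_, pullback.lift_fst _ _ _, pullback.lift_snd _ _ _⟩
      rw [Category.assoc, pullback.condition, ← pullback.condition_assoc, hab, Category.assoc]
    have hsq := Pushout6.isPushout_baseChange (𝟙 M.left) k.left hC hP (Or.inl inferInstance)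
      (IsPullback.of_vert_isIso ⟨by simp⟩ : IsPullback k.left (𝟙 _) (𝟙 M.left) k.left) pX.flip pY.flip pC
      (congrArg (fun z => z.left) hj₀b) (congrArg (fun z => z.left) hj₀a.symm)
    obtain ⟨x₁, hx₁, hx₁'⟩ := sX₂.exists_lift (pullback.snd k a) (pullback.fst k a ≫ pullback.fst s₂ s₁)
      (by rw [Category.assoc, ← hk, pullback.condition])
    obtain ⟨x₂, hx₂, hx₂'⟩ := sX₁.exists_lift (pullback.snd k a) (pullback.fst k a ≫ pullback.snd s₂ s₁)
      (by rw [Category.assoc, hk', pullback.condition])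
    obtain ⟨y₁, hy₁, hy₁'⟩ := sY₂.exists_lift (pullback.snd k b) (pullback.fst k b ≫ pullback.fst s₂ s₁)
      (by rw [Category.assoc, ← hk, pullback.condition])
    obtain ⟨y₂, hy₂, hy₂'⟩ := sY₁.exists_lift (pullback.snd k b) (pullback.fst k b ≫ pullback.snd s₂ s₁)
      (by rw [Category.assoc, hk', pullback.condition])
    refine intoR _ j₀ (pullback.fst k a) (pullback.fst k b) hsq _ _ (x₁ ≫ p₁) (x₂ ≫ p₂) (y₁ ≫ q₁) (y₂ ≫ q₂)
      ?_ ?_ ?_ ?_ ?_ ?_
    · rw [← Category.assoc, ← hx₁', Category.assoc, Category.assoc, hs₁a]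
    · rw [← Category.assoc, ← hx₂', Category.assoc, Category.assoc, hs₂a]
    · rw [← Category.assoc, ← hy₁', Category.assoc, Category.assoc, hs₁b]
    · rw [← Category.assoc, ← hy₂', Category.assoc, Category.assoc, hs₂b]
    · rw [Functor.map_comp, Functor.map_comp, Category.assoc, Category.assoc, sqRX.w, ← sqRX.w,
        ← Category.assoc, ← Category.assoc, ← Functor.map_comp, ← Functor.map_comp]
      have : (yon S).map (x₁ ≫ p₂) ≫ c.u' = (yon S).map (x₂ ≫ p₁) ≫ c.u' := by rw [hx₁, hx₂]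
      simp only [Functor.map_comp, Category.assoc] at this ⊢
      rw [← sqRX.w] at this
      rw [this, sqRX.w]
    · have : (yon S).map (y₁ ≫ q₂) ≫ c.v = (yon S).map (y₂ ≫ q₁) ≫ c.v := by rw [hy₁, hy₂]
      simp only [Functor.map_comp, Category.assoc] at this ⊢
      rw [sqRY.w, this, sqRY.w]
  have heqv : IsEqvRel s₂ s₁ :=
    ⟨fun Q r r' h₁ h₂ => inj Q r r' h₁ h₂,
     fun Q => ⟨fun x => ⟨x ≫ ρ, by rw [Category.assoc, hρ₁, Category.comp_id],
        by rw [Category.assoc, hρ₂, Category.comp_id]⟩,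
      fun ⟨r, h₁, h₂⟩ => ⟨r ≫ σ, by rw [Category.assoc, hσ₁, h₂], by rw [Category.assoc, hσ₂, h₁]⟩,
      fun ⟨r, h₁, h₂⟩ ⟨r', h₃, h₄⟩ => ⟨pullback.lift r r' (h₂.trans h₃.symm) ≫ τ,
        by rw [Category.assoc, hτ₁, pullback.lift_fst_assoc, h₁],
        by rw [Category.assoc, hτ₂, pullback.lift_snd_assoc, h₄]⟩⟩⟩
  -- the quotient
  obtain ⟨Y', π, hπl, sqR⟩ : ∃ (Y' : AlgSp.Sp S) (π : (yon S).obj M ⟶ Y'), Sheaf.IsLocallySurjective π ∧
      IsPullback ((yon S).map s₁) ((yon S).map s₂) π π :=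
    ⟨_, yonQuotπ s₂ s₁, isLocallySurjective_yonQuotπ _ _, isPullback_yonQuotπ heqv⟩
  haveI := hπl
  obtain ⟨hY', πe, πs⟩ := isAlgSpace_of_kernelPair sqR hs₂e hs₁e
  haveI := chart_isLocallySurjective c.u'e c.u's
  haveI := chart_isLocallySurjective c.ve c.vs
  haveI := chart_isLocallySurjective c.ue c.us
  haveI : Epi c.u' := (Sheaf.isLocallySurjective_iff_epi _).1 inferInstance
  haveI : Epi c.v := (Sheaf.isLocallySurjective_iff_epi _).1 inferInstance
  haveI : Epi c.u := (Sheaf.isLocallySurjective_iff_epi _).1 inferInstance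
  have := IsRegularEpiCategory.regularEpiOfEpi (C := Sp S) c.u'
  obtain ⟨f', hf'⟩ := IsRegularEpi.exists_of_isKernelPair c.u' sqRX ((yon S).map a ≫ π) (by
    rw [← Category.assoc, ← Category.assoc, ← Functor.map_comp, ← Functor.map_comp, ← hs₁a, ← hs₂a,
      Functor.map_comp, Functor.map_comp, Category.assoc, Category.assoc, sqR.w])
  have := IsRegularEpiCategory.regularEpiOfEpi (C := Sp S) c.v
  obtain ⟨t', ht'⟩ := IsRegularEpi.exists_of_isKernelPair c.v sqRY ((yon S).map b ≫ π) (by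
    rw [← Category.assoc, ← Category.assoc, ← Functor.map_comp, ← Functor.map_comp, ← hs₁b, ← hs₂b,
      Functor.map_comp, Functor.map_comp, Category.assoc, Category.assoc, sqR.w])
  have sqX : IsPullback c.u' ((yon S).map a) f' π := by
    refine PushoutAtlas.isPullback_of_base hf' c.u' sqRX.flip ?_
    rw [hf', ← Functor.map_comp, ← hs₂a]
    have h1 : IsPullback ((yon S).map p₁) ((yon S).map aR ≫ (yon S).map s₂) ((yon S).map a ≫ π) π :=
      (isPullback_yon sX₁).paste_vert sqR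
    rw [Functor.map_comp]
    exact h1
  have sqY : IsPullback c.v ((yon S).map b) t' π := by
    refine PushoutAtlas.isPullback_of_base ht' c.v sqRY.flip ?_
    rw [ht', ← Functor.map_comp, ← hs₂b]
    have h1 : IsPullback ((yon S).map q₁) ((yon S).map bR ≫ (yon S).map s₂) ((yon S).map b ≫ π) π :=
      (isPullback_yon sY₁).paste_vert sqR
    rw [Functor.map_comp]
    exact h1
  have hcl : RepWith @IsClosedImmersion t' := repWith_of_base_isImmersion π sqY
    (le_isImmersion_of_cases (Or.inl rfl)).1 fppfDescends_isClosedImmersion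
    ((repWith_yon_map_iff _ _).2 ‹IsClosedImmersion b.left›)
  refine ⟨⟨Y', hY'⟩, ⟨f'⟩, ⟨t'⟩, π, ?_, πe, πs, sqX, sqY, ⟨hcl.1, fun W Q g fst snd sq => ⟨hcl.2 _ _ _ sq, ?_⟩⟩⟩
  · ext1
    change t.hom ≫ f' = f.hom ≫ t'
    rw [← cancel_epi c.u, reassoc_of% c.sqi.w, hf', reassoc_of% c.sqj.w, ht', ← Functor.map_comp_assoc,
      ← Functor.map_comp_assoc, hab]
  · exact (repWith_of_base hcl.1 π sqY fppfDescends_surjective
      ((repWith_yon_map_iff _ _).2 ‹Surjective b.left›)).2 _ _ _ sq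

end Chart

end GrothLib.AlgSp.ThickPushout

namespace GrothLib.AlgSp.ThickPushout

open GrothLib.AlgSp

variable {S : Scheme.{u}} {X X' Y : AlgSp.Space S} {t : X ⟶ X'} {f : X ⟶ Y}

theorem isIntUH_of_thick {F G : AlgSp.Sp S} {k : F ⟶ G} (hk : IsThickMor k) : IsIntUH k := by
  haveI : Mono k := mono_of_closedImmersion (repWith_mono hk fun _ _ _ h => h.1)
  exact ⟨repWith_mono hk fun _ _ g h => (by haveI : IsClosedImmersion g := h.1; infer_instance),
    isUnivInjectiveMor_of_mono k, surjective_map_of_repWith (repWith_mono hk fun _ _ _ h => h.2)⟩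

/-- Every etale atlas of the affine side extends to a chart. -/
theorem exists_chart (ht : IsThickMor t.hom) (hf : IsAffineMor f.hom) {V : Over S}
    (v : (yon S).obj V ⟶ Y.obj) (ve : RepWith @Etale v) (vs : RepWith @Surjective v) :
    ∃ c : Chart t f, ∃ e : c.V = V, c.v = eqToHom (by rw [e]) ≫ v := by
  obtain ⟨U, u, j, sqj⟩ := exists_isPullback_of_representable (isAffineMor_iff.1 hf).1 v
  have ue : RepWith @Etale u := repWith_of_isPullback sqj.flip ve
  have us : RepWith @Surjective u := repWith_of_isPullback sqj.flip vs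
  have hUH := isIntUH_of_thick ht
  obtain ⟨Q, q, cQ, hQ, hqe, sqQ⟩ := exists_etale_space_lift X.property X'.property (IsAlgSpace.yon_obj U) hUH
    (isEtaleMor_of_locP X.property (EtLocal.locP_of_repWith EtLocal.etale X.property ue))
  obtain ⟨U', ⟨e⟩⟩ := exists_scheme_of_thick hQ (repWith_of_isPullback sqQ ht : IsThickMor cQ)
  obtain ⟨i, hi⟩ := (yon S).map_surjective (cQ ≫ e.inv)
  have sqi : IsPullback u ((yon S).map i) t.hom (e.hom ≫ q) := by
    rw [hi]
    exact sqQ.of_iso (Iso.refl _) (Iso.refl _) e.symm (Iso.refl _) (by simp) (by simp) (by simp) (by simp)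
  have hrep : Representable (e.hom ≫ q) := representable_of_source_scheme X'.property _
  refine ⟨⟨U, U', V, i, j, u, e.hom ≫ q, v, sqi, sqj,
    EtLocal.repWith_of_locP EtLocal.etale X'.property hrep
      (EtLocal.locP_comp EtLocal.etale (IsAlgSpace.yon_obj U') hQ X'.property
        (EtLocal.locP_of_repWith EtLocal.etale hQ (repWith_iso e.hom)) (locP_of_isEtaleMor X'.property hqe)),
    (repWith_surjective_iff hrep).2 fun x => ?_, ve, vs⟩, rfl, (by simp)⟩
  obtain ⟨z, rfl⟩ := hUH.2.2 x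
  obtain ⟨p, rfl⟩ := surjective_map_of_repWith us z
  exact ⟨Points.map ((yon S).map i) p, by rw [← Points.map_comp, ← sqi.w, Points.map_comp]⟩

/-- The pushout of a thickening along an affine morphism. -/
theorem exists_pushout (ht : IsThickMor t.hom) (hf : IsAffineMor f.hom) (c : Chart t f) :
    ∃ (Y' : AlgSp.Space S) (f' : X' ⟶ Y') (t' : Y ⟶ Y') (M : Over S) (a : c.U' ⟶ M) (b : c.V ⟶ M)
      (π : (yon S).obj M ⟶ Y'.obj), IsPushout t f f' t' ∧ IsPushout c.i.left c.j.left a.left b.left ∧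
      RepWith @Etale π ∧ RepWith @Surjective π ∧
      IsPullback c.u' ((yon S).map a) f'.hom π ∧ IsPullback c.v ((yon S).map b) t'.hom π ∧ IsThickMor t'.hom := by
  obtain ⟨M, a, b, hP, hB, hbs, hbc⟩ := c.exists_obj ht hf
  haveI := hbc
  haveI := hbs
  obtain ⟨Y', f', t', π, hw, πe, πs, sqX, sqY, ht'⟩ := c.exists_space ht hf a b hP hB
  haveI := (c.thick_i ht).1
  haveI := (c.thick_i ht).2
  haveI := c.affine_j hf
  exact ⟨Y', f', t', M, a, b, π, PushoutAtlas.isPushout_of_atlas t f f' t' hw c.i c.j a b hP π πe πs c.u c.u' c.v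
    c.sqi.w c.sqj.w sqX sqY, hP, πe, πs, sqX, sqY, ht'⟩

/-- Every pushout of a thickening along an affine morphism has charts given by pushouts of charts. -/
theorem exists_structure {Y' : AlgSp.Space S} {f' : X' ⟶ Y'} {t' : Y ⟶ Y'} (ht : IsThickMor t.hom)
    (hf : IsAffineMor f.hom) (hY' : IsPushout t f f' t') (c : Chart t f) :
    ∃ (M : Over S) (a : c.U' ⟶ M) (b : c.V ⟶ M) (π : (yon S).obj M ⟶ Y'.obj),
      IsPushout c.i.left c.j.left a.left b.left ∧ RepWith @Etale π ∧ RepWith @Surjective π ∧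
      IsPullback c.u' ((yon S).map a) f'.hom π ∧ IsPullback c.v ((yon S).map b) t'.hom π ∧ IsThickMor t'.hom := by
  obtain ⟨Y₁, f₁, t₁, M, a, b, π, hpo, hP, πe, πs, sqX, sqY, ht₁⟩ := exists_pushout ht hf c
  let φ := hpo.isoIsPushout _ _ hY'
  have h₁ : f₁ ≫ φ.hom = f' := hpo.inl_isoIsPushout_hom _ _ hY'
  have h₂ : t₁ ≫ φ.hom = t' := hpo.inr_isoIsPushout_hom _ _ hY'
  let ψ : Y₁.obj ≅ Y'.obj := (ObjectProperty.ι _).mapIso φ
  have h₁' : f'.hom = f₁.hom ≫ ψ.hom := (congrArg (fun z => z.hom) h₁).symm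
  have h₂' : t'.hom = t₁.hom ≫ ψ.hom := (congrArg (fun z => z.hom) h₂).symm
  refine ⟨M, a, b, π ≫ ψ.hom, hP, repWith_comp πe (repWith_iso _), repWith_comp πs (repWith_iso _), ?_, ?_, ?_⟩
  · rw [h₁']
    exact sqX.of_iso (Iso.refl _) (Iso.refl _) (Iso.refl _) ψ (by simp) (by simp) (by simp) (by simp)
  · rw [h₂']
    exact sqY.of_iso (Iso.refl _) (Iso.refl _) (Iso.refl _) ψ (by simp) (by simp) (by simp) (by simp)
  · rw [h₂']
    exact repWith_of_isPullback (IsPullback.of_horiz_isIso ⟨by simp⟩ :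
      IsPullback (𝟙 _) (t₁.hom ≫ ψ.hom) t₁.hom ψ.inv) ht₁

end GrothLib.AlgSp.ThickPushout
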