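import Groth.Agent.Lib.AlgSp.ThickPushout
import Groth.Agent.Lib.MilnorAlg10.Basic
import Groth.Agent.Lib.Pushout6.ClosedPair

/-!
# Properties of morphisms between pushouts of thickenings along affine morphisms

* `exists_rel`: compatible charts of a morphism of pushout squares.
* `locP_iff`: etale local properties are detected on the two legs.
-/

set_option backward.isDefEq.respectTransparency false

universe u

open CategoryTheory CategoryTheory.Limits AlgebraicGeometry Opposite AlgSp TensorProduct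

namespace GrothLib.Pushout6

theorem SquareMap.prop_general {P A B C P' A' B' C' : CommRingCat.{u}} (M : SquareMap P A B C P' A' B' C')
    {Q : ∀ {R S : Type u} [CommRing R] [CommRing S], (R →+* S) → Prop} (hQ : RingHom.RespectsIso Q)
    (main : ∀ {B₀ B₁ A₁ A₀ : Type u} [CommRing B₀] [CommRing B₁] [CommRing A₁] [CommRing A₀] [Algebra B₀ B₁]
      [Algebra B₀ A₁] [Algebra B₁ A₀] [Algebra A₁ A₀] [Algebra B₀ A₀] [IsScalarTower B₀ B₁ A₀]
      [IsScalarTower B₀ A₁ A₀], EtMil.IsFibreSquare B₀ B₁ A₁ A₀ → ∀ (L : Type u) [CommRing L] [Algebra B₀ L],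
      Q (algebraMap B₁ (B₁ ⊗[B₀] L)) → Q (algebraMap A₁ (A₁ ⊗[B₀] L)) → Q (algebraMap B₀ L))
    (hA : Q M.φA.hom) (hB : Q M.φB.hom) : Q M.φP.hom := by
  letI := M.f.hom.toAlgebra
  letI := M.g.hom.toAlgebra
  letI := M.q.hom.toAlgebra
  letI := M.p.hom.toAlgebra
  letI : Algebra P C := (M.f ≫ M.q).hom.toAlgebra
  haveI : IsScalarTower P B C := IsScalarTower.of_algebraMap_eq fun _ => rfl
  haveI : IsScalarTower P A C := IsScalarTower.of_algebraMap_eq fun x => RingHom.congr_fun M.sq.w x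
  have hsq : EtMil.IsFibreSquare P B A C := ⟨M.sq.surj, fun b a h => by
    obtain ⟨x, hx₁, hx₂⟩ := M.sq.ex b a h
    refine ⟨x, ⟨hx₁, hx₂⟩, fun y hy => sub_eq_zero.mp (M.sq.inj _ ?_ ?_)⟩
    · rw [map_sub, sub_eq_zero, hx₁]
      exact hy.1
    · rw [map_sub, sub_eq_zero, hx₂]
      exact hy.2⟩
  letI := M.φP.hom.toAlgebra
  exact main hsq P' (prop_includeLeft hQ M.isPushout_right rfl rfl hB)
    (prop_includeLeft hQ M.isPushout_left rfl rfl hA)

variable {X Y Z X' Y' Z' : Scheme.{u}} {i : Z ⟶ X} {j : Z ⟶ Y} [IsClosedImmersion i]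
  {i' : Z' ⟶ X'} {j' : Z' ⟶ Y'} [IsClosedImmersion i'] {fX : X' ⟶ X} {gY : Y' ⟶ Y} {hZ : Z' ⟶ Z}
  (hX : IsPullback hZ i' i fX) (hY : IsPullback hZ j' j gY) (hC : Covered i j) (hC' : Covered i' j')

theorem flat_mapObj_general [Flat fX] [Flat gY] : Flat (mapObj hX hY hC hC') :=
  prop_mapObj hX hY hC hC' @Flat (fun _ _ => inferInstance) fun c c' hU hV =>
    (HasRingHomProperty.Spec_iff (P := @Flat)).mpr <| (squareMap hX hY hU hV).prop_general
      RingHom.Flat.respectsIso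
      (fun hsq L _ _ h₁ h₂ => by
        haveI := RingHom.flat_algebraMap_iff.mp h₁
        haveI := RingHom.flat_algebraMap_iff.mp h₂
        exact RingHom.flat_algebraMap_iff.mpr (Groth.Agent.Milnor.flat_of_pair hsq))
      (HasRingHomProperty.appLE @Flat fX inferInstance ⟨c.U, c.hU⟩ ⟨c'.U, c'.hU⟩ hU)
      (HasRingHomProperty.appLE @Flat gY inferInstance ⟨c.V, c.hV⟩ ⟨c'.V, c'.hV⟩ hV)

theorem flat_lfp_mapObj_general [Flat fX] [Flat gY] [LocallyOfFinitePresentation fX]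
    [LocallyOfFinitePresentation gY] : LocallyOfFinitePresentation (mapObj hX hY hC hC') :=
  prop_mapObj hX hY hC hC' @LocallyOfFinitePresentation (fun _ _ => inferInstance) fun c c' hU hV =>
    (HasRingHomProperty.Spec_iff (P := @LocallyOfFinitePresentation)).mpr <| by
      haveI := flat_mapObj_general hX hY hC hC'
      have hfl : (ringMap hX hY hU hV).hom.Flat := (HasRingHomProperty.Spec_iff (P := @Flat)).mp (by
        haveI : Flat (Spec.map (ringMap hX hY hU hV) ≫ chartι c) := by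
          rw [← chartι_mapObj hX hY hC hC' hU hV]
          infer_instance
        exact GrothLib.Thickening.of_comp_mono @Flat _ (chartι c) inferInstance)
      have hft : (ringMap hX hY hU hV).hom.FiniteType := (squareMap hX hY hU hV).finiteType_φP
        (RingHom.FiniteType.of_finitePresentation
          (HasRingHomProperty.appLE @LocallyOfFinitePresentation fX inferInstance ⟨c.U, c.hU⟩ ⟨c'.U, c'.hU⟩ hU))
        (RingHom.FiniteType.of_finitePresentation
          (HasRingHomProperty.appLE @LocallyOfFinitePresentation gY inferInstance ⟨c.V, c.hV⟩ ⟨c'.V, c'.hV⟩ hV))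
      refine ((squareMap hX hY hU hV).prop_general (Q := fun g => g.FinitePresentation ∧ g.Flat)
        (RingHom.finitePresentation_respectsIso.and RingHom.Flat.respectsIso)
        (fun hsq L _ _ h₁ h₂ => by
          haveI := RingHom.flat_algebraMap_iff.mp h₁.2
          haveI := RingHom.flat_algebraMap_iff.mp h₂.2
          haveI := RingHom.finitePresentation_algebraMap.mp h₁.1
          haveI := RingHom.finitePresentation_algebraMap.mp h₂.1
          haveI := Groth.Agent.Milnor.flat_of_pair (L := L) hsq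
          exact ⟨RingHom.finitePresentation_algebraMap.mpr (GrothLib.MilnorAlg10.finitePresentation_of_pair hsq),
            RingHom.flat_algebraMap_iff.mpr inferInstance⟩)
        ⟨HasRingHomProperty.appLE @LocallyOfFinitePresentation fX inferInstance ⟨c.U, c.hU⟩ ⟨c'.U, c'.hU⟩ hU,
          HasRingHomProperty.appLE @Flat fX inferInstance ⟨c.U, c.hU⟩ ⟨c'.U, c'.hU⟩ hU⟩
        ⟨HasRingHomProperty.appLE @LocallyOfFinitePresentation gY inferInstance ⟨c.V, c.hV⟩ ⟨c'.V, c'.hV⟩ hV,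
          HasRingHomProperty.appLE @Flat gY inferInstance ⟨c.V, c.hV⟩ ⟨c'.V, c'.hV⟩ hV⟩).1

theorem smooth_mapObj_general [Smooth fX] [Smooth gY] : Smooth (mapObj hX hY hC hC') :=
  prop_mapObj hX hY hC hC' @Smooth (fun _ _ => inferInstance) fun c c' hU hV =>
    (HasRingHomProperty.Spec_iff (P := @Smooth)).mpr <| (squareMap hX hY hU hV).prop_general
      RingHom.Smooth.respectsIso
      (fun hsq L _ _ h₁ h₂ => by
        haveI := RingHom.smooth_algebraMap.mp h₁
        haveI := RingHom.smooth_algebraMap.mp h₂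
        exact RingHom.smooth_algebraMap.mpr (GrothLib.MilnorAlg10.smooth_of_pair hsq))
      (HasRingHomProperty.appLE @Smooth fX inferInstance ⟨c.U, c.hU⟩ ⟨c'.U, c'.hU⟩ hU)
      (HasRingHomProperty.appLE @Smooth gY inferInstance ⟨c.V, c.hV⟩ ⟨c'.V, c'.hV⟩ hV)

end GrothLib.Pushout6

namespace GrothLib.AlgSp.ThickPushout

open GrothLib.AlgSp GrothLib.Pushout6

variable {S : Scheme.{u}}

/-- Compatible atlases of a morphism of pushout squares of thickenings along affine morphisms. -/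
structure Rel {X X' Y Y' U U' V V' : AlgSp.Space S} (t : X ⟶ X') (f : X ⟶ Y) (t' : Y ⟶ Y') (f' : X' ⟶ Y')
    (v : V ⟶ Y) (u' : U' ⟶ X') (uV : U ⟶ V) (uU' : U ⟶ U') (iV : V ⟶ V') (iU' : U' ⟶ V') (v' : V' ⟶ Y') where
  c₀ : Chart t f
  c : Chart uU' uV
  g : c.U ⟶ c₀.U
  g' : c.U' ⟶ c₀.U'
  h : c.V ⟶ c₀.V
  M₀ : Over S
  a₀ : c₀.U' ⟶ M₀
  b₀ : c₀.V ⟶ M₀
  π₀ : (yon S).obj M₀ ⟶ Y'.obj
  M : Over S
  a : c.U' ⟶ M
  b : c.V ⟶ M
  π : (yon S).obj M ⟶ V'.obj
  m : M ⟶ M₀
  hg' : c.u' ≫ u'.hom = (yon S).map g' ≫ c₀.u'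
  hh : c.v ≫ v.hom = (yon S).map h ≫ c₀.v
  sqU : IsPullback g c.i c₀.i g'
  sqV : IsPullback g c.j c₀.j h
  hP₀ : IsPushout c₀.i.left c₀.j.left a₀.left b₀.left
  π₀e : RepWith @Etale π₀
  sqX₀ : IsPullback c₀.u' ((yon S).map a₀) f'.hom π₀
  sqY₀ : IsPullback c₀.v ((yon S).map b₀) t'.hom π₀
  hP : IsPushout c.i.left c.j.left a.left b.left
  πe : RepWith @Etale π
  πs : RepWith @Surjective π
  sqX : IsPullback c.u' ((yon S).map a) iU'.hom π
  sqY : IsPullback c.v ((yon S).map b) iV.hom π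
  hma : a ≫ m = g' ≫ a₀
  hmb : b ≫ m = h ≫ b₀
  hπ : π ≫ v'.hom = (yon S).map m ≫ π₀

variable {X X' Y Y' U U' V V' : AlgSp.Space S} {t : X ⟶ X'} {f : X ⟶ Y} {t' : Y ⟶ Y'} {f' : X' ⟶ Y'}
  {v : V ⟶ Y} {u' : U' ⟶ X'} {uV : U ⟶ V} {uU' : U ⟶ U'} {uX : U ⟶ X} {iV : V ⟶ V'} {iU' : U' ⟶ V'}
  {v' : V' ⟶ Y'}

theorem exists_rel (ht : IsThickMor t.hom) (hf : IsAffineMor f.hom) (hY' : IsPushout t f f' t')
    (hUV : IsPullback uV.hom uX.hom v.hom f.hom) (hUU' : IsPullback uU'.hom uX.hom u'.hom t.hom)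
    (hV' : IsPushout uV uU' iV iU') (hv'₁ : iV ≫ v' = v ≫ t') (hv'₂ : iU' ≫ v' = u' ≫ f') :
    Nonempty (Rel t f t' f' v u' uV uU' iV iU' v') := by
  have htU : IsThickMor uU'.hom := repWith_of_isPullback hUU'.flip ht
  have hfU : IsAffineMor uV.hom := isAffineMor_iff.2 (repWith_of_isPullback hUV.flip (isAffineMor_iff.1 hf))
  obtain ⟨V₀, v₀, ve₀, vs₀⟩ := Y.property.atlas
  obtain ⟨c₀, -⟩ := exists_chart ht hf v₀ ve₀ vs₀
  obtain ⟨W, p, pe, ps⟩ := (isAlgSpace_pullback' Y.property V.property (IsAlgSpace.yon_obj c₀.V) v.hom c₀.v).atlas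
  have sqP := IsPullback.of_hasPullback v.hom c₀.v
  obtain ⟨c, e, hcv⟩ := exists_chart htU hfU (p ≫ pullback.fst v.hom c₀.v)
    (repWith_comp pe (repWith_of_isPullback sqP.flip c₀.ve)) (repWith_comp ps (repWith_of_isPullback sqP.flip c₀.vs))
  subst e
  obtain ⟨h, hh'⟩ := (yon S).map_surjective (p ≫ pullback.snd v.hom c₀.v)
  have hh : c.v ≫ v.hom = (yon S).map h ≫ c₀.v := by
    rw [hcv, hh']
    simp [pullback.condition]
  -- the map on the common part
  obtain ⟨g₁, hg₁, hg₂⟩ := c₀.sqj.exists_lift (c.u ≫ uX.hom) ((yon S).map (c.j ≫ h)) (by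
    rw [Category.assoc, ← hUV.w, ← Category.assoc, c.sqj.w, Category.assoc, hh, Functor.map_comp, Category.assoc])
  obtain ⟨g, rfl⟩ := (yon S).map_surjective g₁
  rw [← Functor.map_comp] at hg₂
  replace hg₂ := (yon S).map_injective hg₂
  have sq₁ : IsPullback (c.u ≫ uX.hom) ((yon S).map c.i) t.hom (c.u' ≫ u'.hom) := c.sqi.flip.paste_vert hUU' |>.flip
  obtain ⟨g'₁, ⟨hg'₁, hg'₂⟩, -⟩ := existsUnique_lift_hom X'.property (IsAlgSpace.yon_obj c.U')
    (IsAlgSpace.yon_obj c₀.U') (IsAlgSpace.yon_obj c.U) (isIntUH_of_thick ht)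
    (isEtaleMor_of_locP X'.property (EtLocal.locP_of_repWith EtLocal.etale X'.property c₀.u'e)) sq₁ c₀.sqi
    ((yon S).map g) hg₁
  obtain ⟨g', rfl⟩ := (yon S).map_surjective g'₁
  rw [← Functor.map_comp, ← Functor.map_comp] at hg'₂
  replace hg'₂ := (yon S).map_injective hg'₂
  have sqU : IsPullback g c.i c₀.i g' := by
    refine isPullback_of_isPullback_yon (IsPullback.of_right ?_ (by rw [← Functor.map_comp, ← Functor.map_comp, hg'₂])
      c₀.sqi)
    rw [hg₁, hg'₁]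
    exact sq₁
  have sqV : IsPullback g c.j c₀.j h := by
    refine isPullback_of_isPullback_yon (IsPullback.of_right ?_ (by rw [← Functor.map_comp, ← Functor.map_comp, hg₂])
      c₀.sqj)
    rw [hg₁, ← hh]
    exact c.sqj.flip.paste_vert hUV |>.flip
  obtain ⟨M₀, a₀, b₀, π₀, hP₀, π₀e, -, sqX₀, sqY₀, -⟩ := exists_structure ht hf hY' c₀
  obtain ⟨M, a, b, π, hP, πe, πs, sqX, sqY, -⟩ := exists_structure htU hfU hV'.flip c
  haveI := (c.thick_i htU).1
  have hC := c.covered htU hfU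
  obtain ⟨m, hma, hmb⟩ : ∃ m : M ⟶ M₀, a ≫ m = g' ≫ a₀ ∧ b ≫ m = h ≫ b₀ := by
    have hw : c.i ≫ g' ≫ a₀ = c.j ≫ h ≫ b₀ := by
      rw [← Category.assoc, ← sqU.w, ← Category.assoc, ← sqV.w, Category.assoc, Category.assoc,
        show c₀.i ≫ a₀ = c₀.j ≫ b₀ from Over.OverMorphism.ext hP₀.w]
    let d := hP.desc (g' ≫ a₀).left (h ≫ b₀).left (congrArg (fun z => z.left) hw)
    have hd₁ : a.left ≫ d = (g' ≫ a₀).left := hP.inl_desc _ _ _
    have hd₂ : b.left ≫ d = (h ≫ b₀).left := hP.inr_desc _ _ _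
    refine ⟨Over.homMk d (hP.hom_ext ?_ ?_), Over.OverMorphism.ext hd₁, Over.OverMorphism.ext hd₂⟩
    · rw [reassoc_of% hd₁, Over.w, Over.w a]
    · rw [reassoc_of% hd₂, Over.w, Over.w b]
  have hπ : π ≫ v'.hom = (yon S).map m ≫ π₀ := by
    have h₁ : iU'.hom ≫ v'.hom = u'.hom ≫ f'.hom := congrArg (fun z => z.hom) hv'₂
    have h₂ : iV.hom ≫ v'.hom = v.hom ≫ t'.hom := congrArg (fun z => z.hom) hv'₁
    refine PinchDesc.hom_ext_pushout c.i c.j a b hC hP Y'.property ?_ ?_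
    · rw [← Category.assoc, ← sqX.w, Category.assoc, h₁, ← Category.assoc, ← hg'₁, Category.assoc, sqX₀.w,
        ← Functor.map_comp_assoc, ← Functor.map_comp_assoc, hma]
    · rw [← Category.assoc, ← sqY.w, Category.assoc, h₂, ← Category.assoc, hh, Category.assoc, sqY₀.w,
        ← Functor.map_comp_assoc, ← Functor.map_comp_assoc, hmb]
  exact ⟨⟨c₀, c, g, g', h, M₀, a₀, b₀, π₀, M, a, b, π, m, hg'₁.symm, hh, sqU, sqV, hP₀, π₀e, sqX₀, sqY₀, hP,
    πe, πs, sqX, sqY, hma, hmb, hπ⟩⟩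

/-- Etale local properties are detected on the two legs. -/
theorem Rel.locP_iff {P : MorphismProperty Scheme.{u}} (hP : EtLocal P) (ht : IsThickMor t.hom)
    (hf : IsAffineMor f.hom) (r : Rel t f t' f' v u' uV uU' iV iU' v') (htU : IsThickMor uU'.hom)
    (hfU : IsAffineMor uV.hom)
    (hobj : ∀ {A B C A' B' C' : Scheme.{u}} {i : C ⟶ A} {j : C ⟶ B} [IsClosedImmersion i] {i' : C' ⟶ A'}
      {j' : C' ⟶ B'} [IsClosedImmersion i'] {fA : A' ⟶ A} {gB : B' ⟶ B} {hz : C' ⟶ C}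
      (hA : IsPullback hz i' i fA) (hB : IsPullback hz j' j gB) (hC : Covered i j) (hC' : Covered i' j'),
      P fA → P gB → P (mapObj hA hB hC hC')) :
    LocP P v'.hom ↔ LocP P v.hom ∧ LocP P u'.hom := by
  haveI := (r.c₀.thick_i ht).1
  haveI := (r.c.thick_i htU).1
  have hA := isPullback_left r.sqU
  have hB := isPullback_left r.sqV
  have hC₀ := r.c₀.covered ht hf
  have hC := r.c.covered htU hfU
  haveI := hP.respectsIso
  haveI := hP.baseChange
  have hm : P r.m.left ↔ P r.h.left ∧ P r.g'.left := by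
    rw [prop_iff_mapObj hA hB hC₀ hC P r.hP₀ r.hP r.m.left (congrArg (fun z => z.left) r.hma)
      (congrArg (fun z => z.left) r.hmb)]
    exact ⟨fun h => (prop_of_mapObj hA hB hC₀ hC P h).symm, fun h => hobj hA hB hC₀ hC h.2 h.1⟩
  constructor
  · intro h
    obtain ⟨h₁, h₂⟩ := hm.1 (h r.π r.π₀ r.m r.πe r.π₀e r.hπ)
    exact ⟨EtLocal.locP_of_chart hP r.c.ve r.c.vs r.c₀.ve r.hh h₁,
      EtLocal.locP_of_chart hP r.c.u'e r.c.u's r.c₀.u'e r.hg' h₂⟩
  · rintro ⟨h₁, h₂⟩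
    exact EtLocal.locP_of_chart hP r.πe r.πs r.π₀e r.hπ
      (hm.2 ⟨h₁ r.c.v r.c₀.v r.h r.c.ve r.c₀.ve r.hh, h₂ r.c.u' r.c₀.u' r.g' r.c.u'e r.c₀.u'e r.hg'⟩)

/-- The pushout squares of the pushouts are cartesian. -/
theorem Rel.isPullback (ht : IsThickMor t.hom) (hf : IsAffineMor f.hom)
    (r : Rel t f t' f' v u' uV uU' iV iU' v') (htU : IsThickMor uU'.hom) (hfU : IsAffineMor uV.hom)
    (hv'₁ : iV ≫ v' = v ≫ t') (hv'₂ : iU' ≫ v' = u' ≫ f') :
    IsPullback iV.hom v.hom v'.hom t'.hom ∧ IsPullback iU'.hom u'.hom v'.hom f'.hom := by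
  haveI := (r.c₀.thick_i ht).1
  haveI := (r.c.thick_i htU).1
  have hA := isPullback_left r.sqU
  have hB := isPullback_left r.sqV
  have hC₀ := r.c₀.covered ht hf
  have hC := r.c.covered htU hfU
  let e := objIso hC₀ r.hP₀
  let e' := objIso hC r.hP
  have hm : mapObj hA hB hC₀ hC ≫ e.hom = e'.hom ≫ r.m.left := by
    refine Pushout6.hom_ext hC ?_ ?_
    · rw [← Category.assoc, inl_mapObj, Category.assoc, inl_objIso, reassoc_of% inl_objIso hC r.hP]
      exact (congrArg (fun z => z.left) r.hma).symm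
    · rw [← Category.assoc, inr_mapObj, Category.assoc, inr_objIso, reassoc_of% inr_objIso hC r.hP]
      exact (congrArg (fun z => z.left) r.hmb).symm
  have sa : IsPullback r.g' r.a r.a₀ r.m := by
    refine IsPullback.of_map (Over.forget S) r.hma.symm ?_
    have h₀ : IsPullback r.g'.left (inl hC) r.a₀.left (mapObj hA hB hC₀ hC ≫ e.hom) :=
      (isPullback_inl_mapObj hA hB hC₀ hC).of_iso (Iso.refl _) (Iso.refl _) (Iso.refl _) e
        (by simp) (by simp) (by simp [e, inl_objIso]) (by simp)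
    exact h₀.of_iso (Iso.refl _) (Iso.refl _) e' (Iso.refl _) (by simp) (by simp [e', inl_objIso]) (by simp)
      (by simp [hm])
  have sb : IsPullback r.h r.b r.b₀ r.m := by
    refine IsPullback.of_map (Over.forget S) r.hmb.symm ?_
    have h₀ : IsPullback r.h.left (inr hC) r.b₀.left (mapObj hA hB hC₀ hC ≫ e.hom) :=
      (isPullback_inr_mapObj hA hB hC₀ hC).of_iso (Iso.refl _) (Iso.refl _) (Iso.refl _) e
        (by simp) (by simp) (by simp [e, inr_objIso]) (by simp)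
    exact h₀.of_iso (Iso.refl _) (Iso.refl _) e' (Iso.refl _) (by simp) (by simp [e', inr_objIso]) (by simp)
      (by simp [hm])
  haveI := chart_isLocallySurjective r.πe r.πs
  constructor
  · refine PushoutAtlas.isPullback_of_base (congrArg (fun z => z.hom) hv'₁) r.π r.sqY ?_
    rw [r.hπ, r.hh]
    exact (isPullback_yon sb).flip.paste_vert r.sqY₀.flip
  · refine PushoutAtlas.isPullback_of_base (congrArg (fun z => z.hom) hv'₂) r.π r.sqX ?_
    rw [r.hπ, r.hg']
    exact (isPullback_yon sa).flip.paste_vert r.sqX₀.flip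

end GrothLib.AlgSp.ThickPushout
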