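import Groth.Agent.Lib.AlgSp.TrivLocus

/-!
# A space with a section all whose fibres are trivial is trivial
-/

set_option backward.isDefEq.respectTransparency false

universe u

open CategoryTheory CategoryTheory.Limits AlgebraicGeometry TopologicalSpace Topology IsLocalRing

namespace GrothLib.AlgSp.TrivLocus

open _root_.AlgSp

variable {S : Scheme.{u}} {F : Sp S} {U : Over S} {π : F ⟶ (yon S).obj U}

/-- The two sections over geometric points agree. -/
def TrivGeom (π : F ⟶ (yon S).obj U) : Prop :=
  ∀ (k : Type u) [Field k] [IsAlgClosed k] (sk : Spec (CommRingCat.of k) ⟶ S) (p : Over.mk sk ⟶ U)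
    (s s' : (yon S).obj (Over.mk sk) ⟶ F), s ≫ π = (yon S).map p → s' ≫ π = (yon S).map p → s = s'

/-- A point of a scheme over the base with values in an algebraic closure of the residue field. -/
noncomputable abbrev geomPt (W : Over S) (w : W.left) :
    Spec (CommRingCat.of (AlgebraicClosure (W.left.residueField w))) ⟶ W.left :=
  Spec.map (CommRingCat.ofHom (algebraMap (W.left.residueField w) (AlgebraicClosure (W.left.residueField w)))) ≫
    W.left.fromSpecResidueField w

theorem surjective_of_trivGeom (e : (yon S).obj U ⟶ F) (he : e ≫ π = 𝟙 _) (hg : TrivGeom π) {W U' : Over S}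
    {a : (yon S).obj W ⟶ F} {h : W ⟶ U} (hh : a ≫ π = (yon S).map h) {k : U' ⟶ U} {c : U' ⟶ W}
    (sq : IsPullback ((yon S).map k) ((yon S).map c) e a) : Surjective c.left := by
  refine ⟨fun w => ?_⟩
  let x : Over.mk (geomPt W w ≫ W.hom) ⟶ W := Over.homMk (geomPt W w) rfl
  have h1 : ((yon S).map x ≫ a) ≫ π = (yon S).map (x ≫ h) :=
    (Category.assoc _ _ _).trans ((congrArg ((yon S).map x ≫ ·) hh).trans ((yon S).map_comp x h).symm)
  have h2 : ((yon S).map (x ≫ h) ≫ e) ≫ π = (yon S).map (x ≫ h) :=
    (Category.assoc _ _ _).trans ((congrArg ((yon S).map (x ≫ h) ≫ ·) he).trans (Category.comp_id _))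
  have heq := hg _ _ (x ≫ h) _ _ h1 h2
  obtain ⟨m, hm⟩ := (yon S).map_surjective (sq.lift ((yon S).map (x ≫ h)) ((yon S).map x) heq.symm)
  have hmc : m ≫ c = x := (yon S).map_injective
    (((yon S).map_comp m c).trans ((congrArg (· ≫ (yon S).map c) hm).trans (sq.lift_snd _ _ _)))
  refine ⟨m.left (closedPoint (AlgebraicClosure (W.left.residueField w))), ?_⟩
  have h3 : m.left ≫ c.left = geomPt W w := congrArg CommaMorphism.left hmc
  exact ((Scheme.Hom.comp_apply m.left c.left _).symm.trans
    (congrArg (fun q => q (closedPoint (AlgebraicClosure (W.left.residueField w)))) h3)).trans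
    ((Scheme.Hom.comp_apply _ _ _).trans (Scheme.fromSpecResidueField_apply _ _))

theorem triv_of_chart (hF : IsAlgSpace F) (e : (yon S).obj U ⟶ F) (he : e ≫ π = 𝟙 _)
    (hlft : LocP @LocallyOfFiniteType π) (hg : TrivGeom π)
    (H : ∀ {W U' : Over S} (a : (yon S).obj W ⟶ F) (h : W ⟶ U) (k : U' ⟶ U) (c : U' ⟶ W), RepWith @Etale a →
      a ≫ π = (yon S).map h → IsPullback ((yon S).map k) ((yon S).map c) e a → c ≫ h = k → Etale k.left →
      LocallyOfFiniteType h.left → FormallyUnramified h.left) : Triv π (𝟙 U) := by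
  have : Mono e := mono_of_mono_fac he
  have helft : LocP @LocallyOfFiniteType e := EtLocal.locP_of_comp EtLocal.lft
    (fun A B C f g h => by have : LocallyOfFiniteType (f ≫ g) := h; exact locallyOfFiniteType_of_comp f g)
    (IsAlgSpace.yon_obj U) hF (IsAlgSpace.yon_obj U) (g := π) (by
      rw [he]
      exact EtLocal.locP_of_repWith EtLocal.lft (IsAlgSpace.yon_obj U) (repWith_id _ U))
  have her := representable_of_lft_mono (IsAlgSpace.yon_obj U) hF helft
  obtain ⟨W, a, ha, has⟩ := hF.atlas
  obtain ⟨U', fst, c, sq⟩ := exists_isPullback_of_representable her a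
  obtain ⟨k, rfl⟩ := (yon S).map_surjective fst
  have hk : Etale k.left := ha.2 e ((yon S).map c) k sq.flip
  have : Mono c.left := (repWith_monomorphisms_of_mono her).2 _ _ _ sq
  let h : W ⟶ U := (yon S).preimage (a ≫ π)
  have hh : a ≫ π = (yon S).map h := ((yon S).map_preimage _).symm
  have hhft : LocallyOfFiniteType h.left := hlft a (𝟙 _) h ha (repWith_id _ U) (by rw [hh, Category.comp_id])
  have hck : c ≫ h = k := (yon S).map_injective (by
    rw [Functor.map_comp, ← hh, ← sq.w_assoc, he, Category.comp_id])
  have : FormallyUnramified h.left := H a h k c ha hh sq hck hk hhft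
  have : Etale (c.left ≫ h.left) := by rw [← Over.comp_left, hck]; exact hk
  have := Etale.of_comp c.left h.left
  have hopen : IsOpenImmersion c.left := IsOpenImmersion.of_flat_of_mono _
  have := surjective_of_trivGeom e he hg hh sq
  have : IsIso c.left := isIso_of_isOpenImmersion_of_opensRange_eq_top c.left (by
    rw [← TopologicalSpace.Opens.coe_inj]; exact Surjective.surj.range_eq)
  have : IsIso ((Over.forget S).map c) := this
  have : IsIso c := isIso_of_reflects_iso c (Over.forget S)
  have : Sheaf.IsLocallySurjective a := isLocallySurjective_of_repWith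
    (repWith_mono ha fun _ _ g (_ : Etale g) => (inferInstance : Flat g))
    (repWith_mono ha fun _ _ g (_ : Etale g) => (inferInstance : LocallyOfFinitePresentation g)) has
  have : Epi a := (Sheaf.isLocallySurjective_iff_epi _).1 inferInstance
  have ha' : a = inv ((yon S).map c) ≫ (yon S).map k ≫ e := by rw [IsIso.eq_inv_comp]; exact sq.w.symm
  have hπe : π ≫ e = 𝟙 F := by
    rw [← cancel_epi a, Category.comp_id, ha']
    simp [reassoc_of% he]
  intro T' l s s' hs hs'
  rw [← Category.comp_id s, ← hπe, ← Category.assoc, hs, ← hs', Category.assoc, hπe, Category.comp_id]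

/-- A space unramified over a scheme with a section and trivial geometric fibres is trivial. -/
theorem triv_of_unramified (hF : IsAlgSpace F) (e : (yon S).obj U ⟶ F) (he : e ≫ π = 𝟙 _)
    (hu : LocP (@LocallyOfFiniteType ⊓ @FormallyUnramified) π) (hg : TrivGeom π) : Triv π (𝟙 U) :=
  triv_of_chart hF e he (locP_mono (fun _ _ _ h => h.1) hu) hg fun a h _ _ ha hh _ _ _ _ =>
    (hu a (𝟙 _) h ha (repWith_id _ U) (by rw [hh, Category.comp_id])).2

/-- A point of a scheme with values in a field factors through the residue field. -/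
theorem exists_factor_pt {k : Type u} [Field k] {sk : Spec (CommRingCat.of k) ⟶ S} (p : Over.mk sk ⟶ U) :
    ∃ (t : U.left) (l : Over.mk sk ⟶ pt U t), l ≫ ptι U t = p := by
  obtain ⟨⟨t, φ⟩, ht⟩ : ∃ y, (Scheme.SpecToEquivOfField k U.left).symm y = p.left :=
    ⟨_, Equiv.symm_apply_apply _ _⟩
  have ht' : Spec.map φ ≫ U.left.fromSpecResidueField t = p.left := ht
  exact ⟨t, Over.homMk (Spec.map φ) (by
    change Spec.map φ ≫ U.left.fromSpecResidueField t ≫ U.hom = sk
    rw [reassoc_of% ht']
    exact Over.w p), Over.OverMorphism.ext ht'⟩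

theorem trivGeom_of_pt (hT : ∀ t, Triv π (ptι U t)) : TrivGeom π := by
  intro k _ _ sk p s s' hs hs'
  obtain ⟨t, l, rfl⟩ := exists_factor_pt p
  exact hT t _ l s s' hs hs'

/-- A space locally of finite type over a scheme with a section and trivial fibres is trivial. -/
theorem triv_of_fibres (hF : IsAlgSpace F) (e : (yon S).obj U ⟶ F) (he : e ≫ π = 𝟙 _)
    (hlft : LocP @LocallyOfFiniteType π) (hT : ∀ t, Triv π (ptι U t)) : Triv π (𝟙 U) := by
  refine triv_of_chart hF e he hlft (trivGeom_of_pt hT) fun {W U'} a h k c ha hh sq hck hk hhft => ?_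
  have : LocallyOfFiniteType h.left := hhft
  have hall : (⊤ : W.left.Opens) ≤ unrOpen h.left := fun w _ => by
    refine mem_unrOpen_of_fibre h.left w ?_
    let t := h.left w
    let ι₀ := Scheme.Hom.fiberι (𝟙 U.left) t
    let σ : Scheme.Hom.fiber (𝟙 U.left) t ⟶ Spec (U.left.residueField t) :=
      Scheme.Hom.fiberToSpecResidueField (𝟙 U.left) t
    have hσ : σ ≫ U.left.fromSpecResidueField t = ι₀ := by
      change pullback.snd (𝟙 U.left) (U.left.fromSpecResidueField t) ≫ _ = pullback.fst (𝟙 U.left) _
      rw [← pullback.condition, Category.comp_id]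
    let P : Over S := Over.mk (pullback.fst h.left ι₀ ≫ W.hom)
    let f : P ⟶ W := Over.homMk (pullback.fst h.left ι₀) rfl
    let l : P ⟶ pt U t := Over.homMk (pullback.snd h.left ι₀ ≫ σ) (by
      change (pullback.snd h.left ι₀ ≫ σ) ≫ U.left.fromSpecResidueField t ≫ U.hom = pullback.fst h.left ι₀ ≫ W.hom
      rw [Category.assoc, reassoc_of% hσ, ← pullback.condition_assoc, Over.w h])
    have hfl : f ≫ h = l ≫ ptι U t := Over.OverMorphism.ext (by
      change pullback.fst h.left ι₀ ≫ h.left = (pullback.snd h.left ι₀ ≫ σ) ≫ U.left.fromSpecResidueField t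
      rw [Category.assoc, hσ, pullback.condition])
    have hse : (yon S).map f ≫ a = (yon S).map (l ≫ ptι U t) ≫ e := hT t P l _ _
      (by rw [Category.assoc, hh, ← Functor.map_comp, hfl]) (by rw [Category.assoc, he, Category.comp_id])
    obtain ⟨m, hm⟩ := (yon S).map_surjective (sq.lift ((yon S).map (l ≫ ptι U t)) ((yon S).map f) hse.symm)
    have hmc : m ≫ c = f := (yon S).map_injective (by rw [Functor.map_comp, hm]; exact sq.lift_snd _ _ _)
    have hmc' : m.left ≫ c.left = pullback.fst h.left ι₀ := congrArg CommaMorphism.left hmc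
    have hck' : c.left ≫ h.left = k.left := congrArg CommaMorphism.left hck
    let m' : pullback h.left ι₀ ⟶ pullback k.left ι₀ :=
      pullback.lift m.left (pullback.snd h.left ι₀) (by rw [← hck', reassoc_of% hmc', pullback.condition])
    let c' : pullback k.left ι₀ ⟶ pullback h.left ι₀ :=
      pullback.lift (pullback.fst k.left ι₀ ≫ c.left) (pullback.snd k.left ι₀)
        (by rw [Category.assoc, hck', pullback.condition])
    have hsplit : m' ≫ c' = 𝟙 _ := by
      apply pullback.hom_ext <;> simp [m', c', hmc']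
    have : Mono m' := mono_of_mono_fac hsplit
    have : IsIso (pullback.diagonal m') := (pullback.isIso_diagonal_iff m').2 inferInstance
    have : Etale k.left := hk
    rw [show pullback.snd h.left ι₀ = m' ≫ pullback.snd k.left ι₀ from (pullback.lift_snd _ _ _).symm]
    exact MorphismProperty.comp_mem _ _ _ inferInstance inferInstance
  have := formallyUnramified_of_le_unrOpen h.left hall
  have h2 : FormallyUnramified ((⊤ : W.left.Opens).ι ≫ h.left) := this
  have : IsIso (⊤ : W.left.Opens).ι := inferInstanceAs (IsIso W.left.topIso.hom)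
  exact (MorphismProperty.cancel_left_of_respectsIso @FormallyUnramified (⊤ : W.left.Opens).ι h.left).1 h2

end GrothLib.AlgSp.TrivLocus
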