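import Groth.Agent.Lib.UnitsFG.Domain

/-!
# Two field structures on a domain of finite type

* `isIntegral_of_units`: in a domain with boundedly many units over a field, every field inside is algebraic.
* `isIntegralElem_of_finiteType`.
-/

set_option autoImplicit false
universe u

open Polynomial

namespace GrothLib.AlgSp

/-- Pairwise coprime monic integral polynomials of positive degree. -/
noncomputable def euclidPoly : ℕ → ℤ[X]
  | 0 => X
  | n + 1 => (∏ i : Fin (n + 1), euclidPoly i.1) + 1

theorem euclidPoly_monic : ∀ n, (euclidPoly n).Monic ∧ 0 < (euclidPoly n).natDegree := by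
  intro n
  induction n using Nat.strong_induction_on with
  | _ n ih =>
    cases n with
    | zero => rw [euclidPoly]; exact ⟨monic_X, by rw [natDegree_X]; norm_num⟩
    | succ n =>
      have hm : (∏ i : Fin (n + 1), euclidPoly i.1).Monic := monic_prod_of_monic _ _ fun i _ => (ih i.1 i.2).1
      have hd : 0 < (∏ i : Fin (n + 1), euclidPoly i.1).natDegree := by
        rw [natDegree_prod_of_monic _ _ fun i _ => (ih i.1 i.2).1]
        exact Finset.sum_pos (fun i _ => (ih i.1 i.2).2) Finset.univ_nonempty
      rw [euclidPoly]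
      refine ⟨hm.add_of_left ?_, ?_⟩
      · rw [degree_one]
        exact natDegree_pos_iff_degree_pos.1 hd
      · rw [← C_1, natDegree_add_C]
        exact hd

theorem euclidPoly_coprime {i j : ℕ} (h : i < j) : IsCoprime (euclidPoly i) (euclidPoly j) := by
  cases j with
  | zero => exact absurd h (Nat.not_lt_zero i)
  | succ n =>
    obtain ⟨c, hc⟩ := Finset.dvd_prod_of_mem (fun i : Fin (n + 1) => euclidPoly i.1)
      (Finset.mem_univ (⟨i, h⟩ : Fin (n + 1)))
    refine ⟨-c, 1, ?_⟩
    rw [euclidPoly, hc]
    ring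

/-- Inside a domain with boundedly many units every field is algebraic over the base. -/
theorem isIntegral_of_units {k A : Type u} [Field k] [CommRing A] [IsDomain A] [Algebra k A]
    (hA : UnitsFG.BoundedUnits k A) {L : Type u} [Field L] (τ : L →+* A) (x : L) : IsIntegral k (τ x) := by
  classical
  by_contra hx
  obtain ⟨ι, hι, φ, hφ⟩ := hA
  haveI := Fintype.ofFinite ι
  let n := Fintype.card ι + 1
  let q : Fin n → k[X] := fun i => (euclidPoly i.1).map (Int.castRingHom k)
  have hmon : ∀ i, (q i).Monic := fun i => (euclidPoly_monic i.1).1.map _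
  have hdeg : ∀ i, 0 < (q i).natDegree := fun i => by
    rw [(euclidPoly_monic i.1).1.natDegree_map]
    exact (euclidPoly_monic i.1).2
  have hcop : ∀ i j, i ≠ j → IsCoprime (q i) (q j) := fun i j hij => by
    rcases lt_or_gt_of_ne (Fin.val_ne_of_ne hij) with h | h
    · exact (euclidPoly_coprime h).map (mapRingHom (Int.castRingHom k))
    · exact ((euclidPoly_coprime h).map (mapRingHom (Int.castRingHom k))).symm
  have hinj : Function.Injective (aeval (τ x) : k[X] →ₐ[k] A) := fun p p' e => by
    by_contra hne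
    have hroot : aeval (τ x) (p - p') = 0 := by rw [map_sub, e, sub_self]
    exact hx (isAlgebraic_iff_isIntegral.1 ⟨p - p', sub_ne_zero.2 hne, hroot⟩)
  have heval : ∀ i, aeval (τ x) (q i) = τ (eval₂ (Int.castRingHom L) x (euclidPoly i.1)) := fun i => by
    rw [aeval_def, eval₂_map, hom_eval₂]
    congr 1
    exact RingHom.ext_int _ _
  have hunit : ∀ i, IsUnit (aeval (τ x) (q i)) := fun i => by
    rw [heval]
    refine (isUnit_iff_ne_zero.2 fun h0 => hx ⟨q i, hmon i, ?_⟩).map τ
    rw [← aeval_def, heval, h0, map_zero]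
  let v : Fin n → ι → ℤ := fun i j => Multiplicative.toAdd (φ (hunit i).unit j)
  obtain ⟨e, he, i₀, hi₀⟩ : ∃ e : Fin n → ℤ, ∑ i, e i • v i = 0 ∧ ∃ i, e i ≠ 0 := by
    refine Fintype.not_linearIndependent_iff.1 fun hli => ?_
    have := hli.fintype_card_le_finrank
    rw [Fintype.card_fin, Module.finrank_pi] at this
    omega
  suffices h : ∀ e : Fin n → ℤ, ∑ i, e i • v i = 0 → ∀ i, 0 ≤ e i by
    have h' := h (-e) (by simp only [Pi.neg_apply, neg_smul, Finset.sum_neg_distrib, he, neg_zero]) i₀
    rw [Pi.neg_apply] at h'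
    exact hi₀ (le_antisymm (by omega) (h e he i₀))
  intro e he i₁
  by_contra hi₁
  rw [not_le] at hi₁
  let w : Aˣ := ∏ i, (hunit i).unit ^ e i
  have hw : φ w = 1 := funext fun j => by
    rw [map_prod, Finset.prod_apply, Pi.one_apply]
    apply Multiplicative.toAdd.injective
    rw [toAdd_prod, toAdd_one]
    have := congrFun he j
    simp only [Finset.sum_apply, Pi.smul_apply, Pi.zero_apply, v] at this
    simpa [map_zpow, Pi.pow_apply, toAdd_zpow] using this
  let N : k[X] := ∏ i, q i ^ (e i).toNat
  let D : k[X] := ∏ i, q i ^ (-e i).toNat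
  have hND : IsCoprime D N := IsCoprime.prod_left fun i _ => IsCoprime.prod_right fun j _ => by
    by_cases hij : i = j
    · subst hij
      rcases le_total (e i) 0 with h | h
      · rw [Int.toNat_of_nonpos h, pow_zero]; exact isCoprime_one_right
      · rw [Int.toNat_of_nonpos (show -e i ≤ 0 by omega), pow_zero]; exact isCoprime_one_left
    · exact (hcop i j hij).pow
  have hwND : (w : A) * aeval (τ x) D = aeval (τ x) N := by
    let Du : Aˣ := ∏ i, (hunit i).unit ^ (-e i).toNat
    have hDu : ((Du : Aˣ) : A) = aeval (τ x) D := by simp [Du, D, map_prod]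
    have hNu : ((∏ i, (hunit i).unit ^ (e i).toNat : Aˣ) : A) = aeval (τ x) N := by simp [N, map_prod]
    rw [← hDu, ← hNu, ← Units.val_mul]
    congr 1
    rw [← Finset.prod_mul_distrib]
    refine Finset.prod_congr rfl fun i _ => ?_
    rw [← zpow_natCast, ← zpow_natCast, ← zpow_add]
    congr 1
    omega
  obtain ⟨p, hp, hpw⟩ := hφ w hw
  have hpoly : ∑ i ∈ Finset.range (p.natDegree + 1), C (p.coeff i) * N ^ i * D ^ (p.natDegree - i) = 0 := by
    apply hinj
    rw [map_sum, map_zero]
    have h0 : ∑ i ∈ Finset.range (p.natDegree + 1), algebraMap k A (p.coeff i) * (w : A) ^ i = 0 := by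
      rw [← hpw, eval₂_eq_sum_range]
    calc _ = ∑ i ∈ Finset.range (p.natDegree + 1),
          algebraMap k A (p.coeff i) * (w : A) ^ i * aeval (τ x) D ^ p.natDegree := by
          refine Finset.sum_congr rfl fun i hi => ?_
          rw [map_mul, map_mul, aeval_C, map_pow, map_pow, ← hwND, mul_pow, mul_assoc, mul_assoc, mul_assoc,
            ← pow_add, Nat.add_sub_cancel' (Nat.lt_succ_iff.1 (Finset.mem_range.1 hi))]
      _ = 0 := by rw [← Finset.sum_mul, h0, zero_mul]
  have hdvd : D ∣ N ^ p.natDegree := by
    rw [Finset.sum_range_succ, hp.coeff_natDegree, C_1, one_mul, Nat.sub_self, pow_zero, mul_one,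
      add_eq_zero_iff_neg_eq] at hpoly
    rw [← hpoly, dvd_neg]
    refine Finset.dvd_sum fun i hi => dvd_mul_of_dvd_right (dvd_pow_self D ?_) _
    have := Finset.mem_range.1 hi
    omega
  have hq : IsUnit (q i₁ ^ (-e i₁).toNat) :=
    isUnit_of_dvd_unit (Finset.dvd_prod_of_mem (fun i => q i ^ (-e i).toNat) (Finset.mem_univ i₁))
      ((hND.pow_right (n := p.natDegree)).isUnit_of_dvd' dvd_rfl hdvd)
  have := natDegree_eq_zero_of_isUnit ((isUnit_pow_iff (by omega)).1 hq)
  have := hdeg i₁
  omega

/-- Two ring maps from fields to a domain, one of finite type: the other is algebraic over it. -/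
theorem isIntegralElem_of_finiteType {k L A : Type u} [Field k] [Field L] [CommRing A] [IsDomain A]
    (σ : k →+* A) (hσ : σ.FiniteType) (τ : L →+* A) (x : L) : σ.IsIntegralElem (τ x) := by
  letI := σ.toAlgebra
  haveI : Algebra.FiniteType k A := hσ
  exact isIntegral_of_units (UnitsFG.boundedUnits_of_domain k A) τ x

end GrothLib.AlgSp
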