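import Groth.Agent.Lib.AlgSp.PinchDesc
import Groth.Agent.Lib.AlgSp.IdealEtLib
import Groth.Agent.Lib.AlgSp.ElemDistSquare
import Groth.Agent.Lib.AlgSp.PointsUniv

/-!
# The union of two closed subspaces is their pushout
-/

set_option backward.isDefEq.respectTransparency false

universe u

open CategoryTheory CategoryTheory.Limits AlgebraicGeometry Opposite AlgSp

namespace GrothLib.AlgSp.UnionPushout

open GrothLib.AlgSp

theorem fibreSquare_of_quot {R Q A B C : Type u} [CommRing R] [CommRing Q] [CommRing A] [CommRing B] [CommRing C]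
    (q : R →+* Q) (α : R →+* A) (β : R →+* B) (γ : R →+* C) (hq : Function.Surjective q)
    (hα : Function.Surjective α) (hβ : Function.Surjective β) (hγ : Function.Surjective γ)
    (hker : RingHom.ker q = RingHom.ker α ⊓ RingHom.ker β) (hkerγ : RingHom.ker γ = RingHom.ker α ⊔ RingHom.ker β)
    (f : Q →+* A) (g : Q →+* B) (s : A →+* C) (p : B →+* C) (hf : f.comp q = α) (hg : g.comp q = β)
    (hs : s.comp α = γ) (hp : p.comp β = γ) : Misc6.FibreSquare f g s p where
  w := by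
    refine RingHom.ext fun x => ?_
    obtain ⟨r, rfl⟩ := hq x
    simp only [RingHom.comp_apply]
    rw [← RingHom.comp_apply f, hf, ← RingHom.comp_apply g, hg, ← RingHom.comp_apply s, hs, ← RingHom.comp_apply p,
      hp]
  inj x h₁ h₂ := by
    obtain ⟨r, rfl⟩ := hq x
    rw [← RingHom.mem_ker, hker]
    rw [← RingHom.comp_apply, hf] at h₁
    rw [← RingHom.comp_apply, hg] at h₂
    exact ⟨h₁, h₂⟩
  ex y z h := by
    obtain ⟨r₁, rfl⟩ := hα y
    obtain ⟨r₂, rfl⟩ := hβ z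
    rw [← RingHom.comp_apply, hs, ← RingHom.comp_apply, hp, ← sub_eq_zero, ← map_sub, ← RingHom.mem_ker,
      hkerγ] at h
    obtain ⟨i, hi, j, hj, hij⟩ := Submodule.mem_sup.mp h
    refine ⟨q (r₁ - i), ?_, ?_⟩
    · rw [← RingHom.comp_apply, hf, map_sub, show α i = 0 from hi, sub_zero]
    · rw [← RingHom.comp_apply, hg, show r₁ - i = r₂ + j by linear_combination -hij, map_add,
        show β j = 0 from hj, add_zero]
  surj c := by
    obtain ⟨r, rfl⟩ := hγ c
    exact ⟨β r, RingHom.congr_fun hp r⟩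

theorem isPushout_of_isAffine {E W Y Z V : Scheme.{u}} [IsAffine E] [IsAffine W] [IsAffine Y] [IsAffine Z]
    [IsAffine V] (πW : W ⟶ E) (πY : Y ⟶ E) (πZ : Z ⟶ E) (πV : V ⟶ E)
    (hW : Function.Surjective πW.appTop) (hY : Function.Surjective πY.appTop) (hZ : Function.Surjective πZ.appTop)
    (hV : Function.Surjective πV.appTop)
    (hker : RingHom.ker πW.appTop.hom = RingHom.ker πY.appTop.hom ⊓ RingHom.ker πZ.appTop.hom)
    (hkerV : RingHom.ker πV.appTop.hom = RingHom.ker πY.appTop.hom ⊔ RingHom.ker πZ.appTop.hom)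
    (a : Y ⟶ W) (b : Z ⟶ W) (c : V ⟶ Y) (d : V ⟶ Z) (ha : a ≫ πW = πY) (hb : b ≫ πW = πZ)
    (hc : c ≫ πY = πV) (hd : d ≫ πZ = πV) : IsPushout d c b a := by
  have h : Misc6.FibreSquare a.appTop.hom b.appTop.hom c.appTop.hom d.appTop.hom :=
    fibreSquare_of_quot πW.appTop.hom πY.appTop.hom πZ.appTop.hom πV.appTop.hom hW hY hZ hV hker hkerV _ _ _ _
      (by rw [← CommRingCat.hom_comp, ← Scheme.Hom.comp_appTop, ha])
      (by rw [← CommRingCat.hom_comp, ← Scheme.Hom.comp_appTop, hb])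
      (by rw [← CommRingCat.hom_comp, ← Scheme.Hom.comp_appTop, hc])
      (by rw [← CommRingCat.hom_comp, ← Scheme.Hom.comp_appTop, hd])
  exact (Misc6.isPushout_spec h).of_iso V.isoSpec.symm Z.isoSpec.symm Y.isoSpec.symm W.isoSpec.symm
    (by simp [Scheme.isoSpec_inv_naturality]) (by simp [Scheme.isoSpec_inv_naturality])
    (by simp [Scheme.isoSpec_inv_naturality]) (by simp [Scheme.isoSpec_inv_naturality])

variable {S : Scheme.{u}} {X Y Z W V T : AlgSp.Sp S} {iY : Y ⟶ X} {iZ : Z ⟶ X} {w : W ⟶ X} {v : V ⟶ X}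

/-- Two maps from a space agree when they agree on all scheme valued points. -/
theorem hom_ext_points {F G : AlgSp.Sp S} {f g : F ⟶ G}
    (h : ∀ (R : Over S) (y : (yon S).obj R ⟶ F), y ≫ f = y ≫ g) : f = g :=
  GrothLib.AlgSp.hom_ext fun R y => h R y

/-- The existence and uniqueness of maps out of the union. -/
theorem existsUnique_hom (hX : IsAlgSpace X) (hW : IsAlgSpace W) (hT : IsAlgSpace T)
    (hYc : RepWith @IsClosedImmersion iY) (hZc : RepWith @IsClosedImmersion iZ)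
    (hWc : RepWith @IsClosedImmersion w) (hVc : RepWith @IsClosedImmersion v)
    (hker : ∀ (E : EtOver X) (hE : IsAffine E.obj.left.left), (idealOfRep hWc.1).ideal E hE =
      (idealOfRep hYc.1).ideal E hE ⊓ (idealOfRep hZc.1).ideal E hE)
    (hkerV : ∀ (E : EtOver X) (hE : IsAffine E.obj.left.left), (idealOfRep hVc.1).ideal E hE =
      (idealOfRep hYc.1).ideal E hE ⊔ (idealOfRep hZc.1).ideal E hE)
    (a : Y ⟶ W) (b : Z ⟶ W) (c : V ⟶ Y) (d : V ⟶ Z) (ha : a ≫ w = iY) (hb : b ≫ w = iZ) (hc : c ≫ iY = v)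
    (hd : d ≫ iZ = v) (fY : Y ⟶ T) (fZ : Z ⟶ T) (hf : c ≫ fY = d ≫ fZ) :
    ∃! h : W ⟶ T, a ≫ h = fY ∧ b ≫ h = fZ := by
  let Good : ∀ {Q : Over S}, ((yon S).obj Q ⟶ W) → ((yon S).obj Q ⟶ T) → Prop := fun {Q} m l =>
    (∀ (R : Over S) (g : R ⟶ Q) (y : (yon S).obj R ⟶ Y), y ≫ a = (yon S).map g ≫ m →
      (yon S).map g ≫ l = y ≫ fY) ∧
    (∀ (R : Over S) (g : R ⟶ Q) (z : (yon S).obj R ⟶ Z), z ≫ b = (yon S).map g ≫ m →
      (yon S).map g ≫ l = z ≫ fZ)
  -- the affine pieces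
  have aff : ∀ (E : EtOver X), IsAffine E.obj.left.left →
      ∃! l : (yon S).obj (hWc.1.pullback E.obj.hom) ⟶ T, Good (hWc.1.fst E.obj.hom) l := by
    intro E hE
    haveI := hE
    haveI := mono_of_closedImmersion hWc
    obtain ⟨aE, haE₁, haE₂⟩ : ∃ aE : hYc.1.pullback E.obj.hom ⟶ hWc.1.pullback E.obj.hom,
        (yon S).map aE ≫ hWc.1.fst E.obj.hom = hYc.1.fst E.obj.hom ≫ a ∧
        aE ≫ hWc.1.snd E.obj.hom = hYc.1.snd E.obj.hom :=
      ⟨hWc.1.lift _ _ (by rw [Category.assoc, ha, hYc.1.w]), hWc.1.lift_fst _ _ _, hWc.1.lift_snd _ _ _⟩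
    obtain ⟨bE, hbE₁, hbE₂⟩ : ∃ bE : hZc.1.pullback E.obj.hom ⟶ hWc.1.pullback E.obj.hom,
        (yon S).map bE ≫ hWc.1.fst E.obj.hom = hZc.1.fst E.obj.hom ≫ b ∧
        bE ≫ hWc.1.snd E.obj.hom = hZc.1.snd E.obj.hom :=
      ⟨hWc.1.lift _ _ (by rw [Category.assoc, hb, hZc.1.w]), hWc.1.lift_fst _ _ _, hWc.1.lift_snd _ _ _⟩
    obtain ⟨cE, hcE₁, hcE₂⟩ : ∃ cE : hVc.1.pullback E.obj.hom ⟶ hYc.1.pullback E.obj.hom,
        (yon S).map cE ≫ hYc.1.fst E.obj.hom = hVc.1.fst E.obj.hom ≫ c ∧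
        cE ≫ hYc.1.snd E.obj.hom = hVc.1.snd E.obj.hom :=
      ⟨hYc.1.lift _ _ (by rw [Category.assoc, hc, hVc.1.w]), hYc.1.lift_fst _ _ _, hYc.1.lift_snd _ _ _⟩
    obtain ⟨dE, hdE₁, hdE₂⟩ : ∃ dE : hVc.1.pullback E.obj.hom ⟶ hZc.1.pullback E.obj.hom,
        (yon S).map dE ≫ hZc.1.fst E.obj.hom = hVc.1.fst E.obj.hom ≫ d ∧
        dE ≫ hZc.1.snd E.obj.hom = hVc.1.snd E.obj.hom :=
      ⟨hZc.1.lift _ _ (by rw [Category.assoc, hd, hVc.1.w]), hZc.1.lift_fst _ _ _, hZc.1.lift_snd _ _ _⟩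
    haveI cY : IsClosedImmersion (hYc.1.snd E.obj.hom).left := isClosedImmersion_bcπ hYc E
    haveI cZ : IsClosedImmersion (hZc.1.snd E.obj.hom).left := isClosedImmersion_bcπ hZc E
    haveI cW : IsClosedImmersion (hWc.1.snd E.obj.hom).left := isClosedImmersion_bcπ hWc E
    haveI cV : IsClosedImmersion (hVc.1.snd E.obj.hom).left := isClosedImmersion_bcπ hVc E
    obtain ⟨aY, sY⟩ := IsClosedImmersion.isAffine_surjective_of_isAffine (hYc.1.snd E.obj.hom).left
    obtain ⟨aZ, sZ⟩ := IsClosedImmersion.isAffine_surjective_of_isAffine (hZc.1.snd E.obj.hom).left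
    obtain ⟨aW, sW⟩ := IsClosedImmersion.isAffine_surjective_of_isAffine (hWc.1.snd E.obj.hom).left
    obtain ⟨aV, sV⟩ := IsClosedImmersion.isAffine_surjective_of_isAffine (hVc.1.snd E.obj.hom).left
    haveI := aY; haveI := aZ; haveI := aW; haveI := aV
    have hP : IsPushout dE.left cE.left bE.left aE.left :=
      isPushout_of_isAffine (hWc.1.snd E.obj.hom).left (hYc.1.snd E.obj.hom).left (hZc.1.snd E.obj.hom).left
        (hVc.1.snd E.obj.hom).left sW sY sZ sV (hker E hE) (hkerV E hE) _ _ _ _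
        (congrArg (fun k => k.left) haE₂) (congrArg (fun k => k.left) hbE₂)
        (congrArg (fun k => k.left) hcE₂) (congrArg (fun k => k.left) hdE₂)
    haveI : IsClosedImmersion dE.left := by
      have : dE.left ≫ (hZc.1.snd E.obj.hom).left = (hVc.1.snd E.obj.hom).left :=
        congrArg (fun k => k.left) hdE₂
      haveI : IsClosedImmersion (dE.left ≫ (hZc.1.snd E.obj.hom).left) := this ▸ cV
      exact IsClosedImmersion.of_comp dE.left (hZc.1.snd E.obj.hom).left
    haveI : IsClosedImmersion cE.left := by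
      have : cE.left ≫ (hYc.1.snd E.obj.hom).left = (hVc.1.snd E.obj.hom).left :=
        congrArg (fun k => k.left) hcE₂
      haveI : IsClosedImmersion (cE.left ≫ (hYc.1.snd E.obj.hom).left) := this ▸ cV
      exact IsClosedImmersion.of_comp cE.left (hYc.1.snd E.obj.hom).left
    obtain ⟨U, q, qe, qs⟩ := hT.atlas
    obtain ⟨l, ⟨hl₁, hl₂⟩, hlu⟩ := PinchDesc.exists_desc dE cE bE aE
      (Pushout6.covered_of_isClosedImmersion dE.left cE.left) hP hT q qe qs (hZc.1.fst E.obj.hom ≫ fZ)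
      (hYc.1.fst E.obj.hom ≫ fY)
      (by rw [reassoc_of% hdE₁, reassoc_of% hcE₁, hf])
      (fun {_ _ _} i' j' _ _ _ _ hi hj _ _ _ => by
        haveI : IsClosedImmersion i'.left := MorphismProperty.of_isPullback hi inferInstance
        haveI : IsClosedImmersion j'.left := MorphismProperty.of_isPullback hj inferInstance
        exact Pushout6.covered_of_isClosedImmersion i'.left j'.left)
    refine ⟨l, ⟨fun R g y hy => ?_, fun R g z hz => ?_⟩, fun l' hl' => ?_⟩
    · obtain ⟨k, hk₁, hk₂⟩ : ∃ k : R ⟶ hYc.1.pullback E.obj.hom, (yon S).map k ≫ hYc.1.fst E.obj.hom = y ∧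
          k ≫ hYc.1.snd E.obj.hom = g ≫ hWc.1.snd E.obj.hom :=
        ⟨hYc.1.lift y (g ≫ hWc.1.snd E.obj.hom) (by
          rw [← ha, reassoc_of% hy, hWc.1.w, Functor.map_comp, Category.assoc]),
          hYc.1.lift_fst _ _ _, hYc.1.lift_snd _ _ _⟩
      have hg : k ≫ aE = g := by
        apply hWc.1.hom_ext
        · rw [Functor.map_comp, Category.assoc, haE₁, reassoc_of% hk₁, hy]
        · rw [Category.assoc, haE₂, hk₂]
      rw [← hg, Functor.map_comp, Category.assoc, hl₂, reassoc_of% hk₁]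
    · obtain ⟨k, hk₁, hk₂⟩ : ∃ k : R ⟶ hZc.1.pullback E.obj.hom, (yon S).map k ≫ hZc.1.fst E.obj.hom = z ∧
          k ≫ hZc.1.snd E.obj.hom = g ≫ hWc.1.snd E.obj.hom :=
        ⟨hZc.1.lift z (g ≫ hWc.1.snd E.obj.hom) (by
          rw [← hb, reassoc_of% hz, hWc.1.w, Functor.map_comp, Category.assoc]),
          hZc.1.lift_fst _ _ _, hZc.1.lift_snd _ _ _⟩
      have hg : k ≫ bE = g := by
        apply hWc.1.hom_ext
        · rw [Functor.map_comp, Category.assoc, hbE₁, reassoc_of% hk₁, hz]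
        · rw [Category.assoc, hbE₂, hk₂]
      rw [← hg, Functor.map_comp, Category.assoc, hl₁, reassoc_of% hk₁]
    · exact hlu l' ⟨hl'.2 _ bE _ hbE₁.symm, hl'.1 _ aE _ haE₁.symm⟩
  -- the atlas
  obtain ⟨ι, U, r, hU, hr, hrs, -⟩ := exists_affine_charts hX
  let E : ι → EtOver X := fun i => EtOver.mk (r i) (hr i)
  have hE : ∀ i, IsAffine (E i).obj.left.left := hU
  choose l hlg hlu using fun i => aff (E i) (hE i)
  let C : ι → Over S := fun i => hWc.1.pullback (E i).obj.hom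
  let m : ∀ i, (yon S).obj (C i) ⟶ W := fun i => hWc.1.fst (E i).obj.hom
  have hm : ∀ i, RepWith @Etale (m i) := fun i => (EtOver.bcObj hWc.1 (E i)).property
  obtain ⟨D, hD, -⟩ := exists_hom_of_sigma C m
  obtain ⟨L, hL, -⟩ := exists_hom_of_sigma C l
  have De : RepWith @Etale D := repWith_sigma hW.diag C m D hD @Etale hm
  have Ds : RepWith @Surjective D := repWith_surjective_of_ofPt De.1 fun x => by
    obtain ⟨i, e, he⟩ := hrs (Points.map w x)
    obtain ⟨p, hp, -⟩ := exists_of_isPullback (EtOver.isPullback_bcObj hWc.1 (E i)) (x := x)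
      (y := Points.ofScheme _ e) (by rw [← Points.ofPt_eq_map_ofScheme]; exact he.symm)
    obtain ⟨p, rfl⟩ := (Points.schemeEquiv _).surjective p
    refine ⟨(sigmaι C i).left p, ?_⟩
    rw [← ofPt_map_comp, hD, Points.ofPt_eq_map_ofScheme]
    exact hp
  haveI := chart_isLocallySurjective De Ds
  haveI : Epi D := (Sheaf.isLocallySurjective_iff_epi _).1 inferInstance
  -- agreement
  have agree : ∀ (i k : ι) (Q : Over S) (x : Q ⟶ C i) (y : Q ⟶ C k),
      (yon S).map x ≫ m i = (yon S).map y ≫ m k → (yon S).map x ≫ l i = (yon S).map y ≫ l k := by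
    intro i k Q x y hxy
    obtain ⟨R, p, q, sqR⟩ := exists_isPullback_yon hX.diag (r i) (r k)
    let ER : EtOver X := EtOver.mk ((yon S).map p ≫ r i)
      (repWith_comp ((repWith_yon_map_iff _ _).2 ((hr k).2 _ _ _ sqR.flip)) (hr i))
    let pi : ER ⟶ E i := EtOver.homMk p rfl
    let pk : ER ⟶ E k := EtOver.homMk q sqR.w.symm
    obtain ⟨s, hs₁, hs₂⟩ := sqR.exists_lift ((yon S).map (x ≫ hWc.1.snd (r i)))
      ((yon S).map (y ≫ hWc.1.snd (r k))) (by
      rw [Functor.map_comp, Functor.map_comp, Category.assoc, Category.assoc, ← hWc.1.w, ← hWc.1.w,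
        reassoc_of% hxy])
    obtain ⟨s, rfl⟩ := (yon S).map_surjective s
    rw [← Functor.map_comp] at hs₁ hs₂
    replace hs₁ := (yon S).map_injective hs₁
    replace hs₂ := (yon S).map_injective hs₂
    -- cover by affine opens
    let κ := R.left.affineOpens
    let Qo : κ → Over S := fun o => Over.mk ((s.left ⁻¹ᵁ o.1).ι ≫ Q.hom)
    let qo : ∀ o, Qo o ⟶ Q := fun o => Over.homMk (s.left ⁻¹ᵁ o.1).ι rfl
    refine hom_ext_cover Qo qo (fun o => inferInstanceAs (Flat (s.left ⁻¹ᵁ o.1).ι))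
      (fun o => inferInstanceAs (LocallyOfFinitePresentation (s.left ⁻¹ᵁ o.1).ι)) (fun z => ?_) fun o => ?_
    · obtain ⟨_, ⟨O, hO, rfl⟩, hzO, -⟩ :=
        R.left.isBasis_affineOpens.exists_subset_of_mem_open (Set.mem_univ (s.left z)) isOpen_univ
      exact ⟨⟨O, hO⟩, ⟨z, hzO⟩, rfl⟩
    let Eo := opensObj ER o.1
    have hEo : IsAffine Eo.obj.left.left := o.2
    let jo : Qo o ⟶ Eo.obj.left := Over.homMk (s.left.resLE o.1 (s.left ⁻¹ᵁ o.1) le_rfl) (by
      change s.left.resLE _ _ _ ≫ o.1.ι ≫ R.hom = (s.left ⁻¹ᵁ o.1).ι ≫ Q.hom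
      rw [Scheme.Hom.resLE_comp_ι_assoc, Over.w s])
    have hjo : jo ≫ (opensInc ER o.1).hom.left = qo o ≫ s := Over.OverMorphism.ext (Scheme.Hom.resLE_comp_ι _ _)
    obtain ⟨g, hg₁, hg₂⟩ : ∃ g : Qo o ⟶ hWc.1.pullback Eo.obj.hom,
        (yon S).map g ≫ hWc.1.fst Eo.obj.hom = (yon S).map (qo o ≫ x) ≫ m i ∧ g ≫ hWc.1.snd Eo.obj.hom = jo := by
      refine ⟨hWc.1.lift _ jo ?_, hWc.1.lift_fst _ _ _, hWc.1.lift_snd _ _ _⟩
      rw [Category.assoc, hWc.1.w, ← EtOver.w (opensInc ER o.1 ≫ pi), ← Functor.map_comp_assoc,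
        ← Functor.map_comp_assoc]
      congr 2
      change (qo o ≫ x) ≫ hWc.1.snd (r i) = jo ≫ (opensInc ER o.1).hom.left ≫ p
      rw [reassoc_of% hjo, hs₁, Category.assoc]
    have goodres : ∀ n (pn : ER ⟶ E n),
        Good (hWc.1.fst Eo.obj.hom) ((yon S).map (EtOver.bcMap hWc.1 (opensInc ER o.1 ≫ pn)).hom.left ≫ l n) := by
      intro n pn
      constructor
      · intro R' g' y' hy'
        rw [← Functor.map_comp_assoc]
        refine (hlg n).1 R' _ y' ?_
        rw [hy', Functor.map_comp, Category.assoc]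
        erw [EtOver.map_bcMap_fst]
      · intro R' g' y' hy'
        rw [← Functor.map_comp_assoc]
        refine (hlg n).2 R' _ y' ?_
        rw [hy', Functor.map_comp, Category.assoc]
        erw [EtOver.map_bcMap_fst]
    have heq := (aff Eo hEo).unique (goodres i pi) (goodres k pk)
    have hx : qo o ≫ x = g ≫ (EtOver.bcMap hWc.1 (opensInc ER o.1 ≫ pi)).hom.left := by
      apply hWc.1.hom_ext
      · rw [Functor.map_comp _ g, Category.assoc]
        erw [EtOver.map_bcMap_fst]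
        exact hg₁.symm
      · rw [Category.assoc g]
        erw [EtOver.bcMap_snd]
        rw [reassoc_of% hg₂]
        change (qo o ≫ x) ≫ hWc.1.snd (r i) = jo ≫ (opensInc ER o.1).hom.left ≫ p
        rw [reassoc_of% hjo, hs₁, Category.assoc]
    have hy : qo o ≫ y = g ≫ (EtOver.bcMap hWc.1 (opensInc ER o.1 ≫ pk)).hom.left := by
      apply hWc.1.hom_ext
      · rw [Functor.map_comp _ g, Category.assoc]
        erw [EtOver.map_bcMap_fst]
        rw [hg₁, Functor.map_comp, Functor.map_comp, Category.assoc, Category.assoc]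
        exact congrArg ((yon S).map (qo o) ≫ ·) hxy.symm
      · rw [Category.assoc g]
        erw [EtOver.bcMap_snd]
        rw [reassoc_of% hg₂]
        change (qo o ≫ y) ≫ hWc.1.snd (r k) = jo ≫ (opensInc ER o.1).hom.left ≫ q
        rw [reassoc_of% hjo, hs₂, Category.assoc]
    rw [← Functor.map_comp_assoc, ← Functor.map_comp_assoc, hx, hy, Functor.map_comp, Functor.map_comp,
      Category.assoc, Category.assoc, heq]
  obtain ⟨R, d₁, d₂, sqR⟩ := exists_isPullback_yon hW.diag D D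
  have := IsRegularEpiCategory.regularEpiOfEpi (C := Sp S) D
  obtain ⟨h, hh⟩ := IsRegularEpi.exists_of_isKernelPair D sqR L (eq_of_sigma_pieces C d₁ d₂ L
    (fun i k Q t x y hx hy => by
      rw [Functor.map_comp, Functor.map_comp, Category.assoc, Category.assoc, hL, hL]
      refine agree i k Q x y ?_
      rw [← hD i, ← hD k, ← Functor.map_comp_assoc, ← Functor.map_comp_assoc, hx, hy, Functor.map_comp,
        Functor.map_comp, Category.assoc, Category.assoc, sqR.w]))
  have hmh : ∀ i, m i ≫ h = l i := fun i => by rw [← hD i, Category.assoc, hh, hL]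
  have side : ∀ {A : AlgSp.Sp S} (j : A ⟶ W) (f : A ⟶ T), (∀ (i : ι) (R : Over S) (g : R ⟶ C i)
      (y : (yon S).obj R ⟶ A), y ≫ j = (yon S).map g ≫ m i → (yon S).map g ≫ l i = y ≫ f) → j ≫ h = f := by
    intro A j f hgood
    refine hom_ext_points fun R y => ?_
    choose R' g π sq using fun i => exists_isPullback_of_representable (hm i).1 (y ≫ j)
    refine hom_ext_cover R' π (fun i => ?_) (fun i => ?_) (fun z => ?_) fun i => ?_
    · haveI : Etale (π i).left := (hm i).2 _ _ _ (sq i)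
      infer_instance
    · haveI : Etale (π i).left := (hm i).2 _ _ _ (sq i)
      infer_instance
    · obtain ⟨p, hp⟩ := surjective_ofPt_of_repWith Ds (Points.ofPt (y ≫ j) z)
      obtain ⟨i, u, rfl⟩ : ∃ i u, (sigmaι C i).left u = p :=
        (sigmaOpenCover fun i => (C i).left).exists_eq p
      rw [← ofPt_map_comp, hD] at hp
      obtain ⟨gi, hgi⟩ := (yon S).map_surjective (g i)
      obtain ⟨t, -, ht⟩ := (ofPt_eq_ofPt_iff (hgi.symm ▸ sq i) u z).mp hp
      exact ⟨i, t, ht⟩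
    · obtain ⟨gi, hgi⟩ := (yon S).map_surjective (g i)
      have hsq := (sq i).w
      rw [← hgi] at hsq
      rw [← Category.assoc y j h, ← Category.assoc _ (y ≫ j) h, ← hsq, Category.assoc, hmh,
        hgood i _ gi ((yon S).map (π i) ≫ y) (by rw [Category.assoc, hsq]), Category.assoc]
  refine ⟨h, ⟨side a fY fun i => (hlg i).1, side b fZ fun i => (hlg i).2⟩, fun h' hh' => ?_⟩
  rw [← cancel_epi D, hh]
  refine (exists_hom_of_sigma C l).unique (fun i => ?_) hL
  rw [← Category.assoc, hD]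
  refine hlu i _ ⟨fun R g y hy => ?_, fun R g z hz => ?_⟩
  · rw [← Category.assoc, ← hy, Category.assoc, hh'.1]
  · rw [← Category.assoc, ← hz, Category.assoc, hh'.2]

end GrothLib.AlgSp.UnionPushout
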