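import Groth.Agent.Lib.AlgSp.GenericDegree
import Groth.Agent.Lib.AlgSp.EtaleChart
import Groth.Agent.Lib.AlgSp.ElemEtale

/-!
# Universal configurations of distinct sections

* `exists_eqOpen`: the locus where two lifts along an etale chart agree is open.
* `IsUnivCfg`, `exists_univ_cfg`: the scheme of `k` distinct ordered points in the fibres of an affine chart.
-/

universe u

open CategoryTheory CategoryTheory.Limits AlgebraicGeometry

namespace GrothLib.AlgSp

open _root_.AlgSp

variable {S : Scheme.{u}} {X : Sp S} {U : Over S} {a : (yon S).obj U ⟶ X}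

/-- The spectrum of the residue field of a point, over `S`. -/
noncomputable abbrev resPt (T : Over S) (t : ↥T.left) : Over S :=
  Over.mk (T.left.fromSpecResidueField t ≫ T.hom)

/-- The inclusion of a point. -/
noncomputable abbrev resι (T : Over S) (t : ↥T.left) : resPt T t ⟶ T := Over.homMk (T.left.fromSpecResidueField t) rfl

theorem resι_apply (T : Over S) (t : ↥T.left) (z : ↥(resPt T t).left) : (resι T t).left z = t :=
  T.left.fromSpecResidueField_apply t z

theorem range_resι_comp {T A : Over S} (t : ↥T.left) (l : T ⟶ A) :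
    Set.range (resι T t ≫ l).left = {l.left t} := by
  ext y
  constructor
  · rintro ⟨z, rfl⟩
    exact congrArg l.left (resι_apply T t z)
  · rintro rfl
    exact ⟨IsLocalRing.closedPoint (T.left.residueField t), congrArg l.left (resι_apply T t _)⟩

/-- The locus where two lifts along an etale chart agree is open. -/
theorem exists_eqOpen (hX : IsAlgSpace X) (ha : RepWith @Etale a) {A : Over S} (f g : A ⟶ U)
    (hfg : (yon S).map f ≫ a = (yon S).map g ≫ a) :
    ∃ O : A.left.Opens, ∀ (T : Over S) (h : T ⟶ A), Set.range h.left ⊆ O ↔ h ≫ f = h ≫ g := by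
  obtain ⟨R, t, s, sq⟩ := exists_isPullback_yon hX.diag a a
  obtain ⟨d, hd₁, hd₂⟩ := exists_lift_yon sq (𝟙 U) (𝟙 U) rfl
  have hd₁' : d.left ≫ t.left = 𝟙 U.left := congrArg (fun f : _ ⟶ U => f.left) hd₁
  haveI : Etale t.left := (repWith_yon_map_iff _ _).1 (repWith_of_isPullback sq.flip ha)
  haveI : Mono d.left := mono_of_mono_fac hd₁'
  haveI : Etale (d.left ≫ t.left) := by rw [hd₁']; infer_instance
  haveI : Etale d.left := Etale.of_comp d.left t.left
  haveI : IsOpenImmersion d.left := IsOpenImmersion.of_flat_of_mono d.left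
  obtain ⟨e, he₁, he₂⟩ := exists_lift_yon sq f g hfg
  refine ⟨e.left ⁻¹ᵁ d.left.opensRange, fun T h => ⟨fun hr => ?_, fun hh => ?_⟩⟩
  · let l : T ⟶ U := Over.homMk (IsOpenImmersion.lift d.left (h ≫ e).left (by
      rintro _ ⟨z, rfl⟩
      exact hr ⟨z, rfl⟩)) (by
      rw [← Over.w d, IsOpenImmersion.lift_fac_assoc]
      exact Over.w (h ≫ e))
    have hl : l ≫ d = h ≫ e := Over.OverMorphism.ext (IsOpenImmersion.lift_fac _ _ _)
    rw [← he₁, ← he₂, ← Category.assoc, ← Category.assoc, ← hl, Category.assoc, Category.assoc, hd₁, hd₂]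
  · have h' : (h ≫ f) ≫ d = h ≫ e := (yon S).map_injective (sq.hom_ext
      (by rw [← Functor.map_comp, ← Functor.map_comp, Category.assoc, Category.assoc, Category.assoc, he₁, hd₁, Category.comp_id])
      (by rw [← Functor.map_comp, ← Functor.map_comp, Category.assoc, Category.assoc, Category.assoc, he₂, hd₂, Category.comp_id, hh]))
    rintro _ ⟨z, rfl⟩
    exact ⟨(h ≫ f).left z, congrArg (fun q : T ⟶ R => q.left z) h'⟩

/-- Lifts that agree at every point agree. -/
theorem eq_of_forall_resι (hX : IsAlgSpace X) (ha : RepWith @Etale a) {T : Over S} {f g : T ⟶ U}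
    (hfg : (yon S).map f ≫ a = (yon S).map g ≫ a) (h : ∀ t, resι T t ≫ f = resι T t ≫ g) : f = g := by
  obtain ⟨O, hO⟩ := exists_eqOpen hX ha f g hfg
  rw [← Category.id_comp f, ← Category.id_comp g]
  refine (hO T (𝟙 T)).1 ?_
  rintro _ ⟨t, rfl⟩
  exact (hO _ (resι T t)).2 (h t) ⟨IsLocalRing.closedPoint (T.left.residueField t), resι_apply T t _⟩

/-- A configuration through which every family of pointwise distinct lifts factors uniquely. -/
def IsUnivCfg {k : ℕ} (c : SectionCfg a k) : Prop :=
  ∀ (T : Over S) (γ : (yon S).obj T ⟶ X) (l : Fin k → (T ⟶ U)), (∀ i, (yon S).map (l i) ≫ a = γ) →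
    (∀ t i j, i ≠ j → resι T t ≫ l i ≠ resι T t ≫ l j) →
      ∃! m : T ⟶ c.W, (∀ i, m ≫ c.e i = l i) ∧ (yon S).map m ≫ c.g = γ

theorem IsUnivCfg.hom_ext {k : ℕ} {c : SectionCfg a k} (hc : IsUnivCfg c) {T : Over S} {m m' : T ⟶ c.W}
    (he : ∀ i, m ≫ c.e i = m' ≫ c.e i) (hg : (yon S).map m ≫ c.g = (yon S).map m' ≫ c.g) : m = m' := by
  refine (hc T _ (fun i => m ≫ c.e i) (fun i => by rw [Functor.map_comp, Category.assoc, c.comm])
    fun t i j hij h => c.disj i j hij _ inferInstance _ (resι T t ≫ m) ((Category.assoc _ _ _).trans (h.trans (Category.assoc _ _ _).symm))).unique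
      ⟨fun _ => rfl, rfl⟩ ⟨fun i => (he i).symm, hg.symm⟩

theorem isSeparated_of_pullback_chart [IsSeparated U.hom] {T W : Over S} {p : T ⟶ W} {d : T ⟶ U}
    {g : (yon S).obj W ⟶ X} (sq : IsPullback ((yon S).map p) ((yon S).map d) g a) : IsSeparated p.left := by
  let jT : T.left ⟶ pullback W.hom U.hom := pullback.lift p.left d.left ((Over.w p).trans (Over.w d).symm)
  haveI : Mono jT := ⟨fun α β h => by
    have e₁ : α ≫ p.left = β ≫ p.left := by
      rw [← pullback.lift_fst p.left d.left ((Over.w p).trans (Over.w d).symm), ← Category.assoc, ← Category.assoc]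
      exact congrArg (· ≫ _) h
    have e₂ : α ≫ d.left = β ≫ d.left := by
      rw [← pullback.lift_snd p.left d.left ((Over.w p).trans (Over.w d).symm), ← Category.assoc, ← Category.assoc]
      exact congrArg (· ≫ _) h
    have hw : β ≫ T.hom = α ≫ T.hom := by
      rw [← Over.w d, ← Category.assoc, ← e₂, Category.assoc]
    let A : Over.mk (α ≫ T.hom) ⟶ T := Over.homMk α rfl
    let B : Over.mk (α ≫ T.hom) ⟶ T := Over.homMk β hw
    have f₁ : A ≫ p = B ≫ p := Over.OverMorphism.ext e₁
    have f₂ : A ≫ d = B ≫ d := Over.OverMorphism.ext e₂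
    have e : A = B := (yon S).map_injective (sq.hom_ext
      (by rw [← Functor.map_comp, ← Functor.map_comp, f₁]) (by rw [← Functor.map_comp, ← Functor.map_comp, f₂]))
    exact congrArg (fun f : Over.mk (α ≫ T.hom) ⟶ T => f.left) e⟩
  have e : jT ≫ pullback.fst W.hom U.hom = p.left := pullback.lift_fst _ _ _
  rw [← e]; infer_instance

theorem exists_affine_of_isAffine (Y : Scheme.{u}) [IsAffine Y] (E : Set Y) (_ : E.Finite) :
    ∃ V : Y.Opens, IsAffineOpen V ∧ E ⊆ V :=
  ⟨⊤, isAffineOpen_top Y, fun _ _ => trivial⟩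

/-- The scheme of distinct ordered points of the fibres of an affine etale chart. -/
theorem exists_univ_cfg (hX : IsAlgSpace X) [IsAffine U.left] (ha : RepWith @Etale a) (k : ℕ) :
    ∃ c : SectionCfg a (k + 1), IsUnivCfg c ∧ IsSeparated c.W.hom ∧ c.W.left.IsSeparated ∧
      (RepWith @QuasiCompact a → CompactSpace ↥c.W.left) ∧
      ∀ E : Set ↥c.W.left, E.Finite → ∃ V : c.W.left.Opens, IsAffineOpen V ∧ E ⊆ V := by
  induction k with
  | zero =>
    refine ⟨⟨U, a, ha, fun _ => 𝟙 U, fun _ => by rw [CategoryTheory.Functor.map_id, Category.id_comp],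
      fun i j hne => absurd (Subsingleton.elim (α := Fin 1) i j) hne⟩, fun T γ l hl _ => ⟨l 0,
      ⟨fun i => by rw [Fin.fin_one_eq_zero i]; exact Category.comp_id _, hl 0⟩,
      fun m hm => (Category.comp_id m).symm.trans (hm.1 0)⟩, inferInstance, inferInstance,
      fun _ => inferInstance, exists_affine_of_isAffine U.left⟩
  | succ k ih =>
    obtain ⟨c, hc, hsep, habs, hcpt, haff⟩ := ih
    obtain ⟨T, p, d, σ, O, sq, hσ, hcov, c', j, hj, hjr, hel, hlast, hg'⟩ := exists_step hX ha c
    haveI := hj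
    haveI := isSeparated_of_pullback_chart sq
    haveI : Etale p.left := ha.2 _ _ _ sq.flip
    haveI : Mono j := (Over.forget S).mono_of_mono_map (inferInstanceAs (Mono j.left))
    refine ⟨c', fun T' γ l hl hd => ?_, ?_, ?_, fun hq => ?_, fun E hE => ?_⟩
    · obtain ⟨m₀, ⟨hm₀, hm₀g⟩, huniq⟩ := hc T' γ (fun i => l i.castSucc) (fun i => hl _)
        (fun t i i' hii' => hd t _ _ fun e => hii' (Fin.castSucc_injective _ e))
      obtain ⟨ν, hν₁, hν₂⟩ := exists_lift_yon sq m₀ (l (Fin.last _)) (by rw [hm₀g, hl])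
      have hr : Set.range ν.left ⊆ Set.range j.left := by
        rintro _ ⟨z, rfl⟩
        rw [hjr]
        by_contra hz
        obtain ⟨i, hi⟩ := (hcov (ν.left z)).resolve_left hz
        obtain ⟨hsp, hsd, hso, -⟩ := hσ i
        haveI := hso
        obtain ⟨ζ, hζ⟩ : ∃ ζ, ζ = resι T' z ≫ ν := ⟨_, rfl⟩
        have hsub : Set.range ζ.left ⊆ Set.range (σ i).left := by
          rw [hζ, range_resι_comp]
          exact Set.singleton_subset_iff.2 hi
        let μ : resPt T' z ⟶ c.W := Over.homMk (IsOpenImmersion.lift (σ i).left ζ.left hsub) (by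
          rw [← Over.w (σ i), ← Category.assoc, IsOpenImmersion.lift_fac]
          exact Over.w ζ)
        have hμ : μ ≫ σ i = ζ := Over.OverMorphism.ext (IsOpenImmersion.lift_fac _ _ _)
        refine hd z (Fin.last _) i.castSucc (Fin.castSucc_lt_last i).ne' ?_
        have h₁ : resι T' z ≫ m₀ = μ := by
          rw [← hν₁, ← Category.assoc, ← hζ, ← hμ, Category.assoc, hsp, Category.comp_id]
        rw [← hν₂, ← Category.assoc, ← hζ, ← hμ, Category.assoc, hsd, ← h₁, Category.assoc, hm₀]
      let ν' : T' ⟶ c'.W := Over.homMk (IsOpenImmersion.lift j.left ν.left hr) (by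
        rw [← Over.w j, ← Category.assoc, IsOpenImmersion.lift_fac]
        exact Over.w ν)
      have hν' : ν' ≫ j = ν := Over.OverMorphism.ext (IsOpenImmersion.lift_fac _ _ _)
      refine ⟨ν', ⟨fun i => ?_, ?_⟩, fun m hm => ?_⟩
      · induction i using Fin.lastCases with
        | last => rw [hlast, reassoc_of% hν', hν₂]
        | cast i => rw [hel, reassoc_of% hν', reassoc_of% hν₁, hm₀]
      · rw [hg', ← Category.assoc, ← Functor.map_comp, reassoc_of% hν', hν₁, hm₀g]
      · have h₀ : m ≫ j ≫ p = m₀ := huniq _ ⟨fun i => by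
          rw [Category.assoc, Category.assoc, ← hel, hm.1], by
          rw [Functor.map_comp, Category.assoc, ← hg', hm.2]⟩
        have h₁ : m ≫ j ≫ d = l (Fin.last _) := by rw [← hlast, hm.1]
        rw [← cancel_mono j, hν']
        exact (yon S).map_injective (sq.hom_ext
          (by rw [← Functor.map_comp, ← Functor.map_comp, Category.assoc, h₀, hν₁])
          (by rw [← Functor.map_comp, ← Functor.map_comp, Category.assoc, h₁, hν₂]))
    · rw [show c'.W.hom = j.left ≫ p.left ≫ c.W.hom by rw [Over.w p, Over.w j]]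
      infer_instance
    · refine ⟨?_⟩
      rw [← terminal.comp_from (j.left ≫ p.left)]
      haveI := habs
      infer_instance
    · haveI := hcpt hq
      haveI : QuasiCompact p.left := hq.2 _ _ _ sq.flip
      haveI : CompactSpace ↥T.left := QuasiCompact.compactSpace_of_compactSpace p.left
      have hOc : IsClosed (O : Set ↥T.left) := by
        have e : (O : Set ↥T.left) = (⋃ i, Set.range (σ i).left)ᶜ := Set.ext fun t =>
          ⟨fun ht hu => by
            obtain ⟨i, hi⟩ := Set.mem_iUnion.1 hu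
            exact Set.disjoint_left.1 (hσ i).2.2.2 ht hi,
          fun ht => (hcov t).resolve_right fun ⟨i, hi⟩ => ht (Set.mem_iUnion.2 ⟨i, hi⟩)⟩
        rw [e]
        exact (isOpen_iUnion fun i => ((hσ i).2.2.1.base_open).isOpen_range).isClosed_compl
      have hr : IsCompact (Set.range j.left) := hjr ▸ hOc.isCompact
      exact ⟨(j.left.isOpenEmbedding.isInducing.isCompact_iff).2 (Set.image_univ ▸ hr)⟩
    · rcases E.eq_empty_or_nonempty with rfl | hne
      · exact ⟨⊥, isAffineOpen_bot _, Set.empty_subset _⟩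
      · exact exists_affine_of_finite (j.left ≫ p.left) haff hE hne

end GrothLib.AlgSp
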