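import Groth.Agent.Lib.AlgSp.AffineTest
import Groth.Agent.Lib.AlgSp.Strata
import Groth.Agent.Lib.AlgSp.PointsUniv
import Groth.Agent.Lib.AlgSp.FppfCover
import Groth.Agent.Lib.AlgSp.Fpqc
import Groth.Agent.Lib.AlgSp.FpqcProps
import Mathlib.AlgebraicGeometry.Pullbacks
import Mathlib.AlgebraicGeometry.AffineSpace

/-!
# Universal closedness is tested on affine spaces

* `isUnivClosedMor_of_polynomial`: closed base changes to polynomial rings give universal closedness.
-/

universe u

open CategoryTheory CategoryTheory.Limits AlgebraicGeometry TensorProduct Topology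

namespace GrothLib.AlgSp

open _root_.AlgSp

variable {S : Scheme.{u}}

/-- An affine scheme over `S` through an affine base. -/
noncomputable abbrev specOver {R : Type u} [CommRing R] (str : Spec (CommRingCat.of R) ⟶ S) (C : Type u) [CommRing C]
    [Algebra R C] : Over S := Over.mk (Spec.map (CommRingCat.ofHom (algebraMap R C)) ≫ str)

/-- The projection to the affine base. -/
noncomputable abbrev specHom {R : Type u} [CommRing R] (str : Spec (CommRingCat.of R) ⟶ S) (C : Type u) [CommRing C]
    [Algebra R C] : specOver str C ⟶ Over.mk str := Over.homMk (Spec.map (CommRingCat.ofHom (algebraMap R C))) rfl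

/-- Functoriality. -/
noncomputable abbrev specMap {R : Type u} [CommRing R] (str : Spec (CommRingCat.of R) ⟶ S) {C C' : Type u} [CommRing C]
    [Algebra R C] [CommRing C'] [Algebra R C'] (ψ : C →ₐ[R] C') : specOver str C' ⟶ specOver str C :=
  Over.homMk (Spec.map (CommRingCat.ofHom ψ.toRingHom)) (by
    change Spec.map _ ≫ Spec.map _ ≫ str = Spec.map _ ≫ str
    rw [← Spec.map_comp_assoc, ← CommRingCat.ofHom_comp]
    exact congrArg (fun r => Spec.map (CommRingCat.ofHom r) ≫ str) ψ.comp_algebraMap)

variable {R : Type u} [CommRing R] {str : Spec (CommRingCat.of R) ⟶ S} {X : Sp S}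
  {π : X ⟶ (yon S).obj (Over.mk str)} {B : Type u} [CommRing B] [Algebra R B]
  {a : (yon S).obj (specOver str B) ⟶ X}

/-- The affine chart of a base change. -/
theorem exists_chart_baseChange (ha : a ≫ π = (yon S).map (specHom str B)) (he : RepWith @Etale a)
    (hs : RepWith @Surjective a) (C : Type u) [CommRing C] [Algebra R C] {P : Sp S} {fst : P ⟶ X}
    {snd : P ⟶ (yon S).obj (specOver str C)} (sq : IsPullback fst snd π ((yon S).map (specHom str C))) :
    ∃ (w : (yon S).obj (specOver str (B ⊗[R] C)) ⟶ P),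
      w ≫ fst = (yon S).map (specMap str (Algebra.TensorProduct.includeLeft : B →ₐ[R] B ⊗[R] C)) ≫ a ∧
      w ≫ snd = (yon S).map (specMap str (Algebra.TensorProduct.includeRight : C →ₐ[R] B ⊗[R] C)) ∧
      IsPullback ((yon S).map (specMap str (Algebra.TensorProduct.includeLeft : B →ₐ[R] B ⊗[R] C))) w a fst ∧
      RepWith @Etale w ∧ RepWith @Surjective w := by
  let p := specMap str (Algebra.TensorProduct.includeLeft : B →ₐ[R] B ⊗[R] C)
  let q := specMap str (Algebra.TensorProduct.includeRight : C →ₐ[R] B ⊗[R] C)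
  have sc : IsPullback p q (specHom str B) (specHom str C) := by
    refine IsPullback.of_map_of_faithful (Over.forget S) ?_
    show IsPullback (Spec.map _) (Spec.map _) (Spec.map _) (Spec.map _)
    exact isPullback_SpecMap_of_isPushout _ _ _ _ (CommRingCat.isPushout_tensorProduct R B C)
  let w := sq.lift ((yon S).map p ≫ a) ((yon S).map q) (by
    rw [Category.assoc, ha, ← Functor.map_comp, ← Functor.map_comp, sc.w])
  have outer : IsPullback (w ≫ snd) ((yon S).map p) ((yon S).map (specHom str C)) (a ≫ π) := by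
    rw [sq.lift_snd, ha]
    exact (isPullback_yon sc).flip
  have top : IsPullback w ((yon S).map p) fst a := IsPullback.of_right outer (sq.lift_fst _ _ _) sq.flip
  exact ⟨w, sq.lift_fst _ _ _, sq.lift_snd _ _ _, top.flip, repWith_of_isPullback top.flip he,
    repWith_of_isPullback top.flip hs⟩

theorem map_specMap_ofScheme {C C' : Type u} [CommRing C] [Algebra R C] [CommRing C'] [Algebra R C'] (ψ : C →ₐ[R] C')
    (x : PrimeSpectrum C') :
    Points.map ((yon S).map (specMap str ψ)) (Points.schemeHomeo (specOver str C') x) =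
      Points.schemeHomeo (specOver str C) (PrimeSpectrum.comap ψ.toRingHom x) :=
  Points.map_yon_map_apply (specMap str ψ) x

/-- Universal closedness follows from closed base changes to polynomial rings. -/
theorem isUnivClosedMor_of_polynomial (hX : IsAlgSpace X) (hc : IsQuasiCompactSp X)
    (h : ∀ (σ : Type u) [Finite σ] (P : Sp S) (fst : P ⟶ X) (snd : P ⟶ (yon S).obj (specOver str (MvPolynomial σ R))),
      IsPullback fst snd π ((yon S).map (specHom str (MvPolynomial σ R))) → IsClosedMap (Points.map snd)) :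
    IsUnivClosedMor π := by
  obtain ⟨W₀, a₀, hW, ae₀, as₀⟩ := exists_affine_surjective_chart hX hc
  haveI := hW
  obtain ⟨c₀, hc₀⟩ := (yon S).map_surjective (a₀ ≫ π)
  obtain ⟨φB, hφB⟩ : ∃ φB : CommRingCat.of R ⟶ Γ(W₀.left, ⊤), W₀.left.isoSpec.inv ≫ c₀.left = Spec.map φB :=
    ⟨Spec.preimage _, (Spec.map_preimage _).symm⟩
  letI : Algebra R Γ(W₀.left, ⊤) := φB.hom.toAlgebra
  let B := Γ(W₀.left, ⊤)
  let e : specOver str B ≅ W₀ := Over.isoMk W₀.left.isoSpec.symm (by
    change W₀.left.isoSpec.inv ≫ W₀.hom = Spec.map φB ≫ str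
    rw [← hφB, Category.assoc]
    exact congrArg (fun z => W₀.left.isoSpec.inv ≫ z) (Over.w c₀).symm)
  let a := (yon S).map e.hom ≫ a₀
  have ae : RepWith @Etale a := repWith_comp (repWith_iso _) ae₀
  have as : RepWith @Surjective a := repWith_comp (repWith_iso _) as₀
  have ha : a ≫ π = (yon S).map (specHom str B) := by
    rw [Category.assoc, ← hc₀, ← Functor.map_comp]
    exact congrArg _ (Over.OverMorphism.ext hφB)
  refine isUnivClosedMor_of_affine fun T hT g P₀ fst₀ snd₀ sq₀ => ?_
  haveI := hT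
  obtain ⟨g₀, rfl⟩ := (yon S).map_surjective g
  obtain ⟨φC, hφC⟩ : ∃ φC : CommRingCat.of R ⟶ Γ(T.left, ⊤), T.left.isoSpec.inv ≫ g₀.left = Spec.map φC :=
    ⟨Spec.preimage _, (Spec.map_preimage _).symm⟩
  letI : Algebra R Γ(T.left, ⊤) := φC.hom.toAlgebra
  let C := Γ(T.left, ⊤)
  let eT : specOver str C ≅ T := Over.isoMk T.left.isoSpec.symm (by
    change T.left.isoSpec.inv ≫ T.hom = Spec.map φC ≫ str
    rw [← hφC, Category.assoc]
    exact congrArg (fun z => T.left.isoSpec.inv ≫ z) (Over.w g₀).symm)
  let snd := snd₀ ≫ (yon S).map eT.inv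
  have hgT : (yon S).map (specHom str C) = (yon S).map eT.hom ≫ (yon S).map g₀ := by
    rw [← Functor.map_comp]
    exact congrArg _ (Over.OverMorphism.ext hφC.symm)
  have sq : IsPullback fst₀ snd π ((yon S).map (specHom str C)) := by
    refine sq₀.of_iso (Iso.refl _) (Iso.refl _) ((yon S).mapIso eT.symm) (Iso.refl _) (by simp) (by simp [snd])
      (by simp) ?_
    simp only [Functor.mapIso_hom, Iso.symm_hom, Iso.refl_hom, Category.comp_id]
    rw [hgT, ← Category.assoc, ← Functor.map_comp, eT.inv_hom_id, CategoryTheory.Functor.map_id, Category.id_comp]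
  suffices key : IsClosedMap (Points.map snd) by
    have e1 : Points.map snd₀ = fun z => Points.map ((yon S).map eT.hom) (Points.map snd z) := funext fun z => by
      rw [← Points.map_comp, Category.assoc, ← Functor.map_comp, eT.inv_hom_id, CategoryTheory.Functor.map_id,
        Category.comp_id]
    have hh : IsClosedMap (Points.map ((yon S).map eT.hom)) := by
      intro A hA
      have : Points.map ((yon S).map eT.hom) '' A = Points.map ((yon S).map eT.inv) ⁻¹' A := by
        ext z
        constructor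
        · rintro ⟨y, hy, rfl⟩
          rwa [Set.mem_preimage, ← Points.map_comp, ← Functor.map_comp, eT.hom_inv_id, CategoryTheory.Functor.map_id,
            Points.map_id]
        · intro hz
          refine ⟨_, hz, ?_⟩
          rw [← Points.map_comp, ← Functor.map_comp, eT.inv_hom_id, CategoryTheory.Functor.map_id, Points.map_id]
      rw [this]
      exact hA.preimage (Points.continuous_map _)
    rw [e1]
    exact hh.comp key
  intro E hE
  obtain ⟨w, hwf, hws, sqw, we, ws⟩ := exists_chart_baseChange ha ae as C sq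
  let η := Points.schemeHomeo (specOver str (B ⊗[R] C))
  obtain ⟨J, hJ⟩ : ∃ J : Ideal (B ⊗[R] C), ∀ x : PrimeSpectrum (B ⊗[R] C),
      Points.ofPt w x ∈ E ↔ J ≤ x.asIdeal := by
    obtain ⟨J, hJ⟩ := (PrimeSpectrum.isClosed_iff_zeroLocus_ideal (R := B ⊗[R] C) (Points.ofPt w ⁻¹' E)).1
      (hE.preimage (Points.continuous_ofPt w))
    refine ⟨J, fun x => ?_⟩
    exact (Set.ext_iff.1 hJ x).trans (PrimeSpectrum.mem_zeroLocus x _)
  refine ⟨isOpen_iff_forall_mem_open.2 fun y hy => ?_⟩
  obtain ⟨t, rfl⟩ := (Points.schemeHomeo (specOver str C)).surjective y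
  obtain ⟨G, k, s, hk, hs, hks⟩ := AffineTest.exists_witness J t.asIdeal fun P hP hJP hPt => hy
    ⟨Points.ofPt w ⟨P, hP⟩, (hJ ⟨P, hP⟩).2 hJP, by
      rw [Points.map_ofPt, hws, Points.ofPt_eq_map_ofScheme]
      refine (map_specMap_ofScheme _ ⟨P, hP⟩).trans (congrArg _ ?_)
      exact PrimeSpectrum.ext hPt⟩
  let A := MvPolynomial G R
  let ψ : A →ₐ[R] C := MvPolynomial.aeval (fun c : G => (c : C))
  have sqA := IsPullback.of_hasPullback π ((yon S).map (specHom str A))
  obtain ⟨wA, hwAf, hwAs, sqwA, wAe, wAs⟩ := exists_chart_baseChange ha ae as A sqA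
  have hψA : specMap str ψ ≫ specHom str A = specHom str C := Over.OverMorphism.ext (by
    change Spec.map _ ≫ Spec.map _ = Spec.map _
    rw [← Spec.map_comp, ← CommRingCat.ofHom_comp]
    exact congrArg (fun r => Spec.map (CommRingCat.ofHom r)) ψ.comp_algebraMap)
  let ρ := sqA.lift fst₀ (snd ≫ (yon S).map (specMap str ψ)) (by
    rw [sq.w, Category.assoc snd, ← Functor.map_comp (yon S) (specMap str ψ), hψA])
  let Ψ : B ⊗[R] A →ₐ[R] B ⊗[R] C := Algebra.TensorProduct.map (AlgHom.id R B) ψ
  have hΨ : Ψ.toRingHom = (Algebra.TensorProduct.map (AlgHom.id B B) ψ).toRingHom := by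
    refine RingHom.ext fun x => ?_
    induction x with
    | zero => simp
    | add x y hx hy => simp only [map_add, hx, hy]
    | tmul b c => rfl
  have hρ : w ≫ ρ = (yon S).map (specMap str Ψ) ≫ wA := by
    apply sqA.hom_ext
    · rw [Category.assoc, sqA.lift_fst, hwf, Category.assoc, hwAf, ← Category.assoc ((yon S).map (specMap str Ψ)),
        ← Functor.map_comp]
      congr 2
      apply Over.OverMorphism.ext
      change Spec.map _ = Spec.map _ ≫ Spec.map _
      rw [← Spec.map_comp]
      refine congrArg Spec.map (CommRingCat.hom_ext (RingHom.ext fun b => ?_))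
      show b ⊗ₜ[R] (1 : C) = Ψ (b ⊗ₜ[R] (1 : A))
      simp [Ψ]
    · rw [Category.assoc, sqA.lift_snd, ← Category.assoc, hws, Category.assoc, hwAs, ← Functor.map_comp,
        ← Functor.map_comp]
      apply congrArg
      apply Over.OverMorphism.ext
      change Spec.map _ ≫ Spec.map _ = Spec.map _ ≫ Spec.map _
      rw [← Spec.map_comp, ← Spec.map_comp]
      refine congrArg Spec.map (CommRingCat.hom_ext (RingHom.ext fun c => ?_))
      show (1 : B) ⊗ₜ[R] ψ c = Ψ ((1 : B) ⊗ₜ[R] c)
      simp [Ψ]
  let E₀ := closure (Points.map ρ '' E)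
  have hclosed := h G _ _ _ sqA E₀ isClosed_closure
  let t₀ := PrimeSpectrum.comap ψ.toRingHom t
  have hkey : Points.schemeHomeo (specOver str A) t₀ ∉ Points.map (pullback.snd π ((yon S).map (specHom str A))) '' E₀ := by
    rintro ⟨z, hz, hzt⟩
    obtain ⟨x, rfl⟩ := surjective_ofPt_of_repWith wAs z
    have hx1 : x ∈ closure (Points.ofPt wA ⁻¹' (Points.map ρ '' E)) := by
      rw [← (isOpenMap_ofPt_of_etale wAe).preimage_closure_eq_closure_preimage (Points.continuous_ofPt wA)]
      exact hz
    have hV : IsClosed {x : PrimeSpectrum (B ⊗[R] A) | k ∈ x.asIdeal} := by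
      have : {x : PrimeSpectrum (B ⊗[R] A) | k ∈ x.asIdeal} = PrimeSpectrum.zeroLocus {k} :=
        Set.ext fun y => by simp [PrimeSpectrum.mem_zeroLocus]
      rw [this]
      exact PrimeSpectrum.isClosed_zeroLocus _
    have hsub : Points.ofPt wA ⁻¹' (Points.map ρ '' E) ⊆ {x : PrimeSpectrum (B ⊗[R] A) | k ∈ x.asIdeal} := by
      rintro x' ⟨z', hz', he⟩
      have sqρ : IsPullback ((yon S).map (specMap str Ψ)) w wA ρ := by
        refine IsPullback.of_right ?_ hρ.symm sqwA
        rw [← Functor.map_comp, sqA.lift_fst]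
        convert sqw using 2
        apply Over.OverMorphism.ext
        change Spec.map _ ≫ Spec.map _ = Spec.map _
        rw [← Spec.map_comp]
        refine congrArg Spec.map (CommRingCat.hom_ext (RingHom.ext fun b => ?_))
        show Ψ (b ⊗ₜ[R] (1 : A)) = b ⊗ₜ[R] (1 : C)
        simp [Ψ]
      obtain ⟨y', hy1, hy2⟩ := exists_of_isPullback sqρ (x := Points.schemeHomeo _ x') (y := z')
        (by rw [he, Points.ofPt_eq_map_ofScheme]; rfl)
      obtain ⟨y', rfl⟩ := η.surjective y'
      have hyE : Points.ofPt w y' ∈ E := by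
        rw [Points.ofPt_eq_map_ofScheme]
        rw [← hy2] at hz'
        exact hz'
      have hkJ : Ψ k ∈ y'.asIdeal := (hJ y').1 hyE (by
        rw [show Ψ k = Algebra.TensorProduct.map (AlgHom.id B B) ψ k from congrFun (congrArg DFunLike.coe hΨ) k]
        exact hk)
      have hx' : x' = PrimeSpectrum.comap Ψ.toRingHom y' :=
        (Points.schemeHomeo _).injective (hy1.symm.trans (map_specMap_ofScheme Ψ y'))
      rw [hx']
      exact hkJ
    have hxk : k ∈ (x : PrimeSpectrum (B ⊗[R] A)).asIdeal := closure_minimal hsub hV hx1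
    have hxt : PrimeSpectrum.comap (Algebra.TensorProduct.includeRight : A →ₐ[R] B ⊗[R] A).toRingHom x = t₀ := by
      apply (Points.schemeHomeo (specOver str A)).injective
      rw [← hzt, Points.map_ofPt, hwAs, Points.ofPt_eq_map_ofScheme]
      exact (map_specMap_ofScheme _ _).symm
    have hle : (t.asIdeal.comap ψ).map (Algebra.TensorProduct.includeRight : A →ₐ[R] B ⊗[R] A) ≤
        (x : PrimeSpectrum (B ⊗[R] A)).asIdeal :=
      Ideal.map_le_iff_le_comap.2 (congrArg PrimeSpectrum.asIdeal hxt).ge
    have h1 := sub_mem hxk (hle hks)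
    rw [sub_sub_cancel] at h1
    exact hs ((congrArg PrimeSpectrum.asIdeal hxt).le h1)
  refine ⟨Points.map ((yon S).map (specMap str ψ)) ⁻¹' (Points.map (pullback.snd π ((yon S).map (specHom str A))) '' E₀)ᶜ,
    ?_, hclosed.isOpen_compl.preimage (Points.continuous_map _), ?_⟩
  · rintro y hy' ⟨z, hz, rfl⟩
    refine hy' ⟨Points.map ρ z, subset_closure ⟨z, hz, rfl⟩, ?_⟩
    rw [← Points.map_comp, sqA.lift_snd, Points.map_comp]
  · rw [Set.mem_preimage, map_specMap_ofScheme]
    exact hkey

/-- Universal closedness follows from closed base changes to affine spaces over polynomial charts of affine opens. -/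
theorem isUnivClosedMor_of_affine_charts {X Y : Sp S} (hX : IsAlgSpace X) (hY : IsAlgSpace Y) {f : X ⟶ Y}
    (hqc : IsQuasiCompactMor f) {ι : Type u} (R : ι → CommRingCat.{u}) (str : ∀ i, Spec (R i) ⟶ S)
    (r : ∀ i, (yon S).obj (Over.mk (str i)) ⟶ Y) (hr : ∀ i, RepWith @Etale (r i))
    (hcov : ∀ y, ∃ i v, Points.ofPt (r i) v = y)
    (h : ∀ (i : ι) (σ : Type u) [Finite σ] (P : Sp S) (fst : P ⟶ X)
      (snd : P ⟶ (yon S).obj (specOver (str i) (MvPolynomial σ (R i)))),
      IsPullback fst snd f ((yon S).map (specHom (str i) (MvPolynomial σ (R i))) ≫ r i) →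
        IsClosedMap (Points.map snd)) : IsUnivClosedMor f := by
  refine isUnivClosedMor_of_fpqcLoc (fpqcLoc_of_cover (baseChanges_univSp _)
    (fun i => (yon S).obj (Over.mk (str i))) r hY (fun i => IsAlgSpace.yon_obj _)
    (isFpqcCover_of_isFppfCover hY (fun i => IsAlgSpace.yon_obj _) ⟨fun i => ⟨?_, ?_⟩, fun y => ?_⟩) f hX
    (fun i => pullback f (r i)) (fun i => pullback.snd f (r i)) (fun i => pullback.fst f (r i))
    (fun i => isAlgSpace_pullback' hY hX (IsAlgSpace.yon_obj _) f (r i)) (fun i => IsPullback.of_hasPullback f (r i))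
    fun i => ?_)
  · exact EtLocal.flat.locP_of_repWith hY (repWith_mono (hr i) fun _ _ c hc => by haveI := hc; infer_instance)
  · exact EtLocal.lfp.locP_of_repWith hY (repWith_mono (hr i) fun _ _ c hc => by haveI := hc; infer_instance)
  · obtain ⟨i, v, hv⟩ := hcov y
    exact ⟨i, _, (Points.ofPt_eq_map_ofScheme (r i) v).symm.trans hv⟩
  haveI : CompactSpace ↥(Over.mk (str i)).left := inferInstanceAs (CompactSpace ↥(Spec (R i)))
  refine isUnivClosedMor_of_polynomial (R := R i) (isAlgSpace_pullback' hY hX (IsAlgSpace.yon_obj _) f (r i))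
    (hqc (IsAlgSpace.yon_obj _) (isQuasiCompactSp_yon _) (r i) _ _ (IsPullback.of_hasPullback f (r i)))
    fun σ _ P fst snd sq => h i σ P _ snd (sq.paste_horiz (IsPullback.of_hasPullback f (r i)))

end GrothLib.AlgSp
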