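import Groth.Agent.S1482
import Groth.Agent.Lib.AlgSp.UnramMono
import Groth.Agent.Lib.AlgSp.DecentPoints
import Groth.Agent.Lib.AlgSp.FibreDimZero
import Groth.Agent.Lib.AlgSp.PointsOverField

/-!
# Universal injectivity tested on etale base changes

* `quasiFiniteAt_of_one_point_fibre`: charts are quasi-finite over fibres consisting of one point;
* `surjective_diagonal_of_injective_etale`: injectivity after etale base changes forces surjectivity of the diagonal.
-/

set_option autoImplicit false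
universe u
open CategoryTheory CategoryTheory.Limits AlgebraicGeometry
set_option backward.isDefEq.respectTransparency false

namespace GrothLib.AlgSp

open _root_.AlgSp

variable {S : Scheme.{u}}

/-- A chart of a space which is injective on points over `V` is quasi-finite. -/
theorem quasiFiniteAt_of_one_point_fibre {P : Sp S} (hP : IsAlgSpace P) {W V : Over S} {a : (yon S).obj W ⟶ P}
    (ha : RepWith @Etale a) {q : P ⟶ (yon S).obj V} {h : W ⟶ V} (hh : a ≫ q = (yon S).map h)
    [LocallyOfFiniteType h.left] (hq : Function.Injective (Points.map q)) (w : ↥W.left) :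
    h.left.QuasiFiniteAt w := by
  let k : Over S := Over.mk (V.left.fromSpecResidueField (h.left w) ≫ V.hom)
  let ι : k ⟶ V := Over.homMk (V.left.fromSpecResidueField (h.left w)) rfl
  let Wk : Over S := Over.mk (pullback.snd h.left ι.left ≫ k.hom)
  let p₁ : Wk ⟶ W := Over.homMk (pullback.fst h.left ι.left) (by
    show pullback.fst h.left ι.left ≫ W.hom = pullback.snd h.left ι.left ≫ ι.left ≫ V.hom
    rw [← Over.w h, ← Category.assoc, pullback.condition, Category.assoc])
  let p₂ : Wk ⟶ k := Over.homMk (pullback.snd h.left ι.left) rfl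
  have sqW : IsPullback p₁ p₂ h ι := isPullback_of_left (IsPullback.of_hasPullback h.left ι.left)
  have sqP := IsPullback.of_hasPullback q ((yon S).map ι)
  have hPk := isAlgSpace_pullback' (IsAlgSpace.yon_obj V) hP (IsAlgSpace.yon_obj k) q ((yon S).map ι)
  obtain ⟨ak, hak₁, hak₂⟩ : ∃ ak, ak ≫ pullback.fst q ((yon S).map ι) = (yon S).map p₁ ≫ a ∧
      ak ≫ pullback.snd q ((yon S).map ι) = (yon S).map p₂ :=
    ⟨sqP.lift _ _ (by rw [Category.assoc, hh, ← Functor.map_comp, sqW.w, Functor.map_comp]), sqP.lift_fst _ _ _,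
      sqP.lift_snd _ _ _⟩
  have sqa : IsPullback ((yon S).map p₁) ak a (pullback.fst q ((yon S).map ι)) :=
    IsPullback.of_bot (by rw [hak₂, hh]; exact isPullback_yon sqW) hak₁.symm sqP
  have hake : RepWith @Etale ak := repWith_of_isPullback sqa ha
  haveI : Mono ι := (Over.forget S).mono_of_mono_map (inferInstanceAs (Mono (V.left.fromSpecResidueField (h.left w))))
  haveI : LocallyOfFiniteType (pullback.snd h.left ι.left) := MorphismProperty.pullback_snd _ _ inferInstance
  haveI : IsLocallyNoetherian k.left :=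
    inferInstanceAs (IsLocallyNoetherian (Spec (V.left.residueField (h.left w))))
  haveI : IsLocallyNoetherian Wk.left :=
    LocallyOfFiniteType.isLocallyNoetherian (pullback.snd h.left ι.left)
  have hone : ∀ z z' : Points (pullback q ((yon S).map ι)), z = z' := fun z z' => by
    refine injective_map_of_mono (pullback.fst q ((yon S).map ι)) (hq ?_)
    rw [← Points.map_comp, ← Points.map_comp, sqP.w, Points.map_comp, Points.map_comp]
    refine congrArg (Points.map ((yon S).map ι)) ((Points.schemeEquiv k).symm.injective ?_)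
    haveI : Subsingleton ↥(Spec (CommRingCat.of (V.left.residueField (h.left w)))) :=
      inferInstanceAs (Subsingleton (PrimeSpectrum (V.left.residueField (h.left w))))
    exact @Subsingleton.elim ↥(Spec (CommRingCat.of (V.left.residueField (h.left w)))) _ _ _
  have hspec : ∀ z z' : ↥Wk.left, z' ⤳ z → z = z' := fun z z' hzz =>
    eq_of_specializes_of_isLocNoeth hPk hake (hone _ _) hzz
  rw [Scheme.Hom.quasiFiniteAt_iff_isOpen_singleton_asFiber]
  haveI : LocallyOfFiniteType (h.left.fiberToSpecResidueField (h.left w)) :=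
    MorphismProperty.pullback_snd _ _ inferInstance
  haveI : JacobsonSpace ↥(h.left.fiber (h.left w)) :=
    LocallyOfFiniteType.jacobsonSpace (h.left.fiberToSpecResidueField (h.left w))
  haveI : IsLocallyNoetherian (h.left.fiber (h.left w)) :=
    LocallyOfFiniteType.isLocallyNoetherian (h.left.fiberToSpecResidueField (h.left w))
  refine GrothLib.FacDiv.isOpen_singleton_of_isolated (fun z hz => ?_) fun z hz => ?_
  · exact (hspec _ z hz).symm
  · exact hspec z _ hz

/-- Morphisms from a field spectrum through a purely inseparable point are determined below. -/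
theorem hom_ext_of_purelyInseparable {Q U : Scheme.{u}} (g : Q ⟶ U) (v : Q)
    (hv : letI := (g.residueFieldMap v).hom.toAlgebra
      IsPurelyInseparable ↑(U.residueField (g v)) ↑(Q.residueField v))
    {K : Type u} [Field K] (c₁ c₂ : Spec (CommRingCat.of K) ⟶ Q) (h₁ : c₁ (IsLocalRing.closedPoint K) = v)
    (h₂ : c₂ (IsLocalRing.closedPoint K) = v) (e : c₁ ≫ g = c₂ ≫ g) : c₁ = c₂ := by
  obtain ⟨⟨x₁, χ₁⟩, rfl⟩ := (Q.SpecToEquivOfField K).symm.surjective c₁
  obtain ⟨⟨x₂, χ₂⟩, rfl⟩ := (Q.SpecToEquivOfField K).symm.surjective c₂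
  change (Spec.map χ₁ ≫ Q.fromSpecResidueField x₁) _ = v at h₁
  change (Spec.map χ₂ ≫ Q.fromSpecResidueField x₂) _ = v at h₂
  rw [Scheme.Hom.comp_apply, Scheme.fromSpecResidueField_apply] at h₁ h₂
  subst h₂
  subst h₁
  change Spec.map χ₁ ≫ Q.fromSpecResidueField x₁ = Spec.map χ₂ ≫ Q.fromSpecResidueField x₁
  change (Spec.map χ₁ ≫ Q.fromSpecResidueField x₁) ≫ g = (Spec.map χ₂ ≫ Q.fromSpecResidueField x₁) ≫ g at e
  rw [Category.assoc, Category.assoc, ← Scheme.Hom.SpecMap_residueFieldMap_fromSpecResidueField, ← Category.assoc,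
    ← Category.assoc, ← Spec.map_comp, ← Spec.map_comp] at e
  have e' := congrArg CommRingCat.Hom.hom (Spec.map_injective ((cancel_mono _).1 e))
  letI := (g.residueFieldMap x₁).hom.toAlgebra
  haveI := hv
  have : χ₁.hom = χ₂.hom :=
    IsPurelyInseparable.injective_comp_algebraMap (U.residueField (g x₁)) (Q.residueField x₁) K e'
  rw [CommRingCat.hom_ext this]

/-- Injectivity after etale base changes forces the diagonal to be surjective. -/
theorem surjective_diagonal_of_injective_etale {X Y : Sp S} (hX : IsAlgSpace X) (hY : IsAlgSpace Y) {f : X ⟶ Y}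
    (hft : LocP @LocallyOfFiniteType f)
    (hinj : ∀ (V : Over S) (g : (yon S).obj V ⟶ Y), RepWith @Etale g →
      Function.Injective (Points.map (pullback.snd f g))) :
    Function.Surjective (Points.map (pullback.diagonal f)) := by
  classical
  intro z
  obtain ⟨V, g, ge, gs⟩ := hY.atlas
  have sqP := IsPullback.of_hasPullback f g
  have hV := IsAlgSpace.yon_obj (S := S) V
  have hP := isAlgSpace_pullback' hY hX hV f g
  obtain ⟨W, a, ae, as⟩ := hP.atlas
  obtain ⟨h, hh⟩ := (yon S).map_surjective (a ≫ pullback.snd f g)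
  haveI : LocallyOfFiniteType h.left :=
    EtLocal.locP_of_isPullback EtLocal.lft hX hY hV sqP hft a (𝟙 _) h ae (repWith_id _ V)
      (by rw [hh, Category.comp_id])
  -- two points of the chart with a common field
  obtain ⟨v₀, hv₀⟩ := surjective_ofPt_of_repWith gs (Points.map (pullback.fst f f ≫ f) z)
  rw [Points.ofPt_eq_map_ofScheme] at hv₀
  obtain ⟨z', hz', -⟩ := exists_of_isPullback (IsPullback.of_hasPullback (pullback.fst f f ≫ f) g) hv₀.symm
  obtain ⟨y₁, y₂, hy₁, hy₂⟩ : ∃ y₁ y₂ : pullback (pullback.fst f f ≫ f) g ⟶ pullback f g,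
      y₁ ≫ pullback.fst f g = pullback.fst _ _ ≫ pullback.fst f f ∧ y₂ ≫ pullback.fst f g = pullback.fst _ _ ≫ pullback.snd f f ∧
      y₁ ≫ pullback.snd f g = pullback.snd _ _ ∧ y₂ ≫ pullback.snd f g = pullback.snd _ _ :=
    ⟨sqP.lift _ _ (by rw [Category.assoc]; exact pullback.condition),
      sqP.lift _ (pullback.snd (pullback.fst f f ≫ f) g) (by
        rw [Category.assoc]
        exact (congrArg (_ ≫ ·) pullback.condition.symm).trans pullback.condition),
      sqP.lift_fst _ _ _, sqP.lift_fst _ _ _, sqP.lift_snd _ _ _, sqP.lift_snd _ _ _⟩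
  obtain ⟨hy₂, hy₁', hy₂'⟩ := hy₂
  obtain ⟨u₁, hu₁⟩ := surjective_ofPt_of_repWith as (Points.map y₁ z')
  rw [Points.ofPt_eq_map_ofScheme] at hu₁
  obtain ⟨z₁, hz₁, -⟩ := exists_of_isPullback (IsPullback.of_hasPullback y₁ a) hu₁.symm
  obtain ⟨u₂, hu₂⟩ := surjective_ofPt_of_repWith as (Points.map (pullback.fst y₁ a ≫ y₂) z₁)
  rw [Points.ofPt_eq_map_ofScheme] at hu₂
  obtain ⟨z₂, hz₂, -⟩ := exists_of_isPullback (IsPullback.of_hasPullback (pullback.fst y₁ a ≫ y₂) a) hu₂.symm
  obtain ⟨K, _, str, k, hk⟩ := exists_ofPt z₂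
  let π : pullback (pullback.fst y₁ a ≫ y₂) a ⟶ pullback f f :=
    pullback.fst _ _ ≫ pullback.fst _ _ ≫ pullback.fst _ _
  have hπ : Points.ofPt (k ≫ π) (IsLocalRing.closedPoint K) = z := by
    rw [← Points.map_ofPt, hk, Points.map_comp, hz₂, Points.map_comp, hz₁, hz']
  obtain ⟨b₁, hb₁⟩ := (yon S).map_surjective (k ≫ pullback.fst _ _ ≫ pullback.snd y₁ a)
  obtain ⟨b₂, hb₂⟩ := (yon S).map_surjective (k ≫ pullback.snd _ _)
  have hb₁a : (yon S).map b₁ ≫ a ≫ pullback.fst f g = (k ≫ π) ≫ pullback.fst f f := by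
    rw [hb₁]; simp only [π, Category.assoc, ← hy₁]
    rw [← pullback.condition_assoc]
  have hb₂a : (yon S).map b₂ ≫ a ≫ pullback.fst f g = (k ≫ π) ≫ pullback.snd f f := by
    rw [hb₂]; simp only [π, Category.assoc, ← hy₂]
    rw [← pullback.condition_assoc]
    simp only [Category.assoc]
  have hbh : b₁ ≫ h = b₂ ≫ h := (yon S).map_injective (by
    rw [Functor.map_comp, Functor.map_comp, hh, hb₁, hb₂]
    simp only [Category.assoc]
    rw [← pullback.condition_assoc, ← pullback.condition_assoc]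
    simp only [Category.assoc]
    rw [hy₁', hy₂'])
  -- split the two points
  let w₁ := b₁.left (IsLocalRing.closedPoint K)
  let w₂ := b₂.left (IsLocalRing.closedPoint K)
  let s := h.left w₁
  have hs₂ : h.left w₂ = s := congrArg (fun m => m.left (IsLocalRing.closedPoint K)) hbh.symm
  let ι := {i : Bool // i = true ∨ w₁ ≠ w₂}
  let xw : ι → ↥W.left := fun i => cond i.1 w₁ w₂
  have hxs : ∀ i, h.left (xw i) = s := fun ⟨i, _⟩ => by cases i; exacts [hs₂, rfl]
  obtain ⟨U, ψ, u, hψ, hψu, J, _, Vp, vp, hvp, -, hcov⟩ := Groth.Agent.S1482.result h.left s xw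
    (fun ⟨i, hi⟩ ⟨j, hj⟩ e => by
      cases i <;> cases j
      · rfl
      · exact absurd (e : w₂ = w₁).symm (hi.resolve_left (by simp))
      · exact absurd (e : w₁ = w₂) (hj.resolve_left (by simp))
      · rfl)
    hxs (fun i => quasiFiniteAt_of_one_point_fibre hP ae hh.symm (hinj V g ge) _)
  -- enlarge the field so that it maps to `u`
  let t₀ : Spec (CommRingCat.of K) ⟶ V.left := (b₁ ≫ h).left
  obtain ⟨r, hr₁, hr₂⟩ := Scheme.Pullback.exists_preimage_pullback (f := t₀) (g := ψ)
    (IsLocalRing.closedPoint K) u hψu.symm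
  let K' := (pullback t₀ ψ).residueField r
  let ξ : Spec K' ⟶ pullback t₀ ψ := (pullback t₀ ψ).fromSpecResidueField r
  let U' : Over S := Over.mk (ψ ≫ V.hom)
  let ψ' : U' ⟶ V := Over.homMk ψ rfl
  let Kp : Over S := Over.mk ((ξ ≫ pullback.fst t₀ ψ) ≫ str)
  let e : Kp ⟶ Over.mk str := Over.homMk (ξ ≫ pullback.fst t₀ ψ) rfl
  let t : Kp ⟶ U' := Over.homMk (ξ ≫ pullback.snd t₀ ψ) (by
    show (ξ ≫ pullback.snd t₀ ψ) ≫ ψ ≫ V.hom = (ξ ≫ pullback.fst t₀ ψ) ≫ str
    rw [Category.assoc, ← pullback.condition_assoc, Category.assoc]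
    exact congrArg (ξ ≫ pullback.fst t₀ ψ ≫ ·) (Over.w (b₁ ≫ h)))
  have het : e ≫ b₁ ≫ h = t ≫ ψ' := Over.OverMorphism.ext (by
    show (ξ ≫ pullback.fst t₀ ψ) ≫ t₀ = (ξ ≫ pullback.snd t₀ ψ) ≫ ψ
    rw [Category.assoc, Category.assoc, pullback.condition])
  have hψe : RepWith @Etale ((yon S).map ψ' ≫ g) := repWith_comp ((repWith_yon_map_iff _ ψ').2 hψ) ge
  have sqU := IsPullback.of_hasPullback f ((yon S).map ψ' ≫ g)
  have hlift : ∀ (b : Over.mk str ⟶ W), b ≫ h = b₁ ≫ h →
      ((yon S).map (e ≫ b) ≫ a ≫ pullback.fst f g) ≫ f = (yon S).map t ≫ (yon S).map ψ' ≫ g := by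
    intro b hb
    rw [Category.assoc, Category.assoc, sqP.w, ← Category.assoc a, ← hh, ← Functor.map_comp_assoc,
      Category.assoc, hb, het, Functor.map_comp_assoc]
  let p₁ := sqU.lift _ _ (hlift b₁ rfl)
  let p₂ := sqU.lift _ _ (hlift b₂ hbh.symm)
  let c : ↥Kp.left := IsLocalRing.closedPoint K'
  have hp : Points.ofPt p₁ c = Points.ofPt p₂ c := by
    apply hinj U' _ hψe
    rw [Points.map_ofPt, Points.map_ofPt, sqU.lift_snd, sqU.lift_snd]
  rw [Points.ofPt_eq_map_ofScheme, Points.ofPt_eq_map_ofScheme] at hp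
  obtain ⟨Ω, _, σ, σ₁, σ₂, hσ, hσ₁, hσ₂⟩ := exists_common_field hp
  obtain ⟨σ₁, rfl⟩ := (yon S).map_surjective σ₁
  obtain ⟨σ₂, rfl⟩ := (yon S).map_surjective σ₂
  have hσt : σ₁ ≫ t = σ₂ ≫ t := (yon S).map_injective (by
    have := congrArg (· ≫ pullback.snd _ _) hσ
    simpa only [p₁, p₂, Category.assoc, sqU.lift_snd, Functor.map_comp] using this)
  -- the two lifts to the base change
  let cΩ : ↥(Spec (CommRingCat.of Ω)) := IsLocalRing.closedPoint Ω
  haveI : Subsingleton ↥Kp.left := inferInstanceAs (Subsingleton (PrimeSpectrum K'))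
  haveI : Subsingleton ↥(Over.mk str).left := inferInstanceAs (Subsingleton (PrimeSpectrum K))
  have hd : (e ≫ b₂).left ≫ h.left = t.left ≫ ψ := by
    show ((e ≫ b₂) ≫ h).left = (t ≫ ψ').left
    rw [Category.assoc, ← hbh, het]
  have key : σ₂ ≫ e ≫ b₂ = σ₁ ≫ e ≫ b₂ := by
    let d : Kp.left ⟶ pullback h.left ψ := pullback.lift _ _ hd
    have hw : (e ≫ b₂).left c = w₂ := congrArg b₂.left (Subsingleton.elim _ (IsLocalRing.closedPoint K))
    have hu : t.left c = u := by
      show (ξ ≫ pullback.snd t₀ ψ) c = u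
      rw [Scheme.Hom.comp_apply]
      exact (congrArg _ (Scheme.fromSpecResidueField_apply _ _)).trans hr₂
    obtain ⟨i, hi⟩ : ∃ i : ι, xw i = w₂ := by
      by_cases hww : w₁ = w₂
      · exact ⟨⟨true, Or.inl rfl⟩, hww⟩
      · exact ⟨⟨false, Or.inr hww⟩, rfl⟩
    obtain ⟨j, hj⟩ : ∃ j, d c = vp i j :=
      hcov _ i (by rw [← Scheme.Hom.comp_apply, pullback.lift_snd]; exact hu)
        (by rw [← Scheme.Hom.comp_apply, pullback.lift_fst, hi]; exact hw)
    have hpt : ∀ σ' : Over.mk σ ⟶ Kp, (σ'.left ≫ d) cΩ = vp i j := fun σ' => by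
      rw [Scheme.Hom.comp_apply, Subsingleton.elim (σ'.left cΩ) c, hj]
    have heq : σ₂.left ≫ d = σ₁.left ≫ d :=
      hom_ext_of_purelyInseparable (pullback.snd h.left ψ) (vp i j) (hvp i j).2.2.2.2.1.2 _ _ (hpt σ₂) (hpt σ₁)
        (by rw [Category.assoc, Category.assoc, pullback.lift_snd]; exact congrArg (·.left) hσt.symm)
    apply Over.OverMorphism.ext
    have h1 := congrArg (· ≫ pullback.fst h.left ψ) heq
    simpa only [d, Category.assoc, pullback.lift_fst, Over.comp_left] using h1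
  -- the diagonal point
  refine ⟨Points.ofPt ((yon S).map (σ₁ ≫ e ≫ b₁) ≫ a ≫ pullback.fst f g) cΩ, ?_⟩
  have e₁₂ : (yon S).map (σ₁ ≫ e ≫ b₁) ≫ a ≫ pullback.fst f g = (yon S).map (σ₂ ≫ e ≫ b₂) ≫ a ≫ pullback.fst f g := by
    have := congrArg (· ≫ pullback.fst _ _) hσ
    simpa only [p₁, p₂, Category.assoc, sqU.lift_fst, Functor.map_comp] using this
  rw [Points.map_ofPt, ← hπ, Subsingleton.elim (IsLocalRing.closedPoint K) ((σ₁ ≫ e).left cΩ), ← ofPt_map_comp]
  have E : ((yon S).map (σ₁ ≫ e ≫ b₁) ≫ a ≫ pullback.fst f g) ≫ pullback.diagonal f =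
      (yon S).map (σ₁ ≫ e) ≫ k ≫ π := by
    apply pullback.hom_ext
    · simp only [Category.assoc, pullback.diagonal_fst, Category.comp_id]
      simp only [Category.assoc] at hb₁a
      rw [← hb₁a]
      simp only [Functor.map_comp, Category.assoc]
    · simp only [Category.assoc, pullback.diagonal_snd, Category.comp_id]
      simp only [Category.assoc] at hb₂a
      rw [← hb₂a, e₁₂, key]
      simp only [Functor.map_comp, Category.assoc]
  rw [E]

end GrothLib.AlgSp
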