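import Groth.Agent.Lib.AlgSp.FormalLiftSpace
import Groth.Agent.Lib.AlgSp.FppfDescent
import Groth.Agent.Lib.AlgSp.Points
import Groth.Agent.Lib.EtaleThick26.Glue

/-!
# Universal first order thickenings of sheaves, tested on affine thickenings
-/

universe u

open CategoryTheory CategoryTheory.Limits AlgebraicGeometry Opposite

namespace GrothLib.AlgSp

open _root_.AlgSp

variable {S : Scheme.{u}} {Z Z' X F G : Sp S}

/-- Lifts against `f` along affine first order thickenings of tops factoring through `c` are unique. -/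
def UniqAlong (c : Z ⟶ F) (f : F ⟶ G) : Prop :=
  ∀ ⦃T T' : Over S⦄ (t : T ⟶ T') (a : (yon S).obj T ⟶ Z) (l l' : (yon S).obj T' ⟶ F),
    IsAffine T'.left → FOT t → (yon S).map t ≫ l = a ≫ c → (yon S).map t ≫ l' = a ≫ c →
      l ≫ f = l' ≫ f → l = l'

theorem uniqAlong_of_fu {f : F ⟶ G} (hf : IsFormallyUnramifiedMor f) (c : Z ⟶ F) : UniqAlong c f :=
  fun _ _ _ _ _ _ _ ht h1 h2 h3 => hom_ext_of_fu hf ht (h1.trans h2.symm) h3

/-- Affine test of the universal property of a thickening. -/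
def UnivAff (h : Z ⟶ X) (i : Z ⟶ Z') (h' : Z' ⟶ X) : Prop :=
  UniqAlong i h' ∧ ∀ ⦃T T' : Over S⦄ (t : T ⟶ T') (a : (yon S).obj T ⟶ Z) (b : (yon S).obj T' ⟶ X),
    IsAffine T'.left → FOT t → (yon S).map t ≫ b = a ≫ h →
      ∃ a' : (yon S).obj T' ⟶ Z', (yon S).map t ≫ a' = a ≫ i ∧ a' ≫ h' = b

theorem UniqAlong.hom_ext {c : Z ⟶ F} {f : F ⟶ G} (hu : UniqAlong c f) {T T' : Over S} {t : T ⟶ T'}
    (ht : FOT t) {a : (yon S).obj T ⟶ Z} {l l' : (yon S).obj T' ⟶ F} (h1 : (yon S).map t ≫ l = a ≫ c)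
    (h2 : (yon S).map t ≫ l' = a ≫ c) (h3 : l ≫ f = l' ≫ f) : l = l' := by
  obtain ⟨ι, V, k, hV, hk, hs⟩ := exists_affine_cover T'
  refine hom_ext_cover V k (fun i => have := hk i; inferInstance) (fun i => have := hk i; inferInstance)
    hs fun i => ?_
  refine hu (pullback.snd t (k i)) ((yon S).map (pullback.fst t (k i)) ≫ a) _ _ (hV i)
    (fot_pullback_snd ht (k i)) ?_ ?_ (by rw [Category.assoc, Category.assoc, h3])
  · rw [← Functor.map_comp_assoc, ← pullback.condition, Functor.map_comp_assoc, h1, Category.assoc]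
  · rw [← Functor.map_comp_assoc, ← pullback.condition, Functor.map_comp_assoc, h2, Category.assoc]

/-- Local lifts glue when lifts are unique. -/
theorem UniqAlong.exists_lift_of_cover {c : Z ⟶ F} {f : F ⟶ G} (hu : UniqAlong c f) {T T' : Over S}
    {t : T ⟶ T'} (ht : FOT t) {a : (yon S).obj T ⟶ Z} {b : (yon S).obj T' ⟶ G}
    {ι : Type u} (V : ι → Over S) (k : ∀ i, V i ⟶ T')
    (hkf : ∀ i, Flat (k i).left) (hkp : ∀ i, LocallyOfFinitePresentation (k i).left)
    (hs : ∀ x : ↥T'.left, ∃ i y, (k i).left y = x) (l : ∀ i, (yon S).obj (V i) ⟶ F)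
    (h1 : ∀ i, l i ≫ f = (yon S).map (k i) ≫ b)
    (h2 : ∀ i (W : Over S) (p : W ⟶ T) (q : W ⟶ V i), p ≫ t = q ≫ k i →
      (yon S).map q ≫ l i = (yon S).map p ≫ a ≫ c) :
    ∃ L : (yon S).obj T' ⟶ F, (yon S).map t ≫ L = a ≫ c ∧ L ≫ f = b := by
  obtain ⟨L, hL, -⟩ := exists_hom_of_cover V k hkf hkp hs l fun i j W gi gj hg => by
    refine hu.hom_ext (fot_pullback_snd ht (gi ≫ k i))
      (a := (yon S).map (pullback.fst _ _) ≫ a) ?_ ?_ ?_
    · rw [← Functor.map_comp_assoc, Category.assoc,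
        h2 i _ (pullback.fst _ _) (pullback.snd _ _ ≫ gi) (by rw [Category.assoc, pullback.condition])]
    · rw [← Functor.map_comp_assoc, Category.assoc,
        h2 j _ (pullback.fst _ _) (pullback.snd _ _ ≫ gj) (by rw [Category.assoc, ← hg, pullback.condition])]
    · simp only [Category.assoc, h1, ← Functor.map_comp_assoc, hg]
  refine ⟨L, ?_, ?_⟩
  · refine hom_ext_cover (fun i => pullback t (k i)) (fun i => pullback.fst t (k i)) (fun i => ?_) (fun i => ?_)
      (fun x => ?_) fun i => ?_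
    · exact MorphismProperty.of_isPullback (isPullback_left (IsPullback.of_hasPullback t (k i))).flip (hkf i)
    · exact MorphismProperty.of_isPullback (isPullback_left (IsPullback.of_hasPullback t (k i))).flip (hkp i)
    · obtain ⟨i, y, hy⟩ := hs (t.left x)
      obtain ⟨z, hz, -⟩ := Scheme.Pullback.exists_preimage_pullback (f := t.left) (g := (k i).left) x y hy.symm
      let e := (isPullback_left (IsPullback.of_hasPullback t (k i))).isoPullback
      refine ⟨i, e.inv z, ?_⟩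
      rw [← Scheme.Hom.comp_apply, IsPullback.isoPullback_inv_fst]
      exact hz
    · rw [← Functor.map_comp_assoc, pullback.condition, Functor.map_comp_assoc, hL i]
      exact h2 i _ _ _ pullback.condition
  · refine hom_ext_cover V k hkf hkp hs fun i => ?_
    rw [← Category.assoc, hL i, h1 i]

/-- Universal lifts exist along every thickening of schemes. -/
theorem UnivAff.exists_lift {h : Z ⟶ X} {i : Z ⟶ Z'} {h' : Z' ⟶ X} (hU : UnivAff h i h') {T T' : Over S}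
    {t : T ⟶ T'} (ht : FOT t) (a : (yon S).obj T ⟶ Z) (b : (yon S).obj T' ⟶ X)
    (w : (yon S).map t ≫ b = a ≫ h) :
    ∃ a' : (yon S).obj T' ⟶ Z', (yon S).map t ≫ a' = a ≫ i ∧ a' ≫ h' = b := by
  obtain ⟨ι, V, k, hV, hk, hs⟩ := exists_affine_cover T'
  choose l hl hlb using fun j => hU.2 (pullback.snd t (k j)) ((yon S).map (pullback.fst t (k j)) ≫ a)
    ((yon S).map (k j) ≫ b) (hV j) (fot_pullback_snd ht (k j))
    (by rw [← Functor.map_comp_assoc, ← pullback.condition, Functor.map_comp_assoc, w, Category.assoc])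
  refine hU.1.exists_lift_of_cover ht V k (fun j => have := hk j; inferInstance)
    (fun j => have := hk j; inferInstance) hs l hlb fun j W p q hpq => ?_
  conv_lhs => rw [← pullback.lift_snd p q hpq, Functor.map_comp_assoc, hl j]
  simp only [Category.assoc]
  rw [← Functor.map_comp_assoc, pullback.lift_fst] 

/-- An ideal sheaf vanishing after a surjective fppf base change vanishes. -/
theorem eq_bot_of_comap_fppf {A B : Scheme.{u}} (c : A ⟶ B) [Flat c] [LocallyOfFinitePresentation c]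
    [Surjective c] (J : B.IdealSheafData) (hJ : J.comap c = ⊥) : J = ⊥ := by
  have h1 : IsIso (pullback.fst c J.subschemeι) := IsClosedImmersion.isIso_iff_ker_eq_bot.2 (by
    rw [Scheme.IdealSheafData.ker_fst_of_isClosedImmersion, Scheme.IdealSheafData.ker_subschemeι, hJ])
  have h2 : IsIso J.subschemeι := fppfDescends_isomorphisms J.subschemeι c _ _
    (IsPullback.of_hasPullback c J.subschemeι).flip inferInstance inferInstance inferInstance h1
  rw [← J.ker_subschemeι]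
  exact IsClosedImmersion.isIso_iff_ker_eq_bot.1 h2

/-- First order thickenings descend along fppf coverings. -/
theorem fot_of_cover {V V' W W' : Over S} {snd : W ⟶ V} {c : V' ⟶ V} {k : W' ⟶ W} {snd' : W' ⟶ V'}
    (sq : IsPullback k snd' snd c) [Flat c.left] [LocallyOfFinitePresentation c.left] [Surjective c.left]
    (h : FOT snd') : FOT snd := by
  have hc : IsClosedImmersion snd.left :=
    fppfDescends_isClosedImmersion _ _ _ _ (isPullback_left sq) ‹_› ‹_› ‹_› h.1.1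
  refine ⟨⟨hc, fppfDescends_surjective _ _ _ _ (isPullback_left sq) ‹_› ‹_› ‹_› h.1.2⟩,
    eq_bot_of_comap_fppf c.left _ ?_⟩
  rw [GrothLib.UnivThick.comap_mul, ← GrothLib.UnivThick.ker_of_isPullback (isPullback_left sq), h.2]

section Spaces

variable {T T' : Sp S} {j : T ⟶ T'}

/-- Every pullback to a scheme of a first order thickening of an algebraic space is one of schemes. -/
theorem fot_of_isFOThick' (hT' : IsAlgSpace T') (hj : IsFOThickMor j) {V W : Over S}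
    {b : (yon S).obj V ⟶ T'} {fst : (yon S).obj W ⟶ T} {snd : W ⟶ V}
    (sq : IsPullback fst ((yon S).map snd) j b) : FOT snd := by
  obtain ⟨A, q, qe, qs⟩ := hT'.atlas
  obtain ⟨A₀, g₀, s₀, sq₀⟩ := exists_isPullback_of_representable hj.1.1 q
  obtain ⟨V', v, c, sqV⟩ := exists_isPullback_of_representable qe.1 b
  obtain ⟨v, rfl⟩ := (yon S).map_surjective v
  have : Etale c.left := qe.2 _ _ _ sqV
  have : Surjective c.left := qs.2 _ _ _ sqV
  have sqW := IsPullback.of_hasPullback snd c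
  obtain ⟨m, hm⟩ := (yon S).map_surjective (sq₀.lift ((yon S).map (pullback.fst snd c) ≫ fst)
    ((yon S).map (pullback.snd snd c ≫ v)) (by
      rw [(isPullback_stack sq sqW).w, ← sqV.w, Functor.map_comp, Category.assoc]))
  have sq' : IsPullback m (pullback.snd snd c) s₀ v := by
    refine isPullback_of_isPullback_yon (IsPullback.of_right (h₁₂ := g₀) (v₁₃ := j) (h₂₂ := q) ?_ ?_ sq₀)
    · rw [hm, sq₀.lift_fst, sqV.w]
      exact isPullback_stack sq sqW
    · rw [hm, sq₀.lift_snd, Functor.map_comp]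
  exact fot_of_cover sqW (GrothLib.UnivThick.fot_of_isPullback (isPullback_left sq') (fot_of_isFOThick hj qe sq₀))

theorem isFOThick_of_forall (h : IsThickMor j)
    (h' : ∀ ⦃V W : Over S⦄ (b : (yon S).obj V ⟶ T') (fst : (yon S).obj W ⟶ T) (snd : W ⟶ V),
      IsPullback fst ((yon S).map snd) j b → FOT snd) : IsFOThickMor j :=
  ⟨h, fun _ _ b fst snd _ _ sq => (h' b fst snd sq).2⟩

theorem isFOThick_baseChange {P Q : Sp S} (hT' : IsAlgSpace T') (hj : IsFOThickMor j) {g : Q ⟶ T'}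
    {g' : P ⟶ T} {j' : P ⟶ Q} (sq : IsPullback g' j' j g) : IsFOThickMor j' :=
  isFOThick_of_forall (repWith_of_isPullback sq hj.1) fun _ _ b fst snd sqb =>
    fot_of_isFOThick' hT' hj (sqb.paste_horiz sq)

theorem isFOThick_yon {A A' : Over S} {t : A ⟶ A'} (ht : FOT t) : IsFOThickMor ((yon S).map t) := by
  refine isFOThick_of_forall ((repWith_yon_map_iff _ _).2 ht.1) fun V W b fst snd sq => ?_
  obtain ⟨b, rfl⟩ := (yon S).map_surjective b
  obtain ⟨fst, rfl⟩ := (yon S).map_surjective fst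
  exact GrothLib.UnivThick.fot_of_isPullback (isPullback_left (isPullback_of_isPullback_yon sq)) ht

theorem UniqAlong.hom_ext_thick {c : Z ⟶ F} {f : F ⟶ G} (hu : UniqAlong c f) (hT' : IsAlgSpace T')
    (hj : IsFOThickMor j) {a : T ⟶ Z} {l l' : T' ⟶ F} (h1 : j ≫ l = a ≫ c) (h2 : j ≫ l' = a ≫ c)
    (h3 : l ≫ f = l' ≫ f) : l = l' := by
  obtain ⟨V, q, qe, qs⟩ := hT'.atlas
  have := chart_isLocallySurjective qe qs
  obtain ⟨W, fst, snd, sq⟩ := exists_isPullback_of_representable hj.1.1 q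
  rw [← cancel_epi q]
  refine hu.hom_ext (fot_of_isFOThick hj qe sq) (a := fst ≫ a) ?_ ?_ (by simp only [Category.assoc, h3])
  · rw [← sq.w_assoc, h1, Category.assoc]
  · rw [← sq.w_assoc, h2, Category.assoc]

theorem UnivAff.exists_lift_thick {h : Z ⟶ X} {i : Z ⟶ Z'} {h' : Z' ⟶ X} (hU : UnivAff h i h')
    (hT' : IsAlgSpace T') (hj : IsFOThickMor j) (a : T ⟶ Z) (b : T' ⟶ X) (w : j ≫ b = a ≫ h) :
    ∃ a' : T' ⟶ Z', j ≫ a' = a ≫ i ∧ a' ≫ h' = b := by
  obtain ⟨V, q, qe, qs⟩ := hT'.atlas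
  have := chart_isLocallySurjective qe qs
  obtain ⟨W, fst, snd, sq⟩ := exists_isPullback_of_representable hj.1.1 q
  obtain ⟨lV, hlV, hlVf⟩ := hU.exists_lift (fot_of_isFOThick hj qe sq) (fst ≫ a) (q ≫ b)
    (by rw [← sq.w_assoc, w, Category.assoc])
  obtain ⟨R, r₁, r₂, sqR⟩ := exists_isPullback_of_representable qe.1 q
  obtain ⟨r₁, rfl⟩ := (yon S).map_surjective r₁
  have hr : RepWith @Etale ((yon S).map r₁ ≫ q) :=
    repWith_comp (repWith_of_isPullback sqR.flip qe) qe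
  obtain ⟨Q, qf, qsnd, sqQ⟩ := exists_isPullback_of_representable hj.1.1 ((yon S).map r₁ ≫ q)
  obtain ⟨m₁, hm₁⟩ := (yon S).map_surjective (sq.lift qf ((yon S).map (qsnd ≫ r₁))
    (by rw [sqQ.w, Functor.map_comp, Category.assoc]))
  obtain ⟨m₂, hm₂⟩ := (yon S).map_surjective (sq.lift qf ((yon S).map (qsnd ≫ r₂))
    (by rw [sqQ.w, Functor.map_comp, Category.assoc, sqR.w]))
  have e1 : m₁ ≫ snd = qsnd ≫ r₁ := (yon S).map_injective (by rw [Functor.map_comp, hm₁, sq.lift_snd])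
  have e2 : m₂ ≫ snd = qsnd ≫ r₂ := (yon S).map_injective (by rw [Functor.map_comp, hm₂, sq.lift_snd])
  have := IsRegularEpiCategory.regularEpiOfEpi q
  obtain ⟨l, hl⟩ := IsRegularEpi.exists_of_isKernelPair q sqR lV (by
    refine hU.1.hom_ext (fot_of_isFOThick hj hr sqQ) (a := qf ≫ a) ?_ ?_ ?_
    · rw [← Functor.map_comp_assoc, ← e1, Functor.map_comp_assoc, hlV, hm₁]
      simp only [Category.assoc, IsPullback.lift_fst_assoc]
    · rw [← Functor.map_comp_assoc, ← e2, Functor.map_comp_assoc, hlV, hm₂]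
      simp only [Category.assoc, IsPullback.lift_fst_assoc]
    · simp only [Category.assoc, hlVf, sqR.w_assoc])
  refine ⟨l, ?_, ?_⟩
  · have := chart_isLocallySurjective (repWith_of_isPullback sq.flip qe) (repWith_of_isPullback sq.flip qs)
    rw [← cancel_epi fst, sq.w_assoc, hl, hlV, Category.assoc]
  · rw [← cancel_epi q, reassoc_of% hl, hlVf]

theorem isUnivFOThick_of_aff {h : Z ⟶ X} {i : Z ⟶ Z'} {h' : Z' ⟶ X} (hi : IsFOThickMor i) (w : i ≫ h' = h)
    (hU : UnivAff h i h') : IsUnivFOThick h i h' := by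
  refine ⟨hi, w, fun A A' _ hA' k a b hk hw => ?_⟩
  obtain ⟨a', h1, h2⟩ := hU.exists_lift_thick hA' hk a b hw
  exact ⟨a', ⟨h1, h2⟩, fun a'' h'' => hU.1.hom_ext_thick hA' hk h''.1 h1 (h''.2.trans h2.symm)⟩

theorem univAff_of_isUnivFOThick {h : Z ⟶ X} {i : Z ⟶ Z'} {h' : Z' ⟶ X} (hU : IsUnivFOThick h i h') :
    UnivAff h i h' := by
  refine ⟨fun A A' t a l l' _ ht h1 h2 h3 => ?_, fun A A' t a b _ ht w => ?_⟩
  · refine (hU.2.2 (IsAlgSpace.yon_obj A) (IsAlgSpace.yon_obj A') _ a (l ≫ h') (isFOThick_yon ht) ?_).unique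
      ⟨h1, rfl⟩ ⟨h2, h3.symm⟩
    rw [← Category.assoc, h1, Category.assoc, hU.2.1]
  · exact (hU.2.2 (IsAlgSpace.yon_obj A) (IsAlgSpace.yon_obj A') _ a b (isFOThick_yon ht) w).exists

/-- Universal thickenings pull back. -/
theorem univAff_baseChange {W W' Y : Sp S} {h : Z ⟶ X} {f : Z ⟶ W} {g : X ⟶ Y} {hW : W ⟶ Y}
    (sq : IsPullback h f g hW) {iW : W ⟶ W'} {hW' : W' ⟶ Y} (hU : UnivAff hW iW hW')
    {pX : Z' ⟶ X} {pW : Z' ⟶ W'} (sq' : IsPullback pX pW g hW') {iZ : Z ⟶ Z'} (w1 : iZ ≫ pX = h)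
    (w2 : iZ ≫ pW = f ≫ iW) : UnivAff h iZ pX := by
  refine ⟨fun A A' t a l l' hA ht h1 h2 h3 => sq'.hom_ext h3 ?_, fun A A' t a b hA ht w => ?_⟩
  · refine hU.1 t (a ≫ f) _ _ hA ht ?_ ?_ ?_
    · rw [reassoc_of% h1, w2, Category.assoc]
    · rw [reassoc_of% h2, w2, Category.assoc]
    · rw [Category.assoc, Category.assoc, ← sq'.w, reassoc_of% h3]
  · obtain ⟨c, hc, hcg⟩ := hU.2 t (a ≫ f) (b ≫ g) hA ht (by
      rw [← Category.assoc, w, Category.assoc, sq.w, Category.assoc])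
    refine ⟨sq'.lift b c hcg.symm, sq'.hom_ext ?_ ?_, sq'.lift_fst _ _ _⟩
    · rw [Category.assoc, sq'.lift_fst, Category.assoc, w1, w]
    · rw [Category.assoc, sq'.lift_snd, Category.assoc, w2, hc, Category.assoc]

/-- Universal thickenings pull back along formally etale maps. -/
theorem univAff_etale {Y Y' : Sp S} {e : Z ⟶ Y} {iY : Y ⟶ Y'} {iZ : Z ⟶ Z'} {e' : Z' ⟶ Y'}
    {hY : Y ⟶ X} {hY' : Y' ⟶ X} (w : iZ ≫ e' = e ≫ iY) (he' : IsFormallyEtaleMor e')
    (hU : UnivAff hY iY hY') : UnivAff (e ≫ hY) iZ (e' ≫ hY') := by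
  refine ⟨fun A A' t a l l' hA ht h1 h2 h3 => hom_ext_of_fu (fu_of_fe he') ht (h1.trans h2.symm) ?_,
    fun A A' t a b hA ht hw => ?_⟩
  · refine hU.1 t (a ≫ e) _ _ hA ht ?_ ?_ (by simpa only [Category.assoc] using h3)
    · rw [reassoc_of% h1, w, Category.assoc]
    · rw [reassoc_of% h2, w, Category.assoc]
  · obtain ⟨c, hc, hcb⟩ := hU.2 t (a ≫ e) b hA ht (by rw [hw, Category.assoc])
    obtain ⟨l, ⟨hl, hle⟩, -⟩ := existsUnique_lift_of_fe he' ht (a ≫ iZ) c (by
      rw [Category.assoc, w, hc, Category.assoc])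
    exact ⟨l, hl, by rw [reassoc_of% hle, hcb]⟩

/-- Composition with a formally etale map on the base. -/
theorem univAff_comp_base {Y : Sp S} {h : Z ⟶ Y} {i : Z ⟶ Z'} {h' : Z' ⟶ Y} {g : Y ⟶ X}
    (w : i ≫ h' = h) (hg : IsFormallyEtaleMor g) (hU : UnivAff h i h') : UnivAff (h ≫ g) i (h' ≫ g) := by
  refine ⟨fun A A' t a l l' hA ht h1 h2 h3 => hU.1 t a l l' hA ht h1 h2
    (hom_ext_of_fu (fu_of_fe hg) ht (by rw [reassoc_of% h1, reassoc_of% h2]) (by simpa using h3)),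
    fun A A' t a b hA ht hw => ?_⟩
  obtain ⟨c, ⟨hc, hcb⟩, -⟩ := existsUnique_lift_of_fe hg ht (a ≫ h) b (by rw [hw, Category.assoc])
  obtain ⟨l, hl, hlc⟩ := hU.2 t a c hA ht hc
  exact ⟨l, hl, by rw [reassoc_of% hlc, hcb]⟩

/-- An etale scheme over a first order thickening restricting to a given one. -/
theorem exists_etale_extension {A A' W : Over S} {t : A ⟶ A'} (ht : FOT t) (sW : W ⟶ A) [Etale sW.left] :
    ∃ (W' : Over S) (c : W' ⟶ A') (j : W ⟶ W'), Etale c.left ∧ IsPullback j sW c t ∧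
      (Surjective sW.left → Surjective c.left) := by
  have : IsClosedImmersion t.left := ht.1.1
  have : Surjective t.left := ht.1.2
  obtain ⟨Y', q', j, hq', sq⟩ := GrothLib.EtaleThick.exists_lift t.left sW.left
  let W' : Over S := Over.mk (q' ≫ A'.hom)
  let jO : W ⟶ W' := Over.homMk j (by
    show j ≫ q' ≫ A'.hom = W.hom
    rw [sq.w_assoc, Over.w t, Over.w sW])
  let cO : W' ⟶ A' := Over.homMk q' rfl
  refine ⟨W', cO, jO, hq', isPullback_of_left (c := t) (c' := jO) (snd' := sW) (snd := cO) sq, fun hs => ⟨fun x => ?_⟩⟩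
  obtain ⟨y, rfl⟩ := (inferInstance : Surjective (sW.left ≫ t.left)).surj x
  exact ⟨j y, congrArg (fun k => k y) sq.w⟩

/-- Universality can be checked after a surjective etale map on the source. -/
theorem univAff_descend {Y Y' : Sp S} {e : Z ⟶ Y} {e' : Z' ⟶ Y'} {iY : Y ⟶ Y'} {iZ : Z ⟶ Z'}
    {U : Over S} {p : (yon S).obj U ⟶ Z} (he : RepWith @Etale (p ≫ e)) (hes : RepWith @Surjective (p ≫ e))
    (w : iZ ≫ e' = e ≫ iY) (he' : IsFormallyEtaleMor e') {hY : Y ⟶ X} {hY' : Y' ⟶ X}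
    (hU : UnivAff (e ≫ hY) iZ (e' ≫ hY')) (w' : iY ≫ hY' = hY) : UnivAff hY iY hY' := by
  have huY : UniqAlong iY hY' := by
    intro B B' t₀ a₀ l₀ l₀' hB ht₀ g1 g2 g3
    obtain ⟨W₀, m₀, s₀, sq₀⟩ := exists_isPullback_of_representable he.1 a₀
    have : Etale s₀.left := he.2 _ _ _ sq₀
    obtain ⟨W₀', c₀, j₀, hc₀, sqc₀, hcs₀⟩ := exists_etale_extension ht₀ s₀
    have := hcs₀ (hes.2 _ _ _ sq₀)
    have hj₀ : FOT j₀ := GrothLib.UnivThick.fot_of_isPullback (isPullback_left sqc₀.flip) ht₀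
    have key : ∀ k : (yon S).obj B' ⟶ Y', (yon S).map t₀ ≫ k = a₀ ≫ iY →
        ((m₀ ≫ p) ≫ iZ) ≫ e' = (yon S).map j₀ ≫ (yon S).map c₀ ≫ k := fun k hk => by
      rw [← Functor.map_comp_assoc, sqc₀.w, Functor.map_comp_assoc, hk, ← sq₀.w_assoc]
      simp only [Category.assoc, w]
    obtain ⟨k, ⟨hk1, hk2⟩, -⟩ := existsUnique_lift_of_fe he' hj₀ ((m₀ ≫ p) ≫ iZ) _ (key l₀ g1)
    obtain ⟨k', ⟨hk1', hk2'⟩, -⟩ := existsUnique_lift_of_fe he' hj₀ ((m₀ ≫ p) ≫ iZ) _ (key l₀' g2)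
    have : k = k' := hU.1.hom_ext hj₀ hk1 hk1' (by rw [reassoc_of% hk2, reassoc_of% hk2', g3])
    refine hom_ext_cover (ι := PUnit.{u + 1}) (fun _ => W₀') (fun _ => c₀) (fun _ => inferInstance)
      (fun _ => inferInstance) (fun x => ⟨⟨⟩, ‹Surjective c₀.left›.surj x⟩) fun _ => ?_
    rw [← hk2, ← hk2', this]
  refine ⟨huY, fun A A' t a b hA ht hw => ?_⟩
  obtain ⟨W, m, sW, sqW⟩ := exists_isPullback_of_representable he.1 a
  have : Etale sW.left := he.2 _ _ _ sqW
  obtain ⟨W', c, j, hc, sqc, hcs⟩ := exists_etale_extension ht sW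
  have := hcs (hes.2 _ _ _ sqW)
  have hj : FOT j := GrothLib.UnivThick.fot_of_isPullback (isPullback_left sqc.flip) ht
  obtain ⟨n, hn1, hn2⟩ := hU.exists_lift hj (m ≫ p) ((yon S).map c ≫ b) (by
    rw [← Functor.map_comp_assoc, sqc.w, Functor.map_comp_assoc, hw, ← sqW.w_assoc]
    simp only [Category.assoc])
  refine huY.exists_lift_of_cover ht (ι := PUnit.{u + 1}) (fun _ => W') (fun _ => c) (fun _ => inferInstance)
    (fun _ => inferInstance) (fun x => ⟨⟨⟩, ‹Surjective c.left›.surj x⟩) (fun _ => n ≫ e') (fun _ => by rw [Category.assoc]; exact hn2)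
    fun _ V q₁ q₂ hq => ?_
  obtain ⟨r, hr⟩ : ∃ r : V ⟶ W, r ≫ j = q₂ ∧ r ≫ sW = q₁ := ⟨sqc.lift q₂ q₁ hq.symm, sqc.lift_fst _ _ _, sqc.lift_snd _ _ _⟩
  rw [← hr.1, Functor.map_comp_assoc, reassoc_of% hn1, w, ← hr.2, Functor.map_comp_assoc, ← sqW.w_assoc]
  simp only [Category.assoc]

end Spaces

end GrothLib.AlgSp
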