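import Groth.Agent.Lib.AlgSp.TrivLocus
import Mathlib.RingTheory.LocalRing.Module
import Mathlib.RingTheory.Kaehler.TensorProduct
import Mathlib.RingTheory.Flat.FaithfullyFlat.Basic

/-!
# The unramified locus commutes with base change
-/

set_option backward.isDefEq.respectTransparency false

universe u

open CategoryTheory CategoryTheory.Limits AlgebraicGeometry TensorProduct

namespace GrothLib.AlgSp.UnramLocus

open TrivLocus

theorem nontrivial_field_tensor (K L : Type u) [Field K] [Field L] [Algebra K L] (N : Type u) [AddCommGroup N]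
    [Module K N] : Nontrivial (L ⊗[K] N) ↔ Nontrivial N :=
  Module.FaithfullyFlat.nontrivial_tensorProduct_iff_right K L

theorem mem_support_baseChange_iff {B B' : Type u} [CommRing B] [CommRing B'] [Algebra B B']
    {M : Type u} [AddCommGroup M] [Module B M] [Module.Finite B M] (q' : PrimeSpectrum B') :
    q' ∈ Module.support B' (B' ⊗[B] M) ↔ PrimeSpectrum.comap (algebraMap B B') q' ∈ Module.support B M := by
  rw [Module.mem_support_iff_nontrivial_residueField_tensorProduct,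
    Module.mem_support_iff_nontrivial_residueField_tensorProduct]
  let q := PrimeSpectrum.comap (algebraMap B B') q'
  change _ ↔ Nontrivial (q.asIdeal.ResidueField ⊗[B] M)
  have : q'.asIdeal.LiesOver q.asIdeal := ⟨rfl⟩
  let K := q.asIdeal.ResidueField
  let L := q'.asIdeal.ResidueField
  letI : Algebra K L := (Ideal.ResidueField.map q.asIdeal q'.asIdeal (algebraMap B B') rfl).toAlgebra
  have : IsScalarTower B K L := .of_algebraMap_eq fun x => by
    simp [K, L, q, RingHom.algebraMap_toAlgebra, IsScalarTower.algebraMap_apply B B' q'.asIdeal.ResidueField]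
  have e₁ : L ⊗[B'] (B' ⊗[B] M) ≃ₗ[L] L ⊗[B] M := AlgebraTensorModule.cancelBaseChange B B' L L M
  have e₂ : L ⊗[K] (K ⊗[B] M) ≃ₗ[L] L ⊗[B] M := AlgebraTensorModule.cancelBaseChange B K L L M
  refine (e₁.trans e₂.symm).toEquiv.nontrivial_congr.trans ?_
  exact nontrivial_field_tensor K L (K ⊗[B] M)

theorem isUnramifiedAt_baseChange_iff (A B A' B' : Type u) [CommRing A] [CommRing B] [CommRing A'] [CommRing B']
    [Algebra A B] [Algebra A A'] [Algebra A' B'] [Algebra B B'] [Algebra A B'] [IsScalarTower A A' B']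
    [IsScalarTower A B B'] [Algebra.IsPushout A A' B B'] [Algebra.FiniteType A B] (q' : PrimeSpectrum B') :
    Algebra.IsUnramifiedAt A' q'.asIdeal ↔
      Algebra.IsUnramifiedAt A (PrimeSpectrum.comap (algebraMap B B') q').asIdeal := by
  change q' ∈ Algebra.unramifiedLocus A' B' ↔ PrimeSpectrum.comap (algebraMap B B') q' ∈ Algebra.unramifiedLocus A B
  rw [Algebra.unramifiedLocus_eq_compl_support, Algebra.unramifiedLocus_eq_compl_support, Set.mem_compl_iff,
    Set.mem_compl_iff, ← (KaehlerDifferential.tensorKaehlerEquiv A A' B B').support_eq, mem_support_baseChange_iff]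

variable {X Y X' Y' : Scheme.{u}}

/-- The unramified locus commutes with base change, affine case. -/
theorem mem_unrOpen_iff_affine [IsAffine X] [IsAffine Y] [IsAffine Y'] {p : X' ⟶ X} {f' : X' ⟶ Y'}
    {f : X ⟶ Y} {g : Y' ⟶ Y} (sq : IsPullback p f' f g) [LocallyOfFiniteType f] [LocallyOfFiniteType f'] (x' : X') :
    x' ∈ unrOpen f' ↔ p x' ∈ unrOpen f := by
  have : IsAffine X' := IsAffine.of_isPullback sq
  rw [mem_unrOpen_iff_isUnramifiedAt, mem_unrOpen_iff_isUnramifiedAt]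
  have hp := isPushout_appTop_of_isPullback sq
  simp only [Scheme.Hom.appTop, Scheme.Hom.app_eq_appLE] at hp
  have hft : (f.appLE ⊤ ⊤ le_top).hom.FiniteType :=
    f.finiteType_appLE (isAffineOpen_top Y) (isAffineOpen_top X) le_top
  algebraize [(f.appLE ⊤ ⊤ le_top).hom, (g.appLE ⊤ ⊤ le_top).hom, (f'.appLE ⊤ ⊤ le_top).hom,
    (p.appLE ⊤ ⊤ le_top).hom, (f'.appLE ⊤ ⊤ le_top).hom.comp (g.appLE ⊤ ⊤ le_top).hom]
  have hw : f.appLE ⊤ ⊤ le_top ≫ p.appLE ⊤ ⊤ le_top = g.appLE ⊤ ⊤ le_top ≫ f'.appLE ⊤ ⊤ le_top := hp.w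
  have : IsScalarTower Γ(Y, ⊤) Γ(X, ⊤) Γ(X', ⊤) :=
    .of_algebraMap_eq' (congrArg CommRingCat.Hom.hom hw).symm
  have : Algebra.IsPushout Γ(Y, ⊤) Γ(Y', ⊤) Γ(X, ⊤) Γ(X', ⊤) :=
    (CommRingCat.isPushout_iff_isPushout.mp hp.flip)
  have e : PrimeSpectrum.comap (algebraMap Γ(X, ⊤) Γ(X', ⊤)) ((isAffineOpen_top X').primeIdealOf ⟨x', trivial⟩) =
      (isAffineOpen_top X).primeIdealOf ⟨p x', trivial⟩ :=
    IsAffineOpen.comap_primeIdealOf_appLE ⊤ (isAffineOpen_top X) ⊤ (isAffineOpen_top X') le_top trivial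
  rw [← e]
  exact isUnramifiedAt_baseChange_iff _ _ _ _ _

theorem mem_unrOpen_comp {O : Scheme.{u}} (i : O ⟶ X) [IsOpenImmersion i] (f : X ⟶ Y) [LocallyOfFiniteType f]
    [LocallyOfFiniteType (i ≫ f)] (o : O) : o ∈ unrOpen (i ≫ f) ↔ i o ∈ unrOpen f :=
  GrothLib.LocProp.stalkMap_comp_ι_iff RingHom.FormallyUnramified.respectsIso i f o

theorem mem_unrOpen_comp_right {Z : Scheme.{u}} (f : X ⟶ Y) (i : Y ⟶ Z) [IsOpenImmersion i] [LocallyOfFiniteType f]
    [LocallyOfFiniteType (f ≫ i)] (x : X) : x ∈ unrOpen (f ≫ i) ↔ x ∈ unrOpen f := by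
  rw [mem_unrOpen, mem_unrOpen, Scheme.Hom.stalkMap_comp]
  exact RingHom.FormallyUnramified.respectsIso.cancel_left_isIso _ _

/-- The unramified locus commutes with base change. -/
theorem mem_unrOpen_iff {p : X' ⟶ X} {f' : X' ⟶ Y'} {f : X ⟶ Y} {g : Y' ⟶ Y} (sq : IsPullback p f' f g)
    [LocallyOfFiniteType f] [LocallyOfFiniteType f'] (x' : X') : x' ∈ unrOpen f' ↔ p x' ∈ unrOpen f := by
  have hgy : g (f' x') = f (p x') := by rw [← Scheme.Hom.comp_apply, ← sq.w, Scheme.Hom.comp_apply]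
  obtain ⟨V, hV, hyV, -⟩ := exists_isAffineOpen_mem_and_subset (U := (⊤ : Y.Opens)) (x := f (p x')) trivial
  obtain ⟨U, hU, hxU, hUV⟩ := exists_isAffineOpen_mem_and_subset (U := f ⁻¹ᵁ V) (x := p x') hyV
  obtain ⟨W, hW, hyW, hWV⟩ := exists_isAffineOpen_mem_and_subset (U := g ⁻¹ᵁ V) (x := f' x')
    (show g (f' x') ∈ V from hgy ▸ hyV)
  have : IsAffine U.toScheme := hU
  have : IsAffine V.toScheme := hV
  have : IsAffine W.toScheme := hW
  let fU : U.toScheme ⟶ V.toScheme := f.resLE V U hUV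
  let gW : W.toScheme ⟶ V.toScheme := g.resLE V W hWV
  let i : pullback fU gW ⟶ X' := sq.lift (pullback.fst fU gW ≫ U.ι) (pullback.snd fU gW ≫ W.ι) (by
    rw [Category.assoc, Category.assoc, ← Scheme.Hom.resLE_comp_ι f hUV, ← Scheme.Hom.resLE_comp_ι g hWV,
      pullback.condition_assoc])
  let m : pullback fU gW ⟶ pullback f g := pullback.map fU gW f g U.ι W.ι V.ι
    (Scheme.Hom.resLE_comp_ι f hUV) (Scheme.Hom.resLE_comp_ι g hWV)
  have hi : i = m ≫ sq.isoPullback.inv := by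
    apply sq.hom_ext
    · simp [i, m]
    · simp [i, m]
  have : IsOpenImmersion i := hi ▸ inferInstance
  obtain ⟨z, rfl⟩ : x' ∈ Set.range i := by
    rw [hi, Scheme.Hom.comp_base, TopCat.coe_comp, Set.range_comp, Scheme.Pullback.range_map]
    refine ⟨sq.isoPullback.hom x', ⟨⟨⟨p x', hxU⟩, ?_⟩, ⟨⟨f' x', hyW⟩, ?_⟩⟩, ?_⟩
    · rw [← Scheme.Hom.comp_apply, IsPullback.isoPullback_hom_fst]; rfl
    · rw [← Scheme.Hom.comp_apply, IsPullback.isoPullback_hom_snd]; rfl
    · rw [← Scheme.Hom.comp_apply, Iso.hom_inv_id]; rfl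
  have hp : i ≫ p = pullback.fst fU gW ≫ U.ι := sq.lift_fst _ _ _
  have hf : i ≫ f' = pullback.snd fU gW ≫ W.ι := sq.lift_snd _ _ _
  have : LocallyOfFiniteType (U.ι ≫ f) := inferInstance
  have : LocallyOfFiniteType (fU ≫ V.ι) := by rw [Scheme.Hom.resLE_comp_ι]; infer_instance
  have : LocallyOfFiniteType fU := locallyOfFiniteType_of_comp fU V.ι
  have : LocallyOfFiniteType (pullback.snd fU gW) := MorphismProperty.pullback_snd _ _ ‹LocallyOfFiniteType fU›
  have : LocallyOfFiniteType (i ≫ f') := inferInstance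
  calc i z ∈ unrOpen f' ↔ z ∈ unrOpen (i ≫ f') := (mem_unrOpen_comp i f' z).symm
    _ ↔ z ∈ unrOpen (pullback.snd fU gW ≫ W.ι) := by simp only [hf]
    _ ↔ z ∈ unrOpen (pullback.snd fU gW) := mem_unrOpen_comp_right _ _ z
    _ ↔ (pullback.fst fU gW) z ∈ unrOpen fU := mem_unrOpen_iff_affine (IsPullback.of_hasPullback fU gW) z
    _ ↔ (pullback.fst fU gW) z ∈ unrOpen (fU ≫ V.ι) := (mem_unrOpen_comp_right _ _ _).symm
    _ ↔ (pullback.fst fU gW) z ∈ unrOpen (U.ι ≫ f) := by simp only [fU, Scheme.Hom.resLE_comp_ι]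
    _ ↔ U.ι ((pullback.fst fU gW) z) ∈ unrOpen f := mem_unrOpen_comp U.ι f _
    _ ↔ p (i z) ∈ unrOpen f := by
      rw [← Scheme.Hom.comp_apply, ← hp, Scheme.Hom.comp_apply]

end GrothLib.AlgSp.UnramLocus
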