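import Groth.Agent.Lib.AlgSp.UnramLocus
import Groth.Agent.Lib.AlgSp.PointProps
import Groth.Agent.Lib.AlgSp.FlatLocusBC
import Groth.Agent.Lib.AlgSp.SourceDescent

/-!
# The unramified locus of a morphism of algebraic spaces
-/

set_option backward.isDefEq.respectTransparency false

universe u

open CategoryTheory CategoryTheory.Limits AlgebraicGeometry TopologicalSpace

namespace GrothLib.AlgSp.UnramLocus

open _root_.AlgSp TrivLocus

/-- Unramified at a point: the chart condition used in the statements. -/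
abbrev UnrAt (U V : Scheme.{u}) (h : U ⟶ V) (u : ↥U) : Prop :=
  ∃ W : U.Opens, u ∈ W ∧ LocallyOfFiniteType (W.ι ≫ h) ∧ FormallyUnramified (W.ι ≫ h)

variable {X Y Z : Scheme.{u}}

theorem unrAt_iff (h : X ⟶ Y) [LocallyOfFiniteType h] (x : X) : UnrAt X Y h x ↔ x ∈ unrOpen h := by
  rw [mem_unrOpen, ← GrothLib.LocProp.formallyUnramified_nhd_iff]
  exact ⟨fun ⟨W, hx, _, hW⟩ => ⟨W, hx, hW⟩, fun ⟨W, hx, hW⟩ => ⟨W, hx, inferInstance, hW⟩⟩

theorem mem_unrOpen_etale_source (e : X ⟶ Y) [Etale e] (h : Y ⟶ Z) [LocallyOfFiniteType h]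
    [LocallyOfFiniteType (e ≫ h)] (x : X) : x ∈ unrOpen (e ≫ h) ↔ e x ∈ unrOpen h := by
  rw [mem_unrOpen, mem_unrOpen, ← GrothLib.LocProp.formallyUnramified_nhd_iff,
    ← GrothLib.LocProp.formallyUnramified_nhd_iff]
  constructor
  · rintro ⟨O, hx, hO⟩
    let O' : Y.Opens := ⟨Set.range (O.ι ≫ e), (O.ι ≫ e).isOpenMap.isOpen_range⟩
    let e' : O.toScheme ⟶ O'.toScheme := IsOpenImmersion.lift O'.ι (O.ι ≫ e) (by
      rw [Scheme.Opens.range_ι]; rfl)
    have he' : e' ≫ O'.ι = O.ι ≫ e := IsOpenImmersion.lift_fac _ _ _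
    have : Etale (e' ≫ O'.ι) := by rw [he']; infer_instance
    have : Etale e' := Etale.of_comp e' O'.ι
    have hs : Surjective e' := ⟨fun y => by
      obtain ⟨o, ho⟩ := y.2
      refine ⟨o, Subtype.ext ?_⟩
      rw [← ho, ← he']
      rfl⟩
    refine ⟨O', ⟨⟨x, hx⟩, rfl⟩, etaleSourceDescends_formallyUnramified e' (O'.ι ≫ h) this hs ?_⟩
    rw [← Category.assoc, he', Category.assoc]
    exact hO
  · rintro ⟨O, hx, hO⟩
    refine ⟨e ⁻¹ᵁ O, hx, ?_⟩
    rw [← morphismRestrict_ι_assoc e O]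
    have : Etale (e ∣_ O) := inferInstance
    exact MorphismProperty.comp_mem _ _ _ (inferInstance : FormallyUnramified (e ∣_ O)) hO

theorem mem_unrOpen_etale_target (h : X ⟶ Y) (e : Y ⟶ Z) [Etale e] [LocallyOfFiniteType h]
    [LocallyOfFiniteType (h ≫ e)] (x : X) : x ∈ unrOpen (h ≫ e) ↔ x ∈ unrOpen h := by
  rw [mem_unrOpen, mem_unrOpen, ← GrothLib.LocProp.formallyUnramified_nhd_iff,
    ← GrothLib.LocProp.formallyUnramified_nhd_iff]
  constructor
  · rintro ⟨O, hx, hO⟩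
    rw [← Category.assoc] at hO
    exact ⟨O, hx, FormallyUnramified.of_comp (O.ι ≫ h) e⟩
  · rintro ⟨O, hx, hO⟩
    refine ⟨O, hx, ?_⟩
    rw [← Category.assoc]
    exact MorphismProperty.comp_mem _ _ _ hO (inferInstance : FormallyUnramified e)

variable {S : Scheme.{u}} {F G : Sp S}

/-- The unramified locus can be read on any chart. -/
theorem hasAtMor_iff (hF : IsAlgSpace F) (hG : IsAlgSpace G) {f : F ⟶ G} (hf : LocP @LocallyOfFiniteType f)
    {U V : Over S} {a : (yon S).obj U ⟶ F} {b : (yon S).obj V ⟶ G} {h : U ⟶ V} (ha : RepWith @Etale a)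
    (hb : RepWith @Etale b) (c : a ≫ f = (yon S).map h ≫ b) [LocallyOfFiniteType h.left] (u : ↥U.left) :
    HasAtMor UnrAt f (Points.ofPt a u) ↔ u ∈ unrOpen h.left := by
  refine ⟨fun ⟨U', V', a', b', h', u', ha', hb', c', hu', hq⟩ => ?_, fun hq =>
    ⟨U, V, a, b, h, u, ha, hb, c, rfl, (unrAt_iff h.left u).2 hq⟩⟩
  have : LocallyOfFiniteType h'.left := hf a' b' h' ha' hb' c'
  obtain ⟨W, P, m, w₁, w₂, q₁, q₂, w, _, _, _, _, m₁, m₂, rfl, rfl⟩ :=
    exists_common_charts hF hG ha ha' hb hb' c c' hu'.symm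
  have : LocallyOfFiniteType (m.left ≫ q₁.left) := by rw [m₁]; infer_instance
  have : LocallyOfFiniteType (m.left ≫ q₂.left) := by rw [m₂]; infer_instance
  have : LocallyOfFiniteType m.left := locallyOfFiniteType_of_comp m.left q₁.left
  rw [← mem_unrOpen_etale_source w₁.left h.left]
  simp only [← m₁]
  rw [mem_unrOpen_etale_target, ← mem_unrOpen_etale_target m.left q₂.left]
  simp only [m₂]
  rw [mem_unrOpen_etale_source w₂.left h'.left]
  exact (unrAt_iff h'.left _).1 hq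

theorem isOpen_hasAtMor (hF : IsAlgSpace F) (hG : IsAlgSpace G) {f : F ⟶ G} (hf : LocP @LocallyOfFiniteType f) :
    IsOpen {x : Points F | HasAtMor UnrAt f x} := by
  obtain ⟨V, b, hb, hbs⟩ := hG.atlas
  obtain ⟨U, a, h, ha, c, has⟩ := exists_chart_over hF hG f b hb
  have : LocallyOfFiniteType h.left := hf a b h ha hb c
  have e : {x : Points F | HasAtMor UnrAt f x} = Points.ofPt a '' (unrOpen h.left : Set U.left) := by
    ext x
    obtain ⟨u, rfl⟩ := surjective_ofPt_of_repWith (has hbs) x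
    refine ⟨fun hx => ⟨u, (hasAtMor_iff hF hG hf ha hb c u).1 hx, rfl⟩, ?_⟩
    rintro ⟨u', hu', e⟩
    rw [← e]
    exact (hasAtMor_iff hF hG hf ha hb c u').2 hu'
  rw [e]
  exact isOpenMap_ofPt_of_etale ha _ (unrOpen h.left).isOpen

theorem preimage_hasAtMor {F' G' : Sp S} (hF : IsAlgSpace F) (hG : IsAlgSpace G) (hF' : IsAlgSpace F')
    (hG' : IsAlgSpace G') {f : F ⟶ G} (hf : LocP @LocallyOfFiniteType f) {f' : F' ⟶ G'} {p : F' ⟶ F} {g : G' ⟶ G}
    (sq : IsPullback p f' f g) :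
    {x : Points F' | HasAtMor UnrAt f' x} = Points.map p ⁻¹' {x : Points F | HasAtMor UnrAt f x} := by
  obtain ⟨V, b, hb, hbs⟩ := hG.atlas
  obtain ⟨U, a, h, ha, c, has⟩ := exists_chart_over hF hG f b hb
  have : LocallyOfFiniteType h.left := hf a b h ha hb c
  have hf' : LocP @LocallyOfFiniteType f' := EtLocal.lft.locP_of_isPullback hF hG hG' sq hf
  obtain ⟨W', c', m, hc', -, hpts⟩ := exists_bc_chart_point hF' hG hG' sq ha (has hbs) hb c
  ext x
  obtain ⟨u, a', ha', hp, hf'', rfl⟩ := hpts x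
  have hl : LocallyOfFiniteType (pullback.snd h m).left := hf' a' c' _ ha' hc' hf''
  have e : Points.map p (Points.ofPt a' u) = Points.ofPt a ((pullback.fst h m).left u) := by
    rw [Points.map_ofPt, hp, ofPt_map_comp]
  rw [Set.mem_preimage, e]
  exact (hasAtMor_iff hF' hG' hf' ha' hc' hf'' u).trans
    ((mem_unrOpen_iff (isPullback_left (IsPullback.of_hasPullback h m)) u).trans
      (hasAtMor_iff hF hG hf ha hb c _).symm)

end GrothLib.AlgSp.UnramLocus
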