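import Groth.Agent.Lib.AlgSp.Valuative
import Groth.Agent.Lib.AlgSp.DecentPoints
import Mathlib.RingTheory.Unramified.Field
import Mathlib.RingTheory.Unramified.Finite

/-!
# Finite separable extensions in the valuative criterion

* `exists_domExt_of_chart`: a specialization in an etale chart gives a finite separable extension with a lift.
* `exists_domExt_finite_separable`.
* `hasLiftExt_of_isUnivClosedMor`.
-/

universe u

open CategoryTheory CategoryTheory.Limits AlgebraicGeometry Topology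

namespace GrothLib.AlgSp

open _root_.AlgSp

/-- Points of schemes etale over a field are points over finite separable extensions. -/
theorem exists_finite_separable_point {K : Type u} [Field K] {W : Scheme.{u}} (e : W ⟶ Spec (.of K)) [Etale e]
    (w : ↥W) :
    ∃ (L : Type u) (_ : Field L) (ψ : K →+* L) (p : Spec (CommRingCat.of L) ⟶ W),
      (letI := ψ.toAlgebra; Module.Finite K L ∧ Algebra.IsSeparable K L) ∧
      p ≫ e = Spec.map (CommRingCat.ofHom ψ) ∧ p (IsLocalRing.closedPoint L) = w := by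
  obtain ⟨U, hU, hwU, -⟩ := exists_isAffineOpen_mem_and_subset (U := (⊤ : W.Opens)) (x := w) trivial
  haveI : IsAffine U.toScheme := hU
  let D := Γ(U.toScheme, ⊤)
  obtain ⟨φ, hφ⟩ : ∃ φ : CommRingCat.of K ⟶ D, U.toScheme.isoSpec.inv ≫ U.ι ≫ e = Spec.map φ :=
    ⟨Spec.preimage _, (Spec.map_preimage _).symm⟩
  haveI : Etale (Spec.map φ) := by rw [← hφ]; infer_instance
  have het : φ.hom.Etale := (HasRingHomProperty.Spec_iff (P := @Etale)).1 ‹Etale (Spec.map φ)›
  algebraize [φ.hom]
  haveI : Module.Finite K D := Algebra.FormallyUnramified.finite_of_free K D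
  haveI : IsArtinianRing D := IsArtinianRing.of_finite K D
  let x : PrimeSpectrum D := U.toScheme.isoSpec.hom ⟨w, hwU⟩
  haveI : x.asIdeal.IsMaximal := IsArtinianRing.isMaximal_of_isPrime x.asIdeal
  letI : Field (D ⧸ x.asIdeal) := Ideal.Quotient.field x.asIdeal
  haveI : Algebra.FormallyUnramified K (D ⧸ x.asIdeal) :=
    Algebra.FormallyUnramified.of_surjective (Ideal.Quotient.mkₐ K x.asIdeal) Ideal.Quotient.mk_surjective
  haveI : Module.Finite K (D ⧸ x.asIdeal) := Module.Finite.of_surjective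
    (Ideal.Quotient.mkₐ K x.asIdeal).toLinearMap Ideal.Quotient.mk_surjective
  haveI : Algebra.IsSeparable K (D ⧸ x.asIdeal) := Algebra.FormallyUnramified.isSeparable K _
  refine ⟨D ⧸ x.asIdeal, inferInstance, algebraMap K (D ⧸ x.asIdeal),
    Spec.map (CommRingCat.ofHom (Ideal.Quotient.mk x.asIdeal)) ≫ U.toScheme.isoSpec.inv ≫ U.ι, ?_, ?_, ?_⟩
  · have e₁ : (algebraMap K (D ⧸ x.asIdeal)).toAlgebra = inferInstanceAs (Algebra K (D ⧸ x.asIdeal)) :=
      Algebra.algebra_ext _ _ fun _ => rfl
    rw [e₁]; exact ⟨inferInstance, inferInstance⟩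
  · rw [Category.assoc, Category.assoc, hφ, ← Spec.map_comp]
    rfl
  · have hc : Spec.map (CommRingCat.ofHom (Ideal.Quotient.mk x.asIdeal)) (IsLocalRing.closedPoint (D ⧸ x.asIdeal)) = x :=
      PrimeSpectrum.ext (by
        show Ideal.comap (Ideal.Quotient.mk x.asIdeal) (IsLocalRing.maximalIdeal (D ⧸ x.asIdeal)) = x.asIdeal
        rw [IsLocalRing.maximalIdeal_eq_bot, ← RingHom.ker_eq_comap_bot, Ideal.mk_ker])
    rw [Scheme.Hom.comp_apply, hc, Scheme.Hom.comp_apply]
    show U.ι (U.toScheme.isoSpec.inv (U.toScheme.isoSpec.hom ⟨w, hwU⟩)) = w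
    rw [← Scheme.Hom.comp_apply U.toScheme.isoSpec.hom, Iso.hom_inv_id]
    rfl

variable {S : Scheme.{u}}

section Prod

variable {P : Sp S} {T : Over S} {π : P ⟶ (yon S).obj T}

/-- Fibre products over a space have the property of the diagonal in fibre products over the base. -/
theorem exists_prod_diagonal {Q : MorphismProperty Scheme.{u}} (hπ : RepWith Q (pullback.diagonal π)) {A B : Over S} {p : A ⟶ T} {q : B ⟶ T}
    (a : (yon S).obj A ⟶ P) (b : (yon S).obj B ⟶ P) (ha : a ≫ π = (yon S).map p) (hb : b ≫ π = (yon S).map q) :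
    ∃ (Z : Over S) (c : Z ⟶ pullback p q), Q c.left ∧
      IsPullback ((yon S).map (c ≫ pullback.fst p q)) ((yon S).map (c ≫ pullback.snd p q)) a b := by
  let g : (yon S).obj (pullback p q) ⟶ pullback π π :=
    pullback.lift ((yon S).map (pullback.fst p q) ≫ a) ((yon S).map (pullback.snd p q) ≫ b) (by
      rw [Category.assoc, Category.assoc, ha, hb, ← Functor.map_comp, ← Functor.map_comp, pullback.condition])
  have hπ' := hπ
  obtain ⟨Z, fst, c, sq⟩ := exists_isPullback_of_representable hπ'.1 g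
  refine ⟨Z, c, hπ'.2 g fst c sq, isPullback_of_yon ?_ fun R x y hxy => ?_⟩
  · have h1 := congrArg (fun q => q ≫ pullback.fst π π) sq.w
    have h2 := congrArg (fun q => q ≫ pullback.snd π π) sq.w
    simp only [g, Category.assoc, pullback.diagonal_fst, pullback.diagonal_snd, pullback.lift_fst,
      pullback.lift_snd, Category.comp_id] at h1 h2
    rw [Functor.map_comp, Functor.map_comp, Category.assoc, Category.assoc, ← h1, ← h2]
  obtain ⟨x, rfl⟩ := (yon S).map_surjective x
  obtain ⟨y, rfl⟩ := (yon S).map_surjective y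
  have hpq : x ≫ p = y ≫ q := (yon S).map_injective (by
    rw [Functor.map_comp, Functor.map_comp, ← ha, ← hb, ← Category.assoc, ← Category.assoc, hxy])
  have hw : ((yon S).map x ≫ a) ≫ pullback.diagonal π = (yon S).map (pullback.lift x y hpq) ≫ g := by
    apply pullback.hom_ext
    · simp only [g, Category.assoc, pullback.diagonal_fst, pullback.lift_fst, Category.comp_id]
      rw [← Category.assoc, ← Functor.map_comp, pullback.lift_fst]
    · simp only [g, Category.assoc, pullback.diagonal_snd, pullback.lift_snd, Category.comp_id]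
      rw [hxy, ← Category.assoc, ← Functor.map_comp, pullback.lift_snd]
  have hl : sq.lift _ _ hw ≫ (yon S).map c = (yon S).map (pullback.lift x y hpq) := sq.lift_snd _ _ _
  refine ⟨sq.lift _ _ hw, ⟨?_, ?_⟩, ?_⟩
  · rw [Functor.map_comp, ← Category.assoc, hl, ← Functor.map_comp, pullback.lift_fst]
  · rw [Functor.map_comp, ← Category.assoc, hl, ← Functor.map_comp, pullback.lift_snd]
  · rintro w ⟨hw₁, hw₂⟩
    haveI : Mono c := (yon S).mono_of_mono_map (MorphismProperty.of_isPullback
      (P := MorphismProperty.monomorphisms _) sq (inferInstanceAs (Mono (pullback.diagonal π))))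
    obtain ⟨w, rfl⟩ := (yon S).map_surjective w
    obtain ⟨l, hl'⟩ := (yon S).map_surjective (sq.lift _ _ hw)
    rw [← hl'] at hl ⊢
    refine congrArg _ ((cancel_mono c).1 ((yon S).map_injective ?_))
    rw [Functor.map_comp, Functor.map_comp, hl, ← Functor.map_comp]
    refine congrArg _ (pullback.hom_ext ?_ ?_)
    · exact (yon S).map_injective (by rw [pullback.lift_fst, Category.assoc, ← hw₁, Functor.map_comp])
    · exact (yon S).map_injective (by rw [pullback.lift_snd, Category.assoc, ← hw₂, Functor.map_comp])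

/-- Points of quasi-separated spaces over affine schemes have finite fibres. -/
theorem finiteFibres_of_quasiCompact_diagonal (hπ : RepWith @QuasiCompact (pullback.diagonal π)) [IsAffine T.left]
    {Tk : Over S} (j : Tk ⟶ T) (k : (yon S).obj Tk ⟶ P) (hk : k ≫ π = (yon S).map j) [IsAffine Tk.left]
    [IsLocallyArtinian Tk.left] (t : ↥Tk.left) : FiniteFibres (Points.ofPt k t) := by
  intro V b hV hb
  haveI := hV
  obtain ⟨γ, hγ⟩ := (yon S).map_surjective (b ≫ π)
  obtain ⟨W, c, hc, sq⟩ := exists_prod_diagonal hπ b k hγ.symm hk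
  haveI : QuasiCompact c.left := hc
  haveI : IsAffineHom (pullback.snd γ j).left := MorphismProperty.of_isPullback
    (isPullback_left (IsPullback.of_hasPullback γ j)) (isAffineHom_of_isAffine γ.left)
  haveI : CompactSpace ↥(pullback γ j).left := QuasiCompact.compactSpace_of_compactSpace (pullback.snd γ j).left
  haveI : CompactSpace ↥W.left := QuasiCompact.compactSpace_of_compactSpace c.left
  haveI : Etale (c ≫ pullback.snd γ j).left := hb.2 _ _ _ sq
  haveI : LocallyQuasiFinite (c ≫ pullback.snd γ j).left := locallyQuasiFinite_of_unramified _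
  haveI : IsLocallyArtinian W.left := .of_locallyQuasiFinite (c ≫ pullback.snd γ j).left
  haveI : Finite ↥W.left := finite_of_compact_of_discrete
  refine (Set.finite_range (c ≫ pullback.fst γ j).left).subset fun v hv => ?_
  obtain ⟨r, hr, -⟩ := (ofPt_eq_ofPt_iff sq v t).1 (Set.mem_singleton_iff.1 hv)
  exact ⟨r, hr⟩

end Prod

variable {X Y : Sp S} {f : X ⟶ Y}

/-- A specialization in an etale chart gives a finite separable extension with a lift. -/
theorem exists_domExt_of_chart (v : ValSq f) {P : Sp S} {fst : P ⟶ X} {snd : P ⟶ (yon S).obj v.ptA}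
    (sq : IsPullback fst snd f v.bot) {W : Over S} (a : (yon S).obj W ⟶ P) (c : W ⟶ v.ptA)
    (hc : a ≫ snd = (yon S).map c) {Wk : Over S} (d : Wk ⟶ W) (g : Wk ⟶ v.ptK) [Etale g.left]
    (hcomm : (yon S).map d ≫ a = (yon S).map g ≫ sq.lift v.top ((yon S).map v.j) v.comm)
    (u₀ : ↥Wk.left) (w : ↥W.left) (hs : d.left u₀ ⤳ w) (hw : c.left w = IsLocalRing.closedPoint v.A) :
    ∃ e : v.DomExt, (letI := e.ψ.toAlgebra; Module.Finite v.K e.K' ∧ Algebra.IsSeparable v.K e.K') ∧ e.HasLift := by
  have hg : d ≫ c = g ≫ v.j := (yon S).map_injective (by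
    rw [Functor.map_comp, Functor.map_comp, ← hc, reassoc_of% hcomm, sq.lift_snd])
  obtain ⟨L, _, ψ, p, hfin, hp, hpu⟩ := exists_finite_separable_point (K := v.K) g.left u₀
  obtain ⟨A', σ, hσ, hgen⟩ := exists_valuation_point (L := L) (p ≫ d.left) w
    (by rw [Scheme.Hom.comp_apply, hpu]; exact hs)
  obtain ⟨φ, hφ⟩ : ∃ φ : CommRingCat.of v.A ⟶ CommRingCat.of A', σ ≫ c.left = Spec.map φ :=
    ⟨Spec.preimage _, (Spec.map_preimage _).symm⟩
  have hψ : Spec.map (CommRingCat.ofHom (algebraMap A' L)) ≫ Spec.map φ =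
      Spec.map (CommRingCat.ofHom ψ) ≫ Spec.map (CommRingCat.ofHom (algebraMap v.A v.K)) := by
    rw [← hφ, reassoc_of% hgen, ← hp, Category.assoc, ← Over.comp_left, hg]
    rfl
  have hcl : Spec.map φ (IsLocalRing.closedPoint A') = IsLocalRing.closedPoint v.A := by
    rw [← hφ, Scheme.Hom.comp_apply, hσ, hw]
  have hl : IsLocalHom φ.hom := ((IsLocalRing.local_hom_TFAE φ.hom).out 0 4).2
    (congrArg PrimeSpectrum.asIdeal hcl)
  let e : v.DomExt :=
    { A' := A', K' := L, φ := φ.hom, ψ := ψ, isLocalHom := hl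
      comm := by
        rw [← Spec.map_comp, ← Spec.map_comp] at hψ
        exact congrArg CommRingCat.Hom.hom (Spec.map_injective hψ) }
  let s : e.ptA' ⟶ W := Over.homMk σ (by
    change σ ≫ W.hom = Spec.map φ ≫ v.str
    rw [← hφ, Category.assoc, show c.left ≫ v.str = W.hom from Over.w c])
  have hsc : s ≫ c = (Over.homMk (Spec.map (CommRingCat.ofHom e.φ)) rfl : e.ptA' ⟶ v.ptA) :=
    Over.OverMorphism.ext hφ
  refine ⟨e, hfin, (yon S).map s ≫ a ≫ fst, ?_, ?_⟩
  · let pk : e.ptK' ⟶ Wk := Over.homMk p (by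
      change p ≫ Wk.hom = Spec.map _ ≫ Spec.map φ ≫ v.str
      rw [reassoc_of% hψ, ← hp, Category.assoc,
        show g.left ≫ Spec.map (CommRingCat.ofHom (algebraMap v.A v.K)) ≫ v.str = Wk.hom from Over.w g])
    rw [← Category.assoc, ← Functor.map_comp]
    have h1 : (Over.homMk (Spec.map (CommRingCat.ofHom (algebraMap e.A' e.K'))) rfl : e.ptK' ⟶ e.ptA') ≫ s = pk ≫ d :=
      Over.OverMorphism.ext hgen
    rw [h1, Functor.map_comp, Category.assoc, reassoc_of% hcomm, sq.lift_fst, ← Category.assoc, ← Functor.map_comp]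
    congr 2
    exact Over.OverMorphism.ext hp
  · rw [Category.assoc, Category.assoc, sq.w, reassoc_of% hc, ← Category.assoc, ← Functor.map_comp, hsc]

/-- The existence part holds with finite separable extensions. -/
theorem exists_domExt_finite_separable (hX : IsAlgSpace X) (hY : IsAlgSpace Y) (v : ValSq f) (h : v.HasLiftExt) :
    ∃ e : v.DomExt, (letI := e.ψ.toAlgebra; Module.Finite v.K e.K' ∧ Algebra.IsSeparable v.K e.K') ∧ e.HasLift := by
  obtain ⟨e, l, hl₁, hl₂⟩ := h
  haveI := e.isLocalHom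
  have sq := IsPullback.of_hasPullback f v.bot
  have hP : IsAlgSpace (pullback f v.bot) := isAlgSpace_pullback' hY hX (IsAlgSpace.yon_obj _) f v.bot
  let φ₀ : e.ptA' ⟶ v.ptA := Over.homMk (Spec.map (CommRingCat.ofHom e.φ)) rfl
  let j' : e.ptK' ⟶ e.ptA' := Over.homMk (Spec.map (CommRingCat.ofHom (algebraMap e.A' e.K'))) rfl
  let ψ₀ : e.ptK' ⟶ v.ptK := Over.homMk (Spec.map (CommRingCat.ofHom e.ψ)) (by
    change Spec.map _ ≫ Spec.map _ ≫ _ = Spec.map _ ≫ Spec.map _ ≫ _
    rw [← Spec.map_comp_assoc, ← Spec.map_comp_assoc, ← CommRingCat.ofHom_comp,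
      ← CommRingCat.ofHom_comp, e.comm])
  let m : (yon S).obj e.ptA' ⟶ pullback f v.bot := sq.lift l ((yon S).map φ₀) hl₂
  obtain ⟨ι, W₀, r, -, hr, hcov, -⟩ := exists_affine_charts hP
  obtain ⟨i, w, hwz⟩ := hcov (Points.ofPt m (IsLocalRing.closedPoint e.A'))
  obtain ⟨c, hc⟩ := (yon S).map_surjective (r i ≫ pullback.snd f v.bot)
  obtain ⟨R, p, q, sqR⟩ := exists_isPullback_of_representable (hr i).1 m
  obtain ⟨p, rfl⟩ := (yon S).map_surjective p
  haveI : Etale q.left := (hr i).2 _ _ _ sqR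
  obtain ⟨r₀, hr₁, hr₂⟩ := (ofPt_eq_ofPt_iff sqR w (IsLocalRing.closedPoint e.A')).1 hwz
  let k : ↥e.ptK'.left := IsLocalRing.closedPoint e.K'
  obtain ⟨r', hr', hq'⟩ := Flat.generalizingMap q.left (a := r₀) (b := j'.left k)
    (by rw [hr₂]; exact IsLocalRing.specializes_closedPoint (R := e.A') (j'.left k))
  obtain ⟨Wk, d, g, sqk⟩ := exists_isPullback_of_representable (hr i).1 (sq.lift v.top ((yon S).map v.j) v.comm)
  obtain ⟨d, rfl⟩ := (yon S).map_surjective d
  haveI : Etale g.left := (hr i).2 _ _ _ sqk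
  have hm : (yon S).map j' ≫ m = (yon S).map ψ₀ ≫ sq.lift v.top ((yon S).map v.j) v.comm := by
    apply sq.hom_ext
    · rw [Category.assoc, sq.lift_fst, Category.assoc, sq.lift_fst]; exact hl₁
    · rw [Category.assoc, sq.lift_snd, Category.assoc, sq.lift_snd, ← Functor.map_comp, ← Functor.map_comp]
      apply congrArg
      apply Over.OverMorphism.ext
      change Spec.map _ ≫ Spec.map _ = Spec.map _ ≫ Spec.map _
      rw [← Spec.map_comp, ← Spec.map_comp, ← CommRingCat.ofHom_comp, ← CommRingCat.ofHom_comp, e.comm]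
  have hpt : Points.ofPt (r i) (p.left r') =
      Points.ofPt (sq.lift v.top ((yon S).map v.j) v.comm) (ψ₀.left k) := by
    rw [← ofPt_map_comp ψ₀, ← hm, ofPt_map_comp, ← hq']
    exact (ofPt_eq_ofPt_iff sqR _ _).2 ⟨r', rfl, rfl⟩
  obtain ⟨u₀, hu₀, -⟩ := (ofPt_eq_ofPt_iff sqk _ _).1 hpt
  refine exists_domExt_of_chart v sq (r i) c hc.symm d g sqk.w u₀ w ?_ ?_
  · rw [hu₀, ← hr₁]; exact hr'.map p.left.continuous
  · have e1 := congrArg (Points.map (pullback.snd f v.bot)) hwz
    rw [Points.map_ofPt, Points.map_ofPt, ← hc, sq.lift_snd, Points.ofPt_eq_map_ofScheme,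
      Points.ofPt_eq_map_ofScheme] at e1
    have e2 := (Points.schemeEquiv v.ptA).injective
      ((Points.map_yon_map_apply c w).symm.trans (e1.trans (Points.map_yon_map_apply φ₀ _)))
    rw [e2]
    exact IsLocalRing.comap_closedPoint e.φ

/-- Universally closed morphisms whose generic fibre points are finite on charts satisfy existence. -/
theorem hasLiftExt_of_isUnivClosedMor (hX : IsAlgSpace X) (hY : IsAlgSpace Y) (hc : IsUnivClosedMor f)
    (v : ValSq f) (hfin : ∀ (P : Sp S) (fst : P ⟶ X) (snd : P ⟶ (yon S).obj v.ptA) (sq : IsPullback fst snd f v.bot),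
      FiniteFibres (Points.ofPt (sq.lift v.top ((yon S).map v.j) v.comm) (IsLocalRing.closedPoint v.K))) :
    v.HasLiftExt := by
  have sq := IsPullback.of_hasPullback f v.bot
  have hP : IsAlgSpace (pullback f v.bot) := isAlgSpace_pullback' hY hX (IsAlgSpace.yon_obj _) f v.bot
  let k := sq.lift v.top ((yon S).map v.j) v.comm
  let k₀ : ↥v.ptK.left := IsLocalRing.closedPoint v.K
  let x := Points.ofPt k k₀
  have hcl := hc (IsAlgSpace.yon_obj _) v.bot _ _ sq (closure {x}) isClosed_closure
  have hx : Points.map (pullback.snd f v.bot) x = Points.schemeHomeo v.ptA (v.j.left k₀) := by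
    rw [Points.map_ofPt, sq.lift_snd, Points.ofPt_eq_map_ofScheme]
    exact Points.map_yon_map_apply v.j k₀
  obtain ⟨z, hz, hzt⟩ : Points.schemeHomeo v.ptA (IsLocalRing.closedPoint v.A) ∈
      Points.map (pullback.snd f v.bot) '' closure {x} :=
    hcl.stableUnderSpecialization
      ((IsLocalRing.specializes_closedPoint (R := v.A) (v.j.left k₀)).map (Points.schemeHomeo v.ptA).continuous)
      ⟨x, subset_closure rfl, hx⟩
  obtain ⟨ι, W₀, r, -, hr, hcov, -⟩ := exists_affine_charts hP
  obtain ⟨i, w, rfl⟩ := hcov z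
  obtain ⟨u', hu', hu'x⟩ := exists_specializes_of_finite_fibres (x' := x) (specializes_iff_mem_closure.2 hz)
    (hfin _ _ _ sq) (hr i) rfl
  obtain ⟨c, hc⟩ := (yon S).map_surjective (r i ≫ pullback.snd f v.bot)
  obtain ⟨Wk, d, g, sqk⟩ := exists_isPullback_of_representable (hr i).1 k
  obtain ⟨d, rfl⟩ := (yon S).map_surjective d
  haveI : Etale g.left := (hr i).2 _ _ _ sqk
  obtain ⟨u₀, hu₀, -⟩ := (ofPt_eq_ofPt_iff sqk _ _).1 hu'x
  obtain ⟨e, -, he⟩ := exists_domExt_of_chart v sq (r i) c hc.symm d g sqk.w u₀ w (hu₀ ▸ hu') (by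
    rw [Points.map_ofPt, ← hc, Points.ofPt_eq_map_ofScheme] at hzt
    exact (Points.schemeEquiv v.ptA).injective ((Points.map_yon_map_apply c w).symm.trans hzt))
  exact ⟨e, he⟩

end GrothLib.AlgSp
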