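import Groth.Agent.Lib.AlgSp.ValDVRAlg
import Groth.Agent.Lib.AlgSp.ValExt
import Groth.Agent.Lib.AlgSp.UnivClosedTest
import Groth.Agent.Lib.DVRDom.Scheme

/-!
# Valuative criteria with discrete valuation rings over locally noetherian bases

* `exists_noeth_charts`, `isClosedMap_of_specializations`, `exists_specializes_of_hasLiftExt`.
* `isUnivClosedMor_of_dvr`: discrete valuation rings detect universal closedness.
* `isDiscreteValuationRing_of_finite_domExt`.
-/

universe u

open CategoryTheory CategoryTheory.Limits AlgebraicGeometry Topology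

namespace GrothLib.AlgSp

open _root_.AlgSp

variable {S : Scheme.{u}} {X Y : Sp S} {f : X ⟶ Y}

/-- Locally noetherian spaces have covers by charts of noetherian affine schemes. -/
theorem exists_noeth_charts (hN : IsLocNoethSp Y) :
    ∃ (ι : Type u) (R : ι → CommRingCat.{u}) (str : ∀ i, Spec (R i) ⟶ S)
      (r : ∀ i, (yon S).obj (Over.mk (str i)) ⟶ Y),
      (∀ i, IsNoetherianRing (R i)) ∧ (∀ i, RepWith @Etale (r i)) ∧ ∀ y, ∃ i v, Points.ofPt (r i) v = y := by
  obtain ⟨U, p, pe, ps, hU⟩ := hN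
  haveI := hU
  let j : ∀ i : U.left.affineOpens, Over.mk (i.2.fromSpec ≫ U.hom) ⟶ U := fun i => Over.homMk i.2.fromSpec rfl
  refine ⟨U.left.affineOpens, fun i => Γ(U.left, i.1), fun i => i.2.fromSpec ≫ U.hom,
    fun i => (yon S).map (j i) ≫ p, fun i => IsLocallyNoetherian.component_noetherian i,
    fun i => repWith_comp ((repWith_yon_map_iff _ _).2 (inferInstanceAs (Etale i.2.fromSpec))) pe, fun y => ?_⟩
  obtain ⟨u, rfl⟩ := surjective_ofPt_of_repWith ps y
  obtain ⟨O, hO, hu, -⟩ := exists_isAffineOpen_mem_and_subset (U := (⊤ : U.left.Opens)) (x := u) trivial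
  obtain ⟨v, hv⟩ := hO.range_fromSpec.ge hu
  exact ⟨⟨O, hO⟩, v, (ofPt_map_comp (j ⟨O, hO⟩) p v).trans (congrArg _ hv)⟩

/-- A morphism to an affine scheme along which specializations lift is closed. -/
theorem isClosedMap_of_specializations {P : Sp S} {T : Over S} [IsAffine T.left] (hP : IsAlgSpace P)
    (hc : IsQuasiCompactSp P) (snd : P ⟶ (yon S).obj T)
    (h : ∀ (W : Over S) (a : (yon S).obj W ⟶ P) (c : W ⟶ T), IsAffine W.left → RepWith @Etale a →
      a ≫ snd = (yon S).map c → ∀ (w : ↥W.left) (t : ↥T.left),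
        c.left w ⤳ t → ∃ z, Points.ofPt a w ⤳ z ∧ Points.map snd z = Points.schemeHomeo T t) :
    IsClosedMap (Points.map snd) := by
  intro C hC
  obtain ⟨W, a, hW, ae, as⟩ := exists_affine_surjective_chart hP hc
  haveI := hW
  obtain ⟨c, hc⟩ := (yon S).map_surjective (a ≫ snd)
  have e : ∀ w, Points.map snd (Points.ofPt a w) = Points.schemeHomeo T (c.left w) := fun w => by
    rw [Points.map_ofPt, ← hc, Points.ofPt_eq_map_ofScheme]
    exact Points.map_yon_map_apply c w
  have himg : Points.map snd '' C = Points.schemeHomeo T '' (c.left '' (Points.ofPt a ⁻¹' C)) := by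
    ext y
    constructor
    · rintro ⟨z, hz, rfl⟩
      obtain ⟨w, rfl⟩ := surjective_ofPt_of_repWith as z
      exact ⟨_, ⟨w, hz, rfl⟩, (e w).symm⟩
    · rintro ⟨_, ⟨w, hw, rfl⟩, rfl⟩
      exact ⟨_, hw, e w⟩
  rw [himg]
  refine (Points.schemeHomeo T).isClosed_image.2
    (isClosed_image_of_affine c.left (hC.preimage (Points.continuous_ofPt a)) ?_)
  rintro x t hxt ⟨w, hw, rfl⟩
  obtain ⟨z, hz₁, hz₂⟩ := h W a c hW ae hc.symm w t hxt
  obtain ⟨w', rfl⟩ := surjective_ofPt_of_repWith as z
  exact ⟨w', hC.stableUnderSpecialization hz₁ hw, (Points.schemeHomeo T).injective ((e w').symm.trans hz₂)⟩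

/-- Lifts after extension give lifts of specializations in base changes. -/
theorem exists_specializes_of_hasLiftExt (v : ValSq f) (h : v.HasLiftExt) {T : Over S} {g : (yon S).obj T ⟶ Y}
    {P : Sp S} {fst : P ⟶ X} {snd : P ⟶ (yon S).obj T} (sq : IsPullback fst snd f g) (s : v.ptA ⟶ T)
    (hs : v.bot = (yon S).map s ≫ g) (k : (yon S).obj v.ptK ⟶ P) (hk₁ : k ≫ fst = v.top)
    (hk₂ : k ≫ snd = (yon S).map (v.j ≫ s)) :
    ∃ z, Points.ofPt k (IsLocalRing.closedPoint v.K) ⤳ z ∧
      Points.map snd z = Points.schemeHomeo T (s.left (IsLocalRing.closedPoint v.A)) := by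
  obtain ⟨e, l, hl₁, hl₂⟩ := h
  haveI := e.isLocalHom
  let φ₀ : e.ptA' ⟶ v.ptA := Over.homMk (Spec.map (CommRingCat.ofHom e.φ)) rfl
  let j' : e.ptK' ⟶ e.ptA' := Over.homMk (Spec.map (CommRingCat.ofHom (algebraMap e.A' e.K'))) rfl
  let ψ₀ : e.ptK' ⟶ v.ptK := Over.homMk (Spec.map (CommRingCat.ofHom e.ψ)) (by
    change Spec.map _ ≫ Spec.map _ ≫ _ = Spec.map _ ≫ Spec.map _ ≫ _
    rw [← Spec.map_comp_assoc, ← Spec.map_comp_assoc, ← CommRingCat.ofHom_comp,
      ← CommRingCat.ofHom_comp, e.comm])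
  let m : (yon S).obj e.ptA' ⟶ P := sq.lift l ((yon S).map (φ₀ ≫ s)) (by
    rw [hl₂, hs, Functor.map_comp, Category.assoc])
  have hj : j' ≫ φ₀ = ψ₀ ≫ v.j := Over.OverMorphism.ext (by
    change Spec.map _ ≫ Spec.map _ = Spec.map _ ≫ Spec.map _
    rw [← Spec.map_comp, ← Spec.map_comp, ← CommRingCat.ofHom_comp, ← CommRingCat.ofHom_comp, e.comm])
  have hm : (yon S).map j' ≫ m = (yon S).map ψ₀ ≫ k := by
    apply sq.hom_ext
    · rw [Category.assoc, sq.lift_fst, Category.assoc, hk₁]; exact hl₁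
    · rw [Category.assoc, sq.lift_snd, Category.assoc, hk₂, ← Functor.map_comp, ← Functor.map_comp,
        reassoc_of% hj]
  refine ⟨Points.ofPt m (IsLocalRing.closedPoint e.A'), ?_, ?_⟩
  · let c : ↥e.ptK'.left := IsLocalRing.closedPoint e.K'
    have h1 : Points.ofPt m (j'.left c) = Points.ofPt k (IsLocalRing.closedPoint v.K) := by
      rw [← ofPt_map_comp, hm, ofPt_map_comp]
      exact congrArg (Points.ofPt k) (IsLocalRing.comap_closedPoint e.ψ)
    rw [← h1]
    exact Specializes.map (IsLocalRing.specializes_closedPoint (R := e.A') (j'.left c)) (Points.continuous_ofPt m)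
  · rw [Points.map_ofPt, sq.lift_snd, Points.ofPt_eq_map_ofScheme]
    refine (Points.map_yon_map_apply (φ₀ ≫ s) (IsLocalRing.closedPoint e.A')).trans (congrArg _ ?_)
    change s.left (Spec.map (CommRingCat.ofHom e.φ) (IsLocalRing.closedPoint e.A')) = _
    rw [show Spec.map (CommRingCat.ofHom e.φ) (IsLocalRing.closedPoint e.A') = IsLocalRing.closedPoint v.A from
      IsLocalRing.comap_closedPoint e.φ]

/-- Universal closedness from lifts over discrete valuation rings. -/
theorem isUnivClosedMor_of_dvr (hX : IsAlgSpace X) (hY : IsAlgSpace Y) (hN : IsLocNoethSp Y)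
    (hf : LocP @LocallyOfFiniteType f) (hq : IsQuasiCompactMor f)
    (hv : ∀ v : ValSq f, IsDiscreteValuationRing v.A → v.HasLiftExt) : IsUnivClosedMor f := by
  obtain ⟨ι, R, str, r, hR, hr, hcov⟩ := exists_noeth_charts hN
  refine isUnivClosedMor_of_affine_charts hX hY hq R str r hr hcov fun i σ _ P fst snd sq => ?_
  haveI := hR i
  let T := specOver (str i) (MvPolynomial σ (R i))
  haveI : IsAffine T.left := inferInstanceAs (IsAffine (Spec (CommRingCat.of (MvPolynomial σ (R i)))))
  haveI : IsLocallyNoetherian T.left :=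
    inferInstanceAs (IsLocallyNoetherian (Spec (CommRingCat.of (MvPolynomial σ (R i)))))
  haveI : CompactSpace ↥T.left := inferInstance
  have hP : IsAlgSpace P := isAlgSpace_pullback hY.diag hX (IsAlgSpace.yon_obj T) sq
  refine isClosedMap_of_specializations hP
    (hq (IsAlgSpace.yon_obj T) (isQuasiCompactSp_yon T) _ fst snd sq) snd fun W a c _ ha hac w t hwt => ?_
  haveI : LocallyOfFiniteType c.left := EtLocal.locP_of_isPullback EtLocal.lft hX hY (IsAlgSpace.yon_obj T) sq hf
    a (𝟙 _) c ha (repWith_id _ _) (by rw [hac, Category.comp_id])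
  have hw : Points.map snd (Points.ofPt a w) = Points.schemeHomeo T (c.left w) := by
    rw [Points.map_ofPt, hac, Points.ofPt_eq_map_ofScheme]
    exact Points.map_yon_map_apply c w
  rcases eq_or_ne t (c.left w) with rfl | hne
  · exact ⟨_, specializes_rfl, hw⟩
  obtain ⟨A, σA, hA, hσ, hgen⟩ := GrothLib.DVRDom.exists_dvr_over c.left w t hwt hne
  haveI := hA
  let s : Over.mk (σA ≫ T.hom) ⟶ T := Over.homMk σA rfl
  let κ : Over.mk (Spec.map (CommRingCat.ofHom (algebraMap A ↥(W.left.residueField w))) ≫ σA ≫ T.hom) ⟶ W :=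
    Over.homMk (W.left.fromSpecResidueField w) (by
      change _ = Spec.map (CommRingCat.ofHom A.subtype) ≫ σA ≫ T.hom
      rw [reassoc_of% hgen, Over.w])
  have hκ : κ ≫ c = (Over.homMk (Spec.map (CommRingCat.ofHom (algebraMap A ↥(W.left.residueField w)))) rfl :
      _ ⟶ Over.mk (σA ≫ T.hom)) ≫ s := Over.OverMorphism.ext hgen.symm
  let v : ValSq f :=
    { A := A, K := ↥(W.left.residueField w), str := σA ≫ T.hom, top := (yon S).map κ ≫ a ≫ fst
      bot := (yon S).map s ≫ (yon S).map (specHom (str i) (MvPolynomial σ (R i))) ≫ r i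
      comm := by
        have h := congrArg (fun z => (yon S).map z ≫ (yon S).map (specHom (str i) (MvPolynomial σ (R i))) ≫ r i) hκ
        simp only [Functor.map_comp, Category.assoc] at h
        rw [Category.assoc, Category.assoc, sq.w, reassoc_of% hac]
        exact h }
  obtain ⟨z, hz₁, hz₂⟩ := exists_specializes_of_hasLiftExt v (hv v hA) sq s rfl ((yon S).map κ ≫ a)
    (Category.assoc _ _ _) (by rw [Category.assoc, hac, ← Functor.map_comp]; exact congrArg _ hκ)
  refine ⟨z, ?_, hσ ▸ hz₂⟩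
  rwa [ofPt_map_comp, show κ.left (IsLocalRing.closedPoint v.K) = w from
    W.left.fromSpecResidueField_apply w _] at hz₁

/-- A dominating valuation ring in a finite extension of a discrete valuation ring is discrete. -/
theorem isDiscreteValuationRing_of_finite_domExt {v : ValSq f} (hA : IsDiscreteValuationRing v.A) (e : v.DomExt)
    (hfin : letI := e.ψ.toAlgebra; Module.Finite v.K e.K' ∧ Algebra.IsSeparable v.K e.K') :
    IsDiscreteValuationRing e.A' := by
  haveI := hA
  haveI := e.isLocalHom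
  letI := e.ψ.toAlgebra
  haveI := hfin.1
  haveI := hfin.2
  letI : Algebra v.A e.K' := ((algebraMap e.A' e.K').comp e.φ).toAlgebra
  haveI : IsScalarTower v.A v.K e.K' := IsScalarTower.of_algebraMap_eq fun x => RingHom.congr_fun e.comm x
  let C := integralClosure v.A e.K'
  haveI : IsDedekindDomain C := integralClosure.isDedekindDomain v.A v.K e.K'
  haveI : IsFractionRing C e.K' := integralClosure.isFractionRing_of_finite_extension v.K e.K'
  let V : ValuationSubring e.K' :=
    { (algebraMap e.A' e.K').range with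
      mem_or_inv_mem' := fun x => ValuationRing.isInteger_or_isInteger e.A' x }
  have hCV : ∀ c : C, algebraMap C e.K' c ∈ V := by
    intro c
    have hint : IsIntegral e.A' (c : e.K') := by
      letI := e.φ.toAlgebra
      haveI : IsScalarTower v.A e.A' e.K' := IsScalarTower.of_algebraMap_eq fun x => rfl
      exact c.2.tower_top
    obtain ⟨y, hy⟩ := IsIntegrallyClosed.isIntegral_iff.1 hint
    exact ⟨y, hy⟩
  let eV : e.A' ≃+* V := RingEquiv.ofBijective (algebraMap e.A' e.K').rangeRestrict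
    ⟨fun x y h => IsFractionRing.injective e.A' e.K' (congrArg Subtype.val h),
      (algebraMap e.A' e.K').rangeRestrict_surjective⟩
  have hne : V ≠ ⊤ := by
    intro hV
    obtain ⟨ϖ, hϖ⟩ := IsDiscreteValuationRing.exists_irreducible v.A
    have h0 : algebraMap e.A' e.K' (e.φ ϖ) ≠ 0 := by
      rw [show algebraMap e.A' e.K' (e.φ ϖ) = e.ψ (algebraMap v.A v.K ϖ) from RingHom.congr_fun e.comm ϖ]
      exact (map_ne_zero e.ψ).2 ((map_ne_zero_iff _ (IsFractionRing.injective v.A v.K)).2 hϖ.ne_zero)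
    obtain ⟨y, hy⟩ : (algebraMap e.A' e.K' (e.φ ϖ))⁻¹ ∈ V := hV ▸ ValuationSubring.mem_top _
    refine hϖ.not_isUnit (isUnit_of_map_unit e.φ _ ?_)
    refine isUnit_iff_exists_inv.2 ⟨y, IsFractionRing.injective e.A' e.K' ?_⟩
    rw [map_mul, hy, map_one, mul_inv_cancel₀ h0]
  haveI := GrothLib.DVRDom.isDiscreteValuationRing_valuationSubring V hCV hne
  exact IsDiscreteValuationRing.RingEquivClass.isDiscreteValuationRing eV.symm

end GrothLib.AlgSp
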