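import Groth.Agent.Lib.DVRDom.Exists
import Mathlib.FieldTheory.IsAlgClosed.Basic
import Mathlib.LinearAlgebra.FreeModule.Finite.Matrix

/-!
# Algebra for valuative criteria with discrete valuation rings

* `exists_splitting_finset`: finitely many elements split all maps of a finite algebra.
* `exists_dvr_separating`: approximate a valuation ring by a discrete valuation ring in a finitely generated field.
-/

universe u

namespace GrothLib.AlgSp.ValDVR

open IsLocalRing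

/-- Finitely many elements of an algebraically closed field split all maps out of a finite algebra. -/
theorem exists_splitting_finset {K₀ L : Type u} [Field K₀] [Field L] [IsAlgClosed L] (a : K₀ →+* L)
    (E : Type u) [CommRing E] [Algebra K₀ E] [Module.Finite K₀ E] :
    ∃ s : Finset L, ∀ (K₁ : Type u) [Field K₁] (b : K₀ →+* K₁) (i : K₁ →+* L), i.comp b = a →
      (∀ x ∈ s, x ∈ i.range) → ∀ (K' : Type u) [Field K'] (c : K₁ →+* K') (ψ : E →+* K'),
        ψ.comp (algebraMap K₀ E) = c.comp b → ∃ ψ₁ : E →+* K₁, c.comp ψ₁ = ψ := by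
  classical
  obtain ⟨g, hg⟩ := Module.Finite.fg_top (R := K₀) (M := E)
  refine ⟨g.biUnion fun e => ((minpoly K₀ e).map a).roots.toFinset, fun K₁ _ b i hib hs K' _ c ψ hψ => ?_⟩
  have hrange : ∀ e, ψ e ∈ c.range := by
    intro e
    have he : e ∈ Submodule.span K₀ (g : Set E) := hg ▸ Submodule.mem_top
    induction he using Submodule.span_induction with
    | zero => rw [map_zero]; exact zero_mem _
    | add x y _ _ hx hy => rw [map_add]; exact add_mem hx hy
    | smul r x _ hx =>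
      rw [Algebra.smul_def, map_mul]
      exact mul_mem ⟨b r, (RingHom.congr_fun hψ r).symm⟩ hx
    | mem x hx =>
      have hint : IsIntegral K₀ x := IsIntegral.of_finite K₀ x
      let p := minpoly K₀ x
      have hp0 : p.map b ≠ 0 := (minpoly.monic hint).map b |>.ne_zero
      have hmap : (p.map b).map i = p.map a := by rw [Polynomial.map_map, hib]
      have hsp : (p.map b).Splits := by
        refine Polynomial.Splits.of_splits_map i (IsAlgClosed.splits _) fun y hy => ?_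
        rw [hmap] at hy
        exact hs y (Finset.mem_biUnion.2 ⟨x, hx, Multiset.mem_toFinset.2 hy⟩)
      refine hsp.mem_range_of_isRoot hp0 (i := c) ?_
      rw [Polynomial.map_map, ← hψ, Polynomial.IsRoot, Polynomial.eval_map, ← Polynomial.hom_eval₂]
      rw [show Polynomial.eval₂ (algebraMap K₀ E) x p = 0 from minpoly.aeval K₀ x, map_zero]
  let e := RingEquiv.ofBijective c.rangeRestrict
    ⟨fun x y h => c.injective (congrArg Subtype.val h), c.rangeRestrict_surjective⟩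
  refine ⟨e.symm.toRingHom.comp (ψ.codRestrict c.range hrange), RingHom.ext fun x => ?_⟩
  exact congrArg Subtype.val (e.apply_symm_apply (⟨ψ x, hrange x⟩ : c.range))

/-- Finitely many elements of the maximal ideal of a valuation ring lie in the maximal ideal of a discrete
valuation ring of a finitely generated field over a noetherian ring. -/
theorem exists_dvr_separating {R L : Type u} [CommRing R] [IsNoetherianRing R] [Field L] (B : ValuationSubring L)
    (ρ : R →+* L) (hρ : ∀ r, ρ r ∈ B) (K₁ : Subfield L) (s : Finset L) (F : Finset L)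
    (hK : K₁ = Subfield.closure (Set.range ρ ∪ (s : Set L) ∪ F))
    (hF : ∀ x ∈ F, ∃ hx : x ∈ B, (⟨x, hx⟩ : B) ∈ maximalIdeal B) (hF0 : ∃ x ∈ F, x ≠ 0) :
    ∃ V : ValuationSubring K₁, IsDiscreteValuationRing V ∧
      (∃ ρV : R →+* V, ∀ r, ((ρV r : K₁) : L) = ρ r) ∧
      ∀ x ∈ F, ∃ y : V, y ∈ maximalIdeal V ∧ ((y : K₁) : L) = x := by
  classical
  have hmem : ∀ x ∈ Set.range ρ ∪ (s : Set L) ∪ F, x ∈ K₁ := fun x hx => hK ▸ Subfield.subset_closure hx
  let ρ₁ : R →+* K₁ := ρ.codRestrict K₁ fun r => hmem _ (Or.inl (Or.inl ⟨r, rfl⟩))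
  letI := ρ₁.toAlgebra
  let F₁ : Finset K₁ := F.attach.image fun x => ⟨x.1, hmem _ (Or.inr x.2)⟩
  let s₁ : Finset K₁ := s.attach.image fun x => ⟨x.1, hmem _ (Or.inl (Or.inr x.2))⟩
  let A₀ := Algebra.adjoin R (F₁ : Set K₁)
  let C₀ : Subring K₁ := A₀.toSubring
  haveI : IsNoetherianRing C₀ := isNoetherianRing_of_fg (R := R) (Subalgebra.fg_adjoin_finset F₁)
  let B₁ : ValuationSubring K₁ := B.comap K₁.subtype
  have hCB : C₀ ≤ B₁.toSubring := by
    intro z hz
    change z ∈ A₀ at hz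
    induction hz using Algebra.adjoin_induction with
    | mem x hx =>
      obtain ⟨⟨x, hxF⟩, -, rfl⟩ := Finset.mem_image.1 hx
      exact (hF x hxF).1
    | algebraMap r => exact hρ r
    | add x y _ _ hx hy => exact add_mem hx hy
    | mul x y _ _ hx hy => exact mul_mem hx hy
  let toB : C₀ →+* B := (K₁.subtype.comp C₀.subtype).codRestrict B.toSubring fun z => hCB z.2
  let P : Ideal C₀ := (maximalIdeal B).comap toB
  haveI : P.IsPrime := Ideal.IsPrime.comap toB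
  let C := LocalSubring.ofPrime C₀ P
  haveI : IsNoetherianRing C.toSubring := GrothLib.DVRDom.isNoetherianRing_ofPrime C₀ P
  have hmemC : ∀ z : C₀, z ∈ P → ∃ hz : (z : K₁) ∈ C.toSubring, (⟨z, hz⟩ : C.toSubring) ∈ maximalIdeal C.toSubring := by
    intro z hz
    refine ⟨LocalSubring.le_ofPrime C₀ P z.2, ?_⟩
    rw [← IsLocalization.AtPrime.map_eq_maximalIdeal P (Rₚ := C.toSubring)]
    exact Ideal.mem_map_of_mem _ hz
  have hFC : ∀ x (hx : x ∈ F), ∃ z : C₀, z ∈ P ∧ ((z : K₁) : L) = x := by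
    intro x hx
    obtain ⟨hxB, hxm⟩ := hF x hx
    refine ⟨⟨⟨x, hmem _ (Or.inr hx)⟩, Algebra.subset_adjoin
      (Finset.mem_image.2 ⟨⟨x, hx⟩, Finset.mem_attach _ _, rfl⟩)⟩, ?_, rfl⟩
    exact hxm
  have hnf : ¬ IsField C.toSubring := by
    obtain ⟨x, hx, hx0⟩ := hF0
    obtain ⟨z, hzP, hzx⟩ := hFC x hx
    obtain ⟨hzC, hzm⟩ := hmemC z hzP
    intro hf
    rw [(isField_iff_maximalIdeal_eq.1 hf), Submodule.mem_bot] at hzm
    refine hx0 (hzx ▸ ?_)
    have : (z : K₁) = 0 := congrArg Subtype.val hzm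
    rw [this]; rfl
  have hCsub : C₀ ≤ C.toSubring := LocalSubring.le_ofPrime C₀ P
  have hgen : Subfield.closure ((C.toSubring : Set K₁) ∪ s₁) = ⊤ := by
    refine eq_top_iff.2 fun z _ => ?_
    let M := Subfield.closure ((C.toSubring : Set K₁) ∪ s₁)
    have hle : K₁ ≤ M.map K₁.subtype := by
      conv_lhs => rw [hK]
      refine Subfield.closure_le.2 ?_
      rintro x ((⟨r, rfl⟩ | hx) | hx)
      · exact ⟨ρ₁ r, Subfield.subset_closure (Or.inl (hCsub (A₀.algebraMap_mem r))), rfl⟩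
      · exact ⟨⟨x, hmem _ (Or.inl (Or.inr hx))⟩,
          Subfield.subset_closure (Or.inr (Finset.mem_image.2 ⟨⟨x, hx⟩, Finset.mem_attach _ _, rfl⟩)), rfl⟩
      · obtain ⟨w, -, hw⟩ := hFC x hx
        exact ⟨w, Subfield.subset_closure (Or.inl (hCsub w.2)), hw⟩
    obtain ⟨y, hy, hyz⟩ := hle z.2
    exact (Subtype.ext hyz : y = z) ▸ hy
  obtain ⟨V, hV, hle⟩ := GrothLib.DVRDom.exists_dvr_dominating_localSubring C hnf s₁ hgen
  refine ⟨V, hV, ⟨ρ₁.codRestrict V.toSubring fun r => hle.1 (hCsub (A₀.algebraMap_mem r)), fun r => rfl⟩,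
    fun x hx => ?_⟩
  obtain ⟨z, hzP, hzx⟩ := hFC x hx
  obtain ⟨hzC, hzm⟩ := hmemC z hzP
  refine ⟨⟨z, hle.1 hzC⟩, ?_, hzx⟩
  exact (mem_maximalIdeal _).2 fun hu => (mem_maximalIdeal _).1 hzm (hle.2.map_nonunit ⟨z, hzC⟩ hu)

/-- Either some map of a finite algebra is integral for a valuation ring, or a discrete valuation ring in a
finitely generated field has no integral maps in any dominating valuation ring. -/
theorem exists_integral_or_dvr {R L K₀ : Type u} [CommRing R] [IsNoetherianRing R] [Field L] [IsAlgClosed L]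
    [Field K₀] (B : ValuationSubring L) (ρ : R →+* L) (hρ : ∀ r, ρ r ∈ B) (i₀ : K₀ →+* L) (g : Finset L)
    (hg : ∀ x, i₀ x ∈ Subfield.closure (Set.range ρ ∪ (g : Set L)))
    {E D : Type u} [CommRing E] [Nontrivial E] [CommRing D] [Algebra K₀ E] [Module.Finite K₀ E] (γ : D →+* E) :
    (∃ χ : E →+* L, χ.comp (algebraMap K₀ E) = i₀ ∧ ∀ d, χ (γ d) ∈ B) ∨
    ∃ (K₁ : Subfield L) (V : ValuationSubring K₁) (b₀ : K₀ →+* K₁) (ρV : R →+* V),
      IsDiscreteValuationRing V ∧ (∀ r, ((ρV r : K₁) : L) = ρ r) ∧ K₁.subtype.comp b₀ = i₀ ∧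
      ∀ (L₂ : Type u) [Field L₂] (V₂ : ValuationSubring L₂) (c : K₁ →+* L₂) (ψE : E →+* L₂),
        (∀ y ∈ maximalIdeal V, ∃ z ∈ maximalIdeal V₂, (z : L₂) = c y) →
        ψE.comp (algebraMap K₀ E) = c.comp b₀ → (∀ d, ψE (γ d) ∈ V₂) → False := by
  classical
  letI : Algebra K₀ L := i₀.toAlgebra
  by_cases hA : ∃ χ : E →ₐ[K₀] L, ∀ d, χ (γ d) ∈ B
  · obtain ⟨χ, hχ⟩ := hA
    exact Or.inl ⟨χ.toRingHom, RingHom.ext χ.commutes, hχ⟩
  push Not at hA
  choose d hd using hA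
  haveI : Fintype (E →ₐ[K₀] L) := Fintype.ofFinite _
  let F : Finset L := Finset.univ.image fun χ : E →ₐ[K₀] L => (χ (γ (d χ)))⁻¹
  have hF : ∀ x ∈ F, ∃ hx : x ∈ B, (⟨x, hx⟩ : B) ∈ maximalIdeal B := by
    intro x hx
    obtain ⟨χ, -, rfl⟩ := Finset.mem_image.1 hx
    have hinv := (B.mem_or_inv_mem _).resolve_left (hd χ)
    refine ⟨hinv, (mem_maximalIdeal _).2 fun hu => hd χ ?_⟩
    obtain ⟨b, hb⟩ := hu.exists_right_inv
    have hb' : (χ (γ (d χ)))⁻¹ * (b : L) = 1 := congrArg Subtype.val hb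
    rw [← inv_inv (χ (γ (d χ))), inv_eq_of_mul_eq_one_right hb']
    exact b.2
  have hF0 : ∃ x ∈ F, x ≠ 0 := by
    obtain ⟨M, hM⟩ := Ideal.exists_maximal E
    letI := Ideal.Quotient.field M
    let χ : E →ₐ[K₀] L := (IsAlgClosed.lift (R := K₀) (M := L) (S := E ⧸ M)).comp (Ideal.Quotient.mkₐ K₀ M)
    exact ⟨_, Finset.mem_image_of_mem _ (Finset.mem_univ χ),
      inv_ne_zero fun h0 => hd χ (h0 ▸ zero_mem B)⟩
  obtain ⟨s₂, hs₂⟩ := exists_splitting_finset i₀ E
  let K₁ : Subfield L := Subfield.closure (Set.range ρ ∪ ((g ∪ s₂ : Finset L) : Set L) ∪ F)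
  obtain ⟨V, hV, ⟨ρV, hρV⟩, hVF⟩ := exists_dvr_separating B ρ hρ K₁ (g ∪ s₂) F rfl hF hF0
  have hle : ∀ x, i₀ x ∈ K₁ := fun x => Subfield.closure_mono (Set.subset_union_of_subset_left
    (Set.union_subset_union_right _ (by rw [Finset.coe_union]; exact Set.subset_union_left)) _) (hg x)
  let b₀ : K₀ →+* K₁ := i₀.codRestrict K₁ hle
  refine Or.inr ⟨K₁, V, b₀, ρV, hV, hρV, RingHom.ext fun _ => rfl, fun L₂ _ V₂ c ψE hc hψa hψd => ?_⟩
  obtain ⟨ψ₁, hψ₁⟩ := hs₂ K₁ b₀ K₁.subtype (RingHom.ext fun _ => rfl)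
    (fun x hx => ⟨⟨x, Subfield.subset_closure (Or.inl (Or.inr (Finset.mem_union_right _ hx)))⟩, rfl⟩)
    L₂ c ψE hψa
  have hψ₁a : ψ₁.comp (algebraMap K₀ E) = b₀ := RingHom.ext fun x => c.injective
    ((RingHom.congr_fun hψ₁ (algebraMap K₀ E x)).trans (RingHom.congr_fun hψa x))
  let χ : E →ₐ[K₀] L :=
    { K₁.subtype.comp ψ₁ with commutes' := fun x => congrArg Subtype.val (RingHom.congr_fun hψ₁a x) }
  obtain ⟨y, hy, hyx⟩ := hVF _ (Finset.mem_image_of_mem _ (Finset.mem_univ χ))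
  have hne : ψ₁ (γ (d χ)) ≠ 0 := fun h0 => hd χ (by
    change ((ψ₁ (γ (d χ)) : K₁) : L) ∈ B
    rw [h0]; exact zero_mem B)
  have hy' : (y : K₁) = (ψ₁ (γ (d χ)))⁻¹ := Subtype.ext (hyx.trans (map_inv₀ K₁.subtype _).symm)
  obtain ⟨z, hz, hzy⟩ := hc y hy
  refine (mem_maximalIdeal _).1 hz (isUnit_iff_exists_inv.2 ⟨⟨_, hψd (d χ)⟩, Subtype.ext ?_⟩)
  show (z : L₂) * ψE (γ (d χ)) = 1
  rw [hzy, hy', ← hψ₁, RingHom.comp_apply, ← map_mul, inv_mul_cancel₀ hne, map_one]

end GrothLib.AlgSp.ValDVR
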