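import Groth.Agent.Lib.AlgSp.ValDVR
import Mathlib.FieldTheory.IsAlgClosed.AlgebraicClosure

/-!
# Refined valuative criteria with discrete valuation rings

* `exists_generalization_point`, `exists_chart_lift_isAlgClosed`.
* `hasLiftExt_of_refined_dvr`: refined existence over discrete valuation rings gives refined existence.
-/

universe u

open CategoryTheory CategoryTheory.Limits AlgebraicGeometry Topology

namespace GrothLib.AlgSp

open _root_.AlgSp

variable {S : Scheme.{u}}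

/-- Points of flat schemes over a valuation ring generalize to geometric points of the generic fibre. -/
theorem exists_generalization_point {A K : Type u} [CommRing A] [IsLocalRing A] [Field K] [Algebra A K]
    {T : Scheme.{u}} (τ : T ⟶ Spec (CommRingCat.of A)) [Flat τ] (t : ↥T) (ht : τ t = IsLocalRing.closedPoint A) :
    ∃ (L : Type u) (_ : Field L) (_ : IsAlgClosed L) (pT : Spec (CommRingCat.of L) ⟶ T) (ψ : K →+* L),
      pT ≫ τ = Spec.map (CommRingCat.ofHom ψ) ≫ Spec.map (CommRingCat.ofHom (algebraMap A K)) ∧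
      pT (IsLocalRing.closedPoint L) ⤳ t := by
  let j := Spec.map (CommRingCat.ofHom (algebraMap A K))
  let k₀ : ↥(Spec (CommRingCat.of K)) := IsLocalRing.closedPoint K
  obtain ⟨t', ht', htj⟩ := Flat.generalizingMap τ (a := t) (b := j k₀)
    (by rw [ht]; exact IsLocalRing.specializes_closedPoint (R := A) (j k₀))
  obtain ⟨ξ, hξ₁, -⟩ := Scheme.Pullback.exists_preimage_pullback (f := τ) (g := j) t' k₀ htj
  let L := AlgebraicClosure ((pullback τ j).residueField ξ)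
  obtain ⟨pL, hpL⟩ : ∃ pL : Spec (CommRingCat.of L) ⟶ pullback τ j, pL (IsLocalRing.closedPoint L) = ξ :=
    ⟨Spec.map (CommRingCat.ofHom (algebraMap ((pullback τ j).residueField ξ) L)) ≫
      (pullback τ j).fromSpecResidueField ξ,
      by rw [Scheme.Hom.comp_apply, Scheme.fromSpecResidueField_apply]⟩
  obtain ⟨ψ, hψ⟩ : ∃ ψ : CommRingCat.of K ⟶ CommRingCat.of L, pL ≫ pullback.snd τ j = Spec.map ψ :=
    ⟨Spec.preimage _, (Spec.map_preimage _).symm⟩
  refine ⟨L, inferInstance, inferInstance, pL ≫ pullback.fst τ j, ψ.hom, ?_, ?_⟩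
  · rw [Category.assoc, pullback.condition, reassoc_of% hψ]
    rfl
  · rw [Scheme.Hom.comp_apply, hpL, hξ₁]
    exact ht'

/-- Points over algebraically closed fields lift to etale charts. -/
theorem exists_chart_lift_isAlgClosed {X : Sp S} {L : Type u} [Field L] [IsAlgClosed L]
    (s : Spec (CommRingCat.of L) ⟶ S) {W : Over S} (a : (yon S).obj W ⟶ X) (ha : RepWith @Etale a)
    (u : (yon S).obj (Over.mk s) ⟶ X) (w : ↥W.left)
    (hw : Points.ofPt a w = Points.ofPt u (IsLocalRing.closedPoint L)) :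
    ∃ m : Over.mk s ⟶ W, (yon S).map m ≫ a = u := by
  obtain ⟨R, p, q, sq⟩ := exists_isPullback_of_representable ha.1 u
  obtain ⟨p, rfl⟩ := (yon S).map_surjective p
  haveI : Etale q.left := ha.2 _ _ _ sq
  obtain ⟨r, -, -⟩ := (ofPt_eq_ofPt_iff sq w (IsLocalRing.closedPoint L)).1 hw
  obtain ⟨L', _, ψ, pr, hfin, hpr, -⟩ := exists_finite_separable_point (K := L) q.left r
  have hb : Function.Bijective ψ := by
    letI := ψ.toAlgebra
    haveI : Module.Finite L L' := hfin.1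
    exact IsAlgClosed.algebraMap_bijective_of_isIntegral (k := L) (K := L')
  let ψi := RingEquiv.ofBijective ψ hb
  obtain ⟨pr', hpr'⟩ : ∃ pr' : Spec (CommRingCat.of L) ⟶ R.left, pr' ≫ q.left = 𝟙 _ :=
    ⟨Spec.map (CommRingCat.ofHom ψi.symm.toRingHom) ≫ pr, by
      rw [Category.assoc, hpr, ← Spec.map_comp, ← Spec.map_id]
      exact congrArg Spec.map (CommRingCat.hom_ext (RingHom.ext fun x => ψi.symm_apply_apply x))⟩
  let σ : Over.mk s ⟶ R := Over.homMk pr' (by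
    rw [← Over.w q, ← Category.assoc, hpr']
    exact Category.id_comp _)
  refine ⟨σ ≫ p, ?_⟩
  rw [Functor.map_comp, Category.assoc, sq.w, ← Category.assoc, ← Functor.map_comp,
    show σ ≫ q = 𝟙 _ from Over.OverMorphism.ext hpr', CategoryTheory.Functor.map_id, Category.id_comp]

variable {U X Y : Sp S} {f : X ⟶ Y} {h : U ⟶ X}

section Chart

variable {R : CommRingCat.{u}} {str : Spec R ⟶ S} {rb : (yon S).obj (Over.mk str) ⟶ Y} {P : Sp S} {fstP : P ⟶ X}
  {sndP : P ⟶ (yon S).obj (Over.mk str)} {W : Over S} [IsAffine W.left] {a : (yon S).obj W ⟶ P}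
  {cW : W ⟶ Over.mk str} {K₀ : Type u} [Field K₀] {sk : Spec (CommRingCat.of K₀) ⟶ S}
  {qP : (yon S).obj (Over.mk sk) ⟶ P} {qk : Over.mk sk ⟶ Over.mk str} {Z : Over S} [IsAffine Z.left] {zW : Z ⟶ W}
  {zk : Z ⟶ Over.mk sk} {aE : CommRingCat.of K₀ ⟶ Γ(Z.left, ⊤)} {γD : Γ(W.left, ⊤) ⟶ Γ(Z.left, ⊤)}

/-- An integral map of the fibre algebra gives a lift over the valuation ring. -/
theorem exists_integral_lift (sqP : IsPullback fstP sndP f rb) (hcW : a ≫ sndP = (yon S).map cW)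
    (hqk : qP ≫ sndP = (yon S).map qk) (hw : (yon S).map zW ≫ a = (yon S).map zk ≫ qP)
    (haE : Z.left.isoSpec.inv ≫ zk.left = Spec.map aE)
    (hγD : Z.left.isoSpec.inv ≫ zW.left ≫ W.left.isoSpec.hom = Spec.map γD) {L : Type u} [Field L]
    (B : ValuationSubring L) {sB : Spec (CommRingCat.of B) ⟶ S} {sL : Spec (CommRingCat.of L) ⟶ S}
    (jB : Over.mk sL ⟶ Over.mk sB) (hjB : jB.left = Spec.map (CommRingCat.ofHom (algebraMap B L)))
    (gB : Over.mk sB ⟶ Over.mk str) (i₀ : K₀ →+* L) (jk : Over.mk sL ⟶ Over.mk sk)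
    (hjk : jk.left = Spec.map (CommRingCat.ofHom i₀)) (hcomp : jk ≫ qk = jB ≫ gB) (χ : Γ(Z.left, ⊤) →+* L)
    (hχa : χ.comp aE.hom = i₀) (hχ : ∀ d, χ (γD.hom d) ∈ B) :
    ∃ l : (yon S).obj (Over.mk sB) ⟶ X,
      (yon S).map jB ≫ l = (yon S).map jk ≫ qP ≫ fstP ∧ l ≫ f = (yon S).map gB ≫ rb := by
  let pz : Spec (CommRingCat.of L) ⟶ Z.left := Spec.map (CommRingCat.ofHom χ) ≫ Z.left.isoSpec.inv
  have hpz : pz ≫ zk.left = jk.left := by
    simp only [pz, Category.assoc]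
    rw [haE, hjk, ← Spec.map_comp]
    exact congrArg Spec.map (CommRingCat.hom_ext hχa)
  let zL : Over.mk sL ⟶ Z := Over.homMk pz (by
    rw [← Over.w zk, ← Over.w jk, ← hpz, Category.assoc]
    rfl)
  have hzk : zL ≫ zk = jk := Over.OverMorphism.ext hpz
  let σW : Spec (CommRingCat.of B) ⟶ W.left :=
    Spec.map (CommRingCat.ofHom ((χ.comp γD.hom).codRestrict B.toSubring hχ)) ≫ W.left.isoSpec.inv
  have hσWgen : jB.left ≫ σW = pz ≫ zW.left := by
    rw [← cancel_mono W.left.isoSpec.hom, hjB]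
    simp only [σW, pz, Category.assoc, Iso.inv_hom_id, Category.comp_id]
    rw [hγD, ← Spec.map_comp, ← Spec.map_comp]
    rfl
  have hzc : zW ≫ cW = zk ≫ qk := (yon S).map_injective (by
    rw [Functor.map_comp, Functor.map_comp, ← hcW, ← hqk, reassoc_of% hw])
  have hσWc : σW ≫ cW.left = gB.left := by
    obtain ⟨ρ', hρ'⟩ : ∃ ρ' : R ⟶ CommRingCat.of B, σW ≫ cW.left = Spec.map ρ' :=
      ⟨Spec.preimage _, (Spec.map_preimage _).symm⟩
    obtain ⟨ρ, hρ⟩ : ∃ ρ : R ⟶ CommRingCat.of B, gB.left = Spec.map ρ :=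
      ⟨Spec.preimage _, (Spec.map_preimage _).symm⟩
    have h1 : (zL ≫ zW ≫ cW).left = (jB ≫ gB).left := by
      rw [hzc, reassoc_of% hzk, hcomp]
    change pz ≫ zW.left ≫ cW.left = jB.left ≫ gB.left at h1
    rw [← Category.assoc, ← hσWgen, Category.assoc, hρ', hρ, hjB, ← Spec.map_comp, ← Spec.map_comp] at h1
    rw [hρ', hρ]
    refine congrArg Spec.map (CommRingCat.hom_ext (RingHom.ext fun r => Subtype.ext ?_))
    exact congrArg (fun g => g.hom r) (Spec.map_injective h1)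
  let sW : Over.mk sB ⟶ W := Over.homMk σW (by
    rw [← Over.w cW, ← Category.assoc, hσWc]
    exact Over.w gB)
  have hjW : jB ≫ sW = zL ≫ zW := Over.OverMorphism.ext hσWgen
  refine ⟨(yon S).map sW ≫ a ≫ fstP, ?_, ?_⟩
  · rw [← Functor.map_comp_assoc, hjW, Functor.map_comp, Category.assoc, reassoc_of% hw, ← hzk, Functor.map_comp,
      Category.assoc]
  · rw [Category.assoc, Category.assoc, sqP.w, reassoc_of% hcW, ← Functor.map_comp_assoc,
      show sW ≫ cW = gB from Over.OverMorphism.ext hσWc]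

/-- A lift of a square at a point of the chart gives an integral map into a dominating valuation ring. -/
theorem exists_integral_of_hasLiftExt (sqP : IsPullback fstP sndP f rb) (ae : RepWith @Etale a)
    (as : RepWith @Surjective a) (hqk : qP ≫ sndP = (yon S).map qk)
    (sqZ : IsPullback ((yon S).map zW) ((yon S).map zk) a qP)
    (haE : Z.left.isoSpec.inv ≫ zk.left = Spec.map aE)
    (hγD : Z.left.isoSpec.inv ≫ zW.left ≫ W.left.isoSpec.hom = Spec.map γD)
    (v : ValSq f) (hv : v.HasLiftExt) (sV : v.ptA ⟶ Over.mk str) (hbot : v.bot = (yon S).map sV ≫ rb)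
    (k₁ : v.ptK ⟶ Over.mk sk) (b₀ : K₀ →+* v.K) (hk₁ : k₁.left = Spec.map (CommRingCat.ofHom b₀))
    (htop : (yon S).map k₁ ≫ qP ≫ fstP = v.top) (hcomp : k₁ ≫ qk = v.j ≫ sV) :
    ∃ (L₂ : Type u) (_ : Field L₂) (V₂ : ValuationSubring L₂) (c : v.K →+* L₂) (ψE : Γ(Z.left, ⊤) →+* L₂),
      (∀ y ∈ IsLocalRing.maximalIdeal v.A, ∃ z ∈ IsLocalRing.maximalIdeal V₂, (z : L₂) = c (algebraMap v.A v.K y)) ∧
      ψE.comp aE.hom = c.comp b₀ ∧ ∀ d, ψE (γD.hom d) ∈ V₂ := by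
  obtain ⟨e, l, hlt, hlb⟩ := hv
  haveI := e.isLocalHom
  let φ₀ : e.ptA' ⟶ v.ptA := Over.homMk (Spec.map (CommRingCat.ofHom e.φ)) rfl
  let j₁ : e.ptK' ⟶ e.ptA' := Over.homMk (Spec.map (CommRingCat.ofHom (algebraMap e.A' e.K'))) rfl
  have hc' : Spec.map (CommRingCat.ofHom e.ψ) ≫ Spec.map (CommRingCat.ofHom (algebraMap v.A v.K)) =
      Spec.map (CommRingCat.ofHom (algebraMap e.A' e.K')) ≫ Spec.map (CommRingCat.ofHom e.φ) := by
    rw [← Spec.map_comp, ← Spec.map_comp, ← CommRingCat.ofHom_comp, ← CommRingCat.ofHom_comp, e.comm]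
  let ψ₀ : e.ptK' ⟶ v.ptK := Over.homMk (Spec.map (CommRingCat.ofHom e.ψ)) ((reassoc_of% hc') v.str)
  have hψj : ψ₀ ≫ v.j = j₁ ≫ φ₀ := Over.OverMorphism.ext hc'
  let m : (yon S).obj e.ptA' ⟶ P := sqP.lift l ((yon S).map (φ₀ ≫ sV)) (by
    rw [hlb, hbot, Functor.map_comp, Category.assoc])
  have hmk : (yon S).map j₁ ≫ m = (yon S).map (ψ₀ ≫ k₁) ≫ qP := by
    apply sqP.hom_ext
    · rw [Category.assoc, sqP.lift_fst, Category.assoc, Functor.map_comp, Category.assoc, htop]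
      exact hlt
    · rw [Category.assoc, sqP.lift_snd, Category.assoc, hqk, ← Functor.map_comp, ← Functor.map_comp]
      refine congrArg _ ?_
      rw [Category.assoc, hcomp, reassoc_of% hψj]
  obtain ⟨Z', p', q', sq'⟩ := exists_isPullback_of_representable ae.1 m
  obtain ⟨p', rfl⟩ := (yon S).map_surjective p'
  haveI : Etale q'.left := ae.2 _ _ _ sq'
  haveI : Surjective q'.left := as.2 _ _ _ sq'
  obtain ⟨z₀, hz₀⟩ := q'.left.surjective (IsLocalRing.closedPoint e.A')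
  obtain ⟨L₂, _, _, pZ, ψ₂, hpZ, hsp₂⟩ := exists_generalization_point (K := e.K') q'.left z₀ hz₀
  obtain ⟨V₂, σ₂, hσ₂, hgen₂⟩ := exists_valuation_point pZ z₀ hsp₂
  obtain ⟨η, hη⟩ : ∃ η : CommRingCat.of e.A' ⟶ CommRingCat.of V₂, σ₂ ≫ q'.left = Spec.map η :=
    ⟨Spec.preimage _, (Spec.map_preimage _).symm⟩
  have hηl : IsLocalHom η.hom := ((IsLocalRing.local_hom_TFAE η.hom).out 0 4).2
    (congrArg PrimeSpectrum.asIdeal
      (show Spec.map η (IsLocalRing.closedPoint V₂) = IsLocalRing.closedPoint e.A' by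
        rw [← hη, Scheme.Hom.comp_apply, hσ₂, hz₀]))
  have hηψ : ∀ x, ((η.hom x : V₂) : L₂) = ψ₂ (algebraMap e.A' e.K' x) := by
    have h1 : Spec.map (CommRingCat.ofHom (algebraMap V₂ L₂)) ≫ Spec.map η =
        Spec.map (CommRingCat.ofHom ψ₂) ≫ Spec.map (CommRingCat.ofHom (algebraMap e.A' e.K')) := by
      rw [← hη, reassoc_of% hgen₂, hpZ]
    rw [← Spec.map_comp, ← Spec.map_comp] at h1
    exact fun x => congrArg (fun g => g.hom x) (Spec.map_injective h1)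
  obtain ⟨δ, hδ⟩ : ∃ δ : Γ(W.left, ⊤) ⟶ CommRingCat.of V₂, σ₂ ≫ p'.left ≫ W.left.isoSpec.hom = Spec.map δ :=
    ⟨Spec.preimage _, (Spec.map_preimage _).symm⟩
  let kL : Over S := Over.mk (pZ ≫ Z'.hom)
  let kZ : kL ⟶ Z' := Over.homMk pZ rfl
  let kK : kL ⟶ e.ptK' := Over.homMk (Spec.map (CommRingCat.ofHom ψ₂)) (by
    rw [← Over.w j₁]
    change Spec.map _ ≫ Spec.map _ ≫ e.ptA'.hom = pZ ≫ Z'.hom
    rw [← reassoc_of% hpZ, Over.w])
  have hkZ : kZ ≫ q' = kK ≫ j₁ := Over.OverMorphism.ext hpZ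
  obtain ⟨zL, hzL⟩ := (yon S).map_surjective (sqZ.lift ((yon S).map (kZ ≫ p'))
    ((yon S).map (kK ≫ ψ₀ ≫ k₁)) (by
      rw [Functor.map_comp, Category.assoc, sq'.w, ← Category.assoc, ← Functor.map_comp, hkZ, Functor.map_comp,
        Category.assoc, hmk, ← Functor.map_comp_assoc]))
  have hzW : zL ≫ zW = kZ ≫ p' := (yon S).map_injective (by
    rw [Functor.map_comp, hzL]; exact sqZ.lift_fst _ _ _)
  have hzk : zL ≫ zk = kK ≫ ψ₀ ≫ k₁ := (yon S).map_injective (by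
    rw [Functor.map_comp, hzL]; exact sqZ.lift_snd _ _ _)
  obtain ⟨ψE, hψE⟩ : ∃ ψE : Γ(Z.left, ⊤) ⟶ CommRingCat.of L₂, zL.left ≫ Z.left.isoSpec.hom = Spec.map ψE :=
    ⟨Spec.preimage _, (Spec.map_preimage _).symm⟩
  refine ⟨L₂, inferInstance, V₂, ψ₂.comp e.ψ, ψE.hom, fun y hy => ?_, ?_, fun d => ?_⟩
  · haveI := hηl
    refine ⟨η.hom (e.φ y), (IsLocalRing.mem_maximalIdeal _).2 fun hu =>
      (IsLocalRing.mem_maximalIdeal _).1 hy (isUnit_of_map_unit e.φ y (isUnit_of_map_unit η.hom _ hu)), ?_⟩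
    rw [hηψ, RingHom.comp_apply]
    exact congrArg ψ₂ (RingHom.congr_fun e.comm y)
  · have h1 : Spec.map ψE ≫ Spec.map aE = Spec.map (CommRingCat.ofHom ψ₂) ≫
        Spec.map (CommRingCat.ofHom e.ψ) ≫ Spec.map (CommRingCat.ofHom b₀) := by
      rw [← hψE, ← haE, Category.assoc, Iso.hom_inv_id_assoc, ← Over.comp_left, hzk, ← hk₁]
      rfl
    rw [← Spec.map_comp, ← Spec.map_comp, ← Spec.map_comp] at h1
    exact congrArg CommRingCat.Hom.hom (Spec.map_injective h1)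
  · have h1 : Spec.map ψE ≫ Spec.map γD = Spec.map (CommRingCat.ofHom (algebraMap V₂ L₂)) ≫ Spec.map δ := by
      rw [← hψE, ← hγD, ← hδ, Category.assoc, Iso.hom_inv_id_assoc, ← Category.assoc, ← Over.comp_left, hzW,
        reassoc_of% hgen₂]
      exact Category.assoc _ _ _
    rw [← Spec.map_comp, ← Spec.map_comp] at h1
    rw [show ψE.hom (γD.hom d) = ((δ.hom d : V₂) : L₂) from congrArg (fun g => g.hom d) (Spec.map_injective h1)]
    exact (δ.hom d).2

end Chart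

/-- Over a locally noetherian base, refined existence over discrete valuation rings gives refined existence. -/
theorem hasLiftExt_of_refined_dvr (hU : IsAlgSpace U) (hX : IsAlgSpace X) (hY : IsAlgSpace Y)
    (hN : IsLocNoethSp Y) (hf : LocP @LocallyOfFiniteType f) (hq : IsQuasiCompactMor f)
    (hqs : IsQuasiSeparatedMor f) (hh : LocP @LocallyOfFiniteType h)
    (hv : ∀ v : ValSq f, IsDiscreteValuationRing v.A → (∃ t, t ≫ h = v.top) → v.HasLiftExt)
    (v : ValSq f) (ht : ∃ t, t ≫ h = v.top) : v.HasLiftExt := by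
  obtain ⟨t, ht⟩ := ht
  -- a chart of the base
  obtain ⟨ι, R, str, rb, hR, hrb, hcov⟩ := exists_noeth_charts hN
  obtain ⟨i, v₀, hv₀⟩ := hcov (Points.ofPt v.bot (IsLocalRing.closedPoint v.A))
  haveI := hR i
  obtain ⟨T', τ, γ, sqT⟩ := exists_isPullback_yon hY.diag v.bot (rb i)
  haveI : Etale τ.left := (hrb i).2 _ _ _ sqT.flip
  obtain ⟨t', ht', -⟩ := (ofPt_eq_ofPt_iff sqT (IsLocalRing.closedPoint v.A) v₀).1 hv₀.symm
  obtain ⟨L, _, _, pT, ψ, hpT, hspec⟩ := exists_generalization_point (K := v.K) τ.left t' ht'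
  obtain ⟨B, σ, hσ, hgen⟩ := exists_valuation_point pT t' hspec
  obtain ⟨φ, hφ⟩ : ∃ φ : CommRingCat.of v.A ⟶ CommRingCat.of B, σ ≫ τ.left = Spec.map φ :=
    ⟨Spec.preimage _, (Spec.map_preimage _).symm⟩
  have hl : IsLocalHom φ.hom := ((IsLocalRing.local_hom_TFAE φ.hom).out 0 4).2
    (congrArg PrimeSpectrum.asIdeal
      (show Spec.map φ (IsLocalRing.closedPoint B) = IsLocalRing.closedPoint v.A by
        rw [← hφ, Scheme.Hom.comp_apply, hσ, ht']))
  let e : v.DomExt :=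
    { A' := B, K' := L, φ := φ.hom, ψ := ψ, isLocalHom := hl
      comm := by
        have h1 : Spec.map (CommRingCat.ofHom (algebraMap B L)) ≫ Spec.map φ =
            Spec.map (CommRingCat.ofHom ψ) ≫ Spec.map (CommRingCat.ofHom (algebraMap v.A v.K)) := by
          rw [← hφ, reassoc_of% hgen, hpT]
        rw [← Spec.map_comp, ← Spec.map_comp] at h1
        exact congrArg CommRingCat.Hom.hom (Spec.map_injective h1) }
  let φ₀ : e.ptA' ⟶ v.ptA := Over.homMk (Spec.map φ) rfl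
  let sT : e.ptA' ⟶ T' := Over.homMk σ (by
    change σ ≫ T'.hom = Spec.map φ ≫ v.str
    rw [← hφ, Category.assoc, show τ.left ≫ v.str = T'.hom from Over.w τ])
  have hsT : sT ≫ τ = φ₀ := Over.OverMorphism.ext hφ
  let j' : e.ptK' ⟶ e.ptA' := Over.homMk (Spec.map (CommRingCat.ofHom (algebraMap e.A' e.K'))) rfl
  let ψ₀ : e.ptK' ⟶ v.ptK := Over.homMk (Spec.map (CommRingCat.ofHom e.ψ)) (by
    change Spec.map _ ≫ Spec.map _ ≫ _ = Spec.map _ ≫ Spec.map _ ≫ _
    rw [← Spec.map_comp_assoc, ← Spec.map_comp_assoc, ← CommRingCat.ofHom_comp,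
      ← CommRingCat.ofHom_comp, e.comm])
  have hψj : ψ₀ ≫ v.j = j' ≫ φ₀ := Over.OverMorphism.ext (by
    change Spec.map _ ≫ Spec.map _ = Spec.map _ ≫ Spec.map (CommRingCat.ofHom e.φ)
    rw [← Spec.map_comp, ← Spec.map_comp, ← CommRingCat.ofHom_comp, ← CommRingCat.ofHom_comp, e.comm])
  obtain ⟨ρ, hρ⟩ : ∃ ρ : R i ⟶ CommRingCat.of B, σ ≫ γ.left = Spec.map ρ :=
    ⟨Spec.preimage _, (Spec.map_preimage _).symm⟩
  let gB : e.ptA' ⟶ Over.mk (str i) := sT ≫ γ
  have hbot : (yon S).map gB ≫ rb i = (yon S).map φ₀ ≫ v.bot := by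
    rw [← hsT, Functor.map_comp, Functor.map_comp, Category.assoc, Category.assoc, sqT.w]
  -- the point of the source over the chart
  have sqQ := IsPullback.of_hasPullback (h ≫ f) (rb i)
  have hQ : IsAlgSpace (pullback (h ≫ f) (rb i)) := isAlgSpace_pullback' hY hU (IsAlgSpace.yon_obj _) _ _
  let uQ : (yon S).obj e.ptK' ⟶ pullback (h ≫ f) (rb i) :=
    sqQ.lift ((yon S).map ψ₀ ≫ t) ((yon S).map (j' ≫ gB)) (by
      rw [Category.assoc, reassoc_of% ht, v.comm, Functor.map_comp, Category.assoc, hbot, ← Functor.map_comp_assoc,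
        ← Functor.map_comp_assoc, hψj])
  obtain ⟨ι₁, W₁s, ωs, hW₁a, hωs, hωcov, -⟩ := exists_affine_charts hQ
  obtain ⟨i₁, w₁, hw₁⟩ := hωcov (Points.ofPt uQ (IsLocalRing.closedPoint L))
  haveI := hW₁a i₁
  obtain ⟨m₁, hm₁⟩ := exists_chart_lift_isAlgClosed _ (ωs i₁) (hωs i₁) uQ w₁ hw₁
  obtain ⟨c₁, hc₁⟩ := (yon S).map_surjective (ωs i₁ ≫ pullback.snd (h ≫ f) (rb i))
  have hm₁c : m₁ ≫ c₁ = j' ≫ gB := (yon S).map_injective (by
    rw [Functor.map_comp, hc₁, reassoc_of% hm₁, sqQ.lift_snd])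
  haveI hc₁lft : LocallyOfFiniteType c₁.left :=
    EtLocal.locP_of_isPullback EtLocal.lft hU hY (IsAlgSpace.yon_obj _) sqQ
      (EtLocal.locP_comp EtLocal.lft hU hX hY hh hf) (ωs i₁) (𝟙 _) c₁ (hωs i₁) (repWith_id _ _)
      (by rw [hc₁, Category.comp_id])
  let D₁ := Γ((W₁s i₁).left, ⊤)
  obtain ⟨φ₁, hφ₁⟩ : ∃ φ₁ : R i ⟶ D₁, (W₁s i₁).left.isoSpec.inv ≫ c₁.left = Spec.map φ₁ :=
    ⟨Spec.preimage _, (Spec.map_preimage _).symm⟩
  have hD₁ : φ₁.hom.FiniteType := by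
    have : LocallyOfFiniteType (Spec.map φ₁) := by rw [← hφ₁]; infer_instance
    exact (HasRingHomProperty.Spec_iff (P := @LocallyOfFiniteType)).1 this
  obtain ⟨χ₁, hχ₁⟩ : ∃ χ₁ : D₁ ⟶ CommRingCat.of L, m₁.left ≫ (W₁s i₁).left.isoSpec.hom = Spec.map χ₁ :=
    ⟨Spec.preimage _, (Spec.map_preimage _).symm⟩
  have hχφ : ∀ r, χ₁.hom (φ₁.hom r) = ((ρ.hom r : B) : L) := by
    have h1 : Spec.map χ₁ ≫ Spec.map φ₁ = Spec.map (CommRingCat.ofHom B.subtype) ≫ Spec.map ρ := by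
      rw [← hχ₁, ← hφ₁, Category.assoc, Iso.hom_inv_id_assoc, ← Over.comp_left, hm₁c, ← hρ]
      rfl
    rw [← Spec.map_comp, ← Spec.map_comp] at h1
    exact fun r => congrArg (fun g => g.hom r) (Spec.map_injective h1)
  -- the finitely generated field and the point over it
  let K₀ : Subfield L := Subfield.closure (Set.range χ₁.hom)
  let χ₀ : D₁ ⟶ CommRingCat.of K₀ := CommRingCat.ofHom
    (χ₁.hom.codRestrict K₀ fun x => Subfield.subset_closure ⟨x, rfl⟩)
  let k₀ : Over S := Over.mk (Spec.map χ₀ ≫ (W₁s i₁).left.isoSpec.inv ≫ (W₁s i₁).hom)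
  let m₀ : k₀ ⟶ W₁s i₁ := Over.homMk (Spec.map χ₀ ≫ (W₁s i₁).left.isoSpec.inv) (Category.assoc _ _ _)
  have sqP := IsPullback.of_hasPullback f (rb i)
  have hP : IsAlgSpace (pullback f (rb i)) := isAlgSpace_pullback' hY hX (IsAlgSpace.yon_obj _) _ _
  let qP : (yon S).obj k₀ ⟶ pullback f (rb i) :=
    sqP.lift (((yon S).map m₀ ≫ ωs i₁) ≫ pullback.fst _ _ ≫ h) ((yon S).map (m₀ ≫ c₁)) (by
      rw [Functor.map_comp, hc₁]
      simp only [Category.assoc, sqQ.w])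
  haveI : CompactSpace ↥(Over.mk (str i)).left := inferInstanceAs (CompactSpace ↥(Spec (R i)))
  obtain ⟨W, a, hW, ae, as⟩ := exists_affine_surjective_chart hP
    (hq (IsAlgSpace.yon_obj _) (isQuasiCompactSp_yon _) (rb i) _ _ sqP)
  haveI := hW
  obtain ⟨cW, hcW⟩ := (yon S).map_surjective (a ≫ pullback.snd f (rb i))
  have hπ : RepWith @QuasiCompact (pullback.diagonal (pullback.snd f (rb i))) :=
    repWith_of_isPullback (isPullback_diagonal_of_isPullback sqP) hqs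
  obtain ⟨Z, c, hcqc, sqZ⟩ := exists_prod_diagonal hπ a qP hcW.symm (sqP.lift_snd _ _ _)
  let zW := c ≫ pullback.fst cW (m₀ ≫ c₁)
  let zk := c ≫ pullback.snd cW (m₀ ≫ c₁)
  haveI : QuasiCompact c.left := hcqc
  haveI : Etale zk.left := ae.2 _ _ _ sqZ
  haveI : Surjective zk.left := as.2 _ _ _ sqZ
  haveI : IsAffine k₀.left := inferInstanceAs (IsAffine (Spec (CommRingCat.of K₀)))
  haveI : IsAffine (Over.mk (str i)).left := inferInstanceAs (IsAffine (Spec (R i)))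
  haveI : IsAffineHom (pullback.snd cW (m₀ ≫ c₁)).left := MorphismProperty.of_isPullback
    (isPullback_left (IsPullback.of_hasPullback cW (m₀ ≫ c₁))) (isAffineHom_of_isAffine cW.left)
  haveI : QuasiCompact zk.left := inferInstanceAs (QuasiCompact (c.left ≫ (pullback.snd cW (m₀ ≫ c₁)).left))
  haveI : LocallyQuasiFinite zk.left := locallyQuasiFinite_of_unramified _
  haveI : IsLocallyArtinian k₀.left := inferInstanceAs (IsLocallyArtinian (Spec (CommRingCat.of K₀)))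
  haveI : IsFinite zk.left := IsFinite.of_locallyQuasiFinite _
  haveI : IsAffine Z.left := isAffine_of_isAffineHom zk.left
  let E := Γ(Z.left, ⊤)
  obtain ⟨aE, haE⟩ : ∃ aE : CommRingCat.of K₀ ⟶ E, Z.left.isoSpec.inv ≫ zk.left = Spec.map aE :=
    ⟨Spec.preimage _, (Spec.map_preimage _).symm⟩
  obtain ⟨γD, hγD⟩ : ∃ γD : Γ(W.left, ⊤) ⟶ E,
      Z.left.isoSpec.inv ≫ zW.left ≫ W.left.isoSpec.hom = Spec.map γD :=
    ⟨Spec.preimage _, (Spec.map_preimage _).symm⟩
  letI : Algebra K₀ E := aE.hom.toAlgebra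
  haveI : Module.Finite K₀ E := by
    have : IsFinite (Spec.map aE) := by rw [← haE]; infer_instance
    exact (IsFinite.SpecMap_iff aE).1 this
  haveI : Nontrivial E := by
    obtain ⟨z, -⟩ := zk.left.surjective (IsLocalRing.closedPoint K₀)
    exact PrimeSpectrum.nonempty_iff_nontrivial.1 ⟨Z.left.isoSpec.hom z⟩
  let jk : e.ptK' ⟶ k₀ := Over.homMk (Spec.map (CommRingCat.ofHom K₀.subtype)) (by
    rw [← Over.w m₁]
    change Spec.map _ ≫ Spec.map χ₀ ≫ _ = _
    rw [← Spec.map_comp_assoc, ← Category.assoc]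
    refine congrArg (· ≫ _) ?_
    rw [← cancel_mono (W₁s i₁).left.isoSpec.hom, hχ₁, Category.assoc, Iso.inv_hom_id, Category.comp_id]
    rfl)
  have hjm : jk ≫ m₀ = m₁ := Over.OverMorphism.ext (by
    rw [← cancel_mono (W₁s i₁).left.isoSpec.hom, hχ₁]
    change (Spec.map _ ≫ Spec.map χ₀ ≫ _) ≫ _ = _
    rw [Category.assoc, Category.assoc, Iso.inv_hom_id, Category.comp_id, ← Spec.map_comp]
    rfl)
  have hqk : qP ≫ pullback.snd f (rb i) = (yon S).map (m₀ ≫ c₁) := sqP.lift_snd _ _ _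
  obtain ⟨g₁, hg₁⟩ : ∃ g₁ : Finset D₁, letI := φ₁.hom.toAlgebra; Algebra.adjoin (R i) (g₁ : Set D₁) = ⊤ :=
    letI := φ₁.hom.toAlgebra
    (hD₁ : Algebra.FiniteType (R i) D₁).out
  classical
  let ρL : R i →+* L := B.subtype.comp ρ.hom
  have hg : ∀ x : K₀, K₀.subtype x ∈ Subfield.closure (Set.range ρL ∪ ((g₁.image χ₁.hom : Finset L) : Set L)) := by
    intro x
    refine Subfield.closure_le.2 ?_ x.2
    rintro _ ⟨y, rfl⟩
    letI := φ₁.hom.toAlgebra
    have hy : y ∈ Algebra.adjoin (R i) (g₁ : Set D₁) := hg₁ ▸ Algebra.mem_top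
    induction hy using Algebra.adjoin_induction with
    | mem z hz => exact Subfield.subset_closure (Or.inr (Finset.mem_image_of_mem _ hz))
    | algebraMap r => exact Subfield.subset_closure (Or.inl ⟨r, (hχφ r).symm⟩)
    | add y z _ _ hy hz => rw [map_add]; exact add_mem hy hz
    | mul y z _ _ hy hz => rw [map_mul]; exact mul_mem hy hz
  rcases ValDVR.exists_integral_or_dvr B ρL (fun r => (ρ.hom r).2) K₀.subtype _ hg γD.hom with
    ⟨χ, hχa, hχ⟩ | ⟨K₁, V, b₀, ρV, hV, hρV, hb₀, hbad⟩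
  · obtain ⟨l, hl₁, hl₂⟩ := exists_integral_lift sqP hcW.symm hqk sqZ.w haE hγD B (sB := e.ptA'.hom)
      (sL := e.ptK'.hom) j' rfl gB K₀.subtype jk rfl (by rw [← Category.assoc, hjm, hm₁c]) χ hχa hχ
    refine ⟨e, l, hl₁.trans ?_, hl₂.trans hbot⟩
    show _ = (yon S).map ψ₀ ≫ v.top
    rw [sqP.lift_fst, ← Category.assoc, ← Category.assoc ((yon S).map jk), ← Functor.map_comp, hjm, hm₁,
      ← Category.assoc uQ, sqQ.lift_fst, Category.assoc, ht]
  exfalso
  haveI := hV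
  let str₁ : Spec (CommRingCat.of V) ⟶ S := Spec.map (CommRingCat.ofHom ρV) ≫ str i
  let sV : Over.mk str₁ ⟶ Over.mk (str i) := Over.homMk (Spec.map (CommRingCat.ofHom ρV)) rfl
  have hb : Spec.map (CommRingCat.ofHom b₀) ≫ m₀.left ≫ c₁.left =
      Spec.map (CommRingCat.ofHom (algebraMap V K₁)) ≫ Spec.map (CommRingCat.ofHom ρV) := by
    simp only [m₀, Over.homMk_left, Category.assoc]
    rw [hφ₁, ← Spec.map_comp, ← Spec.map_comp, ← Spec.map_comp]
    refine congrArg Spec.map (CommRingCat.hom_ext (RingHom.ext fun r => Subtype.ext ?_))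
    exact (RingHom.congr_fun hb₀ _).trans ((hχφ r).trans (hρV r).symm)
  let k₁ : Over.mk (Spec.map (CommRingCat.ofHom (algebraMap V K₁)) ≫ str₁) ⟶ k₀ :=
    Over.homMk (Spec.map (CommRingCat.ofHom b₀)) (by
      rw [← Over.w (m₀ ≫ c₁)]
      change Spec.map _ ≫ (m₀.left ≫ c₁.left) ≫ str i = Spec.map _ ≫ Spec.map _ ≫ str i
      rw [← Category.assoc, hb, Category.assoc])
  have hk₁ : k₁ ≫ m₀ ≫ c₁ =
      (Over.homMk (Spec.map (CommRingCat.ofHom (algebraMap V K₁))) rfl : _ ⟶ Over.mk str₁) ≫ sV :=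
    Over.OverMorphism.ext hb
  let v₁ : ValSq f :=
    { A := V, K := K₁, str := str₁
      top := (yon S).map k₁ ≫ qP ≫ pullback.fst f (rb i)
      bot := (yon S).map sV ≫ rb i
      comm := by
        rw [Category.assoc, Category.assoc, sqP.w, reassoc_of% hqk, ← Functor.map_comp_assoc, hk₁,
          Functor.map_comp, Category.assoc] }
  obtain ⟨L₂, _, V₂, c₂, ψE, h₁, h₂, h₃⟩ := exists_integral_of_hasLiftExt sqP ae as hqk sqZ haE hγD v₁
    (hv v₁ hV ⟨((yon S).map k₁ ≫ (yon S).map m₀ ≫ ωs i₁ ≫ pullback.fst (h ≫ f) (rb i)), by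
      simp only [v₁, qP, sqP.lift_fst, Category.assoc]⟩) sV rfl k₁ b₀ rfl rfl hk₁
  exact hbad L₂ V₂ c₂ ψE h₁ h₂ h₃

end GrothLib.AlgSp
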