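import Groth.Prelude.Def_AlgSpMor5
import Groth.Agent.Lib.AlgSp.PointsUniv
import Groth.Agent.Lib.AlgSp.Points
import Groth.Agent.Lib.AlgSp.Strata
import Mathlib.AlgebraicGeometry.ValuativeCriterion

/-!
# Valuative criteria for algebraic spaces

* `isUnivClosedMor_of_specializations`: quasi-compact morphisms are universally closed if specializations lift.
* `exists_valSq_of_specializes`: the valuative square of a specialization.
* `isUnivClosedMor_of_existVC`.
-/

universe u

open CategoryTheory CategoryTheory.Limits AlgebraicGeometry Topology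

namespace GrothLib.AlgSp

open _root_.AlgSp

theorem isClosed_image_of_affine {W T : Scheme.{u}} [IsAffine W] [IsAffine T] (f : W ⟶ T) {Z : Set ↥W}
    (hZ : IsClosed Z) (h : StableUnderSpecialization (f '' Z)) : IsClosed (f '' Z) := by
  obtain ⟨φ, hφ⟩ : ∃ φ : Γ(T, ⊤) ⟶ Γ(W, ⊤), Spec.map φ = W.isoSpec.inv ≫ f ≫ T.isoSpec.hom :=
    ⟨Spec.preimage _, Spec.map_preimage _⟩
  let eW := Scheme.Hom.homeomorph W.isoSpec.hom
  let eT := Scheme.Hom.homeomorph T.isoSpec.hom
  have he : ∀ w : ↥W, Spec.map φ (eW w) = eT (f w) := fun w => by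
    rw [hφ]
    show T.isoSpec.hom (f (W.isoSpec.inv (W.isoSpec.hom w))) = _
    rw [← Scheme.Hom.comp_apply W.isoSpec.hom, Iso.hom_inv_id]
    rfl
  have e : eT '' (f '' Z) = PrimeSpectrum.comap φ.hom '' (eW '' Z) := by
    rw [Set.image_image, Set.image_image]
    exact Set.image_congr' fun w => (he w).symm
  rw [← eT.isClosed_image, e]
  refine PrimeSpectrum.isClosed_image_of_stableUnderSpecialization _ _ (eW.isClosed_image.2 hZ) ?_
  rw [← e]
  intro a b hab ha
  obtain ⟨a, ha, rfl⟩ := ha
  obtain ⟨b, rfl⟩ := eT.surjective b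
  exact ⟨b, h (eT.isInducing.specializes_iff.1 hab) ha, rfl⟩

variable {S : Scheme.{u}} {X Y : Sp S} {f : X ⟶ Y}

/-- Quasi-compact morphisms along which specializations to affine test schemes lift are universally closed. -/
theorem isUnivClosedMor_of_specializations (hX : IsAlgSpace X) (hY : IsAlgSpace Y) (hq : IsQuasiCompactMor f)
    (h : ∀ (T : Over S), IsAffine T.left → ∀ (g : (yon S).obj T ⟶ Y) (P : Sp S) (fst : P ⟶ X)
      (snd : P ⟶ (yon S).obj T), IsPullback fst snd f g →
      ∀ (W : Over S) (a : (yon S).obj W ⟶ P) (c : W ⟶ T), a ≫ snd = (yon S).map c → ∀ (w : ↥W.left) (t : ↥T.left),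
        c.left w ⤳ t → ∃ z, Points.ofPt a w ⤳ z ∧ Points.map snd z = Points.schemeHomeo T t) :
    IsUnivClosedMor f := by
  refine isUnivClosedMor_of_affine fun T hT g P fst snd sq C hC => ?_
  have hP : IsAlgSpace P := isAlgSpace_pullback hY.diag hX (IsAlgSpace.yon_obj T) sq
  haveI := hT
  haveI : CompactSpace ↥T.left := inferInstance
  obtain ⟨W, a, hW, -, as⟩ := exists_affine_surjective_chart hP
    (hq (IsAlgSpace.yon_obj T) (isQuasiCompactSp_yon T) g fst snd sq)
  haveI := hW
  obtain ⟨c, hc⟩ := (yon S).map_surjective (a ≫ snd)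
  have e : ∀ w, Points.map snd (Points.ofPt a w) = Points.schemeHomeo T (c.left w) := fun w => by
    rw [Points.map_ofPt, ← hc, Points.ofPt_eq_map_ofScheme]
    exact Points.map_yon_map_apply c w
  have himg : Points.map snd '' C = Points.schemeHomeo T '' (c.left '' (Points.ofPt a ⁻¹' C)) := by
    ext y
    constructor
    · rintro ⟨z, hz, rfl⟩
      obtain ⟨w, rfl⟩ := surjective_ofPt_of_repWith as z
      exact ⟨_, ⟨w, hz, rfl⟩, (e w).symm⟩
    · rintro ⟨_, ⟨w, hw, rfl⟩, rfl⟩
      exact ⟨_, hw, e w⟩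
  rw [himg]
  refine (Points.schemeHomeo T).isClosed_image.2
    (isClosed_image_of_affine c.left (hC.preimage (Points.continuous_ofPt a)) ?_)
  rintro x t hxt ⟨w, hw, rfl⟩
  obtain ⟨z, hz₁, hz₂⟩ := h T hT g P fst snd sq W a c hc.symm w t hxt
  obtain ⟨w', rfl⟩ := surjective_ofPt_of_repWith as z
  exact ⟨w', hC.stableUnderSpecialization hz₁ hw, (Points.schemeHomeo T).injective ((e w').symm.trans hz₂)⟩

/-- A specialization over a scheme gives a valuation ring point. -/
theorem exists_valuation_point {T : Scheme.{u}} {L : Type u} [Field L] (p : Spec (CommRingCat.of L) ⟶ T) (t : ↥T)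
    (h : p (IsLocalRing.closedPoint L) ⤳ t) :
    ∃ (A : ValuationSubring L) (σ : Spec (.of A) ⟶ T), σ (IsLocalRing.closedPoint A) = t ∧
      Spec.map (CommRingCat.ofHom (algebraMap A L)) ≫ σ = p := by
  let r : T.presheaf.stalk t ⟶ CommRingCat.of L := T.presheaf.stalkSpecializes h ≫ Scheme.stalkClosedPointTo p
  obtain ⟨A, hA, hA_local⟩ := IsLocalRing.exists_factor_valuationRing r.hom
  let r' : T.presheaf.stalk t ⟶ .of A := CommRingCat.ofHom (r.hom.codRestrict _ hA)
  refine ⟨A, Spec.map r' ≫ T.fromSpecStalk t, ?_, ?_⟩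
  · rw [Scheme.Hom.comp_apply]
    have : Spec.map r' (IsLocalRing.closedPoint A) = IsLocalRing.closedPoint (T.presheaf.stalk t) :=
      IsLocalRing.comap_closedPoint (S := A) (r.hom.codRestrict A.toSubring hA)
    rw [this, T.fromSpecStalk_closedPoint]
  · conv_rhs => rw [← Scheme.Spec_stalkClosedPointTo_fromSpecStalk p,
      ← Scheme.SpecMap_stalkSpecializes_fromSpecStalk h, ← Spec.map_comp_assoc]
    rw [← Spec.map_comp_assoc]
    rfl

/-- Quasi-compact morphisms with the existence part of the valuative criterion are universally closed. -/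
theorem isUnivClosedMor_of_existVC (hX : IsAlgSpace X) (hY : IsAlgSpace Y) (hq : IsQuasiCompactMor f)
    (he : ExistVC f) : IsUnivClosedMor f := by
  refine isUnivClosedMor_of_specializations hX hY hq fun T hT g P fst snd sq W a c hac w t hwt => ?_
  obtain ⟨A, σ, hσ, hgen⟩ := exists_valuation_point (L := ↥(W.left.residueField w))
    (W.left.fromSpecResidueField w ≫ c.left) t
    (by rw [Scheme.Hom.comp_apply, Scheme.fromSpecResidueField_apply]; exact hwt)
  let str : Spec (.of A) ⟶ S := σ ≫ T.hom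
  let s : Over.mk str ⟶ T := Over.homMk σ rfl
  let ι : Over.mk (Spec.map (CommRingCat.ofHom (algebraMap A ↥(W.left.residueField w))) ≫ str) ⟶ W :=
    Over.homMk (W.left.fromSpecResidueField w) (by
      change _ ≫ W.hom = _ ≫ σ ≫ T.hom
      rw [← Category.assoc (Spec.map _), hgen, Category.assoc, Over.w])
  let v : ValSq f :=
    { A := A, K := ↥(W.left.residueField w), str := str, top := (yon S).map ι ≫ a ≫ fst
      bot := (yon S).map s ≫ g
      comm := by
        rw [Category.assoc, Category.assoc, sq.w, reassoc_of% hac, ← Functor.map_comp_assoc, ← Functor.map_comp_assoc]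
        congr 2
        exact Over.OverMorphism.ext hgen.symm }
  obtain ⟨e, l, hl₁, hl₂⟩ := he v
  haveI := e.isLocalHom
  let φ₀ : e.ptA' ⟶ v.ptA := Over.homMk (Spec.map (CommRingCat.ofHom e.φ)) rfl
  let j' : e.ptK' ⟶ e.ptA' := Over.homMk (Spec.map (CommRingCat.ofHom (algebraMap e.A' e.K'))) rfl
  let ψ₀ : e.ptK' ⟶ v.ptK := Over.homMk (Spec.map (CommRingCat.ofHom e.ψ)) (by
    change Spec.map _ ≫ Spec.map _ ≫ _ = Spec.map _ ≫ Spec.map _ ≫ _
    rw [← Spec.map_comp_assoc, ← Spec.map_comp_assoc, ← CommRingCat.ofHom_comp,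
      ← CommRingCat.ofHom_comp, e.comm])
  let m : (yon S).obj e.ptA' ⟶ P := sq.lift l ((yon S).map (φ₀ ≫ s)) (by
    rw [hl₂, Functor.map_comp, Category.assoc])
  have hm : (yon S).map j' ≫ m = (yon S).map (ψ₀ ≫ ι) ≫ a := by
    apply sq.hom_ext
    · rw [Category.assoc, sq.lift_fst, Category.assoc, Functor.map_comp, Category.assoc]
      exact hl₁
    · rw [Category.assoc, sq.lift_snd, Category.assoc, hac, ← Functor.map_comp, ← Functor.map_comp]
      apply congrArg
      apply Over.OverMorphism.ext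
      change Spec.map _ ≫ Spec.map _ ≫ σ = (Spec.map _ ≫ W.left.fromSpecResidueField w) ≫ c.left
      rw [Category.assoc, ← hgen, ← Spec.map_comp_assoc, ← Spec.map_comp_assoc, ← CommRingCat.ofHom_comp,
        ← CommRingCat.ofHom_comp]
      exact congrArg (fun r => Spec.map (CommRingCat.ofHom r) ≫ σ) e.comm
  refine ⟨Points.ofPt m (IsLocalRing.closedPoint e.A'), ?_, ?_⟩
  · let k : ↥e.ptK'.left := IsLocalRing.closedPoint e.K'
    have h1 : Points.ofPt m (j'.left k) = Points.ofPt a w := by
      rw [← ofPt_map_comp, hm, ofPt_map_comp]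
      exact congrArg (Points.ofPt a) (W.left.fromSpecResidueField_apply w _)
    rw [← h1]
    exact Specializes.map (IsLocalRing.specializes_closedPoint (R := e.A') (j'.left k)) (Points.continuous_ofPt m)
  · rw [Points.map_ofPt, sq.lift_snd, Points.ofPt_eq_map_ofScheme]
    refine (Points.map_yon_map_apply (φ₀ ≫ s) (IsLocalRing.closedPoint e.A')).trans (congrArg _ ?_)
    change σ (Spec.map (CommRingCat.ofHom e.φ) (IsLocalRing.closedPoint e.A')) = t
    rw [show Spec.map (CommRingCat.ofHom e.φ) (IsLocalRing.closedPoint e.A') = IsLocalRing.closedPoint A from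
      IsLocalRing.comap_closedPoint e.φ, hσ]

end GrothLib.AlgSp
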